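import Mathlib
import Cfsg.Agent.Helper2.S2094.DefsR

/-! # S2094 piece CONJLS (helper22): a long Weyl element acting on the short root elements -/

set_option autoImplicit false
set_option linter.unusedSectionVars false
set_option linter.unusedVariables false

namespace Cfsg.Agent.S2094P

open Matrix Cfsg.Agent.S3352P Cfsg.Agent.S3351P Cfsg.Agent.S2096P Cfsg.Agent.RGD

variable {n : ℕ} {F : Type*} [Field F] {M : Type*} [Group M] {X : J n → J n → F → M}
  {Ys : J n → F → M}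

namespace CONJLS

theorem conj_of_cm {G : Type*} [Group G] {x y c : G} (h : cm x y = c) : x * y * x⁻¹ = c * y := by
  rw [← h, cm_def]
  group

theorem conj_of_comm {G : Type*} [Group G] {x y : G} (h : x * y = y * x) : x * y * x⁻¹ = y := by
  rw [h]
  group

theorem key1 {G : Type*} [Group G] (p q z : G) (hzp : z * p = p * z)
    (h : p * q * p⁻¹ * q⁻¹ = (z * z)⁻¹) : q⁻¹ * z * p * z * q = p := by
  have h' : p * q = (z * z)⁻¹ * (q * p) := by
    rw [← h]
    group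
  have e1 : z * p * z = z * z * p := by rw [mul_assoc, ← hzp, ← mul_assoc]
  calc q⁻¹ * z * p * z * q = q⁻¹ * (z * p * z) * q := by group
    _ = q⁻¹ * (z * z * p) * q := by rw [e1]
    _ = q⁻¹ * (z * z * (p * q)) := by group
    _ = q⁻¹ * (z * z * ((z * z)⁻¹ * (q * p))) := by rw [h']
    _ = p := by group

theorem key2 {G : Type*} [Group G] (p q z : G) (hzq : z * q = q * z)
    (h : p * q * p⁻¹ * q⁻¹ = z * z) : p⁻¹ * z * q * z * p = q := by
  have h' : q * p = (z * z)⁻¹ * (p * q) := by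
    rw [← h]
    group
  have e1 : z * q * z = z * z * q := by rw [mul_assoc, ← hzq, ← mul_assoc]
  calc p⁻¹ * z * q * z * p = p⁻¹ * (z * q * z) * p := by group
    _ = p⁻¹ * (z * z * q) * p := by rw [e1]
    _ = p⁻¹ * (z * z * (q * p)) := by group
    _ = p⁻¹ * (z * z * ((z * z)⁻¹ * (p * q))) := by rw [h']
    _ = q := by group

/-- the other name of the root `ε_a + ε_b` -/
theorem X_other (hB : BRel X Ys) {a b : J n} (hab : IsRoot a b) (x : F) :
    X b (ng a) x = X a (ng b) (-x) := by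
  have hf := hB.dX.flip b (ng a) (isRoot_ng_right' hab.symm) (-x)
  rw [ng_ng, neg_neg] at hf
  exact hf.symm

/-- the flip of a long Weyl element -/
theorem wX_flip' (hB : BRel X Ys) {a b : J n} (hab : IsRoot a b) (t : F) :
    wX X a b t = wX X (ng b) (ng a) (-t) := by
  unfold wX
  have h1 := hB.dX.flip a b hab (-t)
  have h2 := hB.dX.flip b a hab.symm (-(-t)⁻¹)
  rw [neg_neg] at h1 h2
  rw [h1, h2, inv_neg]

end CONJLS

open CONJLS

theorem wX_conj_Ys_snd (hB : BRel X Ys) {a b : J n} (hab : IsRoot a b) {t : F} (ht : t ≠ 0)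
    (u : F) : wX X a b t * Ys b u * (wX X a b t)⁻¹ = Ys a (t * u) := by
  have hba : IsRoot b a := hab.symm
  have hanb : IsRoot a (ng b) := isRoot_ng_right' hab
  have hne : (ng b : J n) ≠ a := fun h => hab.2 h.symm
  -- commutations
  have hBZ : ∀ s v : F, X b a s * X a (ng b) v = X a (ng b) v * X b a s := by
    intro s v
    have h := hB.dX.orth b a hba s (-v)
    rw [X_other hB hab, neg_neg] at h
    exact h
  have hAYa : ∀ s v : F, X a b s * Ys a v = Ys a v * X a b s := fun s v =>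
    (hB.ycomm a a b hab hab.1.symm (ng_ne a).symm v s).symm
  have hBYb : ∀ s v : F, X b a s * Ys b v = Ys b v * X b a s := fun s v =>
    (hB.ycomm b b a hba hab.1 (ng_ne b).symm v s).symm
  have hZYa : ∀ v x : F, X a (ng b) v * Ys a x = Ys a x * X a (ng b) v := fun v x =>
    (hB.ycomm a a (ng b) hanb hne (ng_ne a).symm x v).symm
  -- step 1
  have h1 : X a b t * Ys b u * (X a b t)⁻¹ = Ys a (t * u) * X a (ng b) (t * u * u) * Ys b u :=
    conj_of_cm (hB.xy a b hab t u)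
  -- step 2
  have h2 : X b a (-t⁻¹) * Ys a (t * u) * (X b a (-t⁻¹))⁻¹ =
      Ys b (-u) * X a (ng b) (t * u * u) * Ys a (t * u) := by
    rw [conj_of_cm (hB.xy b a hba (-t⁻¹) (t * u)), X_other hB hab]
    have e1 : -t⁻¹ * (t * u) = -u := by field_simp
    have e2 : -(-t⁻¹ * (t * u) * (t * u)) = t * u * u := by field_simp
    rw [e2, e1]
  have h3 : X b a (-t⁻¹) * X a (ng b) (t * u * u) * (X b a (-t⁻¹))⁻¹ = X a (ng b) (t * u * u) :=
    conj_of_comm (hBZ _ _)
  have h4 : X b a (-t⁻¹) * Ys b u * (X b a (-t⁻¹))⁻¹ = Ys b u := conj_of_comm (hBYb _ _)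
  -- the product after step 2
  have h5 : Ys b (-u) * X a (ng b) (t * u * u) * Ys a (t * u) * X a (ng b) (t * u * u) * Ys b u =
      Ys a (t * u) := by
    rw [Ys_neg hB]
    apply key1 _ _ _ (hZYa _ _)
    have hyy := hB.yy a b hab (t * u) u
    rw [cm_def] at hyy
    rw [hyy, ← hB.dX.add a (ng b) hanb, WCONJ.X_inv hB.dX hanb]
    congr 1
    ring
  have h6 : X a b t * Ys a (t * u) * (X a b t)⁻¹ = Ys a (t * u) := conj_of_comm (hAYa _ _)
  have e : wX X a b t * Ys b u * (wX X a b t)⁻¹ =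
      X a b t * (X b a (-t⁻¹) * (X a b t * Ys b u * (X a b t)⁻¹) * (X b a (-t⁻¹))⁻¹) *
        (X a b t)⁻¹ := by
    unfold wX
    group
  rw [e, h1]
  have e' : X b a (-t⁻¹) * (Ys a (t * u) * X a (ng b) (t * u * u) * Ys b u) * (X b a (-t⁻¹))⁻¹ =
      (X b a (-t⁻¹) * Ys a (t * u) * (X b a (-t⁻¹))⁻¹) *
        (X b a (-t⁻¹) * X a (ng b) (t * u * u) * (X b a (-t⁻¹))⁻¹) *
        (X b a (-t⁻¹) * Ys b u * (X b a (-t⁻¹))⁻¹) := by group
  rw [e', h2, h3, h4, h5, h6]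

theorem wX_conj_Ys_fst (hB : BRel X Ys) {a b : J n} (hab : IsRoot a b) {t : F} (ht : t ≠ 0)
    (u : F) : wX X a b t * Ys a u * (wX X a b t)⁻¹ = Ys b (-(t⁻¹ * u)) := by
  have hba : IsRoot b a := hab.symm
  have hanb : IsRoot a (ng b) := isRoot_ng_right' hab
  have hne : (ng b : J n) ≠ a := fun h => hab.2 h.symm
  have hAZ : ∀ s v : F, X a b s * X a (ng b) v = X a (ng b) v * X a b s := hB.dX.orth a b hab
  have hAYa : ∀ s v : F, X a b s * Ys a v = Ys a v * X a b s := fun s v =>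
    (hB.ycomm a a b hab hab.1.symm (ng_ne a).symm v s).symm
  have hZYb : ∀ v x : F, X a (ng b) v * Ys b x = Ys b x * X a (ng b) v := fun v x =>
    (hB.ycomm b a (ng b) hanb (ng_ne b) hab.2 x v).symm
  -- step 1
  have h1 : X a b t * Ys a u * (X a b t)⁻¹ = Ys a u := conj_of_comm (hAYa _ _)
  -- step 2
  have h2 : X b a (-t⁻¹) * Ys a u * (X b a (-t⁻¹))⁻¹ =
      Ys b (-t⁻¹ * u) * X a (ng b) (t⁻¹ * u * u) * Ys a u := by
    rw [conj_of_cm (hB.xy b a hba (-t⁻¹) u), X_other hB hab]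
    have e2 : -(-t⁻¹ * u * u) = t⁻¹ * u * u := by ring
    rw [e2]
  -- step 3
  have h3 : X a b t * Ys b (-t⁻¹ * u) * (X a b t)⁻¹ =
      Ys a (-u) * X a (ng b) (t⁻¹ * u * u) * Ys b (-t⁻¹ * u) := by
    rw [conj_of_cm (hB.xy a b hab t (-t⁻¹ * u))]
    have e1 : t * (-t⁻¹ * u) = -u := by field_simp
    have e2 : t * (-t⁻¹ * u) * (-t⁻¹ * u) = t⁻¹ * u * u := by field_simp
    rw [e2, e1]
  have h4 : X a b t * X a (ng b) (t⁻¹ * u * u) * (X a b t)⁻¹ = X a (ng b) (t⁻¹ * u * u) :=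
    conj_of_comm (hAZ _ _)
  have h5 : Ys a (-u) * X a (ng b) (t⁻¹ * u * u) * Ys b (-t⁻¹ * u) * X a (ng b) (t⁻¹ * u * u) *
      Ys a u = Ys b (-t⁻¹ * u) := by
    rw [Ys_neg hB]
    apply key2 _ _ _ (hZYb _ _)
    have hyy := hB.yy a b hab u (-t⁻¹ * u)
    rw [cm_def] at hyy
    rw [hyy, ← hB.dX.add a (ng b) hanb]
    congr 1
    ring
  have e : wX X a b t * Ys a u * (wX X a b t)⁻¹ =
      X a b t * (X b a (-t⁻¹) * (X a b t * Ys a u * (X a b t)⁻¹) * (X b a (-t⁻¹))⁻¹) *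
        (X a b t)⁻¹ := by
    unfold wX
    group
  rw [e, h1, h2]
  have e' : X a b t * (Ys b (-t⁻¹ * u) * X a (ng b) (t⁻¹ * u * u) * Ys a u) * (X a b t)⁻¹ =
      (X a b t * Ys b (-t⁻¹ * u) * (X a b t)⁻¹) *
        (X a b t * X a (ng b) (t⁻¹ * u * u) * (X a b t)⁻¹) *
        (X a b t * Ys a u * (X a b t)⁻¹) := by group
  rw [e', h3, h4, h1, h5]
  congr 1
  ring

theorem wX_conj_Ys_ng_fst (hB : BRel X Ys) {a b : J n} (hab : IsRoot a b) {t : F} (ht : t ≠ 0)
    (u : F) : wX X a b t * Ys (ng a) u * (wX X a b t)⁻¹ = Ys (ng b) (-(t * u)) := by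
  rw [wX_flip' hB hab t, wX_conj_Ys_snd hB hab.flip (neg_ne_zero.mpr ht) u]
  congr 1
  ring

theorem wX_conj_Ys_ng_snd (hB : BRel X Ys) {a b : J n} (hab : IsRoot a b) {t : F} (ht : t ≠ 0)
    (u : F) : wX X a b t * Ys (ng b) u * (wX X a b t)⁻¹ = Ys (ng a) (t⁻¹ * u) := by
  rw [wX_flip' hB hab t, wX_conj_Ys_fst hB hab.flip (neg_ne_zero.mpr ht) u]
  congr 1
  rw [inv_neg]
  ring

theorem wX_conj_Ys_of_ne (hB : BRel X Ys) {a b : J n} (hab : IsRoot a b) (t : F) {c : J n}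
    (h1 : c ≠ a) (h2 : c ≠ b) (h3 : c ≠ ng a) (h4 : c ≠ ng b) (u : F) :
    wX X a b t * Ys c u * (wX X a b t)⁻¹ = Ys c u := by
  have hA : ∀ s : F, X a b s * Ys c u = Ys c u * X a b s := fun s =>
    (hB.ycomm c a b hab h2.symm (fun h => h3 (by rw [h, ng_ng])) u s).symm
  have hBc : ∀ s : F, X b a s * Ys c u = Ys c u * X b a s := fun s =>
    (hB.ycomm c b a hab.symm h1.symm (fun h => h4 (by rw [h, ng_ng])) u s).symm
  apply conj_of_comm
  unfold wX
  rw [mul_assoc, mul_assoc, hA, ← mul_assoc (X b a _), hBc, mul_assoc, ← mul_assoc (X a b t), hA]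
  group

end Cfsg.Agent.S2094P
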