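import Mathlib
import Cfsg.Agent.Helper5.S2536Basic

/-! S2536, piece SETSTABCARD: the order of the setwise stabiliser of a predicate. -/

set_option autoImplicit false

namespace Cfsg.Agent.S2536P

open Equiv Nat

universe u

/-- SETSTABCARD -/
theorem card_setStab {α : Type u} [Finite α] (p : α → Prop) :
    Nat.card (setStab p) = (Nat.card {x // p x})! * (Nat.card {x // ¬ p x})! := by
  have h1 : ((setStab p : Subgroup (Perm α)) : Set (Perm α)) = {g : Perm α | p ∘ g = p} := by
    ext g
    show (∀ x, p (g x) ↔ p x) ↔ p ∘ g = p
    constructor
    · intro h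
      funext x
      exact propext (h x)
    · intro h x
      have := congrFun h x
      simp only [Function.comp_apply] at this
      rw [this]
  have h2 := DomMulAct.stabilizer_ncard (α := α) p
  have hT : (True : Prop) ∉ ({False} : Finset Prop) := by
    simp
  rw [Fintype.univ_Prop, Finset.prod_insert hT, Finset.prod_singleton] at h2
  have e : Nat.card (setStab p) = Set.ncard ((setStab p : Subgroup (Perm α)) : Set (Perm α)) :=
    Nat.card_coe_set_eq _
  have e1 : Set.ncard {a | p a = True} = Nat.card {x // p x} := by
    rw [← Nat.card_coe_set_eq]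
    exact Nat.card_congr (Equiv.subtypeEquivRight (fun a => by simp))
  have e2 : Set.ncard {a | p a = False} = Nat.card {x // ¬ p x} := by
    rw [← Nat.card_coe_set_eq]
    exact Nat.card_congr (Equiv.subtypeEquivRight (fun a => by simp))
  rw [e, h1, h2, e1, e2]

end Cfsg.Agent.S2536P
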