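import Mathlib
import Cfsg.Agent.Helper12.S2999Basic
import Cfsg.Agent.Helper20.S2999OPP

/-! Board `s2999pieces`, row G2P (blueprint §5, (G2′)): the core argument, with the statement of row STRONG as a hypothesis. -/

set_option autoImplicit false

namespace Cfsg.Agent.S2999P

open Cfsg.Agent.S2789P
open scoped commutatorElement

variable {G : Type*} [Group G] [Finite G] {p : ℕ} [Fact p.Prime] {V P Mg Tg R A : Subgroup G}

/-- (G2′) from the statement of STRONG (for the one pair `g, h` and the one element `c`). -/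
theorem G2P_aux_core (S : Setup p V P Mg Tg R A) {g c : G} (hg : g ∈ P) (hgM : g ∉ Mg) (hc : c ∈ cjs g A)
    (hcM : c ∈ Mg) {h : G} (hh : h ∈ P)
    (hstrong : g⁻¹ * h ∉ Mg → c ∉ cjs h Mg → ∀ v ∈ V1 V P A, ⁅c, v⁆ ∈ fixV V P → v ∈ fixV V (cjs g A)) :
    c ∈ cjs h Mg := by
  by_contra hcm
  -- `g⁻¹h ∉ M`
  have hgh : g⁻¹ * h ∉ Mg := by
    intro hk
    apply hcm
    have e : cjs h Mg = cjs g Mg := by
      have h1 : cjs g (cjs (g⁻¹ * h) Mg) = cjs h Mg := by
        rw [cj_mul]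
        have e : g * (g⁻¹ * h) = h := by group
        rw [e]
      rw [← h1, S.cjM_of_mem hk]
    rw [e]
    exact cj_mono S.hAM hc
  have hst := hstrong hgh hcm
  -- `c` is a `p`-element of `M`
  have hcp : ∃ k : ℕ, c ^ p ^ k = 1 := by
    refine ⟨1, ?_⟩
    rw [pow_one]
    rw [cj_mem] at hc
    have h1 := S.hA.2 _ hc
    have h2 : (g⁻¹ * c * g) ^ p = g⁻¹ * c ^ p * g := by
      have := conj_pow (a := g⁻¹) (b := c) (i := p)
      simpa using this
    rw [h2] at h1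
    have h3 : c ^ p = g * (g⁻¹ * c ^ p * g) * g⁻¹ := by group
    rw [h3, h1]
    group
  obtain ⟨m, hm, hcmT⟩ := S.hsyl c hcM hcp
  have hmP : m ∈ P := S.hMP hm
  -- `m⁻¹g ∉ M`
  have hmg : m⁻¹ * g ∉ Mg := by
    intro hk
    apply hgM
    have : g = m * (m⁻¹ * g) := by group
    rw [this]
    exact Mg.mul_mem hm hk
  have hopp := (OPP S hmP hg hmg).2
  -- `ᵐZ ≤ V₀`
  have hZ : fixV V (cjs m Tg) ≤ fixV V P := by
    intro z hz
    rw [← hopp]
    have hzA : z ∈ fixV V (cjs m A) := fix_anti (cj_mono S.hAT) hz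
    refine ⟨hzA, ?_⟩
    apply hst z (fix_le_V1 hmP hzA)
    have hcz : c * z = z * c := (mem_fix.mp hz).2 c hcmT
    have : ⁅c, z⁆ = 1 := by
      rw [commutatorElement_def, hcz]
      group
    rw [this]
    exact Subgroup.one_mem _
  -- `Z ≤ V₀`
  apply S.hii
  rw [S.cjfix Tg hmP] at hZ
  have h5 := cj_mono (g := m⁻¹) hZ
  rwa [cj_inv_cj, S.cjV0 (P.inv_mem hmP)] at h5

end Cfsg.Agent.S2999P
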