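import Mathlib
import Cfsg.Agent.Helper22.S2999G2Pcore
import Cfsg.Agent.Helper23.S2999STRONG

/-! Board `s2999pieces`, row G2P (blueprint §5, (G2′)). -/

set_option autoImplicit false

namespace Cfsg.Agent.S2999P

open Cfsg.Agent.S2789P
open scoped commutatorElement

variable {G : Type*} [Group G] [Finite G] {p : ℕ} [Fact p.Prime] {V P Mg Tg R A : Subgroup G}

/-- G2P (M): blueprint §5 (G2′). -/
theorem G2P (S : Setup p V P Mg Tg R A) {g c : G} (hg : g ∈ P) (hgM : g ∉ Mg) (hc : c ∈ cjs g A) (hcM : c ∈ Mg) :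
    ∀ h ∈ P, c ∈ cjs h Mg := by
  intro h hh
  exact G2P_aux_core S hg hgM hc hcM hh
    (fun hgh hcm v hv hcv => STRONG S hg hh hgh hc hcm hv hcv)

end Cfsg.Agent.S2999P
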