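import Mathlib
import Cfsg.Agent.Helper28.S3000Defs

/-! s3000pieces Z1B (core): a member `D ≠ A` of `𝒜` commuting with `A` and normalised by the torus `H` centralises `E`.
The coprime decomposition `V = [V,H] C_V(H)` (piece COPR) is an explicit hypothesis. -/

set_option autoImplicit false

namespace Cfsg.Agent.S3000P

open Cfsg.Agent.S2789P Cfsg.Agent.S2999P
open scoped commutatorElement

variable {G : Type*} [Group G] [Finite G] {p : ℕ} [Fact p.Prime] {V P : Subgroup G} {T : Sylow p ↥P} {M : Subgroup ↥P} {q : ℕ}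
variable {A E H : Subgroup G} {w : G}

theorem Z1B_aux_Vcomm (Hy : Hyp p V P T M) : ∀ x ∈ V, ∀ y ∈ V, x * y = y * x := by
  intro x hx y hy
  have := Hy.hV.1.is_comm.comm ⟨x, hx⟩ ⟨y, hy⟩
  exact congrArg Subtype.val this

theorem Z1B_aux_mem_sup {V E F : Subgroup G} (hV : ∀ x ∈ V, ∀ y ∈ V, x * y = y * x) (hE : E ≤ V) (hF : F ≤ V) {x : G}
    (hx : x ∈ E ⊔ F) : ∃ y ∈ E, ∃ z ∈ F, y * z = x := by
  have hc' : ∀ (a : E) (b : F), Commute (E.subtype a) (F.subtype b) := fun a b => hV _ (hE a.2) _ (hF b.2)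
  have h1 := MonoidHom.noncommCoprod_range E.subtype F.subtype hc'
  rw [Subgroup.range_subtype, Subgroup.range_subtype] at h1
  rw [← h1] at hx
  obtain ⟨⟨a, b⟩, rfl⟩ := hx
  exact ⟨a, a.2, b, b.2, by simp [MonoidHom.noncommCoprod_apply]⟩

theorem Z1B_aux_conj_mem {V : Subgroup G} {h v : G} (hh : h ∈ Subgroup.normalizer (V : Set G)) (hv : v ∈ V) :
    h * v * h⁻¹ ∈ V := by
  have := (cj_mem_conj (g := h) (E := V)).mpr hv
  rwa [cj_norm hh] at this

/-- `v ↦ ⁅v, h⁆` is multiplicative on the abelian group `V` -/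
theorem Z1B_aux_comm_mul {V : Subgroup G} (hV : ∀ x ∈ V, ∀ y ∈ V, x * y = y * x) {x y h : G} (hx : x ∈ V) (hy : y ∈ V)
    (hh : h ∈ Subgroup.normalizer (V : Set G)) : ⁅x * y, h⁆ = ⁅x, h⁆ * ⁅y, h⁆ := by
  have hy' : ⁅y, h⁆ ∈ V := by
    rw [commutatorElement_def]
    have h1 : h * y⁻¹ * h⁻¹ ∈ V := Z1B_aux_conj_mem hh (V.inv_mem hy)
    have : y * h * y⁻¹ * h⁻¹ = y * (h * y⁻¹ * h⁻¹) := by group
    rw [this]
    exact V.mul_mem hy h1
  have hx' : ⁅x, h⁆ ∈ V := by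
    rw [commutatorElement_def]
    have h1 : h * x⁻¹ * h⁻¹ ∈ V := Z1B_aux_conj_mem hh (V.inv_mem hx)
    have : x * h * x⁻¹ * h⁻¹ = x * (h * x⁻¹ * h⁻¹) := by group
    rw [this]
    exact V.mul_mem hx h1
  have e1 : ⁅x * y, h⁆ = x * ⁅y, h⁆ * x⁻¹ * ⁅x, h⁆ := by
    simp only [commutatorElement_def]; group
  rw [e1, hV x hx _ hy', mul_assoc ⁅y, h⁆ x x⁻¹, mul_inv_cancel, mul_one]
  exact hV _ hy' _ hx'

theorem Z1B_aux_fixH (K : Tool p V P q A E H w) : fixV V H = fixV V E := by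
  apply le_antisymm
  · intro v hv
    obtain ⟨h₁, hh₁, h₂, -, hne, -, -⟩ := K.hsum
    have hv' := mem_fix.mp hv
    refine K.hfixH h₁ hh₁ hne v hv'.1 ?_
    rw [hv'.2 h₁ hh₁]; group
  · exact fix_anti K.hHE

/-- Z1B, core: the coprime decomposition of `V` under `H` is a hypothesis. -/
theorem Z1B_core (Hy : Hyp p V P T M) (K : Tool p V P q A E H w) {D : Subgroup G} (hD : InA p V P q D) (hDA : D ≠ A)
    (hc : ∀ a ∈ A, ∀ d ∈ D, a * d = d * a) (hH : ∀ h ∈ H, cjs h D = D)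
    (hcopr : ⁅V, H⁆ ⊔ fixV V H = V) : ∀ d ∈ D, ∀ e ∈ E, d * e = e * d := by
  have hAP := K.hA.le
  have hAS := K.hA.so
  have hDP := hD.le
  have hDS := hD.so
  have hEN : E ≤ Subgroup.normalizer (V : Set G) := K.hEP.trans Hy.hPV
  have hVc := Z1B_aux_Vcomm Hy
  have hwN : w ∈ Subgroup.normalizer (V : Set G) := hEN K.hwE
  obtain ⟨hsup, hRA, hRD⟩ := F6_cor Hy hAP hAS hDP hDS (Ne.symm hDA) hc
  have hRAV : ⁅V, A⁆ ≤ V := hRA.trans (fix_le V D)
  -- Step 1: `[V,H] ≤ U_D`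
  have hVH : ⁅V, H⁆ ≤ fixV V D := by
    rw [Subgroup.commutator_le]
    intro v hv h hh
    have hhN : h ∈ Subgroup.normalizer (V : Set G) := hEN (K.hHE hh)
    rw [← hsup] at hv
    obtain ⟨u, hu, u', hu', rfl⟩ := Z1B_aux_mem_sup hVc (fix_le V A) (fix_le V D) hv
    have huV : u ∈ V := fix_le V A hu
    rw [K.hUA] at hu
    obtain ⟨r, hr, c, hcC, rfl⟩ := Z1B_aux_mem_sup hVc hRAV (fix_le V E) hu
    rw [Z1B_aux_comm_mul hVc huV (fix_le V D hu') hhN,
      Z1B_aux_comm_mul hVc (hRAV hr) (fix_le V E hcC) hhN]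
    refine (fixV V D).mul_mem ((fixV V D).mul_mem ?_ ?_) ?_
    · -- `⁅r,h⁆ ∈ R_A ≤ U_D`
      apply hRA
      rw [commutatorElement_def]
      have h1 : h * r⁻¹ * h⁻¹ ∈ ⁅V, A⁆ := by
        have := (cj_mem_conj (g := h) (E := ⁅V, A⁆)).mpr (Subgroup.inv_mem _ hr)
        rwa [cj_comm, cj_norm hhN, K.hHA h hh] at this
      have : r * h * r⁻¹ * h⁻¹ = r * (h * r⁻¹ * h⁻¹) := by group
      rw [this]
      exact Subgroup.mul_mem _ hr h1
    · -- `⁅c,h⁆ = 1`
      have h1 := (mem_fix.mp hcC).2 h (K.hHE hh)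
      have : ⁅c, h⁆ = 1 := by
        rw [commutatorElement_def]
        calc c * h * c⁻¹ * h⁻¹ = (c * h) * c⁻¹ * h⁻¹ := by group
          _ = (h * c) * c⁻¹ * h⁻¹ := by rw [h1]
          _ = 1 := by group
      rw [this]; exact Subgroup.one_mem _
    · -- `⁅u',h⁆ ∈ U_D`
      rw [commutatorElement_def]
      have h1 : h * u'⁻¹ * h⁻¹ ∈ fixV V D := by
        have := (cj_mem_conj (g := h) (E := fixV V D)).mpr (Subgroup.inv_mem _ hu')
        rwa [← cj_fix D hhN, hH h hh] at this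
      have : u' * h * u'⁻¹ * h⁻¹ = u' * (h * u'⁻¹ * h⁻¹) := by group
      rw [this]
      exact Subgroup.mul_mem _ hu' h1
  -- Step 2: `w` normalises `U_D`
  have hwVH : cjs w ⁅V, H⁆ = ⁅V, H⁆ := by rw [cj_comm, cj_norm hwN, K.hwH]
  have hwU : cjs w (fixV V D) = fixV V D := by
    have hle : cjs w (fixV V D) ≤ fixV V D := by
      intro x hx
      rw [cj_mem] at hx
      -- `u := w⁻¹ x w ∈ U_D`
      have huV : w⁻¹ * x * w ∈ V := fix_le V D hx
      rw [← hcopr, Z1B_aux_fixH K] at huV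
      obtain ⟨y, hy, c, hcC, hyc⟩ := Z1B_aux_mem_sup hVc
        ((Subgroup.commutator_le.mpr (fun v hv h hh => by
          rw [commutatorElement_def]
          have h1 : h * v⁻¹ * h⁻¹ ∈ V := Z1B_aux_conj_mem (hEN (K.hHE hh)) (V.inv_mem hv)
          have : v * h * v⁻¹ * h⁻¹ = v * (h * v⁻¹ * h⁻¹) := by group
          rw [this]; exact V.mul_mem hv h1)) : ⁅V, H⁆ ≤ V) (fix_le V E) huV
      -- `c = y⁻¹ u ∈ U_D`
      have hcD : c ∈ fixV V D := by
        have : c = y⁻¹ * (w⁻¹ * x * w) := by rw [← hyc]; group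
        rw [this]
        exact Subgroup.mul_mem _ (Subgroup.inv_mem _ (hVH hy)) hx
      have hwc : w * c * w⁻¹ = c := by
        have := (mem_fix.mp hcC).2 w K.hwE
        rw [this]; group
      have hwy : w * y * w⁻¹ ∈ fixV V D := by
        apply hVH
        have := (cj_mem_conj (g := w) (E := ⁅V, H⁆)).mpr hy
        rwa [hwVH] at this
      have hx' : x = (w * y * w⁻¹) * (w * c * w⁻¹) := by
        have : x = w * (w⁻¹ * x * w) * w⁻¹ := by group
        rw [this, ← hyc]; group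
      rw [hx', hwc]
      exact Subgroup.mul_mem _ hwy hcD
    exact Subgroup.eq_of_le_of_card_ge hle (by rw [cj_card])
  -- Step 3: `w` normalises `D`
  have hwD : cjs w D = D := F3_norm Hy hDP hDS (K.hEP K.hwE) hwU
  -- Step 4: `R_D ≤ C`
  have hRDC : ⁅V, D⁆ ≤ fixV V E := by
    have h1 : cjs w ⁅V, D⁆ = ⁅V, D⁆ := by rw [cj_comm, cj_norm hwN, hwD]
    have h2 : ⁅V, D⁆ ≤ fixV V (cjs w A) := by
      rw [cj_fix A hwN, ← h1]
      exact cj_mono hRD
    exact (le_inf hRD h2).trans (K.hmeet w K.hwE K.hwA)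
  -- Step 5: `D` commutes with `ʷA`
  have hwAE : cjs w A ≤ E := cj_le_of_mem K.hwE K.hAE
  have hcomm2 : ∀ a ∈ D, ∀ d ∈ cjs w A, a * d = d * a := by
    apply NC_comm Hy hDP hDS (hwAE.trans K.hEP) (hAS.conj hwN)
    · rw [cj_card, K.hA.card, hD.card]
    · exact hRDC.trans (fix_anti hwAE)
  -- conclusion
  intro d hd e he
  have hle : A ⊔ cjs w A ≤ Subgroup.centralizer ({d} : Set G) := by
    apply sup_le
    · intro a ha
      rw [Subgroup.mem_centralizer_iff]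
      intro x hx
      rw [Set.mem_singleton_iff] at hx
      subst hx
      exact (hc a ha x hd).symm
    · intro a ha
      rw [Subgroup.mem_centralizer_iff]
      intro x hx
      rw [Set.mem_singleton_iff] at hx
      subst hx
      exact hcomm2 x hd a ha
  rw [K.hgen w K.hwE K.hwA] at hle
  have := hle he
  rw [Subgroup.mem_centralizer_iff] at this
  exact this d rfl

end Cfsg.Agent.S3000P
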