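import Mathlib
import Cfsg.Agent.Helper22.S3000Z1Bcore
import Cfsg.Agent.Helper19.S3000COPR

/-! s3000pieces Z1B: wrapper of `Z1B_core` over the landed piece COPR. -/

set_option autoImplicit false

namespace Cfsg.Agent.S3000P

open Cfsg.Agent.S2789P Cfsg.Agent.S2999P
open scoped commutatorElement

variable {G : Type*} [Group G] [Finite G] {p : ℕ} [Fact p.Prime] {V P : Subgroup G} {T : Sylow p ↥P} {M : Subgroup ↥P} {q : ℕ}
variable {A E H : Subgroup G} {w : G}

/-- Z1B (M/L) -/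
theorem Z1B (Hy : Hyp p V P T M) (K : Tool p V P q A E H w) {D : Subgroup G} (hD : InA p V P q D) (hDA : D ≠ A)
    (hc : ∀ a ∈ A, ∀ d ∈ D, a * d = d * a) (hH : ∀ h ∈ H, cjs h D = D) : ∀ d ∈ D, ∀ e ∈ E, d * e = e * d := by
  have hEN : E ≤ Subgroup.normalizer (V : Set G) := K.hEP.trans Hy.hPV
  have hcop : (Nat.card ↥H).Coprime (Nat.card ↥V) := by
    obtain ⟨n, hn⟩ := (F2_aux_isPGroup Hy.hV).exists_card_eq
    rw [hn]
    exact Nat.Coprime.pow_right n K.hHp
  exact Z1B_core Hy K hD hDA hc hH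
    (COPR (Z1B_aux_Vcomm Hy) (fun h hh => cj_norm (hEN (K.hHE hh))) hcop).1

end Cfsg.Agent.S3000P
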