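import Mathlib
import Cfsg.Agent.Helper28.S3000Defs

/-! s3000pieces JSPLIT: `J = A ⊔ J₂` (lattice). -/

set_option autoImplicit false

namespace Cfsg.Agent.S3000P

open Cfsg.Agent.S2789P Cfsg.Agent.S2999P
open scoped commutatorElement

variable {G : Type*} [Group G] [Finite G] {p : ℕ} [Fact p.Prime] {V P : Subgroup G} {T : Sylow p ↥P} {M : Subgroup ↥P} {q : ℕ}

/-- JSPLIT (S) -/
theorem JSPLIT {A : Subgroup G} (hA : InA p V P q A) (hAT : A ≤ TT T) :
    JOff p V (TT T) q = A ⊔ JJ2 p V (TT T) q A := by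
  have hmem : A ∈ AqIn p V (TT T) q := ⟨hAT, hA.so, hA.card⟩
  unfold JOff JJ2
  apply le_antisymm
  · apply sSup_le
    intro D hD
    by_cases h : D = A
    · rw [h]; exact le_sup_left
    · exact le_sup_of_le_right (le_sSup ⟨hD, h⟩)
  · apply sup_le (le_sSup hmem)
    apply sSup_le
    rintro D ⟨hD, -⟩
    exact le_sSup hD

end Cfsg.Agent.S3000P
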