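import Mathlib
import Cfsg.Agent.Helper22.S3000Z1Bcore
import Cfsg.Agent.Helper19.S3000BASIC

/-! s3000pieces U (core): uniqueness `E = E'` of the package over `A` based at `M`.  The facts coming from the pieces
SAMEPT, ZPT, PT3, TKD3 (`Tool.Rc`), C0 and Z1 are explicit hypotheses (for an arbitrary `J₂`, `z₀`). -/

set_option autoImplicit false

namespace Cfsg.Agent.S3000P

open Cfsg.Agent.S2789P Cfsg.Agent.S2999P
open scoped commutatorElement

variable {G : Type*} [Group G] [Finite G] {p : ℕ} [Fact p.Prime] {V P : Subgroup G} {T : Sylow p ↥P} {M : Subgroup ↥P} {q : ℕ}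
variable {A E H : Subgroup G} {w : G} {E' H' : Subgroup G} {w' : G}

/-- the pointed-vector groups of two representatives of the same point coincide -/
theorem U_aux_Zpt_eq {P Mg J₂ V : Subgroup G} {z₀ e e' : G} (h : e⁻¹ * e' ∈ Mg) :
    Zpt P Mg J₂ V z₀ e = Zpt P Mg J₂ V z₀ e' := by
  unfold Zpt
  congr 1
  ext v
  constructor
  · rintro ⟨g, hg, hv, hvJ, hgM⟩
    refine ⟨g, hg, hv, hvJ, ?_⟩
    have : g⁻¹ * e' = (g⁻¹ * e) * (e⁻¹ * e') := by group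
    rw [this]; exact Mg.mul_mem hgM h
  · rintro ⟨g, hg, hv, hvJ, hgM⟩
    refine ⟨g, hg, hv, hvJ, ?_⟩
    have : g⁻¹ * e = (g⁻¹ * e') * (e⁻¹ * e')⁻¹ := by group
    rw [this]; exact Mg.mul_mem hgM (Mg.inv_mem h)

/-- a subgroup of `C_V(E)` is fixed under conjugation by `e ∈ E` -/
theorem U_aux_cj_fix_le {V E X : Subgroup G} {e : G} (he : e ∈ E) (hX : X ≤ fixV V E) : cjs e X ≤ X := by
  intro x hx
  rw [cj_mem] at hx
  have h1 := (mem_fix.mp (hX hx)).2 e he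
  have h2 : e * (e⁻¹ * x * e) * e⁻¹ = e⁻¹ * x * e := by
    rw [h1]; group
  have h3 : e * (e⁻¹ * x * e) * e⁻¹ = x := by group
  have h4 : x = e⁻¹ * x * e := h3.symm.trans h2
  rw [h4]; exact hx

/-- Dedekind inside the abelian group `V` -/
theorem U_aux_modular {V X Y Z : Subgroup G} (hV : ∀ x ∈ V, ∀ y ∈ V, x * y = y * x) (hXV : X ≤ V) (hZV : Z ≤ V)
    (hXY : X ≤ Y) (hY : Y ≤ X ⊔ Z) : Y ≤ X ⊔ (Y ⊓ Z) := by
  intro y hy
  obtain ⟨x, hx, z, hz, rfl⟩ := Z1B_aux_mem_sup hV hXV hZV (hY hy)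
  refine Subgroup.mul_mem_sup hx ⟨?_, hz⟩
  have : z = x⁻¹ * (x * z) := by group
  rw [this]
  exact Y.mul_mem (Y.inv_mem (hXY hx)) hy

/-- U, core. -/
theorem U_core (Hy : Hyp p V P T M) (K : Tool p V P q A E H w)
    (K' : Tool p V P q A E' H' w') (hB : Based (MM M) A E) (hB' : Based (MM M) A E') {J₂ : Subgroup G} {z₀ : G}
    (hsame : ∃ e ∈ E, e⁻¹ * w' ∈ MM M)
    (hZE : ∀ e ∈ E, Zpt P (MM M) J₂ V z₀ e ≤ fixV V (cjs e A))
    (hZw1 : Zpt P (MM M) J₂ V z₀ w' = cjs w' (Zpt P (MM M) J₂ V z₀ 1))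
    (hRZ' : ⁅fixV V A, H'⁆ ≤ Zpt P (MM M) J₂ V z₀ 1)
    (hRc1 : ⁅fixV V A, H'⁆ ⊔ fixV V E' = fixV V A) (hRc3 : ⁅fixV V A, H'⁆ ≤ ⁅V, A⁆)
    (hC0 : ⁅V, A⁆ ⊓ fixV V E = ⁅V, A⁆ ⊓ fixV V E')
    (hZ1 : ∀ D : Subgroup G, InA p V P q D → D ≠ A → (∀ a ∈ A, ∀ d ∈ D, a * d = d * a) →
      ∀ d ∈ D, ∀ e ∈ E, d * e = e * d) : E = E' := by
  have hVc := Z1B_aux_Vcomm Hy
  have hAP := K.hA.le
  have hAS := K.hA.so
  obtain ⟨e, he, hew⟩ := hsame
  have heP : e ∈ P := K.hEP he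
  have hwP : w' ∈ P := K'.hEP K'.hwE
  have heN : e ∈ Subgroup.normalizer (V : Set G) := Hy.hPV heP
  have hwN : w' ∈ Subgroup.normalizer (V : Set G) := Hy.hPV hwP
  have heA : cjs e A ≠ A := by
    intro h
    have h1 : e ∈ MM M := hB.hN e he h
    have h2 : w' ∈ MM M := by
      have : w' = e * (e⁻¹ * w') := by group
      rw [this]; exact (MM M).mul_mem h1 hew
    apply hB'.hEM
    rw [← K'.hgen w' K'.hwE K'.hwA]
    exact sup_le hB'.hAM (cj_le_of_mem h2 hB'.hAM)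
  have hDE : cjs e A ≤ E := cj_le_of_mem he K.hAE
  have hD : InA p V P q (cjs e A) := InA.conj Hy K.hA heP
  have hD' : InA p V P q (cjs w' A) := InA.conj Hy K.hA hwP
  -- the two pointed-vector groups
  have hZeq := U_aux_Zpt_eq (P := P) (Mg := MM M) (J₂ := J₂) (V := V) (z₀ := z₀) hew
  have hZe2 := hZE e he
  -- `[V, ʷ'A] ≤ C_V(ᵉA)`
  have hR' : ⁅V, cjs w' A⁆ ≤ fixV V (cjs e A) := by
    have h1 : ⁅V, cjs w' A⁆ = cjs w' ⁅V, A⁆ := by rw [cj_comm, cj_norm hwN]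
    have hRAU : ⁅V, A⁆ ≤ fixV V A := F3_quad Hy hAP hAS
    have h2 : ⁅V, A⁆ ≤ ⁅fixV V A, H'⁆ ⊔ (⁅V, A⁆ ⊓ fixV V E') :=
      U_aux_modular hVc (hRc3.trans (hRAU.trans (fix_le V A))) (fix_le V E') hRc3 (by rw [hRc1]; exact hRAU)
    rw [h1]
    refine (cj_mono h2).trans ?_
    rw [cj_sup]
    apply sup_le
    · calc cjs w' ⁅fixV V A, H'⁆ ≤ cjs w' (Zpt P (MM M) (J₂) V z₀ 1) := cj_mono hRZ'
        _ = Zpt P (MM M) (J₂) V z₀ w' := hZw1.symm
        _ = Zpt P (MM M) (J₂) V z₀ e := hZeq.symm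
        _ ≤ fixV V (cjs e A) := hZe2
    · refine (U_aux_cj_fix_le K'.hwE inf_le_right).trans ?_
      rw [← hC0]
      exact inf_le_right.trans (fix_anti hDE)
  have hcomm : ∀ a ∈ cjs w' A, ∀ d ∈ cjs e A, a * d = d * a := by
    apply NC_comm Hy hD'.le hD'.so hD.le hD.so
    · rw [hD.card, hD'.card]
    · exact hR'
  by_cases hDD : cjs w' A = cjs e A
  · rw [← K.hgen e he heA, ← K'.hgen w' K'.hwE K'.hwA, hDD]
  · exfalso
    -- conjugate back by `e⁻¹` and apply Z1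
    have heiP : e⁻¹ ∈ P := P.inv_mem heP
    have hD₁ : InA p V P q (cjs e⁻¹ (cjs w' A)) := InA.conj Hy hD' heiP
    have hD₁A : cjs e⁻¹ (cjs w' A) ≠ A := by
      intro h
      apply hDD
      have h5 : cjs e (cjs e⁻¹ (cjs w' A)) = cjs e A := by rw [h]
      rwa [cj_cj_inv] at h5
    have hc₁ : ∀ a ∈ A, ∀ d ∈ cjs e⁻¹ (cjs w' A), a * d = d * a := by
      intro a ha d hd
      rw [cj_mem, inv_inv] at hd
      have h1 := hcomm _ hd _ ((cj_mem_conj (g := e) (E := A)).mpr ha)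
      have h2 : e * (d * a) * e⁻¹ = e * (a * d) * e⁻¹ := by
        calc e * (d * a) * e⁻¹ = (e * d * e⁻¹) * (e * a * e⁻¹) := by group
          _ = (e * a * e⁻¹) * (e * d * e⁻¹) := h1
          _ = e * (a * d) * e⁻¹ := by group
      have h3 := mul_left_cancel (mul_right_cancel h2)
      exact h3.symm
    have hz1 := hZ1 _ hD₁ hD₁A hc₁
    -- `ʷ'A` commutes with `A`
    have hcA : ∀ a ∈ A, ∀ d ∈ cjs w' A, a * d = d * a := by
      intro a ha d hd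
      have hd1 : e⁻¹ * d * e ∈ cjs e⁻¹ (cjs w' A) := by
        have := (cj_mem_conj (g := e⁻¹) (E := cjs w' A)).mpr hd
        rwa [inv_inv] at this
      have ha1 : e⁻¹ * a * e ∈ E := E.mul_mem (E.mul_mem (E.inv_mem he) (K.hAE ha)) he
      have h1 := hz1 _ hd1 _ ha1
      have h2 : e⁻¹ * (d * a) * e = e⁻¹ * (a * d) * e := by
        calc e⁻¹ * (d * a) * e = (e⁻¹ * d * e) * (e⁻¹ * a * e) := by group
          _ = (e⁻¹ * a * e) * (e⁻¹ * d * e) := h1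
          _ = e⁻¹ * (a * d) * e := by group
      have h3 := mul_left_cancel (mul_right_cancel h2)
      exact h3.symm
    -- contradiction: `A` acts trivially on `V / C_V(E')`
    obtain ⟨-, hRA, -⟩ := F6_cor Hy hAP hAS hD'.le hD'.so (Ne.symm K'.hwA) hcA
    have hRC : ⁅V, A⁆ ≤ fixV V E' :=
      (le_inf (F3_quad Hy hAP hAS) hRA).trans (K'.hmeet w' K'.hwE K'.hwA)
    apply hAS.ne
    rw [eq_bot_iff]
    intro a ha
    rw [Subgroup.mem_bot]
    apply K'.hker a (K'.hAE ha)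
    intro v hv
    apply hRC
    rw [Subgroup.commutator_comm]
    have : a * v * a⁻¹ * v⁻¹ = ⁅a, v⁆ := by rw [commutatorElement_def]
    rw [this]
    exact Subgroup.commutator_mem_commutator ha hv

end Cfsg.Agent.S3000P
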