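import Mathlib
import Cfsg.Agent.Helper22.S3000Ucore
import Cfsg.Agent.Helper9.S3000PT1
import Cfsg.Agent.Helper18.S3000ZC
import Cfsg.Agent.Helper28.S3000ZPT
import Cfsg.Agent.Helper1.S3000PT3
import Cfsg.Agent.Helper14.S3000TKD3
import Cfsg.Agent.Helper15.S3000C0odd
import Cfsg.Agent.Helper15.S3000C0twoCore
import Cfsg.Agent.Helper2.S3000Z1

/-! s3000pieces U: wrapper of `U_core` over the landed pieces PT1, SAMEPT, ZCEQ, ZPT, PT3, TKD3, C0odd, C0two (core), Z1. -/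

set_option autoImplicit false

namespace Cfsg.Agent.S3000P

open Cfsg.Agent.S2789P Cfsg.Agent.S2999P
open scoped commutatorElement

variable {G : Type*} [Group G] [Finite G] {p : ℕ} [Fact p.Prime] {V P : Subgroup G} {T : Sylow p ↥P} {M : Subgroup ↥P} {q : ℕ}
variable {A E H : Subgroup G} {w : G} {E' H' : Subgroup G} {w' : G}

/-- `p = 2`: one inclusion of C0two, from helper15's core, PT3 and ZCEQ -/
theorem U_aux_C0two_le (Hy : Hyp p V P T M) (hq : MinQ p V P q) (hq2 : 2 < q) (K : Tool p V P q A E H w)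
    (K' : Tool p V P q A E' H' w') (hB : Based (MM M) A E) (hB' : Based (MM M) A E') (hAT : A ≤ TT T) (hp : p = 2)
    {z₀ : G} (hz₀ : z₀ ∈ fixV V (TT T)) (hzM : ∀ x ∈ P, x * z₀ = z₀ * x → x ∈ MM M) :
    ⁅V, A⁆ ⊓ fixV V E' ≤ fixV V E := by
  obtain ⟨hHM, -, ⟨ř, hř, c, hc, hz, hř1⟩, -⟩ := PT3 Hy hq hq2 K hB hAT hz₀ hzM
  have hc' : c ∈ Zpt P (MM M) (JJ2 p V (TT T) q A) V z₀ 1 ⊓ fixV V E' := by
    rw [← ZCEQ Hy hq K K' hB hB' hAT hz₀ hzM]; exact hc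
  exact C0two_aux_le Hy hq2 K K' hB' hp ⟨z₀, hzM, hHM, ř, hř, c, ⟨hc.2, hc'.2⟩, hz, hř1⟩

/-- U (L): uniqueness of the package over `A` based at `M`. -/
theorem U (Hy : Hyp p V P T M) (hq : MinQ p V P q) (hq2 : 2 < q) (K : Tool p V P q A E H w)
    (K' : Tool p V P q A E' H' w') (hB : Based (MM M) A E) (hB' : Based (MM M) A E') (hAT : A ≤ TT T) : E = E' := by
  obtain ⟨z₀, hz₀, hzM⟩ := PT1 Hy
  obtain ⟨hRc1, -, hRc3, -⟩ := Tool.Rc Hy K'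
  have hC0 : ⁅V, A⁆ ⊓ fixV V E = ⁅V, A⁆ ⊓ fixV V E' := by
    by_cases hp : p = 2
    · apply le_antisymm
      · exact le_inf inf_le_left (U_aux_C0two_le Hy hq hq2 K' K hB' hB hAT hp hz₀ hzM)
      · exact le_inf inf_le_left (U_aux_C0two_le Hy hq hq2 K K' hB hB' hAT hp hz₀ hzM)
    · rw [C0odd Hy K hp, C0odd Hy K' hp]
  exact U_core Hy K K' hB hB' (SAMEPT Hy hq K K' hB hB' hAT w' K'.hwE)
    (fun e he => (ZPT Hy hq K hB hAT hz₀ hzM he).2) (ZPT Hy hq K' hB' hAT hz₀ hzM K'.hwE).1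
    (PT3 Hy hq hq2 K' hB' hAT hz₀ hzM).2.1 hRc1 hRc3 hC0 (fun D hD hDA hc => Z1 Hy hq K hD hDA hc)

end Cfsg.Agent.S3000P
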