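import Mathlib
import Cfsg.Agent.Helper25.S2981BDefs
import Cfsg.Agent.Helper28.S3000Defs
import Cfsg.Agent.Helper12.S2999Basic
import Cfsg.Agent.Helper28.S2981TOOLX
import Cfsg.Agent.Helper8.S2981BOREL1
import Cfsg.Agent.Helper25.S2981BOREL2
import Cfsg.Agent.Helper25.S2981BOREL3

/-! Board `s2981pieces`, row BOREL (assembly of TOOLX, BOREL1, BOREL2, BOREL3). -/

set_option autoImplicit false
set_option linter.unusedSectionVars false
set_option linter.unusedVariables false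

namespace Cfsg.Agent.S2981P

open Cfsg.Agent.S2789P Cfsg.Agent.S2999P Cfsg.Agent.S3000P Cfsg.Agent.S2981P
open scoped commutatorElement

variable {G : Type*} [Group G] [Finite G] {p : ℕ} [Fact p.Prime] {V P : Subgroup G} {T : Sylow p ↥P} {M : Subgroup ↥P} {q : ℕ}

variable {A E : Subgroup G}

/-- an element of a subgroup normalises it -/
theorem BOREL_aux_cj_of_mem {g : G} {X : Subgroup G} (hg : g ∈ X) : cjs g X = X := by
  ext x
  rw [cj_mem]
  constructor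
  · intro hx
    have := X.mul_mem (X.mul_mem hg hx) (X.inv_mem hg)
    have e : g * (g⁻¹ * x * g) * g⁻¹ = x := by group
    rwa [e] at this
  · intro hx
    exact X.mul_mem (X.mul_mem (X.inv_mem hg) hx) hg

/-- BOREL (M): a `p`-element of `P` normalising `E` and centralising `A` lies in `A · C_P(E)`. -/
theorem BOREL (Hy : Hyp p V P T M) (hq2 : 2 < q) (hK : Pack p V P q A E) {x : G} (hxP : x ∈ P)
    (hxp : ∃ k : ℕ, x ^ p ^ k = 1) (hxE : cjs x E = E) (hxA : ∀ a ∈ A, x * a = a * x) :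
    ∃ a ∈ A, ∀ e ∈ E, (a⁻¹ * x) * e = e * (a⁻¹ * x) := by
  obtain ⟨F, _, _, hF, ⟨c⟩⟩ := hK.hco
  have K := TOOL_coord Hy hq2 hK hF c
  have hxA' : cjs x A = A := BOREL2_aux_cj_of_comm hxA
  obtain ⟨a, haA, haw⟩ := BOREL1 Hy hq2 hK hF c hxP hxE hxA'
  refine ⟨a, haA, ?_⟩
  have hainvA : a⁻¹ ∈ A := A.inv_mem haA
  have hcomm : Commute a⁻¹ x := (hxA a⁻¹ hainvA).symm
  have hAel := hK.hA.so.hA
  -- `b = a⁻¹ x` is a `p`-element of `P`
  have hbP : a⁻¹ * x ∈ P := P.mul_mem (hK.hA.le hainvA) hxP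
  have hbp : ∃ k : ℕ, (a⁻¹ * x) ^ p ^ k = 1 := by
    obtain ⟨k, hk⟩ := hxp
    refine ⟨k + 1, ?_⟩
    rw [hcomm.mul_pow, pow_succ, pow_mul x, hk, one_pow, mul_one, pow_mul', hAel.2 a⁻¹ hainvA, one_pow]
  have hbE : cjs (a⁻¹ * x) E = E := by
    rw [← cj_mul, hxE, BOREL_aux_cj_of_mem (hK.hAE hainvA)]
  have hbAc : ∀ a' ∈ A, (a⁻¹ * x) * a' = a' * (a⁻¹ * x) := by
    intro a' ha'
    have h1 : a⁻¹ * a' = a' * a⁻¹ := by
      have := hAel.1.is_comm.comm ⟨a⁻¹, hainvA⟩ ⟨a', ha'⟩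
      exact congrArg Subtype.val this
    calc a⁻¹ * x * a' = a⁻¹ * (x * a') := by group
      _ = a⁻¹ * (a' * x) := by rw [hxA a' ha']
      _ = (a⁻¹ * a') * x := by group
      _ = (a' * a⁻¹) * x := by rw [h1]
      _ = a' * (a⁻¹ * x) := by group
  have hbA : cjs (a⁻¹ * x) A = A := BOREL2_aux_cj_of_comm hbAc
  have hbH := BOREL2 Hy hq2 hK hF c hbP hbp hbE hbAc haw
  exact BOREL3 Hy hq2 K hbP hbp hbE hbA haw hbH

end Cfsg.Agent.S2981P
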