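import Mathlib

set_option autoImplicit false
open Pointwise

namespace Cfsg.Agent.Helper22

/-- A finite group is not the union of the conjugates of a proper subgroup. -/
theorem exists_not_mem_conj {G : Type*} [Group G] [Finite G] (H : Subgroup G) (hH : H ≠ ⊤) :
    ∃ g : G, ∀ x : G, g ∉ MulAut.conj x • H := by
  classical
  by_contra hcon
  have hall : ∀ g : G, ∃ x : G, g ∈ MulAut.conj x • H := by
    intro g
    by_contra h
    exact hcon ⟨g, fun x hx => h ⟨x, hx⟩⟩
  haveI := Fintype.ofFinite G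
  haveI : Fintype (G ⧸ H) := Fintype.ofFinite _
  haveI : Fintype (Quotient (MulAction.orbitRel G (G ⧸ H))) := Fintype.ofFinite _
  have hB := MulAction.sum_card_fixedBy_eq_card_orbits_mul_card_group G (G ⧸ H)
  have hΩ : Fintype.card (Quotient (MulAction.orbitRel G (G ⧸ H))) = 1 := by
    rw [Fintype.card_eq_one_iff_nonempty_unique]
    exact (MulAction.pretransitive_iff_unique_quotient_of_nonempty G (G ⧸ H)).1 inferInstance
  rw [hΩ, one_mul] at hB
  have hfix : ∀ g : G, 1 ≤ Fintype.card (MulAction.fixedBy (G ⧸ H) g) := by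
    intro g
    obtain ⟨x, hx⟩ := hall g
    rw [Nat.succ_le_iff, Fintype.card_pos_iff]
    refine ⟨⟨(x : G ⧸ H), ?_⟩⟩
    rw [MulAction.mem_fixedBy]
    rw [Subgroup.mem_pointwise_smul_iff_inv_smul_mem] at hx
    change ((g * x : G) : G ⧸ H) = (x : G ⧸ H)
    rw [eq_comm, QuotientGroup.eq]
    simpa [MulAut.smul_def, mul_assoc] using hx
  have h1 : 2 ≤ Fintype.card (MulAction.fixedBy (G ⧸ H) (1 : G)) := by
    have : MulAction.fixedBy (G ⧸ H) (1 : G) = Set.univ := by
      ext y; simp
    have h2 : Fintype.card (MulAction.fixedBy (G ⧸ H) (1 : G)) = Fintype.card (G ⧸ H) := by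
      rw [← Fintype.card_congr (Equiv.Set.univ (G ⧸ H))]
      exact Fintype.card_congr (Equiv.setCongr this)
    rw [h2]
    have h3 : H.index ≠ 1 := fun h => hH (Subgroup.index_eq_one.1 h)
    have h4 : H.index ≠ 0 := Subgroup.index_ne_zero_of_finite
    rw [Subgroup.index, Nat.card_eq_fintype_card] at h3 h4
    omega
  have hsum : Fintype.card G + 1 ≤ ∑ g : G, Fintype.card (MulAction.fixedBy (G ⧸ H) g) := by
    rw [← Finset.add_sum_erase _ _ (Finset.mem_univ (1 : G))]
    have : ∑ g ∈ Finset.univ.erase (1 : G), 1 ≤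
        ∑ g ∈ Finset.univ.erase (1 : G), Fintype.card (MulAction.fixedBy (G ⧸ H) g) :=
      Finset.sum_le_sum (fun g _ => hfix g)
    rw [Finset.sum_const, smul_eq_mul, mul_one, Finset.card_erase_of_mem (Finset.mem_univ _),
      Finset.card_univ] at this
    have hpos : 0 < Fintype.card G := Fintype.card_pos
    omega
  omega

end Cfsg.Agent.Helper22
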