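import Cfsg.Agent.Helper22.PermPack2

/-!
# Packed stabiliser chains: elements fixing the first base points
-/

set_option autoImplicit false

namespace Cfsg.Agent.Helper22.PermPack

variable {n w : ℕ}

/-- an element of a group with a checked chain that fixes the base points of the first levels is the product of
the transversal elements along a path in the remaining levels -/
theorem fix_prefix : ∀ (ls1 ls2 : List Lv) (Y : List ℕ), (∀ y ∈ Y, Good n w y) →
    chainOK n w Y (ls1 ++ ls2) = true →
    ∀ g ∈ Grp n w Y, (∀ L ∈ ls1, ∀ hb : L.b < n, g ⟨L.b, hb⟩ = ⟨L.b, hb⟩) →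
      ∃ p, pathValid ls2 p = true ∧ Rep (pathLook n w ls2 p) g := by
  intro ls1
  induction ls1 with
  | nil =>
    intro ls2 Y hY h g hg _
    exact chain_complete ls2 Y hY h g hg
  | cons L ls ih =>
    intro ls2 Y hY h g hg hgfix
    classical
    have h' : chainOK n w Y (L :: (ls ++ ls2)) = true := h
    obtain ⟨hb, O, T, hbO, hT1, hTb, hS, hfix, hle, _, hrest, hY'good⟩ := level_setup L (ls ++ ls2) Y hY h'
    have hst := Cfsg.Agent.Helper17.SchreierSims.stabilizer_eq {g : Pm n | ∃ y ∈ Y, g = P n w y} _
      ⟨L.b, hb⟩ O T hbO hT1 hTb hS hfix hle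
    have hg' : g ∈ Grp n w (Y.filter fun y => Nat.beq (slot w y L.b) L.b) := by
      rw [← hst]
      exact ⟨hg, MulAction.mem_stabilizer_iff.mpr (hgfix L List.mem_cons_self hb)⟩
    exact ih ls2 _ hY'good hrest g hg' (fun L' hL' => hgfix L' (List.mem_cons_of_mem _ hL'))

end Cfsg.Agent.Helper22.PermPack
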