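import Cfsg.Agent.Helper22.McLInvChk
import Cfsg.Agent.Helper22.PermPack5
import Cfsg.Agent.Helper17.DoubleCover

/-!
# The involutions of the group of order 898128000 on 275 points

All involutions are conjugate, and the centraliser of an involution is a non-split extension of a group of
order two by the alternating group of degree eight: it acts on the thirty-five fixed points of the involution
as the alternating group acts on the splittings of eight points into two parts of four points, and it
contains a square root of the involution.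
-/

set_option autoImplicit false
set_option maxRecDepth 8000

namespace Cfsg.Agent.Helper22.McLInv

open Cfsg Cfsg.Agent.Helper22.PermPack Cfsg.Agent.Helper22.McLKData Cfsg.Agent.Helper22.McLInvData
  Cfsg.Agent.Helper22.McLK Cfsg.Agent.Helper22.Split8

/-! ### General lemmas -/

/-- an element of prime order is conjugate to an element of a given subgroup of the order of the Sylow
subgroups -/
theorem exists_conj_mem_sylow {J : Type*} [Group J] [Finite J] (p : ℕ) [Fact p.Prime]
    (S : Subgroup J) (hS : Nat.card S = p ^ (Nat.card J).factorization p) (t : J) (ht : orderOf t = p) :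
    ∃ g : J, g * t * g⁻¹ ∈ S := by
  have hp : IsPGroup p (Subgroup.zpowers t) :=
    IsPGroup.of_card (n := 1) (by rw [Nat.card_zpowers, ht, pow_one])
  obtain ⟨Q, hQ⟩ := hp.exists_le_sylow
  obtain ⟨g, hg⟩ := MulAction.exists_smul_eq J Q (Sylow.ofCard S hS)
  refine ⟨g, ?_⟩
  have h1 : t ∈ (Q : Subgroup J) := hQ (Subgroup.mem_zpowers t)
  have h2 : S = ((g • Q : Sylow p J) : Subgroup J) := by rw [hg]; rfl
  rw [h2, Sylow.coe_subgroup_smul, Subgroup.mem_smul_pointwise_iff_exists]
  exact ⟨t, h1, rfl⟩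

/-- the order of the centraliser of an element with many conjugates -/
theorem card_centralizer_le {J : Type*} [Group J] [Finite J] (t : J) (m c : ℕ) (hJ : Nat.card J = m * c)
    (hm : 0 < m) (f : Fin m → Set.range fun g : J => g * t * g⁻¹) (hf : Function.Injective f) :
    Nat.card (Subgroup.centralizer ({t} : Set J)) ≤ c := by
  have h1 : m ≤ Nat.card (conjugatesOf t) := by
    have hsub : (Set.range fun g : J => g * t * g⁻¹) ⊆ conjugatesOf t := by
      rintro _ ⟨g, rfl⟩
      show IsConj t _
      exact isConj_iff.mpr ⟨g, rfl⟩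
    have e : Nat.card (Fin m) = m := by simp
    calc m = Nat.card (Fin m) := e.symm
      _ ≤ Nat.card (Set.range fun g : J => g * t * g⁻¹) := Nat.card_le_card_of_injective f hf
      _ ≤ Nat.card (conjugatesOf t) := Nat.card_mono (Set.toFinite _) hsub
  rw [Cfsg.Agent.Helper17.DoubleCover.card_conjugatesOf] at h1
  have h2 := Subgroup.index_mul_card (Subgroup.centralizer ({t} : Set J))
  rw [hJ] at h2
  by_contra hlt
  push Not at hlt
  have h3 : m * c < (Subgroup.centralizer ({t} : Set J)).index *
      Nat.card (Subgroup.centralizer ({t} : Set J)) :=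
    calc m * c < m * Nat.card (Subgroup.centralizer ({t} : Set J)) := Nat.mul_lt_mul_of_pos_left hlt hm
      _ ≤ (Subgroup.centralizer ({t} : Set J)).index * Nat.card (Subgroup.centralizer ({t} : Set J)) :=
        Nat.mul_le_mul_right _ h1
  omega

/-- a criterion for a non-split extension of a group of order two: a square root of the central involution -/
theorem nonsplit_of_sq {H K : Type*} [Group H] [Group K] [Finite H] (ψ : H →* K)
    (hs : Function.Surjective ψ) (hc : Nat.card H = 2 * Nat.card K) (hK : 0 < Nat.card K)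
    (hZ : Subgroup.center K = ⊥) (q : H) (hq : ψ (q * q) = 1) (hq1 : q * q ≠ 1) :
    Cfsg.IsNonsplitDoubleCover H K := by
  have hker := Cfsg.Agent.Helper17.DoubleCover.card_ker_two ψ hs hc hK
  have hle : ψ.ker ≤ Subgroup.center H :=
    Cfsg.Agent.Helper17.DoubleCover.central_of_normal_card_two ψ.ker hker
  have hge : Subgroup.center H ≤ ψ.ker := by
    intro z hz
    rw [Subgroup.mem_center_iff] at hz
    rw [MonoidHom.mem_ker]
    have hzK : ψ z ∈ Subgroup.center K := by
      rw [Subgroup.mem_center_iff]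
      intro k
      obtain ⟨h, rfl⟩ := hs k
      rw [← map_mul, ← map_mul, hz h]
    rw [hZ, Subgroup.mem_bot] at hzK
    exact hzK
  have heq : Subgroup.center H = ψ.ker := le_antisymm hge hle
  have hcard : Nat.card (Subgroup.center H) = 2 := by rw [heq]; exact hker
  refine ⟨hcard, ⟨(QuotientGroup.quotientMulEquivOfEq heq).trans
    (QuotientGroup.quotientKerEquivOfSurjective ψ hs)⟩, ?_⟩
  intro L hL
  have hqc : q * q ∈ Subgroup.center H := by rw [heq]; exact MonoidHom.mem_ker.mpr hq
  obtain ⟨⟨ζ, l⟩, hzl, -⟩ := (Subgroup.isComplement'_def.mp hL).existsUnique q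
  have hzl' : ζ.1 * l.1 = q := hzl
  have hζ2 : ζ.1 * ζ.1 = 1 := by
    have h := pow_card_eq_one' (G := Subgroup.center H) (x := ζ)
    rw [hcard] at h
    have h' := congrArg Subtype.val h
    simpa [pow_two] using h'
  have hcomm : l.1 * ζ.1 = ζ.1 * l.1 := Subgroup.mem_center_iff.mp ζ.2 l.1
  have hqq : q * q = l.1 * l.1 := by
    rw [← hzl']
    calc ζ.1 * l.1 * (ζ.1 * l.1) = ζ.1 * (l.1 * ζ.1) * l.1 := by group
      _ = ζ.1 * (ζ.1 * l.1) * l.1 := by rw [hcomm]
      _ = (ζ.1 * ζ.1) * (l.1 * l.1) := by group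
      _ = l.1 * l.1 := by rw [hζ2, one_mul]
  have hmemL : q * q ∈ L := by rw [hqq]; exact L.mul_mem l.2 l.2
  have h1 : q * q ∈ Subgroup.center H ⊓ L := ⟨hqc, hmemL⟩
  rw [hL.disjoint.eq_bot, Subgroup.mem_bot] at h1
  exact hq1 h1

/-! ### One class of involutions -/

theorem two_path {p : List ℕ} (hp : pathValid slevels p = true) : ∃ k0 k1, p = [k0, k1] ∧ k0 < 32 ∧ k1 < 4 := by
  have hm := slevels_m
  unfold slevels at hp hm
  simp only [List.map_cons, List.map_nil, List.cons.injEq, and_true] at hm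
  match p, hp with
  | [k0, k1], hp =>
    simp only [pathValid, Bool.and_eq_true, decide_eq_true_eq] at hp
    exact ⟨k0, k1, rfl, by rw [← hm.1]; exact hp.1, by rw [← hm.2]; exact hp.2.1⟩
  | [], hp => simp [pathValid] at hp
  | [_], hp => simp [pathValid] at hp
  | _ :: _ :: _ :: _, hp => simp [pathValid] at hp

/-- an involution of the subgroup of order 128 is conjugate to the chosen involution -/
theorem Sp_inv_conj (s : ↥K) (hs : s.1 ∈ Sp) (hs2 : s * s = 1) (hs1 : s ≠ 1) : ∃ g : ↥K, s = g * zK * g⁻¹ := by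
  obtain ⟨p, hp, hrep⟩ := chain_complete slevels sY sY_good schain_okK s.1 hs
  obtain ⟨k0, k1, rfl, h0, h1⟩ := two_path hp
  have h := allN_spec (allN_spec inv_okK k0 h0) k1 h1
  rw [withList_eq] at h
  have hsq : (allN 275 fun i => Nat.beq (compLook 9 (pathTabs 275 9 slevels [k0, k1])
      (compLook 9 (pathTabs 275 9 slevels [k0, k1]) i)) i) = true := by
    apply allN_of_forall'
    intro i hi
    rw [beq_iff]
    have e1 := rep_apply (rep_mul hrep hrep) hi
    have e2 : s.1 * s.1 = 1 := congrArg Subtype.val hs2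
    rw [e2] at e1
    exact e1.symm
  rw [hsq] at h
  simp only [Bool.not_true, Bool.false_or, Bool.or_eq_true] at h
  rcases h with h | h
  · exfalso
    apply hs1
    apply Subtype.ext
    exact eq_one_of_rep hrep (fun i hi => beq_iff.mp (allN_spec h i hi))
  · rw [withNat_eq, Bool.and_eq_true, blt_iff, withList_eq, withList_eq] at h
    obtain ⟨hj, h⟩ := h
    obtain ⟨g, hg⟩ := exists_conj _ hj
    refine ⟨g, ?_⟩
    apply Subtype.ext
    exact eq_of_rep hrep hg (fun i hi => beq_iff.mp (allN_spec h i hi))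

/-- all involutions are conjugate to the chosen one -/
theorem inv_conj (t : ↥K) (ht : orderOf t = 2) : ∃ g : ↥K, t = g * zK * g⁻¹ := by
  have : Fact (Nat.Prime 2) := ⟨Nat.prime_two⟩
  obtain ⟨g, hg⟩ := exists_conj_mem_sylow 2 (Sp.subgroupOf K) card_SpK t ht
  rw [Subgroup.mem_subgroupOf] at hg
  have h2 : (g * t * g⁻¹) * (g * t * g⁻¹) = 1 := by
    have : t * t = 1 := by rw [← pow_two, ← ht, pow_orderOf_eq_one]
    calc (g * t * g⁻¹) * (g * t * g⁻¹) = g * (t * t) * g⁻¹ := by group
      _ = 1 := by rw [this]; group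
  have h1 : g * t * g⁻¹ ≠ 1 := by
    intro h
    have : t = 1 := by
      calc t = g⁻¹ * (g * t * g⁻¹) * g := by group
        _ = 1 := by rw [h]; group
    rw [this, orderOf_one] at ht
    norm_num at ht
  obtain ⟨g', hg'⟩ := Sp_inv_conj (g * t * g⁻¹) hg h2 h1
  refine ⟨g⁻¹ * g', ?_⟩
  calc t = g⁻¹ * (g * t * g⁻¹) * g := by group
    _ = g⁻¹ * (g' * zK * g'⁻¹) * g := by rw [hg']
    _ = g⁻¹ * g' * zK * (g⁻¹ * g')⁻¹ := by group

theorem zP_sq : zP * zP = 1 :=
  eq_one_of_rep (rep_mul (rep_P z_good) (rep_P z_good)) (fun i hi => beq_iff.mp (allN_spec z_sqK i hi))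

theorem zP_ne : zP ≠ 1 := by
  intro h
  have e := rep_apply (rep_P z_good) (show 0 < 275 by norm_num)
  have e' : (zP ⟨0, by norm_num⟩).1 = slot 9 zT 0 := e
  rw [h] at e'
  have h2 := z_moveK
  rw [← e'] at h2
  simp at h2

theorem zK_sq : zK * zK = 1 := Subtype.ext zP_sq

theorem zK_ne : zK ≠ 1 := fun h => zP_ne (congrArg Subtype.val h)

theorem orderOf_zK : orderOf zK = 2 := by
  apply orderOf_eq_prime
  · rw [pow_two]; exact zK_sq
  · exact zK_ne

/-- any two involutions are conjugate -/
theorem isConj_of_orderOf_two (x y : ↥K) (hx : orderOf x = 2) (hy : orderOf y = 2) : IsConj x y := by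
  obtain ⟨g, hg⟩ := inv_conj x hx
  obtain ⟨g', hg'⟩ := inv_conj y hy
  rw [isConj_iff]
  refine ⟨g' * g⁻¹, ?_⟩
  rw [hg, hg']
  group

/-! ### The centraliser of the involution -/

theorem c2Y_good : ∀ y ∈ c2Y, Good 275 9 y :=
  fun y hy => good_of_goodB (List.all_eq_true.mp c2Y_goodK y hy)

/-- the centraliser of the involution, as a group of permutations -/
noncomputable def D2 : Subgroup (Pm 275) := Grp 275 9 c2Y

theorem card_D2 : Nat.card D2 = 40320 := by
  rw [← prod_dlevels]
  exact (chain_sound dlevels c2Y c2Y_good dchain_okK).1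

theorem c2Y_mem : ∀ y ∈ c2Y, P 275 9 y ∈ K := by
  intro y hy
  obtain ⟨j, hj, rfl⟩ := List.mem_iff_getElem.mp hy
  have h := allN_spec dsub_okK j hj
  rw [List.getD_eq_getElem _ _ hj] at h
  exact mem_of_isPath (c2Y_good _ hy) h

theorem D2_le : D2 ≤ K := by
  unfold D2 Grp
  rw [Subgroup.closure_le]
  rintro g ⟨y, hy, rfl⟩
  exact c2Y_mem y hy

theorem zP_comm_D2 : ∀ s ∈ D2, s * zP = zP * s := by
  have hle : D2 ≤ Subgroup.centralizer ({zP} : Set (Pm 275)) := by
    unfold D2 Grp
    rw [Subgroup.closure_le]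
    rintro g ⟨y, hy, rfl⟩
    rw [SetLike.mem_coe, Subgroup.mem_centralizer_iff]
    intro x hx
    rw [Set.mem_singleton_iff] at hx
    subst hx
    have h := List.all_eq_true.mp zcommD_okK y hy
    exact (eq_of_rep (rep_mul (rep_P (c2Y_good y hy)) (rep_P z_good))
      (rep_mul (rep_P z_good) (rep_P (c2Y_good y hy))) (fun i hi => beq_iff.mp (allN_spec h i hi))).symm
  intro s hs
  have := Subgroup.mem_centralizer_iff.mp (hle hs) zP (Set.mem_singleton _)
  exact this.symm

theorem zP_mem_D2 : zP ∈ D2 := P_mem_Grp (List.contains_iff_mem.mp z_memK)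

/-- the centraliser of the involution in the group is the group of permutations above -/
theorem centralizer_eq : Subgroup.centralizer ({zK} : Set ↥K) = D2.subgroupOf K := by
  symm
  apply Subgroup.eq_of_le_of_card_ge
  · intro s hs
    rw [Subgroup.mem_subgroupOf] at hs
    rw [Subgroup.mem_centralizer_iff]
    intro x hx
    rw [Set.mem_singleton_iff] at hx
    subst hx
    apply Subtype.ext
    exact (zP_comm_D2 s.1 hs).symm
  · rw [Nat.card_congr (Subgroup.subgroupOfEquivOfLe D2_le).toEquiv, card_D2]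
    exact card_centralizer_le zK 22275 40320 (by rw [card_K]) (by norm_num) conjEl conjEl_injective

/-! ### The action on the fixed points -/

theorem fix_spec1 {i : ℕ} (hi : i < 275) (hz : slot 9 zT i = i) :
    idxIn fixL i < 35 ∧ fixN (idxIn fixL i) = i := by
  have h := fix_okK
  unfold fixB at h
  rw [Bool.and_eq_true] at h
  have h1 := allN_spec h.1 i hi
  rw [beq_iff_eq] at h1
  have h2 : Nat.beq (slot 9 zT i) i = true := beq_iff.mpr hz
  rw [h2] at h1
  have h3 := h1.symm
  rw [Bool.and_eq_true, blt_iff, beq_iff] at h3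
  exact h3

theorem fix_spec2 {k : ℕ} (hk : k < 35) :
    fixN k < 275 ∧ slot 9 zT (fixN k) = fixN k ∧ idxIn fixL (fixN k) = k := by
  have h := fix_okK
  unfold fixB at h
  rw [Bool.and_eq_true] at h
  have h1 := allN_spec h.2 k hk
  rw [Bool.and_eq_true, Bool.and_eq_true, blt_iff, beq_iff, beq_iff] at h1
  exact ⟨h1.1.1, h1.1.2, h1.2⟩

/-- the fixed point with a given number -/
def fixFin (k : Fin 35) : Fin 275 := ⟨fixN k.1, (fix_spec2 k.2).1⟩

theorem fixFin_injective : Function.Injective fixFin := by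
  intro k k' h
  have h1 : fixN k.1 = fixN k'.1 := congrArg Fin.val h
  apply Fin.ext
  rw [← (fix_spec2 k.2).2.2, ← (fix_spec2 k'.2).2.2, h1]

theorem zP_fixFin (k : Fin 35) : zP (fixFin k) = fixFin k := by
  apply Fin.ext
  have e : (zP (fixFin k)).1 = slot 9 zT (fixN k.1) := rep_apply (rep_P z_good) (fix_spec2 k.2).1
  rw [e]
  exact (fix_spec2 k.2).2.1

theorem exists_fixFin (i : Fin 275) (hi : zP i = i) : ∃ k : Fin 35, fixFin k = i := by
  have e : (zP i).1 = slot 9 zT i.1 := rep_apply (rep_P z_good) i.2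
  rw [hi] at e
  obtain ⟨h1, h2⟩ := fix_spec1 i.2 e.symm
  exact ⟨⟨idxIn fixL i.1, h1⟩, Fin.ext h2⟩

theorem exists_idx (c : ↥D2) (k : Fin 35) : ∃ k' : Fin 35, fixFin k' = c.1 (fixFin k) := by
  apply exists_fixFin
  have h := zP_comm_D2 c.1 c.2
  have h1 : (zP * c.1) (fixFin k) = (c.1 * zP) (fixFin k) := by rw [h]
  rw [Equiv.Perm.mul_apply, Equiv.Perm.mul_apply, zP_fixFin] at h1
  exact h1

/-- the action on the numbers of the fixed points -/
noncomputable def actD (c : ↥D2) (k : Fin 35) : Fin 35 := Classical.choose (exists_idx c k)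

theorem fixFin_actD (c : ↥D2) (k : Fin 35) : fixFin (actD c k) = c.1 (fixFin k) :=
  Classical.choose_spec (exists_idx c k)

theorem actD_eq {c : ↥D2} {k k' : Fin 35} (h : fixFin k' = c.1 (fixFin k)) : actD c k = k' :=
  fixFin_injective ((fixFin_actD c k).trans h.symm)

noncomputable instance actionD2 : MulAction ↥D2 (Fin 35) where
  smul := actD
  one_smul k := actD_eq rfl
  mul_smul c c' k := actD_eq (by
    show fixFin (actD c (actD c' k)) = (c * c').1 (fixFin k)
    rw [fixFin_actD, fixFin_actD]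
    rfl)

/-- the action on the fixed points as a homomorphism -/
noncomputable def theta : ↥D2 →* Equiv.Perm (Fin 35) := MulAction.toPermHom _ _

theorem theta_apply (c : ↥D2) (k : Fin 35) : theta c k = actD c k := rfl

theorem bool_iff {x y z w : Bool} (h : ((x == y) == (z == w)) = true) : (x = y) ↔ (z = w) := by
  cases x <;> cases y <;> cases z <;> cases w <;> simp_all

theorem sigs_good : ∀ t ∈ sigs, Good 8 3 t :=
  fun t ht => good_of_goodB (List.all_eq_true.mp sigs_goodK t ht)

/-- the strong generators act as permutations of the eight points -/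
theorem theta_gen (a : ℕ) (ha : a < c2Y.length) (hm : P 275 9 (c2Y.getD a 0) ∈ D2) :
    theta ⟨P 275 9 (c2Y.getD a 0), hm⟩ = psi (P 8 3 (sigs.getD a 0)) := by
  have hy : c2Y.getD a 0 ∈ c2Y := by
    rw [List.getD_eq_getElem _ _ ha]
    exact List.getElem_mem ha
  have hlen : sigs.length = c2Y.length := by decide
  have ht : sigs.getD a 0 ∈ sigs := by
    rw [List.getD_eq_getElem _ _ (hlen ▸ ha)]
    exact List.getElem_mem _
  have h := allN_spec act_okK a ha
  rw [withNat_eq, withNat_eq] at h
  apply Equiv.ext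
  intro k
  have hk := allN_spec h k.1 k.2
  rw [withNat_eq, Bool.and_eq_true, Bool.and_eq_true, blt_iff, beq_iff] at hk
  obtain ⟨⟨hk', hfix⟩, hR⟩ := hk
  have e1 : theta ⟨P 275 9 (c2Y.getD a 0), hm⟩ k =
      ⟨idxIn fixL (slot 9 (c2Y.getD a 0) (fixN k.1)), hk'⟩ := by
    rw [theta_apply]
    apply actD_eq
    apply Fin.ext
    have e : ((P 275 9 (c2Y.getD a 0)) (fixFin k)).1 = slot 9 (c2Y.getD a 0) (fixN k.1) :=
      rep_apply (rep_P (c2Y_good _ hy)) (fix_spec2 k.2).1
    rw [e]
    exact hfix
  have e2 : psi (P 8 3 (sigs.getD a 0)) k = ⟨idxIn fixL (slot 9 (c2Y.getD a 0) (fixN k.1)), hk'⟩ := by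
    rw [psi_apply]
    apply act_eq
    intro i j
    have hij := allN_spec (allN_spec hR i.1 i.2) j.1 j.2
    have ei : ((P 8 3 (sigs.getD a 0)) i).1 = slot 3 (sigs.getD a 0) i.1 := rep_apply (rep_P (sigs_good _ ht)) i.2
    have ej : ((P 8 3 (sigs.getD a 0)) j).1 = slot 3 (sigs.getD a 0) j.1 := rep_apply (rep_P (sigs_good _ ht)) j.2
    unfold side
    rw [ei, ej]
    exact bool_iff hij
  rw [e1, e2]

theorem range_theta_le : theta.range ≤ psi.range := by
  have htop : (⊤ : Subgroup ↥D2) =
      Subgroup.closure (((↑) : ↥D2 → Pm 275) ⁻¹' {g | ∃ y ∈ c2Y, g = P 275 9 y}) :=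
    (Subgroup.closure_closure_coe_preimage (k := {g : Pm 275 | ∃ y ∈ c2Y, g = P 275 9 y})).symm
  rw [MonoidHom.range_eq_map, htop, MonoidHom.map_closure, Subgroup.closure_le]
  rintro _ ⟨c, ⟨y, hy, hc⟩, rfl⟩
  obtain ⟨a, ha, rfl⟩ := List.mem_iff_getElem.mp hy
  have hget : c2Y.getD a 0 = c2Y[a] := List.getD_eq_getElem _ _ ha
  have hm : P 275 9 (c2Y.getD a 0) ∈ D2 := by
    rw [hget]
    exact P_mem_Grp (List.getElem_mem ha)
  have e : c = ⟨P 275 9 (c2Y.getD a 0), hm⟩ := by
    apply Subtype.ext
    show c.1 = P 275 9 (c2Y.getD a 0)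
    rw [hget]
    exact hc
  rw [e, SetLike.mem_coe, theta_gen a ha hm]
  exact ⟨_, rfl⟩

/-! ### The kernel of the action -/

theorem DL_m : dlevels2.map (fun L => L.m) = [2] := by decide +kernel

/-- an element of the centraliser fixing the fixed points of the involution is the identity or the involution -/
theorem ker_theta (c : ↥D2) (hc : theta c = 1) : c.1 = 1 ∨ c.1 = zP := by
  have hfix : ∀ k : Fin 35, c.1 (fixFin k) = fixFin k := by
    intro k
    have h1 : theta c k = k := by rw [hc]; rfl
    rw [theta_apply] at h1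
    rw [← fixFin_actD, h1]
  have hbase : ∀ L ∈ dlevels1, ∀ hb : L.b < 275, c.1 ⟨L.b, hb⟩ = ⟨L.b, hb⟩ := by
    intro L hL hb
    have h := List.all_eq_true.mp base_fixK L hL
    rw [Bool.and_eq_true, blt_iff, beq_iff] at h
    have e : (⟨L.b, hb⟩ : Fin 275) = fixFin ⟨idxIn fixL L.b, h.1⟩ := Fin.ext h.2.symm
    rw [e]
    exact hfix _
  have hchain : chainOK 275 9 c2Y (dlevels1 ++ dlevels2) = true := dchain_okK
  obtain ⟨p, hp, hrep⟩ := fix_prefix dlevels1 dlevels2 c2Y c2Y_good hchain c.1 c.2 hbase
  have hlast := last_okK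
  unfold lastB at hlast
  rw [Bool.and_eq_true, Bool.and_eq_true] at hlast
  obtain ⟨k, rfl, hk⟩ : ∃ k, p = [k] ∧ k < 2 := by
    have hm := DL_m
    unfold dlevels2 at hp hm
    simp only [List.map_cons, List.map_nil, List.cons.injEq, and_true] at hm
    match p, hp with
    | [k], hp =>
      simp only [pathValid, Bool.and_eq_true, decide_eq_true_eq] at hp
      exact ⟨k, rfl, by rw [← hm]; exact hp.1⟩
    | [], hp => simp [pathValid] at hp
    | _ :: _ :: _, hp => simp [pathValid] at hp
  rcases (by omega : k = 0 ∨ k = 1) with rfl | rfl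
  · left
    exact eq_one_of_rep hrep (fun i hi => beq_iff.mp (allN_spec hlast.1.2 i hi))
  · right
    exact eq_of_rep hrep (rep_P z_good) (fun i hi => beq_iff.mp (allN_spec hlast.2 i hi))

/-- the involution, in the centraliser -/
noncomputable def zD : ↥D2 := ⟨zP, zP_mem_D2⟩

theorem theta_zD : theta zD = 1 := by
  apply Equiv.ext
  intro k
  rw [theta_apply]
  apply actD_eq
  exact (zP_fixFin k).symm

theorem zD_ne : zD ≠ 1 := fun h => zP_ne (congrArg Subtype.val h)

/-! ### The homomorphism to the permutations of eight points -/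

/-- the permutations of eight points and their image -/
noncomputable def psiEquiv : Equiv.Perm (Fin 8) ≃* ↥psi.range := MonoidHom.ofInjective psi_injective

/-- the homomorphism from the centraliser to the permutations of eight points -/
noncomputable def eta : ↥D2 →* Equiv.Perm (Fin 8) :=
  psiEquiv.symm.toMonoidHom.comp (theta.codRestrict psi.range (fun c => range_theta_le ⟨c, rfl⟩))

theorem psi_eta (c : ↥D2) : psi (eta c) = theta c := by
  have h : psiEquiv (eta c) = theta.codRestrict psi.range (fun c => range_theta_le ⟨c, rfl⟩) c := by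
    show psiEquiv (psiEquiv.symm _) = _
    rw [MulEquiv.apply_symm_apply]
  exact congrArg Subtype.val h

theorem eta_eq_one_iff (c : ↥D2) : eta c = 1 ↔ c = 1 ∨ c = zD := by
  constructor
  · intro h
    have h1 : theta c = 1 := by rw [← psi_eta, h, map_one]
    rcases ker_theta c h1 with h2 | h2
    · left; exact Subtype.ext h2
    · right; exact Subtype.ext h2
  · rintro (rfl | rfl)
    · exact map_one _
    · apply psi_injective
      rw [psi_eta, theta_zD, map_one]

theorem card_ker_eta : Nat.card eta.ker = 2 := by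
  rw [Nat.card_eq_two_iff]
  refine ⟨⟨1, one_mem _⟩, ⟨zD, (MonoidHom.mem_ker).mpr ((eta_eq_one_iff zD).mpr (Or.inr rfl))⟩, ?_, ?_⟩
  · intro h
    exact zD_ne (congrArg Subtype.val h).symm
  · apply Set.eq_univ_of_forall
    rintro ⟨c, hc⟩
    rcases (eta_eq_one_iff c).mp (MonoidHom.mem_ker.mp hc) with rfl | rfl
    · left; rfl
    · right; rfl

theorem card_range_eta : Nat.card eta.range = 20160 := by
  have h1 := Subgroup.card_eq_card_quotient_mul_card_subgroup eta.ker
  rw [Nat.card_congr (QuotientGroup.quotientKerEquivRange eta).toEquiv, card_ker_eta, card_D2] at h1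
  omega

theorem range_eta : eta.range = alternatingGroup (Fin 8) := by
  apply Equiv.Perm.eq_alternatingGroup_of_index_eq_two
  have h := Subgroup.index_mul_card eta.range
  rw [card_range_eta, Nat.card_perm] at h
  have e : Nat.card (Fin 8) = 8 := by simp
  rw [e] at h
  have e2 : Nat.factorial 8 = 40320 := by norm_num [Nat.factorial]
  rw [e2] at h
  exact Nat.eq_of_mul_eq_mul_right (by norm_num : 0 < 20160) (h.trans (by norm_num))

/-- the homomorphism from the centraliser onto the alternating group -/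
noncomputable def eta8 : ↥D2 →* ↥(alternatingGroup (Fin 8)) :=
  eta.codRestrict _ (fun c => by rw [← range_eta]; exact ⟨c, rfl⟩)

theorem eta8_surjective : Function.Surjective eta8 := by
  rintro ⟨σ, hσ⟩
  rw [← range_eta] at hσ
  obtain ⟨c, rfl⟩ := hσ
  exact ⟨c, rfl⟩

theorem card_alt8 : Nat.card ↥(alternatingGroup (Fin 8)) = 20160 := by
  rw [← range_eta]
  exact card_range_eta

/-! ### A square root of the involution -/

theorem q_spec : Good 275 9 qT ∧ isPath levels qT qPath = true ∧
    ∀ i < 275, slot 9 qT (slot 9 qT i) = slot 9 zT i := by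
  have h := q_okK
  unfold qB at h
  rw [Bool.and_eq_true, Bool.and_eq_true] at h
  exact ⟨good_of_goodB h.1.1, h.1.2, fun i hi => beq_iff.mp (allN_spec h.2 i hi)⟩

/-- the square root -/
noncomputable def qP : Pm 275 := P 275 9 qT

theorem qP_mem : qP ∈ K := mem_of_isPath q_spec.1 q_spec.2.1

theorem qP_sq : qP * qP = zP :=
  eq_of_rep (rep_mul (rep_P q_spec.1) (rep_P q_spec.1)) (rep_P z_good) q_spec.2.2

/-- the square root, in the group -/
noncomputable def qK : ↥K := ⟨qP, qP_mem⟩

theorem qK_sq : qK * qK = zK := Subtype.ext qP_sq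

theorem qK_mem : qK ∈ Subgroup.centralizer ({zK} : Set ↥K) := by
  rw [Subgroup.mem_centralizer_iff]
  intro x hx
  rw [Set.mem_singleton_iff] at hx
  subst hx
  rw [← qK_sq, mul_assoc]

/-! ### The statement for a group isomorphic to the group of permutations -/

theorem mem_D2_of_comm {G : Type*} [Group G] (e : G ≃* ↥K) {x : G}
    (hx : x ∈ Subgroup.centralizer ({e.symm zK} : Set G)) : (e x).1 ∈ D2 := by
  have h1 : e x ∈ Subgroup.centralizer ({zK} : Set ↥K) := by
    rw [Subgroup.mem_centralizer_iff]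
    intro y hy
    rw [Set.mem_singleton_iff] at hy
    subst hy
    have h := Subgroup.mem_centralizer_iff.mp hx (e.symm zK) rfl
    have h' := congrArg e h
    rw [map_mul, map_mul, MulEquiv.apply_symm_apply] at h'
    exact h'
  rw [centralizer_eq, Subgroup.mem_subgroupOf] at h1
  exact h1

theorem comm_of_mem_D2 {G : Type*} [Group G] (e : G ≃* ↥K) (c : ↥D2) :
    e.symm ⟨c.1, D2_le c.2⟩ ∈ Subgroup.centralizer ({e.symm zK} : Set G) := by
  rw [Subgroup.mem_centralizer_iff]
  intro y hy
  rw [Set.mem_singleton_iff] at hy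
  subst hy
  rw [← map_mul, ← map_mul]
  congr 1
  apply Subtype.ext
  exact (zP_comm_D2 c.1 c.2).symm

/-- the centraliser of the involution and the group of permutations -/
noncomputable def centEquiv {G : Type*} [Group G] (e : G ≃* ↥K) :
    ↥(Subgroup.centralizer ({e.symm zK} : Set G)) ≃* ↥D2 where
  toFun x := ⟨(e x.1).1, mem_D2_of_comm e x.2⟩
  invFun c := ⟨e.symm ⟨c.1, D2_le c.2⟩, comm_of_mem_D2 e c⟩
  left_inv x := by
    apply Subtype.ext
    show e.symm ⟨(e x.1).1, _⟩ = x.1
    have : (⟨(e x.1).1, D2_le (mem_D2_of_comm e x.2)⟩ : ↥K) = e x.1 := Subtype.ext rfl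
    rw [this, MulEquiv.symm_apply_apply]
  right_inv c := by
    apply Subtype.ext
    show (e (e.symm ⟨c.1, D2_le c.2⟩)).1 = c.1
    rw [MulEquiv.apply_symm_apply]
  map_mul' x y := by
    apply Subtype.ext
    show (e (x.1 * y.1)).1 = (e x.1).1 * (e y.1).1
    rw [map_mul]
    rfl

theorem main {G : Type*} [Group G] (e : G ≃* ↥K) :
    (∀ x y : G, orderOf x = 2 → orderOf y = 2 → IsConj x y) ∧
    ∃ t : G, orderOf t = 2 ∧
      Cfsg.IsNonsplitDoubleCover ↥(Subgroup.centralizer ({t} : Set G)) ↥(alternatingGroup (Fin 8)) := by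
  constructor
  · intro x y hx hy
    have h := isConj_of_orderOf_two (e x) (e y) (by rw [MulEquiv.orderOf_eq, hx]) (by rw [MulEquiv.orderOf_eq, hy])
    have h' := e.symm.toMonoidHom.map_isConj h
    simpa using h'
  · refine ⟨e.symm zK, by rw [MulEquiv.orderOf_eq, orderOf_zK], ?_⟩
    have hfin : Finite ↥(Subgroup.centralizer ({e.symm zK} : Set G)) :=
      Finite.of_equiv _ (centEquiv e).symm.toEquiv
    have hq : e.symm qK ∈ Subgroup.centralizer ({e.symm zK} : Set G) := by
      rw [Subgroup.mem_centralizer_iff]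
      intro y hy
      rw [Set.mem_singleton_iff] at hy
      subst hy
      rw [← map_mul, ← map_mul]
      congr 1
      exact Subgroup.mem_centralizer_iff.mp qK_mem zK rfl
    have hqq : (centEquiv e) (⟨e.symm qK, hq⟩ * ⟨e.symm qK, hq⟩) = zD := by
      apply Subtype.ext
      show (e (e.symm qK * e.symm qK)).1 = zP
      rw [← map_mul, MulEquiv.apply_symm_apply, qK_sq]
      rfl
    apply nonsplit_of_sq (eta8.comp (centEquiv e).toMonoidHom)
      (eta8_surjective.comp (centEquiv e).surjective) ?_ (by rw [card_alt8]; norm_num)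
      (alternatingGroup.center_eq_bot (by simp)) ⟨e.symm qK, hq⟩ ?_ ?_
    · rw [Nat.card_congr (centEquiv e).toEquiv, card_D2, card_alt8]
    · show eta8 ((centEquiv e) (⟨e.symm qK, hq⟩ * ⟨e.symm qK, hq⟩)) = 1
      rw [hqq]
      apply Subtype.ext
      show eta zD = 1
      exact (eta_eq_one_iff zD).mpr (Or.inr rfl)
    · intro h
      have h' := congrArg (centEquiv e) h
      rw [hqq, map_one] at h'
      exact zD_ne h'

end Cfsg.Agent.Helper22.McLInv
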