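import Cfsg.Agent.Helper1.S5665.Lib
import Cfsg.Agent.Helper5.S5700EXK
import Cfsg.Agent.Helper25.S5700DUAL
import Cfsg.Agent.Helper2.FieldBasics
import Cfsg.Agent.Helper17.S5665ISO1
import Cfsg.Agent.Helper11.S5665TRANS1

set_option autoImplicit false
set_option linter.unusedSectionVars false
set_option linter.unusedVariables false

/-! # S5665 piece TRANS: `H` is transitive on the non-zero isotropic vectors. -/

namespace Cfsg.Agent.S5665P

open Matrix Module Cfsg.Agent.Helper2.Sp Cfsg.Agent.Helper28.Sg Cfsg.Agent.S5700P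

variable {F : Type*} [Field F] [Fintype F] {m : ℕ}
  {δ : Matrix (Fin m ⊕ Fin m) (Fin m ⊕ Fin m) F} {d : F}

local notation "V" => (Fin m ⊕ Fin m → F)
local notation "Mat" => Matrix (Fin m ⊕ Fin m) (Fin m ⊕ Fin m) F
local notation "Sp" => Matrix.symplecticGroup (Fin m) F

/-- TRANS (S-M): `H` is transitive on the non-zero isotropic vectors.  If `¬ InK δ z y`: TRANS1.  Otherwise `ISO1.exists_iso U h2 hm hz0 0 1` gives an
isotropic `y₂` with `om z y₂ = 1`, so `y₂ ≠ 0` and `¬ InK δ z y₂` (`om z (a • z + b • δ z) = - b * Qs z = 0`), and `¬ InK δ y₂ y`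
(`InK.symm U.udata`, `InK.trans U.udata`: else `InK δ z y₂`); TRANS1 twice. -/
theorem TRANS.exists_h (U : SData δ d) (h2 : (2 : F) ≠ 0) (hm : 7 ≤ m) {z y : V} (hz0 : z ≠ 0)
    (hy0 : y ≠ 0) (hz : Qs δ z = 0) (hy : Qs δ y = 0) : ∃ h : Sp, InH δ h ∧ h.1 *ᵥ z = y := by
  by_cases hzy : InK δ z y
  swap
  · exact TRANS1.exists_h U h2 hm hz0 hz hy hzy
  obtain ⟨y₂, hQy₂, -, hzy₂⟩ := ISO1.exists_iso U h2 hm hz0 0 1
  have hy₂0 : y₂ ≠ 0 := by
    rintro rfl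
    rw [om_zero_right] at hzy₂
    exact zero_ne_one hzy₂
  have h1 : ¬ InK δ z y₂ := by
    rintro ⟨a, b, hab⟩
    rw [hab, om_add_right, om_smul_right, om_smul_right, om_self, U.om_self_delta, hz] at hzy₂
    simp at hzy₂
  have h2' : ¬ InK δ y₂ y := by
    intro h
    exact h1 (hzy.trans U.udata (h.symm U.udata hy0))
  obtain ⟨g₁, hg₁, hg₁z⟩ := TRANS1.exists_h U h2 hm hz0 hz hQy₂ h1
  obtain ⟨g₂, hg₂, hg₂y⟩ := TRANS1.exists_h U h2 hm hy₂0 hQy₂ hy h2'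
  refine ⟨g₂ * g₁, hg₂.mul hg₁, ?_⟩
  rw [mul_mulVec, hg₁z, hg₂y]

end Cfsg.Agent.S5665P
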