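import Cfsg.Agent.Helper1.S5665.Lib
import Cfsg.Agent.Helper5.S5700EXK
import Cfsg.Agent.Helper25.S5700DUAL
import Cfsg.Agent.Helper2.FieldBasics
import Cfsg.Agent.Helper17.S5665ISO1

set_option autoImplicit false
set_option linter.unusedSectionVars false
set_option linter.unusedVariables false

/-! # S5665 piece PROPER: a transvection with isotropic centre does not normalise `K`. -/

namespace Cfsg.Agent.S5665P

open Matrix Module Cfsg.Agent.Helper2.Sp Cfsg.Agent.Helper28.Sg Cfsg.Agent.S5700P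

variable {F : Type*} [Field F] [Fintype F] {m : ℕ}
  {δ : Matrix (Fin m ⊕ Fin m) (Fin m ⊕ Fin m) F} {d : F}

local notation "V" => (Fin m ⊕ Fin m → F)
local notation "Mat" => Matrix (Fin m ⊕ Fin m) (Fin m ⊕ Fin m) F
local notation "Sp" => Matrix.symplecticGroup (Fin m) F

/-- PROPER (S-M): a non-zero isotropic `y` (`ISO1.exists_iso` with any `x ≠ 0`, e.g. `Pi.single (Sum.inl ⟨0, _⟩) 1`, `p2 = 1`); `g := Tg y 1`,
`g v = v + om y v • y`.  `K`-linear case (`InH.cases`): `om y (δ v) • y = om y v • δ y` for all `v`; with `om y v = 1` (`exists_om_ne_zero`)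
`δ y = λ • y`, `d • y = λ² • y`, contradiction with `U.nonsq`.  Semilinear case at `v = y`: `2 • δ y = 0` (`om y (δ y) = - Qs y = 0`), so `y = 0`. -/
theorem PROPER.exists_not_inH (U : SData δ d) (h2 : (2 : F) ≠ 0) (hm : 7 ≤ m) : ∃ g : Sp, ¬ InH δ g := by
  have hx : (Pi.single (Sum.inl (⟨0, by omega⟩ : Fin m)) (1 : F) : V) ≠ 0 := by
    intro h
    have := congrFun h (Sum.inl (⟨0, by omega⟩ : Fin m))
    simp at this
  obtain ⟨y, hQy, -, hxy⟩ := ISO1.exists_iso U h2 hm hx 0 1
  have hy0 : y ≠ 0 := by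
    rintro rfl
    rw [om_zero_right] at hxy
    exact zero_ne_one hxy
  refine ⟨Tg y 1, fun hin => ?_⟩
  rcases hin.cases with hc | hc
  · -- the `K`-linear case
    obtain ⟨v, hv⟩ := exists_om_ne_zero hy0
    have h1 := hc v
    rw [Tg_mulVec, Tg_mulVec, Matrix.mulVec_add, Matrix.mulVec_smul, one_mul, one_mul] at h1
    have h3 : om y (δ *ᵥ v) • y = om y v • δ *ᵥ y := add_left_cancel h1
    obtain ⟨lam, hlam⟩ : ∃ lam : F, lam = om y (δ *ᵥ v) / om y v := ⟨_, rfl⟩
    have h4 : δ *ᵥ y = lam • y := by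
      have := congrArg (fun w => (om y v)⁻¹ • w) h3
      simp only [smul_smul, inv_mul_cancel₀ hv, one_smul] at this
      rw [← this, hlam]
      congr 1
      field_simp
    have h5 := U.dd y
    rw [h4, Matrix.mulVec_smul, h4, smul_smul] at h5
    have h6 : (lam * lam - d) • y = 0 := by
      rw [sub_smul, h5, sub_self]
    rcases smul_eq_zero.mp h6 with h7 | h7
    · exact U.nonsq lam (by linear_combination h7)
    · exact hy0 h7
  · -- the semilinear case
    have h1 := hc y
    rw [Tg_mulVec, Tg_mulVec, om_self, U.om_self_delta, hQy] at h1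
    simp only [mul_zero, neg_zero, zero_smul, add_zero] at h1
    have h3 : (2 : F) • δ *ᵥ y = 0 := by
      rw [two_smul]
      nth_rewrite 1 [h1]
      simp
    rcases smul_eq_zero.mp h3 with h4 | h4
    · exact h2 h4
    · exact hy0 (U.delta_eq_zero h4)

end Cfsg.Agent.S5665P
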