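import Mathlib
import Cfsg.Prelude.Def_Spor_Ru
import Cfsg.Agent.Helper10.S1628Defs

/-! S1628, piece ENUMB: masks and vectors over the field with two elements. -/

set_option autoImplicit false

namespace Cfsg.Agent.S1628P

open Cfsg.Spor

namespace ENUMB

theorem vecOf_zero (p : RuIdx) : vecOf 0 p = 0 := by
  unfold vecOf
  rw [Nat.zero_testBit]
  simp

theorem vecOf_xor (m m' : ℕ) (p : RuIdx) : vecOf (m ^^^ m') p = vecOf m p + vecOf m' p := by
  unfold vecOf
  rw [Nat.testBit_xor]
  cases m.testBit (idx p) <;> cases m'.testBit (idx p) <;> decide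

theorem vecOf_ite (ε : ZMod 2) (m : ℕ) (p : RuIdx) : vecOf (if ε = 1 then m else 0) p = ε * vecOf m p := by
  by_cases h : ε = 1
  · rw [if_pos h, h, one_mul]
  · rw [if_neg h, vecOf_zero]
    have h0 : ε = 0 := by
      revert h
      revert ε
      decide
    rw [h0, zero_mul]

theorem vecOf_comb_gen (g : ℕ → ℕ) (ε : ℕ → ZMod 2) (p : RuIdx) : ∀ (r i : ℕ),
    vecOf (comb g ε i r) p = ∑ j ∈ Finset.range r, ε (i + j) * vecOf (g (i + j)) p := by
  intro r
  induction r with
  | zero =>
    intro i
    rw [Finset.sum_range_zero]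
    exact vecOf_zero p
  | succ r ih =>
    intro i
    show vecOf ((if ε i = 1 then g i else 0) ^^^ comb g ε (i + 1) r) p = _
    rw [vecOf_xor, vecOf_ite, ih, Finset.sum_range_succ', add_comm, add_zero]
    congr 1
    apply Finset.sum_congr rfl
    intro j _
    rw [show i + 1 + j = i + (j + 1) by ring]

theorem pc_eq_sum : ∀ (f m : ℕ), pc f m = ∑ i ∈ Finset.range f, if m.testBit i then 1 else 0 := by
  intro f
  induction f with
  | zero =>
    intro m
    rfl
  | succ f ih =>
    intro m
    show m % 2 + pc f (m / 2) = _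
    rw [ih, Finset.sum_range_succ', add_comm]
    congr 1
    · apply Finset.sum_congr rfl
      intro i _
      rw [Nat.testBit_succ]
    · rw [Nat.testBit_zero]
      rcases Nat.mod_two_eq_zero_or_one m with h | h <;> rw [h] <;> simp

theorem idx_eq (p : RuIdx) : idx p = (finProdFinEquiv p).val := by
  rw [finProdFinEquiv_apply_val]
  unfold idx
  ring

end ENUMB

theorem vecOf_comb (g : ℕ → ℕ) (ε : ℕ → ZMod 2) (n : ℕ) (p : RuIdx) :
    vecOf (comb g ε 0 n) p = ∑ j ∈ Finset.range n, ε j * vecOf (g j) p := by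
  rw [ENUMB.vecOf_comb_gen]
  apply Finset.sum_congr rfl
  intro j _
  rw [zero_add]

theorem sum_val_vecOf (m : ℕ) : ∑ p : RuIdx, (vecOf m p).val = pc 28 m := by
  rw [ENUMB.pc_eq_sum]
  have h1 : ∀ p : RuIdx, (vecOf m p).val = (fun k : Fin (7 * 4) => if m.testBit k.val then 1 else 0)
      (finProdFinEquiv p) := by
    intro p
    unfold vecOf
    rw [ENUMB.idx_eq]
    show _ = if m.testBit (finProdFinEquiv p).val then 1 else 0
    cases m.testBit (finProdFinEquiv p).val
    · simp
    · simp [ZMod.val_one]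
  rw [Finset.sum_congr rfl (fun p _ => h1 p)]
  exact (Equiv.sum_comp finProdFinEquiv (fun k : Fin (7 * 4) => if m.testBit k.val then 1 else 0)).trans
    (Fin.sum_univ_eq_sum_range (fun i => if m.testBit i then 1 else 0) (7 * 4))

end Cfsg.Agent.S1628P
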