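import Mathlib
import Cfsg.Prelude.Def_Spor_Ru
import Cfsg.Agent.Helper10.S1628Defs

/-! S1628, piece ENUMA: soundness of the enumeration checker with pruning. -/

set_option autoImplicit false

namespace Cfsg.Agent.S1628P

open Cfsg.Spor

namespace ENUMA

theorem pc_eq_sum : ∀ (f m : ℕ), pc f m = ∑ i ∈ Finset.range f, if m.testBit i then 1 else 0 := by
  intro f
  induction f with
  | zero =>
    intro m
    rfl
  | succ f ih =>
    intro m
    show m % 2 + pc f (m / 2) = _
    rw [ih, Finset.sum_range_succ', add_comm]
    congr 1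
    · apply Finset.sum_congr rfl
      intro i _
      rw [Nat.testBit_succ]
    · rw [Nat.testBit_zero]
      rcases Nat.mod_two_eq_zero_or_one m with h | h <;> rw [h] <;> simp

/-- the bits of a combination lie in the union of the supports -/
theorem comb_sub_sufOr (g : ℕ → ℕ) (ε : ℕ → ZMod 2) (t : ℕ) : ∀ (r i : ℕ),
    (comb g ε i r).testBit t = true → (sufOr g i r).testBit t = true := by
  intro r
  induction r with
  | zero =>
    intro i h
    exact h
  | succ r ih =>
    intro i h
    change ((if ε i = 1 then g i else 0) ^^^ comb g ε (i + 1) r).testBit t = true at h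
    show (g i ||| sufOr g (i + 1) r).testBit t = true
    rw [Nat.testBit_or, Bool.or_eq_true]
    rw [Nat.testBit_xor] at h
    by_cases h1 : (comb g ε (i + 1) r).testBit t = true
    · exact Or.inr (ih (i + 1) h1)
    · left
      rw [Bool.not_eq_true] at h1
      rw [h1, Bool.xor_false] at h
      by_cases he : ε i = 1
      · rw [if_pos he] at h
        exact h
      · rw [if_neg he, Nat.zero_testBit] at h
        exact absurd h (by simp)

/-- the pruning inequality -/
theorem pc_prune (f acc c U : ℕ) (hc : ∀ t, c.testBit t = true → U.testBit t = true) :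
    pc f acc ≤ pc f (acc ^^^ c) + pc f (acc &&& U) := by
  rw [pc_eq_sum, pc_eq_sum, pc_eq_sum, ← Finset.sum_add_distrib]
  apply Finset.sum_le_sum
  intro t _
  rw [Nat.testBit_xor, Nat.testBit_and]
  have := hc t
  cases h1 : acc.testBit t <;> cases h2 : c.testBit t <;> cases h3 : U.testBit t <;> simp_all

theorem zmod2_eq_zero {e : ZMod 2} (h : e ≠ 1) : e = 0 := by
  revert h
  revert e
  decide

theorem chk_sound_gen (g : ℕ → ℕ) (b : ℕ) (exc : List ℕ) (ε : ℕ → ZMod 2) : ∀ (r i acc : ℕ) (nz : Bool),
    chk g b exc r i acc nz = true → (nz = true ∨ ∃ j, i ≤ j ∧ j < i + r ∧ ε j ≠ 0) →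
    pc 28 (acc ^^^ comb g ε i r) ≤ b → acc ^^^ comb g ε i r ∈ exc := by
  intro r
  induction r with
  | zero =>
    intro i acc nz h hnz hb
    change (!nz || decide (b < pc 28 acc) || exc.contains acc) = true at h
    have hc : comb g ε i 0 = 0 := rfl
    rw [hc, Nat.xor_zero] at hb ⊢
    have hnz' : nz = true := by
      rcases hnz with h' | ⟨j, h1, h2, _⟩
      · exact h'
      · omega
    rw [hnz'] at h
    have hd : decide (b < pc 28 acc) = false := by
      rw [decide_eq_false_iff_not]
      omega
    rw [hd] at h
    simp only [Bool.not_true, Bool.or_self, Bool.false_or] at h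
    exact List.contains_iff_mem.mp h
  | succ r ih =>
    intro i acc nz h hnz hb
    change (decide (b + pc 28 (acc &&& sufOr g i (r + 1)) < pc 28 acc) ||
      (chk g b exc r (i + 1) acc nz && chk g b exc r (i + 1) (acc ^^^ g i) true)) = true at h
    rw [Bool.or_eq_true] at h
    rcases h with h | h
    · exfalso
      rw [decide_eq_true_eq] at h
      have := pc_prune 28 acc (comb g ε i (r + 1)) (sufOr g i (r + 1))
        (fun t => comb_sub_sufOr g ε t (r + 1) i)
      omega
    · rw [Bool.and_eq_true] at h
      have hc : comb g ε i (r + 1) = (if ε i = 1 then g i else 0) ^^^ comb g ε (i + 1) r := rfl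
      rw [hc] at hb ⊢
      by_cases he : ε i = 1
      · rw [if_pos he, ← Nat.xor_assoc] at hb ⊢
        exact ih (i + 1) (acc ^^^ g i) true h.2 (Or.inl rfl) hb
      · rw [if_neg he, Nat.zero_xor] at hb ⊢
        apply ih (i + 1) acc nz h.1 _ hb
        rcases hnz with h' | ⟨j, h1, h2, h3⟩
        · exact Or.inl h'
        · right
          refine ⟨j, ?_, by omega, h3⟩
          rcases Nat.lt_or_ge i j with h4 | h4
          · exact h4
          · exfalso
            have : j = i := by omega
            rw [this] at h3
            exact h3 (zmod2_eq_zero he)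

end ENUMA

theorem chk_sound (g : ℕ → ℕ) (b : ℕ) (exc : List ℕ) (n : ℕ) (h : chk g b exc n 0 0 false = true)
    (ε : ℕ → ZMod 2) (hb : pc 28 (comb g ε 0 n) ≤ b) :
    (∀ j < n, ε j = 0) ∨ comb g ε 0 n ∈ exc := by
  by_cases hall : ∀ j < n, ε j = 0
  · exact Or.inl hall
  · right
    push_neg at hall
    obtain ⟨j, hj, hne⟩ := hall
    have := ENUMA.chk_sound_gen g b exc ε n 0 0 false h
      (Or.inr ⟨j, Nat.zero_le j, by omega, hne⟩) (by rw [Nat.zero_xor]; exact hb)
    rw [Nat.zero_xor] at this
    exact this

end Cfsg.Agent.S1628P
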