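import Mathlib
import Cfsg.Prelude.Def_Spor_Ru
import Cfsg.Agent.Helper10.S1628Defs

/-! S1628, piece MAPSJK: the right multiplications by `j` and `k` are linear and preserve the norm. -/

set_option autoImplicit false

namespace Cfsg.Agent.S1628P

open Cfsg.Spor

namespace MAPSJK

theorem norm_gI : gI.norm = 1 := by
  rw [Zsqrtd.norm_def]
  rfl

theorem norm_gI_mul (z : GaussianInt) : (gI * z).norm = z.norm := by
  rw [Zsqrtd.norm_mul, norm_gI, one_mul]

theorem rj0 (v : RuVec) (n : Fin 7) : ruRj v (n, 0) = gI * v (n, 1) := rfl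
theorem rj1 (v : RuVec) (n : Fin 7) : ruRj v (n, 1) = gI * v (n, 0) := rfl
theorem rj2 (v : RuVec) (n : Fin 7) : ruRj v (n, 2) = v (n, 3) := rfl
theorem rj3 (v : RuVec) (n : Fin 7) : ruRj v (n, 3) = -v (n, 2) := rfl
theorem rk0 (v : RuVec) (n : Fin 7) : ruRk v (n, 0) = gI * v (n, 2) := rfl
theorem rk1 (v : RuVec) (n : Fin 7) : ruRk v (n, 1) = -v (n, 3) := rfl
theorem rk2 (v : RuVec) (n : Fin 7) : ruRk v (n, 2) = gI * v (n, 0) := rfl
theorem rk3 (v : RuVec) (n : Fin 7) : ruRk v (n, 3) = v (n, 1) := rfl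

theorem fin4_cases (t : Fin 4) : t = 0 ∨ t = 1 ∨ t = 2 ∨ t = 3 := by
  revert t
  decide

end MAPSJK

open MAPSJK

theorem ruRj_add (x y : RuVec) : ruRj (x + y) = ruRj x + ruRj y := by
  funext p
  obtain ⟨n, t⟩ := p
  rcases fin4_cases t with rfl | rfl | rfl | rfl
  · rw [Pi.add_apply, rj0, rj0, rj0, Pi.add_apply, mul_add]
  · rw [Pi.add_apply, rj1, rj1, rj1, Pi.add_apply, mul_add]
  · rw [Pi.add_apply, rj2, rj2, rj2, Pi.add_apply]
  · rw [Pi.add_apply, rj3, rj3, rj3, Pi.add_apply, neg_add]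

theorem ruRj_smul (c : GaussianInt) (x : RuVec) : ruRj (c • x) = c • ruRj x := by
  funext p
  obtain ⟨n, t⟩ := p
  rcases fin4_cases t with rfl | rfl | rfl | rfl
  · rw [Pi.smul_apply, rj0, rj0, Pi.smul_apply, smul_eq_mul, smul_eq_mul]
    ring
  · rw [Pi.smul_apply, rj1, rj1, Pi.smul_apply, smul_eq_mul, smul_eq_mul]
    ring
  · rw [Pi.smul_apply, rj2, rj2, Pi.smul_apply]
  · rw [Pi.smul_apply, rj3, rj3, Pi.smul_apply, smul_eq_mul, smul_eq_mul]
    ring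

theorem ruNorm_ruRj (x : RuVec) : ruNorm (ruRj x) = ruNorm x := by
  unfold ruNorm
  rw [Fintype.sum_prod_type, Fintype.sum_prod_type]
  apply Finset.sum_congr rfl
  intro n _
  rw [Fin.sum_univ_four, Fin.sum_univ_four, rj0, rj1, rj2, rj3, norm_gI_mul, norm_gI_mul, Zsqrtd.norm_neg]
  ring

theorem ruRk_add (x y : RuVec) : ruRk (x + y) = ruRk x + ruRk y := by
  funext p
  obtain ⟨n, t⟩ := p
  rcases fin4_cases t with rfl | rfl | rfl | rfl
  · rw [Pi.add_apply, rk0, rk0, rk0, Pi.add_apply, mul_add]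
  · rw [Pi.add_apply, rk1, rk1, rk1, Pi.add_apply, neg_add]
  · rw [Pi.add_apply, rk2, rk2, rk2, Pi.add_apply, mul_add]
  · rw [Pi.add_apply, rk3, rk3, rk3, Pi.add_apply]

theorem ruRk_smul (c : GaussianInt) (x : RuVec) : ruRk (c • x) = c • ruRk x := by
  funext p
  obtain ⟨n, t⟩ := p
  rcases fin4_cases t with rfl | rfl | rfl | rfl
  · rw [Pi.smul_apply, rk0, rk0, Pi.smul_apply, smul_eq_mul, smul_eq_mul]
    ring
  · rw [Pi.smul_apply, rk1, rk1, Pi.smul_apply, smul_eq_mul, smul_eq_mul]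
    ring
  · rw [Pi.smul_apply, rk2, rk2, Pi.smul_apply, smul_eq_mul, smul_eq_mul]
    ring
  · rw [Pi.smul_apply, rk3, rk3, Pi.smul_apply]

theorem ruNorm_ruRk (x : RuVec) : ruNorm (ruRk x) = ruNorm x := by
  unfold ruNorm
  rw [Fintype.sum_prod_type, Fintype.sum_prod_type]
  apply Finset.sum_congr rfl
  intro n _
  rw [Fin.sum_univ_four, Fin.sum_univ_four, rk0, rk1, rk2, rk3, norm_gI_mul, norm_gI_mul, Zsqrtd.norm_neg]
  ring

end Cfsg.Agent.S1628P
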