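import Mathlib
import Cfsg.Prelude.Def_Spor_Ru
import Cfsg.Agent.Helper10.S1628Defs

/-! S1628, piece MAPSSS: the sign change and the cyclic shift are linear and preserve the norm. -/

set_option autoImplicit false

namespace Cfsg.Agent.S1628P

open Cfsg.Spor

theorem ruSign_add (x y : RuVec) : ruSign (x + y) = ruSign x + ruSign y := by
  funext p
  show (if p.1 = 0 ∨ p.1 = 3 ∨ p.1 = 5 ∨ p.1 = 6 then -(x + y) p else (x + y) p) =
    (if p.1 = 0 ∨ p.1 = 3 ∨ p.1 = 5 ∨ p.1 = 6 then -x p else x p) +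
      (if p.1 = 0 ∨ p.1 = 3 ∨ p.1 = 5 ∨ p.1 = 6 then -y p else y p)
  by_cases h : p.1 = 0 ∨ p.1 = 3 ∨ p.1 = 5 ∨ p.1 = 6
  · rw [if_pos h, if_pos h, if_pos h, Pi.add_apply, neg_add]
  · rw [if_neg h, if_neg h, if_neg h, Pi.add_apply]

theorem ruSign_smul (c : GaussianInt) (x : RuVec) : ruSign (c • x) = c • ruSign x := by
  funext p
  show (if p.1 = 0 ∨ p.1 = 3 ∨ p.1 = 5 ∨ p.1 = 6 then -(c • x) p else (c • x) p) =
    c • (if p.1 = 0 ∨ p.1 = 3 ∨ p.1 = 5 ∨ p.1 = 6 then -x p else x p)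
  by_cases h : p.1 = 0 ∨ p.1 = 3 ∨ p.1 = 5 ∨ p.1 = 6
  · rw [if_pos h, if_pos h, Pi.smul_apply, smul_neg]
  · rw [if_neg h, if_neg h, Pi.smul_apply]

theorem ruNorm_ruSign (x : RuVec) : ruNorm (ruSign x) = ruNorm x := by
  unfold ruNorm
  apply Finset.sum_congr rfl
  intro p _
  show (if p.1 = 0 ∨ p.1 = 3 ∨ p.1 = 5 ∨ p.1 = 6 then -x p else x p).norm = (x p).norm
  by_cases h : p.1 = 0 ∨ p.1 = 3 ∨ p.1 = 5 ∨ p.1 = 6
  · rw [if_pos h, Zsqrtd.norm_neg]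
  · rw [if_neg h]

theorem ruShift_add (x y : RuVec) : ruShift (x + y) = ruShift x + ruShift y := rfl

theorem ruShift_smul (c : GaussianInt) (x : RuVec) : ruShift (c • x) = c • ruShift x := rfl

theorem ruNorm_ruShift (x : RuVec) : ruNorm (ruShift x) = ruNorm x := by
  unfold ruNorm
  exact Equiv.sum_comp ((Equiv.addRight (1 : Fin 7)).prodCongr (Equiv.refl (Fin 4))) (fun p => (x p).norm)

end Cfsg.Agent.S1628P
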