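import Mathlib
import Cfsg.Agent.Helper2.S2094.DefsR

/-! # S2094 piece RBCOMB (helper22): the combinatorics of the names of the roots of `B_n` -/

set_option autoImplicit false
set_option linter.unusedSectionVars false
set_option linter.unusedVariables false

namespace Cfsg.Agent.S2094P

open Matrix Cfsg.Agent.S3352P Cfsg.Agent.S3351P Cfsg.Agent.S2096P Cfsg.Agent.RGD

variable {n : ℕ} {F : Type*} [Field F] {M : Type*} [Group M] {X : J n → J n → F → M}
  {Ys : J n → F → M}

namespace RBCOMB

theorem isRoot_inl_inl {i j : Fin n} (h : i ≠ j) : IsRoot (Sum.inl i : J n) (Sum.inl j) :=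
  ⟨fun e => h (Sum.inl_injective e), by simp⟩

/-- the action of `sw (inl i) (inl j)` on the indices `inl k` -/
theorem sw_inl_inl_inl (i k j : Fin n) :
    sw (Sum.inl i : J n) (Sum.inl k) (Sum.inl j) = Sum.inl (Equiv.swap i k j) := by
  have e1 : Equiv.swap (Sum.inr i : J n) (Sum.inr k) (Sum.inl j) = Sum.inl j :=
    Equiv.swap_apply_of_ne_of_ne (by simp) (by simp)
  unfold sw
  rw [Equiv.Perm.mul_apply, ng_inl, ng_inl, e1]
  by_cases h1 : j = i
  · subst h1
    rw [Equiv.swap_apply_left, Equiv.swap_apply_left]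
  · by_cases h2 : j = k
    · subst h2
      rw [Equiv.swap_apply_right, Equiv.swap_apply_right]
    · rw [Equiv.swap_apply_of_ne_of_ne h1 h2]
      exact Equiv.swap_apply_of_ne_of_ne (by simpa using h1) (by simpa using h2)

end RBCOMB

open RBCOMB POSCOMB

theorem RB.neg_neg' (r : RB n) : r.neg.neg = r := by
  cases r with
  | lg a b => rfl
  | sh a => simp only [RB.neg, ng_ng]

theorem RB.alt_alt' (r : RB n) : r.alt.alt = r := by
  cases r with
  | lg a b => simp only [RB.alt, ng_ng]
  | sh a => rfl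

theorem RB.neg_alt' (r : RB n) : r.alt.neg = r.neg.alt := by
  cases r with
  | lg a b => rfl
  | sh a => rfl

theorem RB.pos_neg' {r : RB n} (hr : r.Valid) : r.neg.Pos ↔ ¬ r.Pos := by
  cases r with
  | lg a b =>
    have h1 : rk a ≠ rk b := fun h => hr.1 (rk_inj h)
    show rk b < rk a ↔ ¬ rk a < rk b
    omega
  | sh a =>
    show (∃ i, ng a = Sum.inl i) ↔ ¬ ∃ i, a = Sum.inl i
    rcases a with i | i
    · simp
    · simp

theorem RB.pos_alt' {r : RB n} (hr : r.Valid) : r.alt.Pos ↔ r.Pos := by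
  cases r with
  | lg a b =>
    show rk (ng b) < rk (ng a) ↔ rk a < rk b
    rw [rk_ng', rk_ng']
    have h1 := rk_lt a
    have h2 := rk_lt b
    omega
  | sh a => exact Iff.rfl

theorem RB.simple_pos' {r : RB n} (hs : r.Simple) : r.Pos := by
  cases r with
  | lg a b =>
    obtain ⟨i, j, hij, rfl, rfl⟩ := hs
    show rk (Sum.inl i : J n) < rk (Sum.inl j : J n)
    rw [rk_inl, rk_inl]
    omega
  | sh a =>
    obtain ⟨j, -, rfl⟩ := hs
    exact ⟨j, rfl⟩

theorem RB.map_perm_self {s : RB n} (hs : s.Simple) : s.map s.perm = s.neg := by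
  cases s with
  | lg a b =>
    obtain ⟨i, j, hij, rfl, rfl⟩ := hs
    have hne : i ≠ j := fun h => by rw [h] at hij; omega
    have hroot := isRoot_inl_inl hne
    show RB.lg (sw _ _ _) (sw _ _ _) = RB.lg _ _
    rw [WCONJ.sw_left _ _ hroot, WCONJ.sw_right _ _ hroot]
  | sh a =>
    show RB.sh (sc a a) = RB.sh (ng a)
    unfold sc
    rw [Equiv.swap_apply_left]

theorem RB.map_neg {σ : J n → J n} (hσ : NgEquivariant σ) (r : RB n) :
    r.neg.map σ = (r.map σ).neg := by
  cases r with
  | lg a b => rfl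
  | sh a =>
    show RB.sh (σ (ng a)) = RB.sh (ng (σ a))
    rw [hσ a]

theorem RB.map_alt {σ : J n → J n} (hσ : NgEquivariant σ) (r : RB n) :
    r.alt.map σ = (r.map σ).alt := by
  cases r with
  | lg a b =>
    show RB.lg (σ (ng b)) (σ (ng a)) = RB.lg (ng (σ b)) (ng (σ a))
    rw [hσ a, hσ b]
  | sh a => rfl

/-- a simple reflection permutes the other positive roots -/
theorem RB.pos_map_perm {s r : RB n} (hs : s.Simple) (hr : r.Valid) (hp : r.Pos) (h1 : r ≠ s)
    (h2 : r ≠ s.alt) : (r.map s.perm).Pos := by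
  cases s with
  | lg a b =>
    obtain ⟨i, j, hij, rfl, rfl⟩ := hs
    have hsimple : IsSimple (Sum.inl i : J n) (Sum.inl j) := Or.inl ⟨i, j, hij, rfl, rfl⟩
    cases r with
    | lg c d =>
      have hpos : S3352P.Pos c d := ⟨hr, hp⟩
      have e1 : ¬ (c = Sum.inl i ∧ d = Sum.inl j) := by
        rintro ⟨rfl, rfl⟩
        exact h1 rfl
      have e2 : ¬ (c = ng (Sum.inl j) ∧ d = ng (Sum.inl i)) := by
        rintro ⟨rfl, rfl⟩
        exact h2 rfl
      exact (pos_sw hsimple hpos e1 e2).1.2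
    | sh c =>
      obtain ⟨k, rfl⟩ := hp
      show ∃ i', sw (Sum.inl i : J n) (Sum.inl j) (Sum.inl k) = Sum.inl i'
      exact ⟨_, sw_inl_inl_inl i j k⟩
  | sh a =>
    obtain ⟨j, hjn, rfl⟩ := hs
    cases r with
    | lg c d =>
      show rk (sc (Sum.inl j) c) < rk (sc (Sum.inl j) d)
      have hp' : rk c < rk d := hp
      have key : ¬ (rk c = rk (Sum.inl j : J n) ∧ rk d = rk (Sum.inr j : J n)) := by
        rintro ⟨hc, hd⟩
        have hc' := rk_inj hc
        have hd' := rk_inj hd
        apply hr.2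
        rw [hc', hd', ng_inr]
      unfold sc
      rw [ng_inl, rk_swap, rk_swap]
      rw [rk_inl, rk_inr] at key ⊢
      have hcl := rk_lt c
      have hdl := rk_lt d
      split_ifs <;> omega
    | sh c =>
      obtain ⟨k, rfl⟩ := hp
      have hkj : k ≠ j := by
        rintro rfl
        exact h1 rfl
      show ∃ i', sc (Sum.inl j : J n) (Sum.inl k) = Sum.inl i'
      refine ⟨k, ?_⟩
      unfold sc
      rw [ng_inl]
      exact Equiv.swap_apply_of_ne_of_ne (by simpa using hkj) (by simp)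

end Cfsg.Agent.S2094P
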