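import Mathlib
import Cfsg.Agent.Helper10.S2092.DefsQ
import Cfsg.Agent.Helper2.S3352.WConj
import Cfsg.Agent.Helper16.S2096YMAP
import Cfsg.Agent.Helper20.S2096ORTHGEN
import Cfsg.Agent.Helper7.S2096YIND

set_option autoImplicit false
set_option linter.unusedSectionVars false
set_option linter.unusedVariables false

/-! S2092, part T for `|F| = 2`, piece QYPORT (helper22; driver helper10): part A of S2096
(`Helper7.S2096YIND`, `MAINA.dRel_Y`) with the commutation of lifts `DCL` as a hypothesis instead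
of `Big n F`. -/

namespace Cfsg.Agent.S2092P

open scoped commutatorElement
open Cfsg.Agent.S3352P Cfsg.Agent.S3351P Cfsg.Agent.S2096P Cfsg.Agent.S2086P

variable {n : ℕ} {F : Type*} [Field F] {G : Type*} [Group G] {E : Type*} [Group E]

namespace QYPORT

section

variable [Fintype F] {X : J n → J n → F → G}

open Cfsg.Agent.S2096P.YIND

/-- (C2) for the Steinberg datum of a half -/
theorem qhC2_half (ψ : E →* G) (hC : DCL ψ X) (B : Finset (Fin n)) (S : StD n F G)
    (hS : ∀ (a : Root n) (t : F), S.T a t = X (half B a.1.1) (half B a.1.2) t)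
    (a b : Root n) (t u : F) (h1 : a.1.1 ≠ b.1.2) (h2 : a.1.2 ≠ b.1.1) :
    CL ψ (S.T a t) (S.T b u) := by
  rw [hS, hS]
  exact hC _ _ _ _ (isRoot_half B a.2) (isRoot_half B b.2) (half_ne B h2)
    (half_ne B h1) (half_ne_ng B _ _) (half_ne_ng B _ _) (half_ne_ng B _ _) (half_ne_ng B _ _) t u

/-- the four index identity in type `D` -/
theorem qfour_index_D (hn : 3 ≤ n) (hX : DRel X) (ψ : E →* G) (hψ : Function.Surjective ψ)
    (hc : ψ.ker ≤ Subgroup.center E) (hC : DCL ψ X) {a b c m : J n} (hab : ab a ≠ ab b)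
    (hbc : ab b ≠ ab c) (ham : ab a ≠ ab m) (hmc : ab m ≠ ab c) (hac : ab a ≠ ab c)
    (hbm : ab b ≠ ab m) (s t : F) :
    cl ψ hψ (X a b s) (X b c t) = cl ψ hψ (X a m (s * t)) (X m c 1) := by
  set l : List (J n) := [a, b, c, m] with hl
  have hinj : ∀ x ∈ l, ∀ y ∈ l, ab x = ab y → x = y := by
    intro x hx y hy hxy
    simp only [hl, List.mem_cons, List.not_mem_nil, or_false] at hx hy
    rcases hx with rfl | rfl | rfl | rfl <;> rcases hy with rfl | rfl | rfl | rfl <;>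
      first
        | rfl
        | exact absurd hxy hab | exact absurd hxy.symm hab
        | exact absurd hxy hbc | exact absurd hxy.symm hbc
        | exact absurd hxy ham | exact absurd hxy.symm ham
        | exact absurd hxy hmc | exact absurd hxy.symm hmc
        | exact absurd hxy hac | exact absurd hxy.symm hac
        | exact absurd hxy hbm | exact absurd hxy.symm hbm
  obtain ⟨S, hS⟩ := exists_half_stD (F := F) hn hX (hB l)
  have ha : half (hB l) (ab a) = a := half_hB l hinj a (by simp [hl])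
  have hb : half (hB l) (ab b) = b := half_hB l hinj b (by simp [hl])
  have hc' : half (hB l) (ab c) = c := half_hB l hinj c (by simp [hl])
  have hm : half (hB l) (ab m) = m := half_hB l hinj m (by simp [hl])
  have key := four_index S ψ hψ hc (qhC2_half ψ hC (hB l) S hS) (ab a) (ab b) (ab c)
    (ab m) hab hbc ham hmc hac hbm s t
  rw [hS, hS, hS, hS] at key
  simp only [rt_fst, rt_snd] at key
  rw [ha, hb, hc', hm] at key
  exact key

/-- YIND -/
theorem qcl_eq_Y (hn4 : 4 ≤ n) (hX : DRel X) (ψ : E →* G) (hψ : Function.Surjective ψ)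
    (hc : ψ.ker ≤ Subgroup.center E) (hC : DCL ψ X) (hn : 3 ≤ n) {a b c : J n} (hab : IsRoot a b)
    (hbc : IsRoot b c) (hac : IsRoot a c) (s t : F) :
    cl ψ hψ (X a b s) (X b c t) = Y X ψ hψ hn a c (s * t) := by
  have hab' := isRoot_iff_ab.1 hab
  have hbc' := isRoot_iff_ab.1 hbc
  have hac' := isRoot_iff_ab.1 hac
  have hka : ab (th hn a c) ≠ ab a := ab_th_ne_left hn a c
  have hkc : ab (th hn a c) ≠ ab c := ab_th_ne_right hn a c
  unfold Y
  by_cases hkb : ab (th hn a c) = ab b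
  · obtain ⟨e0, he1, he2, he3⟩ := exists_fourth hn4 (ab a) (ab b) (ab c)
    have hea : ab (Sum.inl e0 : J n) ≠ ab a := he1
    have heb : ab (Sum.inl e0 : J n) ≠ ab b := he2
    have hec : ab (Sum.inl e0 : J n) ≠ ab c := he3
    rw [qfour_index_D hn hX ψ hψ hc hC (m := Sum.inl e0) hab' hbc' hea.symm hec hac' heb.symm
      s t]
    rw [qfour_index_D hn hX ψ hψ hc hC (m := th hn a c) hea.symm hec hka.symm hkc hac'
      (by rw [hkb]; exact heb) (s * t) 1, mul_one]
  · exact qfour_index_D hn hX ψ hψ hc hC hab' hbc' hka.symm hkc hac' (Ne.symm hkb) s t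

/-- YADD -/
theorem qY_add (hn4 : 4 ≤ n) (hX : DRel X) (ψ : E →* G) (hψ : Function.Surjective ψ)
    (hc : ψ.ker ≤ Subgroup.center E) (hC : DCL ψ X) (hn : 3 ≤ n) {a b : J n} (hab : IsRoot a b)
    (s t : F) :
    Y X ψ hψ hn a b (s + t) = Y X ψ hψ hn a b s * Y X ψ hψ hn a b t := by
  have hab' := isRoot_iff_ab.1 hab
  set l : List (J n) := [a, b] with hl
  have hinj : ∀ x ∈ l, ∀ y ∈ l, ab x = ab y → x = y := by
    intro x hx y hy hxy
    simp only [hl, List.mem_cons, List.not_mem_nil, or_false] at hx hy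
    rcases hx with rfl | rfl <;> rcases hy with rfl | rfl <;>
      first
        | rfl
        | exact absurd hxy hab' | exact absurd hxy.symm hab'
  obtain ⟨S, hS⟩ := exists_half_stD (F := F) hn hX (hB l)
  have ha : half (hB l) (ab a) = a := half_hB l hinj a (by simp [hl])
  have hb : half (hB l) (ab b) = b := half_hB l hinj b (by simp [hl])
  set r : Root n := rt (ab a) (ab b) hab' with hr
  have key : ∀ u : F, Cfsg.Agent.S2086P.X S ψ hψ hn r u = Y X ψ hψ hn a b u := by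
    intro u
    unfold Cfsg.Agent.S2086P.X
    rw [hS, hS]
    simp only [rt_fst, rt_snd, hr]
    rw [ha, hb]
    have h1 : IsRoot a (half (hB l) (third hn (rt (ab a) (ab b) hab'))) := by
      rw [isRoot_iff_ab, ab_half]
      exact third_ne_fst hn (rt (ab a) (ab b) hab')
    have h2 : IsRoot (half (hB l) (third hn (rt (ab a) (ab b) hab'))) b := by
      rw [isRoot_iff_ab, ab_half]
      exact third_ne_snd hn (rt (ab a) (ab b) hab')
    rw [qcl_eq_Y hn4 hX ψ hψ hc hC hn h1 h2 hab u 1, mul_one]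
  rw [← key, ← key, ← key]
  exact (X_add S ψ hψ hc hn (qhC2_half ψ hC (hB l) S hS) r s t).symm

theorem qY_zero (hn4 : 4 ≤ n) (hX : DRel X) (ψ : E →* G) (hψ : Function.Surjective ψ)
    (hc : ψ.ker ≤ Subgroup.center E) (hC : DCL ψ X) (hn : 3 ≤ n) {a b : J n} (hab : IsRoot a b) :
    Y X ψ hψ hn a b 0 = 1 := by
  have h := qY_add hn4 hX ψ hψ hc hC hn hab 0 0
  rw [add_zero] at h
  exact (mul_eq_left.mp h.symm)

theorem qY_neg (hn4 : 4 ≤ n) (hX : DRel X) (ψ : E →* G) (hψ : Function.Surjective ψ)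
    (hc : ψ.ker ≤ Subgroup.center E) (hC : DCL ψ X) (hn : 3 ≤ n) {a b : J n} (hab : IsRoot a b)
    (t : F) :
    Y X ψ hψ hn a b (-t) = (Y X ψ hψ hn a b t)⁻¹ := by
  apply eq_inv_of_mul_eq_one_left
  rw [← qY_add hn4 hX ψ hψ hc hC hn hab, neg_add_cancel, qY_zero hn4 hX ψ hψ hc hC hn hab]

/-- YFLIP -/
theorem qY_flip (hn4 : 4 ≤ n) (hX : DRel X) (ψ : E →* G) (hψ : Function.Surjective ψ)
    (hc : ψ.ker ≤ Subgroup.center E) (hC : DCL ψ X) (hn : 3 ≤ n) {a b : J n} (hab : IsRoot a b)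
    (t : F) :
    Y X ψ hψ hn (ng b) (ng a) t = Y X ψ hψ hn a b (-t) := by
  have hka : IsRoot a (th hn a b) := isRoot_left_th hn a b
  have hkb : IsRoot (th hn a b) b := isRoot_th_right hn a b
  have e1 := qcl_eq_Y hn4 hX ψ hψ hc hC hn hkb.flip hka.flip hab.flip t 1
  rw [mul_one] at e1
  rw [← e1, hX.flip _ _ hkb t, hX.flip _ _ hka 1, ← cl_inv,
    qcl_eq_Y hn4 hX ψ hψ hc hC hn hka hkb hab (-1) (-t), neg_mul_neg, one_mul,
    qY_neg hn4 hX ψ hψ hc hC hn hab]

end

theorem qcm_eq_comm (a b : E) : cm a b = ⁅a, b⁆ := by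
  rw [cm_def, commutatorElement_def]

end QYPORT

open QYPORT

/-- QYPORT: the canonical lifts satisfy the Steinberg relations of type `D_n` -/
theorem dRel_Y_of_dcl [Fintype F] {X : J n → J n → F → G} (hn4 : 4 ≤ n) (hX : DRel X) (ψ : E →* G)
    (hψ : Function.Surjective ψ) (hc : ψ.ker ≤ Subgroup.center E) (hC : DCL ψ X) (hn : 3 ≤ n) :
    DRel (Y X ψ hψ hn) := by
  have hflip : ∀ a b, IsRoot a b → ∀ t : F, Y X ψ hψ hn (ng b) (ng a) t = Y X ψ hψ hn a b (-t) :=
    fun a b hab t => qY_flip hn4 hX ψ hψ hc hC hn hab t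
  have hadd : ∀ a b, IsRoot a b → ∀ s t : F,
      Y X ψ hψ hn a b (s + t) = Y X ψ hψ hn a b s * Y X ψ hψ hn a b t :=
    fun a b hab s t => qY_add hn4 hX ψ hψ hc hC hn hab s t
  have hmul : ∀ a b c, IsRoot a b → IsRoot b c → IsRoot a c → ∀ s t : F,
      cm (Y X ψ hψ hn a b s) (Y X ψ hψ hn b c t) = Y X ψ hψ hn a c (s * t) := by
    intro a b c hab hbc hac s t
    rw [qcm_eq_comm, cl_eq ψ hψ hc (map_Y hX ψ hψ hn hab s) (map_Y hX ψ hψ hn hbc t)]
    exact qcl_eq_Y hn4 hX ψ hψ hc hC hn hab hbc hac s t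
  have hcomm : ∀ a b c d, IsRoot a b → IsRoot c d → b ≠ c → a ≠ d → a ≠ ng c → a ≠ ng d →
      b ≠ ng c → b ≠ ng d → ∀ s t : F,
      Y X ψ hψ hn a b s * Y X ψ hψ hn c d t = Y X ψ hψ hn c d t * Y X ψ hψ hn a b s := by
    intro a b c d hab hcd h1 h2 h3 h4 h5 h6 s t
    exact hC a b c d hab hcd h1 h2 h3 h4 h5 h6 s t _ _ (map_Y hX ψ hψ hn hab s)
      (map_Y hX ψ hψ hn hcd t)
  have hcen : ∀ a b, IsRoot a b → ∀ s t : F,
      cm (Y X ψ hψ hn a b s) (Y X ψ hψ hn a (ng b) t) ∈ Subgroup.center E := by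
    intro a b hab s t
    have hab' : IsRoot a (ng b) := ⟨fun h => hab.2 h, fun h => hab.1 (by rw [h, ng_ng])⟩
    apply hc
    rw [MonoidHom.mem_ker, cm_def, map_mul, map_mul, map_mul, map_inv, map_inv,
      map_Y hX ψ hψ hn hab s, map_Y hX ψ hψ hn hab' t, hX.orth a b hab s t]
    group
  exact ⟨hflip, hadd, hmul, hcomm, orth_of_central hn hflip hadd hmul hcomm hcen⟩

end Cfsg.Agent.S2092P
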