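import Mathlib
import Cfsg.Agent.Helper10.S2092.DefsQ
import Cfsg.Agent.Helper2.S3352.WConj

set_option autoImplicit false
set_option linter.unusedSectionVars false
set_option linter.unusedVariables false

/-! S2092, part T for `|F| = 2`, piece QWGL (helper22; driver helper10): the Weyl element of
`e_b - e_b'` maps the long root element of `b` to that of `b'`. -/

namespace Cfsg.Agent.S2092P

open scoped commutatorElement
open Cfsg.Agent.S3352P Cfsg.Agent.S2096P
open Cfsg.Agent.S2086P (CL cl)

variable {n : ℕ} {F : Type*} [Field F] {G : Type*} [Group G] {E : Type*} [Group E]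
  {Xs : J n → J n → F → G} {Xl : J n → F → G}

namespace QWGL

theorem two_eq_zero [Fintype F] (hF : Fintype.card F = 2) : (2 : F) = 0 := by
  have := Nat.cast_card_eq_zero F
  rw [hF] at this
  exact_mod_cast this

theorem neg_one_eq [Fintype F] (hF : Fintype.card F = 2) : (-1 : F) = 1 := by
  have h2 := two_eq_zero hF
  have : (1 : F) + 1 = 0 := by rw [one_add_one_eq_two, h2]
  exact (eq_neg_of_add_eq_zero_left this).symm

theorem sgF_eq_one [Fintype F] (hF : Fintype.card F = 2) (a : J n) : sgF F a = 1 := by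
  cases a
  · simp
  · simp [neg_one_eq hF]

theorem Xl_zero (h : CRel Xs Xl) (a : J n) : Xl a 0 = 1 := by
  have := h.addl a 0 0
  rw [add_zero] at this
  exact (mul_eq_left.1 this.symm)

theorem Xs_zero (h : CRel Xs Xl) {a b : J n} (hab : IsRoot a b) : Xs a b 0 = 1 := by
  have := h.adds a b hab 0 0
  rw [add_zero] at this
  exact (mul_eq_left.1 this.symm)

end QWGL

open QWGL

theorem wX_conj_long [Fintype F] (hF : Fintype.card F = 2) (h : CRel Xs Xl) {b b' : J n}
    (hbb : IsRoot b b') :
    wX Xs b b' 1 * Xl b 1 * (wX Xs b b' 1)⁻¹ = Xl b' 1 := by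
  have h2 := two_eq_zero hF
  have hneg := neg_one_eq hF
  have h11 : (1 : F) + 1 = 0 := by rw [one_add_one_eq_two, h2]
  have hbb' : IsRoot b' b := hbb.symm
  have hne1 : b ≠ b' := hbb.1
  have hne2 : b ≠ ng b' := hbb.2
  have hne3 : b' ≠ ng b := hbb'.2
  have hw : wX Xs b b' 1 = Xs b b' 1 * Xs b' b 1 * Xs b b' 1 := by
    unfold wX
    rw [inv_one, hneg]
  rw [hw]
  set p := Xs b b' 1 with hp
  set q := Xs b' b 1 with hq
  set l := Xl b 1 with hl
  set l' := Xl b' 1 with hl'
  set m := Xs b' (ng b) 1 with hm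
  -- the facts
  have hpl : p * l = l * p := h.slcomm b b' b hbb hne1 (ng_ne b).symm 1 1
  have hql : q * l * q⁻¹ * l⁻¹ = m * l' := by
    have := h.sl b' b hbb' 1 1
    rw [commutatorElement_def, sgF_eq_one hF, sgF_eq_one hF] at this
    simpa using this
  have hroot1 : IsRoot b' (ng b) := by
    refine ⟨hne3, ?_⟩
    rw [ng_ng]; exact hbb'.1
  have hroot2 : IsRoot b (ng b') := by
    refine ⟨hne2, ?_⟩
    rw [ng_ng]; exact hne1
  have hpm : p * m = m * p := by
    have := h.orthC b b' hbb 1 1
    rw [mul_one, mul_one, h2, Xl_zero h, commutatorElement_eq_one_iff_commute] at this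
    exact this
  have hmm' : Xs b (ng b') 1 = m := by
    have := h.flip b (ng b') hroot2 1
    rw [ng_ng, sgF_eq_one hF, sgF_eq_one hF, mul_one, mul_one, hneg] at this
    exact this.symm
  have hpl' : p * l' * p⁻¹ * l'⁻¹ = m * l := by
    have := h.sl b b' hbb 1 1
    rw [commutatorElement_def, sgF_eq_one hF, sgF_eq_one hF] at this
    simp only [mul_one, one_pow] at this
    rw [hmm'] at this
    exact this
  have hm2 : m * m = 1 := by
    rw [hm, ← h.adds b' (ng b) hroot1, h11, Xs_zero h hroot1]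
  have hl2 : l * l = 1 := by
    rw [hl, ← h.addl, h11, Xl_zero h]
  have hll' : l * l' = l' * l := h.ll b b' hne3 1 1
  -- the computation
  have e1 : p * l * p⁻¹ = l := by rw [hpl, mul_inv_cancel_right]
  have e2 : q * l * q⁻¹ = m * l' * l := by rw [← hql]; group
  have e3 : p * m * p⁻¹ = m := by rw [hpm, mul_inv_cancel_right]
  have e4 : p * l' * p⁻¹ = m * l * l' := by rw [← hpl']; group
  calc p * q * p * l * (p * q * p)⁻¹ = p * (q * (p * l * p⁻¹) * q⁻¹) * p⁻¹ := by group
    _ = p * (m * l' * l) * p⁻¹ := by rw [e1, e2]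
    _ = (p * m * p⁻¹) * (p * l' * p⁻¹) * (p * l * p⁻¹) := by group
    _ = m * (m * l * l') * l := by rw [e3, e4, e1]
    _ = (m * m) * (l * l') * l := by group
    _ = l' := by rw [hm2, one_mul, hll', mul_assoc, hl2, mul_one]

end Cfsg.Agent.S2092P
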