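import Mathlib
import Cfsg.Agent.Helper10.S2092.DefsT
import Cfsg.Agent.Helper2.S2400.MainB2

set_option autoImplicit false
set_option linter.unusedSectionVars false
set_option linter.unusedVariables false

/-! S2092, part T, piece B2CS (helper22; driver helper10): the torus exponents on a circle are the
Cartan integers `cA`, and the `B2C` structure of a circle. -/

namespace Cfsg.Agent.S2092P

open scoped commutatorElement
open Cfsg.Agent.S3352P Cfsg.Agent.S2096P Cfsg.Agent.S2400P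
open Cfsg.Agent.S2086P (CL cl)

variable {n : ℕ} {F : Type*} [Field F] {G : Type*} [Group G] {E : Type*} [Group E]

namespace B2CS

theorem zmod8_cases (k : ZMod 8) :
    k = 0 ∨ k = 1 ∨ k = 2 ∨ k = 3 ∨ k = 4 ∨ k = 5 ∨ k = 6 ∨ k = 7 := by
  revert k; decide

theorem cA_eq : ∀ k' : ZMod 8,
    cA k' 0 = corI k' - corJ k' ∧ cA k' 1 = 2 * corI k' ∧ cA k' 2 = corI k' + corJ k' ∧
    cA k' 3 = 2 * corJ k' ∧ cA k' 4 = corJ k' - corI k' ∧ cA k' 5 = -(2 * corI k') ∧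
    cA k' 6 = -corI k' - corJ k' ∧ cA k' 7 = -(2 * corJ k') := by
  decide

theorem isRoot_ll {i j : Fin n} (hij : i ≠ j) : IsRoot (Sum.inl i : J n) (Sum.inl j) := by
  refine ⟨fun h => hij (Sum.inl.inj h), ?_⟩
  simp [ng]

theorem isRoot_lr {i j : Fin n} (hij : i ≠ j) : IsRoot (Sum.inl i : J n) (Sum.inr j) := by
  refine ⟨by simp, fun h => hij ?_⟩
  simpa [ng] using h

theorem isRoot_rl {i j : Fin n} (hij : i ≠ j) : IsRoot (Sum.inr i : J n) (Sum.inl j) := by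
  refine ⟨by simp, fun h => hij ?_⟩
  simpa [ng] using h

theorem isRoot_rr {i j : Fin n} (hij : i ≠ j) : IsRoot (Sum.inr i : J n) (Sum.inr j) := by
  refine ⟨fun h => hij (Sum.inr.inj h), ?_⟩
  simp [ng]

theorem chi_corD_i (i j : Fin n) (k' : ZMod 8) (w : Fˣ) :
    chi (corD i j k' w) (Sum.inl i : J n) = ((w : Fˣ) : F) ^ corI k' := by
  rw [chi_inl]
  unfold corD
  rw [if_pos rfl, Units.val_zpow_eq_zpow_val]

theorem chi_corD_j {i j : Fin n} (hij : i ≠ j) (k' : ZMod 8) (w : Fˣ) :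
    chi (corD i j k' w) (Sum.inl j : J n) = ((w : Fˣ) : F) ^ corJ k' := by
  rw [chi_inl]
  unfold corD
  rw [if_neg (Ne.symm hij), if_pos rfl, Units.val_zpow_eq_zpow_val]

theorem chi_corD_i' (i j : Fin n) (k' : ZMod 8) (w : Fˣ) :
    chi (corD i j k' w) (Sum.inr i : J n) = (((w : Fˣ) : F) ^ corI k')⁻¹ := by
  have := chi_ng (corD i j k' w) (Sum.inl i : J n)
  rw [chi_corD_i] at this
  exact this

theorem chi_corD_j' {i j : Fin n} (hij : i ≠ j) (k' : ZMod 8) (w : Fˣ) :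
    chi (corD i j k' w) (Sum.inr j : J n) = (((w : Fˣ) : F) ^ corJ k')⁻¹ := by
  have := chi_ng (corD i j k' w) (Sum.inl j : J n)
  rw [chi_corD_j hij] at this
  exact this

theorem sq_zpow (W : F) (m : ℤ) : (W ^ m) ^ 2 = W ^ (2 * m) := by
  rw [mul_comm, zpow_mul, zpow_ofNat]

theorem sq_inv_zpow (W : F) (m : ℤ) : ((W ^ m)⁻¹) ^ 2 = (W ^ (2 * m))⁻¹ := by
  rw [inv_pow, sq_zpow]

theorem tE1_sq : ∀ k s : ZMod 8, E1 k s * E1 k s = 1 := by decide
theorem tE3_sq : ∀ k s : ZMod 8, E3 k s * E3 k s = 1 := by decide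
theorem tE2_sq : ∀ k s : ZMod 8, E2 k s * E2 k s = 1 := by decide
theorem tE3_anti : ∀ k : ZMod 8, IsS k → E3 (k + 2) (-1) = - E3 k 1 := by decide

end B2CS

open B2CS

theorem cX_conj_of {M : Type*} [Group M] (Zs : J n → J n → F → M) (Zl : J n → F → M) (e : M)
    (d : Fin n → Fˣ)
    (hs : ∀ a b, IsRoot a b → ∀ t : F, e * Zs a b t * e⁻¹ = Zs a b (chi d a * (chi d b)⁻¹ * t))
    (hl : ∀ a, ∀ t : F, e * Zl a t * e⁻¹ = Zl a (chi d a ^ 2 * t))
    (i j : Fin n) (hij : i ≠ j) (k' : ZMod 8) (w : Fˣ) (hd : d = corD i j k' w) (k : ZMod 8) (t : F) :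
    e * cX Zs Zl i j k t * e⁻¹ = cX Zs Zl i j k (((w : Fˣ) : F) ^ (cA k' k) * t) := by
  subst hd
  have hW : ((w : Fˣ) : F) ≠ 0 := w.ne_zero
  obtain ⟨c0, c1, c2, c3, c4, c5, c6, c7⟩ := cA_eq k'
  set W : F := ((w : Fˣ) : F) with hWdef
  have hi := chi_corD_i (F := F) i j k' w
  have hj := chi_corD_j (F := F) hij k' w
  have hi' := chi_corD_i' (F := F) i j k' w
  have hj' := chi_corD_j' (F := F) hij k' w
  rcases zmod8_cases k with rfl | rfl | rfl | rfl | rfl | rfl | rfl | rfl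
  · show e * Zs (Sum.inl i) (Sum.inl j) t * e⁻¹ = Zs (Sum.inl i) (Sum.inl j) (W ^ cA k' 0 * t)
    rw [hs _ _ (isRoot_ll hij), hi, hj, c0, zpow_sub₀ hW, div_eq_mul_inv]
  · show e * Zl (Sum.inl i) t * e⁻¹ = Zl (Sum.inl i) (W ^ cA k' 1 * t)
    rw [hl, hi, c1, sq_zpow]
  · show e * Zs (Sum.inl i) (Sum.inr j) t * e⁻¹ = Zs (Sum.inl i) (Sum.inr j) (W ^ cA k' 2 * t)
    rw [hs _ _ (isRoot_lr hij), hi, hj', c2, zpow_add₀ hW, inv_inv]
  · show e * Zl (Sum.inl j) (-t) * e⁻¹ = Zl (Sum.inl j) (-(W ^ cA k' 3 * t))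
    rw [hl, hj, c3, sq_zpow, mul_neg]
  · show e * Zs (Sum.inl j) (Sum.inl i) t * e⁻¹ = Zs (Sum.inl j) (Sum.inl i) (W ^ cA k' 4 * t)
    rw [hs _ _ (isRoot_ll (Ne.symm hij)), hi, hj, c4, zpow_sub₀ hW, div_eq_mul_inv]
  · show e * Zl (Sum.inr i) t * e⁻¹ = Zl (Sum.inr i) (W ^ cA k' 5 * t)
    rw [hl, hi', c5, zpow_neg, sq_inv_zpow]
  · show e * Zs (Sum.inr i) (Sum.inl j) t * e⁻¹ = Zs (Sum.inr i) (Sum.inl j) (W ^ cA k' 6 * t)
    rw [hs _ _ (isRoot_rl hij), hi', hj, c6, zpow_sub₀ hW, zpow_neg, div_eq_mul_inv]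
  · show e * Zl (Sum.inr j) (-t) * e⁻¹ = Zl (Sum.inr j) (-(W ^ cA k' 7 * t))
    rw [hl, hj', c7, zpow_neg, sq_inv_zpow, mul_neg]

theorem exists_b2c_of_cnT (S : CnT n F G) (i j : Fin n) (hij : i ≠ j) :
    ∃ B : B2C F G, B.X = cX S.Xs S.Xl i j ∧ B.H = cH S.H i j ∧ B.e1 = cE1 F ∧ B.e2 = cE2 F ∧
      B.e3 = cE3 F := by
  have hcast : ∀ {a b : ℤ}, a * b = 1 → ((a : ℤ) : F) * ((b : ℤ) : F) = 1 := by
    intro a b h
    rw [← Int.cast_mul, h, Int.cast_one]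
  refine ⟨{ X := cX S.Xs S.Xl i j
            H := cH S.H i j
            e1 := cE1 F
            e2 := cE2 F
            e3 := cE3 F
            e1_sq := fun k s => hcast (tE1_sq k s)
            e2_sq := fun k s => hcast (tE2_sq k s)
            e3_sq := fun k s => hcast (tE3_sq k s)
            e213 := fun k s => by
              show ((E2 k s : ℤ) : F) = ((E1 k s : ℤ) : F) * ((E3 k s : ℤ) : F)
              rw [← Int.cast_mul]; rfl
            e3_anti := fun k hk => by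
              show ((E3 (k + 2) (-1) : ℤ) : F) = - ((E3 k 1 : ℤ) : F)
              rw [tE3_anti k hk, Int.cast_neg]
            circ := S.rel.circ i j hij
            conj := ?_
            hcomm := ?_ }, rfl, rfl, rfl, rfl, rfl⟩
  · intro k v hv j' t
    rw [cH_of_ne S.H i j k hv]
    exact cX_conj_of S.Xs S.Xl (S.H (corD i j k (Units.mk0 v hv))) (corD i j k (Units.mk0 v hv))
      (S.conjs _) (S.conjl _) i j hij k (Units.mk0 v hv) rfl j' t
  · intro k v k' v' hv hv'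
    rw [cH_of_ne S.H i j k hv, cH_of_ne S.H i j k' hv']
    exact (Commute.all _ _).map S.H

end Cfsg.Agent.S2092P
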