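import Mathlib
import Cfsg.Agent.Helper10.S2092.DefsT
import Cfsg.Agent.Helper2.S2400.MainB2
import Cfsg.Agent.Helper22.S2092B2CS

set_option autoImplicit false
set_option linter.unusedSectionVars false
set_option linter.unusedVariables false

/-! S2092, part T, piece CIRC2REL (helper22; driver helper10): the relations in circle form give the
relations of type `C_n` in explicit form (`2 ≤ n`: for `n = 1` there is no circle). -/

namespace Cfsg.Agent.S2092P

open scoped commutatorElement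
open Cfsg.Agent.S3352P Cfsg.Agent.S2096P Cfsg.Agent.S2400P
open Cfsg.Agent.S2086P (CL cl)

variable {n : ℕ} {F : Type*} [Field F] {G : Type*} [Group G] {E : Type*} [Group E]

namespace CIRC2REL

open B2CS

theorem two_le_of_isRoot {a b : J n} (hab : IsRoot a b) : 2 ≤ n := by
  have h := isRoot_iff_ab.1 hab
  by_contra hlt
  have : n ≤ 1 := by omega
  apply h
  have h1 := (ab a).2
  have h2 := (ab b).2
  apply Fin.ext
  omega

theorem e3_0_1 : cE3 F 0 1 = 1 := by
  unfold cE3; rw [show E3 0 1 = (1 : ℤ) from by decide]; simp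
theorem e3_2_m : cE3 F 2 (-1) = -1 := by
  unfold cE3; rw [show E3 2 (-1) = (-1 : ℤ) from by decide]; simp
theorem e3_6_m : cE3 F 6 (-1) = 1 := by
  unfold cE3; rw [show E3 6 (-1) = (1 : ℤ) from by decide]; simp
theorem e3_4_1 : cE3 F 4 1 = -1 := by
  unfold cE3; rw [show E3 4 1 = (-1 : ℤ) from by decide]; simp
theorem e1_0_1 : cE1 F 0 1 = -1 := by
  unfold cE1; rw [show E1 0 1 = (-1 : ℤ) from by decide]; simp
theorem e2_0_1 : cE2 F 0 1 = -1 := by
  unfold cE2; rw [show E2 0 1 = (-1 : ℤ) from by decide]; simp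
theorem e1_2_m : cE1 F 2 (-1) = -1 := by
  unfold cE1; rw [show E1 2 (-1) = (-1 : ℤ) from by decide]; simp
theorem e2_2_m : cE2 F 2 (-1) = 1 := by
  unfold cE2; rw [show E2 2 (-1) = (1 : ℤ) from by decide]; simp
theorem e1_6_m : cE1 F 6 (-1) = 1 := by
  unfold cE1; rw [show E1 6 (-1) = (1 : ℤ) from by decide]; simp
theorem e2_6_m : cE2 F 6 (-1) = 1 := by
  unfold cE2; rw [show E2 6 (-1) = (1 : ℤ) from by decide]; simp
theorem e1_4_1 : cE1 F 4 1 = 1 := by
  unfold cE1; rw [show E1 4 1 = (1 : ℤ) from by decide]; simp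
theorem e2_4_1 : cE2 F 4 1 = -1 := by
  unfold cE2; rw [show E2 4 1 = (-1 : ℤ) from by decide]; simp

variable {M : Type*} [Group M] {Xs : J n → J n → F → M} {Xl : J n → F → M}

theorem flip_rr (h : CRelC Xs Xl) {i j : Fin n} (hij : i ≠ j) (t : F) :
    Xs (Sum.inr i) (Sum.inr j) t = Xs (Sum.inl j) (Sum.inl i) (-t) := by
  have := h.flip (Sum.inl j) (Sum.inl i) (isRoot_ll (Ne.symm hij)) t
  simpa using this

theorem flip_lr (h : CRelC Xs Xl) {i j : Fin n} (hij : i ≠ j) (t : F) :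
    Xs (Sum.inl j) (Sum.inr i) t = Xs (Sum.inl i) (Sum.inr j) t := by
  have := h.flip (Sum.inl i) (Sum.inr j) (isRoot_lr hij) t
  simpa using this

theorem flip_rl (h : CRelC Xs Xl) {i j : Fin n} (hij : i ≠ j) (t : F) :
    Xs (Sum.inr j) (Sum.inl i) t = Xs (Sum.inr i) (Sum.inl j) t := by
  have := h.flip (Sum.inr i) (Sum.inl j) (isRoot_rl hij) t
  simpa using this

theorem ne_of_isRoot_ab {a b : J n} (hab : IsRoot a b) : ab a ≠ ab b := isRoot_iff_ab.1 hab

/-! the relations on one circle, in explicit names -/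

section circle

variable (h : CRelC Xs Xl) {i j : Fin n} (hij : i ≠ j)
include h hij

theorem add_ll (s t : F) : Xs (Sum.inl i) (Sum.inl j) (s + t) =
    Xs (Sum.inl i) (Sum.inl j) s * Xs (Sum.inl i) (Sum.inl j) t :=
  ((h.circ i j hij).add 0 s t).symm

theorem add_lr (s t : F) : Xs (Sum.inl i) (Sum.inr j) (s + t) =
    Xs (Sum.inl i) (Sum.inr j) s * Xs (Sum.inl i) (Sum.inr j) t :=
  ((h.circ i j hij).add 2 s t).symm

theorem add_rl (s t : F) : Xs (Sum.inr i) (Sum.inl j) (s + t) =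
    Xs (Sum.inr i) (Sum.inl j) s * Xs (Sum.inr i) (Sum.inl j) t :=
  ((h.circ i j hij).add 6 s t).symm

theorem add_rr (s t : F) : Xs (Sum.inr i) (Sum.inr j) (s + t) =
    Xs (Sum.inr i) (Sum.inr j) s * Xs (Sum.inr i) (Sum.inr j) t := by
  rw [flip_rr h hij, flip_rr h hij, flip_rr h hij, neg_add]
  exact add_ll h (Ne.symm hij) (-s) (-t)

theorem add_l (s t : F) : Xl (Sum.inl i) (s + t) = Xl (Sum.inl i) s * Xl (Sum.inl i) t :=
  ((h.circ i j hij).add 1 s t).symm

theorem add_r (s t : F) : Xl (Sum.inr i) (s + t) = Xl (Sum.inr i) s * Xl (Sum.inr i) t :=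
  ((h.circ i j hij).add 5 s t).symm

theorem orth_ll (s t : F) :
    ⁅Xs (Sum.inl i) (Sum.inl j) s, Xs (Sum.inl j) (Sum.inr i) t⁆ = Xl (Sum.inl i) (2 * s * t) := by
  have key : ⁅Xs (Sum.inl i) (Sum.inl j) s, Xs (Sum.inl i) (Sum.inr j) t⁆ =
      Xl (Sum.inl i) (2 * cE3 F 0 1 * s * t) :=
    (h.circ i j hij).relII 0 (by decide) 1 (Or.inl rfl) s t
  rw [flip_lr h hij, key, e3_0_1, mul_one]

theorem orth_lr (s t : F) :
    ⁅Xs (Sum.inl i) (Sum.inr j) s, Xs (Sum.inr j) (Sum.inr i) t⁆ = Xl (Sum.inl i) (2 * s * t) := by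
  have key : ⁅Xs (Sum.inl i) (Sum.inr j) s, Xs (Sum.inl i) (Sum.inl j) (-t)⁆ =
      Xl (Sum.inl i) (2 * cE3 F 2 (-1) * s * (-t)) :=
    (h.circ i j hij).relII 2 (by decide) (-1) (Or.inr rfl) s (-t)
  rw [flip_rr h (Ne.symm hij), key, e3_2_m]
  congr 1
  ring

theorem orth_rl (s t : F) :
    ⁅Xs (Sum.inr i) (Sum.inl j) s, Xs (Sum.inl j) (Sum.inl i) t⁆ = Xl (Sum.inr i) (2 * s * t) := by
  have key : ⁅Xs (Sum.inr i) (Sum.inl j) s, Xs (Sum.inl j) (Sum.inl i) t⁆ =
      Xl (Sum.inr i) (2 * cE3 F 6 (-1) * s * t) :=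
    (h.circ i j hij).relII 6 (by decide) (-1) (Or.inr rfl) s t
  rw [key, e3_6_m, mul_one]

theorem orth_rr (s t : F) :
    ⁅Xs (Sum.inr i) (Sum.inr j) s, Xs (Sum.inr j) (Sum.inl i) t⁆ = Xl (Sum.inr i) (2 * s * t) := by
  have key : ⁅Xs (Sum.inl j) (Sum.inl i) (-s), Xs (Sum.inr i) (Sum.inl j) t⁆ =
      Xl (Sum.inr i) (2 * cE3 F 4 1 * (-s) * t) :=
    (h.circ i j hij).relII 4 (by decide) 1 (Or.inl rfl) (-s) t
  rw [flip_rr h hij, flip_rl h hij, key, e3_4_1]
  congr 1
  ring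

theorem sl_ll (s t : F) :
    ⁅Xs (Sum.inl i) (Sum.inl j) s, Xl (Sum.inl j) t⁆ =
      Xs (Sum.inl i) (Sum.inr j) (s * t) * Xl (Sum.inl i) (s ^ 2 * t) := by
  have key : ⁅Xs (Sum.inl i) (Sum.inl j) s, Xl (Sum.inl j) (-(-t))⁆ =
      Xs (Sum.inl i) (Sum.inr j) (cE1 F 0 1 * s * (-t)) *
        Xl (Sum.inl i) (cE2 F 0 1 * s ^ 2 * (-t)) :=
    (h.circ i j hij).relI 0 (by decide) 1 (Or.inl rfl) s (-t)
  rw [neg_neg] at key
  rw [key, e1_0_1, e2_0_1]
  congr 2 <;> ring

theorem sl_lr (s t : F) :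
    ⁅Xs (Sum.inl i) (Sum.inr j) s, Xl (Sum.inr j) t⁆ =
      Xs (Sum.inl i) (Sum.inl j) (s * t) * Xl (Sum.inl i) (-(s ^ 2 * t)) := by
  have key : ⁅Xs (Sum.inl i) (Sum.inr j) s, Xl (Sum.inr j) (-(-t))⁆ =
      Xs (Sum.inl i) (Sum.inl j) (cE1 F 2 (-1) * s * (-t)) *
        Xl (Sum.inl i) (cE2 F 2 (-1) * s ^ 2 * (-t)) :=
    (h.circ i j hij).relI 2 (by decide) (-1) (Or.inr rfl) s (-t)
  rw [neg_neg] at key
  rw [key, e1_2_m, e2_2_m]
  congr 2 <;> ring

theorem sl_rl (s t : F) :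
    ⁅Xs (Sum.inr i) (Sum.inl j) s, Xl (Sum.inl j) t⁆ =
      Xs (Sum.inr i) (Sum.inr j) (s * t) * Xl (Sum.inr i) (-(s ^ 2 * t)) := by
  have key : ⁅Xs (Sum.inr i) (Sum.inl j) s, Xl (Sum.inl j) (-(-t))⁆ =
      Xs (Sum.inl j) (Sum.inl i) (cE1 F 6 (-1) * s * (-t)) *
        Xl (Sum.inr i) (cE2 F 6 (-1) * s ^ 2 * (-t)) :=
    (h.circ i j hij).relI 6 (by decide) (-1) (Or.inr rfl) s (-t)
  rw [neg_neg] at key
  rw [key, e1_6_m, e2_6_m, flip_rr h hij]
  congr 2 <;> ring

theorem sl_rr (s t : F) :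
    ⁅Xs (Sum.inr i) (Sum.inr j) s, Xl (Sum.inr j) t⁆ =
      Xs (Sum.inr i) (Sum.inl j) (s * t) * Xl (Sum.inr i) (s ^ 2 * t) := by
  have key : ⁅Xs (Sum.inl j) (Sum.inl i) (-s), Xl (Sum.inr j) (-(-t))⁆ =
      Xs (Sum.inr i) (Sum.inl j) (cE1 F 4 1 * (-s) * (-t)) *
        Xl (Sum.inr i) (cE2 F 4 1 * (-s) ^ 2 * (-t)) :=
    (h.circ i j hij).relI 4 (by decide) 1 (Or.inl rfl) (-s) (-t)
  rw [neg_neg] at key
  rw [flip_rr h hij, key, e1_4_1, e2_4_1]
  congr 2 <;> ring

/-! 45 degrees: the long root is `a` -/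

theorem c45_ll_a (s t : F) : Commute (Xs (Sum.inl i) (Sum.inl j) s) (Xl (Sum.inl i) t) :=
  (h.circ i j hij).comm45 0 s t

theorem c45_lr_a (s t : F) : Commute (Xs (Sum.inl i) (Sum.inr j) s) (Xl (Sum.inl i) t) :=
  ((h.circ i j hij).comm45 1 t s).symm

theorem c45_rl_a (s t : F) : Commute (Xs (Sum.inr i) (Sum.inl j) s) (Xl (Sum.inr i) t) :=
  ((h.circ i j hij).comm45 5 t s).symm

theorem c45_rr_a (s t : F) : Commute (Xs (Sum.inr i) (Sum.inr j) s) (Xl (Sum.inr i) t) := by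
  rw [flip_rr h hij]
  exact (h.circ i j hij).comm45 4 (-s) t

/-! 45 degrees: the long root is `ng b` -/

theorem c45_ll_b (s t : F) : Commute (Xs (Sum.inl i) (Sum.inl j) s) (Xl (Sum.inr j) t) := by
  have key : Commute (Xl (Sum.inr j) (-(-t))) (Xs (Sum.inl i) (Sum.inl j) s) :=
    (h.circ i j hij).comm45 7 (-t) s
  rw [neg_neg] at key
  exact key.symm

theorem c45_lr_b (s t : F) : Commute (Xs (Sum.inl i) (Sum.inr j) s) (Xl (Sum.inl j) t) := by
  have key : Commute (Xs (Sum.inl i) (Sum.inr j) s) (Xl (Sum.inl j) (-(-t))) :=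
    (h.circ i j hij).comm45 2 s (-t)
  rw [neg_neg] at key
  exact key

theorem c45_rl_b (s t : F) : Commute (Xs (Sum.inr i) (Sum.inl j) s) (Xl (Sum.inr j) t) := by
  have key : Commute (Xs (Sum.inr i) (Sum.inl j) s) (Xl (Sum.inr j) (-(-t))) :=
    (h.circ i j hij).comm45 6 s (-t)
  rw [neg_neg] at key
  exact key

theorem c45_rr_b (s t : F) : Commute (Xs (Sum.inr i) (Sum.inr j) s) (Xl (Sum.inl j) t) := by
  have key : Commute (Xl (Sum.inl j) (-(-t))) (Xs (Sum.inl j) (Sum.inl i) (-s)) :=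
    (h.circ i j hij).comm45 3 (-t) (-s)
  rw [neg_neg] at key
  rw [flip_rr h hij]
  exact key.symm

/-! long roots -/

theorem ll_ll (s t : F) : Commute (Xl (Sum.inl i) s) (Xl (Sum.inl j) t) := by
  have key : Commute (Xl (Sum.inl i) s) (Xl (Sum.inl j) (-(-t))) :=
    (h.circ i j hij).commLL 1 (by decide) s (-t)
  rw [neg_neg] at key
  exact key

theorem ll_lr (s t : F) : Commute (Xl (Sum.inl i) s) (Xl (Sum.inr j) t) := by
  have key : Commute (Xl (Sum.inr j) (-(-t))) (Xl (Sum.inl i) s) :=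
    (h.circ i j hij).commLL 7 (by decide) (-t) s
  rw [neg_neg] at key
  exact key.symm

theorem ll_rl (s t : F) : Commute (Xl (Sum.inr i) s) (Xl (Sum.inl j) t) := by
  have key : Commute (Xl (Sum.inl j) (-(-t))) (Xl (Sum.inr i) s) :=
    (h.circ i j hij).commLL 3 (by decide) (-t) s
  rw [neg_neg] at key
  exact key.symm

theorem ll_rr (s t : F) : Commute (Xl (Sum.inr i) s) (Xl (Sum.inr j) t) := by
  have key : Commute (Xl (Sum.inr i) s) (Xl (Sum.inr j) (-(-t))) :=
    (h.circ i j hij).commLL 5 (by decide) s (-t)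
  rw [neg_neg] at key
  exact key

end circle

theorem exists_ne' (hn : 2 ≤ n) (i : Fin n) : ∃ j : Fin n, i ≠ j := by
  obtain ⟨j, hj⟩ := exists_ne_fin hn i
  exact ⟨j, Ne.symm hj⟩

theorem addl' (hn : 2 ≤ n) (h : CRelC Xs Xl) (a : J n) (s t : F) :
    Xl a (s + t) = Xl a s * Xl a t := by
  rcases a with i | i
  · obtain ⟨j, hij⟩ := exists_ne' hn i
    exact add_l h hij s t
  · obtain ⟨j, hij⟩ := exists_ne' hn i
    exact add_r h hij s t

end CIRC2REL

open CIRC2REL

/-- CIRC2REL (with `2 ≤ n`; for `n = 1` there are no circles and `CRelC` is empty) -/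
theorem cRel_of_cRelC {M : Type*} [Group M] {Xs : J n → J n → F → M} {Xl : J n → F → M}
    (hn : 2 ≤ n) (h : CRelC Xs Xl) : CRel Xs Xl := by
  refine ⟨h.flip, ?_, addl' hn h, h.mul, h.comm, ?_, ?_, ?_, ?_⟩
  · -- adds
    intro a b hab s t
    have hij := ne_of_isRoot_ab hab
    rcases a with i | i <;> rcases b with j | j <;> simp only [ab_inl, ab_inr] at hij
    · exact add_ll h hij s t
    · exact add_lr h hij s t
    · exact add_rl h hij s t
    · exact add_rr h hij s t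
  · -- orthC
    intro a b hab s t
    have hij := ne_of_isRoot_ab hab
    rcases a with i | i <;> rcases b with j | j <;> simp only [ab_inl, ab_inr] at hij
    · exact orth_ll h hij s t
    · exact orth_lr h hij s t
    · exact orth_rl h hij s t
    · exact orth_rr h hij s t
  · -- sl
    intro a b hab s t
    have hij := ne_of_isRoot_ab hab
    rcases a with i | i <;> rcases b with j | j <;> simp only [ab_inl, ab_inr] at hij
    · rw [sl_ll h hij s t]
      simp
    · rw [sl_lr h hij s t]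
      simp
    · rw [sl_rl h hij s t]
      simp
    · rw [sl_rr h hij s t]
      simp
  · -- slcomm
    intro a b c hab hcb hca s t
    have hij := ne_of_isRoot_ab hab
    by_cases h1 : ab c = ab a
    · -- c = a
      have hc : c = a := by
        rcases eq_or_eq_ng_of_ab_eq h1 with h' | h'
        · exact h'
        · exact absurd h' hca
      subst hc
      rcases c with i | i <;> rcases b with j | j <;> simp only [ab_inl, ab_inr] at hij
      · exact c45_ll_a h hij s t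
      · exact c45_lr_a h hij s t
      · exact c45_rl_a h hij s t
      · exact c45_rr_a h hij s t
    · by_cases h2 : ab c = ab b
      · have hc : c = ng b := by
          rcases eq_or_eq_ng_of_ab_eq h2 with h' | h'
          · exact absurd h' hcb
          · exact h'
        subst hc
        rcases a with i | i <;> rcases b with j | j <;> simp only [ab_inl, ab_inr] at hij
        · exact c45_ll_b h hij s t
        · exact c45_lr_b h hij s t
        · exact c45_rl_b h hij s t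
        · exact c45_rr_b h hij s t
      · exact h.slcomm a b c hab h1 h2 s t
  · -- ll
    intro a c hc s t
    by_cases h1 : ab c = ab a
    · have hca : c = a := by
        rcases eq_or_eq_ng_of_ab_eq h1 with h' | h'
        · exact h'
        · exact absurd h' hc
      subst hca
      show Xl c s * Xl c t = Xl c t * Xl c s
      rw [← addl' hn h, ← addl' hn h, add_comm]
    · have hij : ab a ≠ ab c := fun h' => h1 h'.symm
      rcases a with i | i <;> rcases c with j | j <;> simp only [ab_inl, ab_inr] at hij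
      · exact ll_ll h hij s t
      · exact ll_lr h hij s t
      · exact ll_rl h hij s t
      · exact ll_rr h hij s t

end Cfsg.Agent.S2092P
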