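import Mathlib
import Cfsg.Agent.Helper2.S2096.Defs
import Cfsg.Agent.Helper25.S2096WXID
import Cfsg.Agent.Helper25.S2096WXCONJW
import Cfsg.Agent.Helper5.S2096TXID
import Cfsg.Agent.Helper3.S2096HNORM

/-! # S2096 piece CREL2 (helper22): conjugating a sign change `cS o j` by a Weyl element of a root
`e_i - e_k` away from the base point `o` -/

set_option autoImplicit false
set_option linter.unusedSectionVars false
set_option linter.unusedVariables false

namespace Cfsg.Agent.S2096P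

open Matrix Cfsg.Agent.S3352P Cfsg.Agent.S3351P Cfsg.Agent.S2086P

variable {n : ℕ} {F : Type*} [Field F] [Fintype F] {M : Type*} [Group M] {X : J n → J n → F → M}

namespace CREL2

theorem isRoot_ll {i j : Fin n} (h : i ≠ j) : IsRoot (Sum.inl i : J n) (Sum.inl j) :=
  isRoot_iff_ab.2 (by simpa using h)

theorem isRoot_lr {i j : Fin n} (h : i ≠ j) : IsRoot (Sum.inl i : J n) (Sum.inr j) :=
  isRoot_iff_ab.2 (by simpa using h)

theorem isRoot_rl {i j : Fin n} (h : i ≠ j) : IsRoot (Sum.inr i : J n) (Sum.inl j) :=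
  isRoot_iff_ab.2 (by simpa using h)

theorem isRoot_rr {i j : Fin n} (h : i ≠ j) : IsRoot (Sum.inr i : J n) (Sum.inr j) :=
  isRoot_iff_ab.2 (by simpa using h)

theorem wX_mem_Nh {a b : J n} (hab : IsRoot a b) {t : F} (ht : t ≠ 0) : wX X a b t ∈ Nh X :=
  Subgroup.subset_closure ⟨a, b, t, hab, ht, rfl⟩

theorem tX_mem_Hh {a b : J n} (hab : IsRoot a b) {t : F} (ht : t ≠ 0) : tX X a b t ∈ Hh X :=
  Subgroup.subset_closure ⟨a, b, t, hab, ht, rfl⟩

theorem cS_mem_CS {o j : Fin n} (hjo : j ≠ o) : cS X o j ∈ CS X o :=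
  Subgroup.subset_closure ⟨j, hjo, rfl⟩

/-- a product of two Weyl elements of the roots `e_o - e_j`, `e_o + e_j` is `cS o j` up to the torus -/
theorem wX_mul_wX_mem (π : M →* Matrix (J n) (J n) F)
    (hπ : ∀ a b, IsRoot a b → ∀ t : F, π (X a b t) = xm a b t) (hn : 3 ≤ n) (hX : DRel X)
    {o j : Fin n} (hjo : j ≠ o) {η₁ η₂ : F} (h1 : η₁ ≠ 0) (h2 : η₂ ≠ 0) :
    ∃ h ∈ Hh X, wX X (Sum.inl o) (Sum.inl j) η₁ * wX X (Sum.inl o) (Sum.inr j) η₂ = h * cS X o j := by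
  have r1 : IsRoot (Sum.inl o : J n) (Sum.inl j) := isRoot_ll hjo.symm
  have r2 : IsRoot (Sum.inl o : J n) (Sum.inr j) := isRoot_lr hjo.symm
  refine ⟨tX X (Sum.inl o) (Sum.inl j) η₁ *
      (wX X (Sum.inl o) (Sum.inl j) 1 * tX X (Sum.inl o) (Sum.inr j) η₂ *
        (wX X (Sum.inl o) (Sum.inl j) 1)⁻¹), ?_, ?_⟩
  · exact Subgroup.mul_mem _ (tX_mem_Hh r1 h1)
      (Hh_conj_mem π hπ hn hX (wX_mem_Nh r1 one_ne_zero) (tX_mem_Hh r2 h2))
  · rw [wX_eq_tX_mul hX r1 η₁, wX_eq_tX_mul hX r2 η₂]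
    unfold cS
    group

/-- the action of `sw (inl i) (inl k)` on the signed indices -/
theorem sw_ll_inl (i k j : Fin n) :
    sw (Sum.inl i : J n) (Sum.inl k) (Sum.inl j) = Sum.inl (Equiv.swap i k j) := by
  have e1 : Equiv.swap (Sum.inr i : J n) (Sum.inr k) (Sum.inl j) = Sum.inl j :=
    Equiv.swap_apply_of_ne_of_ne (by simp) (by simp)
  unfold sw
  rw [Equiv.Perm.mul_apply, ng_inl, ng_inl, e1]
  by_cases h1 : j = i
  · subst h1
    rw [Equiv.swap_apply_left, Equiv.swap_apply_left]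
  · by_cases h2 : j = k
    · subst h2
      rw [Equiv.swap_apply_right, Equiv.swap_apply_right]
    · rw [Equiv.swap_apply_of_ne_of_ne h1 h2]
      exact Equiv.swap_apply_of_ne_of_ne (by simpa using h1) (by simpa using h2)

theorem sw_ll_inr (i k j : Fin n) :
    sw (Sum.inl i : J n) (Sum.inl k) (Sum.inr j) = Sum.inr (Equiv.swap i k j) := by
  have e1 : ∀ x : Fin n, Equiv.swap (Sum.inl i : J n) (Sum.inl k) (Sum.inr x) = Sum.inr x :=
    fun x => Equiv.swap_apply_of_ne_of_ne (by simp) (by simp)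
  have e2 : Equiv.swap (Sum.inr i : J n) (Sum.inr k) (Sum.inr j) = Sum.inr (Equiv.swap i k j) := by
    by_cases h1 : j = i
    · subst h1
      rw [Equiv.swap_apply_left, Equiv.swap_apply_left]
    · by_cases h2 : j = k
      · subst h2
        rw [Equiv.swap_apply_right, Equiv.swap_apply_right]
      · rw [Equiv.swap_apply_of_ne_of_ne h1 h2]
        exact Equiv.swap_apply_of_ne_of_ne (by simpa using h1) (by simpa using h2)
  unfold sw
  rw [Equiv.Perm.mul_apply, ng_inl, ng_inl, e2, e1]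

end CREL2

open CREL2 in
/-- CREL2 -/
theorem wX_conj_cS_mem_of_ne (π : M →* Matrix (J n) (J n) F)
    (hπ : ∀ a b, IsRoot a b → ∀ t : F, π (X a b t) = xm a b t) (hn : 3 ≤ n) (hX : DRel X) {o i k j : Fin n} (hio : i ≠ o)
    (hko : k ≠ o) (hik : i ≠ k) (hjo : j ≠ o) :
    wX X (Sum.inl i) (Sum.inl k) 1 * cS X o j * (wX X (Sum.inl i) (Sum.inl k) 1)⁻¹ ∈
      CS X o ⊔ Hh X := by
  have rik : IsRoot (Sum.inl i : J n) (Sum.inl k) := isRoot_ll hik
  have r1 : IsRoot (Sum.inl o : J n) (Sum.inl j) := isRoot_ll hjo.symm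
  have r2 : IsRoot (Sum.inl o : J n) (Sum.inr j) := isRoot_lr hjo.symm
  obtain ⟨η₁, hη₁, H1⟩ := wX_conj_wX π hπ hn hX rik (one_ne_zero (α := F)) r1
  obtain ⟨η₂, hη₂, H2⟩ := wX_conj_wX π hπ hn hX rik (one_ne_zero (α := F)) r2
  have H1' := H1 1 one_ne_zero
  have H2' := H2 1 one_ne_zero
  rw [mul_one, sw_ll_inl, sw_ll_inl, Equiv.swap_apply_of_ne_of_ne hio.symm hko.symm] at H1'
  rw [mul_one, sw_ll_inl, sw_ll_inr, Equiv.swap_apply_of_ne_of_ne hio.symm hko.symm] at H2'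
  have hj' : Equiv.swap i k j ≠ o := by
    intro h
    apply hjo
    have := congrArg (Equiv.swap i k) h
    rwa [Equiv.swap_apply_self, Equiv.swap_apply_of_ne_of_ne hio.symm hko.symm] at this
  obtain ⟨h, hh, hEq⟩ := wX_mul_wX_mem π hπ hn hX hj' hη₁ hη₂
  have key : wX X (Sum.inl i) (Sum.inl k) 1 * cS X o j * (wX X (Sum.inl i) (Sum.inl k) 1)⁻¹ =
      h * cS X o (Equiv.swap i k j) := by
    rw [← hEq, ← H1', ← H2']
    unfold cS
    group
  rw [key]
  exact Subgroup.mul_mem _ (Subgroup.mem_sup_right hh) (Subgroup.mem_sup_left (cS_mem_CS hj'))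

end Cfsg.Agent.S2096P
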