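import Mathlib
import Cfsg.Agent.Helper2.S2096.Defs
import Cfsg.Agent.Helper2.S3352.WConj
import Cfsg.Agent.Helper25.S2096WXID
import Cfsg.Agent.Helper25.S2096WXCONJW
import Cfsg.Agent.Helper5.S2096TXID
import Cfsg.Agent.Helper3.S2096HNORM
import Cfsg.Agent.Helper22.S2096CREL2

/-! # S2096 piece CREL3 (helper22): conjugating a sign change `cS o j` by the Weyl element of a root
`e_o - e_k` through the base point `o` -/

set_option autoImplicit false
set_option linter.unusedSectionVars false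
set_option linter.unusedVariables false

namespace Cfsg.Agent.S2096P

open Matrix Cfsg.Agent.S3352P Cfsg.Agent.S3351P Cfsg.Agent.S2086P

variable {n : ℕ} {F : Type*} [Field F] [Fintype F] {M : Type*} [Group M] {X : J n → J n → F → M}

namespace CREL3

theorem sw_fix {a b c : J n} (h1 : c ≠ a) (h2 : c ≠ b) (h3 : c ≠ ng a) (h4 : c ≠ ng b) :
    sw a b c = c := by
  unfold sw
  rw [Equiv.Perm.mul_apply, Equiv.swap_apply_of_ne_of_ne h3 h4, Equiv.swap_apply_of_ne_of_ne h1 h2]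

theorem sw_ng_left {a b : J n} (hab : IsRoot a b) : sw a b (ng a) = ng b := by
  rw [sw_ng, WCONJ.sw_left a b hab]

theorem sw_ng_right {a b : J n} (hab : IsRoot a b) : sw a b (ng b) = ng a := by
  rw [sw_ng, WCONJ.sw_right a b hab]

/-- flip and swap: changing both signs of a root inverts the parameter of the Weyl element -/
theorem wX_ng_left (hn : 3 ≤ n) (hX : DRel X) {a b : J n} (hab : IsRoot a b) {t : F} (ht : t ≠ 0) :
    wX X (ng a) b t = wX X a (ng b) t⁻¹ := by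
  have r1 : IsRoot (ng b) a := ⟨fun h => hab.2 h.symm, fun h => hab.1 (ng_injective h).symm⟩
  have r2 : IsRoot a (ng b) := r1.symm
  have h1 := wX_flip hX r1 t
  rw [ng_ng] at h1
  rw [h1, wX_swap hn hX r2 (neg_ne_zero.mpr ht), inv_neg, neg_neg]

/-- the square of a Weyl element lies in the torus -/
theorem wX_one_sq_mem (hX : DRel X) {a b : J n} (hab : IsRoot a b) :
    wX X a b 1 * wX X a b 1 ∈ Hh X := by
  have h1 : tX X a b (-1) = (wX X a b 1 * wX X a b 1)⁻¹ := by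
    unfold tX
    rw [← wX_inv' hX hab 1, _root_.mul_inv_rev]
  have h2 : wX X a b 1 * wX X a b 1 = (tX X a b (-1))⁻¹ := by rw [h1, inv_inv]
  rw [h2]
  exact Subgroup.inv_mem _ (CREL2.tX_mem_Hh hab (neg_ne_zero.mpr one_ne_zero))

end CREL3

open CREL2 CREL3 in
/-- CREL3 -/
theorem wX_conj_cS_mem_base (π : M →* Matrix (J n) (J n) F)
    (hπ : ∀ a b, IsRoot a b → ∀ t : F, π (X a b t) = xm a b t) (hn : 3 ≤ n) (hX : DRel X) {o k j : Fin n} (hko : k ≠ o)
    (hjo : j ≠ o) :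
    wX X (Sum.inl o) (Sum.inl k) 1 * cS X o j * (wX X (Sum.inl o) (Sum.inl k) 1)⁻¹ ∈
      CS X o ⊔ Hh X := by
  have rok : IsRoot (Sum.inl o : J n) (Sum.inl k) := isRoot_ll hko.symm
  have r1 : IsRoot (Sum.inl o : J n) (Sum.inl j) := isRoot_ll hjo.symm
  have r2 : IsRoot (Sum.inl o : J n) (Sum.inr j) := isRoot_lr hjo.symm
  have hνinv : (wX X (Sum.inl o) (Sum.inl k) 1)⁻¹ = wX X (Sum.inl o) (Sum.inl k) (-1) :=
    wX_inv' hX rok 1
  have m1 : (-1 : F) ≠ 0 := neg_ne_zero.mpr one_ne_zero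
  by_cases hjk : j = k
  · subst hjk
    -- conjugate by `w₂`
    obtain ⟨η, hη, H⟩ := wX_conj_wX π hπ hn hX r2 (one_ne_zero (α := F)) rok
    have e1 : sw (Sum.inl o : J n) (Sum.inr j) (Sum.inl o) = Sum.inr j := WCONJ.sw_left _ _ r2
    have e2 : sw (Sum.inl o : J n) (Sum.inr j) (Sum.inl j) = Sum.inr o := by
      have := sw_ng_right r2
      rwa [ng_inr, ng_inl] at this
    rw [e1, e2] at H
    have rjo : IsRoot (Sum.inr j : J n) (Sum.inr o) := isRoot_rr hjo
    obtain ⟨η', hη', H'⟩ := wX_conj_wX π hπ hn hX rok (one_ne_zero (α := F)) rjo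
    have e3 : sw (Sum.inl o : J n) (Sum.inl j) (Sum.inr j) = Sum.inr o := by
      have := sw_ng_right rok
      rwa [ng_inl, ng_inl] at this
    have e4 : sw (Sum.inl o : J n) (Sum.inl j) (Sum.inr o) = Sum.inr j := by
      have := sw_ng_left rok
      rwa [ng_inl, ng_inl] at this
    rw [e3, e4] at H'
    have hζ : η' * (η * (-1)) ≠ 0 := mul_ne_zero hη' (mul_ne_zero hη m1)
    have e5 : wX X (Sum.inr o) (Sum.inr j) (η' * (η * (-1))) =
        wX X (Sum.inl o) (Sum.inl j) (η' * (η * (-1)))⁻¹ := by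
      have := wX_ng_left (X := X) hn hX r2 hζ
      rwa [ng_inl, ng_inr] at this
    have hc : cS X o j * wX X (Sum.inl o) (Sum.inl j) (-1) * (cS X o j)⁻¹ =
        wX X (Sum.inl o) (Sum.inl j) (η' * (η * (-1)))⁻¹ := by
      rw [← e5, ← H' (η * (-1)) (mul_ne_zero hη m1), ← H (-1) m1]
      unfold cS
      group
    have hmem : wX X (Sum.inl o) (Sum.inl j) 1 * wX X (Sum.inl o) (Sum.inl j) (η' * (η * (-1)))⁻¹ ∈
        Hh X := by
      rw [wX_eq_tX_mul hX rok (η' * (η * (-1)))⁻¹]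
      have h3 : wX X (Sum.inl o) (Sum.inl j) 1 *
          (tX X (Sum.inl o) (Sum.inl j) (η' * (η * (-1)))⁻¹ * wX X (Sum.inl o) (Sum.inl j) 1) =
          (wX X (Sum.inl o) (Sum.inl j) 1 * tX X (Sum.inl o) (Sum.inl j) (η' * (η * (-1)))⁻¹ *
            (wX X (Sum.inl o) (Sum.inl j) 1)⁻¹) *
          (wX X (Sum.inl o) (Sum.inl j) 1 * wX X (Sum.inl o) (Sum.inl j) 1) := by group
      rw [h3]
      exact Subgroup.mul_mem _
        (Hh_conj_mem π hπ hn hX (wX_mem_Nh rok one_ne_zero) (tX_mem_Hh rok (inv_ne_zero hζ)))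
        (wX_one_sq_mem hX rok)
    have key : wX X (Sum.inl o) (Sum.inl j) 1 * cS X o j * (wX X (Sum.inl o) (Sum.inl j) 1)⁻¹ =
        (wX X (Sum.inl o) (Sum.inl j) 1 * wX X (Sum.inl o) (Sum.inl j) (η' * (η * (-1)))⁻¹) *
          cS X o j := by
      rw [← hc, ← hνinv]
      group
    rw [key]
    exact Subgroup.mul_mem _ (Subgroup.mem_sup_right hmem) (Subgroup.mem_sup_left (cS_mem_CS hjo))
  · -- `j ≠ k`
    obtain ⟨η, hη, H⟩ := wX_conj_wX π hπ hn hX r2 (one_ne_zero (α := F)) rok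
    have e1 : sw (Sum.inl o : J n) (Sum.inr j) (Sum.inl o) = Sum.inr j := WCONJ.sw_left _ _ r2
    have e2 : sw (Sum.inl o : J n) (Sum.inr j) (Sum.inl k) = Sum.inl k := by
      apply sw_fix
      · simpa using hko
      · simp
      · simp
      · simpa using Ne.symm hjk
    rw [e1, e2] at H
    have rjk : IsRoot (Sum.inr j : J n) (Sum.inl k) := isRoot_rl hjk
    obtain ⟨η', hη', H'⟩ := wX_conj_wX π hπ hn hX r1 (one_ne_zero (α := F)) rjk
    have e3 : sw (Sum.inl o : J n) (Sum.inl j) (Sum.inr j) = Sum.inr o := by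
      have := sw_ng_right r1
      rwa [ng_inl, ng_inl] at this
    have e4 : sw (Sum.inl o : J n) (Sum.inl j) (Sum.inl k) = Sum.inl k := by
      apply sw_fix
      · simpa using hko
      · simpa using Ne.symm hjk
      · simp
      · simp
    rw [e3, e4] at H'
    have hζ : η' * (η * (-1)) ≠ 0 := mul_ne_zero hη' (mul_ne_zero hη m1)
    have e5 : wX X (Sum.inr o) (Sum.inl k) (η' * (η * (-1))) =
        wX X (Sum.inl o) (Sum.inr k) (η' * (η * (-1)))⁻¹ := by
      have := wX_ng_left (X := X) hn hX rok hζ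
      rwa [ng_inl, ng_inl] at this
    have hc : cS X o j * wX X (Sum.inl o) (Sum.inl k) (-1) * (cS X o j)⁻¹ =
        wX X (Sum.inl o) (Sum.inr k) (η' * (η * (-1)))⁻¹ := by
      rw [← e5, ← H' (η * (-1)) (mul_ne_zero hη m1), ← H (-1) m1]
      unfold cS
      group
    obtain ⟨h, hh, hEq⟩ := wX_mul_wX_mem π hπ hn hX hko (one_ne_zero (α := F)) (inv_ne_zero hζ)
    have key : wX X (Sum.inl o) (Sum.inl k) 1 * cS X o j * (wX X (Sum.inl o) (Sum.inl k) 1)⁻¹ =
        h * cS X o k * cS X o j := by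
      rw [← hEq, ← hc, ← hνinv]
      group
    rw [key]
    exact Subgroup.mul_mem _ (Subgroup.mul_mem _ (Subgroup.mem_sup_right hh)
      (Subgroup.mem_sup_left (cS_mem_CS hko))) (Subgroup.mem_sup_left (cS_mem_CS hjo))

end Cfsg.Agent.S2096P
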