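import Mathlib
import Cfsg.Agent.Helper7.S2862Defs
import Cfsg.Agent.Helper14.PCore

/-! Board `s2862pieces`, row CP4: `fixP_le le_fixP commP_le le_commP fixP_anti commP_mono`
(with a private copy `CP4_aux_mem_fixP` of the membership criterion of row CP3). -/

set_option autoImplicit false
set_option linter.unusedVariables false

namespace Cfsg.Agent.S2862P

open Cfsg
open Cfsg.Agent.Helper14 (cj)
open Subgroup
open scoped commutatorElement

variable {G : Type*} [Group G] [Finite G] {p : ℕ} [Fact p.Prime]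
variable {H Y D L L0 Vt Vb : Subgroup G}

theorem CP4_aux_conj_mem {Z : Subgroup G} {g : G} (hg : g ∈ normalizer (Z : Set G)) {x : G} (hx : x ∈ Z) :
    g * x * g⁻¹ ∈ Z := (Subgroup.mem_normalizer_iff.mp hg x).mp hx

theorem CP4_aux_conj_mem' {Z : Subgroup G} {g : G} (hg : g ∈ normalizer (Z : Set G)) {x : G} (hx : x ∈ Z) :
    g⁻¹ * x * g ∈ Z := by
  have := CP4_aux_conj_mem ((normalizer (Z : Set G)).inv_mem hg) hx
  simpa using this

theorem CP4_aux_Vt_le_H (C : ChiefPair p H Vt Vb) : Vt ≤ H := C.le.trans (Cfsg.Agent.Helper14.pCoreOf_le p H)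

theorem CP4_aux_comm_mul_left (v w a : G) : ⁅v * w, a⁆ = v * ⁅w, a⁆ * v⁻¹ * ⁅v, a⁆ := by
  simp only [commutatorElement_def]; group

theorem CP4_aux_comm_inv_left (v a : G) : ⁅v⁻¹, a⁆ = v⁻¹ * ⁅v, a⁆⁻¹ * v := by
  simp only [commutatorElement_def]; group

theorem CP4_aux_comm_mul_right (v c d : G) : ⁅v, c * d⁆ = ⁅v, c⁆ * (c * ⁅v, d⁆ * c⁻¹) := by
  simp only [commutatorElement_def]; group

theorem CP4_aux_comm_inv_right (v c : G) : ⁅v, c⁻¹⁆ = c⁻¹ * ⁅v, c⁆⁻¹ * c := by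
  simp only [commutatorElement_def]; group

/-- membership criterion (same statement as row CP3 `mem_fixP`, without the unused hypothesis). -/
theorem CP4_aux_mem_fixP (C : ChiefPair p H Vt Vb) {A : Subgroup G} {v : G} :
    v ∈ fixP Vt Vb A ↔ v ∈ Vt ∧ ∀ a ∈ A, ⁅v, a⁆ ∈ Vb := by
  have hVtH := CP4_aux_Vt_le_H C
  constructor
  · intro hv
    unfold fixP at hv
    induction hv using Subgroup.closure_induction with
    | mem x hx => exact hx
    | one => exact ⟨Vt.one_mem, fun a _ => by simp [Vb.one_mem]⟩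
    | mul x y _ _ hx hy =>
      refine ⟨Vt.mul_mem hx.1 hy.1, fun a ha => ?_⟩
      rw [CP4_aux_comm_mul_left]
      exact Vb.mul_mem (CP4_aux_conj_mem (C.nb (hVtH hx.1)) (hy.2 a ha)) (hx.2 a ha)
    | inv x _ hx =>
      refine ⟨Vt.inv_mem hx.1, fun a ha => ?_⟩
      rw [CP4_aux_comm_inv_left]
      exact CP4_aux_conj_mem' (C.nb (hVtH hx.1)) (Vb.inv_mem (hx.2 a ha))
  · intro hv
    exact Subgroup.subset_closure hv

/-- CP4a -/
theorem fixP_le (C : ChiefPair p H Vt Vb) {A : Subgroup G} (hA : A ≤ H) : fixP Vt Vb A ≤ Vt := by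
  intro v hv
  exact ((CP4_aux_mem_fixP C).mp hv).1

/-- CP4b -/
theorem le_fixP (C : ChiefPair p H Vt Vb) {A : Subgroup G} (hA : A ≤ H) : Vb ≤ fixP Vt Vb A := by
  intro v hv
  rw [CP4_aux_mem_fixP C]
  refine ⟨C.lt.le hv, fun a ha => ?_⟩
  have h1 : a * v⁻¹ * a⁻¹ ∈ Vb := CP4_aux_conj_mem (C.nb (hA ha)) (Vb.inv_mem hv)
  have : ⁅v, a⁆ = v * (a * v⁻¹ * a⁻¹) := by simp only [commutatorElement_def]; group
  rw [this]
  exact Vb.mul_mem hv h1

/-- CP4c -/
theorem commP_le (C : ChiefPair p H Vt Vb) {A : Subgroup G} (hA : A ≤ H) : commP Vt Vb A ≤ Vt := by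
  unfold commP
  refine sup_le ?_ C.lt.le
  rw [Subgroup.commutator_le]
  intro v hv a ha
  have h1 : a * v⁻¹ * a⁻¹ ∈ Vt := CP4_aux_conj_mem (C.nt (hA ha)) (Vt.inv_mem hv)
  have : ⁅v, a⁆ = v * (a * v⁻¹ * a⁻¹) := by simp only [commutatorElement_def]; group
  rw [this]
  exact Vt.mul_mem hv h1

/-- CP4d -/
theorem le_commP (A : Subgroup G) : Vb ≤ commP Vt Vb A := le_sup_right

/-- CP4e : antitone / monotone in `A`. -/
theorem fixP_anti (C : ChiefPair p H Vt Vb) {A B : Subgroup G} (hAB : A ≤ B) (hB : B ≤ H) :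
    fixP Vt Vb B ≤ fixP Vt Vb A := by
  intro v hv
  rw [CP4_aux_mem_fixP C] at hv ⊢
  exact ⟨hv.1, fun a ha => hv.2 a (hAB ha)⟩

/-- CP4f -/
theorem commP_mono {A B : Subgroup G} (hAB : A ≤ B) : commP Vt Vb A ≤ commP Vt Vb B := by
  unfold commP
  exact sup_le_sup_right (Subgroup.commutator_mono le_rfl hAB) Vb

end Cfsg.Agent.S2862P
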