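import Mathlib
import Cfsg.Agent.Helper7.S2862Defs

/-! Board `s2862pieces`, row CP7: `fixP_cjs`, `commP_cjs`, `card_cjs`. -/

set_option autoImplicit false
set_option linter.unusedVariables false

namespace Cfsg.Agent.S2862P

open Cfsg
open Cfsg.Agent.Helper14 (cj)
open Subgroup
open scoped commutatorElement

variable {G : Type*} [Group G] [Finite G] {p : ℕ} [Fact p.Prime]
variable {H Y D L L0 Vt Vb : Subgroup G}

theorem CP7_aux_cj_comm (g v a : G) : cj g ⁅v, a⁆ = ⁅cj g v, cj g a⁆ := map_commutatorElement (cj g) v a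

theorem CP7_aux_map_eq {Z : Subgroup G} {g : G} (hg : g ∈ normalizer (Z : Set G)) : Z.map (cj g) = Z :=
  Cfsg.Agent.Helper14.mem_normalizer_iff_map_cj.mp hg

theorem CP7_aux_mem_iff {Z : Subgroup G} {g : G} (hg : g ∈ normalizer (Z : Set G)) (x : G) :
    cj g x ∈ Z ↔ x ∈ Z := by
  constructor
  · intro h
    have h2 : cj g x ∈ Z.map (cj g) := by rw [CP7_aux_map_eq hg]; exact h
    obtain ⟨y, hy, hyx⟩ := h2
    have := Cfsg.Agent.Helper14.cj_injective g hyx
    rw [← this]; exact hy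
  · intro h
    have h2 : cj g x ∈ Z.map (cj g) := ⟨x, h, rfl⟩
    rw [CP7_aux_map_eq hg] at h2; exact h2

/-- CP7a -/
theorem fixP_cjs (C : ChiefPair p H Vt Vb) {A : Subgroup G} (hA : A ≤ H) {g : G} (hg : g ∈ H) :
    fixP Vt Vb (cjs g A) = cjs g (fixP Vt Vb A) := by
  have hgt : g ∈ normalizer (Vt : Set G) := C.nt hg
  have hgb : g ∈ normalizer (Vb : Set G) := C.nb hg
  unfold fixP cjs
  rw [MonoidHom.map_closure]
  congr 1
  ext v
  constructor
  · rintro ⟨hv, hva⟩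
    refine ⟨cj g⁻¹ v, ⟨?_, ?_⟩, ?_⟩
    · have : cj g (cj g⁻¹ v) = v := by simp [Cfsg.Agent.Helper14.cj_apply, mul_assoc]
      rw [← CP7_aux_mem_iff hgt, this]; exact hv
    · intro a ha
      have h1 : cj g a ∈ A.map (cj g) := ⟨a, ha, rfl⟩
      have h2 := hva _ h1
      have : cj g ⁅cj g⁻¹ v, a⁆ = ⁅v, cj g a⁆ := by
        rw [CP7_aux_cj_comm]
        congr 1
        simp [Cfsg.Agent.Helper14.cj_apply, mul_assoc]
      rw [← CP7_aux_mem_iff hgb, this]; exact h2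
    · simp [Cfsg.Agent.Helper14.cj_apply, mul_assoc]
  · rintro ⟨w, ⟨hw, hwa⟩, rfl⟩
    refine ⟨(CP7_aux_mem_iff hgt w).mpr hw, ?_⟩
    rintro _ ⟨a, ha, rfl⟩
    rw [← CP7_aux_cj_comm, CP7_aux_mem_iff hgb]
    exact hwa a ha

/-- CP7b -/
theorem commP_cjs (C : ChiefPair p H Vt Vb) {A : Subgroup G} (hA : A ≤ H) {g : G} (hg : g ∈ H) :
    commP Vt Vb (cjs g A) = cjs g (commP Vt Vb A) := by
  have hgt : g ∈ normalizer (Vt : Set G) := C.nt hg
  have hgb : g ∈ normalizer (Vb : Set G) := C.nb hg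
  unfold commP cjs
  rw [Subgroup.map_sup, Subgroup.map_commutator, CP7_aux_map_eq hgt, CP7_aux_map_eq hgb]

/-- CP7c -/
theorem card_cjs (g : G) (Z : Subgroup G) : Nat.card ↥(cjs g Z) = Nat.card ↥Z := by
  unfold cjs
  exact Nat.card_congr (Z.equivMapOfInjective (cj g) (Cfsg.Agent.Helper14.cj_injective g)).symm.toEquiv

end Cfsg.Agent.S2862P
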