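import Mathlib
import Cfsg.Agent.Helper7.S2862Defs
import Cfsg.Agent.Helper22.S2862CP7

/-! Board `s2862pieces`, rows CP11 (`commP_inv`) and CP12 (`fixP_inv`). -/

set_option autoImplicit false
set_option linter.unusedVariables false

namespace Cfsg.Agent.S2862P

open Cfsg
open Cfsg.Agent.Helper14 (cj)
open Subgroup
open scoped commutatorElement

variable {G : Type*} [Group G] [Finite G] {p : ℕ} [Fact p.Prime]
variable {H Y D L L0 Vt Vb : Subgroup G}

/-- CP11 : `A` acts trivially on `X/[X,A]` and `[X,A]` is `A`-invariant. -/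
theorem commP_inv (C : ChiefPair p H Vt Vb) {A : Subgroup G} (hA : A ≤ H) :
    A ≤ normalizer ((commP Vt Vb A : Subgroup G) : Set G) ∧ ∀ a ∈ A, TrivOn a Vt (commP Vt Vb A) := by
  constructor
  · intro a ha
    rw [Cfsg.Agent.Helper14.mem_normalizer_iff_map_cj]
    unfold commP
    rw [Subgroup.map_sup, Subgroup.map_commutator, CP7_aux_map_eq (C.nt (hA ha)), CP7_aux_map_eq (C.nb (hA ha)),
      CP7_aux_map_eq (Subgroup.le_normalizer ha)]
  · intro a ha v hv
    unfold commP
    exact (le_sup_left : ⁅Vt, A⁆ ≤ ⁅Vt, A⁆ ⊔ Vb) (Subgroup.commutator_mem_commutator hv ha)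

/-- CP12 : `C_X(A)` is invariant under every `g ∈ H` normalising `A`. -/
theorem fixP_inv (C : ChiefPair p H Vt Vb) {A : Subgroup G} (hA : A ≤ H) {g : G} (hg : g ∈ H)
    (hgA : g ∈ normalizer (A : Set G)) : g ∈ normalizer ((fixP Vt Vb A : Subgroup G) : Set G) := by
  rw [Cfsg.Agent.Helper14.mem_normalizer_iff_map_cj]
  have h1 := fixP_cjs C hA hg
  unfold cjs at h1
  rw [CP7_aux_map_eq hgA] at h1
  exact h1.symm

end Cfsg.Agent.S2862P
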