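import Mathlib
import Cfsg.Agent.Helper7.S2862Defs
import Cfsg.Agent.Helper22.S2862CP4

/-! Board `s2862pieces`, row CP5: `fixP_sup`. -/

set_option autoImplicit false
set_option linter.unusedVariables false

namespace Cfsg.Agent.S2862P

open Cfsg
open Cfsg.Agent.Helper14 (cj)
open Subgroup
open scoped commutatorElement

variable {G : Type*} [Group G] [Finite G] {p : ℕ} [Fact p.Prime]
variable {H Y D L L0 Vt Vb : Subgroup G}

/-- the elements of `H` centralising `v` modulo `Vb` form a subgroup: closure induction. -/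
theorem CP5_aux_closure (C : ChiefPair p H Vt Vb) {S : Set G} (hS : S ⊆ (H : Set G)) {v : G}
    (hv : ∀ s ∈ S, ⁅v, s⁆ ∈ Vb) : ∀ c ∈ Subgroup.closure S, c ∈ H ∧ ⁅v, c⁆ ∈ Vb := by
  intro c hc
  induction hc using Subgroup.closure_induction with
  | mem x hx => exact ⟨hS hx, hv x hx⟩
  | one => exact ⟨H.one_mem, by simp [Vb.one_mem]⟩
  | mul x y _ _ hx hy =>
    refine ⟨H.mul_mem hx.1 hy.1, ?_⟩
    rw [CP4_aux_comm_mul_right]
    exact Vb.mul_mem hx.2 (CP4_aux_conj_mem (C.nb hx.1) hy.2)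
  | inv x _ hx =>
    refine ⟨H.inv_mem hx.1, ?_⟩
    rw [CP4_aux_comm_inv_right]
    exact CP4_aux_conj_mem' (C.nb hx.1) (Vb.inv_mem hx.2)

/-- CP5 : `C_X(<A,B>) = C_X(A) ∩ C_X(B)`. -/
theorem fixP_sup (C : ChiefPair p H Vt Vb) {A B : Subgroup G} (hA : A ≤ H) (hB : B ≤ H) :
    fixP Vt Vb (A ⊔ B) = fixP Vt Vb A ⊓ fixP Vt Vb B := by
  apply le_antisymm
  · exact le_inf (fixP_anti C le_sup_left (sup_le hA hB)) (fixP_anti C le_sup_right (sup_le hA hB))
  · intro v hv
    rw [Subgroup.mem_inf, CP4_aux_mem_fixP C, CP4_aux_mem_fixP C] at hv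
    rw [CP4_aux_mem_fixP C]
    refine ⟨hv.1.1, fun c hc => ?_⟩
    have hcl : A ⊔ B = Subgroup.closure ((A : Set G) ∪ (B : Set G)) := by
      rw [Subgroup.closure_union, Subgroup.closure_eq, Subgroup.closure_eq]
    rw [hcl] at hc
    refine (CP5_aux_closure C (S := (A : Set G) ∪ (B : Set G)) ?_ ?_ c hc).2
    · rintro x (hx | hx)
      · exact hA hx
      · exact hB hx
    · rintro x (hx | hx)
      · exact hv.1.2 x hx
      · exact hv.2.2 x hx

end Cfsg.Agent.S2862P
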