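import Mathlib
import Cfsg.Agent.Helper13.S3816Defs
import Cfsg.Agent.Helper13.S3816Basic
import Cfsg.Agent.S0027

/-! Board `s3816pieces`, row MC1: `MC.normalK`, `MC.comm_eq`, `MC.sub_fix_le`, `MC.cA_ne`. -/

set_option autoImplicit false

namespace Cfsg.Agent.S3816P

open scoped commutatorElement

universe u

variable {G : Type u} [Group G] [Finite G] {p : ℕ} [Fact p.Prime] {A K N : Subgroup G}

/-- `[X,A] ≤ X` when `A` normalises `X` -/
theorem MC1_aux_comm_le {A X : Subgroup G} (hAX : A ≤ Subgroup.normalizer (X : Set G)) : ⁅X, A⁆ ≤ X := by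
  rw [Subgroup.commutator_le]
  intro x hx a ha
  have h1 : a * x⁻¹ * a⁻¹ ∈ X := (Subgroup.mem_normalizer_iff.mp (hAX ha) x⁻¹).mp (X.inv_mem hx)
  have h2 : ⁅x, a⁆ = x * (a * x⁻¹ * a⁻¹) := by rw [commutatorElement_def]; group
  rw [h2]
  exact X.mul_mem hx h1

/-- `A` normalises `[X,A]` when `A` normalises `X` -/
theorem MC1_aux_norm_comm {A X : Subgroup G} (hAX : A ≤ Subgroup.normalizer (X : Set G)) :
    A ≤ Subgroup.normalizer ((⁅X, A⁆ : Subgroup G) : Set G) := by
  have key : ∀ a ∈ A, ∀ y ∈ (⁅X, A⁆ : Subgroup G), a * y * a⁻¹ ∈ (⁅X, A⁆ : Subgroup G) := by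
    intro a ha y hy
    have h1 : (⁅X, A⁆ : Subgroup G) ≤ (⁅X, A⁆ : Subgroup G).comap (MulAut.conj a).toMonoidHom := by
      rw [Subgroup.commutator_le]
      intro x hx b hb
      rw [Subgroup.mem_comap, map_commutatorElement]
      apply Subgroup.commutator_mem_commutator
      · have : (MulAut.conj a).toMonoidHom x = a * x * a⁻¹ := by simp [MulAut.conj_apply]
        rw [this]
        exact (Subgroup.mem_normalizer_iff.mp (hAX ha) x).mp hx
      · have : (MulAut.conj a).toMonoidHom b = a * b * a⁻¹ := by simp [MulAut.conj_apply]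
        rw [this]
        exact A.mul_mem (A.mul_mem ha hb) (A.inv_mem ha)
    have h2 := h1 hy
    rw [Subgroup.mem_comap] at h2
    simpa [MulAut.conj_apply] using h2
  intro a ha
  rw [Subgroup.mem_normalizer_iff]
  intro y
  constructor
  · exact key a ha y
  · intro hy
    have h1 := key a⁻¹ (A.inv_mem ha) _ hy
    have e : a⁻¹ * (a * y * a⁻¹) * a⁻¹⁻¹ = y := by group
    rwa [e] at h1

/-- the hypotheses pass to `A`-invariant subgroups -/
theorem MC1_aux_hyp_sub (h : Hyp p A K) {X : Subgroup G} (hXK : X ≤ K)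
    (hAX : A ≤ Subgroup.normalizer (X : Set G)) : Hyp p A X where
  card := h.card
  norm := hAX
  cop := Nat.Coprime.coprime_dvd_left (Subgroup.card_dvd_of_le hXK) h.cop
  solv := by
    haveI := h.solv
    exact solvable_of_solvable_injective (Subgroup.inclusion_injective hXK)

/-- the induction hypothesis for a proper `A`-invariant subgroup `X` of `K` -/
theorem MC1_aux_thm_sub (mc : MC p A K) {X : Subgroup G} (hXK : X ≤ K) (hne : X ≠ K)
    (hAX : A ≤ Subgroup.normalizer (X : Set G)) : Thm A X := by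
  have hlt : Nat.card X < Nat.card K := by
    have hXK' : X < K := lt_of_le_of_ne hXK hne
    have h1 : (X : Set G) ⊂ (K : Set G) := SetLike.coe_ssubset_coe.mpr hXK'
    exact Set.ncard_lt_ncard h1 (Set.toFinite _)
  exact mc.ih G A X hlt (MC1_aux_hyp_sub mc.hyp hXK hAX)

/-- MC1 -/
theorem MC.normalK (mc : MC p A K) : K.Normal := by
  have h1 : K ⊔ A ≤ Subgroup.normalizer (K : Set G) := sup_le Subgroup.le_normalizer mc.hyp.norm
  rw [mc.top] at h1
  exact Subgroup.normalizer_eq_top_iff.mp (top_le_iff.mp h1)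

/-- MC2 -/
theorem MC.sub_fix_le (mc : MC p A K) {X : Subgroup G} (hXK : X ≤ K) (hne : X ≠ K)
    (hAX : A ≤ Subgroup.normalizer (X : Set G)) :
    ⁅X, A⁆ ⊓ Subgroup.centralizer (A : Set G) ≤ DD A K :=
  (MC1_aux_thm_sub mc hXK hne hAX).trans (DD_mono hXK)

/-- MC1 -/
theorem MC.comm_eq (mc : MC p A K) : ⁅K, A⁆ = K := by
  by_contra hne
  have hle : ⁅K, A⁆ ≤ K := MC1_aux_comm_le mc.hyp.norm
  -- `A` normalises `[K,A]`
  have hAn : A ≤ Subgroup.normalizer ((⁅K, A⁆ : Subgroup G) : Set G) := MC1_aux_norm_comm mc.hyp.norm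
  have h2 := mc.sub_fix_le hle hne hAn
  have hcop : (Nat.card A).Coprime (Nat.card K) := by rw [mc.hyp.card]; exact mc.hyp.cop.symm
  have h3 : ⁅⁅K, A⁆, A⁆ = ⁅K, A⁆ := Cfsg.Agent.S0027.result A K mc.hyp.norm hcop (Or.inr mc.hyp.solv)
  rw [h3] at h2
  exact mc.neg h2

/-- MC4 -/
theorem MC.cA_ne (mc : MC p A K) {k : G} (hk : k ∈ K) : cA A k ≠ K := by
  intro heq
  apply mc.neg
  unfold Thm
  have hle : ⁅K, A⁆ ≤ K := MC1_aux_comm_le mc.hyp.norm
  calc ⁅K, A⁆ ⊓ Subgroup.centralizer (A : Set G) ≤ K ⊓ Subgroup.centralizer (A : Set G) :=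
        inf_le_inf_right _ hle
    _ = cA A k ⊓ Subgroup.centralizer (A : Set G) := by rw [heq]
    _ ≤ DD A K := cA_inf_le_DD hk

end Cfsg.Agent.S3816P
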