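import Mathlib
import Cfsg.Agent.S0055

/-! Board `s3816pieces`, row C1B (`c1_le_comm`): the core argument (context-free).
If `K = [K,A]` is normal, `A` acts coprimely, then every subgroup of `K` centralised by `A` lies in `K'`
(S0055 in `G/K'`: `C_{K/K'}(A) ∩ [K/K',A] = 1` and `[K/K',A] = K/K'`). -/

set_option autoImplicit false

namespace Cfsg.Agent.S3816P

open scoped commutatorElement

universe u

variable {G : Type u} [Group G] [Finite G]

theorem C1B_aux_core {A K N : Subgroup G} (hK : K.Normal) (hKA : ⁅K, A⁆ = K)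
    (hcop : (Nat.card A).Coprime (Nat.card K)) (hNK : N ≤ K)
    (h1 : N ≤ Subgroup.centralizer (A : Set G)) : N ≤ ⁅K, K⁆ := by
  haveI := hK
  haveI hKK : (⁅K, K⁆ : Subgroup G).Normal := Subgroup.commutator_normal K K
  let f := QuotientGroup.mk' (⁅K, K⁆ : Subgroup G)
  have hf : Function.Surjective f := QuotientGroup.mk'_surjective _
  -- `K/K'` is commutative
  haveI hcomm : IsMulCommutative ↥(K.map f) := by
    refine ⟨⟨fun x y => ?_⟩⟩
    obtain ⟨x, hx⟩ := x
    obtain ⟨y, hy⟩ := y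
    obtain ⟨x0, hx0, rfl⟩ := hx
    obtain ⟨y0, hy0, rfl⟩ := hy
    apply Subtype.ext
    show f x0 * f y0 = f y0 * f x0
    have h2 : ⁅x0, y0⁆ ∈ (⁅K, K⁆ : Subgroup G) := Subgroup.commutator_mem_commutator hx0 hy0
    have h3 : f ⁅x0, y0⁆ = 1 := (QuotientGroup.eq_one_iff _).mpr h2
    rw [map_commutatorElement] at h3
    exact (commutatorElement_eq_one_iff_mul_comm.mp h3)
  haveI hVn : (K.map f).Normal := hK.map f hf
  have hAV : A.map f ≤ Subgroup.normalizer ((K.map f : Subgroup (G ⧸ (⁅K, K⁆ : Subgroup G))) : Set _) := by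
    rw [Subgroup.normalizer_eq_top]
    exact le_top
  have hcop' : (Nat.card ↥(A.map f)).Coprime (Nat.card ↥(K.map f)) :=
    Nat.Coprime.coprime_dvd_left (Subgroup.card_map_dvd A f)
      (Nat.Coprime.coprime_dvd_right (Subgroup.card_map_dvd K f) hcop)
  have h55 := (Cfsg.Agent.S0055.result (A.map f) (K.map f) hAV hcop').1
  have hc : ⁅K.map f, A.map f⁆ = K.map f := by
    rw [← Subgroup.map_commutator, hKA]
  rw [hc] at h55
  intro n hn
  have h4 : f n ∈ (K.map f ⊓ Subgroup.centralizer ((A.map f : Subgroup _) : Set _)) ⊓ K.map f := by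
    refine ⟨⟨Subgroup.mem_map_of_mem f (hNK hn), ?_⟩, Subgroup.mem_map_of_mem f (hNK hn)⟩
    show f n ∈ Subgroup.centralizer ((A.map f : Subgroup _) : Set _)
    rw [Subgroup.mem_centralizer_iff]
    rintro _ ⟨a, ha, rfl⟩
    have h5 := (Subgroup.mem_centralizer_iff.mp (h1 hn)) a ha
    show f a * f n = f n * f a
    rw [← map_mul, ← map_mul, h5]
  rw [h55, Subgroup.mem_bot] at h4
  exact (QuotientGroup.eq_one_iff _).mp h4

end Cfsg.Agent.S3816P
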