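import Mathlib
import Cfsg.Agent.Helper13.S3816Defs
import Cfsg.Agent.Helper13.S3816Basic
import Cfsg.Agent.Helper22.S3816MC1
import Cfsg.Agent.Helper22.S3816C1Bcore

/-! Board `s3816pieces`, row C1B (`c1_le_comm`). -/

set_option autoImplicit false

namespace Cfsg.Agent.S3816P

universe u

variable {G : Type u} [Group G] [Finite G] {p : ℕ} [Fact p.Prime] {A K N : Subgroup G}

/-- C1B -/
theorem c1_le_comm (mc : MC p A K) (hN : MinN K N) (h1 : N ≤ Subgroup.centralizer (A : Set G)) :
    N ≤ ⁅K, K⁆ := by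
  exact C1B_aux_core mc.normalK mc.comm_eq (by rw [mc.hyp.card]; exact mc.hyp.cop.symm) hN.le h1

end Cfsg.Agent.S3816P
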