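import Mathlib
import Cfsg.Agent.Helper13.S3816Defs
import Cfsg.Agent.Helper13.S3816Basic
import Cfsg.Agent.Helper22.S3816MC1
import Cfsg.Agent.Helper14.PCore
import Cfsg.Agent.S0023

/-! Board `s3816pieces`, row C1E (`c1_pgroup`): core argument; the statements of `c1_central`, `c1_card`, `c1_le_comm`,
`c1_split` and of the transfer lemma TR (for the group `↥K`) are hypotheses. -/

set_option autoImplicit false

namespace Cfsg.Agent.S3816P

open scoped commutatorElement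

universe u

variable {G : Type u} [Group G] [Finite G] {p : ℕ} [Fact p.Prime] {A K N : Subgroup G}

/-- `[n y, b] = [y, b]` if `n` commutes with `y b y⁻¹` -/
theorem C1E_aux_comm_left {n y b : G} (h : (y * b * y⁻¹) * n = n * (y * b * y⁻¹)) :
    ⁅n * y, b⁆ = ⁅y, b⁆ := by
  rw [commutatorElement_def, commutatorElement_def]
  calc n * y * b * (n * y)⁻¹ * b⁻¹ = n * (y * b * y⁻¹) * n⁻¹ * b⁻¹ := by group
    _ = (y * b * y⁻¹) * n * n⁻¹ * b⁻¹ := by rw [h]
    _ = y * b * y⁻¹ * b⁻¹ := by group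

theorem C1E_aux_core (mc : MC p A K) (hN : MinN K N)
    (hcen : N ≤ Subgroup.centralizer (K : Set G))
    (hcard : (Nat.card N).Prime)
    (hcomm : N ≤ ⁅K, K⁆)
    (hsplit : ∀ {X : Subgroup G}, X ≤ K → X ≠ K → A ≤ Subgroup.normalizer (X : Set G) → N ≤ X →
        N ⊓ X0 A K X = ⊥ ∧ N ⊔ X0 A K X = X)
    (hTR : ∀ (r : ℕ) [Fact r.Prime] (P : Sylow r ↥K),
        Subgroup.center ↥K ⊓ commutator ↥K ⊓ (P : Subgroup ↥K) ≤
          (commutator ↥(P : Subgroup ↥K)).map (P : Subgroup ↥K).subtype) :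
    IsPGroup (Nat.card N) K := by
  haveI hNn : N.Normal := hN.normal
  haveI hr : Fact (Nat.card N).Prime := ⟨hcard⟩
  by_contra hnp
  have hcop : (Nat.card A).Coprime (Nat.card K) := by rw [mc.hyp.card]; exact mc.hyp.cop.symm
  obtain ⟨P, hPA⟩ := Cfsg.Agent.S0023.result A K mc.hyp.norm hcop (Or.inr mc.hyp.solv) (Nat.card N)
  have hRK : (P : Subgroup ↥K).map K.subtype ≤ K := Subgroup.map_subtype_le _
  -- `R ≠ K`
  have hRne : (P : Subgroup ↥K).map K.subtype ≠ K := by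
    intro h
    apply hnp
    have htop : (P : Subgroup ↥K) = ⊤ := by
      apply Subgroup.map_injective K.subtype_injective
      rw [h, ← MonoidHom.range_eq_map, Subgroup.range_subtype]
    intro x
    obtain ⟨j, hj⟩ := P.isPGroup' ⟨x, by rw [htop]; exact Subgroup.mem_top x⟩
    refine ⟨j, ?_⟩
    have := congrArg Subtype.val hj
    simpa using this
  -- `N ≤ R`
  have hNP : ∀ n (hn : n ∈ N), (⟨n, hN.le hn⟩ : ↥K) ∈ (P : Subgroup ↥K) := by
    intro n hn
    have h1 : IsPGroup (Nat.card N) ↥(N.subgroupOf K) := by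
      have e : ↥(N.subgroupOf K) ≃* ↥N := Subgroup.subgroupOfEquivOfLe hN.le
      apply IsPGroup.of_card (n := 1)
      rw [Nat.card_congr e.toEquiv, pow_one]
    have h2 : (N.subgroupOf K).Normal := inferInstance
    have h3 := (Cfsg.Agent.Helper14.le_pCore (Nat.card N) h2 h1).trans
      (Cfsg.Agent.Helper14.pCore_le_sylow (Nat.card N) P)
    apply h3
    rw [Subgroup.mem_subgroupOf]
    exact hn
  have hNR : N ≤ (P : Subgroup ↥K).map K.subtype := by
    intro n hn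
    exact ⟨⟨n, hN.le hn⟩, hNP n hn, rfl⟩
  obtain ⟨hsp1, hsp2⟩ := hsplit hRK hRne hPA hNR
  -- `[R,R] ≤ X0`
  have hRR : ⁅(P : Subgroup ↥K).map K.subtype, (P : Subgroup ↥K).map K.subtype⁆ ≤
      X0 A K ((P : Subgroup ↥K).map K.subtype) := by
    rw [Subgroup.commutator_le]
    intro a ha b hb
    have hX0K : X0 A K ((P : Subgroup ↥K).map K.subtype) ≤ K := by
      rw [← hsp2] at hRK
      exact le_sup_right.trans hRK
    have hncomm : ∀ n ∈ N, ∀ x ∈ K, x * n = n * x := fun n hn x hx =>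
      (Subgroup.mem_centralizer_iff.mp (hcen hn)) x hx
    rw [← hsp2] at ha hb
    have ha' : a ∈ ((N ⊔ X0 A K ((P : Subgroup ↥K).map K.subtype) : Subgroup G) : Set G) := ha
    have hb' : b ∈ ((N ⊔ X0 A K ((P : Subgroup ↥K).map K.subtype) : Subgroup G) : Set G) := hb
    rw [Subgroup.normal_mul] at ha' hb'
    obtain ⟨n₁, hn₁, y₁, hy₁, rfl⟩ := Set.mem_mul.mp ha'
    obtain ⟨n₂, hn₂, y₂, hy₂, rfl⟩ := Set.mem_mul.mp hb'
    have hy₁K := hX0K hy₁
    have hy₂K := hX0K hy₂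
    have hn₂K := hN.le hn₂
    have e1 : ⁅n₁ * y₁, n₂ * y₂⁆ = ⁅y₁, n₂ * y₂⁆ :=
      C1E_aux_comm_left (hncomm n₁ hn₁ _ (K.mul_mem (K.mul_mem hy₁K (K.mul_mem hn₂K hy₂K)) (K.inv_mem hy₁K)))
    have e2 : ⁅n₂ * y₂, y₁⁆ = ⁅y₂, y₁⁆ :=
      C1E_aux_comm_left (hncomm n₂ hn₂ _ (K.mul_mem (K.mul_mem hy₂K hy₁K) (K.inv_mem hy₂K)))
    have e3 : ⁅y₁, n₂ * y₂⁆ = ⁅y₁, y₂⁆ := by
      rw [← commutatorElement_inv (n₂ * y₂) y₁, e2, commutatorElement_inv]
    rw [e1, e3, commutatorElement_def]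
    exact Subgroup.mul_mem _ (Subgroup.mul_mem _ (Subgroup.mul_mem _ hy₁ hy₂) (Subgroup.inv_mem _ hy₁))
      (Subgroup.inv_mem _ hy₂)
  -- `[R,R]` is the image of the commutator subgroup of `P`
  have hmap : ((commutator ↥(P : Subgroup ↥K)).map (P : Subgroup ↥K).subtype).map K.subtype =
      ⁅(P : Subgroup ↥K).map K.subtype, (P : Subgroup ↥K).map K.subtype⁆ := by
    rw [commutator_def, Subgroup.map_commutator, ← MonoidHom.range_eq_map, Subgroup.range_subtype,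
      Subgroup.map_commutator]
  -- transfer
  apply hN.ne
  rw [eq_bot_iff]
  intro n hn
  have h1 : (⟨n, hN.le hn⟩ : ↥K) ∈ Subgroup.center ↥K := by
    rw [Subgroup.mem_center_iff]
    intro x
    apply Subtype.ext
    exact (Subgroup.mem_centralizer_iff.mp (hcen hn)) x x.2
  have h2 : (⟨n, hN.le hn⟩ : ↥K) ∈ commutator ↥K := by
    have h3 : n ∈ ((commutator ↥K).map K.subtype : Subgroup G) := by
      rw [commutator_def, Subgroup.map_commutator, ← MonoidHom.range_eq_map, Subgroup.range_subtype]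
      exact hcomm hn
    obtain ⟨x, hx, hxn⟩ := h3
    have : x = ⟨n, hN.le hn⟩ := Subtype.ext hxn
    rwa [this] at hx
  have h4 := hTR (Nat.card N) P ⟨⟨h1, h2⟩, hNP n hn⟩
  have h5 : n ∈ (((commutator ↥(P : Subgroup ↥K)).map (P : Subgroup ↥K).subtype).map K.subtype : Subgroup G) :=
    ⟨⟨n, hN.le hn⟩, h4, rfl⟩
  rw [hmap] at h5
  have h6 : n ∈ N ⊓ X0 A K ((P : Subgroup ↥K).map K.subtype) := ⟨hn, hRR h5⟩
  rw [hsp1] at h6
  exact h6

end Cfsg.Agent.S3816P
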