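import Mathlib
import Cfsg.Agent.Helper13.S3816Defs
import Cfsg.Agent.Helper13.S3816Basic
import Cfsg.Agent.Helper21.S3816C1A
import Cfsg.Agent.Helper22.S3816C1B
import Cfsg.Agent.Helper22.S3816C1Ecore
import Cfsg.Agent.Helper21.S3816C1CD
import Cfsg.Agent.Helper8.S3816TR

/-! Board `s3816pieces`, row C1E (`c1_pgroup`). -/

set_option autoImplicit false

namespace Cfsg.Agent.S3816P

universe u

variable {G : Type u} [Group G] [Finite G] {p : ℕ} [Fact p.Prime] {A K N : Subgroup G}

/-- C1E -/
theorem c1_pgroup (mc : MC p A K) (hN : MinN K N) (h1 : N ≤ Subgroup.centralizer (A : Set G)) :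
    IsPGroup (Nat.card N) K := by
  exact C1E_aux_core mc hN (c1_central mc hN h1) (c1_card mc hN h1) (c1_le_comm mc hN h1)
    (fun hXK hne hAX hNX => c1_split mc hN h1 hXK hne hAX hNX)
    (fun r _ P => center_inf_commutator_inf_sylow_le r P)

end Cfsg.Agent.S3816P
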