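import Mathlib
import Cfsg.Agent.Helper26.S3818Defs

/-!
# S3818 board, row FR4 (Lemma E')

`μ_c² + 1 ≤ dim` of the centraliser of `g` in `End V`, for `g ≠ c`.
-/

set_option autoImplicit false
set_option linter.unusedVariables false

namespace Cfsg.Agent.S3818P

open Module

/-- `f ↦ ι ∘ f ∘ π` -/
def FR4_aux_Phi {F V : Type*} [Field F] [AddCommGroup V] [Module F V] (S : Module.End F V) :
    ((V ⧸ LinearMap.range S) →ₗ[F] LinearMap.ker S) →ₗ[F] Module.End F V where
  toFun f := (LinearMap.ker S).subtype ∘ₗ f ∘ₗ (LinearMap.range S).mkQ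
  map_add' f₁ f₂ := by
    ext v
    simp
  map_smul' a f := by
    ext v
    simp

theorem FR4_aux_Phi_apply {F V : Type*} [Field F] [AddCommGroup V] [Module F V] (S : Module.End F V)
    (f : (V ⧸ LinearMap.range S) →ₗ[F] LinearMap.ker S) (v : V) :
    FR4_aux_Phi S f v = ((f ((LinearMap.range S).mkQ v) : LinearMap.ker S) : V) := rfl

/-- FR4 (Lemma E'): `μ_c² + 1 ≤ dim` of the centraliser of `g` in `End V`. -/
theorem FR4_lemmaE {F V : Type*} [Field F] [AddCommGroup V] [Module F V] [FiniteDimensional F V]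
    (g ginv : Module.End F V) (hg : g * ginv = 1) (hg' : ginv * g = 1) (c : F)
    (hne : g ≠ c • 1) :
    (finrank F (LinearMap.ker (g - c • 1))) ^ 2 + 1 ≤
      finrank F (LinearMap.ker
        ((LinearMap.mulLeft F g).comp (LinearMap.mulRight F ginv) - 1)) := by
  set S : Module.End F V := g - c • 1 with hS
  have hS0 : S ≠ 0 := sub_ne_zero.2 hne
  obtain ⟨v₀, hv₀⟩ : ∃ v, S v ≠ 0 := by
    by_contra hcon
    push Not at hcon
    exact hS0 (LinearMap.ext hcon)
  have hgS : ∀ v, g v = S v + c • v := by
    intro v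
    simp [hS]
  -- `Φ f ∘ S = 0` and `S ∘ Φ f = 0`
  have hΦS : ∀ f v, FR4_aux_Phi S f (S v) = 0 := by
    intro f v
    rw [FR4_aux_Phi_apply]
    have : (LinearMap.range S).mkQ (S v) = 0 := by
      rw [Submodule.mkQ_apply, Submodule.Quotient.mk_eq_zero]
      exact ⟨v, rfl⟩
    rw [this, map_zero]; rfl
  have hSΦ : ∀ f v, S (FR4_aux_Phi S f v) = 0 := by
    intro f v
    rw [FR4_aux_Phi_apply]
    exact (f ((LinearMap.range S).mkQ v)).2
  -- the map `(f, a) ↦ Φ f + a • 1`
  let Ψ : (((V ⧸ LinearMap.range S) →ₗ[F] LinearMap.ker S) × F) →ₗ[F] Module.End F V :=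
    (FR4_aux_Phi S).coprod (LinearMap.toSpanSingleton F (Module.End F V) 1)
  have hΨ : ∀ f a, Ψ (f, a) = FR4_aux_Phi S f + a • 1 := by
    intro f a
    simp [Ψ, LinearMap.coprod_apply, LinearMap.toSpanSingleton_apply]
  have hinj : Function.Injective Ψ := by
    rw [← LinearMap.ker_eq_bot, LinearMap.ker_eq_bot']
    rintro ⟨f, a⟩ h0
    rw [hΨ] at h0
    have ha : a = 0 := by
      have h1 := congrArg (fun T : Module.End F V => T (S v₀)) h0
      simp only [LinearMap.add_apply, hΦS, zero_add, LinearMap.smul_apply, Module.End.one_apply,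
        LinearMap.zero_apply] at h1
      rcases smul_eq_zero.1 h1 with h | h
      · exact h
      · exact absurd h hv₀
    rw [ha, zero_smul, add_zero] at h0
    have hf : f = 0 := by
      apply LinearMap.ext
      intro q
      obtain ⟨v, rfl⟩ := (LinearMap.range S).mkQ_surjective q
      have h1 := congrArg (fun T : Module.End F V => T v) h0
      simp only [FR4_aux_Phi_apply, LinearMap.zero_apply] at h1
      exact Subtype.ext h1
    rw [ha, hf]; rfl
  -- the image lies in the centraliser
  have hker : ∀ m, Ψ m ∈ LinearMap.ker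
      ((LinearMap.mulLeft F g).comp (LinearMap.mulRight F ginv) - 1) := by
    rintro ⟨f, a⟩
    rw [hΨ, LinearMap.mem_ker, LinearMap.sub_apply, LinearMap.comp_apply, LinearMap.mulRight_apply,
      LinearMap.mulLeft_apply, Module.End.one_apply, sub_eq_zero]
    have h1 : g * FR4_aux_Phi S f = c • FR4_aux_Phi S f := by
      apply LinearMap.ext
      intro v
      rw [Module.End.mul_apply, hgS, hSΦ, zero_add]; rfl
    have h2 : FR4_aux_Phi S f * g = c • FR4_aux_Phi S f := by
      apply LinearMap.ext
      intro v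
      rw [Module.End.mul_apply, hgS, map_add, hΦS, zero_add, map_smul]; rfl
    calc g * ((FR4_aux_Phi S f + a • 1) * ginv)
        = (g * FR4_aux_Phi S f) * ginv + a • (g * ginv) := by
          rw [add_mul, mul_add, smul_mul_assoc, one_mul, mul_smul_comm, mul_assoc]
      _ = (FR4_aux_Phi S f * g) * ginv + a • (g * ginv) := by rw [h1, h2]
      _ = FR4_aux_Phi S f + a • 1 := by rw [mul_assoc, hg, mul_one]
  -- dimensions
  have hdim : finrank F (((V ⧸ LinearMap.range S) →ₗ[F] LinearMap.ker S) × F) =
      (finrank F (LinearMap.ker S)) ^ 2 + 1 := by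
    rw [Module.finrank_prod, Module.finrank_linearMap, Module.finrank_self]
    have h1 : finrank F (V ⧸ LinearMap.range S) = finrank F (LinearMap.ker S) := by
      have e1 := Submodule.finrank_quotient_add_finrank (LinearMap.range S)
      have e2 := LinearMap.finrank_range_add_finrank_ker S
      omega
    rw [h1, pow_two]
  rw [← hdim]
  exact LinearMap.finrank_le_finrank_of_injective
    (f := Ψ.codRestrict _ hker) (fun a b hab => hinj (congrArg Subtype.val hab))

end Cfsg.Agent.S3818P
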