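import Mathlib
import Cfsg.Agent.Helper26.S3818Defs

/-!
# S3818 board, row A5 (semilinear lemma)

`B ⊆ End_k(V)` a subalgebra which is a field, `g` invertible normalising `B`, `g ^ p = 1`, conjugation by `g` nontrivial
on `B`.  Then `p · dim ker (g - 1) ≤ dim V`.

Proof (no Galois theory): take `b ∈ B` moved by `g`; its `p` conjugates `β_j = g^j b g^{-j}` are pairwise distinct; the map
`(v_i)_{i < p} ↦ ∑ b^i v_i` from `ker (g - 1) ^ p` to `V` is injective, because applying `g^j` to a relation gives
`∑ β_j^i v_i = 0` for all `j`, a Vandermonde system over the field `B`.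
-/

set_option autoImplicit false
set_option linter.unusedVariables false

namespace Cfsg.Agent.S3818P

open Module

/-- a matrix over a commutative ring `R` acting (through `φ`) on a vector of elements of `V`: if all rows kill the vector,
so does the determinant. -/
theorem A5_aux_det {k V R : Type*} [Field k] [AddCommGroup V] [Module k V] [CommRing R]
    {n : Type*} [Fintype n] [DecidableEq n]
    (φ : R →+* Module.End k V) (M : Matrix n n R) (v : n → V)
    (h : ∀ j, ∑ i, φ (M j i) (v i) = 0) (i₀ : n) : φ M.det (v i₀) = 0 := by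
  have h1 : M.adjugate * M = M.det • (1 : Matrix n n R) := Matrix.adjugate_mul M
  have h2 : ∑ l, φ ((M.adjugate * M) i₀ l) (v l) = φ M.det (v i₀) := by
    rw [h1]
    rw [Finset.sum_eq_single i₀]
    · simp
    · intro l _ hl
      have : (M.det • (1 : Matrix n n R)) i₀ l = 0 := by
        simp [Matrix.one_apply, Ne.symm hl]
      rw [this, map_zero]; rfl
    · intro h; exact absurd (Finset.mem_univ i₀) h
  rw [← h2]
  calc ∑ l, φ ((M.adjugate * M) i₀ l) (v l)
      = ∑ l, ∑ j, φ (M.adjugate i₀ j) (φ (M j l) (v l)) := by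
        apply Finset.sum_congr rfl
        intro l _
        rw [Matrix.mul_apply, map_sum, LinearMap.sum_apply]
        apply Finset.sum_congr rfl
        intro j _
        rw [map_mul]; rfl
    _ = ∑ j, φ (M.adjugate i₀ j) (∑ l, φ (M j l) (v l)) := by
        rw [Finset.sum_comm]
        apply Finset.sum_congr rfl
        intro j _
        rw [map_sum]
    _ = 0 := by
        apply Finset.sum_eq_zero
        intro j _
        rw [h j, map_zero]

/-- the centraliser of `b` in the group of units -/
def A5_aux_cent {E : Type*} [Monoid E] (b : E) : Subgroup Eˣ where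
  carrier := {z | (z : E) * b = b * (z : E)}
  one_mem' := by simp
  mul_mem' := by
    intro x y hx hy
    show ((x * y : Eˣ) : E) * b = b * ((x * y : Eˣ) : E)
    rw [Units.val_mul, mul_assoc, hy, ← mul_assoc, hx, mul_assoc]
  inv_mem' := by
    intro x hx
    show ((x⁻¹ : Eˣ) : E) * b = b * ((x⁻¹ : Eˣ) : E)
    have h1 : ((x⁻¹ : Eˣ) : E) * ((x : E) * b) * ((x⁻¹ : Eˣ) : E) =
        ((x⁻¹ : Eˣ) : E) * (b * (x : E)) * ((x⁻¹ : Eˣ) : E) := by rw [hx]
    rw [← mul_assoc, Units.inv_mul, one_mul, mul_assoc, mul_assoc, Units.mul_inv, mul_one] at h1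
    exact h1.symm

/-- if `u ^ p = 1`, `p` prime, and `u ^ m` centralises `b` for some `0 < m < p`, then `u` centralises `b` -/
theorem A5_aux_stab {E : Type*} [Monoid E] (b : E) (u : Eˣ) (p : ℕ) (hp : p.Prime) (hup : u ^ p = 1)
    (m : ℕ) (hm0 : 0 < m) (hmp : m < p) (hm : ((u ^ m : Eˣ) : E) * b = b * ((u ^ m : Eˣ) : E)) :
    (u : E) * b = b * (u : E) := by
  have hcop : Nat.Coprime m p := (Nat.coprime_of_lt_prime hm0.ne' hmp hp).symm
  have hmem : u ^ m ∈ A5_aux_cent b := hm
  have hbez := Int.gcd_eq_gcd_ab m p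
  have hg1 : Int.gcd (m : ℤ) (p : ℤ) = 1 := by
    rw [Int.gcd_natCast_natCast]; exact hcop
  rw [hg1] at hbez
  have hu : u = (u ^ m) ^ (Int.gcdA m p) := by
    have h1 : u ^ (1 : ℤ) = u ^ ((m : ℤ) * Int.gcdA m p + (p : ℤ) * Int.gcdB m p) := by
      rw [← hbez]; rfl
    rw [zpow_one, zpow_add, zpow_mul, zpow_mul, zpow_natCast, zpow_natCast, hup, one_zpow, mul_one] at h1
    exact h1
  have : u ∈ A5_aux_cent b := by
    rw [hu]; exact (A5_aux_cent b).zpow_mem hmem _
  exact this

/-- powers of a unit fixing `v` fix `v` -/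
theorem A5_aux_fix {k V : Type*} [Field k] [AddCommGroup V] [Module k V] (u : (Module.End k V)ˣ) (v : V)
    (hv : (u : Module.End k V) v = v) (j : ℕ) : ((u ^ j : (Module.End k V)ˣ) : Module.End k V) v = v := by
  induction j with
  | zero => simp
  | succ j ih =>
    rw [pow_succ, Units.val_mul, Module.End.mul_apply, hv, ih]

/-- A5 (semilinear lemma). -/
theorem A5_semilinear {k : Type*} [Field k] {V : Type*} [AddCommGroup V] [Module k V]
    [FiniteDimensional k V] (B : Subalgebra k (Module.End k V)) (hB : IsField ↥B)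
    (g ginv : Module.End k V) (hg : g * ginv = 1) (hg' : ginv * g = 1)
    (hnorm : ∀ b ∈ B, g * b * ginv ∈ B) (p : ℕ) (hp : p.Prime) (hgp : g ^ p = 1)
    (hnt : ∃ b ∈ B, g * b * ginv ≠ b) :
    p * finrank k (LinearMap.ker (g - 1)) ≤ finrank k V := by
  obtain ⟨b, hbB, hbne⟩ := hnt
  let u : (Module.End k V)ˣ := ⟨g, ginv, hg, hg'⟩
  have hu_val : (u : Module.End k V) = g := rfl
  have hu_inv : ((u⁻¹ : (Module.End k V)ˣ) : Module.End k V) = ginv := rfl
  have hup : u ^ p = 1 := by
    apply Units.ext
    rw [Units.val_pow_eq_pow_val]; exact hgp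
  -- the conjugates of `b` stay in `B`
  have hconjB : ∀ j : ℕ, ((u ^ j : (Module.End k V)ˣ) : Module.End k V) * b *
      (((u ^ j)⁻¹ : (Module.End k V)ˣ) : Module.End k V) ∈ B := by
    intro j
    induction j with
    | zero => simpa using hbB
    | succ j ih =>
      have h1 := hnorm _ ih
      have e : ((u ^ (j + 1) : (Module.End k V)ˣ) : Module.End k V) * b *
          (((u ^ (j + 1))⁻¹ : (Module.End k V)ˣ) : Module.End k V) =
          g * (((u ^ j : (Module.End k V)ˣ) : Module.End k V) * b *
            (((u ^ j)⁻¹ : (Module.End k V)ˣ) : Module.End k V)) * ginv := by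
        rw [pow_succ', mul_inv_rev, Units.val_mul, Units.val_mul, hu_val, hu_inv]
        simp only [mul_assoc]
      rw [e]; exact h1
  letI : Field ↥B := hB.toField
  let φ : ↥B →+* Module.End k V :=
    { toFun := fun x => (x : Module.End k V)
      map_one' := rfl
      map_mul' := fun _ _ => rfl
      map_zero' := rfl
      map_add' := fun _ _ => rfl }
  have hφ : ∀ x : ↥B, φ x = (x : Module.End k V) := fun _ => rfl
  let β : Fin p → ↥B := fun j => ⟨_, hconjB j⟩
  have hβval : ∀ j : Fin p, ((β j : ↥B) : Module.End k V) =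
      ((u ^ (j : ℕ) : (Module.End k V)ˣ) : Module.End k V) * b *
      (((u ^ (j : ℕ))⁻¹ : (Module.End k V)ˣ) : Module.End k V) := fun _ => rfl
  -- the conjugates are pairwise distinct
  have hβlt : ∀ i j : Fin p, (i : ℕ) < j → β i ≠ β j := by
    intro i j hlt hij
    have hval := congrArg Subtype.val hij
    rw [hβval, hβval] at hval
    have hm : ((u ^ ((j : ℕ) - i) : (Module.End k V)ˣ) : Module.End k V) * b =
        b * ((u ^ ((j : ℕ) - i) : (Module.End k V)ˣ) : Module.End k V) := by
      have hpow : u ^ ((j : ℕ) - i) = (u ^ (i : ℕ))⁻¹ * u ^ (j : ℕ) := by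
        rw [eq_inv_mul_iff_mul_eq, ← pow_add]
        congr 1; omega
      rw [hpow, Units.val_mul]
      have h1 := congrArg (fun T => (((u ^ (i : ℕ))⁻¹ : (Module.End k V)ˣ) : Module.End k V) * T *
        ((u ^ (j : ℕ) : (Module.End k V)ˣ) : Module.End k V)) hval
      simp only [← mul_assoc, Units.inv_mul, one_mul] at h1
      simp only [mul_assoc, Units.inv_mul, mul_one] at h1
      simp only [← mul_assoc] at h1 ⊢
      exact h1.symm
    have hcomm := A5_aux_stab b u p hp hup ((j : ℕ) - i) (by omega) (by have := j.2; omega) hm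
    apply hbne
    rw [hu_val] at hcomm
    rw [hcomm, mul_assoc, hg, mul_one]
  have hβinj : Function.Injective β := by
    intro i j hij
    by_contra hne
    rcases lt_or_gt_of_ne (fun h => hne (Fin.ext h)) with h | h
    · exact hβlt i j h hij
    · exact hβlt j i h hij.symm
  have hdet : (Matrix.vandermonde β).det ≠ 0 := Matrix.det_vandermonde_ne_zero_iff.2 hβinj
  -- the map `(v_i) ↦ ∑ b^i v_i`
  let Θ : (Fin p → LinearMap.ker (g - 1)) →ₗ[k] V :=
    ∑ i : Fin p, (b ^ (i : ℕ)) ∘ₗ (LinearMap.ker (g - 1)).subtype ∘ₗ LinearMap.proj i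
  have hΘ : ∀ w : Fin p → LinearMap.ker (g - 1), Θ w = ∑ i : Fin p, (b ^ (i : ℕ)) ((w i : LinearMap.ker (g - 1)) : V) := by
    intro w
    simp [Θ, LinearMap.sum_apply]
  have hinj : Function.Injective Θ := by
    rw [← LinearMap.ker_eq_bot, LinearMap.ker_eq_bot']
    intro w hw
    rw [hΘ] at hw
    have hfix : ∀ i : Fin p, (u : Module.End k V) ((w i : LinearMap.ker (g - 1)) : V) = (w i : V) := by
      intro i
      have := (w i).2
      rw [LinearMap.mem_ker, LinearMap.sub_apply, sub_eq_zero] at this
      exact this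
    -- the Vandermonde system
    have hsys : ∀ j : Fin p, ∑ i : Fin p, φ ((Matrix.vandermonde β) j i) ((w i : LinearMap.ker (g - 1)) : V) = 0 := by
      intro j
      have h1 := congrArg (fun x => ((u ^ (j : ℕ) : (Module.End k V)ˣ) : Module.End k V) x) hw
      simp only [map_sum, map_zero] at h1
      rw [← h1]
      apply Finset.sum_congr rfl
      intro i _
      rw [Matrix.vandermonde_apply, hφ, SubmonoidClass.coe_pow, hβval, Units.conj_pow,
        Module.End.mul_apply, Module.End.mul_apply]
      congr 1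
      have h2 := A5_aux_fix u _ (hfix i) (j : ℕ)
      have h3 : (((u ^ (j : ℕ))⁻¹ : (Module.End k V)ˣ) : Module.End k V) ((w i : LinearMap.ker (g - 1)) : V)
          = (w i : V) := by
        conv_lhs => rw [← h2]
        rw [← Module.End.mul_apply, Units.inv_mul, Module.End.one_apply]
      rw [h3]
    have hz := fun i => A5_aux_det φ (Matrix.vandermonde β) (fun i => ((w i : LinearMap.ker (g - 1)) : V)) hsys i
    funext i
    apply Subtype.ext
    have h1 : (Matrix.vandermonde β).det⁻¹ * (Matrix.vandermonde β).det = 1 := inv_mul_cancel₀ hdet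
    have h2 : φ ((Matrix.vandermonde β).det⁻¹ * (Matrix.vandermonde β).det) ((w i : LinearMap.ker (g - 1)) : V)
        = (w i : V) := by rw [h1, map_one]; rfl
    rw [map_mul, Module.End.mul_apply, hz i, map_zero] at h2
    exact h2.symm
  have hle := LinearMap.finrank_le_finrank_of_injective hinj
  rw [Module.finrank_pi_fintype] at hle
  simpa using hle

end Cfsg.Agent.S3818P
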