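import Mathlib
import Cfsg.Agent.Helper26.S3818Defs

/-!
# S3818 board, row AR (arithmetic)
-/

set_option autoImplicit false
set_option linter.unusedVariables false

namespace Cfsg.Agent.S3818P

/-- `4 ((p - 1) + R) ≤ p R` for `R = r ^ j`, `j ≥ 2`, (`r = p` or `R ≡ 1 mod p`), `p ≥ 5` prime. -/
theorem AR_aux_key (p' r j : ℕ) (hp : (p' + 1).Prime) (hp3 : 3 < p' + 1) (hr : r.Prime) (hj : 2 ≤ j)
    (hmod : r = p' + 1 ∨ r ^ j % (p' + 1) = 1) : 4 * (p' + r ^ j) ≤ (p' + 1) * r ^ j := by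
  have hr2 : 2 ≤ r := hr.two_le
  have hR4 : 4 ≤ r ^ j := by
    calc 4 = 2 ^ 2 := by norm_num
      _ ≤ r ^ 2 := Nat.pow_le_pow_left hr2 2
      _ ≤ r ^ j := Nat.pow_le_pow_right (by omega) hj
  have hp4 : 4 ≤ p' := by
    by_contra hlt
    have : p' = 3 := by omega
    subst this
    exact absurd hp (by norm_num)
  rcases hmod with h | h
  · -- `R ≥ p²`
    have hR : (p' + 1) ^ 2 ≤ r ^ j := by
      rw [h]; exact Nat.pow_le_pow_right (by omega) hj
    generalize r ^ j = R at *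
    have h5 : 5 * R ≤ (p' + 1) * R := Nat.mul_le_mul_right R (by omega)
    have h6 : 4 * p' ≤ (p' + 1) ^ 2 := by nlinarith
    omega
  · -- `R ≥ p + 1`
    have hRp : p' + 2 ≤ r ^ j := by
      have hdiv := Nat.div_add_mod (r ^ j) (p' + 1)
      rw [h] at hdiv
      rcases Nat.eq_zero_or_pos (r ^ j / (p' + 1)) with h0 | hpos
      · rw [h0] at hdiv; omega
      · have : (p' + 1) * 1 ≤ (p' + 1) * (r ^ j / (p' + 1)) := Nat.mul_le_mul_left _ hpos
        omega
    by_cases hp7 : 6 ≤ p'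
    · -- `p ≥ 7`, `R ≥ 8`
      generalize r ^ j = R at *
      obtain ⟨a, rfl⟩ : ∃ a, p' = a + 6 := ⟨p' - 6, by omega⟩
      obtain ⟨b, rfl⟩ : ∃ b, R = b + 8 := ⟨R - 8, by omega⟩
      ring_nf
      nlinarith [Nat.zero_le (a * b)]
    · -- `p = 5`
      have hp5 : p' = 4 := by
        have h1 : p' ≤ 5 := by omega
        interval_cases p'
        · rfl
        · exact absurd hp (by norm_num)
      subst hp5
      -- `R ≥ 16`
      have hR16 : 16 ≤ r ^ j := by
        by_contra hlt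
        push Not at hlt
        have hr4 : r < 4 := by
          by_contra hr4
          push Not at hr4
          have : 16 ≤ r ^ j := by
            calc 16 = 4 ^ 2 := by norm_num
              _ ≤ r ^ 2 := Nat.pow_le_pow_left hr4 2
              _ ≤ r ^ j := Nat.pow_le_pow_right (by omega) hj
          omega
        have hj4 : j < 4 := by
          by_contra hj4
          push Not at hj4
          have : 16 ≤ r ^ j := by
            calc 16 = 2 ^ 4 := by norm_num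
              _ ≤ r ^ 4 := Nat.pow_le_pow_left hr2 4
              _ ≤ r ^ j := Nat.pow_le_pow_right (by omega) hj4
          omega
        interval_cases r <;> interval_cases j <;> simp_all
      omega

/-- AR (arithmetic). -/
theorem AR_arith (p r j R C D μ n : ℕ) (hp : p.Prime) (hp3 : 3 < p) (hr : r.Prime) (hj : 2 ≤ j)
    (hR : R = r ^ j) (hmod : r = p ∨ R % p = 1) (hD : D = C * R) (hC : 0 < C)
    (h : p * D * (μ ^ 2 + 1) ≤ n ^ 2 * ((p - 1) * C + D)) : 2 * μ < n := by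
  obtain ⟨p', rfl⟩ : ∃ p', p = p' + 1 := ⟨p - 1, by omega⟩
  subst hR
  subst hD
  rw [Nat.add_sub_cancel] at h
  have hkey := AR_aux_key p' r j hp hp3 hr hj hmod
  have hRpos : 0 < r ^ j := Nat.pos_of_ne_zero (pow_ne_zero _ hr.ne_zero)
  -- cancel `C`
  have h1 : (p' + 1) * r ^ j * (μ ^ 2 + 1) ≤ n ^ 2 * (p' + r ^ j) := by
    have h2 : C * ((p' + 1) * r ^ j * (μ ^ 2 + 1)) ≤ C * (n ^ 2 * (p' + r ^ j)) := by
      calc C * ((p' + 1) * r ^ j * (μ ^ 2 + 1)) = (p' + 1) * (C * r ^ j) * (μ ^ 2 + 1) := by ring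
        _ ≤ n ^ 2 * (p' * C + C * r ^ j) := h
        _ = C * (n ^ 2 * (p' + r ^ j)) := by ring
    exact Nat.le_of_mul_le_mul_left h2 hC
  -- `4 (μ² + 1) ≤ n²`
  have h3 : 4 * (μ ^ 2 + 1) ≤ n ^ 2 := by
    have hpos : 0 < (p' + 1) * r ^ j := Nat.mul_pos (by omega) hRpos
    have h4 : ((p' + 1) * r ^ j) * (4 * (μ ^ 2 + 1)) ≤ ((p' + 1) * r ^ j) * n ^ 2 := by
      calc ((p' + 1) * r ^ j) * (4 * (μ ^ 2 + 1)) = 4 * ((p' + 1) * r ^ j * (μ ^ 2 + 1)) := by ring
        _ ≤ 4 * (n ^ 2 * (p' + r ^ j)) := Nat.mul_le_mul_left 4 h1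
        _ = n ^ 2 * (4 * (p' + r ^ j)) := by ring
        _ ≤ n ^ 2 * ((p' + 1) * r ^ j) := Nat.mul_le_mul_left _ hkey
        _ = ((p' + 1) * r ^ j) * n ^ 2 := by ring
    exact Nat.le_of_mul_le_mul_left h4 hpos
  by_contra hcon
  push Not at hcon
  nlinarith

end Cfsg.Agent.S3818P
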