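import Mathlib
import Cfsg.Agent.Helper10.S4017Defs
open Cfsg.Agent.S4017P

set_option autoImplicit false

/-! # S4017 piece ZC (helper22) -/

namespace Cfsg.Agent.S4017P

/-- the subgroup generated by the `p`-elements of `C_G(Q)` -/
def ZC.aux_U0 (p : ℕ) {G : Type*} [Group G] (Q : Subgroup G) : Subgroup G :=
  Subgroup.closure {c : G | IsPEl p c ∧ ∀ v ∈ Q, c * v = v * c}

/-- `N_G(Q)` normalizes `ZC.aux_U0 p Q` -/
theorem ZC.aux_conj {p : ℕ} {G : Type*} [Group G] {Q : Subgroup G} {g : G}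
    (hg : g ∈ Subgroup.normalizer (Q : Set G)) :
    ∀ x ∈ ZC.aux_U0 p Q, g * x * g⁻¹ ∈ ZC.aux_U0 p Q := by
  intro x hx
  unfold ZC.aux_U0 at hx ⊢
  induction hx using Subgroup.closure_induction with
  | mem c hc =>
    apply Subgroup.subset_closure
    obtain ⟨⟨k, hk⟩, hcQ⟩ := hc
    refine ⟨⟨k, ?_⟩, ?_⟩
    · have := (MulAut.conj g).orderOf_eq c
      rw [MulAut.conj_apply] at this
      rw [this, hk]
    · intro v hv
      have hv' : g⁻¹ * v * g ∈ Q := by
        have := (Subgroup.mem_normalizer_iff.1 (Subgroup.inv_mem _ hg) v).1 hv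
        simpa using this
      have h1 := hcQ _ hv'
      calc g * c * g⁻¹ * v = g * (c * (g⁻¹ * v * g)) * g⁻¹ := by group
        _ = g * ((g⁻¹ * v * g) * c) * g⁻¹ := by rw [h1]
        _ = v * (g * c * g⁻¹) := by group
  | one => simpa using Subgroup.one_mem _
  | mul x y _ _ hx hy =>
    have : g * (x * y) * g⁻¹ = (g * x * g⁻¹) * (g * y * g⁻¹) := by group
    rw [this]; exact Subgroup.mul_mem _ hx hy
  | inv x _ hx =>
    have : g * x⁻¹ * g⁻¹ = (g * x * g⁻¹)⁻¹ := by group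
    rw [this]; exact Subgroup.inv_mem _ hx

theorem ZC {G : Type*} [Group G] [Finite G] {p a : ℕ} {Q : Subgroup G} {z : G}
    (h : Cfg G p a Q z) (hutp : ∀ t : G, orderOf t = 2 → IsPGroup p (U p t)) :
    ∀ m c : G, m ∈ Subgroup.normalizer (Q : Set G) → IsPEl p m → IsPEl p c →
      (∀ v ∈ Q, c * v = v * c) → m * c = c * m := by
  intro m c hmN hmp hcp hcQ
  haveI : Fact p.Prime := ⟨h.hp⟩
  -- an involution in `Q`
  have ha : a ≠ 0 := by
    intro ha0
    have := h.ha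
    rw [ha0, pow_zero] at this
    have := h.hp.pos
    omega
  have h2 : 2 ∣ Nat.card Q := by
    rw [h.hQ]; exact dvd_pow_self 2 ha
  haveI : Fact (Nat.Prime 2) := ⟨Nat.prime_two⟩
  obtain ⟨t, ht⟩ := exists_prime_orderOf_dvd_card' 2 h2
  have ht2 : orderOf (t : G) = 2 := by rw [Subgroup.orderOf_coe]; exact ht
  -- `U0 ≤ U p t` is a `p`-group
  have hle : ZC.aux_U0 p Q ≤ U p (t : G) := by
    unfold ZC.aux_U0 U
    apply Subgroup.closure_mono
    rintro x ⟨hx1, hx2⟩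
    exact ⟨hx2 _ t.2, hx1⟩
  have hU0 : IsPGroup p (ZC.aux_U0 p Q) := (hutp _ ht2).to_le hle
  -- `zpowers m` is a `p`-group normalizing `U0`
  obtain ⟨k, hk⟩ := hmp
  have hzm : IsPGroup p (Subgroup.zpowers m) := by
    apply IsPGroup.of_card (n := k)
    rw [Nat.card_zpowers, hk]
  have hnorm : Subgroup.zpowers m ≤ Subgroup.normalizer ((ZC.aux_U0 p Q : Subgroup G) : Set G) := by
    rw [Subgroup.zpowers_le]
    rw [Subgroup.mem_normalizer_iff]
    intro x
    constructor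
    · intro hx
      exact ZC.aux_conj hmN x hx
    · intro hx
      have := ZC.aux_conj (p := p) (Subgroup.inv_mem _ hmN) _ hx
      simpa [mul_assoc] using this
  have hsup : IsPGroup p (ZC.aux_U0 p Q ⊔ Subgroup.zpowers m : Subgroup G) :=
    IsPGroup.to_sup_of_normal_left' hU0 hzm hnorm
  have hm : m ∈ (ZC.aux_U0 p Q ⊔ Subgroup.zpowers m : Subgroup G) :=
    (le_sup_right : Subgroup.zpowers m ≤ _) (Subgroup.mem_zpowers m)
  have hc : c ∈ (ZC.aux_U0 p Q ⊔ Subgroup.zpowers m : Subgroup G) :=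
    (le_sup_left : ZC.aux_U0 p Q ≤ _) (Subgroup.subset_closure ⟨hcp, hcQ⟩)
  exact h.hab _ hsup m hm c hc

end Cfsg.Agent.S4017P
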