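import Mathlib
import Cfsg.Agent.Helper10.S4017Defs
open Cfsg.Agent.S4017P

set_option autoImplicit false

/-! # S4017 piece ZOUT (helper22) -/

namespace Cfsg.Agent.S4017P

/-- an element lying in a `p`-group and in a group of order `2 ^ a` (`p` odd) is trivial -/
theorem ZOUT.aux_inf {G : Type*} [Group G] [Finite G] {p a : ℕ} (hp : p.Prime) (hp2 : p ≠ 2)
    {P Q : Subgroup G} (hP : IsPGroup p P) (hQ : Nat.card Q = 2 ^ a) {g : G} (hgP : g ∈ P)
    (hgQ : g ∈ Q) : g = 1 := by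
  obtain ⟨k, hk⟩ := hP ⟨g, hgP⟩
  have h1 : g ^ p ^ k = 1 := by
    have := congrArg Subtype.val hk
    simpa using this
  have h2 : g ^ 2 ^ a = 1 := by
    have h3 : (⟨g, hgQ⟩ : Q) ^ Nat.card Q = 1 := pow_card_eq_one'
    rw [hQ] at h3
    have := congrArg Subtype.val h3
    simpa using this
  have hd1 : orderOf g ∣ p ^ k := orderOf_dvd_of_pow_eq_one h1
  have hd2 : orderOf g ∣ 2 ^ a := orderOf_dvd_of_pow_eq_one h2
  have hcop : Nat.Coprime (p ^ k) (2 ^ a) := by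
    apply Nat.Coprime.pow
    exact (Nat.coprime_primes hp Nat.prime_two).2 hp2
  have : orderOf g ∣ 1 := by
    have := Nat.dvd_gcd hd1 hd2
    rwa [hcop] at this
  exact orderOf_eq_one_iff.1 (Nat.dvd_one.1 this)

/-- powers of a product `x * v` with `x ∈ P`, `v` normalizing `P` -/
theorem ZOUT.aux_pow {G : Type*} [Group G] {P : Subgroup G} {x v : G} (hx : x ∈ P)
    (hv : ∀ n : ℕ, ∀ y ∈ P, v ^ n * y * (v ^ n)⁻¹ ∈ P) (n : ℕ) :
    ∃ x' ∈ P, (x * v) ^ n = x' * v ^ n := by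
  induction n with
  | zero => exact ⟨1, P.one_mem, by simp⟩
  | succ n ih =>
    obtain ⟨x', hx', h⟩ := ih
    refine ⟨x' * (v ^ n * x * (v ^ n)⁻¹), P.mul_mem hx' (hv n x hx), ?_⟩
    rw [pow_succ, h, pow_succ]
    group

theorem ZOUT {G : Type*} [Group G] [Finite G] {p a : ℕ} {Q : Subgroup G} {z : G}
    (h : Cfg G p a Q z) :
    ∀ P : Subgroup G, IsPGroup p P → (∀ v ∈ Q, ∀ x ∈ P, v * x * v⁻¹ ∈ P) →
      ∀ m : G, m ∈ Subgroup.normalizer (Q : Set G) → IsPEl p m → m ∈ P ⊔ Q →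
        ∀ v ∈ Q, m * v = v * m := by
  intro P hP hQP m hmN hmp hmPQ v hv
  have hQN : Q ≤ Subgroup.normalizer (P : Set G) := by
    intro w hw
    rw [Subgroup.mem_normalizer_iff]
    intro x
    constructor
    · intro hx
      exact hQP w hw x hx
    · intro hx
      have := hQP w⁻¹ (Q.inv_mem hw) _ hx
      simpa [mul_assoc] using this
  -- `m = x * w` with `x ∈ P`, `w ∈ Q`
  have hmem : m ∈ ((P ⊔ Q : Subgroup G) : Set G) := hmPQ
  rw [Subgroup.coe_mul_of_right_le_normalizer_left P Q hQN] at hmem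
  obtain ⟨x, hx, w, hw, hxw⟩ := hmem
  have hx' : x ∈ P := hx
  have hw' : w ∈ Q := hw
  -- `w = 1`
  obtain ⟨k, hk⟩ := hmp
  have hwn : ∀ n : ℕ, ∀ y ∈ P, w ^ n * y * (w ^ n)⁻¹ ∈ P := fun n y hy =>
    hQP (w ^ n) (Q.pow_mem hw' n) y hy
  obtain ⟨x1, hx1, hpow⟩ := ZOUT.aux_pow hx' hwn (p ^ k)
  have hm1 : m ^ p ^ k = 1 := by
    rw [← hk]; exact pow_orderOf_eq_one m
  have hxw' : x * w = m := hxw
  rw [hxw', hm1] at hpow
  have hwpk : w ^ p ^ k ∈ P := by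
    have : w ^ p ^ k = x1⁻¹ := by
      rw [eq_comm, inv_eq_iff_mul_eq_one]
      exact hpow.symm
    rw [this]; exact P.inv_mem hx1
  have hwpk1 : w ^ p ^ k = 1 :=
    ZOUT.aux_inf h.hp h.hp2 hP h.hQ hwpk (Q.pow_mem hw' _)
  have hw2 : w ^ 2 ^ a = 1 := by
    have h3 : (⟨w, hw'⟩ : Q) ^ Nat.card Q = 1 := pow_card_eq_one'
    rw [h.hQ] at h3
    have := congrArg Subtype.val h3
    simpa using this
  have hw1 : w = 1 := by
    have hd1 : orderOf w ∣ p ^ k := orderOf_dvd_of_pow_eq_one hwpk1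
    have hd2 : orderOf w ∣ 2 ^ a := orderOf_dvd_of_pow_eq_one hw2
    have hcop : Nat.Coprime (p ^ k) (2 ^ a) := by
      apply Nat.Coprime.pow
      exact (Nat.coprime_primes h.hp Nat.prime_two).2 h.hp2
    have : orderOf w ∣ 1 := by
      have := Nat.dvd_gcd hd1 hd2
      rwa [hcop] at this
    exact orderOf_eq_one_iff.1 (Nat.dvd_one.1 this)
  have hmP : m ∈ P := by
    rw [← hxw', hw1, mul_one]; exact hx'
  -- the commutator lies in `P ⊓ Q`
  have hc1 : m * v * m⁻¹ * v⁻¹ ∈ Q := by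
    have : m * v * m⁻¹ ∈ Q := (Subgroup.mem_normalizer_iff.1 hmN v).1 hv
    exact Q.mul_mem this (Q.inv_mem hv)
  have hc2 : m * v * m⁻¹ * v⁻¹ ∈ P := by
    have : v * m⁻¹ * v⁻¹ ∈ P := hQP v hv _ (P.inv_mem hmP)
    have h2 := P.mul_mem hmP this
    simpa [mul_assoc] using h2
  have hc := ZOUT.aux_inf h.hp h.hp2 hP h.hQ hc2 hc1
  have : m * v * m⁻¹ * v⁻¹ * v * m = v * m := by rw [hc, one_mul]
  simpa [mul_assoc] using this

end Cfsg.Agent.S4017P
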