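import Cfsg.Agent.Helper29.S5677.Defs

set_option autoImplicit false
set_option linter.unusedSectionVars false
set_option linter.unusedVariables false

/-! # S5677 piece GEOA: geometry in a subspace `N` with nondegenerate polar form, `dim N ≥ 3`. -/

namespace Cfsg.Agent.S5677P

open Matrix Cfsg.Agent.Helper28.Sg Cfsg.Agent.Helper28.Spin Cfsg.Agent.Helper12.OrthGen
  Cfsg.Agent.S2614 Cfsg.Agent.S5683P Cfsg.Agent.Helper28.NDM

variable {F : Type*} [Field F] {m t k : ℕ} {D : Fin t → Submodule F (Idx m → F)}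

namespace GEOA

variable {ι : Type} [Fintype ι] [DecidableEq ι] (Q : QuadraticForm F (ι → F))

/-- the form of `a + s • b + c` -/
theorem Q_three (a b c : ι → F) (s : F) :
    Q (a + s • b + c) = Q a + s * s * Q b + Q c + s * B Q a b + B Q a c + s * B Q b c := by
  rw [Q_add, Q_add, Q_smul]
  simp only [B, QuadraticMap.polar_add_left, QuadraticMap.polar_smul_left,
    QuadraticMap.polar_smul_right, smul_eq_mul]
  ring

theorem B_three (x a b c : ι → F) (s : F) :
    B Q x (a + s • b + c) = B Q x a + s * B Q x b + B Q x c := by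
  simp only [B, QuadraticMap.polar_add_right, QuadraticMap.polar_smul_right, smul_eq_mul]

/-- the projection to the perpendicular of a pair `u, u'` with `B u u' = β ≠ 0` -/
def prj (u u' : ι → F) (β : F) (w : ι → F) : ι → F :=
  w + (-(B Q w u' / β)) • u + (-(B Q w u / β)) • u'

theorem prj_mem {N : Submodule F (ι → F)} {u u' : ι → F} (hu : u ∈ N) (hu' : u' ∈ N) (β : F)
    {w : ι → F} (hw : w ∈ N) : prj Q u u' β w ∈ N :=
  N.add_mem (N.add_mem hw (N.smul_mem _ hu)) (N.smul_mem _ hu')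

theorem B_prj_left {u u' : ι → F} (hQu : Q u = 0) (hQu' : Q u' = 0) {β : F} (hβ : B Q u u' = β)
    (hβ0 : β ≠ 0) (w : ι → F) : B Q u (prj Q u u' β w) = 0 := by
  unfold prj
  have h1 : B Q u (w + (-(B Q w u' / β)) • u + (-(B Q w u / β)) • u') =
      B Q u w + (-(B Q w u' / β)) * B Q u u + (-(B Q w u / β)) * B Q u u' := by
    simp only [B, QuadraticMap.polar_add_right, QuadraticMap.polar_smul_right, smul_eq_mul]
  rw [h1, B_self_of_singular Q hQu, hβ, B_comm Q w u]
  field_simp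
  ring

theorem B_prj_right {u u' : ι → F} (hQu : Q u = 0) (hQu' : Q u' = 0) {β : F} (hβ : B Q u u' = β)
    (hβ0 : β ≠ 0) (w : ι → F) : B Q u' (prj Q u u' β w) = 0 := by
  unfold prj
  have h1 : B Q u' (w + (-(B Q w u' / β)) • u + (-(B Q w u / β)) • u') =
      B Q u' w + (-(B Q w u' / β)) * B Q u' u + (-(B Q w u / β)) * B Q u' u' := by
    simp only [B, QuadraticMap.polar_add_right, QuadraticMap.polar_smul_right, smul_eq_mul]
  rw [h1, B_self_of_singular Q hQu', B_comm Q u' u, hβ, B_comm Q w u']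
  field_simp
  ring

/-- the polar form against a vector perpendicular to `u, u'` does not see the projection -/
theorem B_prj_of_perp {u u' x : ι → F} (β : F) (hxu : B Q x u = 0) (hxu' : B Q x u' = 0)
    (w : ι → F) : B Q x (prj Q u u' β w) = B Q x w := by
  unfold prj
  have h1 : B Q x (w + (-(B Q w u' / β)) • u + (-(B Q w u / β)) • u') =
      B Q x w + (-(B Q w u' / β)) * B Q x u + (-(B Q w u / β)) * B Q x u' := by
    simp only [B, QuadraticMap.polar_add_right, QuadraticMap.polar_smul_right, smul_eq_mul]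
  rw [h1, hxu, hxu']
  ring

/-- a nonsingular vector of `N` perpendicular to a non-perpendicular singular pair (`dim N ≥ 3`) -/
theorem exists_nonsing_perp (N : Submodule F (ι → F)) (hN : NDon Q N)
    (h3 : 3 ≤ Module.finrank F N) {u u' : ι → F} (hu : u ∈ N) (hu' : u' ∈ N) (hQu : Q u = 0)
    (hQu' : Q u' = 0) (hβ0 : B Q u u' ≠ 0) :
    ∃ w ∈ N, B Q u w = 0 ∧ B Q u' w = 0 ∧ Q w ≠ 0 := by
  classical
  obtain ⟨β, hβ⟩ : ∃ β : F, B Q u u' = β := ⟨_, rfl⟩
  rw [hβ] at hβ0
  -- a vector of `N` outside the span of `u, u'`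
  obtain ⟨w0, hw0N, hw0⟩ : ∃ w0 ∈ N, w0 ∉ Submodule.span F ({u, u'} : Set (ι → F)) := by
    by_contra hcon
    push Not at hcon
    have hle : N ≤ Submodule.span F ({u, u'} : Set (ι → F)) := hcon
    have h1 := Submodule.finrank_mono hle
    have h2 : Module.finrank F (Submodule.span F ({u, u'} : Set (ι → F))) ≤ 2 := by
      have := finrank_span_finset_le_card (R := F) ({u, u'} : Finset (ι → F))
      rw [Finset.coe_insert, Finset.coe_singleton] at this
      exact this.trans Finset.card_le_two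
    omega
  obtain ⟨x, hx⟩ : ∃ x : ι → F, x = prj Q u u' β w0 := ⟨_, rfl⟩
  have hxN : x ∈ N := by rw [hx]; exact prj_mem Q hu hu' β hw0N
  have hux : B Q u x = 0 := by rw [hx]; exact B_prj_left Q hQu hQu' hβ hβ0 w0
  have hu'x : B Q u' x = 0 := by rw [hx]; exact B_prj_right Q hQu hQu' hβ hβ0 w0
  have hx0 : x ≠ 0 := by
    intro h0
    apply hw0
    have : w0 = (B Q w0 u' / β) • u + (B Q w0 u / β) • u' := by
      have h1 : prj Q u u' β w0 = 0 := by rw [← hx]; exact h0
      unfold prj at h1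
      have h2 : w0 = w0 + (-(B Q w0 u' / β)) • u + (-(B Q w0 u / β)) • u' +
          ((B Q w0 u' / β) • u + (B Q w0 u / β) • u') := by
        simp only [neg_smul]
        abel
      rw [h1, zero_add] at h2
      exact h2
    rw [this]
    exact Submodule.add_mem _ (Submodule.smul_mem _ _ (Submodule.subset_span (by simp)))
      (Submodule.smul_mem _ _ (Submodule.subset_span (by simp)))
  obtain ⟨y, hyN, hxy⟩ := hN x hxN hx0
  obtain ⟨y', hy'⟩ : ∃ y' : ι → F, y' = prj Q u u' β y := ⟨_, rfl⟩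
  have hy'N : y' ∈ N := by rw [hy']; exact prj_mem Q hu hu' β hyN
  have huy' : B Q u y' = 0 := by rw [hy']; exact B_prj_left Q hQu hQu' hβ hβ0 y
  have hu'y' : B Q u' y' = 0 := by rw [hy']; exact B_prj_right Q hQu hQu' hβ hβ0 y
  have hxy' : B Q x y' ≠ 0 := by
    rw [hy', B_prj_of_perp Q β (by rw [B_comm]; exact hux) (by rw [B_comm]; exact hu'x)]
    exact hxy
  by_contra hcon
  push Not at hcon
  have h1 := hcon x hxN hux hu'x
  have h2 := hcon y' hy'N huy' hu'y'
  have h3' := hcon (x + y') (N.add_mem hxN hy'N)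
    (by simp only [B, QuadraticMap.polar_add_right] at hux huy' ⊢; rw [hux, huy', add_zero])
    (by simp only [B, QuadraticMap.polar_add_right] at hu'x hu'y' ⊢; rw [hu'x, hu'y', add_zero])
  apply hxy'
  have := Q_add Q x y'
  rw [h1, h2, h3'] at this
  linear_combination -this

end GEOA

/-- a non-zero vector of `N` is not perpendicular to all singular vectors of `N`
(`le_of_singular_mem` with `Z = x^⊥`) -/
theorem GEOA.sing_nonorth [Fintype F] (N : Submodule F (Idx m → F)) (hN : NDon (QfOdd m F) N)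
    (h3 : 3 ≤ Module.finrank F N) {x : Idx m → F} (hx : x ∈ N) (hx0 : x ≠ 0) :
    ∃ u ∈ N, QfOdd m F u = 0 ∧ B (QfOdd m F) u x ≠ 0 := by
  by_contra hcon
  push Not at hcon
  have hle : N ≤ perpIn (QfOdd m F) ⊤ {x} := by
    apply le_of_singular_mem (QfOdd m F) N hN h3
    intro v hv hQv
    rw [mem_perpIn]
    refine ⟨Submodule.mem_top, ?_⟩
    intro w hw
    rw [Set.mem_singleton_iff] at hw
    rw [hw, B_comm]
    exact hcon v hv hQv
  obtain ⟨y, hyN, hxy⟩ := hN x hx hx0
  apply hxy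
  have := hle hyN
  rw [mem_perpIn] at this
  exact this.2 x rfl

/-- two non-zero singular vectors of `N` have a common non-perpendicular singular vector (`dim N ≥ 3`) -/
theorem GEOA.connect [Fintype F] (N : Submodule F (Idx m → F)) (hN : NDon (QfOdd m F) N)
    (h3 : 3 ≤ Module.finrank F N)
    {u u' : Idx m → F} (hu : u ∈ N) (hu' : u' ∈ N) (hu0 : u ≠ 0) (hu'0 : u' ≠ 0)
    (hQu : QfOdd m F u = 0) (hQu' : QfOdd m F u' = 0) :
    ∃ f ∈ N, QfOdd m F f = 0 ∧ B (QfOdd m F) u f ≠ 0 ∧ B (QfOdd m F) u' f ≠ 0 := by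
  have huu : B (QfOdd m F) u u = 0 := B_self_of_singular _ hQu
  have hu'u' : B (QfOdd m F) u' u' = 0 := B_self_of_singular _ hQu'
  by_cases hβ : B (QfOdd m F) u u' = 0
  · have hβ' : B (QfOdd m F) u' u = 0 := by rw [B_comm]; exact hβ
    obtain ⟨f, hfN, hQf, huf⟩ :=
      Cfsg.Agent.Helper28.PDN.exists_partner_in (QfOdd m F) N hN.geo u hu hu0 hQu
    obtain ⟨f', hf'N, hQf', hu'f'⟩ :=
      Cfsg.Agent.Helper28.PDN.exists_partner_in (QfOdd m F) N hN.geo u' hu' hu'0 hQu'
    by_cases h1 : B (QfOdd m F) u' f = 0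
    swap
    · exact ⟨f, hfN, hQf, by rw [huf]; exact one_ne_zero, h1⟩
    by_cases h2 : B (QfOdd m F) u f' = 0
    swap
    · exact ⟨f', hf'N, hQf', h2, by rw [hu'f']; exact one_ne_zero⟩
    obtain ⟨c, hc⟩ : ∃ c : F, c = B (QfOdd m F) f f' := ⟨_, rfl⟩
    refine ⟨f + (-c) • u + f', N.add_mem (N.add_mem hfN (N.smul_mem _ hu)) hf'N, ?_, ?_, ?_⟩
    · rw [GEOA.Q_three, hQf, hQu, hQf', ← hc, B_comm _ f u, huf, h2]
      ring
    · rw [GEOA.B_three, huf, huu, h2]
      simp
    · rw [GEOA.B_three, h1, hβ', hu'f']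
      simp
  · obtain ⟨w, hwN, huw, hu'w, hQw⟩ :=
      GEOA.exists_nonsing_perp (QfOdd m F) N hN h3 hu hu' hQu hQu' hβ
    obtain ⟨β, hβe⟩ : ∃ β : F, B (QfOdd m F) u u' = β := ⟨_, rfl⟩
    rw [hβe] at hβ
    refine ⟨u + (-(QfOdd m F w) / β) • u' + w,
      N.add_mem (N.add_mem hu (N.smul_mem _ hu')) hwN, ?_, ?_, ?_⟩
    · rw [GEOA.Q_three, hQu, hQu', hβe, huw, hu'w]
      field_simp
      ring
    · rw [GEOA.B_three, huu, hβe, huw]
      field_simp
      simpa using hQw
    · rw [GEOA.B_three, hu'u', B_comm _ u' u, hβe, hu'w]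
      simpa using hβ

end Cfsg.Agent.S5677P
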