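import Cfsg.Agent.Helper29.S5677.Defs

set_option autoImplicit false
set_option linter.unusedSectionVars false
set_option linter.unusedVariables false

/-! # S5677 piece STAB: membership in the stabiliser of the decomposition. -/

namespace Cfsg.Agent.S5677P

open Matrix Cfsg.Agent.Helper28.Sg Cfsg.Agent.Helper28.Spin Cfsg.Agent.Helper12.OrthGen
  Cfsg.Agent.S2614 Cfsg.Agent.S5683P Cfsg.Agent.Helper28.NDM

variable {F : Type*} [Field F] {m t k : ℕ} {D : Fin t → Submodule F (Idx m → F)}

namespace STAB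

theorem toLin_injective (g : OG m F) :
    Function.Injective (Matrix.toLin' (mt (QfOdd m F) g)) := by
  intro x y hxy
  simp only [Matrix.toLin'_apply] at hxy
  have := congrArg (fun z => mt (QfOdd m F) g⁻¹ *ᵥ z) hxy
  simpa only [mt_inv_mulVec] using this

theorem mem_map_iff (g : OG m F) (N : Submodule F (Idx m → F)) (x : Idx m → F) :
    mt (QfOdd m F) g *ᵥ x ∈ N.map (Matrix.toLin' (mt (QfOdd m F) g)) ↔ x ∈ N := by
  constructor
  · rintro ⟨y, hy, hyx⟩
    have : y = x := toLin_injective g (by simpa only [Matrix.toLin'_apply] using hyx)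
    rw [← this]
    exact hy
  · intro hx
    exact ⟨x, hx, by simp only [Matrix.toLin'_apply]⟩

end STAB

/-- an isometry mapping each block into a block, along a permutation, stabilises `D`
(the images are equal to the blocks by `finrank`) -/
theorem STAB.of_perm (hD : HD k D) {g : OG m F} (σ : Equiv.Perm (Fin t))
    (h : ∀ i, ∀ x ∈ D i, mt (QfOdd m F) g *ᵥ x ∈ D (σ i)) : g ∈ StabO D := by
  rw [mem_StabO]
  refine ⟨σ, fun i => ?_⟩
  have hle : (D i).map (Matrix.toLin' (mt (QfOdd m F) g)) ≤ D (σ i) := by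
    rintro _ ⟨x, hx, rfl⟩
    simp only [Matrix.toLin'_apply]
    exact h i x hx
  apply Submodule.eq_of_le_of_finrank_eq hle
  rw [hD.rank (σ i), ← hD.rank i]
  exact (Submodule.equivMapOfInjective _ (STAB.toLin_injective g) (D i)).finrank_eq.symm

theorem STAB.perm (hD : HD k D) {g : OG m F} (hg : g ∈ StabO D) :
    ∃ σ : Equiv.Perm (Fin t), ∀ i, ∀ x, x ∈ D i ↔ mt (QfOdd m F) g *ᵥ x ∈ D (σ i) := by
  rw [mem_StabO] at hg
  obtain ⟨σ, hσ⟩ := hg
  refine ⟨σ, fun i x => ?_⟩
  rw [← hσ i, STAB.mem_map_iff]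

/-- an isometry mapping each block into itself -/
theorem STAB.of_block (hD : HD k D) {g : OG m F}
    (h : ∀ i, ∀ x ∈ D i, mt (QfOdd m F) g *ᵥ x ∈ D i) : g ∈ StabO D :=
  STAB.of_perm hD 1 (by simpa using h)

end Cfsg.Agent.S5677P
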