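import Cfsg.Agent.Helper29.S5677.Defs
import Cfsg.Agent.Helper29.S5677.Defs2
import Cfsg.Agent.Helper24.S5677GEOB
import Cfsg.Agent.Helper22.S5677PMB

set_option autoImplicit false
set_option linter.unusedSectionVars false
set_option linter.unusedVariables false

/-! # S5677 piece SPREAD1: a singular vector of another block not perpendicular to `Rad M u` lies in `Lsub M u`. -/

namespace Cfsg.Agent.S5677P

open Matrix Cfsg.Agent.Helper28.Sg Cfsg.Agent.Helper28.Spin Cfsg.Agent.Helper12.OrthGen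
  Cfsg.Agent.S2614 Cfsg.Agent.S5683P Cfsg.Agent.Helper28.NDM

variable {F : Type*} [Field F] [Fintype F] {m t k : ℕ} {D : Fin t → Submodule F (Idx m → F)}
  {M : Subgroup (OG m F)}

namespace SPREAD1

/-- an additive subgroup of a field (`2 ≠ 0`) containing `κ s²` for all `s` is everything -/
theorem sq_gen {K : Type*} [Field K] (h2 : (2 : K) ≠ 0) (A : AddSubgroup K) {κ : K}
    (hκ : κ ≠ 0) (h : ∀ s : K, κ * s ^ 2 ∈ A) (x : K) : x ∈ A := by
  have h1 := h ((x / κ + 1) / 2)
  have h2' := h ((x / κ - 1) / 2)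
  have h3 := A.sub_mem h1 h2'
  convert h3 using 1
  field_simp
  ring

end SPREAD1

/-- a singular `e' ∈ D b` not perpendicular to some `w ∈ Rad M u` lies in `Lsub M u`: PMB.mem with
`s • z'`, `z' ∈ D b` nonsingular `⊥ e'` (GEOB.nonsing_perp), and SQGEN.top for the additive subgroup
`{x : F | x • e' ∈ Rad M u}` -/
theorem SPREAD1.mem (h2 : (2 : F) ≠ 0) (hD : HD k D) (hHM : HS D ≤ M) {c b : Fin t} (hcb : c ≠ b)
    {u : Idx m → F} (hu : u ∈ D c) (hQu : QfOdd m F u = 0) {e' : Idx m → F} (he' : e' ∈ D b)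
    (he'0 : e' ≠ 0) (hQe' : QfOdd m F e' = 0) {w : Idx m → F} (hw : w ∈ Rad M u hQu)
    (hne : B (QfOdd m F) e' w ≠ 0) : e' ∈ Lsub M u hQu := by
  have h3 : 3 ≤ Module.finrank F (D b) := by rw [hD.rank b]; exact hD.k3
  obtain ⟨z', hz'N, hez, hQz'⟩ := GEOB.nonsing_perp h2 (D b) (hD.nd b) h3 he' he'0 hQe'
  -- the additive subgroup of the `x` with `x • e' ∈ Rad M u`
  let A : AddSubgroup F :=
    { carrier := {x | x • e' ∈ Rad M u hQu}
      zero_mem' := by
        show (0 : F) • e' ∈ Rad M u hQu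
        rw [zero_smul]; exact (Rad M u hQu).zero_mem
      add_mem' := by
        intro x y hx hy
        show (x + y) • e' ∈ Rad M u hQu
        rw [add_smul]; exact (Rad M u hQu).add_mem hx hy
      neg_mem' := by
        intro x hx
        show (-x) • e' ∈ Rad M u hQu
        rw [neg_smul]; exact (Rad M u hQu).neg_mem hx }
  have hκ : 2 * (QfOdd m F z' * B (QfOdd m F) e' w) ≠ 0 :=
    mul_ne_zero h2 (mul_ne_zero hQz' hne)
  have hA : ∀ s : F, 2 * (QfOdd m F z' * B (QfOdd m F) e' w) * s ^ 2 ∈ A := by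
    intro s
    have hes : B (QfOdd m F) e' (s • z') = 0 := B_smul_right_zero _ s hez
    have := PMB.mem hD hHM hcb hu hQu he' ((D b).smul_mem s hz'N) hQe' hes hw
    rw [Q_smul] at this
    show (2 * (QfOdd m F z' * B (QfOdd m F) e' w) * s ^ 2) • e' ∈ Rad M u hQu
    convert this using 2
    ring
  have hall : ∀ x : F, x • e' ∈ Rad M u hQu := fun x => SPREAD1.sq_gen h2 A hκ hA x
  rw [mem_Lsub]
  have hue' : B (QfOdd m F) u e' = 0 := hD.orth c b hcb u hu e' he'
  refine ⟨hue', fun s hs => ?_⟩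
  obtain ⟨_, hmem⟩ := mem_Rad.mp (hall s)
  exact hmem

end Cfsg.Agent.S5677P
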