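import Mathlib
import Cfsg.Prelude.Def_Characters
import Cfsg.Agent.Helper12.WGDefs

/-! # S2524 pieces CLASSA, CLASSB, CLASSC, CLASSD: symmetric matrices of rank one -/

set_option autoImplicit false

namespace Cfsg.Agent.S2524P

open Matrix Cfsg Cfsg.Agent.S2333P

variable {F : Type*} [Field F] [Fintype F]

theorem class_rk1_ext {n : ℕ} {T T' : ↥(SymM n F)}
    (h : ∀ i j, (T : Matrix (Fin n) (Fin n) F) i j = (T' : Matrix (Fin n) (Fin n) F) i j) :
    T = T' := Subtype.ext (Matrix.ext h)

theorem class_rk1_smul {n : ℕ} (c t : F) (x : Fin n → F) : rk1 (c * t ^ 2) x = rk1 c (t • x) := by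
  apply class_rk1_ext
  intro i j
  rw [rk1_apply, rk1_apply, Pi.smul_apply, Pi.smul_apply, smul_eq_mul, smul_eq_mul]
  ring

/-- **CLASSA**: the class only depends on `c` modulo squares -/
theorem ofClass_mul_sq {n : ℕ} (c t : F) (ht : t ≠ 0) (T : ↥(SymM n F)) :
    OfClass (c * t ^ 2) T ↔ OfClass c T := by
  constructor
  · rintro ⟨x, hx, rfl⟩
    refine ⟨t • x, smul_ne_zero ht hx, class_rk1_smul c t x⟩
  · rintro ⟨x, hx, rfl⟩
    refine ⟨t⁻¹ • x, smul_ne_zero (inv_ne_zero ht) hx, ?_⟩
    rw [class_rk1_smul, smul_smul, mul_inv_cancel₀ ht, one_smul]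

/-- **CLASSB**: the two classes are disjoint -/
theorem not_ofClass_of_not_isSquare {n : ℕ} {c c' : F} (hc : c ≠ 0) (h : ¬ IsSquare (c' / c))
    (T : ↥(SymM n F)) (h1 : OfClass c T) (h2 : OfClass c' T) : False := by
  obtain ⟨x, hx, rfl⟩ := h1
  obtain ⟨y, -, hy⟩ := h2
  obtain ⟨i, hi⟩ : ∃ i, x i ≠ 0 := by
    by_contra hcon
    push Not at hcon
    exact hx (funext hcon)
  have h3 : c * (x i * x i) = c' * (y i * y i) := by
    rw [← rk1_apply, ← rk1_apply, hy]
  have hyi : y i ≠ 0 := by
    intro h0
    rw [h0, mul_zero, mul_zero] at h3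
    rcases mul_eq_zero.mp h3 with h4 | h4
    · exact hc h4
    · exact hi (mul_self_eq_zero.mp h4)
  apply h
  refine ⟨x i / y i, ?_⟩
  field_simp
  linear_combination -h3

/-- **CLASSC**: a nonzero matrix `rk1 c x` is of class `c` -/
theorem ofClass_of_rk1_ne_zero {n : ℕ} {c : F} {x : Fin n → F} (h : rk1 c x ≠ 0) :
    c ≠ 0 ∧ OfClass c (rk1 c x) := by
  refine ⟨?_, x, ?_, rfl⟩
  · rintro rfl
    apply h
    apply class_rk1_ext
    intro i j
    rw [rk1_apply, zero_mul]
    rfl
  · rintro rfl
    apply h
    apply class_rk1_ext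
    intro i j
    rw [rk1_apply, Pi.zero_apply, zero_mul, mul_zero]
    rfl

/-- **CLASSC** -/
theorem ne_zero_of_ofClass {n : ℕ} {c : F} (hc : c ≠ 0) {T : ↥(SymM n F)} (h : OfClass c T) :
    T ≠ 0 := by
  obtain ⟨x, hx, rfl⟩ := h
  obtain ⟨i, hi⟩ : ∃ i, x i ≠ 0 := by
    by_contra hcon
    push Not at hcon
    exact hx (funext hcon)
  intro h0
  have h1 : (rk1 c x : Matrix (Fin n) (Fin n) F) i i = 0 := by
    rw [h0]
    rfl
  rw [rk1_apply] at h1
  rcases mul_eq_zero.mp h1 with h4 | h4
  · exact hc h4
  · exact hi (mul_self_eq_zero.mp h4)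

/-- **CLASSD**: `rk1 c x = rk1 c y` iff `y = ± x` -/
theorem rk1_eq_iff (h2 : (2 : F) ≠ 0) {n : ℕ} {c : F} (hc : c ≠ 0) (x y : Fin n → F) :
    rk1 c x = rk1 c y ↔ y = x ∨ y = -x := by
  constructor
  · intro h
    have hent : ∀ i j, x i * x j = y i * y j := by
      intro i j
      have : c * (x i * x j) = c * (y i * y j) := by rw [← rk1_apply, ← rk1_apply, h]
      exact mul_left_cancel₀ hc this
    by_cases hx : x = 0
    · left
      subst hx
      funext i
      have := hent i i
      rw [Pi.zero_apply, zero_mul] at this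
      rw [Pi.zero_apply]
      exact mul_self_eq_zero.mp this.symm
    · obtain ⟨i, hi⟩ : ∃ i, x i ≠ 0 := by
        by_contra hcon
        push Not at hcon
        exact hx (funext hcon)
      have h3 : (y i - x i) * (y i + x i) = 0 := by linear_combination -(hent i i)
      rcases mul_eq_zero.mp h3 with h4 | h4
      · left
        funext j
        have h5 : y i = x i := sub_eq_zero.mp h4
        have := hent i j
        rw [h5] at this
        exact (mul_left_cancel₀ hi this).symm
      · right
        funext j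
        have h5 : y i = -x i := eq_neg_of_add_eq_zero_left h4
        have := hent i j
        rw [h5] at this
        rw [Pi.neg_apply]
        have h6 : x i * x j = x i * (-y j) := by linear_combination this
        have := mul_left_cancel₀ hi h6
        rw [this, neg_neg]
  · rintro (rfl | rfl)
    · rfl
    · apply class_rk1_ext
      intro i j
      rw [rk1_apply, rk1_apply, Pi.neg_apply, Pi.neg_apply, neg_mul_neg]

theorem class_two_ne_zero (hodd : Odd (Fintype.card F)) : (2 : F) ≠ 0 := by
  intro h
  have h1 : ringChar F = 2 := CharP.ringChar_of_prime_eq_zero Nat.prime_two h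
  have h2 := FiniteField.even_card_of_char_two h1
  rcases hodd with ⟨k, hk⟩
  omega

/-- **CLASSD**: the number of matrices of class `c` -/
theorem card_ofClass (hodd : Odd (Fintype.card F)) {n : ℕ} {c : F} (hc : c ≠ 0) :
    2 * Nat.card {T : ↥(SymM n F) // OfClass c T} = Fintype.card F ^ n - 1 := by
  classical
  have h2 := class_two_ne_zero hodd
  let X := {x : Fin n → F // x ≠ 0}
  let Y := {T : ↥(SymM n F) // OfClass c T}
  let f : X → Y := fun x => ⟨rk1 c x.1, x.1, x.2, rfl⟩
  have hX : Fintype.card X = Fintype.card F ^ n - 1 := by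
    have := Fintype.card_subtype_compl (fun x : Fin n → F => x = 0)
    rw [Fintype.card_subtype_eq, Fintype.card_fun, Fintype.card_fin] at this
    exact this
  have hfib : ∀ y : Y, Fintype.card {x : X // f x = y} = 2 := by
    rintro ⟨T, x0, hx0, rfl⟩
    have hneg : -x0 ≠ 0 := neg_ne_zero.mpr hx0
    have hne : (⟨x0, hx0⟩ : X) ≠ ⟨-x0, hneg⟩ := by
      intro h
      have h3 : x0 = -x0 := congrArg Subtype.val h
      apply hx0
      funext i
      have h4 := congrFun h3 i
      rw [Pi.neg_apply] at h4
      have h5 : (2 : F) * x0 i = 0 := by linear_combination h4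
      exact (mul_eq_zero.mp h5).resolve_left h2
    rw [Fintype.card_subtype]
    have : (Finset.univ.filter (fun x : X => f x = ⟨rk1 c x0, x0, hx0, rfl⟩)) =
        {⟨x0, hx0⟩, ⟨-x0, hneg⟩} := by
      ext x
      simp only [Finset.mem_filter, Finset.mem_univ, true_and, Finset.mem_insert,
        Finset.mem_singleton]
      constructor
      · intro h
        have h3 : rk1 c x.1 = rk1 c x0 := congrArg Subtype.val h
        rcases (rk1_eq_iff h2 hc x0 x.1).mp h3.symm with h4 | h4
        · left; exact Subtype.ext h4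
        · right; exact Subtype.ext h4
      · rintro (rfl | rfl)
        · rfl
        · apply Subtype.ext
          exact ((rk1_eq_iff h2 hc x0 (-x0)).mpr (Or.inr rfl)).symm
    rw [this, Finset.card_pair hne]
  have hsum : Fintype.card X = ∑ y : Y, Fintype.card {x : X // f x = y} := by
    rw [← Fintype.card_sigma]
    exact Fintype.card_congr (Equiv.sigmaFiberEquiv f).symm
  rw [Finset.sum_congr rfl (fun y _ => hfib y), Finset.sum_const, Finset.card_univ,
    smul_eq_mul] at hsum
  rw [← hX, hsum, Nat.card_eq_fintype_card, mul_comm]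

end Cfsg.Agent.S2524P
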