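import Mathlib
import Cfsg.Prelude.Def_Characters
import Cfsg.Agent.Helper12.LSpWDefs
import Cfsg.Agent.Helper12.LSpWPDefs
import Cfsg.Agent.Helper12.LSLDefs
import Cfsg.Agent.Helper12.RUSpB
import Cfsg.Agent.Helper20.PermCharI
import Cfsg.Agent.Helper25.SpUH
import Cfsg.Agent.Helper12.WGDefs
import Cfsg.Agent.Helper12.WGDefsC
import Cfsg.Agent.Helper12.WGDefsD
import Cfsg.Agent.Helper12.WGStruct
import Cfsg.Agent.Helper19.WGIOTASURJ

set_option autoImplicit false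

/-! # S2524 piece FIXG1S (helper22) -/

namespace Cfsg.Agent.S2524P

open Matrix Cfsg Cfsg.Agent.S2333P Cfsg.Agent.Helper2.Sp Cfsg.Agent.Helper12.LSp Cfsg.Agent.Helper25
open Cfsg.Agent.Helper12.LSL Cfsg.Agent.Helper20.PermChar

variable {F : Type*} [Field F] [Fintype F]

namespace FIXG1S

open Cfsg.Agent.Helper12.SpTwo Cfsg.Agent.Helper12

omit [Fintype F] in
theorem om_f0_left {m : ℕ} (y : Vec (m + 1) F) :
    om (f0 : Vec (m + 1) F) y = y (Sum.inl 0) := by
  rw [om_split, f0_inr_zero, f0_inl_zero, res_f0, om_zero_left']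
  ring

omit [Fintype F] in
theorem res0_f0 {m : ℕ} : res0 (f0 : Vec (m + 1) F) = (f0 : Vec (0 + 1) F) := by
  apply vec1_ext
  · rw [res0_inl, f0_inl_zero, f0_inl_zero]
  · rw [res0_inr, f0_inr_zero, f0_inr_zero]

omit [Fintype F] in
theorem emb0_f0 {m : ℕ} : (emb0 (f0 : Vec (0 + 1) F) : Vec (m + 1) F) = f0 := by
  unfold emb0
  rw [f0_inl_zero, f0_inr_zero, zero_smul, one_smul, zero_add]

end FIXG1S

open Cfsg.Agent.Helper12.SpTwo Cfsg.Agent.Helper12 in
/-- **FIXG1S**: transvections in direction `f0` lie in `Sp_2 × 1` -/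
theorem exists_jj_eq_Tg_f0 {m : ℕ} (a : F) :
    ∃ g₁ : ↥(symplecticGroup (Fin 1) F), jj m F (g₁, 1) = Tg (f0 : Vec (m + 1) F) a := by
  refine ⟨Tg (f0 : Vec (0 + 1) F) a, ?_⟩
  apply ext_mulVec
  intro x
  rw [jj_mulVec, Tg_mulVec]
  apply vec_ext0
  · rw [res0_jjFun, Tg_mulVec, res0_add, res0_smul, FIXG1S.res0_f0, FIXG1S.om_f0_left,
      FIXG1S.om_f0_left, res0_inl]
  · rw [res_jjFun, res_add, res_smul, res_f0, smul_zero, add_zero]
    show ((1 : symplecticGroup (Fin m) F) : Matrix (Fin m ⊕ Fin m) (Fin m ⊕ Fin m) F) *ᵥ _ = _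
    rw [Submonoid.coe_one, one_mulVec]

open Cfsg.Agent.Helper12.SpTwo Cfsg.Agent.Helper12 in
/-- **FIXG1S**: the Heisenberg elements of `e0` lie in `iota (Heis)` -/
theorem exists_iota_inl_eq_qq {m : ℕ} (v : Vec (m + 1) F) (hv : om (e0 : Vec (m + 1) F) v = 0)
    (a : F) : ∃ b : Heis m F, iota m F (SemidirectProduct.inl b) =
      Cfsg.Agent.Helper12.RUSp.qq (e0 : Vec (m + 1) F) v a := by
  obtain ⟨x, hx⟩ := exists_iota_eq (RUSp.qq (e0 : Vec (m + 1) F) v a) (RUSp.act_qq_self hv a)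
  have hright : x.right = 1 := by
    apply ext_mulVec
    intro w
    show _ = ((1 : symplecticGroup (Fin m) F) : Matrix (Fin m ⊕ Fin m) (Fin m ⊕ Fin m) F) *ᵥ w
    rw [Submonoid.coe_one, one_mulVec]
    have h1 : res (act (iota m F x) (emb w)) = (x.right : Matrix (Fin m ⊕ Fin m) (Fin m ⊕ Fin m) F) *ᵥ w := by
      unfold act
      rw [iota_mulVec, res_iotaFun, res_emb, emb_inr_zero, zero_smul, add_zero]
    have h2 : om (e0 : Vec (m + 1) F) (emb w) = 0 := by
      rw [om_split, e0_inr_zero, emb_inr_zero, res_e0, om_zero_left']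
      ring
    rw [← h1, hx, RUSp.act_qq_orth hv h2, res_add, res_smul, res_e0, smul_zero, add_zero, res_emb]
  refine ⟨x.left, ?_⟩
  rw [← hx]
  congr 1
  apply SemidirectProduct.ext
  · rfl
  · rw [hright]
    rfl

end Cfsg.Agent.S2524P
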