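import Cfsg.Agent.Helper22.HexMono

/-!
# Monomial automorphisms of the hexacode: the group `3.A6` of order 1080.
-/

set_option autoImplicit false
set_option linter.unusedSectionVars false

namespace Cfsg.Agent.Helper22.HexAut

open Cfsg Cfsg.Agent.Helper22.F4 Cfsg.Agent.Helper22.Hexa Cfsg.Agent.Helper22.HexMono

variable {F : Type*} [Field F] [Fintype F] {ω : F}

/-- the monomial map preserves the hexacode -/
def Good (ω : F) (σ : Equiv.Perm (Fin 6)) (c : Fin 6 → Fˣ) : Prop :=
  ∀ x ∈ hexacode F ω, monomialMap σ c x ∈ hexacode F ω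

theorem mono_add (σ : Equiv.Perm (Fin 6)) (c : Fin 6 → Fˣ) (x y : Fin 6 → F) :
    monomialMap σ c (x + y) = monomialMap σ c x + monomialMap σ c y := by
  funext i
  simp only [monomialMap, Pi.add_apply]
  ring

theorem mono_smul (σ : Equiv.Perm (Fin 6)) (c : Fin 6 → Fˣ) (a : F) (x : Fin 6 → F) :
    monomialMap σ c (a • x) = a • monomialMap σ c x := by
  funext i
  simp only [monomialMap, Pi.smul_apply, smul_eq_mul]
  ring

theorem mono_zero (σ : Equiv.Perm (Fin 6)) (c : Fin 6 → Fˣ) : monomialMap σ c (0 : Fin 6 → F) = 0 := by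
  funext i
  simp [monomialMap]

theorem mono_comp (σ τ : Equiv.Perm (Fin 6)) (c d : Fin 6 → Fˣ) (x : Fin 6 → F) :
    monomialMap σ c (monomialMap τ d x) = monomialMap (σ * τ) (fun i => c i * d (σ.symm i)) x := by
  funext i
  simp only [monomialMap, Equiv.Perm.mul_def, Equiv.symm_trans_apply, Units.val_mul]
  ring

theorem mono_left_inv (σ : Equiv.Perm (Fin 6)) (c : Fin 6 → Fˣ) (x : Fin 6 → F) :
    monomialMap σ⁻¹ (fun i => (c (σ i))⁻¹) (monomialMap σ c x) = x := by
  funext i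
  simp only [monomialMap, Equiv.Perm.inv_def, Equiv.symm_symm, Equiv.symm_apply_apply]
  rw [← mul_assoc, ← Units.val_mul, inv_mul_cancel, Units.val_one, one_mul]

theorem good_mul {σ τ : Equiv.Perm (Fin 6)} {c d : Fin 6 → Fˣ} (h1 : Good ω σ c) (h2 : Good ω τ d) :
    Good ω (σ * τ) (fun i => c i * d (σ.symm i)) := by
  intro x hx
  rw [← mono_comp]
  exact h1 _ (h2 x hx)

theorem good_one : Good ω 1 (fun _ => (1 : Fˣ)) := by
  intro x hx
  have : monomialMap (1 : Equiv.Perm (Fin 6)) (fun _ => (1 : Fˣ)) x = x := by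
    funext i
    simp only [monomialMap, Units.val_one, one_mul]
    rfl
  rw [this]; exact hx

theorem good_scalar {σ : Equiv.Perm (Fin 6)} {c : Fin 6 → Fˣ} (h : Good ω σ c) (l : Fˣ) :
    Good ω σ (fun i => l * c i) := by
  intro x hx
  have : monomialMap σ (fun i => l * c i) x = (l : F) • monomialMap σ c x := by
    funext i
    simp only [monomialMap, Pi.smul_apply, smul_eq_mul, Units.val_mul]
    ring
  rw [this]
  exact Submodule.smul_mem _ _ (h x hx)

/-- a code-preserving monomial map is onto the code -/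
theorem surj_on {σ : Equiv.Perm (Fin 6)} {c : Fin 6 → Fˣ} (h : Good ω σ c) (y : Fin 6 → F)
    (hy : y ∈ hexacode F ω) : ∃ x ∈ hexacode F ω, monomialMap σ c x = y := by
  let f : ↥(hexacode F ω) → ↥(hexacode F ω) := fun x => ⟨monomialMap σ c x.1, h x.1 x.2⟩
  have hf : Function.Injective f := by
    intro a b hab
    have h1 : monomialMap σ c a.1 = monomialMap σ c b.1 := congrArg Subtype.val hab
    apply Subtype.ext
    rw [← mono_left_inv σ c a.1, ← mono_left_inv σ c b.1, h1]
  obtain ⟨x, hx⟩ := Finite.surjective_of_injective hf ⟨y, hy⟩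
  exact ⟨x.1, x.2, congrArg Subtype.val hx⟩

theorem good_inv {σ : Equiv.Perm (Fin 6)} {c : Fin 6 → Fˣ} (h : Good ω σ c) :
    Good ω σ⁻¹ (fun i => (c (σ i))⁻¹) := by
  intro y hy
  obtain ⟨x, hx, rfl⟩ := surj_on h y hy
  rw [mono_left_inv]
  exact hx

/-- the permutations occurring in code-preserving monomial maps -/
def permPart (ω : F) : Subgroup (Equiv.Perm (Fin 6)) where
  carrier := {σ | ∃ c : Fin 6 → Fˣ, Good ω σ c}
  mul_mem' := by
    rintro σ τ ⟨c, hc⟩ ⟨d, hd⟩
    exact ⟨_, good_mul hc hd⟩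
  one_mem' := ⟨_, good_one⟩
  inv_mem' := by
    rintro σ ⟨c, hc⟩
    exact ⟨_, good_inv hc⟩

theorem mem_permPart (σ : Equiv.Perm (Fin 6)) : σ ∈ permPart ω ↔ ∃ c : Fin 6 → Fˣ, Good ω σ c := Iff.rfl

/-! ### The bridge to the model -/

section bridge

variable (hF : Fintype.card F = 4) (hω : ω ^ 2 + ω + 1 = 0)
include hF hω

theorem exists_code (c : Fin 6 → Fˣ) : ∃ c' : Fin 6 → Fin 4, (∀ i, el ω (c' i) = (c i : F)) ∧ ∀ i, c' i ≠ 0 := by
  choose c' hc' using fun i => (el_bijective hF hω).2 (c i : F)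
  refine ⟨c', hc', fun i h => ?_⟩
  have := hc' i
  rw [h, el_zero] at this
  exact (c i).ne_zero this.symm

theorem word_mem_iff (m : Fin 6 → Fin 4) : (fun i => el ω (m i)) ∈ hexacode F ω ↔ inC m = true := by
  rw [mem_hexacode_iff hF hω, inC_iff]
  constructor
  · rintro ⟨p, hp⟩
    refine ⟨p, ?_⟩
    funext i
    exact el_injective hF hω (congrFun hp i)
  · rintro ⟨p, rfl⟩
    exact ⟨p, rfl⟩

theorem mono_word (σ : Equiv.Perm (Fin 6)) (c : Fin 6 → Fˣ) (c' : Fin 6 → Fin 4)
    (hc : ∀ i, el ω (c' i) = (c i : F)) (m : Fin 6 → Fin 4) :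
    monomialMap σ c (fun i => el ω (m i)) = fun i => el ω (actF (⇑σ.symm) c' m i) := by
  funext i
  simp only [monomialMap, actF]
  rw [el_mul hF hω, hc]

theorem good_iff (σ : Equiv.Perm (Fin 6)) (c : Fin 6 → Fˣ) (c' : Fin 6 → Fin 4)
    (hc : ∀ i, el ω (c' i) = (c i : F)) : Good ω σ c ↔ goodM (⇑σ.symm) c' = true := by
  have g1 : (fun i => el ω (G1 i)) = ![ω, ω ^ 2, ω ^ 2, ω, ω ^ 2, ω] := funext (el_G1 hF hω)
  have g2 : (fun i => el ω (G2 i)) = ![ω ^ 2, ω, ω, ω ^ 2, ω ^ 2, ω] := funext (el_G2 hF hω)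
  have g3 : (fun i => el ω (G3 i)) = ![ω ^ 2, ω, ω ^ 2, ω, ω, ω ^ 2] := funext (el_G3 hF hω)
  rw [goodM, Bool.and_eq_true, Bool.and_eq_true, ← word_mem_iff hF hω, ← word_mem_iff hF hω, ← word_mem_iff hF hω,
    ← mono_word hF hω σ c c' hc, ← mono_word hF hω σ c c' hc, ← mono_word hF hω σ c c' hc]
  constructor
  · intro h
    refine ⟨⟨h _ ?_, h _ ?_⟩, h _ ?_⟩
    · rw [g1]; exact Submodule.subset_span (by simp)
    · rw [g2]; exact Submodule.subset_span (by simp)
    · rw [g3]; exact Submodule.subset_span (by simp)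
  · rintro ⟨⟨h1, h2⟩, h3⟩ x hx
    unfold hexacode at hx
    induction hx using Submodule.span_induction with
    | mem y hy =>
      simp only [Set.mem_insert_iff, Set.mem_singleton_iff] at hy
      rcases hy with rfl | rfl | rfl
      · rw [← g1]; exact h1
      · rw [← g2]; exact h2
      · rw [← g3]; exact h3
    | zero => rw [mono_zero]; exact Submodule.zero_mem _
    | add y z _ _ hy hz => rw [mono_add]; exact Submodule.add_mem _ hy hz
    | smul a y _ hy => rw [mono_smul]; exact Submodule.smul_mem _ _ hy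

/-- the diagonal automorphisms are the scalars -/
theorem diag_scalar (c : Fin 6 → Fˣ) (h : Good ω 1 c) : ∀ i j, c i = c j := by
  obtain ⟨c', hc', hnz⟩ := exists_code hF hω c
  have hg := (good_iff hF hω 1 c c' hc').mp h
  have hid : (⇑(1 : Equiv.Perm (Fin 6)).symm : Fin 6 → Fin 6) = id := rfl
  rw [hid, vec_eta c'] at hg
  obtain ⟨e1, e2, e3, e4, e5⟩ := diag_only _ _ _ _ _ _ (hnz 0) (hnz 1) (hnz 2) (hnz 3) (hnz 4) (hnz 5) hg
  have hall : ∀ i, c' i = c' 0 := by
    intro i
    fin_cases i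
    · rfl
    · exact e1.symm
    · exact e2.symm
    · exact e3.symm
    · exact e4.symm
    · exact e5.symm
  intro i j
  apply Units.ext
  rw [← hc' i, ← hc' j, hall i, hall j]

/-- three-cycles occur -/
theorem three_cycle_mem {a b c : Fin 6} (hab : a ≠ b) (hbc : b ≠ c) (hac : a ≠ c) :
    Equiv.swap a b * Equiv.swap b c ∈ permPart ω := by
  obtain ⟨hnz, hg⟩ := three_ok a b c hab hbc hac
  let cc : Fin 6 → Fˣ := fun i => Units.mk0 (el ω (witF a b c i)) (fun h => hnz i ((el_eq_zero_iff hF hω _).mp h))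
  refine ⟨cc, ?_⟩
  rw [good_iff hF hω _ cc (witF a b c) (fun i => rfl)]
  have : (⇑(Equiv.swap a b * Equiv.swap b c).symm : Fin 6 → Fin 6) = fun i => swF b c (swF a b i) := by
    funext i
    rw [Equiv.Perm.mul_def, Equiv.symm_trans_apply, Equiv.symm_swap, Equiv.symm_swap, swap_eq_swF, swap_eq_swF]
  rw [this]
  exact hg

/-- the transposition `(0 1)` does not occur -/
theorem swap01_notMem : Equiv.swap (0 : Fin 6) 1 ∉ permPart ω := by
  rintro ⟨c, h⟩
  obtain ⟨c', hc', hnz⟩ := exists_code hF hω c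
  have hg := (good_iff hF hω _ c c' hc').mp h
  have : (⇑(Equiv.swap (0 : Fin 6) 1).symm : Fin 6 → Fin 6) = swF 0 1 := by
    funext i
    rw [Equiv.symm_swap, swap_eq_swF]
  rw [this, vec_eta c'] at hg
  exact no01 _ _ _ _ _ _ (hnz 0) (hnz 1) (hnz 2) (hnz 3) (hnz 4) (hnz 5) hg

theorem alt_le_permPart : alternatingGroup (Fin 6) ≤ permPart ω := by
  rw [← Equiv.Perm.closure_three_cycles_eq_alternating, Subgroup.closure_le]
  intro τ hτ
  have hτ3 : τ.IsThreeCycle := hτ
  obtain ⟨a, ha⟩ : ∃ a, a ∈ τ.support := Finset.card_pos.mp (by rw [hτ3.card_support]; norm_num)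
  have hnd := hτ3.nodup_iff_mem_support.mpr ha
  have heq := hτ3.eq_swap_mul_swap_iff_mem_support.mpr ha
  simp only [List.nodup_cons, List.mem_cons, not_or, List.not_mem_nil, not_false_eq_true,
    List.nodup_nil, and_true, or_false] at hnd
  rw [heq]
  exact three_cycle_mem hF hω hnd.1.1 hnd.2 hnd.1.2

theorem permPart_eq : permPart ω = alternatingGroup (Fin 6) := by
  apply le_antisymm
  · intro σ hσ
    rw [Equiv.Perm.mem_alternatingGroup]
    by_contra hs
    have hs' : Equiv.Perm.sign σ = -1 := by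
      rcases Int.units_eq_one_or (Equiv.Perm.sign σ) with h | h
      · exact absurd h hs
      · exact h
    have heven : σ⁻¹ * Equiv.swap (0 : Fin 6) 1 ∈ alternatingGroup (Fin 6) := by
      rw [Equiv.Perm.mem_alternatingGroup, map_mul, map_inv, hs', Equiv.Perm.sign_swap (by decide)]
      decide
    have := (permPart ω).mul_mem hσ (alt_le_permPart hF hω heven)
    rw [mul_inv_cancel_left] at this
    exact swap01_notMem hF hω this
  · exact alt_le_permPart hF hω

theorem card_good : Nat.card {f : Equiv.Perm (Fin 6) × (Fin 6 → Fˣ) // Good ω f.1 f.2} = 1080 := by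
  classical
  have hw : ∀ σ : ↥(alternatingGroup (Fin 6)), ∃ c : Fin 6 → Fˣ, Good ω σ.1 c := fun σ =>
    alt_le_permPart hF hω σ.2
  choose w hw using hw
  let Φ : ↥(alternatingGroup (Fin 6)) × Fˣ → {f : Equiv.Perm (Fin 6) × (Fin 6 → Fˣ) // Good ω f.1 f.2} :=
    fun p => ⟨(p.1.1, fun i => p.2 * w p.1 i), good_scalar (hw p.1) p.2⟩
  have hinj : Function.Injective Φ := by
    rintro ⟨σ, l⟩ ⟨τ, m⟩ h
    have h1 : σ.1 = τ.1 := congrArg (fun z => z.1.1) h
    have hστ : σ = τ := Subtype.ext h1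
    subst hστ
    have h2 : l * w σ 0 = m * w σ 0 := congrFun (congrArg (fun z => z.1.2) h) 0
    have : l = m := mul_right_cancel h2
    rw [this]
  have hsurj : Function.Surjective Φ := by
    rintro ⟨⟨σ, c⟩, h⟩
    have hσ : σ ∈ alternatingGroup (Fin 6) := by
      rw [← permPart_eq hF hω]
      exact ⟨c, h⟩
    let r : Fin 6 → Fˣ := fun i => c i * (w ⟨σ, hσ⟩ i)⁻¹
    have hr : Good ω 1 r := by
      intro x hx
      obtain ⟨y, hy, rfl⟩ := surj_on (hw ⟨σ, hσ⟩) x hx
      have : monomialMap 1 r (monomialMap σ (w ⟨σ, hσ⟩) y) = monomialMap σ c y := by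
        funext i
        simp only [monomialMap, r, Units.val_mul]
        have e1 : (Equiv.symm (1 : Equiv.Perm (Fin 6))) i = i := rfl
        rw [e1, mul_assoc, ← mul_assoc (((w ⟨σ, hσ⟩ i)⁻¹ : Fˣ) : F), ← Units.val_mul, inv_mul_cancel,
          Units.val_one, one_mul]
      rw [this]
      exact h y hy
    have hconst := diag_scalar hF hω r hr
    refine ⟨(⟨σ, hσ⟩, r 0), ?_⟩
    apply Subtype.ext
    apply Prod.ext
    · rfl
    · funext i
      show r 0 * w ⟨σ, hσ⟩ i = c i
      rw [hconst 0 i]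
      simp only [r]
      rw [mul_assoc, inv_mul_cancel, mul_one]
  rw [← Nat.card_congr (Equiv.ofBijective Φ ⟨hinj, hsurj⟩), Nat.card_prod, nat_card_alternatingGroup,
    Nat.card_units, Nat.card_eq_fintype_card (α := F), hF, Nat.card_eq_fintype_card, Fintype.card_fin]
  decide

end bridge

end Cfsg.Agent.Helper22.HexAut
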