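import Cfsg.Agent.Helper22.Co2Trans

/-!
# The stabiliser of a minimal vector: transitivity on the minimal vectors of inner product `-16` and `-8`
-/

set_option autoImplicit false

namespace Cfsg.Agent.Helper22.Co2Trans2

open Cfsg Cfsg.Agent.Helper27 Cfsg.Agent.Helper22.Co0Mono Cfsg.Agent.Helper22.CrossStab
  Cfsg.Agent.Helper22.Co0Center Cfsg.Agent.Helper22.LeechShapes Cfsg.Agent.Helper22.Xi
  Cfsg.Agent.Helper22.MinTrans Cfsg.Agent.Helper22.Norm6Trans Cfsg.Agent.Helper22.Norm8Trans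
  Cfsg.Agent.Helper22.Co2Trans
open scoped Pointwise

/-- two points outside a set of at most 22 points -/
theorem exists_two_outside' (s : Finset GolayPt) (hs : s.card ≤ 22) :
    ∃ c d, c ∉ s ∧ d ∉ s ∧ c ≠ d := by
  classical
  have h1 : 1 < (Finset.univ \ s).card := by
    rw [Finset.card_sdiff_of_subset (Finset.subset_univ _), Finset.card_univ,
      show Fintype.card GolayPt = 24 from by decide]
    omega
  obtain ⟨c, hc, d, hd, hcd⟩ := Finset.one_lt_card.mp h1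
  rw [Finset.mem_sdiff] at hc hd
  exact ⟨c, d, hc.2, hd.2, hcd⟩

/-- the coordinates of a minimal vector are at most `4` in absolute value -/
theorem min_entry_le {w : GolayPt → ℤ} (hw : w ∈ leechLattice) (hn : sqNorm w = 32) (p : GolayPt) :
    -4 ≤ w p ∧ w p ≤ 4 := by
  rcases min_shapes hw hn with h | h | h
  · rcases shapeA_entry h p with h' | h' | h' <;> omega
  · rcases shapeB_entry h p with h' | h' | h' <;> omega
  · obtain ⟨i, hi, hrest, -⟩ := h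
    by_cases hpi : p = i
    · subst hpi
      rcases hi with h' | h' <;> omega
    · rcases hrest p hpi with h' | h' <;> omega

/-- the vector can be moved, fixing the base vector, to a vector with prescribed first two coordinates -/
def RT (a b : ℤ) (w : ↥leechLattice) : Prop :=
  ∃ g : ↥Co0, g • B = B ∧ ((g • w : ↥leechLattice) : GolayPt → ℤ) (pt 0) = a ∧
    ((g • w : ↥leechLattice) : GolayPt → ℤ) (pt 1) = b

theorem RT_of_smul {a b : ℤ} {w : ↥leechLattice} (g : ↥Co0) (hg : g • B = B) (h : RT a b (g • w)) : RT a b w := by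
  obtain ⟨g2, hg2, h2⟩ := h
  refine ⟨g2 * g, by rw [mul_smul, hg, hg2], ?_⟩
  rw [mul_smul]
  exact h2

theorem RT_refl {a b : ℤ} {w : ↥leechLattice} (h0 : (w : GolayPt → ℤ) (pt 0) = a) (h1 : (w : GolayPt → ℤ) (pt 1) = b) :
    RT a b w := ⟨1, one_smul _ _, by rw [one_smul]; exact ⟨h0, h1⟩⟩

/-- two minimal vectors with first coordinate `-3` and the same second coordinate are exchanged by a sign
change fixing the base vector -/
theorem equiv_of_three (y y' : ↥leechLattice) (hn : sqNorm (y : GolayPt → ℤ) = 32)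
    (hn' : sqNorm (y' : GolayPt → ℤ) = 32) (h0 : (y : GolayPt → ℤ) (pt 0) = -3)
    (h0' : (y' : GolayPt → ℤ) (pt 0) = -3) (h1 : (y : GolayPt → ℤ) (pt 1) = (y' : GolayPt → ℤ) (pt 1)) :
    ∃ g : ↥Co0, g • B = B ∧ g • y = y' := by
  have hodd : (y : GolayPt → ℤ) (pt 0) % 2 = 1 := by rw [h0]; norm_num
  have hodd' : (y' : GolayPt → ℤ) (pt 0) % 2 = 1 := by rw [h0']; norm_num
  obtain ⟨i, hi, hrest, -⟩ := shapeC_of_odd y.2 hn hodd
  obtain ⟨i', hi', hrest', -⟩ := shapeC_of_odd y'.2 hn' hodd'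
  have e : i = pt 0 := by
    by_contra hne
    rcases hrest (pt 0) (Ne.symm hne) with h | h <;> omega
  have e' : i' = pt 0 := by
    by_contra hne
    rcases hrest' (pt 0) (Ne.symm hne) with h | h <;> omega
  subst e
  subst e'
  apply odd_sign_equiv y y' hodd hodd' _ (by rw [h0, h0']) h1
  intro p
  by_cases hp : p = pt 0
  · subst hp
    left
    rw [h0, h0']
  · rcases hrest p hp with h | h <;> rcases hrest' p hp with h' | h' <;> rw [h, h'] <;> norm_num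

/-! ### Inner product `-16` -/

theorem RT16_B (w : ↥leechLattice) (hn : sqNorm (w : GolayPt → ℤ) = 32) (h0 : (w : GolayPt → ℤ) (pt 0) = -2)
    (h1 : (w : GolayPt → ℤ) (pt 1) = 2) : RT (-3) 1 w := by
  classical
  obtain ⟨O, hO, hval, hzero⟩ := shapeB_of_two w.2 hn (p := pt 0) (by rw [h0]; exact Or.inr rfl)
  have m0 : pt 0 ∈ O := by
    by_contra hc
    have := hzero _ hc
    omega
  have m1 : pt 1 ∈ O := by
    by_contra hc
    have := hzero _ hc
    omega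
  have hcard : 0 < ((O.erase (pt 0)).erase (pt 1)).card := by
    rw [Finset.card_erase_of_mem (Finset.mem_erase.mpr ⟨by decide, m1⟩), Finset.card_erase_of_mem m0, hO.2]
    norm_num
  obtain ⟨c, hc⟩ := Finset.card_pos.mp hcard
  rw [Finset.mem_erase, Finset.mem_erase] at hc
  obtain ⟨hc1, hc0, hcO⟩ := hc
  obtain ⟨d, -, hd⟩ := Finset.exists_mem_notMem_of_card_lt_card (s := O) (t := Finset.univ) (by
    rw [hO.2, Finset.card_univ, show Fintype.card GolayPt = 24 from by decide]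
    norm_num)
  have hd0 : d ≠ pt 0 := fun h => hd (h ▸ m0)
  have hd1 : d ≠ pt 1 := fun h => hd (h ▸ m1)
  have hcd : c ≠ d := fun h => hd (h ▸ hcO)
  obtain ⟨ec, hec, hc'⟩ := exists_sign (hval c hcO)
  obtain ⟨g, hgB, y0, y1, -, -⟩ := b_move w hc0 hc1 hd0 hd1 hcd hec (Or.inl rfl)
  rw [h0, h1, hc', hzero d hd] at y0 y1
  norm_num at y0 y1
  exact ⟨g, hgB, y0, y1⟩

theorem RT16_A (w : ↥leechLattice) (hn : sqNorm (w : GolayPt → ℤ) = 32) {p : GolayPt}
    (hp : (w : GolayPt → ℤ) p = 4 ∨ (w : GolayPt → ℤ) p = -4)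
    (h01 : ((w : GolayPt → ℤ) (pt 0) = -4 ∧ (w : GolayPt → ℤ) (pt 1) = 0) ∨
      ((w : GolayPt → ℤ) (pt 0) = 0 ∧ (w : GolayPt → ℤ) (pt 1) = 4)) : RT (-3) 1 w := by
  classical
  obtain ⟨i, j, hij, hi, hj, hrest⟩ := shapeA_of_four w.2 hn hp
  obtain ⟨c, d, hc, hd, hcd⟩ := exists_two_outside' {pt 0, pt 1, i, j}
    (le_trans Finset.card_le_four (by norm_num))
  simp only [Finset.mem_insert, Finset.mem_singleton, not_or] at hc hd
  obtain ⟨g, hgB, y0, y1, -, -⟩ := b_move w hc.1 hc.2.1 hd.1 hd.2.1 hcd (Or.inl rfl) (Or.inl rfl)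
  rw [hrest c hc.2.2.1 hc.2.2.2, hrest d hd.2.2.1 hd.2.2.2] at y0 y1
  apply RT_of_smul g hgB
  apply RT16_B (g • w) (by rw [co0_norm, hn])
  · rcases h01 with ⟨e0, e1⟩ | ⟨e0, e1⟩ <;> rw [e0, e1] at y0 <;> norm_num at y0 <;> exact y0
  · rcases h01 with ⟨e0, e1⟩ | ⟨e0, e1⟩ <;> rw [e0, e1] at y1 <;> norm_num at y1 <;> exact y1

theorem RT16_C (w : ↥leechLattice) (hn : sqNorm (w : GolayPt → ℤ) = 32) (h0 : (w : GolayPt → ℤ) (pt 0) = -1)
    (h1 : (w : GolayPt → ℤ) (pt 1) = 3) : RT (-3) 1 w := by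
  classical
  obtain ⟨i, hi, hrest, -⟩ := shapeC_of_odd w.2 hn (p := pt 0) (by rw [h0]; norm_num)
  have e : i = pt 1 := by
    by_contra hne
    rcases hrest (pt 1) (Ne.symm hne) with h | h <;> omega
  subst e
  obtain ⟨c, d, hc, hd, hcd⟩ := exists_two_outside {pt 0, pt 1} (le_trans (Finset.card_le_two) (by norm_num))
  simp only [Finset.mem_insert, Finset.mem_singleton, not_or] at hc hd
  obtain ⟨ec, hec, hc'⟩ := exists_sign (hrest c hc.2)
  obtain ⟨ed, hed, hd'⟩ := exists_sign (hrest d hd.2)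
  obtain ⟨g, hgB, y0, y1, -, -⟩ := b_move w hc.1 hc.2 hd.1 hd.2 hcd hec hed
  rw [h0, h1, hc', hd'] at y0 y1
  norm_num at y0 y1
  exact ⟨g, hgB, y0, y1⟩

theorem RT16_all (w : ↥leechLattice) (hn : sqNorm (w : GolayPt → ℤ) = 32)
    (hd : dotInt (B : GolayPt → ℤ) (w : GolayPt → ℤ) = -16) : RT (-3) 1 w := by
  rw [dot_B] at hd
  have h1 : (w : GolayPt → ℤ) (pt 1) = (w : GolayPt → ℤ) (pt 0) + 4 := by linarith
  obtain ⟨hl, -⟩ := min_entry_le w.2 hn (pt 0)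
  obtain ⟨-, hu'⟩ := min_entry_le w.2 hn (pt 1)
  have hu : (w : GolayPt → ℤ) (pt 0) ≤ 0 := by linarith
  generalize hx : (w : GolayPt → ℤ) (pt 0) = x at *
  interval_cases x
  · exact RT16_A w hn (p := pt 0) (Or.inr hx) (Or.inl ⟨hx, by rw [h1]; norm_num⟩)
  · exact RT_refl hx (by rw [h1]; norm_num)
  · exact RT16_B w hn hx (by rw [h1]; norm_num)
  · exact RT16_C w hn hx (by rw [h1]; norm_num)
  · exact RT16_A w hn (p := pt 1) (Or.inl (by rw [h1]; norm_num)) (Or.inr ⟨hx, by rw [h1]; norm_num⟩)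

/-- the general transport argument -/
theorem transitive_of_RT {a : ℤ} {k : ℤ}
    (hall : ∀ w : ↥leechLattice, sqNorm (w : GolayPt → ℤ) = 32 → dotInt (B : GolayPt → ℤ) (w : GolayPt → ℤ) = k →
      RT (-3) a w)
    (v w w' : ↥leechLattice) (hv : sqNorm (v : GolayPt → ℤ) = 32)
    (hw : sqNorm (w : GolayPt → ℤ) = 32) (hw' : sqNorm (w' : GolayPt → ℤ) = 32)
    (hd : dotInt (v : GolayPt → ℤ) (w : GolayPt → ℤ) = k) (hd' : dotInt (v : GolayPt → ℤ) (w' : GolayPt → ℤ) = k) :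
    ∃ g : ↥Co0, g • v = v ∧ g • w = w' := by
  obtain ⟨g0, hg0⟩ := min_transitive v B hv sqNorm_B
  obtain ⟨g1, hg1B, y0, y1⟩ := hall (g0 • w) (by rw [co0_norm, hw]) (by rw [← hg0, co0_dot, hd])
  obtain ⟨g2, hg2B, y0', y1'⟩ := hall (g0 • w') (by rw [co0_norm, hw']) (by rw [← hg0, co0_dot, hd'])
  obtain ⟨g3, hg3B, hg3⟩ := equiv_of_three (g1 • (g0 • w)) (g2 • (g0 • w')) (by rw [co0_norm, co0_norm, hw])
    (by rw [co0_norm, co0_norm, hw']) y0 y0' (by rw [y1, y1'])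
  have hg2B' : g2⁻¹ • B = B := by rw [inv_smul_eq_iff, hg2B]
  refine ⟨g0⁻¹ * g2⁻¹ * g3 * g1 * g0, ?_, ?_⟩
  · rw [mul_smul, mul_smul, mul_smul, mul_smul, hg0, hg1B, hg3B, hg2B', inv_smul_eq_iff, hg0]
  · rw [mul_smul, mul_smul, mul_smul, mul_smul, hg3, inv_smul_smul, inv_smul_smul]

/-- the stabiliser of a minimal vector is transitive on the minimal vectors of inner product `-16` with it -/
theorem ip16_transitive (v w w' : ↥leechLattice) (hv : sqNorm (v : GolayPt → ℤ) = 32)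
    (hw : sqNorm (w : GolayPt → ℤ) = 32) (hw' : sqNorm (w' : GolayPt → ℤ) = 32)
    (hd : dotInt (v : GolayPt → ℤ) (w : GolayPt → ℤ) = -16) (hd' : dotInt (v : GolayPt → ℤ) (w' : GolayPt → ℤ) = -16) :
    ∃ g : ↥Co0, g • v = v ∧ g • w = w' :=
  transitive_of_RT RT16_all v w w' hv hw hw' hd hd'

/-! ### Inner product `-8` -/

theorem RT8_B (w : ↥leechLattice) (hn : sqNorm (w : GolayPt → ℤ) = 32)
    (h01 : ((w : GolayPt → ℤ) (pt 0) = -2 ∧ (w : GolayPt → ℤ) (pt 1) = 0) ∨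
      ((w : GolayPt → ℤ) (pt 0) = 0 ∧ (w : GolayPt → ℤ) (pt 1) = 2)) : RT (-3) (-1) w := by
  classical
  have hB : ShapeB (w : GolayPt → ℤ) := by
    rcases h01 with ⟨e0, -⟩ | ⟨-, e1⟩
    · exact shapeB_of_two w.2 hn (p := pt 0) (Or.inr e0)
    · exact shapeB_of_two w.2 hn (p := pt 1) (Or.inl e1)
  obtain ⟨O, hO, hval, hzero⟩ := hB
  have hcard : 1 < ((O.erase (pt 0)).erase (pt 1)).card := by
    have h1 := Finset.pred_card_le_card_erase (s := O.erase (pt 0)) (a := pt 1)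
    have h2 := Finset.pred_card_le_card_erase (s := O) (a := pt 0)
    rw [hO.2] at h2
    omega
  obtain ⟨c, hc, d, hd, hcd⟩ := Finset.one_lt_card.mp hcard
  rw [Finset.mem_erase, Finset.mem_erase] at hc hd
  obtain ⟨hc1, hc0, hcO⟩ := hc
  obtain ⟨hd1, hd0, hdO⟩ := hd
  obtain ⟨ec, hec, hc'⟩ := exists_sign (hval c hcO)
  obtain ⟨ed, hed, hd'⟩ := exists_sign (hval d hdO)
  obtain ⟨g, hgB, y0, y1, -, -⟩ := b_move w hc0 hc1 hd0 hd1 hcd hec hed
  rw [hc', hd'] at y0 y1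
  refine ⟨g, hgB, ?_, ?_⟩
  · rcases h01 with ⟨e0, e1⟩ | ⟨e0, e1⟩ <;> rw [e0, e1] at y0 <;> norm_num at y0 <;> exact y0
  · rcases h01 with ⟨e0, e1⟩ | ⟨e0, e1⟩ <;> rw [e0, e1] at y1 <;> norm_num at y1 <;> exact y1

theorem RT8_C (w : ↥leechLattice) (hn : sqNorm (w : GolayPt → ℤ) = 32)
    (h01 : ((w : GolayPt → ℤ) (pt 0) = -1 ∧ (w : GolayPt → ℤ) (pt 1) = 1) ∨
      ((w : GolayPt → ℤ) (pt 0) = 1 ∧ (w : GolayPt → ℤ) (pt 1) = 3)) : RT (-3) (-1) w := by
  classical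
  have hodd : (w : GolayPt → ℤ) (pt 0) % 2 = 1 := by
    rcases h01 with ⟨e0, -⟩ | ⟨e0, -⟩ <;> rw [e0] <;> norm_num
  obtain ⟨i, hi, hrest, -⟩ := shapeC_of_odd w.2 hn hodd
  obtain ⟨c, d, hc, hd, hcd⟩ := exists_two_outside {pt 0, pt 1, i} Finset.card_le_three
  simp only [Finset.mem_insert, Finset.mem_singleton, not_or] at hc hd
  obtain ⟨ec, hec, hc'⟩ := exists_sign (hrest c hc.2.2)
  obtain ⟨ed, hed, hd'⟩ := exists_sign (hrest d hd.2.2)
  obtain ⟨g, hgB, y0, y1, -, -⟩ := b_move w hc.1 hc.2.1 hd.1 hd.2.1 hcd hec hed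
  rw [hc', hd'] at y0 y1
  apply RT_of_smul g hgB
  apply RT8_B (g • w) (by rw [co0_norm, hn])
  left
  constructor
  · rcases h01 with ⟨e0, e1⟩ | ⟨e0, e1⟩ <;> rw [e0, e1] at y0 <;> norm_num at y0 <;> exact y0
  · rcases h01 with ⟨e0, e1⟩ | ⟨e0, e1⟩ <;> rw [e0, e1] at y1 <;> norm_num at y1 <;> exact y1

theorem RT8_all (w : ↥leechLattice) (hn : sqNorm (w : GolayPt → ℤ) = 32)
    (hd : dotInt (B : GolayPt → ℤ) (w : GolayPt → ℤ) = -8) : RT (-3) (-1) w := by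
  rw [dot_B] at hd
  have h1 : (w : GolayPt → ℤ) (pt 1) = (w : GolayPt → ℤ) (pt 0) + 2 := by linarith
  obtain ⟨hl, -⟩ := min_entry_le w.2 hn (pt 0)
  obtain ⟨-, hu'⟩ := min_entry_le w.2 hn (pt 1)
  have hu : (w : GolayPt → ℤ) (pt 0) ≤ 2 := by linarith
  generalize hx : (w : GolayPt → ℤ) (pt 0) = x at *
  interval_cases x
  · exfalso
    have hA := shapeA_of_four w.2 hn (p := pt 0) (Or.inr hx)
    rcases shapeA_entry hA (pt 1) with h | h | h <;> omega
  · exact RT_refl hx (by rw [h1]; norm_num)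
  · exact RT8_B w hn (Or.inl ⟨hx, by rw [h1]; norm_num⟩)
  · exact RT8_C w hn (Or.inl ⟨hx, by rw [h1]; norm_num⟩)
  · exact RT8_B w hn (Or.inr ⟨hx, by rw [h1]; norm_num⟩)
  · exact RT8_C w hn (Or.inr ⟨hx, by rw [h1]; norm_num⟩)
  · exfalso
    have hA := shapeA_of_four w.2 hn (p := pt 1) (Or.inl (by rw [h1]; norm_num))
    rcases shapeA_entry hA (pt 0) with h | h | h <;> omega

/-- the stabiliser of a minimal vector is transitive on the minimal vectors of inner product `-8` with it -/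
theorem ip8_transitive (v w w' : ↥leechLattice) (hv : sqNorm (v : GolayPt → ℤ) = 32)
    (hw : sqNorm (w : GolayPt → ℤ) = 32) (hw' : sqNorm (w' : GolayPt → ℤ) = 32)
    (hd : dotInt (v : GolayPt → ℤ) (w : GolayPt → ℤ) = -8) (hd' : dotInt (v : GolayPt → ℤ) (w' : GolayPt → ℤ) = -8) :
    ∃ g : ↥Co0, g • v = v ∧ g • w = w' :=
  transitive_of_RT RT8_all v w w' hv hw hw' hd hd'

end Cfsg.Agent.Helper22.Co2Trans2
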