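import Cfsg.Agent.Helper22.Co2KCard
import Cfsg.Agent.Helper22.Co2Trans2

/-!
# The stabiliser of two minimal vectors of inner product `-16` as a stabiliser of a letter

For minimal vectors `v`, `w` with `v · w = -16`, the stabiliser of the two vectors in the group of the lattice
is isomorphic to the stabiliser of the letter `0` in the group `Co2K.K` of permutations of 4600 letters, and it
has order `9196830720`.
-/

set_option autoImplicit false

namespace Cfsg.Agent.Helper22.Co2Stab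

open Cfsg Cfsg.Agent.Helper27 Cfsg.Agent.Helper22.Co0Mono Cfsg.Agent.Helper22.Co0Center
  Cfsg.Agent.Helper22.Summands Cfsg.Agent.Helper22.QuadForm Cfsg.Agent.Helper22.MinTrans
  Cfsg.Agent.Helper22.HS100 Cfsg.Agent.Helper22.HS100b Cfsg.Agent.Helper22.Co2Simple
  Cfsg.Agent.Helper22.Co2Bridge Cfsg.Agent.Helper22.Co2K Cfsg.Agent.Helper22.Co2Trans2

/-- a general transport of subgroups along an isomorphism -/
noncomputable def subEquiv {A B : Type*} [Group A] [Group B] (e : A ≃* B) (H : Subgroup A) (H' : Subgroup B)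
    (h : ∀ a, a ∈ H ↔ e a ∈ H') : ↥H ≃* ↥H' :=
  (e.subgroupMap H).trans (MulEquiv.subgroupCongr (by
    ext b
    rw [show ((e : A →* B)) = e.toMonoidHom from rfl, Subgroup.mem_map_equiv, h, MulEquiv.apply_symm_apply]))

/-- the stabiliser of two vectors -/
abbrev S2 (u v : ↥leechLattice) : Subgroup ↥Co0 :=
  MulAction.stabilizer ↥Co0 u ⊓ MulAction.stabilizer ↥Co0 v

theorem mem_S2 (u v : ↥leechLattice) (k : ↥Co0) : k ∈ S2 u v ↔ k • u = u ∧ k • v = v := by
  simp only [S2, Subgroup.mem_inf, MulAction.mem_stabilizer_iff]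

/-- conjugation carries the stabiliser of a pair to the stabiliser of the image pair -/
noncomputable def conjS2 (g : ↥Co0) (u v : ↥leechLattice) : ↥(S2 u v) ≃* ↥(S2 (g • u) (g • v)) :=
  subEquiv (MulAut.conj g) _ _ (by
    intro k
    rw [mem_S2, mem_S2, MulAut.conj_apply]
    simp only [mul_smul, inv_smul_smul, smul_left_cancel_iff])

/-! ### The standard pair -/

/-- the first of the 4600 vectors -/
def y0 : ↥leechLattice := F ⟨0, by norm_num⟩

theorem y0_mem : y0 ∈ Census.X a01 16 := F_mem _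

theorem sqNorm_a01 : sqNorm (a01 : GolayPt → ℤ) = 32 := sqNorm_a01'

theorem dot_symm (a b : GolayPt → ℤ) : dotInt a b = dotInt b a := by
  unfold dotInt
  exact Finset.sum_congr rfl fun p _ => mul_comm _ _

theorem sqNorm_sub_y0 : sqNorm ((a01 - y0 : ↥leechLattice) : GolayPt → ℤ) = 32 := by
  show sqNorm ((a01 : GolayPt → ℤ) - (y0 : GolayPt → ℤ)) = 32
  rw [Summands.sqNorm_sub, sqNorm_a01, y0_mem.1, y0_mem.2]
  norm_num

theorem dot_y0_sub : dotInt (y0 : GolayPt → ℤ) ((a01 - y0 : ↥leechLattice) : GolayPt → ℤ) = -16 := by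
  show dotInt (y0 : GolayPt → ℤ) ((a01 : GolayPt → ℤ) - (y0 : GolayPt → ℤ)) = -16
  rw [sub_eq_add_neg, dot_add_right, dot_neg_right', dot_self, y0_mem.1, dot_symm, y0_mem.2]
  norm_num

/-- every pair is equivalent to the standard pair -/
theorem to_std (v w : ↥leechLattice) (hv : sqNorm (v : GolayPt → ℤ) = 32) (hw : sqNorm (w : GolayPt → ℤ) = 32)
    (hd : dotInt (v : GolayPt → ℤ) (w : GolayPt → ℤ) = -16) : ∃ g : ↥Co0, g • v = y0 ∧ g • w = a01 - y0 := by
  obtain ⟨g1, e1⟩ := min_transitive v y0 hv y0_mem.1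
  have h1 : sqNorm ((g1 • w : ↥leechLattice) : GolayPt → ℤ) = 32 := by rw [co0_norm, hw]
  have h2 : dotInt (y0 : GolayPt → ℤ) ((g1 • w : ↥leechLattice) : GolayPt → ℤ) = -16 := by
    rw [← e1, co0_dot, hd]
  obtain ⟨g2, f1, f2⟩ := ip16_transitive y0 (g1 • w) (a01 - y0) y0_mem.1 h1 sqNorm_sub_y0 h2 dot_y0_sub
  exact ⟨g2 * g1, by rw [mul_smul, e1, f1], by rw [mul_smul, f2]⟩

theorem equivK_apply (g : ↥G2) : ((equivK g : ↥K) : Equiv.Perm (Fin 4600)) = rho g := rfl

/-- the stabiliser of the standard pair in the stabiliser of the standard minimal vector -/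
noncomputable def toG2 : ↥(S2 y0 (a01 - y0)) ≃* ↥(MulAction.stabilizer ↥G2 y0) where
  toFun k := ⟨⟨k.1, (mem_G2 _).mpr (by
      have h1 := ((mem_S2 _ _ _).mp k.2).1
      have h2 := ((mem_S2 _ _ _).mp k.2).2
      rw [co0_sub, h1] at h2
      exact sub_left_injective h2)⟩, ((mem_S2 _ _ _).mp k.2).1⟩
  invFun k := ⟨k.1.1, (mem_S2 _ _ _).mpr ⟨k.2, by
      have h1 : k.1.1 • y0 = y0 := k.2
      rw [co0_sub, (mem_G2 _).mp k.1.2, h1]⟩⟩
  left_inv _ := rfl
  right_inv _ := rfl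
  map_mul' _ _ := rfl

theorem mem_stab_iff (g : ↥G2) :
    g ∈ MulAction.stabilizer ↥G2 y0 ↔ equivK g ∈ MulAction.stabilizer ↥K (⟨0, by norm_num⟩ : Fin 4600) := by
  rw [MulAction.mem_stabilizer_iff, MulAction.mem_stabilizer_iff]
  change g.1 • y0 = y0 ↔ rho g ⟨0, by norm_num⟩ = ⟨0, by norm_num⟩
  constructor
  · intro h
    apply F_injective
    rw [F_rho]
    exact h
  · intro h
    have := F_rho g ⟨0, by norm_num⟩
    rw [h] at this
    exact this.symm

/-- the stabiliser of the standard pair is the stabiliser of the letter `0` in the group on 4600 letters -/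
noncomputable def stdEquiv :
    ↥(S2 y0 (a01 - y0)) ≃* ↥(MulAction.stabilizer ↥K (⟨0, by norm_num⟩ : Fin 4600)) :=
  toG2.trans (subEquiv equivK _ _ mem_stab_iff)

/-- **The bridge**: the stabiliser of two minimal vectors of inner product `-16` is the stabiliser of the
letter `0` in `K`. -/
theorem exists_equiv_stab (v w : ↥leechLattice) (hv : sqNorm (v : GolayPt → ℤ) = 32)
    (hw : sqNorm (w : GolayPt → ℤ) = 32) (hd : dotInt (v : GolayPt → ℤ) (w : GolayPt → ℤ) = -16) :
    Nonempty (↥(MulAction.stabilizer ↥Co0 v ⊓ MulAction.stabilizer ↥Co0 w) ≃*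
      ↥(MulAction.stabilizer ↥K (⟨0, by norm_num⟩ : Fin 4600))) := by
  obtain ⟨g, e1, e2⟩ := to_std v w hv hw hd
  have e := conjS2 g v w
  rw [e1, e2] at e
  exact ⟨e.trans stdEquiv⟩

/-! ### The order of the stabiliser of a letter -/

theorem exists_map (γ : Fin 4600) : ∃ g : ↥K, g • (⟨0, by norm_num⟩ : Fin 4600) = γ := by
  have h1 : -y0 ∈ Census.X a01 (-16) := by
    refine ⟨?_, ?_⟩
    · show sqNorm (-(y0 : GolayPt → ℤ)) = 32
      rw [sqNorm_neg', y0_mem.1]
    · show dotInt (a01 : GolayPt → ℤ) (-(y0 : GolayPt → ℤ)) = -16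
      rw [dot_neg_right', y0_mem.2]
  have h2 : -(F γ) ∈ Census.X a01 (-16) := by
    refine ⟨?_, ?_⟩
    · show sqNorm (-(F γ : GolayPt → ℤ)) = 32
      rw [sqNorm_neg', (F_mem γ).1]
    · show dotInt (a01 : GolayPt → ℤ) (-(F γ : GolayPt → ℤ)) = -16
      rw [dot_neg_right', (F_mem γ).2]
  obtain ⟨g, f1, f2⟩ := ip16_transitive a01 (-y0) (-(F γ)) sqNorm_a01 h1.1 h2.1 h1.2 h2.2
  rw [co0_neg, neg_inj] at f2
  refine ⟨equivK ⟨g, (mem_G2 _).mpr f1⟩, ?_⟩
  change rho ⟨g, (mem_G2 _).mpr f1⟩ ⟨0, by norm_num⟩ = γ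
  apply F_injective
  rw [F_rho]
  exact f2

instance pretransitive_K : MulAction.IsPretransitive ↥K (Fin 4600) := ⟨by
  intro a b
  obtain ⟨g1, e1⟩ := exists_map a
  obtain ⟨g2, e2⟩ := exists_map b
  refine ⟨g2 * g1⁻¹, ?_⟩
  rw [mul_smul, ← e1, inv_smul_smul, e2]⟩

theorem card_stab (a : Fin 4600) : Nat.card ↥(MulAction.stabilizer ↥K a) = 9196830720 := by
  have h1 := (MulAction.stabilizer ↥K a).card_mul_index
  rw [MulAction.index_stabilizer_of_transitive, card_K, Nat.card_fin] at h1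
  exact Nat.eq_of_mul_eq_mul_right (by norm_num : 0 < 4600) (h1.trans (by norm_num))

theorem card_stab0 : Nat.card ↥(MulAction.stabilizer ↥K (⟨0, by norm_num⟩ : Fin 4600)) = 9196830720 :=
  card_stab _

end Cfsg.Agent.Helper22.Co2Stab
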