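import Cfsg.Agent.Helper14.J3OA

/-!
# Automorphisms of a group with a 2-central involution and a self-centralising element of prime order

Abstract lemmas for outer automorphism groups of order two (after the lemmas of `Helper14.J2P5`, restated here
so that the data of that development are not imported).
-/

set_option autoImplicit false

namespace Cfsg.Agent.Helper22.OutTwo

open Cfsg.Agent.Helper14.J3Out

/-- an automorphism maps an involution generating the centre of a Sylow subgroup to a conjugate -/
theorem exists_conj_of_sylow_center {J : Type*} [Group J] [Finite J] (p : ℕ) [Fact p.Prime]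
    (S : Subgroup J) (hS : Nat.card S = p ^ (Nat.card J).factorization p) (z : J) (hzS : z ∈ S)
    (hzc : ∀ s ∈ S, s * z = z * s)
    (hcen : ∀ s ∈ S, (∀ t ∈ S, t * s = s * t) → s = 1 ∨ s = z) (φ : MulAut J) :
    ∃ g : J, φ z = g * z * g⁻¹ := by
  have hS' : Nat.card (S.map φ.toMonoidHom) = p ^ (Nat.card J).factorization p := by
    rw [← hS]
    exact Nat.card_congr (S.equivMapOfInjective _ φ.injective).symm.toEquiv
  let Q : Sylow p J := Sylow.ofCard S hS
  let Q' : Sylow p J := Sylow.ofCard (S.map φ.toMonoidHom) hS'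
  obtain ⟨g, hg⟩ := MulAction.exists_smul_eq J Q Q'
  have hQ' : ∀ x : J, x ∈ S.map φ.toMonoidHom ↔ ∃ s ∈ S, g * s * g⁻¹ = x := by
    intro x
    have : (S.map φ.toMonoidHom) = ((g • Q : Sylow p J) : Subgroup J) := by rw [hg]; rfl
    rw [this, Sylow.coe_subgroup_smul, Subgroup.mem_smul_pointwise_iff_exists]
    rfl
  obtain ⟨s, hsS, hs⟩ := (hQ' (φ z)).mp ⟨z, hzS, rfl⟩
  have hsc : ∀ t ∈ S, t * s = s * t := by
    intro t ht
    obtain ⟨t', ht', e⟩ := (hQ' (g * t * g⁻¹)).mpr ⟨t, ht, rfl⟩
    have e' : φ t' = g * t * g⁻¹ := e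
    have c1 : φ t' * φ z = φ z * φ t' := by rw [← map_mul, ← map_mul, hzc t' ht']
    rw [e', ← hs] at c1
    have : g * (t * s) * g⁻¹ = g * (s * t) * g⁻¹ := by
      calc g * (t * s) * g⁻¹ = (g * t * g⁻¹) * (g * s * g⁻¹) := by group
        _ = (g * s * g⁻¹) * (g * t * g⁻¹) := c1
        _ = g * (s * t) * g⁻¹ := by group
    exact mul_left_cancel (mul_right_cancel this)
  rcases hcen s hsS hsc with rfl | rfl
  · have h1 : φ z = 1 := by rw [← hs]; group
    have hz1 : z = 1 := by
      have := congrArg φ.symm h1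
      simpa using this
    exact ⟨1, by rw [hz1]; simp⟩
  · exact ⟨g, hs.symm⟩

/-- the bound for the automorphism group of a group generated by an element `x` and an element
`u` of prime order `p`, when `p` divides the order only once, the nontrivial powers of `u` are
conjugate, and at most `2 p` images of `x` are possible under automorphisms fixing `u` -/
theorem card_mulAut_le_one {J : Type*} [Group J] [Finite J] (p m : ℕ) [hp : Fact p.Prime]
    (hcard : Nat.card J = p * m) (hpm : ¬ p ∣ m)
    (x u n : J) (hgen : Subgroup.closure {x, u} = ⊤) (hu : orderOf u = p)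
    (r : ℕ) (hn : n * u * n⁻¹ = u ^ r)
    (hr : ∀ k, 0 < k → k < p → ∃ j, k % p = r ^ j % p)
    (S : Finset J) (hS : S.card ≤ 2 * p)
    (hstab : ∀ φ : MulAut J, φ u = u → φ x ∈ S) :
    Nat.card (MulAut J) ≤ 2 * Nat.card J := by
  classical
  have hO : ∀ v : J, orderOf v = p → v ∈ (Set.range fun g : J => g * u * g⁻¹) := by
    intro v hv
    obtain ⟨g, k, hk0, hkp, rfl⟩ := exists_conj_pow p m hcard hpm u v hu hv
    obtain ⟨j, hj⟩ := hr k hk0 hkp
    refine ⟨g * n ^ j, ?_⟩
    have e : u ^ k = u ^ (r ^ j) := by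
      calc u ^ k = u ^ (k % orderOf u) := (pow_mod_orderOf u k).symm
        _ = u ^ (r ^ j % orderOf u) := by rw [hu, hj]
        _ = u ^ (r ^ j) := pow_mod_orderOf u _
    show g * n ^ j * u * (g * n ^ j)⁻¹ = g * u ^ k * g⁻¹
    rw [e, ← conj_pow_eq u hn j]
    group
  have hP : Nat.card (Subgroup.zpowers u) = p := by rw [Nat.card_zpowers, hu]
  have hc1 : Nat.card (Set.range fun g : J => g * u * g⁻¹) ≤ m := by
    apply card_class_le p m hp.out.pos hcard u (Subgroup.zpowers u) hP
    rw [Subgroup.zpowers_le, Subgroup.mem_centralizer_iff]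
    intro y hy
    rw [Set.mem_singleton_iff] at hy
    rw [hy]
  have horb : Nat.card (MulAction.orbit (MulAut J) u) ≤ m := by
    have hsub : MulAction.orbit (MulAut J) u ⊆ (Set.range fun g : J => g * u * g⁻¹) := by
      rintro _ ⟨φ, rfl⟩
      apply hO
      show orderOf (φ u) = p
      rw [MulEquiv.orderOf_eq, hu]
    calc Nat.card (MulAction.orbit (MulAut J) u)
        ≤ Nat.card (Set.range fun g : J => g * u * g⁻¹) :=
          Nat.card_mono (Set.toFinite _) hsub
      _ ≤ m := hc1
  have hst : Nat.card (MulAction.stabilizer (MulAut J) u) ≤ 2 * p := by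
    let f : MulAction.stabilizer (MulAut J) u → S := fun φ =>
      ⟨φ.1 x, hstab φ.1 (MulAction.mem_stabilizer_iff.1 φ.2)⟩
    have hf : Function.Injective f := by
      intro φ ψ h
      have h1 : φ.1 x = ψ.1 x := congrArg Subtype.val h
      have h2 : φ.1 u = u := MulAction.mem_stabilizer_iff.1 φ.2
      have h3 : ψ.1 u = u := MulAction.mem_stabilizer_iff.1 ψ.2
      apply Subtype.ext
      apply MulEquiv.toMonoidHom_injective
      apply MonoidHom.eq_of_eqOn_dense hgen
      intro y hy
      rcases hy with rfl | hy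
      · exact h1
      · rw [Set.mem_singleton_iff] at hy
        subst hy
        show φ.1 y = ψ.1 y
        rw [h2, h3]
    calc Nat.card (MulAction.stabilizer (MulAut J) u) ≤ Nat.card S :=
          Nat.card_le_card_of_injective f hf
      _ = S.card := by rw [Nat.card_eq_fintype_card, Fintype.card_coe]
      _ ≤ 2 * p := hS
  have hprod : Nat.card (MulAut J) = Nat.card (MulAction.orbit (MulAut J) u) *
      Nat.card (MulAction.stabilizer (MulAut J) u) := by
    rw [← Nat.card_prod]
    exact (Nat.card_congr (MulAction.orbitProdStabilizerEquivGroup (MulAut J) u)).symm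
  rw [hprod, hcard]
  calc Nat.card (MulAction.orbit (MulAut J) u) * Nat.card (MulAction.stabilizer (MulAut J) u)
      ≤ m * (2 * p) := Nat.mul_le_mul horb hst
    _ = 2 * (p * m) := by ring

/-- the order of the outer automorphism group is invariant under isomorphisms -/
theorem card_out_congr' {A B : Type*} [Group A] [Group B] (e : A ≃* B) :
    Nat.card (Cfsg.Out A) = Nat.card (Cfsg.Out B) := by
  show (Cfsg.Inn A).index = (Cfsg.Inn B).index
  have hmap : (Cfsg.Inn A).map (MulAut.congr e).toMonoidHom = Cfsg.Inn B := by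
    ext β
    rw [Subgroup.mem_map]
    constructor
    · rintro ⟨α, ⟨g, rfl⟩, rfl⟩
      refine ⟨e g, ?_⟩
      apply MulEquiv.ext
      intro z
      simp [MulAut.congr, MulAut.conj_apply]
    · rintro ⟨g', rfl⟩
      refine ⟨MulAut.conj (e.symm g'), ⟨e.symm g', rfl⟩, ?_⟩
      apply MulEquiv.ext
      intro z
      simp [MulAut.congr, MulAut.conj_apply]
  rw [← hmap]
  exact (Subgroup.index_map_of_bijective (MulAut.congr e).bijective (Cfsg.Inn A)).symm

end Cfsg.Agent.Helper22.OutTwo
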