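import Cfsg.Agent.Helper22.PermPack

/-!
# Verified stabiliser chains: every element is a product of transversal elements

A complement to `PermPack`: the elements of a group with a checked chain are the products of transversal elements
along the paths, and an element fixing all the base points is the identity.
-/

set_option autoImplicit false

namespace Cfsg.Agent.Helper22.PermPack

variable {n w : ℕ}

/-- what the check of the first level gives -/
theorem level_setup (L : Lv) (ls : List Lv) (Y : List ℕ) (hY : ∀ y ∈ Y, Good n w y)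
    (h : chainOK n w Y (L :: ls) = true) :
    ∃ (hb : L.b < n) (O : Finset (Fin n)) (T : Fin n → Pm n),
      (⟨L.b, hb⟩ : Fin n) ∈ O ∧ T ⟨L.b, hb⟩ = 1 ∧ (∀ β ∈ O, T β ⟨L.b, hb⟩ = β) ∧
      (∀ β ∈ O, ∀ y ∈ {g : Pm n | ∃ y ∈ Y, g = P n w y},
        y β ∈ O ∧ (T (y β))⁻¹ * y * T β ∈ Grp n w (Y.filter fun y => Nat.beq (slot w y L.b) L.b)) ∧
      (∀ g ∈ Grp n w (Y.filter fun y => Nat.beq (slot w y L.b) L.b), g ⟨L.b, hb⟩ = ⟨L.b, hb⟩) ∧
      Grp n w (Y.filter fun y => Nat.beq (slot w y L.b) L.b) ≤ Grp n w Y ∧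
      (∀ β ∈ O, ∃ k < L.m, Rep (slot w (tab n w L k)) (T β)) ∧
      chainOK n w (Y.filter fun y => Nat.beq (slot w y L.b) L.b) ls = true ∧
      (∀ y ∈ Y.filter fun y => Nat.beq (slot w y L.b) L.b, Good n w y) := by
  classical
  simp only [chainOK, withList_eq, Bool.and_eq_true] at h
  obtain ⟨hL, hrest⟩ := h
  set Y' := Y.filter (fun y => Nat.beq (slot w y L.b) L.b) with hY'def
  have hY'sub : ∀ y ∈ Y', y ∈ Y := fun y hy => (List.mem_filter.mp hy).1
  have hY'fix : ∀ y ∈ Y', slot w y L.b = L.b := fun y hy => beq_iff.mp (List.mem_filter.mp hy).2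
  have hY'good : ∀ y ∈ Y', Good n w y := fun y hy => hY y (hY'sub y hy)
  obtain ⟨_, ihpath⟩ := chain_sound ls Y' hY'good hrest
  simp only [levelOK, withNat_eq, Bool.and_eq_true, blt_iff, beq_iff] at hL
  obtain ⟨⟨⟨⟨⟨⟨hm, hp0⟩, hblt⟩, hpts⟩, hid⟩, htree⟩, hcert⟩ := hL
  have hpts' : ∀ k < L.m, pt w L k < n ∧ slot w L.pos (pt w L k) = k ∧
      slot w (tab n w L k) L.b = pt w L k := by
    intro k hk
    have := allN_spec hpts k hk
    simp only [Bool.and_eq_true, blt_iff, beq_iff] at this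
    exact ⟨this.1.1, this.1.2, this.2⟩
  have hid' : ∀ i < n, slot w (tab n w L 0) i = i := fun i hi => beq_iff.mp (allN_spec hid i hi)
  have htr := tree_sound Y hY L hid' htree
  have hidrep : Rep (slot w (tab n w L 0)) (1 : Pm n) := rep_congr rep_one hid'
  let Tk : ℕ → Pm n := fun k =>
    if h : ∃ g ∈ Grp n w Y, Rep (slot w (tab n w L k)) g then Classical.choose h else 1
  have hTk : ∀ k < L.m, Tk k ∈ Grp n w Y ∧ Rep (slot w (tab n w L k)) (Tk k) := by
    intro k hk
    have hex := htr k hk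
    have : Tk k = Classical.choose hex := dif_pos hex
    rw [this]
    exact Classical.choose_spec hex
  let T : Fin n → Pm n := fun β => Tk (slot w L.pos β.1)
  let ptF : Fin L.m → Fin n := fun k => ⟨pt w L k.1, (hpts' k.1 k.2).1⟩
  let O : Finset (Fin n) := Finset.univ.image ptF
  have hO : ∀ x : Fin n, x ∈ O ↔ ∃ k < L.m, pt w L k = x.1 := by
    intro x
    simp only [O, Finset.mem_image, Finset.mem_univ, true_and]
    constructor
    · rintro ⟨k, rfl⟩
      exact ⟨k.1, k.2, rfl⟩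
    · rintro ⟨k, hk, hkx⟩
      exact ⟨⟨k, hk⟩, Fin.ext hkx⟩
  have hTO : ∀ k (hk : k < L.m), T ⟨pt w L k, (hpts' k hk).1⟩ = Tk k := by
    intro k hk
    show Tk (slot w L.pos (pt w L k)) = Tk k
    rw [(hpts' k hk).2.1]
  have hH'fix := Grp_fix hY'good hblt hY'fix
  have hH'le : Grp n w Y' ≤ Grp n w Y := Grp_mono hY'sub
  have hbO : (⟨L.b, hblt⟩ : Fin n) ∈ O := (hO _).mpr ⟨0, hm, hp0⟩
  have hT1 : T ⟨L.b, hblt⟩ = 1 := by
    have e : (⟨L.b, hblt⟩ : Fin n) = ⟨pt w L 0, (hpts' 0 hm).1⟩ := Fin.ext hp0.symm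
    rw [e, hTO 0 hm]
    exact rep_unique (hTk 0 hm).2 hidrep
  have hTb' : ∀ β ∈ O, T β ⟨L.b, hblt⟩ = β := by
    intro β hβ
    obtain ⟨k, hk, hkβ⟩ := (hO β).mp hβ
    have e : β = ⟨pt w L k, (hpts' k hk).1⟩ := Fin.ext hkβ.symm
    rw [e, hTO k hk]
    apply Fin.ext
    rw [(hTk k hk).2]
    exact (hpts' k hk).2.2
  have hTrep : ∀ β ∈ O, ∃ k < L.m, Rep (slot w (tab n w L k)) (T β) := by
    intro β hβ
    obtain ⟨k, hk, hkβ⟩ := (hO β).mp hβ
    have e : β = ⟨pt w L k, (hpts' k hk).1⟩ := Fin.ext hkβ.symm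
    refine ⟨k, hk, ?_⟩
    rw [e, hTO k hk]
    exact (hTk k hk).2
  have hS : ∀ β ∈ O, ∀ y ∈ {g : Pm n | ∃ y ∈ Y, g = P n w y},
      y β ∈ O ∧ (T (y β))⁻¹ * y * T β ∈ Grp n w Y' := by
    rintro β hβ _ ⟨y, hy, rfl⟩
    obtain ⟨k, hk, hkβ⟩ := (hO β).mp hβ
    have e : β = ⟨pt w L k, (hpts' k hk).1⟩ := Fin.ext hkβ.symm
    have hc := allN_spec hcert k hk
    rw [withNat_eq, withNat_eq] at hc
    obtain ⟨hc1, hc2, p, hc3, hc4⟩ := rowOK_spec L ls _ _ Y _ hc y hy
    have hyβ : (P n w y β).1 = slot w y (pt w L k) := by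
      rw [rep_P (hY y hy) β, e]
    set kq := slot w L.pos (slot w y (pt w L k)) with hkq
    have hq : P n w y β = ⟨pt w L kq, (hpts' kq hc1).1⟩ := by
      apply Fin.ext
      rw [hyβ]
      exact hc2.symm
    refine ⟨(hO _).mpr ⟨kq, hc1, by rw [hyβ]; exact hc2⟩, ?_⟩
    obtain ⟨gp, hgp, hgprep⟩ := ihpath p hc3
    have heq : P n w y * T β = T (P n w y β) * gp := by
      rw [hq, hTO kq hc1, e, hTO k hk]
      apply rep_unique (rep_mul (rep_P (hY y hy)) (hTk k hk).2)
      apply rep_congr (rep_mul (hTk kq hc1).2 hgprep)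
      intro i hi
      exact hc4 i hi
    have : (T (P n w y β))⁻¹ * P n w y * T β = gp := by
      rw [mul_assoc, heq]
      group
    rw [this]
    exact hgp
  exact ⟨hblt, O, T, hbO, hT1, hTb', hS, hH'fix, hH'le, hTrep, hrest, hY'good⟩

/-- every element of a group with a checked chain is the product of the transversal elements along a path -/
theorem chain_complete : ∀ (ls : List Lv) (Y : List ℕ), (∀ y ∈ Y, Good n w y) → chainOK n w Y ls = true →
    ∀ g ∈ Grp n w Y, ∃ p, pathValid ls p = true ∧ Rep (pathLook n w ls p) g := by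
  intro ls
  induction ls with
  | nil =>
    intro Y _ h g hg
    have hYe : Y = [] := by simpa [chainOK] using h
    subst hYe
    have hbot : Grp n w [] = ⊥ := by
      unfold Grp
      simp
    rw [hbot, Subgroup.mem_bot] at hg
    subst hg
    exact ⟨[], rfl, fun _ => rfl⟩
  | cons L ls ih =>
    intro Y hY h g hg
    classical
    obtain ⟨hb, O, T, hbO, hT1, hTb, hS, hfix, _, hTrep, hrest, hY'good⟩ := level_setup L ls Y hY h
    obtain ⟨h1, h2⟩ := Cfsg.Agent.Helper17.SchreierSims.chain_step {g : Pm n | ∃ y ∈ Y, g = P n w y} _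
      ⟨L.b, hb⟩ O T hbO hT1 hTb hS hfix g hg
    obtain ⟨p', hp', hrep'⟩ := ih _ hY'good hrest _ h2
    obtain ⟨k, hk, hkrep⟩ := hTrep _ h1
    refine ⟨k :: p', ?_, ?_⟩
    · simp only [pathValid, Bool.and_eq_true, decide_eq_true_eq]
      exact ⟨hk, hp'⟩
    · have e : g = T (g ⟨L.b, hb⟩) * ((T (g ⟨L.b, hb⟩))⁻¹ * g) := by group
      rw [e]
      exact rep_congr (rep_mul hkrep hrep') (fun _ _ => rfl)

/-- an element of a group with a checked chain that fixes the base points is the identity -/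
theorem eq_one_of_fix_base : ∀ (ls : List Lv) (Y : List ℕ), (∀ y ∈ Y, Good n w y) → chainOK n w Y ls = true →
    ∀ g ∈ Grp n w Y, (∀ L ∈ ls, ∀ hb : L.b < n, g ⟨L.b, hb⟩ = ⟨L.b, hb⟩) → g = 1 := by
  intro ls
  induction ls with
  | nil =>
    intro Y _ h g hg _
    have hYe : Y = [] := by simpa [chainOK] using h
    subst hYe
    have hbot : Grp n w [] = ⊥ := by
      unfold Grp
      simp
    rw [hbot, Subgroup.mem_bot] at hg
    exact hg
  | cons L ls ih =>
    intro Y hY h g hg hgfix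
    classical
    obtain ⟨hb, O, T, hbO, hT1, hTb, hS, hfix, hle, _, hrest, hY'good⟩ := level_setup L ls Y hY h
    have hst := Cfsg.Agent.Helper17.SchreierSims.stabilizer_eq {g : Pm n | ∃ y ∈ Y, g = P n w y} _
      ⟨L.b, hb⟩ O T hbO hT1 hTb hS hfix hle
    have hg' : g ∈ Grp n w (Y.filter fun y => Nat.beq (slot w y L.b) L.b) := by
      rw [← hst]
      exact ⟨hg, MulAction.mem_stabilizer_iff.mpr (hgfix L List.mem_cons_self hb)⟩
    exact ih _ hY'good hrest g hg' (fun L' hL' => hgfix L' (List.mem_cons_of_mem _ hL'))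

end Cfsg.Agent.Helper22.PermPack
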