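import Cfsg.Agent.Helper22.HSKChk2
import Cfsg.Agent.Helper22.PermPack2
import Cfsg.Agent.Helper22.OutTwo

/-!
# The group of order 44352000 on a hundred points: its outer automorphism group has order two

The group `K` generated by an involution `z` and an element `u` of order seven.  The involution generates the
centre of a Sylow subgroup, so automorphisms map it to a conjugate; the conjugates are listed, and relations of
`z` and `u` leave fourteen possible images under the automorphisms fixing `u`.  An involution outside the group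
normalises it.
-/

set_option autoImplicit false
set_option maxRecDepth 8000

namespace Cfsg.Agent.Helper22.HSK

open Cfsg Cfsg.Agent.Helper22.PermPack Cfsg.Agent.Helper22.HSKData Cfsg.Agent.Helper22.GraphRefine
  Cfsg.Agent.Helper22.HSGraph Cfsg.Agent.Helper22.OutTwo Cfsg.Agent.Helper14.J3Out

/-! ### Generalities on tables -/

theorem allN_of_forall' {n : ℕ} {f : ℕ → Bool} (h : ∀ i < n, f i = true) : allN n f = true := by
  induction n with
  | zero => rfl
  | succ n ih =>
    rw [allN_succ, h n (Nat.lt_succ_self n), ih (fun i hi => h i (Nat.lt_succ_of_lt hi))]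
    rfl

theorem eq_of_rep {n : ℕ} {f f' : ℕ → ℕ} {g g' : Pm n} (h : Rep f g) (h' : Rep f' g')
    (hff : ∀ i < n, f i = f' i) : g = g' :=
  rep_unique h (rep_congr h' hff)

theorem eq_one_of_rep {n : ℕ} {f : ℕ → ℕ} {g : Pm n} (h : Rep f g) (hf : ∀ i < n, f i = i) : g = 1 :=
  eq_of_rep h rep_one hf

theorem rep_apply {n : ℕ} {f : ℕ → ℕ} {g : Pm n} (h : Rep f g) {i : ℕ} (hi : i < n) : (g ⟨i, hi⟩).1 = f i :=
  h ⟨i, hi⟩

/-- the representation of a conjugate -/
theorem rep_conj {n : ℕ} {fy fc fc' : ℕ → ℕ} {g x : Pm n} (hg : Rep fy g) (hx : Rep fc x)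
    (h : ∀ i < n, fy (fc i) = fc' (fy i)) : Rep fc' (g * x * g⁻¹) := by
  intro i'
  obtain ⟨i, rfl⟩ := g.surjective i'
  have e : (g * x * g⁻¹) (g i) = g (x i) := by simp
  rw [e, hg, hx, hg]
  exact h i.1 i.2

/-! ### The group -/

theorem zu_good : ∀ y ∈ zu, Good 100 7 y :=
  fun y hy => good_of_goodB (List.all_eq_true.mp zu_goodK y hy)

theorem gens_good : ∀ y ∈ gens, Good 100 7 y :=
  fun y hy => good_of_goodB (List.all_eq_true.mp gens_goodK y hy)

/-- the group -/
noncomputable def K : Subgroup (Pm 100) := Grp 100 7 zu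

theorem gens_sub : ∀ y ∈ gens, y ∈ zu ∨ ∃ e ∈ slp, e.1 = y := by
  intro y hy
  have := List.all_eq_true.mp gens_subK y hy
  rw [Bool.or_eq_true, List.contains_iff_mem, List.any_eq_true] at this
  rcases this with h1 | ⟨e, he, h2⟩
  · exact Or.inl h1
  · exact Or.inr ⟨e, he, beq_iff_eq.mp h2⟩

theorem zu_sub : ∀ y ∈ zu, y ∈ gens := by
  intro y hy
  have := List.all_eq_true.mp zu_subK y hy
  rwa [List.contains_iff_mem] at this

theorem K_eq : Grp 100 7 gens = K := Grp_eq_of_slp zu_good slp_okK gens_sub zu_sub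

theorem card_K : Nat.card K = 44352000 := by
  rw [← prod_levels, ← K_eq]
  exact (chain_sound levels gens gens_good chain_okK).1

instance : Finite ↥K := Nat.finite_of_card_ne_zero (by rw [card_K]; norm_num)

theorem path_mem (p : List ℕ) (hp : pathValid levels p = true) : ∃ g ∈ K, Rep (pathLook 100 7 levels p) g := by
  rw [← K_eq]
  exact (chain_sound levels gens gens_good chain_okK).2 p hp

theorem gen_mem {y : ℕ} (hy : y ∈ gens) : P 100 7 y ∈ K := by
  rw [← K_eq]
  exact P_mem_Grp hy

theorem K_le_AutG : K ≤ AutG 100 adjHS :=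
  Grp_le_AutG fun y hy => ⟨zu_good y hy, List.all_eq_true.mp zu_autK y hy⟩

theorem eq_one_of_fix {g : Pm 100} (hg : g ∈ K)
    (hfix : ∀ L ∈ levels, ∀ hb : L.b < 100, g ⟨L.b, hb⟩ = ⟨L.b, hb⟩) : g = 1 := by
  rw [← K_eq] at hg
  exact eq_one_of_fix_base levels gens gens_good chain_okK g hg hfix

/-- a table that is the product along a path is the table of this product -/
theorem eq_of_isPath {ls : List Lv} {t : ℕ} {p : List ℕ} (ht : Good 100 7 t) (h : isPath ls t p = true)
    {g : Pm 100} (hg : Rep (pathLook 100 7 ls p) g) : P 100 7 t = g := by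
  unfold isPath at h
  rw [Bool.and_eq_true, withNat_eq, withList_eq] at h
  exact eq_of_rep (rep_P ht) hg (fun i hi => beq_iff.mp (allN_spec h.2 i hi))

theorem isPath_valid {ls : List Lv} {t : ℕ} {p : List ℕ} (h : isPath ls t p = true) : pathValid ls p = true := by
  unfold isPath at h
  rw [Bool.and_eq_true] at h
  exact h.1

theorem mem_of_isPath {t : ℕ} {p : List ℕ} (ht : Good 100 7 t) (h : isPath levels t p = true) :
    P 100 7 t ∈ K := by
  obtain ⟨g, hg, hrep⟩ := path_mem p (isPath_valid h)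
  rw [eq_of_isPath ht h hrep]
  exact hg

/-! ### The two generators -/

theorem z_good : Good 100 7 zT := zu_good zT (by simp [zu])

theorem u_good : Good 100 7 uT := zu_good uT (by simp [zu])

/-- the involution -/
noncomputable def zP : Pm 100 := P 100 7 zT

/-- the element of order seven -/
noncomputable def uP : Pm 100 := P 100 7 uT

theorem zP_mem : zP ∈ K := P_mem_Grp (by simp [zu])

theorem uP_mem : uP ∈ K := P_mem_Grp (by simp [zu])

theorem upows_spec : (∀ i < 100, slot 7 (upow 0) i = i) ∧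
    (∀ e < 6, ∀ i < 100, slot 7 (upow (e + 1)) i = slot 7 uT (slot 7 (upow e) i)) ∧
    (∀ i < 100, slot 7 uT (slot 7 (upow 6) i) = i) ∧ slot 7 uT 0 ≠ 0 := by
  have h := upows_okK
  unfold upowsB at h
  simp only [Bool.and_eq_true, withNat_eq] at h
  obtain ⟨⟨⟨h1, h2⟩, h3⟩, h4⟩ := h
  refine ⟨fun i hi => beq_iff.mp (allN_spec h1 i hi),
    fun e he i hi => beq_iff.mp (allN_spec (allN_spec h2 e he) i hi),
    fun i hi => beq_iff.mp (allN_spec h3 i hi), ?_⟩
  intro h0
  rw [Bool.not_eq_true', ← Bool.not_eq_true, beq_iff] at h4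
  exact h4 h0

theorem rep_upow : ∀ e < 7, Rep (slot 7 (upow e)) (uP ^ e) := by
  intro e
  induction e with
  | zero =>
    intro _
    rw [pow_zero]
    exact rep_congr rep_one upows_spec.1
  | succ e ih =>
    intro he
    rw [pow_succ']
    exact rep_congr (rep_mul (rep_P u_good) (ih (by omega))) (upows_spec.2.1 e (by omega))

theorem uP_pow : uP ^ 7 = 1 := by
  rw [pow_succ']
  exact eq_one_of_rep (rep_mul (rep_P u_good) (rep_upow 6 (by norm_num))) upows_spec.2.2.1

theorem uP_ne : uP ≠ 1 := by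
  intro h
  have e := rep_apply (rep_P u_good) (i := 0) (by norm_num)
  rw [show P 100 7 uT = uP from rfl, h] at e
  exact upows_spec.2.2.2 e.symm

/-- the involution, in the group -/
noncomputable def zK : ↥K := ⟨zP, zP_mem⟩

/-- the element of order seven, in the group -/
noncomputable def uK : ↥K := ⟨uP, uP_mem⟩

theorem orderOf_uK : orderOf uK = 7 := by
  have : Fact (Nat.Prime 7) := ⟨by norm_num⟩
  apply orderOf_eq_prime
  · apply Subtype.ext
    exact uP_pow
  · intro h
    exact uP_ne (congrArg Subtype.val h)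

/-! ### The normalising element -/

theorem n_spec : Good 100 7 nT ∧ isPath levels nT nPath = true ∧
    ∀ i < 100, slot 7 nT (slot 7 uT i) = slot 7 (upow 3) (slot 7 nT i) := by
  have h := n_okK
  unfold nB at h
  simp only [Bool.and_eq_true, withNat_eq] at h
  exact ⟨good_of_goodB h.1.1, h.1.2, fun i hi => beq_iff.mp (allN_spec h.2 i hi)⟩

/-- the normalising element -/
noncomputable def nP : Pm 100 := P 100 7 nT

theorem nP_mem : nP ∈ K := mem_of_isPath n_spec.1 n_spec.2.1

/-- the normalising element, in the group -/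
noncomputable def nK : ↥K := ⟨nP, nP_mem⟩

theorem nK_conj : nK * uK * nK⁻¹ = uK ^ 3 := by
  have h : nP * uP = uP ^ 3 * nP :=
    eq_of_rep (rep_mul (rep_P n_spec.1) (rep_P u_good)) (rep_mul (rep_upow 3 (by norm_num)) (rep_P n_spec.1))
      n_spec.2.2
  apply Subtype.ext
  show nP * uP * nP⁻¹ = uP ^ 3
  rw [h]
  group

theorem closure_zK_uK : Subgroup.closure ({zK, uK} : Set ↥K) = ⊤ := by
  have h := Subgroup.closure_closure_coe_preimage (k := {g : Pm 100 | ∃ y ∈ zu, g = P 100 7 y})
  have e : ((↑) ⁻¹' {g : Pm 100 | ∃ y ∈ zu, g = P 100 7 y} :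
      Set (Subgroup.closure {g : Pm 100 | ∃ y ∈ zu, g = P 100 7 y})) = ({zK, uK} : Set ↥K) := by
    ext x
    simp only [Set.mem_preimage, Set.mem_ofPred_eq, zu, List.mem_cons, List.not_mem_nil, or_false,
      exists_eq_or_imp, exists_eq_left, Set.mem_insert_iff, Set.mem_singleton_iff]
    constructor
    · rintro (h | h)
      · left; exact Subtype.ext h
      · right; exact Subtype.ext h
    · rintro (h | h)
      · left; rw [h]; rfl
      · right; rw [h]; rfl
  rw [e] at h
  exact h

theorem card_K' : Nat.card ↥K = 7 * 6336000 := by rw [card_K]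

theorem residues_7 : ∀ k, 0 < k → k < 7 → ∃ j, k % 7 = 3 ^ j % 7 := by
  intro k h0 h7
  interval_cases k
  · exact ⟨0, rfl⟩
  · exact ⟨2, rfl⟩
  · exact ⟨1, rfl⟩
  · exact ⟨4, rfl⟩
  · exact ⟨5, rfl⟩
  · exact ⟨3, rfl⟩

/-! ### Transitivity and the centraliser -/

theorem exists_map (γ : Fin 100) : ∃ g ∈ K, g 0 = γ := by
  have h := allN_spec trans_okK γ.1 γ.2
  rw [withNat_eq, Bool.and_eq_true] at h
  obtain ⟨g, hg, hrep⟩ := path_mem _ h.1
  refine ⟨g, hg, Fin.ext ?_⟩
  rw [hrep]
  exact beq_iff.mp h.2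

theorem exists_move (a : Fin 100) (ha : a ≠ 0) : ∃ g ∈ K, g 0 = 0 ∧ g a ≠ a := by
  have h := allN_spec move_okK a.1 a.2
  rw [Bool.or_eq_true, beq_iff, List.any_eq_true] at h
  rcases h with h | ⟨y, hy, h⟩
  · exact absurd (Fin.ext h) ha
  · rw [Bool.and_eq_true, beq_iff, Bool.not_eq_true', ← Bool.not_eq_true, beq_iff] at h
    refine ⟨P 100 7 y, gen_mem hy, Fin.ext ?_, ?_⟩
    · rw [rep_P (gens_good y hy)]
      exact h.1
    · intro hc
      apply h.2
      have := congrArg Fin.val hc
      rw [rep_P (gens_good y hy)] at this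
      exact this

/-- a permutation commuting with the group is the identity -/
theorem eq_one_of_commute {c : Pm 100} (hc : ∀ g ∈ K, c * g = g * c) : c = 1 := by
  have h0 : c 0 = 0 := by
    by_contra hne
    obtain ⟨g, hg, hg0, hga⟩ := exists_move (c 0) hne
    apply hga
    have := congrArg (fun σ : Pm 100 => σ 0) (hc g hg)
    simp only [Equiv.Perm.coe_mul, Function.comp_apply] at this
    rw [hg0] at this
    exact this.symm
  apply Equiv.ext
  intro γ
  obtain ⟨g, hg, rfl⟩ := exists_map γ
  have := congrArg (fun σ : Pm 100 => σ 0) (hc g hg)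
  simp only [Equiv.Perm.coe_mul, Function.comp_apply] at this
  rw [h0] at this
  exact this

theorem center_K : Subgroup.center ↥K = ⊥ := by
  rw [eq_bot_iff]
  intro x hx
  rw [Subgroup.mem_center_iff] at hx
  rw [Subgroup.mem_bot]
  apply Subtype.ext
  apply eq_one_of_commute
  intro g hg
  have := hx ⟨g, hg⟩
  exact (congrArg Subtype.val this).symm

end Cfsg.Agent.Helper22.HSK
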