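import Cfsg.Agent.Helper22.HSK

/-!
# The group of order 44352000 on a hundred points: the Sylow subgroup and the conjugates of the involution
-/

set_option autoImplicit false
set_option maxRecDepth 8000

namespace Cfsg.Agent.Helper22.HSK

open Cfsg Cfsg.Agent.Helper22.PermPack Cfsg.Agent.Helper22.HSKData Cfsg.Agent.Helper22.GraphRefine
  Cfsg.Agent.Helper22.HSGraph Cfsg.Agent.Helper22.OutTwo Cfsg.Agent.Helper14.J3Out

/-! ### The subgroup of order 512 -/

theorem sY_good : ∀ y ∈ sY, Good 100 7 y :=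
  fun y hy => good_of_goodB (List.all_eq_true.mp sY_goodK y hy)

/-- the subgroup of order 512 -/
noncomputable def Sp : Subgroup (Pm 100) := Grp 100 7 sY

theorem card_Sp : Nat.card Sp = 512 := by
  rw [← prod_slevels]
  exact (chain_sound slevels sY sY_good schain_okK).1

theorem Sp_le : Sp ≤ K := by
  unfold Sp Grp
  rw [Subgroup.closure_le]
  rintro g ⟨y, hy, rfl⟩
  obtain ⟨j, hj, rfl⟩ := List.mem_iff_getElem.mp hy
  have h := allN_spec ssub_okK j hj
  rw [List.getD_eq_getElem _ _ hj] at h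
  exact mem_of_isPath (sY_good _ hy) h

theorem zP_mem_Sp : zP ∈ Sp := by
  obtain ⟨g, hg, hrep⟩ := (chain_sound slevels sY sY_good schain_okK).2 _ (isPath_valid zS_okK)
  show P 100 7 zT ∈ Sp
  rw [eq_of_isPath z_good zS_okK hrep]
  exact hg

theorem zP_comm_Sp : ∀ s ∈ Sp, s * zP = zP * s := by
  have hle : Sp ≤ Subgroup.centralizer ({zP} : Set (Pm 100)) := by
    unfold Sp Grp
    rw [Subgroup.closure_le]
    rintro g ⟨y, hy, rfl⟩
    rw [SetLike.mem_coe, Subgroup.mem_centralizer_iff]
    intro x hx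
    rw [Set.mem_singleton_iff] at hx
    subst hx
    have h := List.all_eq_true.mp zcomm_okK y hy
    exact (eq_of_rep (rep_mul (rep_P (sY_good y hy)) (rep_P z_good))
      (rep_mul (rep_P z_good) (rep_P (sY_good y hy))) (fun i hi => beq_iff.mp (allN_spec h i hi))).symm
  intro s hs
  have := Subgroup.mem_centralizer_iff.mp (hle hs) zP (Set.mem_singleton _)
  exact this.symm

theorem slevels_m : slevels.map (fun L => L.m) = [64, 2, 4] := by decide +kernel

/-- an element of the subgroup commuting with the subgroup is the identity or the involution -/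
theorem Sp_center (s : Pm 100) (hs : s ∈ Sp) (hc : ∀ t ∈ Sp, t * s = s * t) : s = 1 ∨ s = zP := by
  obtain ⟨p, hp, hrep⟩ := chain_complete slevels sY sY_good schain_okK s hs
  -- the shape of the path
  have hm := slevels_m
  obtain ⟨k0, k1, k2, rfl, h0, h1, h2⟩ : ∃ k0 k1 k2, p = [k0, k1, k2] ∧ k0 < 64 ∧ k1 < 2 ∧ k2 < 4 := by
    unfold slevels at hp hm
    simp only [List.map_cons, List.map_nil, List.cons.injEq, and_true] at hm
    match p, hp with
    | [k0, k1, k2], hp =>
      simp only [pathValid, Bool.and_eq_true, decide_eq_true_eq] at hp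
      exact ⟨k0, k1, k2, rfl, by rw [← hm.1]; exact hp.1, by rw [← hm.2.1]; exact hp.2.1,
        by rw [← hm.2.2]; exact hp.2.2.1⟩
    | [], hp => simp [pathValid] at hp
    | [_], hp => simp [pathValid] at hp
    | [_, _], hp => simp [pathValid] at hp
    | _ :: _ :: _ :: _ :: _, hp => simp [pathValid] at hp
  have h := allN_spec (allN_spec (allN_spec centre_okK k0 h0) k1 h1) k2 h2
  rw [withList_eq] at h
  have hcomm : (sY.all fun y => allN 100 fun i =>
      Nat.beq (slot 7 y (compLook 7 (pathTabs 100 7 slevels [k0, k1, k2]) i))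
        (compLook 7 (pathTabs 100 7 slevels [k0, k1, k2]) (slot 7 y i))) = true := by
    rw [List.all_eq_true]
    intro y hy
    apply allN_of_forall'
    intro i hi
    rw [beq_iff]
    have e := hc (P 100 7 y) (P_mem_Grp hy)
    have e1 := rep_apply (rep_mul (rep_P (sY_good y hy)) hrep) hi
    have e2 := rep_apply (rep_mul hrep (rep_P (sY_good y hy))) hi
    rw [e] at e1
    exact e1.symm.trans e2
  rw [hcomm] at h
  simp only [Bool.not_true, Bool.false_or, Bool.or_eq_true] at h
  rcases h with h | h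
  · left
    exact eq_one_of_rep hrep (fun i hi => beq_iff.mp (allN_spec h i hi))
  · right
    exact eq_of_rep hrep (rep_P z_good) (fun i hi => beq_iff.mp (allN_spec h i hi))

theorem factorization_K : (Nat.card ↥K).factorization 2 = 9 := by
  rw [card_K, show 44352000 = 2 ^ 9 * 86625 by norm_num,
    Nat.factorization_mul (by norm_num) (by norm_num), Finsupp.add_apply,
    Nat.Prime.factorization_pow Nat.prime_two,
    Nat.factorization_eq_zero_of_not_dvd (by norm_num : ¬ 2 ∣ 86625)]
  simp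

theorem card_SpK : Nat.card (Sp.subgroupOf K) = 2 ^ (Nat.card ↥K).factorization 2 := by
  rw [factorization_K, Nat.card_congr (Subgroup.subgroupOfEquivOfLe Sp_le).toEquiv, card_Sp]
  norm_num

/-- an automorphism maps the involution to a conjugate -/
theorem aut_zK (φ : MulAut ↥K) : ∃ g : ↥K, φ zK = g * zK * g⁻¹ := by
  have : Fact (Nat.Prime 2) := ⟨Nat.prime_two⟩
  exact exists_conj_of_sylow_center 2 (Sp.subgroupOf K) card_SpK zK
    (by rw [Subgroup.mem_subgroupOf]; exact zP_mem_Sp)
    (by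
      intro s hs
      rw [Subgroup.mem_subgroupOf] at hs
      apply Subtype.ext
      exact zP_comm_Sp s.1 hs)
    (by
      intro s hs hc
      rw [Subgroup.mem_subgroupOf] at hs
      have := Sp_center s.1 hs (by
        intro t ht
        have := hc ⟨t, Sp_le ht⟩ (by rw [Subgroup.mem_subgroupOf]; exact ht)
        exact congrArg Subtype.val this)
      rcases this with h | h
      · left; exact Subtype.ext h
      · right; exact Subtype.ext h) φ

/-! ### The conjugates of the involution -/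

theorem cls_spec : cls 0 = zT ∧ ∀ j < 5775, slot 13 conjZ j < 5775 ∧ slot 13 conjU j < 5775 ∧
    ∀ i < 100, slot 7 zT (slot 7 (cls j) i) = slot 7 (cls (slot 13 conjZ j)) (slot 7 zT i) ∧
      slot 7 uT (slot 7 (cls j) i) = slot 7 (cls (slot 13 conjU j)) (slot 7 uT i) := by
  have h := cls_okK
  unfold clsB at h
  rw [Bool.and_eq_true, beq_iff] at h
  refine ⟨h.1, ?_⟩
  intro j hj
  have h2 := allN_spec h.2 j hj
  simp only [withNat_eq, Bool.and_eq_true, blt_iff] at h2
  refine ⟨h2.1.1, h2.1.2, ?_⟩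
  intro i hi
  have h3 := allN_spec h2.2 i hi
  rw [Bool.and_eq_true, beq_iff, beq_iff] at h3
  exact h3

/-- conjugation by the element maps the listed conjugates to listed conjugates -/
def ClsStable (g : Pm 100) : Prop :=
  ∀ j < 5775, ∀ x : Pm 100, Rep (slot 7 (cls j)) x → ∃ j' < 5775, Rep (slot 7 (cls j')) (g * x * g⁻¹)

theorem clsStable_zP : ClsStable zP := by
  intro j hj x hx
  obtain ⟨h1, _, h3⟩ := cls_spec.2 j hj
  exact ⟨_, h1, rep_conj (rep_P z_good) hx (fun i hi => (h3 i hi).1)⟩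

theorem clsStable_uP : ClsStable uP := by
  intro j hj x hx
  obtain ⟨_, h2, h3⟩ := cls_spec.2 j hj
  exact ⟨_, h2, rep_conj (rep_P u_good) hx (fun i hi => (h3 i hi).2)⟩

theorem clsStable_of_mem {g : Pm 100} (hg : g ∈ K) : ClsStable g := by
  have hg' : g ∈ Submonoid.closure {g : Pm 100 | ∃ y ∈ zu, g = P 100 7 y} := by
    rw [← Subgroup.closure_toSubmonoid_of_finite]
    exact hg
  clear hg
  induction hg' using Submonoid.closure_induction with
  | mem x hx =>
    obtain ⟨y, hy, rfl⟩ := hx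
    simp only [zu, List.mem_cons, List.not_mem_nil, or_false] at hy
    rcases hy with rfl | rfl
    · exact clsStable_zP
    · exact clsStable_uP
  | one =>
    intro j hj x hx
    refine ⟨j, hj, ?_⟩
    simpa using hx
  | mul a b _ _ iha ihb =>
    intro j hj x hx
    obtain ⟨j1, hj1, h1⟩ := ihb j hj x hx
    obtain ⟨j2, hj2, h2⟩ := iha j1 hj1 _ h1
    refine ⟨j2, hj2, ?_⟩
    have e : a * b * x * (a * b)⁻¹ = a * (b * x * b⁻¹) * a⁻¹ := by group
    rw [e]
    exact h2

theorem rep_cls_zero : Rep (slot 7 (cls 0)) zP := by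
  rw [cls_spec.1]
  exact rep_P z_good

/-- the conjugates of the involution are listed -/
theorem conj_zP {g : Pm 100} (hg : g ∈ K) : ∃ j < 5775, Rep (slot 7 (cls j)) (g * zP * g⁻¹) :=
  clsStable_of_mem hg 0 (by norm_num) zP rep_cls_zero

/-! ### Relations -/

/-- the word `d u^e₁ d u^e₂ ⋯` in a monoid -/
def relW {M : Type*} [Monoid M] (d u : M) : List ℕ → M
  | [] => 1
  | e :: w => d * u ^ e * relW d u w

theorem map_relW {M N : Type*} [Monoid M] [Monoid N] (f : M →* N) (d u : M) (w : List ℕ) :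
    f (relW d u w) = relW (f d) (f u) w := by
  induction w with
  | nil => simp [relW]
  | cons e w ih => simp [relW, ih]

theorem rep_relW {c : ℕ} {x : Pm 100} (hx : Rep (slot 7 c) x) :
    ∀ L : List ℕ, (L.all fun e => Nat.blt e 7) = true → Rep (relLook c L) (relW x uP L) := by
  intro L
  induction L with
  | nil =>
    intro _
    exact rep_one
  | cons e L ih =>
    intro h
    rw [List.all_cons, Bool.and_eq_true, blt_iff] at h
    show Rep _ (x * uP ^ e * relW x uP L)
    rw [mul_assoc]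
    exact rep_congr (rep_mul hx (rep_mul (rep_upow e h.1) (ih h.2))) (fun _ _ => rfl)

theorem rels_spec (L : List ℕ) (hL : L ∈ rels) : (L.all fun e => Nat.blt e 7) = true ∧
    ∀ i < 100, relLook zT L i = i := by
  have h := List.all_eq_true.mp rels_okK L hL
  rw [Bool.and_eq_true] at h
  exact ⟨h.1, fun i hi => beq_iff.mp (allN_spec h.2 i hi)⟩

theorem relW_zK (L : List ℕ) (hL : L ∈ rels) : relW zK uK L = 1 := by
  apply Subtype.ext
  have h1 := map_relW K.subtype zK uK L
  have h2 : relW (K.subtype zK) (K.subtype uK) L = 1 :=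
    eq_one_of_rep (rep_relW (rep_P z_good) L (rels_spec L hL).1) (rels_spec L hL).2
  rw [h2] at h1
  exact h1

open Classical in
/-- the element of the group with a given table -/
noncomputable def clsK (j : ℕ) : ↥K :=
  if h : ∃ x : ↥K, Rep (slot 7 (cls j)) x.1 then Classical.choose h else 1

theorem clsK_eq {j : ℕ} {x : ↥K} (hx : Rep (slot 7 (cls j)) x.1) : clsK j = x := by
  have hex : ∃ x : ↥K, Rep (slot 7 (cls j)) x.1 := ⟨x, hx⟩
  unfold clsK
  rw [dif_pos hex]
  exact Subtype.ext (rep_unique (Classical.choose_spec hex) hx)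

/-- the possible images of the involution under the automorphisms fixing the element of order seven -/
noncomputable def goodSet : Finset ↥K := good14.toFinset.image clsK

theorem card_goodSet : goodSet.card ≤ 2 * 7 := by
  calc goodSet.card ≤ good14.toFinset.card := Finset.card_image_le
    _ ≤ good14.length := List.toFinset_card_le _
    _ = 14 := rfl

theorem stab_uK (φ : MulAut ↥K) (hφ : φ uK = uK) : φ zK ∈ goodSet := by
  obtain ⟨g, hg⟩ := aut_zK φ
  obtain ⟨j, hj, hrep⟩ := conj_zP g.2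
  have hrep' : Rep (slot 7 (cls j)) (φ zK).1 := by
    rw [hg]
    exact hrep
  -- the relations
  have hrel : ∀ L ∈ rels, ∀ i < 100, relLook (cls j) L i = i := by
    intro L hL i hi
    have h1 : φ (relW zK uK L) = 1 := by rw [relW_zK L hL, map_one]
    have h0 : φ (relW zK uK L) = relW (φ zK) (φ uK) L := map_relW φ.toMonoidHom zK uK L
    rw [h0, hφ] at h1
    have h2 := map_relW K.subtype (φ zK) uK L
    rw [h1, map_one] at h2
    have h3 := rep_apply (rep_relW hrep' L (rels_spec L hL).1) hi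
    have h4 : relW (φ zK).1 uP L = 1 := h2.symm
    rw [h4] at h3
    exact h3.symm
  have hf := allN_spec filter_okK j hj
  rw [Bool.or_eq_true] at hf
  have hj14 : j ∈ good14 := by
    rcases hf with hf | hf
    · exact List.contains_iff_mem.mp hf
    · exfalso
      simp only [withNat_eq, withList_eq, Bool.and_eq_true, blt_iff, Bool.not_eq_true',
        ← Bool.not_eq_true, beq_iff] at hf
      obtain ⟨⟨hr, hi⟩, hne⟩ := hf
      apply hne
      apply hrel _ _ _ hi
      rw [List.getD_eq_getElem _ _ hr]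
      exact List.getElem_mem hr
  unfold goodSet
  rw [Finset.mem_image]
  exact ⟨j, List.mem_toFinset.mpr hj14, clsK_eq hrep'⟩

theorem card_mulAut_K : Nat.card (MulAut ↥K) ≤ 2 * Nat.card ↥K := by
  have : Fact (Nat.Prime 7) := ⟨by norm_num⟩
  exact card_mulAut_le_one 7 6336000 card_K' (by norm_num) zK uK nK closure_zK_uK orderOf_uK 3
    nK_conj residues_7 goodSet card_goodSet stab_uK

/-! ### The outer involution -/

theorem t_spec : Good 100 7 tT ∧ (∀ i < 100, slot 7 tT (slot 7 tT i) = i) ∧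
    pathValid levels tzPath = true ∧ pathValid levels tuPath = true ∧
    (∀ i < 100, slot 7 tT (slot 7 zT i) = pathLook 100 7 levels tzPath (slot 7 tT i)) ∧
    (∀ i < 100, slot 7 tT (slot 7 uT i) = pathLook 100 7 levels tuPath (slot 7 tT i)) ∧
    (∀ L ∈ levels, slot 7 tT L.b = L.b) ∧ slot 7 tT 2 ≠ 2 := by
  have h := t_okK
  unfold tB at h
  simp only [Bool.and_eq_true, withList_eq] at h
  obtain ⟨⟨⟨⟨⟨⟨⟨h1, h2⟩, h3⟩, h4⟩, h5⟩, h6⟩, h7⟩, h8⟩ := h
  refine ⟨good_of_goodB h1, fun i hi => beq_iff.mp (allN_spec h2 i hi), h3, h4,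
    fun i hi => beq_iff.mp (allN_spec h5 i hi), fun i hi => beq_iff.mp (allN_spec h6 i hi),
    fun L hL => beq_iff.mp (List.all_eq_true.mp h7 L hL), ?_⟩
  intro h0
  rw [Bool.not_eq_true', ← Bool.not_eq_true, beq_iff] at h8
  exact h8 h0

/-- the outer involution -/
noncomputable def tP : Pm 100 := P 100 7 tT

theorem tP_sq : tP * tP = 1 :=
  eq_one_of_rep (rep_mul (rep_P t_spec.1) (rep_P t_spec.1)) t_spec.2.1

theorem tP_inv : tP⁻¹ = tP := inv_eq_of_mul_eq_one_left tP_sq

theorem tP_zP : tP * zP * tP⁻¹ ∈ K := by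
  obtain ⟨g, hg, hrep⟩ := path_mem _ t_spec.2.2.1
  have h : tP * zP = g * tP :=
    eq_of_rep (rep_mul (rep_P t_spec.1) (rep_P z_good)) (rep_mul hrep (rep_P t_spec.1)) t_spec.2.2.2.2.1
  rw [h]
  have : g * tP * tP⁻¹ = g := by group
  rw [this]
  exact hg

theorem tP_uP : tP * uP * tP⁻¹ ∈ K := by
  obtain ⟨g, hg, hrep⟩ := path_mem _ t_spec.2.2.2.1
  have h : tP * uP = g * tP :=
    eq_of_rep (rep_mul (rep_P t_spec.1) (rep_P u_good)) (rep_mul hrep (rep_P t_spec.1)) t_spec.2.2.2.2.2.1
  rw [h]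
  have : g * tP * tP⁻¹ = g := by group
  rw [this]
  exact hg

theorem tP_conj_mem {g : Pm 100} (hg : g ∈ K) : tP * g * tP⁻¹ ∈ K := by
  unfold K Grp at hg
  induction hg using Subgroup.closure_induction with
  | mem x hx =>
    obtain ⟨y, hy, rfl⟩ := hx
    simp only [zu, List.mem_cons, List.not_mem_nil, or_false] at hy
    rcases hy with rfl | rfl
    · exact tP_zP
    · exact tP_uP
  | one => simp [K.one_mem]
  | mul x y _ _ hx hy =>
    have : tP * (x * y) * tP⁻¹ = (tP * x * tP⁻¹) * (tP * y * tP⁻¹) := by group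
    rw [this]
    exact K.mul_mem hx hy
  | inv x _ hx =>
    have : tP * x⁻¹ * tP⁻¹ = (tP * x * tP⁻¹)⁻¹ := by group
    rw [this]
    exact K.inv_mem hx

/-- conjugation by the outer involution -/
noncomputable def tauK : MulAut ↥K where
  toFun g := ⟨tP * g.1 * tP⁻¹, tP_conj_mem g.2⟩
  invFun g := ⟨tP * g.1 * tP⁻¹, tP_conj_mem g.2⟩
  left_inv g := by
    apply Subtype.ext
    show tP * (tP * g.1 * tP⁻¹) * tP⁻¹ = g.1
    rw [tP_inv]
    calc tP * (tP * g.1 * tP) * tP = (tP * tP) * g.1 * (tP * tP) := by group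
      _ = g.1 := by rw [tP_sq]; simp
  right_inv g := by
    apply Subtype.ext
    show tP * (tP * g.1 * tP⁻¹) * tP⁻¹ = g.1
    rw [tP_inv]
    calc tP * (tP * g.1 * tP) * tP = (tP * tP) * g.1 * (tP * tP) := by group
      _ = g.1 := by rw [tP_sq]; simp
  map_mul' g h := by
    apply Subtype.ext
    show tP * (g.1 * h.1) * tP⁻¹ = (tP * g.1 * tP⁻¹) * (tP * h.1 * tP⁻¹)
    group

theorem tP_not_mem : tP ∉ K := by
  intro h
  have h1 : tP = 1 := by
    apply eq_one_of_fix h
    intro L hL hb
    apply Fin.ext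
    show (P 100 7 tT ⟨L.b, hb⟩).1 = L.b
    rw [rep_P t_spec.1]
    exact t_spec.2.2.2.2.2.2.1 L hL
  have e := rep_apply (rep_P t_spec.1) (i := 2) (by norm_num)
  rw [show P 100 7 tT = tP from rfl, h1] at e
  exact t_spec.2.2.2.2.2.2.2 e.symm

theorem tauK_not_inner : tauK ∉ Cfsg.Inn ↥K := by
  rintro ⟨g₀, hg₀⟩
  apply tP_not_mem
  have hc : ∀ g ∈ K, (g₀.1⁻¹ * tP) * g = g * (g₀.1⁻¹ * tP) := by
    intro g hg
    have h1 : (MulAut.conj g₀) ⟨g, hg⟩ = tauK ⟨g, hg⟩ := by rw [hg₀]
    have h2 : g₀.1 * g * g₀.1⁻¹ = tP * g * tP⁻¹ := congrArg Subtype.val h1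
    calc g₀.1⁻¹ * tP * g = g₀.1⁻¹ * (tP * g * tP⁻¹) * tP := by group
      _ = g₀.1⁻¹ * (g₀.1 * g * g₀.1⁻¹) * tP := by rw [h2]
      _ = g * (g₀.1⁻¹ * tP) := by group
  have h3 := eq_one_of_commute hc
  have h4 : tP = g₀.1 := by
    calc tP = g₀.1 * (g₀.1⁻¹ * tP) := by group
      _ = g₀.1 := by rw [h3, mul_one]
  rw [h4]
  exact g₀.2

/-- the outer automorphism group of the group of order 44352000 on a hundred points has order two -/
theorem card_out_K : Nat.card (Cfsg.Out ↥K) = 2 :=
  card_out_eq_two center_K card_mulAut_K tauK tauK_not_inner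

end Cfsg.Agent.Helper22.HSK
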