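import Cfsg.Agent.Helper22.HSBridge
import Cfsg.Agent.Helper22.HSK2
import Cfsg.Prelude.Def_Spor_Conway

/-!
# The Higman–Sims group as the group of order 44352000 on a hundred points

The stabiliser of `(-5, -1^23)` and `(4, -4, 0^22)` in the group of the Leech lattice is conjugate to the stabiliser
of the standard pair, which acts faithfully on a graph on a hundred points; the order of the group of the
automorphisms of the graph is at most `2 * 44352000`, so the image is the group generated by the two permutations.
-/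

set_option autoImplicit false

namespace Cfsg.Agent.Helper22.HSIso

open Cfsg Cfsg.Agent.Helper27 Cfsg.Agent.Helper22.Co0Mono Cfsg.Agent.Helper22.Co0Center
  Cfsg.Agent.Helper22.Summands Cfsg.Agent.Helper22.QuadForm
  Cfsg.Agent.Helper22.HS100 Cfsg.Agent.Helper22.HS100b Cfsg.Agent.Helper22.HSSimple
  Cfsg.Agent.Helper22.GraphRefine Cfsg.Agent.Helper22.HSGraph Cfsg.Agent.Helper22.HSBridge
  Cfsg.Agent.Helper22.HSK Cfsg.Agent.Helper22.OutTwo

/-! ### The image of the stabiliser of the standard pair -/

theorem sqNorm_negD1 : sqNorm ((-D1 : ↥leechLattice) : GolayPt → ℤ) = 48 := by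
  show sqNorm (-(D1 : GolayPt → ℤ)) = 48
  rw [sqNorm_neg', sqNorm_D1]

theorem dot_D0_negD1 : dotInt (D0 : GolayPt → ℤ) ((-D1 : ↥leechLattice) : GolayPt → ℤ) = -32 := by
  show dotInt (D0 : GolayPt → ℤ) (-(D1 : GolayPt → ℤ)) = -32
  rw [dot_neg_right', dot_D0_D1]

theorem G0_simple : IsSimpleGroup ↥G0 := (HS_simple D0 (-D1) sqNorm_D0 sqNorm_negD1 dot_D0_negD1).1

theorem card_G0 : Nat.card ↥G0 = 44352000 := (HS_simple D0 (-D1) sqNorm_D0 sqNorm_negD1 dot_D0_negD1).2

/-- the stabiliser of the standard pair and its image -/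
noncomputable def rhoEquiv : ↥G0 ≃* ↥rho.range := MonoidHom.ofInjective rho_injective

theorem range_le : rho.range ≤ AutG 100 adjHS := by
  rintro _ ⟨g, rfl⟩
  exact rho_mem g

theorem card_range : Nat.card ↥rho.range = 44352000 := by
  rw [← card_G0]
  exact (Nat.card_congr rhoEquiv.toEquiv).symm

theorem range_simple : IsSimpleGroup ↥rho.range := by
  haveI := G0_simple
  exact rhoEquiv.symm.isSimpleGroup

theorem relIndex_K_AutG : K.relIndex (AutG 100 adjHS) ≠ 0 ∧ K.relIndex (AutG 100 adjHS) ≤ 2 := by
  have h1 : Nat.card ↥(K.subgroupOf (AutG 100 adjHS)) * K.relIndex (AutG 100 adjHS) =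
      Nat.card ↥(AutG 100 adjHS) := (K.subgroupOf (AutG 100 adjHS)).card_mul_index
  rw [Nat.card_congr (Subgroup.subgroupOfEquivOfLe K_le_AutG).toEquiv, card_K] at h1
  have h2 := HSGraph.card_AutG_le
  have h3 : 0 < Nat.card ↥(AutG 100 adjHS) := Nat.card_pos
  constructor
  · intro h0
    rw [h0] at h1
    omega
  · by_contra hc
    rw [not_le] at hc
    have : 44352000 * 3 ≤ 44352000 * K.relIndex (AutG 100 adjHS) := Nat.mul_le_mul_left _ hc
    omega

theorem range_le_K : rho.range ≤ K := by
  have h1 := relIndex_K_AutG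
  have h2 : K.relIndex rho.range ≤ 2 :=
    (Subgroup.relIndex_le_of_le_right range_le h1.1).trans h1.2
  have h0 : K.relIndex rho.range ≠ 0 := by
    intro h0
    exact h1.1 (Subgroup.relIndex_eq_zero_of_le_right range_le h0)
  haveI := range_simple
  have hn : (K.subgroupOf rho.range).Normal := by
    have hidx : (K.subgroupOf rho.range).index = K.relIndex rho.range := rfl
    rcases Nat.lt_or_ge (K.relIndex rho.range) 2 with hlt | hge
    · have h1' : (K.subgroupOf rho.range).index = 1 := by omega
      rw [Subgroup.index_eq_one] at h1'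
      rw [h1']
      infer_instance
    · exact Subgroup.normal_of_index_eq_two (by omega)
  rcases hn.eq_bot_or_eq_top with hb | ht
  · exfalso
    have h3 : (K.subgroupOf rho.range).index = Nat.card ↥rho.range := by
      rw [hb, Subgroup.index_bot]
    have h4 : (K.subgroupOf rho.range).index = K.relIndex rho.range := rfl
    rw [card_range] at h3
    omega
  · exact Subgroup.subgroupOf_eq_top.mp ht

theorem range_eq_K : rho.range = K := by
  apply Subgroup.eq_of_le_of_card_ge range_le_K
  rw [card_range, card_K]

/-- the stabiliser of the standard pair is the group on a hundred points -/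
noncomputable def equivK : ↥G0 ≃* ↥K := rhoEquiv.trans (MulEquiv.subgroupCongr range_eq_K)

theorem card_out_G0 : Nat.card (Cfsg.Out ↥G0) = 2 := by
  rw [card_out_congr' equivK]
  exact card_out_K

end Cfsg.Agent.Helper22.HSIso
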