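import Cfsg.Agent.Helper22.McL2025b

/-!
# The 275 minimal vectors attached to a vector of sum of squares 48 and one of its summands
-/

set_option autoImplicit false

namespace Cfsg.Agent.Helper22.McL275

open Cfsg Cfsg.Agent.Helper27 Cfsg.Agent.Helper22.Co0Mono Cfsg.Agent.Helper22.CrossStab
  Cfsg.Agent.Helper22.Co0Center Cfsg.Agent.Helper22.MinTrans Cfsg.Agent.Helper22.Norm6Trans
  Cfsg.Agent.Helper22.Co0Order Cfsg.Agent.Helper22.Summands Cfsg.Agent.Helper22.Census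
  Cfsg.Agent.Helper22.QuadForm Cfsg.Agent.Helper22.LeechMod2 Cfsg.Agent.Helper22.Co3Orbit
  Cfsg.Agent.Helper22.GolayComb Cfsg.Agent.Helper22.Design Cfsg.Agent.Helper22.HS100
  Cfsg.Agent.Helper22.HS100b Cfsg.Agent.Helper22.McL2025 Cfsg.Agent.Helper22.McL2025b
  Cfsg.Agent.Helper22.Flag Cfsg.Agent.Helper22.Co2Trans Cfsg.Agent.Helper22.Co2Trans2
open scoped Pointwise

/-- the points -/
def Y (u v : ↥leechLattice) : Set ↥leechLattice :=
  {x | sqNorm (x : GolayPt → ℤ) = 32 ∧ sqNorm ((u - x : ↥leechLattice) : GolayPt → ℤ) = 32 ∧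
    dotInt (v : GolayPt → ℤ) (x : GolayPt → ℤ) = 16}

theorem smul_mem_Y (g : ↥Co0) {u v x : ↥leechLattice} (hx : x ∈ Y u v) : g • x ∈ Y (g • u) (g • v) :=
  ⟨by rw [co0_norm, hx.1], by rw [← co0_sub, co0_norm, hx.2.1], by rw [co0_dot, hx.2.2]⟩

theorem ncard_Y_smul (g : ↥Co0) (u v : ↥leechLattice) : (Y (g • u) (g • v)).ncard = (Y u v).ncard := by
  have himg : (fun x : ↥leechLattice => g • x) '' Y u v = Y (g • u) (g • v) := by
    ext y
    constructor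
    · rintro ⟨x, hx, rfl⟩
      exact smul_mem_Y g hx
    · intro hy
      refine ⟨g⁻¹ • y, ?_, smul_inv_smul g y⟩
      have := smul_mem_Y g⁻¹ hy
      rwa [inv_smul_smul, inv_smul_smul] at this
  rw [← himg]
  exact Set.ncard_image_of_injective _ (MulAction.injective g)

/-- move a vector of sum of squares 48 and a summand to the standard pair -/
theorem to_std (u v : ↥leechLattice) (hu : sqNorm (u : GolayPt → ℤ) = 48) (hv : sqNorm (v : GolayPt → ℤ) = 32)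
    (huv : sqNorm ((u - v : ↥leechLattice) : GolayPt → ℤ) = 32) : ∃ g : ↥Co0, g • u = D0 ∧ g • v = a01 := by
  have h1 : sqNorm ((u : GolayPt → ℤ) - (v : GolayPt → ℤ)) = 32 := huv
  rw [Summands.sqNorm_sub, hu, hv] at h1
  have huv' : dotInt (u : GolayPt → ℤ) (v : GolayPt → ℤ) = 24 := by omega
  have hvw : dotInt (v : GolayPt → ℤ) ((u - v : ↥leechLattice) : GolayPt → ℤ) = -8 := by
    show dotInt (v : GolayPt → ℤ) ((u : GolayPt → ℤ) - (v : GolayPt → ℤ)) = -8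
    rw [dot_sub_right, dot_self, hv, dot_comm', huv']
    norm_num
  obtain ⟨ha, hb, hab, -⟩ := (mem_TM a01 (D0 - a01) d01).mp t1_mem
  obtain ⟨g1, hg1⟩ := min_transitive v a01 hv ha
  have h2 : dotInt (a01 : GolayPt → ℤ) ((g1 • (u - v) : ↥leechLattice) : GolayPt → ℤ) = -8 := by
    rw [← hg1, co0_dot, hvw]
  obtain ⟨g2, hg2, hg2'⟩ := ip8_transitive a01 (g1 • (u - v)) (D0 - a01) ha (by rw [co0_norm, huv]) hb h2 hab
  have e1 : (g2 * g1) • v = a01 := by rw [mul_smul, hg1, hg2]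
  have e2 : (g2 * g1) • (u - v) = D0 - a01 := by rw [mul_smul, hg2']
  refine ⟨g2 * g1, ?_, e1⟩
  have : u = v + (u - v) := by abel
  rw [this, co0_add, e1, e2]
  abel

/-! ### The standard set -/

/-- the standard set in the ambient space -/
def Y0 : Set (GolayPt → ℤ) := {y | y ∈ Sm ∧ y (pt 0) + y (pt 1) = 4}

theorem mem_Y_std (y : ↥leechLattice) : y ∈ Y D0 a01 ↔ (y : GolayPt → ℤ) ∈ Y0 := by
  unfold Y Y0 Sm
  simp only [Set.mem_ofPred_eq]
  rw [dot_a01]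
  have e : ((D0 - y : ↥leechLattice) : GolayPt → ℤ) = d0 - (y : GolayPt → ℤ) := rfl
  rw [e]
  constructor
  · rintro ⟨h1, h2, h3⟩
    exact ⟨⟨y.2, h1, h2⟩, by omega⟩
  · rintro ⟨⟨_, h1, h2⟩, h3⟩
    exact ⟨h1, h2, by omega⟩

/-- the three families -/
def FA : Set (GolayPt → ℤ) := fA '' {j | j ≠ pt 0 ∧ j ≠ pt 1}

def FBs : Set (GolayPt → ℤ) := fB '' {O | O ∈ octads ∧ pt 0 ∈ O ∧ pt 1 ∈ O}

def FD : Set (GolayPt → ℤ) := (fun O => d0 - fB O) '' {O | O ∈ octads ∧ pt 0 ∈ O ∧ pt 1 ∉ O}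

theorem FA_vals {y : GolayPt → ℤ} (hy : y ∈ FA) : y (pt 0) = 4 ∧ y (pt 1) = 0 := by
  obtain ⟨j, ⟨hj0, hj1⟩, rfl⟩ := hy
  rw [fA_zero hj0, fA_one, if_neg hj1]
  exact ⟨rfl, rfl⟩

theorem FBs_vals {y : GolayPt → ℤ} (hy : y ∈ FBs) : y (pt 0) = 2 ∧ y (pt 1) = 2 := by
  obtain ⟨O, ⟨-, h0, h1⟩, rfl⟩ := hy
  unfold fB
  rw [if_pos h0, if_pos h1]
  exact ⟨rfl, rfl⟩

theorem FD_vals {y : GolayPt → ℤ} (hy : y ∈ FD) : y (pt 0) = 3 ∧ y (pt 1) = 1 := by
  obtain ⟨O, ⟨-, h0, h1⟩, rfl⟩ := hy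
  show d0 (pt 0) - fB O (pt 0) = 3 ∧ d0 (pt 1) - fB O (pt 1) = 1
  unfold fB
  rw [if_pos h0, if_neg h1, d0_zero, d0_one]
  exact ⟨by norm_num, by norm_num⟩

theorem mem_Y0_iff (y : GolayPt → ℤ) : y ∈ Y0 ↔ y ∈ FA ∨ y ∈ FBs ∨ y ∈ FD := by
  classical
  constructor
  · rintro ⟨hy, h01⟩
    have hpar : y (pt 0) % 2 = 0 ∨ y (pt 0) % 2 = 1 := by omega
    rcases hpar with hp | hp
    · rcases even_Sm hy hp with ⟨j, hj, rfl⟩ | ⟨O, hO, h0, rfl⟩
      · left
        refine ⟨j, ⟨hj, ?_⟩, rfl⟩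
        intro h
        rw [fA_zero hj, fA_one, if_pos h] at h01
        norm_num at h01
      · right; left
        refine ⟨O, ⟨hO, h0, ?_⟩, rfl⟩
        by_contra hc
        unfold fB at h01
        rw [if_pos h0, if_neg hc] at h01
        norm_num at h01
    · have hy' := sub_mem_Sm hy
      have hp' : (d0 - y) (pt 0) % 2 = 0 := by
        show (d0 (pt 0) - y (pt 0)) % 2 = 0
        rw [d0_zero]
        omega
      rcases even_Sm hy' hp' with ⟨j, hj, hj'⟩ | ⟨O, hO, h0, hO'⟩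
      · exfalso
        have ey : y = d0 - fA j := by rw [← hj']; abel
        rw [ey] at h01
        have : d0 (pt 0) - fA j (pt 0) + (d0 (pt 1) - fA j (pt 1)) = 4 := h01
        rw [fA_zero hj, fA_one, d0_zero, d0_one] at this
        split_ifs at this <;> norm_num at this
      · right; right
        have ey : y = d0 - fB O := by rw [← hO']; abel
        refine ⟨O, ⟨hO, h0, ?_⟩, ey.symm⟩
        intro h1
        rw [ey] at h01
        have : d0 (pt 0) - fB O (pt 0) + (d0 (pt 1) - fB O (pt 1)) = 4 := h01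
        unfold fB at this
        rw [if_pos h0, if_pos h1, d0_zero, d0_one] at this
        norm_num at this
  · rintro (h | h | h)
    · obtain ⟨h0, h1⟩ := FA_vals h
      obtain ⟨j, ⟨hj0, hj1⟩, rfl⟩ := h
      exact ⟨fA_mem_Sm hj0, by rw [h0, h1]; norm_num⟩
    · obtain ⟨h0, h1⟩ := FBs_vals h
      obtain ⟨O, ⟨hO, hO0, hO1⟩, rfl⟩ := h
      exact ⟨fB_mem_Sm hO hO0, by rw [h0, h1]; norm_num⟩
    · obtain ⟨h0, h1⟩ := FD_vals h
      obtain ⟨O, ⟨hO, hO0, hO1⟩, rfl⟩ := h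
      exact ⟨sub_mem_Sm (fB_mem_Sm hO hO0), by rw [h0, h1]; norm_num⟩

theorem ncard_FA : FA.ncard = 22 := by
  classical
  unfold FA
  rw [Set.ncard_image_of_injective _ fA_injective]
  have : {j : GolayPt | j ≠ pt 0 ∧ j ≠ pt 1} = ↑((Finset.univ.erase (pt 0)).erase (pt 1)) := by
    ext j
    simp only [Set.mem_ofPred_eq, Finset.coe_erase, Set.mem_sdiff, Finset.mem_coe, Finset.mem_univ,
      Set.mem_singleton_iff, true_and]
  rw [this, Set.ncard_coe_finset, Finset.card_erase_of_mem, Finset.card_erase_of_mem (Finset.mem_univ _),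
    Finset.card_univ, GolayComb.card_golayPt]
  rw [Finset.mem_erase]
  exact ⟨by decide, Finset.mem_univ _⟩

theorem ncard_FBs : FBs.ncard = 77 := by
  classical
  unfold FBs
  rw [Set.ncard_image_of_injective _ fB_injective]
  have hA : {O : Finset GolayPt | O ∈ octads ∧ pt 0 ∈ O ∧ pt 1 ∈ O} = ↑(octThrough {pt 0, pt 1}) := by
    ext O
    rw [Finset.mem_coe, mem_octThrough, Finset.insert_subset_iff, Finset.singleton_subset_iff]
    rfl
  rw [hA, Set.ncard_coe_finset]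
  exact lam2_5824 GolayComb.card_golayPt octads_steiner {pt 0, pt 1} (Finset.card_pair (by decide))

theorem ncard_FD : FD.ncard = 176 := by
  unfold FD
  rw [Set.ncard_image_of_injective]
  · exact OctM22.count_fam (p := pt 0) (q := pt 1) (by decide)
  · intro O O' h
    apply fB_injective
    have : d0 - fB O = d0 - fB O' := h
    exact sub_right_injective this

theorem ncard_Y0 : Y0.ncard = 275 := by
  have hset : Y0 = FA ∪ (FBs ∪ FD) := by
    ext y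
    rw [mem_Y0_iff, Set.mem_union, Set.mem_union]
  have fA' : FA.Finite := Set.finite_of_ncard_ne_zero (by rw [ncard_FA]; norm_num)
  have fB' : FBs.Finite := Set.finite_of_ncard_ne_zero (by rw [ncard_FBs]; norm_num)
  have fD' : FD.Finite := Set.finite_of_ncard_ne_zero (by rw [ncard_FD]; norm_num)
  rw [hset, Set.ncard_union_eq ?_ fA' (fB'.union fD'), Set.ncard_union_eq ?_ fB' fD', ncard_FA, ncard_FBs, ncard_FD]
  · rw [Set.disjoint_left]
    intro y h1 h2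
    have := (FBs_vals h1).1
    rw [(FD_vals h2).1] at this
    norm_num at this
  · rw [Set.disjoint_left]
    intro y h1 h2
    have h4 := (FA_vals h1).1
    rcases h2 with h2 | h2
    · rw [(FBs_vals h2).1] at h4
      norm_num at h4
    · rw [(FD_vals h2).1] at h4
      norm_num at h4

theorem ncard_Y_std : (Y D0 a01).ncard = 275 := by
  rw [← ncard_Y0, ← Set.ncard_image_of_injective _ Subtype.val_injective]
  congr 1
  ext y
  constructor
  · rintro ⟨x, hx, rfl⟩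
    exact (mem_Y_std x).mp hx
  · intro hy
    exact ⟨⟨y, hy.1.1⟩, (mem_Y_std ⟨y, hy.1.1⟩).mpr hy, rfl⟩

/-- the number of points -/
theorem ncard_Y (u v : ↥leechLattice) (hu : sqNorm (u : GolayPt → ℤ) = 48) (hv : sqNorm (v : GolayPt → ℤ) = 32)
    (huv : sqNorm ((u - v : ↥leechLattice) : GolayPt → ℤ) = 32) : (Y u v).ncard = 275 := by
  obtain ⟨g, hg1, hg2⟩ := to_std u v hu hv huv
  rw [← ncard_Y_smul g u v, hg1, hg2, ncard_Y_std]

/-! ### Transitivity -/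

/-- equivalence under the stabiliser of the standard pair -/
def Rel (y y' : ↥leechLattice) : Prop := ∃ g : ↥Co0, g • D0 = D0 ∧ g • a01 = a01 ∧ g • y = y'

theorem Rel.symm {y y' : ↥leechLattice} (h : Rel y y') : Rel y' y := by
  obtain ⟨g, h1, h2, h3⟩ := h
  refine ⟨g⁻¹, ?_, ?_, ?_⟩
  · rw [inv_smul_eq_iff, h1]
  · rw [inv_smul_eq_iff, h2]
  · rw [inv_smul_eq_iff, h3]

theorem Rel.trans {y y' y'' : ↥leechLattice} (h : Rel y y') (h' : Rel y' y'') : Rel y y'' := by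
  obtain ⟨g, h1, h2, h3⟩ := h
  obtain ⟨g', h1', h2', h3'⟩ := h'
  exact ⟨g' * g, by rw [mul_smul, h1, h1'], by rw [mul_smul, h2, h2'], by rw [mul_smul, h3, h3']⟩

theorem rel_of_perm {σ : Equiv.Perm GolayPt} (hσ : σ ∈ M24) (h0 : σ (pt 0) = pt 0) (h1 : σ (pt 1) = pt 1)
    {y y' : ↥leechLattice} (h : signedPerm σ ∅ (y : GolayPt → ℤ) = (y' : GolayPt → ℤ)) : Rel y y' := by
  obtain ⟨e1, -, e3⟩ := (smul_t0_iff _).mp (piCo_fix hσ h0 h1)
  refine ⟨piCo σ hσ, e1, e3, ?_⟩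
  apply Subtype.ext
  rw [piCo_smul]
  exact h

theorem rel_FA {y y' : ↥leechLattice} (hy : (y : GolayPt → ℤ) ∈ FA) (hy' : (y' : GolayPt → ℤ) ∈ FA) : Rel y y' := by
  obtain ⟨j, ⟨hj0, hj1⟩, ej⟩ := hy
  obtain ⟨j', ⟨hj0', hj1'⟩, ej'⟩ := hy'
  obtain ⟨σ, hσ, h0, h1, hσj⟩ := exists_move_point hj0 hj1 hj0' hj1'
  apply rel_of_perm hσ h0 h1
  rw [← ej, ← ej', sp_fA h0, hσj]

theorem rel_FBs {y y' : ↥leechLattice} (hy : (y : GolayPt → ℤ) ∈ FBs) (hy' : (y' : GolayPt → ℤ) ∈ FBs) :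
    Rel y y' := by
  obtain ⟨O, ⟨hO, hO0, hO1⟩, eO⟩ := hy
  obtain ⟨O', ⟨hO', hO0', hO1'⟩, eO'⟩ := hy'
  have m : O ∈ octThrough {pt 0, pt 1} := by
    rw [mem_octThrough, Finset.insert_subset_iff, Finset.singleton_subset_iff]
    exact ⟨hO, hO0, hO1⟩
  have m' : O' ∈ octThrough {pt 0, pt 1} := by
    rw [mem_octThrough, Finset.insert_subset_iff, Finset.singleton_subset_iff]
    exact ⟨hO', hO0', hO1'⟩
  obtain ⟨σ, hσ, h0, h1, hσO⟩ := exists_move_octad m m'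
  apply rel_of_perm hσ h0 h1
  rw [← eO, ← eO', sp_fB, hσO]

theorem rel_FD {y y' : ↥leechLattice} (hy : (y : GolayPt → ℤ) ∈ FD) (hy' : (y' : GolayPt → ℤ) ∈ FD) : Rel y y' := by
  obtain ⟨O, hO, eO⟩ := hy
  obtain ⟨O', hO', eO'⟩ := hy'
  obtain ⟨σ, hσ, h0, h1, hσO⟩ := OctM22.trans_fam (p := pt 0) (q := pt 1) (by decide) hO hO'
  apply rel_of_perm hσ h0 h1
  rw [← eO, ← eO']
  have : signedPerm σ ∅ (d0 - fB O) = signedPerm σ ∅ d0 - signedPerm σ ∅ (fB O) := by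
    funext i
    simp only [sp_apply, Pi.sub_apply]
  show signedPerm σ ∅ (d0 - fB O) = d0 - fB O'
  rw [this, sp_d0 h0, sp_fB, hσO]

theorem dot_d01 (y : GolayPt → ℤ) : dotInt (d01 : GolayPt → ℤ) y = 4 * y (pt 0) - 4 * y (pt 1) := dot_B y

/-- the two vectors of the first family used for the fusion -/
def yA7 : ↥leechLattice := ⟨fA (pt 7), (fA_mem_Sm (by decide)).1⟩

def yA2 : ↥leechLattice := ⟨fA (pt 2), (fA_mem_Sm (by decide)).1⟩

theorem yA7_mem : (yA7 : GolayPt → ℤ) ∈ FA := ⟨pt 7, ⟨by decide, by decide⟩, rfl⟩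

theorem yA2_mem : (yA2 : GolayPt → ℤ) ∈ FA := ⟨pt 2, ⟨by decide, by decide⟩, rfl⟩

theorem dot_y1_yA7 : dotInt (y1 : GolayPt → ℤ) (yA7 : GolayPt → ℤ) = 0 := by
  show dotInt (fB O1) (fA (pt 7)) = 0
  decide +kernel

theorem dot_y1_yA2 : dotInt (y1 : GolayPt → ℤ) (yA2 : GolayPt → ℤ) = 8 := by
  show dotInt (fB O1) (fA (pt 2)) = 8
  decide +kernel

theorem Y_std_rel (y : ↥leechLattice) (hy : y ∈ Y D0 a01) : Rel y yA7 := by
  obtain ⟨ha, hb, hab, hd⟩ := (mem_TM a01 (D0 - a01) d01).mp t1_mem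
  obtain ⟨g1, e1, e2, e3⟩ := X_transitive a01 (D0 - a01) ha hb hab y1_mem hd
  have e0 : g1 • D0 = D0 := by
    have : D0 = a01 + (D0 - a01) := by abel
    rw [this, co0_add, e1, e2]
  have hmove : ∀ z : ↥leechLattice, (z : GolayPt → ℤ) ∈ FA → (g1 • z : ↥leechLattice) ∈ Y D0 a01 ∧
      dotInt (d01 : GolayPt → ℤ) ((g1 • z : ↥leechLattice) : GolayPt → ℤ) =
        dotInt (y1 : GolayPt → ℤ) (z : GolayPt → ℤ) ∧ Rel z (g1 • z) := by
    intro z hz
    refine ⟨?_, ?_, ⟨g1, e0, e1, rfl⟩⟩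
    · have hzY : z ∈ Y D0 a01 := (mem_Y_std z).mpr ((mem_Y0_iff _).mpr (Or.inl hz))
      have := smul_mem_Y g1 hzY
      rwa [e0, e1] at this
    · rw [← e3, co0_dot]
  rcases (mem_Y0_iff _).mp ((mem_Y_std y).mp hy) with h | h | h
  · exact rel_FA h yA7_mem
  · obtain ⟨m1, m2, m3⟩ := hmove yA7 yA7_mem
    rw [dot_y1_yA7, dot_d01] at m2
    have hB : ((g1 • yA7 : ↥leechLattice) : GolayPt → ℤ) ∈ FBs := by
      rcases (mem_Y0_iff _).mp ((mem_Y_std _).mp m1) with h' | h' | h'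
      · obtain ⟨v0, v1⟩ := FA_vals h'
        rw [v0, v1] at m2
        norm_num at m2
      · exact h'
      · obtain ⟨v0, v1⟩ := FD_vals h'
        rw [v0, v1] at m2
        norm_num at m2
    exact (rel_FBs h hB).trans m3.symm
  · obtain ⟨m1, m2, m3⟩ := hmove yA2 yA2_mem
    rw [dot_y1_yA2, dot_d01] at m2
    have hD : ((g1 • yA2 : ↥leechLattice) : GolayPt → ℤ) ∈ FD := by
      rcases (mem_Y0_iff _).mp ((mem_Y_std _).mp m1) with h' | h' | h'
      · obtain ⟨v0, v1⟩ := FA_vals h'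
        rw [v0, v1] at m2
        norm_num at m2
      · obtain ⟨v0, v1⟩ := FBs_vals h'
        rw [v0, v1] at m2
        norm_num at m2
      · exact h'
    exact ((rel_FD h hD).trans m3.symm).trans (rel_FA yA2_mem yA7_mem)

/-- the stabiliser of `u` and `v` is transitive on the points -/
theorem Y_transitive (u v : ↥leechLattice) (hu : sqNorm (u : GolayPt → ℤ) = 48) (hv : sqNorm (v : GolayPt → ℤ) = 32)
    (huv : sqNorm ((u - v : ↥leechLattice) : GolayPt → ℤ) = 32) {x x' : ↥leechLattice} (hx : x ∈ Y u v)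
    (hx' : x' ∈ Y u v) : ∃ g : ↥Co0, g • u = u ∧ g • v = v ∧ g • x = x' := by
  obtain ⟨g0, hg1, hg2⟩ := to_std u v hu hv huv
  have m : g0 • x ∈ Y D0 a01 := by
    have := smul_mem_Y g0 hx
    rwa [hg1, hg2] at this
  have m' : g0 • x' ∈ Y D0 a01 := by
    have := smul_mem_Y g0 hx'
    rwa [hg1, hg2] at this
  obtain ⟨h, f1, f2, f3⟩ := (Y_std_rel _ m).trans (Y_std_rel _ m').symm
  refine ⟨g0⁻¹ * h * g0, ?_, ?_, ?_⟩
  · rw [mul_smul, mul_smul, hg1, f1, ← hg1, inv_smul_smul]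
  · rw [mul_smul, mul_smul, hg2, f2, ← hg2, inv_smul_smul]
  · rw [mul_smul, mul_smul, f3, inv_smul_smul]

end Cfsg.Agent.Helper22.McL275
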