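import Cfsg.Agent.Helper22.HS352Defs
import Cfsg.Agent.Helper22.McL275
import Cfsg.Agent.Helper22.HSIso

/-!
# The 352 minimal vectors attached to two vectors of sum of squares 48 of inner product `-32`

For `v`, `w` of sum of squares 48 with `v · w = -32`, the minimal vectors `x` with `v · x = 16` and
`w · x = -24` number 352; the stabiliser of `v` and `w` is transitive on them.
-/

set_option autoImplicit false

namespace Cfsg.Agent.Helper22.HS352

open Cfsg Cfsg.Agent.Helper27 Cfsg.Agent.Helper22.Co0Mono Cfsg.Agent.Helper22.CrossStab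
  Cfsg.Agent.Helper22.Co0Center Cfsg.Agent.Helper22.MinTrans Cfsg.Agent.Helper22.Norm6Trans
  Cfsg.Agent.Helper22.Co0Order Cfsg.Agent.Helper22.Summands Cfsg.Agent.Helper22.Census
  Cfsg.Agent.Helper22.QuadForm Cfsg.Agent.Helper22.LeechMod2 Cfsg.Agent.Helper22.Co3Orbit
  Cfsg.Agent.Helper22.GolayComb Cfsg.Agent.Helper22.Design Cfsg.Agent.Helper22.HS100
  Cfsg.Agent.Helper22.HS100b Cfsg.Agent.Helper22.McL2025 Cfsg.Agent.Helper22.McL2025b
  Cfsg.Agent.Helper22.Flag Cfsg.Agent.Helper22.McL275 Cfsg.Agent.Helper22.HSSimple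
  Cfsg.Agent.Helper22.HSBridge Cfsg.Agent.Helper22.HSK
open Cfsg.Agent.Helper22.PermPack (allN allN_spec)
open scoped Pointwise

/-- the vectors -/
def Z (v w : ↥leechLattice) : Set ↥leechLattice :=
  {x | sqNorm (x : GolayPt → ℤ) = 32 ∧ dotInt (v : GolayPt → ℤ) (x : GolayPt → ℤ) = 16 ∧
    dotInt (w : GolayPt → ℤ) (x : GolayPt → ℤ) = -24}

theorem smul_mem_Z (g : ↥Co0) {v w x : ↥leechLattice} (hx : x ∈ Z v w) : g • x ∈ Z (g • v) (g • w) :=
  ⟨by rw [co0_norm, hx.1], by rw [co0_dot, hx.2.1], by rw [co0_dot, hx.2.2]⟩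

theorem smul_mem_Z_iff (g : ↥Co0) (v w x : ↥leechLattice) : g • x ∈ Z (g • v) (g • w) ↔ x ∈ Z v w := by
  constructor
  · intro h
    have := smul_mem_Z g⁻¹ h
    rwa [inv_smul_smul, inv_smul_smul, inv_smul_smul] at this
  · exact smul_mem_Z g

theorem ncard_Z_smul (g : ↥Co0) (v w : ↥leechLattice) : (Z (g • v) (g • w)).ncard = (Z v w).ncard := by
  have : Z (g • v) (g • w) = (fun x => g • x) '' Z v w := by
    ext y
    constructor
    · intro hy
      refine ⟨g⁻¹ • y, ?_, smul_inv_smul g y⟩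
      rw [← smul_mem_Z_iff g, smul_inv_smul]
      exact hy
    · rintro ⟨x, hx, rfl⟩
      exact smul_mem_Z g hx
  rw [this]
  exact Set.ncard_image_of_injective _ (MulAction.injective g)

/-- every pair is equivalent to the second standard pair -/
theorem to_std' (v w : ↥leechLattice) (hv : sqNorm (v : GolayPt → ℤ) = 48) (hw : sqNorm (w : GolayPt → ℤ) = 48)
    (hvw : dotInt (v : GolayPt → ℤ) (w : GolayPt → ℤ) = -32) : ∃ g : ↥Co0, g • v = D1 ∧ g • w = -D0 := by
  have h1 : sqNorm ((-w : ↥leechLattice) : GolayPt → ℤ) = 48 := by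
    show sqNorm (-(w : GolayPt → ℤ)) = 48
    rw [sqNorm_neg', hw]
  have h2 : sqNorm ((-v : ↥leechLattice) : GolayPt → ℤ) = 48 := by
    show sqNorm (-(v : GolayPt → ℤ)) = 48
    rw [sqNorm_neg', hv]
  have h3 : dotInt ((-w : ↥leechLattice) : GolayPt → ℤ) ((-v : ↥leechLattice) : GolayPt → ℤ) = -32 := by
    show dotInt (-(w : GolayPt → ℤ)) (-(v : GolayPt → ℤ)) = -32
    rw [dot_neg_left, dot_neg_right', neg_neg, dot_comm', hvw]
  obtain ⟨g, e1, e2⟩ := to_std (-w) (-v) h1 h2 h3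
  refine ⟨g, ?_, ?_⟩
  · rw [co0_neg, neg_inj] at e2
    exact e2
  · rw [co0_neg] at e1
    rw [← e1, neg_neg]

/-! ### The standard set -/

/-- the standard set in the ambient space -/
def Z0 : Set (GolayPt → ℤ) := {y | y ∈ Sm ∧ y (pt 0) = y (pt 1) + 2}

theorem mem_Z_std (y : ↥leechLattice) : y ∈ Z D1 (-D0) ↔ (y : GolayPt → ℤ) ∈ Z0 := by
  unfold Z Z0
  simp only [Set.mem_ofPred_eq, mem_Sm_iff]
  have e1 : ((-D0 : ↥leechLattice) : GolayPt → ℤ) = -(D0 : GolayPt → ℤ) := rfl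
  have e2 : (D0 : GolayPt → ℤ) = d0 := rfl
  rw [e1, dot_neg_left, dot_D1, e2, dot_d0]
  constructor
  · rintro ⟨h1, h2, h3⟩
    exact ⟨⟨y.2, h1, by linarith⟩, by linarith⟩
  · rintro ⟨⟨_, h1, h2⟩, h3⟩
    exact ⟨h1, by linarith, by linarith⟩

/-- the octads through the first point and not through the second -/
def OD : Set (Finset GolayPt) := {O | O ∈ octads ∧ pt 0 ∈ O ∧ pt 1 ∉ O}

/-- the first family -/
def FE : Set (GolayPt → ℤ) := fB '' OD

theorem FD_eq : FD = (fun O => d0 - fB O) '' OD := rfl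

theorem FE_vals {y : GolayPt → ℤ} (hy : y ∈ FE) : y (pt 0) = 2 ∧ y (pt 1) = 0 := by
  obtain ⟨O, ⟨-, h0, h1⟩, rfl⟩ := hy
  unfold fB
  rw [if_pos h0, if_neg h1]
  exact ⟨rfl, rfl⟩

theorem mem_Z0_iff (y : GolayPt → ℤ) : y ∈ Z0 ↔ y ∈ FE ∨ y ∈ FD := by
  classical
  constructor
  · rintro ⟨hy, h01⟩
    have hpar : y (pt 0) % 2 = 0 ∨ y (pt 0) % 2 = 1 := by omega
    rcases hpar with hp | hp
    · rcases even_Sm hy hp with ⟨j, hj, rfl⟩ | ⟨O, hO, h0, rfl⟩
      · exfalso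
        rw [fA_zero hj, fA_one] at h01
        split_ifs at h01 <;> norm_num at h01
      · left
        refine ⟨O, ⟨hO, h0, ?_⟩, rfl⟩
        intro hc
        unfold fB at h01
        rw [if_pos h0, if_pos hc] at h01
        norm_num at h01
    · have hy' := sub_mem_Sm hy
      have hp' : (d0 - y) (pt 0) % 2 = 0 := by
        show (d0 (pt 0) - y (pt 0)) % 2 = 0
        rw [d0_zero]
        omega
      rcases even_Sm hy' hp' with ⟨j, hj, hj'⟩ | ⟨O, hO, h0, hO'⟩
      · exfalso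
        have ey : y = d0 - fA j := by rw [← hj']; abel
        rw [ey] at h01
        have : d0 (pt 0) - fA j (pt 0) = d0 (pt 1) - fA j (pt 1) + 2 := h01
        rw [fA_zero hj, fA_one, d0_zero, d0_one] at this
        split_ifs at this <;> norm_num at this
      · right
        have ey : y = d0 - fB O := by rw [← hO']; abel
        refine ⟨O, ⟨hO, h0, ?_⟩, ey.symm⟩
        intro h1
        rw [ey] at h01
        have : d0 (pt 0) - fB O (pt 0) = d0 (pt 1) - fB O (pt 1) + 2 := h01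
        unfold fB at this
        rw [if_pos h0, if_pos h1, d0_zero, d0_one] at this
        norm_num at this
  · rintro (h | h)
    · obtain ⟨h0, h1⟩ := FE_vals h
      obtain ⟨O, ⟨hO, hO0, hO1⟩, rfl⟩ := h
      exact ⟨fB_mem_Sm hO hO0, by rw [h0, h1]; norm_num⟩
    · obtain ⟨h0, h1⟩ := FD_vals h
      obtain ⟨O, ⟨hO, hO0, hO1⟩, rfl⟩ := h
      exact ⟨sub_mem_Sm (fB_mem_Sm hO hO0), by rw [h0, h1]; norm_num⟩

theorem ncard_FE : FE.ncard = 176 := by
  unfold FE
  rw [Set.ncard_image_of_injective _ fB_injective]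
  exact OctM22.count_fam (p := pt 0) (q := pt 1) (by decide)

theorem ncard_Z0 : Z0.ncard = 352 := by
  have hset : Z0 = FE ∪ FD := by
    ext y
    rw [mem_Z0_iff, Set.mem_union]
  have fE' : FE.Finite := Set.finite_of_ncard_ne_zero (by rw [ncard_FE]; norm_num)
  have fD' : FD.Finite := Set.finite_of_ncard_ne_zero (by rw [ncard_FD]; norm_num)
  rw [hset, Set.ncard_union_eq ?_ fE' fD', ncard_FE, ncard_FD]
  rw [Set.disjoint_left]
  intro y h1 h2
  have := (FE_vals h1).1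
  rw [(FD_vals h2).1] at this
  norm_num at this

theorem ncard_Z_std : (Z D1 (-D0)).ncard = 352 := by
  rw [← ncard_Z0, ← Set.ncard_image_of_injective _ Subtype.val_injective]
  congr 1
  ext y
  constructor
  · rintro ⟨x, hx, rfl⟩
    exact (mem_Z_std x).mp hx
  · intro hy
    exact ⟨⟨y, hy.1.1⟩, (mem_Z_std _).mpr hy, rfl⟩

theorem ncard_Z (v w : ↥leechLattice) (hv : sqNorm (v : GolayPt → ℤ) = 48) (hw : sqNorm (w : GolayPt → ℤ) = 48)
    (hvw : dotInt (v : GolayPt → ℤ) (w : GolayPt → ℤ) = -32) : (Z v w).ncard = 352 := by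
  obtain ⟨g, e1, e2⟩ := to_std' v w hv hw hvw
  rw [← ncard_Z_smul g, e1, e2, ncard_Z_std]

/-! ### Transitivity -/

/-- equivalence under the stabiliser of the standard pair -/
def Rel2 (y y' : ↥leechLattice) : Prop := ∃ g : ↥Co0, g • D0 = D0 ∧ g • D1 = D1 ∧ g • y = y'

theorem Rel2.symm {y y' : ↥leechLattice} (h : Rel2 y y') : Rel2 y' y := by
  obtain ⟨g, h1, h2, h3⟩ := h
  refine ⟨g⁻¹, ?_, ?_, ?_⟩
  · rw [inv_smul_eq_iff, h1]
  · rw [inv_smul_eq_iff, h2]
  · rw [inv_smul_eq_iff, h3]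

theorem Rel2.trans {y y' y'' : ↥leechLattice} (h : Rel2 y y') (h' : Rel2 y' y'') : Rel2 y y'' := by
  obtain ⟨g, h1, h2, h3⟩ := h
  obtain ⟨g', h1', h2', h3'⟩ := h'
  exact ⟨g' * g, by rw [mul_smul, h1, h1'], by rw [mul_smul, h2, h2'], by rw [mul_smul, h3, h3']⟩

theorem rel2_of_perm {σ : Equiv.Perm GolayPt} (hσ : σ ∈ M24) (h0 : σ (pt 0) = pt 0) (h1 : σ (pt 1) = pt 1)
    {y y' : ↥leechLattice} (h : signedPerm σ ∅ (y : GolayPt → ℤ) = (y' : GolayPt → ℤ)) : Rel2 y y' := by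
  obtain ⟨e1, e2, -⟩ := (smul_t0_iff _).mp (piCo_fix hσ h0 h1)
  refine ⟨piCo σ hσ, e1, e2, ?_⟩
  apply Subtype.ext
  rw [piCo_smul]
  exact h

theorem rel2_FE {y y' : ↥leechLattice} (hy : (y : GolayPt → ℤ) ∈ FE) (hy' : (y' : GolayPt → ℤ) ∈ FE) :
    Rel2 y y' := by
  obtain ⟨O, hO, eO⟩ := hy
  obtain ⟨O', hO', eO'⟩ := hy'
  obtain ⟨σ, hσ, h0, h1, hσO⟩ := OctM22.trans_fam (p := pt 0) (q := pt 1) (by decide) hO hO'
  apply rel2_of_perm hσ h0 h1
  rw [← eO, ← eO', sp_fB, hσO]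

theorem rel2_FD {y y' : ↥leechLattice} (hy : (y : GolayPt → ℤ) ∈ FD) (hy' : (y' : GolayPt → ℤ) ∈ FD) :
    Rel2 y y' := by
  obtain ⟨O, hO, eO⟩ := hy
  obtain ⟨O', hO', eO'⟩ := hy'
  obtain ⟨σ, hσ, h0, h1, hσO⟩ := OctM22.trans_fam (p := pt 0) (q := pt 1) (by decide) hO hO'
  apply rel2_of_perm hσ h0 h1
  rw [← eO, ← eO']
  have : signedPerm σ ∅ (d0 - fB O) = signedPerm σ ∅ d0 - signedPerm σ ∅ (fB O) := by
    funext i
    simp only [sp_apply, Pi.sub_apply]
  show signedPerm σ ∅ (d0 - fB O) = d0 - fB O'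
  rw [this, sp_d0 h0, sp_fB, hσO]

/-- the standard octad through the first point and not through the second -/
def O0 : Finset GolayPt := maskSet 15777

theorem O0_mem : O0 ∈ OD := by
  refine ⟨maskSet_mem_octads (by decide +kernel), ?_, ?_⟩
  · rw [O0, pt_mem_maskSet (by norm_num)]
    decide
  · rw [O0, pt_mem_maskSet (by norm_num)]
    decide

/-- the standard vector of the 352 -/
def x1 : ↥leechLattice := ⟨fB O0, (fB_mem_Sm O0_mem.1 O0_mem.2.1).1⟩

theorem x1_mem_FE : (x1 : GolayPt → ℤ) ∈ FE := ⟨O0, O0_mem, rfl⟩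

theorem x1_mem : x1 ∈ Z D1 (-D0) := (mem_Z_std _).mpr ((mem_Z0_iff _).mpr (Or.inl x1_mem_FE))

/-- an octad through the first two points meeting the standard octad in four points -/
def O4 : Finset GolayPt := maskSet 45159

theorem O4_oct : O4 ∈ octads := maskSet_mem_octads (by decide +kernel)

theorem O4_zero : pt 0 ∈ O4 := by
  rw [O4, pt_mem_maskSet (by norm_num)]
  decide

theorem O4_one : pt 1 ∈ O4 := by
  rw [O4, pt_mem_maskSet (by norm_num)]
  decide

/-- a point of the hundred -/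
def p4 : ↥leechLattice := ⟨fB O4, (fB_mem_Sm O4_oct O4_zero).1⟩

theorem p4_mem : p4 ∈ S D0 (-D1) := by
  rw [mem_S_std]
  refine ⟨fB_mem_Sm O4_oct O4_zero, ?_⟩
  show fB O4 (pt 0) = fB O4 (pt 1)
  unfold fB
  rw [if_pos O4_zero, if_pos O4_one]

theorem dot_p4_x1 : dotInt (p4 : GolayPt → ℤ) (x1 : GolayPt → ℤ) = 16 := by
  show dotInt (fB (maskSet 45159)) (fB (maskSet 15777)) = 16
  decide +kernel

/-- the link between the two families -/
theorem exists_link : ∃ z : ↥leechLattice, (z : GolayPt → ℤ) ∈ FD ∧ Rel2 x1 z := by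
  obtain ⟨g, e1, e2, e3⟩ := S_transitive D0 (-D1) sqNorm_D0 HSIso.sqNorm_negD1 HSIso.dot_D0_negD1 p4_mem a01_mem
  have e2' : g • D1 = D1 := by
    rw [co0_neg, neg_inj] at e2
    exact e2
  have e1' : g • (-D0) = -D0 := by rw [co0_neg, e1]
  have m : g • x1 ∈ Z D1 (-D0) := by
    have := smul_mem_Z g x1_mem
    rwa [e2', e1'] at this
  have hd : dotInt (a01 : GolayPt → ℤ) ((g • x1 : ↥leechLattice) : GolayPt → ℤ) = 16 := by
    rw [← e3, co0_dot, dot_p4_x1]
  refine ⟨g • x1, ?_, g, e1, e2', rfl⟩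
  rcases (mem_Z0_iff _).mp ((mem_Z_std _).mp m) with h | h
  · exfalso
    rw [dot_a01, (FE_vals h).1, (FE_vals h).2] at hd
    norm_num at hd
  · exact h

theorem Z_std_rel (y : ↥leechLattice) (hy : y ∈ Z D1 (-D0)) : Rel2 y x1 := by
  rcases (mem_Z0_iff _).mp ((mem_Z_std _).mp hy) with h | h
  · exact rel2_FE h x1_mem_FE
  · obtain ⟨z, hz, hr⟩ := exists_link
    exact (rel2_FD h hz).trans hr.symm

theorem Z_transitive (v w : ↥leechLattice) (hv : sqNorm (v : GolayPt → ℤ) = 48) (hw : sqNorm (w : GolayPt → ℤ) = 48)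
    (hvw : dotInt (v : GolayPt → ℤ) (w : GolayPt → ℤ) = -32) {x x' : ↥leechLattice} (hx : x ∈ Z v w)
    (hx' : x' ∈ Z v w) : ∃ g : ↥Co0, g • v = v ∧ g • w = w ∧ g • x = x' := by
  obtain ⟨g0, e1, e2⟩ := to_std' v w hv hw hvw
  have m : g0 • x ∈ Z D1 (-D0) := by
    have := smul_mem_Z g0 hx
    rwa [e1, e2] at this
  have m' : g0 • x' ∈ Z D1 (-D0) := by
    have := smul_mem_Z g0 hx'
    rwa [e1, e2] at this
  obtain ⟨k, k1, k2, k3⟩ := (Z_std_rel _ m).trans (Z_std_rel _ m').symm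
  refine ⟨g0⁻¹ * k * g0, ?_, ?_, ?_⟩
  · rw [mul_smul, mul_smul, e1, k2, ← e1, inv_smul_smul]
  · rw [mul_smul, mul_smul, e2, co0_neg, k1, inv_smul_eq_iff, e2]
  · rw [mul_smul, mul_smul, k3, inv_smul_smul]

/-- every triple is equivalent to the standard triple -/
theorem exists_to_std3 (v w x : ↥leechLattice) (hv : sqNorm (v : GolayPt → ℤ) = 48)
    (hw : sqNorm (w : GolayPt → ℤ) = 48) (hvw : dotInt (v : GolayPt → ℤ) (w : GolayPt → ℤ) = -32)
    (hx : x ∈ Z v w) : ∃ g : ↥Co0, g • v = D1 ∧ g • w = -D0 ∧ g • x = x1 := by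
  obtain ⟨g0, e1, e2⟩ := to_std' v w hv hw hvw
  have m : g0 • x ∈ Z D1 (-D0) := by
    have := smul_mem_Z g0 hx
    rwa [e1, e2] at this
  obtain ⟨k, k1, k2, k3⟩ := Z_std_rel _ m
  refine ⟨k * g0, ?_, ?_, ?_⟩
  · rw [mul_smul, e1, k2]
  · rw [mul_smul, e2, co0_neg, k1]
  · rw [mul_smul, k3]

/-- the set is closed under `x ↦ -w - x` -/
theorem neg_sub_mem (v w x : ↥leechLattice) (hw : sqNorm (w : GolayPt → ℤ) = 48)
    (hvw : dotInt (v : GolayPt → ℤ) (w : GolayPt → ℤ) = -32) (hx : x ∈ Z v w) : -w - x ∈ Z v w := by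
  obtain ⟨h1, h2, h3⟩ := hx
  refine ⟨?_, ?_, ?_⟩
  · show sqNorm (-(w : GolayPt → ℤ) - (x : GolayPt → ℤ)) = 32
    rw [Summands.sqNorm_sub, sqNorm_neg', hw, h1, dot_neg_left, h3]
    norm_num
  · show dotInt (v : GolayPt → ℤ) (-(w : GolayPt → ℤ) - (x : GolayPt → ℤ)) = 16
    rw [sub_eq_add_neg, dot_add_right, dot_neg_right', dot_neg_right', hvw, h2]
    norm_num
  · show dotInt (w : GolayPt → ℤ) (-(w : GolayPt → ℤ) - (x : GolayPt → ℤ)) = -24
    rw [sub_eq_add_neg, dot_add_right, dot_neg_right', dot_neg_right', dot_self, hw, h3]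
    norm_num

/-! ### General transport of subgroups -/

/-- a general transport of subgroups along an isomorphism -/
noncomputable def subEquiv {A B : Type*} [Group A] [Group B] (e : A ≃* B) (H : Subgroup A) (H' : Subgroup B)
    (h : ∀ a, a ∈ H ↔ e a ∈ H') : ↥H ≃* ↥H' :=
  (e.subgroupMap H).trans (MulEquiv.subgroupCongr (by
    ext b
    rw [show ((e : A →* B)) = e.toMonoidHom from rfl, Subgroup.mem_map_equiv, h, MulEquiv.apply_symm_apply]))

/-- the stabiliser of three vectors -/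
abbrev S3 (u v x : ↥leechLattice) : Subgroup ↥Co0 :=
  MulAction.stabilizer ↥Co0 u ⊓ MulAction.stabilizer ↥Co0 v ⊓ MulAction.stabilizer ↥Co0 x

theorem mem_S3 (u v x : ↥leechLattice) (k : ↥Co0) : k ∈ S3 u v x ↔ k • u = u ∧ k • v = v ∧ k • x = x := by
  simp only [S3, Subgroup.mem_inf, MulAction.mem_stabilizer_iff, and_assoc]

/-- conjugation carries the stabiliser of a triple to the stabiliser of the image triple -/
noncomputable def conjS3 (g : ↥Co0) (u v x : ↥leechLattice) : ↥(S3 u v x) ≃* ↥(S3 (g • u) (g • v) (g • x)) :=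
  subEquiv (MulAut.conj g) _ _ (by
    intro k
    rw [mem_S3, mem_S3, MulAut.conj_apply]
    simp only [mul_smul, inv_smul_smul, smul_left_cancel_iff])

/-! ### The standard triple and the set of fifty points -/

theorem mem_G0_iff (k : ↥Co0) : k ∈ G0 ↔ k • D0 = D0 ∧ k • D1 = D1 := by
  rw [G0, mem_GS, co0_neg, neg_inj]

/-- the inner product of one of the hundred vectors with the standard vector -/
def dotX (i : ℕ) : ℤ := sumZ 24 fun k => vecN i k * (bif (15777 : ℕ).testBit k then 2 else 0)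

theorem dot_vecF_x1 (i : ℕ) : dotInt (vecF i) (fB O0) = dotX i := by
  unfold dotInt dotX
  rw [sum_golayPt]
  have : ∀ n, ∀ f g : ℕ → ℤ, (∀ k < n, f k = g k) → sumZ n f = sumZ n g := by
    intro n
    induction n with
    | zero => intro _ _ _; rfl
    | succ n ih =>
      intro f g h
      rw [sumZ_succ, sumZ_succ, h n (Nat.lt_succ_self n), ih f g (fun k hk => h k (Nat.lt_succ_of_lt hk))]
  apply this
  intro k hk
  show vecN i (idx (pt k)) * fB O0 (pt k) = _
  rw [idx_pt hk]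
  congr 1
  unfold fB O0
  by_cases hb : (15777 : ℕ).testBit k = true
  · rw [if_pos ((pt_mem_maskSet hk 15777).mpr hb), hb]
    rfl
  · rw [if_neg (fun h => hb ((pt_mem_maskSet hk 15777).mp h))]
    rw [Bool.not_eq_true] at hb
    rw [hb]
    rfl

theorem S50_okK : (allN 100 fun i => S50.testBit i == decide (dotX i = 8)) = true := by decide +kernel

theorem S50_spec (i : Fin 100) :
    S50.testBit i.1 = true ↔ dotInt (F i : GolayPt → ℤ) (x1 : GolayPt → ℤ) = 8 := by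
  have h := allN_spec S50_okK i.1 i.2
  rw [beq_iff_eq] at h
  rw [h, decide_eq_true_eq]
  show dotX i.1 = 8 ↔ dotInt (vecF i.1) (fB O0) = 8
  rw [dot_vecF_x1]

theorem dot_d0_fB {O : Finset GolayPt} (hO : O ∈ OD) : dotInt d0 (fB O) = 24 := by
  rw [dot_d0]
  exact ((mem_Sm_iff _).mp (fB_mem_Sm hO.1 hO.2.1)).2.2

theorem dot_fA' (j : GolayPt) (y : GolayPt → ℤ) : dotInt (fA j) y = 4 * y j + 4 * y (pt 0) := by
  classical
  simp only [dotInt, fA, Pi.add_apply, Pi.single_apply, add_mul, Finset.sum_add_distrib, ite_mul, zero_mul,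
    Finset.sum_ite_eq', Finset.mem_univ, if_true]

/-- the inner products of the vectors of the first family with the points of the second kind -/
theorem dot_F_mid {i : ℕ} (h1 : 1 ≤ i) (h2 : i ≤ 22) {O : Finset GolayPt} (hO : O ∈ OD) :
    dotInt (vecF i) (fB O) = 8 ↔ pt (i + 1) ∈ O := by
  rw [vecF_mid h1 h2, dot_sub_left, dot_d0_fB hO, dot_fA']
  unfold fB
  rw [if_pos hO.2.1]
  split_ifs with h
  · simp [h]
  · simp [h]

theorem dot_F_zero (y : GolayPt → ℤ) : dotInt (vecF 0) y = 4 * y (pt 1) + 4 * y (pt 0) := by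
  rw [vecF_zero, dot_fA']

/-- a vector of the 352 with the same set of fifty points as the standard vector is the standard vector -/
theorem eq_x1_of_dots (x' : ↥leechLattice) (hx' : x' ∈ Z D1 (-D0))
    (h : ∀ i : Fin 100, dotInt (F i : GolayPt → ℤ) (x' : GolayPt → ℤ) = 8 ↔
      dotInt (F i : GolayPt → ℤ) (x1 : GolayPt → ℤ) = 8) : x' = x1 := by
  have h0 := h ⟨0, by norm_num⟩
  have e0 : dotInt (F ⟨0, by norm_num⟩ : GolayPt → ℤ) (x1 : GolayPt → ℤ) = 8 := by
    show dotInt (vecF 0) (x1 : GolayPt → ℤ) = 8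
    rw [dot_F_zero, (FE_vals x1_mem_FE).1, (FE_vals x1_mem_FE).2]
    norm_num
  rcases (mem_Z0_iff _).mp ((mem_Z_std _).mp hx') with hE | hD
  · obtain ⟨O', hO', eO'⟩ := hE
    have hpts : ∀ k, k < 24 → (pt k ∈ O' ↔ pt k ∈ O0) := by
      intro k hk
      rcases Nat.lt_or_ge k 2 with hk2 | hk2
      · rcases Nat.lt_or_ge k 1 with hk1 | hk1
        · have : k = 0 := by omega
          subst this
          exact ⟨fun _ => O0_mem.2.1, fun _ => hO'.2.1⟩
        · have : k = 1 := by omega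
          subst this
          exact ⟨fun hc => absurd hc hO'.2.2, fun hc => absurd hc O0_mem.2.2⟩
      · have hi := h ⟨k - 1, by omega⟩
        have e1 : dotInt (F ⟨k - 1, by omega⟩ : GolayPt → ℤ) (x' : GolayPt → ℤ) = dotInt (vecF (k - 1)) (fB O') := by
          rw [← eO']
          rfl
        have e2 : dotInt (F ⟨k - 1, by omega⟩ : GolayPt → ℤ) (x1 : GolayPt → ℤ) = dotInt (vecF (k - 1)) (fB O0) := rfl
        rw [e1, e2, dot_F_mid (by omega) (by omega) hO', dot_F_mid (by omega) (by omega) O0_mem] at hi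
        have : k - 1 + 1 = k := by omega
        rw [this] at hi
        exact hi
    apply Subtype.ext
    rw [← eO']
    show fB O' = fB O0
    congr 1
    ext q
    have := hpts (idx q) (idx_lt q)
    rwa [pt_idx] at this
  · exfalso
    have := h0.mpr e0
    have e1 : dotInt (F ⟨0, by norm_num⟩ : GolayPt → ℤ) (x' : GolayPt → ℤ) = dotInt (vecF 0) (x' : GolayPt → ℤ) := rfl
    rw [e1, dot_F_zero, (FD_vals hD).1, (FD_vals hD).2] at this
    norm_num at this

theorem equivK_apply (g : ↥G0) : ((HSIso.equivK g : ↥K) : Equiv.Perm (Fin 100)) = rho g := rfl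

theorem smul_mem_Z_G0 (g : ↥G0) {y : ↥leechLattice} (hy : y ∈ Z D1 (-D0)) : g.1 • y ∈ Z D1 (-D0) := by
  obtain ⟨e1, e2⟩ := (mem_G0_iff _).mp g.2
  have := smul_mem_Z g.1 hy
  rwa [e2, co0_neg, e1] at this

theorem dot_F_smul (g : ↥G0) (i : Fin 100) (y : ↥leechLattice) :
    dotInt (F (rho g i) : GolayPt → ℤ) ((g.1 • y : ↥leechLattice) : GolayPt → ℤ) =
      dotInt (F i : GolayPt → ℤ) (y : GolayPt → ℤ) := by
  rw [F_rho, co0_dot]

theorem mem_stab_iff (g : ↥G0) :
    g ∈ MulAction.stabilizer ↥G0 x1 ↔ HSIso.equivK g ∈ H50.subgroupOf K := by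
  rw [MulAction.mem_stabilizer_iff, Subgroup.mem_subgroupOf, equivK_apply, mem_H50]
  change g.1 • x1 = x1 ↔ _
  constructor
  · intro hg
    refine ⟨by rw [← equivK_apply]; exact (HSIso.equivK g).2, ?_⟩
    intro i
    rw [Bool.eq_iff_iff, S50_spec, S50_spec]
    have := dot_F_smul g i x1
    rw [hg] at this
    rw [this]
  · rintro ⟨-, hg⟩
    apply eq_x1_of_dots _ (smul_mem_Z_G0 g x1_mem)
    intro i
    have hi := hg ((rho g)⁻¹ i)
    have e : rho g ((rho g)⁻¹ i) = i := by simp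
    rw [e, Bool.eq_iff_iff, S50_spec, S50_spec] at hi
    have := dot_F_smul g ((rho g)⁻¹ i) x1
    rw [e] at this
    rw [this]
    exact hi.symm

/-- the stabiliser of the standard triple in the stabiliser of the standard pair -/
noncomputable def toG0 : ↥(S3 D1 (-D0) x1) ≃* ↥(MulAction.stabilizer ↥G0 x1) where
  toFun k := ⟨⟨k.1, (mem_G0_iff _).mpr ⟨by
      have := ((mem_S3 _ _ _ _).mp k.2).2.1
      rwa [co0_neg, neg_inj] at this, ((mem_S3 _ _ _ _).mp k.2).1⟩⟩, ((mem_S3 _ _ _ _).mp k.2).2.2⟩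
  invFun k := ⟨k.1.1, (mem_S3 _ _ _ _).mpr ⟨((mem_G0_iff _).mp k.1.2).2, by
      rw [co0_neg, ((mem_G0_iff _).mp k.1.2).1], k.2⟩⟩
  left_inv _ := rfl
  right_inv _ := rfl
  map_mul' _ _ := rfl

/-- the stabiliser of the standard triple is the stabiliser of the set of fifty points -/
noncomputable def stdEquiv : ↥(S3 D1 (-D0) x1) ≃* ↥H50 :=
  (toG0.trans (subEquiv HSIso.equivK _ _ mem_stab_iff)).trans
    (Subgroup.subgroupOfEquivOfLe (inf_le_left : H50 ≤ K))

/-- **The bridge**: the stabiliser of a vector of the 352 is the stabiliser of the set of fifty points. -/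
theorem exists_equiv_H50 (v w x : ↥leechLattice) (hv : sqNorm (v : GolayPt → ℤ) = 48)
    (hw : sqNorm (w : GolayPt → ℤ) = 48) (hvw : dotInt (v : GolayPt → ℤ) (w : GolayPt → ℤ) = -32)
    (hx : x ∈ Z v w) :
    Nonempty (↥(MulAction.stabilizer ↥Co0 v ⊓ MulAction.stabilizer ↥Co0 w ⊓ MulAction.stabilizer ↥Co0 x) ≃*
      ↥H50) := by
  obtain ⟨g, e1, e2, e3⟩ := exists_to_std3 v w x hv hw hvw hx
  have e := conjS3 g v w x
  rw [e1, e2, e3] at e
  exact ⟨e.trans stdEquiv⟩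

/-! ### The order of the stabiliser -/

theorem orbit_x1 : MulAction.orbit ↥G0 x1 = Z D1 (-D0) := by
  ext y
  constructor
  · rintro ⟨g, rfl⟩
    exact smul_mem_Z_G0 g x1_mem
  · intro hy
    obtain ⟨k, k1, k2, k3⟩ := (Z_std_rel y hy).symm
    exact ⟨⟨k, (mem_G0_iff _).mpr ⟨k1, k2⟩⟩, k3⟩

theorem card_stab_x1 : Nat.card ↥(MulAction.stabilizer ↥G0 x1) = 126000 := by
  have h1 := (MulAction.stabilizer ↥G0 x1).card_mul_index
  rw [MulAction.index_stabilizer, orbit_x1, ncard_Z_std, HSIso.card_G0] at h1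
  exact Nat.eq_of_mul_eq_mul_right (by norm_num : 0 < 352) (h1.trans (by norm_num))

theorem card_H50 : Nat.card ↥H50 = 126000 := by
  rw [← card_stab_x1]
  exact (Nat.card_congr ((subEquiv HSIso.equivK _ _ mem_stab_iff).trans
    (Subgroup.subgroupOfEquivOfLe (inf_le_left : H50 ≤ K))).toEquiv).symm

end Cfsg.Agent.Helper22.HS352
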