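import Cfsg.Agent.Helper22.McLKChk

/-!
# Kernel facts about the group of order 898128000 on 275 points: the keys of the conjugates of the involution

The checks run one after the other, to bound the memory.
-/

set_option autoImplicit false
set_option Elab.async false

namespace Cfsg.Agent.Helper22.McLK

theorem keys_okK0 : keysR 0 5569 = true := by decide +kernel

theorem keys_okK1 : keysR 5569 5569 = true := by decide +kernel

theorem keys_okK2 : keysR 11138 5569 = true := by decide +kernel

theorem keys_okK3 : keysR 16707 5567 = true := by decide +kernel

end Cfsg.Agent.Helper22.McLK
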