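import Cfsg.Agent.Helper22.McLKChk

/-!
# Kernel facts about the group of order 898128000 on 275 points: the conjugates of the involution and the relations

The checks run one after the other, to bound the memory.
-/

set_option autoImplicit false
set_option Elab.async false

namespace Cfsg.Agent.Helper22.McLK

theorem filter_okK0 : filterR 0 5569 = true := by decide +kernel

theorem filter_okK1 : filterR 5569 5569 = true := by decide +kernel

theorem filter_okK2 : filterR 11138 5569 = true := by decide +kernel

theorem filter_okK3 : filterR 16707 5568 = true := by decide +kernel

end Cfsg.Agent.Helper22.McLK
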