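import Cfsg.Agent.Helper22.McLKData

/-!
# Kernel facts about the group of order 898128000 on 275 points: the stabiliser chain
-/

set_option autoImplicit false

namespace Cfsg.Agent.Helper22.McLK

open Cfsg.Agent.Helper22.PermPack Cfsg.Agent.Helper22.McLKData

theorem chain_okK : chainOK 275 9 gens levels = true := by decide +kernel

end Cfsg.Agent.Helper22.McLK
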