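import Cfsg.Agent.Helper22.OutTwo

/-!
# A bound for the automorphism group of a group generated by two elements, with a centraliser

A variant of the lemma of `Helper14.J3OA`: the elements of prime order `p` fall into the classes of `u` and `u ^ s`,
and `u` commutes with an element of order `c`, so each class has at most `|J| / c` elements; at most `c` images of
the other generator are possible under the automorphisms fixing `u`.
-/

set_option autoImplicit false

namespace Cfsg.Agent.Helper22.OutTwo

open Cfsg.Agent.Helper14.J3Out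

theorem card_mulAut_le_gen {J : Type*} [Group J] [Finite J] (p m c mc s : ℕ) [hp : Fact p.Prime]
    (hcard : Nat.card J = p * m) (hpm : ¬ p ∣ m) (hc : 0 < c) (hcard' : Nat.card J = c * mc)
    (x u n v : J) (hgen : Subgroup.closure {x, u} = ⊤) (hu : orderOf u = p)
    (hv : orderOf v = c) (hvu : v * u = u * v)
    (r : ℕ) (hn : n * u * n⁻¹ = u ^ r)
    (hr : ∀ k, 0 < k → k < p → ∃ j, k % p = r ^ j % p ∨ k % p = (s * r ^ j) % p)
    (S : Finset J) (hS : S.card ≤ c)
    (hstab : ∀ φ : MulAut J, φ u = u → φ x ∈ S) :
    Nat.card (MulAut J) ≤ 2 * Nat.card J := by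
  classical
  have hns : n * u ^ s * n⁻¹ = (u ^ s) ^ r := by
    rw [← conj_pow, hn, ← pow_mul, ← pow_mul, mul_comm]
  have hO : ∀ w : J, orderOf w = p → w ∈ (Set.range fun g : J => g * u * g⁻¹) ∪
      (Set.range fun g : J => g * u ^ s * g⁻¹) := by
    intro w hw
    obtain ⟨g, k, hk0, hkp, rfl⟩ := exists_conj_pow p m hcard hpm u w hu hw
    obtain ⟨j, hj | hj⟩ := hr k hk0 hkp
    · left
      refine ⟨g * n ^ j, ?_⟩
      have e : u ^ k = u ^ (r ^ j) := by
        calc u ^ k = u ^ (k % orderOf u) := (pow_mod_orderOf u k).symm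
          _ = u ^ (r ^ j % orderOf u) := by rw [hu, hj]
          _ = u ^ (r ^ j) := pow_mod_orderOf u _
      show g * n ^ j * u * (g * n ^ j)⁻¹ = g * u ^ k * g⁻¹
      rw [e, ← conj_pow_eq u hn j]
      group
    · right
      refine ⟨g * n ^ j, ?_⟩
      have e : u ^ k = (u ^ s) ^ (r ^ j) := by
        calc u ^ k = u ^ (k % orderOf u) := (pow_mod_orderOf u k).symm
          _ = u ^ (s * r ^ j % orderOf u) := by rw [hu, hj]
          _ = u ^ (s * r ^ j) := pow_mod_orderOf u _
          _ = (u ^ s) ^ (r ^ j) := pow_mul u s _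
      show g * n ^ j * u ^ s * (g * n ^ j)⁻¹ = g * u ^ k * g⁻¹
      rw [e, ← conj_pow_eq (u ^ s) hns j]
      group
  have hP : Nat.card (Subgroup.zpowers v) = c := by rw [Nat.card_zpowers, hv]
  have hcomm : Commute v u := hvu
  have hc1 : Nat.card (Set.range fun g : J => g * u * g⁻¹) ≤ mc := by
    apply card_class_le c mc hc hcard' u (Subgroup.zpowers v) hP
    rw [Subgroup.zpowers_le, Subgroup.mem_centralizer_iff]
    intro y hy
    rw [Set.mem_singleton_iff] at hy
    rw [hy]
    exact hvu.symm
  have hc2 : Nat.card (Set.range fun g : J => g * u ^ s * g⁻¹) ≤ mc := by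
    apply card_class_le c mc hc hcard' (u ^ s) (Subgroup.zpowers v) hP
    rw [Subgroup.zpowers_le, Subgroup.mem_centralizer_iff]
    intro y hy
    rw [Set.mem_singleton_iff] at hy
    rw [hy]
    exact ((hcomm.pow_right s).eq).symm
  have horb : Nat.card (MulAction.orbit (MulAut J) u) ≤ 2 * mc := by
    have hsub : MulAction.orbit (MulAut J) u ⊆ (Set.range fun g : J => g * u * g⁻¹) ∪
        (Set.range fun g : J => g * u ^ s * g⁻¹) := by
      rintro _ ⟨φ, rfl⟩
      apply hO
      show orderOf (φ u) = p
      rw [MulEquiv.orderOf_eq, hu]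
    calc Nat.card (MulAction.orbit (MulAut J) u)
        ≤ Nat.card ((Set.range fun g : J => g * u * g⁻¹) ∪
            (Set.range fun g : J => g * u ^ s * g⁻¹) : Set J) :=
          Nat.card_mono (Set.toFinite _) hsub
      _ ≤ Nat.card (Set.range fun g : J => g * u * g⁻¹) +
            Nat.card (Set.range fun g : J => g * u ^ s * g⁻¹) := by
          rw [Nat.card_coe_set_eq, Nat.card_coe_set_eq, Nat.card_coe_set_eq]
          exact Set.ncard_union_le _ _
      _ ≤ 2 * mc := by omega
  have hst : Nat.card (MulAction.stabilizer (MulAut J) u) ≤ c := by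
    let f : MulAction.stabilizer (MulAut J) u → S := fun φ =>
      ⟨φ.1 x, hstab φ.1 (MulAction.mem_stabilizer_iff.1 φ.2)⟩
    have hf : Function.Injective f := by
      intro φ ψ h
      have h1 : φ.1 x = ψ.1 x := congrArg Subtype.val h
      have h2 : φ.1 u = u := MulAction.mem_stabilizer_iff.1 φ.2
      have h3 : ψ.1 u = u := MulAction.mem_stabilizer_iff.1 ψ.2
      apply Subtype.ext
      apply MulEquiv.toMonoidHom_injective
      apply MonoidHom.eq_of_eqOn_dense hgen
      intro y hy
      rcases hy with rfl | hy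
      · exact h1
      · rw [Set.mem_singleton_iff] at hy
        subst hy
        show φ.1 y = ψ.1 y
        rw [h2, h3]
    calc Nat.card (MulAction.stabilizer (MulAut J) u) ≤ Nat.card S :=
          Nat.card_le_card_of_injective f hf
      _ = S.card := by rw [Nat.card_eq_fintype_card, Fintype.card_coe]
      _ ≤ c := hS
  have hprod : Nat.card (MulAut J) = Nat.card (MulAction.orbit (MulAut J) u) *
      Nat.card (MulAction.stabilizer (MulAut J) u) := by
    rw [← Nat.card_prod]
    exact (Nat.card_congr (MulAction.orbitProdStabilizerEquivGroup (MulAut J) u)).symm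
  rw [hprod, hcard']
  calc Nat.card (MulAction.orbit (MulAut J) u) * Nat.card (MulAction.stabilizer (MulAut J) u)
      ≤ (2 * mc) * c := Nat.mul_le_mul horb hst
    _ = 2 * (c * mc) := by ring

end Cfsg.Agent.Helper22.OutTwo
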