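import Cfsg.Agent.Helper22.PermPack2

/-!
# Verified stabiliser chains: conjugation by products of transversal elements

With the tables of the inverses of the transversal elements (checked), the conjugate of a permutation by the
product of the transversal elements along a path is computed as a function.  The tables are read from lists of
chunks of a few tables each, so that the kernel never shifts a long numeral.
-/

set_option autoImplicit false

namespace Cfsg.Agent.Helper22.PermPack

/-- the table at a place of a list of chunks of `c` tables each -/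
def tabC (n w c : ℕ) (cs : List ℕ) (k : ℕ) : ℕ := slot (n * w) (cs.getD (Nat.div k c) 0) (Nat.mod k c)

/-- the tables along a path, read from the lists of chunks -/
def pathTabsC (n w c : ℕ) : List (List ℕ) → List ℕ → List ℕ
  | [], _ => []
  | _ :: _, [] => []
  | cs :: css, k :: p => tabC n w c cs k :: pathTabsC n w c css p

/-- the conjugate of a function by the product of tables, given the tables of the inverses -/
def conjLook (w : ℕ) : List ℕ → List ℕ → (ℕ → ℕ) → ℕ → ℕ
  | a :: as, b :: bs, f, i => slot w a (conjLook w as bs f (slot w b i))
  | [], _, f, i => f i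
  | _ :: _, [], f, i => f i

/-- the chunks hold the tables of the transversal elements of a level -/
def fwdOK (n w c : ℕ) (L : Lv) (cs : List ℕ) : Bool :=
  allN L.m fun k => Nat.beq (tabC n w c cs k) (tab n w L k)

/-- the chunks hold the tables of the transversal elements -/
def fwdsOK (n w c : ℕ) : List Lv → List (List ℕ) → Bool
  | [], [] => true
  | L :: ls, cs :: css => fwdOK n w c L cs && fwdsOK n w c ls css
  | [], _ :: _ => false
  | _ :: _, [] => false

/-- the check of the tables of the inverses of the transversal elements of a level -/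
def invOK (n w c : ℕ) (L : Lv) (cs : List ℕ) : Bool :=
  allN L.m fun k => withNat (tab n w L k) fun a => withNat (tabC n w c cs k) fun b =>
    allN n fun i => Nat.blt (slot w b i) n && Nat.beq (slot w a (slot w b i)) i

/-- the check of the tables of the inverses -/
def invsOK (n w c : ℕ) : List Lv → List (List ℕ) → Bool
  | [], [] => true
  | L :: ls, cs :: css => invOK n w c L cs && invsOK n w c ls css
  | [], _ :: _ => false
  | _ :: _, [] => false

variable {n w c : ℕ}

/-- the inverse of a permutation given by a function with a right inverse -/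
theorem rep_inv_of {fa fb : ℕ → ℕ} {t : Pm n} (ht : Rep fa t) (h : ∀ i < n, fb i < n ∧ fa (fb i) = i) :
    Rep fb t⁻¹ := by
  intro i
  have hj := h i.1 i.2
  have e : t ⟨fb i.1, hj.1⟩ = i := by
    apply Fin.ext
    rw [ht]
    exact hj.2
  have : t⁻¹ i = ⟨fb i.1, hj.1⟩ := by
    rw [Equiv.Perm.inv_eq_iff_eq]
    exact e.symm
  rw [this]

/-- the transversal elements of the first level -/
theorem level_tabs (L : Lv) (ls : List Lv) (Y : List ℕ) (hY : ∀ y ∈ Y, Good n w y)
    (h : chainOK n w Y (L :: ls) = true) : ∀ k < L.m, ∃ t ∈ Grp n w Y, Rep (slot w (tab n w L k)) t := by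
  simp only [chainOK, withList_eq, Bool.and_eq_true] at h
  obtain ⟨hL, _⟩ := h
  simp only [levelOK, withNat_eq, Bool.and_eq_true, blt_iff, beq_iff] at hL
  obtain ⟨⟨⟨⟨⟨⟨_, _⟩, _⟩, _⟩, hid⟩, htree⟩, _⟩ := hL
  have hid' : ∀ i < n, slot w (tab n w L 0) i = i := fun i hi => beq_iff.mp (allN_spec hid i hi)
  exact tree_sound Y hY L hid' htree

/-- the tables read from the chunks are the tables of the transversal elements -/
theorem pathTabsC_eq : ∀ (ls : List Lv) (css : List (List ℕ)) (p : List ℕ), fwdsOK n w c ls css = true →
    pathValid ls p = true → pathTabsC n w c css p = pathTabs n w ls p := by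
  intro ls
  induction ls with
  | nil =>
    intro css p h hp
    cases css with
    | nil => rfl
    | cons cs css' => simp [fwdsOK] at h
  | cons L ls ih =>
    intro css p h hp
    cases css with
    | nil => simp [fwdsOK] at h
    | cons cs css' =>
      cases p with
      | nil => rfl
      | cons k p' =>
        simp only [pathValid, Bool.and_eq_true, decide_eq_true_eq] at hp
        simp only [fwdsOK, Bool.and_eq_true] at h
        show tabC n w c cs k :: pathTabsC n w c css' p' = tab n w L k :: pathTabs n w ls p'
        rw [ih css' p' h.2 hp.2, beq_iff.mp (allN_spec h.1 k hp.1)]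

/-- the conjugate by the product along a path -/
theorem conj_rep' : ∀ (ls : List Lv) (ivs : List (List ℕ)) (Y : List ℕ) (p : List ℕ), (∀ y ∈ Y, Good n w y) →
    chainOK n w Y ls = true → invsOK n w c ls ivs = true → pathValid ls p = true →
    ∀ (f : ℕ → ℕ) (x : Pm n), Rep f x → ∃ g ∈ Grp n w Y, Rep (pathLook n w ls p) g ∧
      Rep (conjLook w (pathTabs n w ls p) (pathTabsC n w c ivs p) f) (g * x * g⁻¹) := by
  intro ls
  induction ls with
  | nil =>
    intro ivs Y p _ _ _ hp f x hx
    cases p with
    | nil =>
      refine ⟨1, Subgroup.one_mem _, fun _ => rfl, ?_⟩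
      have : (1 : Pm n) * x * 1⁻¹ = x := by group
      rw [this]
      exact hx
    | cons k p' => simp [pathValid] at hp
  | cons L ls ih =>
    intro ivs Y p hY hchain hinv hp f x hx
    cases p with
    | nil => simp [pathValid] at hp
    | cons k p' =>
      cases ivs with
      | nil => simp [invsOK] at hinv
      | cons iv ivs' =>
        simp only [pathValid, Bool.and_eq_true, decide_eq_true_eq] at hp
        simp only [invsOK, Bool.and_eq_true] at hinv
        obtain ⟨t, ht, htrep⟩ := level_tabs L ls Y hY hchain k hp.1
        have hchain' := hchain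
        simp only [chainOK, withList_eq, Bool.and_eq_true] at hchain'
        have hY' : ∀ y ∈ Y.filter (fun y => Nat.beq (slot w y L.b) L.b), Good n w y :=
          fun y hy => hY y (List.mem_filter.mp hy).1
        obtain ⟨g', hg', hrep', hconj'⟩ := ih ivs' _ p' hY' hchain'.2 hinv.2 hp.2 f x hx
        have hle : Grp n w (Y.filter fun y => Nat.beq (slot w y L.b) L.b) ≤ Grp n w Y :=
          Grp_mono fun y hy => (List.mem_filter.mp hy).1
        have hiv := allN_spec hinv.1 k hp.1
        rw [withNat_eq, withNat_eq] at hiv
        have htinv : Rep (slot w (tabC n w c iv k)) t⁻¹ := by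
          apply rep_inv_of htrep
          intro i hi
          have := allN_spec hiv i hi
          rw [Bool.and_eq_true, blt_iff, beq_iff] at this
          exact this
        refine ⟨t * g', Subgroup.mul_mem _ ht (hle hg'), ?_, ?_⟩
        · exact rep_congr (rep_mul htrep hrep') (fun _ _ => rfl)
        · have e : t * g' * x * (t * g')⁻¹ = t * (g' * x * g'⁻¹) * t⁻¹ := by group
          rw [e]
          exact rep_congr (rep_mul (rep_mul htrep hconj') htinv) (fun _ _ => rfl)

/-- the conjugate by the product along a path, with all the tables read from the chunks -/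
theorem conj_rep (ls : List Lv) (fws ivs : List (List ℕ)) (Y : List ℕ) (p : List ℕ) (hY : ∀ y ∈ Y, Good n w y)
    (hchain : chainOK n w Y ls = true) (hfw : fwdsOK n w c ls fws = true) (hinv : invsOK n w c ls ivs = true)
    (hp : pathValid ls p = true) (f : ℕ → ℕ) (x : Pm n) (hx : Rep f x) :
    ∃ g ∈ Grp n w Y, Rep (pathLook n w ls p) g ∧
      Rep (conjLook w (pathTabsC n w c fws p) (pathTabsC n w c ivs p) f) (g * x * g⁻¹) := by
  rw [pathTabsC_eq ls fws p hfw hp]
  exact conj_rep' ls ivs Y p hY hchain hinv hp f x hx

end Cfsg.Agent.Helper22.PermPack
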