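import Cfsg.Agent.Helper22.McLK

/-!
# The group of order 898128000 on 275 points: its outer automorphism group has order two

The group `K` generated by an involution `z` and an element `u` of order seven.  The involution generates the
centre of a Sylow subgroup, so automorphisms map it to a conjugate; the conjugates are given by coset
representatives of the centraliser, and relations of `z` and `u` leave fourteen possible images under the
automorphisms fixing `u`.  An involution outside the group normalises it.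
-/

set_option autoImplicit false
set_option maxRecDepth 8000

namespace Cfsg.Agent.Helper22.McLK

open Cfsg Cfsg.Agent.Helper22.PermPack Cfsg.Agent.Helper22.McLKData Cfsg.Agent.Helper22.GraphRefine
  Cfsg.Agent.Helper22.McLGraph Cfsg.Agent.Helper22.OutTwo Cfsg.Agent.Helper14.J3Out

/-! ### The subgroup of order 128 -/

theorem sY_good : ∀ y ∈ sY, Good 275 9 y :=
  fun y hy => good_of_goodB (List.all_eq_true.mp sY_goodK y hy)

/-- the subgroup of order 128 -/
noncomputable def Sp : Subgroup (Pm 275) := Grp 275 9 sY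

theorem card_Sp : Nat.card Sp = 128 := by
  rw [← prod_slevels]
  exact (chain_sound slevels sY sY_good schain_okK).1

theorem Sp_le : Sp ≤ K := by
  unfold Sp Grp
  rw [Subgroup.closure_le]
  rintro g ⟨y, hy, rfl⟩
  obtain ⟨j, hj, rfl⟩ := List.mem_iff_getElem.mp hy
  have h := allN_spec ssub_okK j hj
  rw [List.getD_eq_getElem _ _ hj] at h
  exact mem_of_isPath (sY_good _ hy) h

theorem zP_mem_Sp : zP ∈ Sp := by
  obtain ⟨g, hg, hrep⟩ := (chain_sound slevels sY sY_good schain_okK).2 _ (isPath_valid zS_okK)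
  show P 275 9 zT ∈ Sp
  rw [eq_of_isPath z_good zS_okK hrep]
  exact hg

theorem zP_comm_Sp : ∀ s ∈ Sp, s * zP = zP * s := by
  have hle : Sp ≤ Subgroup.centralizer ({zP} : Set (Pm 275)) := by
    unfold Sp Grp
    rw [Subgroup.closure_le]
    rintro g ⟨y, hy, rfl⟩
    rw [SetLike.mem_coe, Subgroup.mem_centralizer_iff]
    intro x hx
    rw [Set.mem_singleton_iff] at hx
    subst hx
    have h := List.all_eq_true.mp zcommS_okK y hy
    exact (eq_of_rep (rep_mul (rep_P (sY_good y hy)) (rep_P z_good))
      (rep_mul (rep_P z_good) (rep_P (sY_good y hy))) (fun i hi => beq_iff.mp (allN_spec h i hi))).symm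
  intro s hs
  have := Subgroup.mem_centralizer_iff.mp (hle hs) zP (Set.mem_singleton _)
  exact this.symm

theorem slevels_m : slevels.map (fun L => L.m) = [32, 4] := by decide +kernel

/-- an element of the subgroup commuting with the subgroup is the identity or the involution -/
theorem Sp_center (s : Pm 275) (hs : s ∈ Sp) (hc : ∀ t ∈ Sp, t * s = s * t) : s = 1 ∨ s = zP := by
  obtain ⟨p, hp, hrep⟩ := chain_complete slevels sY sY_good schain_okK s hs
  -- the shape of the path
  have hm := slevels_m
  obtain ⟨k0, k1, rfl, h0, h1⟩ : ∃ k0 k1, p = [k0, k1] ∧ k0 < 32 ∧ k1 < 4 := by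
    unfold slevels at hp hm
    simp only [List.map_cons, List.map_nil, List.cons.injEq, and_true] at hm
    match p, hp with
    | [k0, k1], hp =>
      simp only [pathValid, Bool.and_eq_true, decide_eq_true_eq] at hp
      exact ⟨k0, k1, rfl, by rw [← hm.1]; exact hp.1, by rw [← hm.2]; exact hp.2.1⟩
    | [], hp => simp [pathValid] at hp
    | [_], hp => simp [pathValid] at hp
    | _ :: _ :: _ :: _, hp => simp [pathValid] at hp
  have h := allN_spec (allN_spec centre_okK k0 h0) k1 h1
  rw [withList_eq] at h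
  have hcomm : (sY.all fun y => allN 275 fun i =>
      Nat.beq (slot 9 y (compLook 9 (pathTabs 275 9 slevels [k0, k1]) i))
        (compLook 9 (pathTabs 275 9 slevels [k0, k1]) (slot 9 y i))) = true := by
    rw [List.all_eq_true]
    intro y hy
    apply allN_of_forall'
    intro i hi
    rw [beq_iff]
    have e := hc (P 275 9 y) (P_mem_Grp hy)
    have e1 := rep_apply (rep_mul (rep_P (sY_good y hy)) hrep) hi
    have e2 := rep_apply (rep_mul hrep (rep_P (sY_good y hy))) hi
    rw [e] at e1
    exact e1.symm.trans e2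
  rw [hcomm] at h
  simp only [Bool.not_true, Bool.false_or, Bool.or_eq_true] at h
  rcases h with h | h
  · left
    exact eq_one_of_rep hrep (fun i hi => beq_iff.mp (allN_spec h i hi))
  · right
    exact eq_of_rep hrep (rep_P z_good) (fun i hi => beq_iff.mp (allN_spec h i hi))

theorem factorization_K : (Nat.card ↥K).factorization 2 = 7 := by
  rw [card_K, show 898128000 = 2 ^ 7 * 7016625 by norm_num,
    Nat.factorization_mul (by norm_num) (by norm_num), Finsupp.add_apply,
    Nat.Prime.factorization_pow Nat.prime_two,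
    Nat.factorization_eq_zero_of_not_dvd (by norm_num : ¬ 2 ∣ 7016625)]
  simp

theorem card_SpK : Nat.card (Sp.subgroupOf K) = 2 ^ (Nat.card ↥K).factorization 2 := by
  rw [factorization_K, Nat.card_congr (Subgroup.subgroupOfEquivOfLe Sp_le).toEquiv, card_Sp]
  norm_num

/-- an automorphism maps the involution to a conjugate -/
theorem aut_zK (φ : MulAut ↥K) : ∃ g : ↥K, φ zK = g * zK * g⁻¹ := by
  have : Fact (Nat.Prime 2) := ⟨Nat.prime_two⟩
  exact exists_conj_of_sylow_center 2 (Sp.subgroupOf K) card_SpK zK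
    (by rw [Subgroup.mem_subgroupOf]; exact zP_mem_Sp)
    (by
      intro s hs
      rw [Subgroup.mem_subgroupOf] at hs
      apply Subtype.ext
      exact zP_comm_Sp s.1 hs)
    (by
      intro s hs hc
      rw [Subgroup.mem_subgroupOf] at hs
      have := Sp_center s.1 hs (by
        intro t ht
        have := hc ⟨t, Sp_le ht⟩ (by rw [Subgroup.mem_subgroupOf]; exact ht)
        exact congrArg Subtype.val this)
      rcases this with h | h
      · left; exact Subtype.ext h
      · right; exact Subtype.ext h) φ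

/-! ### The centraliser of the involution -/

theorem cY_good : ∀ y ∈ cY, Good 275 9 y :=
  fun y hy => good_of_goodB (List.all_eq_true.mp cY_goodK y hy)

/-- a subgroup of order 40320 of the centraliser of the involution -/
noncomputable def Cp : Subgroup (Pm 275) := Grp 275 9 cY

theorem card_Cp : Nat.card Cp = 40320 := by
  rw [← prod_clevels]
  exact (chain_sound clevels cY cY_good cchain_okK).1

theorem Cp_le : Cp ≤ K := by
  unfold Cp Grp
  rw [Subgroup.closure_le]
  rintro g ⟨y, hy, rfl⟩
  obtain ⟨j, hj, rfl⟩ := List.mem_iff_getElem.mp hy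
  have h := allN_spec csub_okK j hj
  rw [List.getD_eq_getElem _ _ hj] at h
  exact mem_of_isPath (cY_good _ hy) h

theorem zP_comm_Cp : ∀ s ∈ Cp, s * zP = zP * s := by
  have hle : Cp ≤ Subgroup.centralizer ({zP} : Set (Pm 275)) := by
    unfold Cp Grp
    rw [Subgroup.closure_le]
    rintro g ⟨y, hy, rfl⟩
    rw [SetLike.mem_coe, Subgroup.mem_centralizer_iff]
    intro x hx
    rw [Set.mem_singleton_iff] at hx
    subst hx
    have h := List.all_eq_true.mp zcommC_okK y hy
    exact (eq_of_rep (rep_mul (rep_P (cY_good y hy)) (rep_P z_good))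
      (rep_mul (rep_P z_good) (rep_P (cY_good y hy))) (fun i hi => beq_iff.mp (allN_spec h i hi))).symm
  intro s hs
  have := Subgroup.mem_centralizer_iff.mp (hle hs) zP (Set.mem_singleton _)
  exact this.symm

theorem card_class_zK : Nat.card (Set.range fun g : ↥K => g * zK * g⁻¹) ≤ 22275 := by
  apply card_class_le 40320 22275 (by norm_num) (by rw [card_K]) zK (Cp.subgroupOf K)
  · rw [Nat.card_congr (Subgroup.subgroupOfEquivOfLe Cp_le).toEquiv, card_Cp]
  · intro s hs
    rw [Subgroup.mem_subgroupOf] at hs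
    rw [Subgroup.mem_centralizer_iff]
    intro x hx
    rw [Set.mem_singleton_iff] at hx
    subst hx
    apply Subtype.ext
    exact (zP_comm_Cp s.1 hs).symm

/-! ### The conjugates of the involution -/

/-- the conjugate of the involution with a given index, as a function -/
def cj (j : ℕ) : ℕ → ℕ :=
  conjLook 9 (pathTabsC 275 9 32 fwdC (repPath j)) (pathTabsC 275 9 32 invC (repPath j)) (slot 9 zT)

theorem valid_spec (j : ℕ) (hj : j < 22275) : pathValid levels (repPath j) = true := by
  have := allN_spec valid_okK j hj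
  rwa [withList_eq] at this

theorem key_step (j : ℕ) (hj : j < 22274) : key j < key (j + 1) := by
  have h0 := keysR_spec keys_okK0
  have h1 := keysR_spec keys_okK1
  have h2 := keysR_spec keys_okK2
  have h3 := keysR_spec keys_okK3
  have hadd : ∀ a b : ℕ, Nat.add a b = a + b := fun _ _ => rfl
  rcases (by omega : j < 5569 ∨ (5569 ≤ j ∧ j < 11138) ∨ (11138 ≤ j ∧ j < 16707) ∨ (16707 ≤ j ∧ j < 22274))
    with h | h | h | h
  · have := h0 j h
    rw [hadd, hadd, Nat.zero_add, Nat.zero_add] at this
    exact this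
  · have := h1 (j - 5569) (by omega)
    rw [hadd, hadd, show 5569 + (j - 5569) = j by omega, show 5569 + (j - 5569 + 1) = j + 1 by omega] at this
    exact this
  · have := h2 (j - 11138) (by omega)
    rw [hadd, hadd, show 11138 + (j - 11138) = j by omega, show 11138 + (j - 11138 + 1) = j + 1 by omega] at this
    exact this
  · have := h3 (j - 16707) (by omega)
    rw [hadd, hadd, show 16707 + (j - 16707) = j by omega, show 16707 + (j - 16707 + 1) = j + 1 by omega] at this
    exact this

theorem key_lt : ∀ j' j : ℕ, j < j' → j' < 22275 → key j < key j' := by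
  intro j'
  induction j' with
  | zero => intro j hj; omega
  | succ j' ih =>
    intro j hj hj'
    have h1 := key_step j' (by omega)
    rcases Nat.lt_succ_iff_lt_or_eq.mp hj with h | h
    · exact lt_trans (ih j h (by omega)) h1
    · rw [h]
      exact h1

theorem key_eq_of_cj {j j' : ℕ} (h : ∀ i < 275, cj j i = cj j' i) : key j = key j' := by
  unfold key keyOf
  have e : ∀ a < 275, conjLook 9 (pathTabsC 275 9 32 fwdC (repPath j)) (pathTabsC 275 9 32 invC (repPath j))
      (slot 9 zT) a = conjLook 9 (pathTabsC 275 9 32 fwdC (repPath j')) (pathTabsC 275 9 32 invC (repPath j'))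
      (slot 9 zT) a := h
  rw [e 0 (by norm_num), e 1 (by norm_num), e 2 (by norm_num), e 3 (by norm_num), e 4 (by norm_num)]

theorem exists_conj (j : ℕ) (hj : j < 22275) : ∃ g : ↥K, Rep (cj j) (g * zK * g⁻¹).1 := by
  obtain ⟨g, hg, -, hrep⟩ := conj_rep levels fwdC invC gens (repPath j) gens_good chain_okK fwds_okK invs_okK
    (valid_spec j hj) (slot 9 zT) zP (rep_P z_good)
  rw [K_eq] at hg
  exact ⟨⟨g, hg⟩, hrep⟩

/-- the conjugates, by index -/
noncomputable def conjEl (j : Fin 22275) : Set.range fun g : ↥K => g * zK * g⁻¹ :=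
  ⟨Classical.choose (exists_conj j.1 j.2) * zK * (Classical.choose (exists_conj j.1 j.2))⁻¹,
    ⟨Classical.choose (exists_conj j.1 j.2), rfl⟩⟩

theorem conjEl_rep (j : Fin 22275) : Rep (cj j.1) (conjEl j).1.1 := Classical.choose_spec (exists_conj j.1 j.2)

theorem conjEl_injective : Function.Injective conjEl := by
  intro j j' h
  have h1 := conjEl_rep j
  have h2 := conjEl_rep j'
  rw [h] at h1
  have hk : key j.1 = key j'.1 := by
    apply key_eq_of_cj
    intro i hi
    rw [← rep_apply h1 hi, ← rep_apply h2 hi]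
  apply Fin.ext
  rcases lt_trichotomy j.1 j'.1 with hl | hl | hl
  · exact absurd hk (ne_of_lt (key_lt _ _ hl j'.2))
  · exact hl
  · exact absurd hk.symm (ne_of_lt (key_lt _ _ hl j.2))

/-- the conjugates of the involution are listed -/
theorem conj_zK (g : ↥K) : ∃ j < 22275, Rep (cj j) (g * zK * g⁻¹).1 := by
  have hfin : Finite (Set.range fun g : ↥K => g * zK * g⁻¹) := Set.finite_range _
  have hb : Function.Bijective conjEl := by
    apply Function.Injective.bijective_of_nat_card_le conjEl_injective
    have e : Nat.card (Fin 22275) = 22275 := by simp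
    rw [e]
    exact card_class_zK
  obtain ⟨j, hj⟩ := hb.2 ⟨g * zK * g⁻¹, ⟨g, rfl⟩⟩
  refine ⟨j.1, j.2, ?_⟩
  have := conjEl_rep j
  rw [hj] at this
  exact this

/-! ### Relations -/

/-- the word `d u^e₁ d u^e₂ ⋯` in a monoid -/
def relW {M : Type*} [Monoid M] (d u : M) : List ℕ → M
  | [] => 1
  | e :: w => d * u ^ e * relW d u w

theorem map_relW {M N : Type*} [Monoid M] [Monoid N] (f : M →* N) (d u : M) (w : List ℕ) :
    f (relW d u w) = relW (f d) (f u) w := by
  induction w with
  | nil => simp [relW]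
  | cons e w ih => simp [relW, ih]

theorem rep_relW {d : ℕ → ℕ} {x : Pm 275} (hx : Rep d x) :
    ∀ L : List ℕ, (L.all fun e => Nat.blt e 7) = true → Rep (relLookF d L) (relW x uP L) := by
  intro L
  induction L with
  | nil =>
    intro _
    exact rep_one
  | cons e L ih =>
    intro h
    rw [List.all_cons, Bool.and_eq_true, blt_iff] at h
    show Rep _ (x * uP ^ e * relW x uP L)
    rw [mul_assoc]
    exact rep_congr (rep_mul hx (rep_mul (rep_upow e h.1) (ih h.2))) (fun _ _ => rfl)

theorem rels_spec (L : List ℕ) (hL : L ∈ rels) : (L.all fun e => Nat.blt e 7) = true ∧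
    ∀ i < 275, relLookF (slot 9 zT) L i = i := by
  have h := List.all_eq_true.mp rels_okK L hL
  rw [Bool.and_eq_true] at h
  exact ⟨h.1, fun i hi => beq_iff.mp (allN_spec h.2 i hi)⟩

theorem relW_zK (L : List ℕ) (hL : L ∈ rels) : relW zK uK L = 1 := by
  apply Subtype.ext
  have h1 := map_relW K.subtype zK uK L
  have h2 : relW (K.subtype zK) (K.subtype uK) L = 1 :=
    eq_one_of_rep (rep_relW (rep_P z_good) L (rels_spec L hL).1) (rels_spec L hL).2
  rw [h2] at h1
  exact h1

open Classical in
/-- the element of the group with a given table -/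
noncomputable def clsK (j : ℕ) : ↥K :=
  if h : ∃ x : ↥K, Rep (cj j) x.1 then Classical.choose h else 1

theorem clsK_eq {j : ℕ} {x : ↥K} (hx : Rep (cj j) x.1) : clsK j = x := by
  have hex : ∃ x : ↥K, Rep (cj j) x.1 := ⟨x, hx⟩
  unfold clsK
  rw [dif_pos hex]
  exact Subtype.ext (rep_unique (Classical.choose_spec hex) hx)

/-- the possible images of the involution under the automorphisms fixing the element of order seven -/
noncomputable def goodSet : Finset ↥K := good14.toFinset.image clsK

theorem card_goodSet : goodSet.card ≤ 14 := by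
  calc goodSet.card ≤ good14.toFinset.card := Finset.card_image_le
    _ ≤ good14.length := List.toFinset_card_le _
    _ = 14 := rfl

theorem filter_spec (j : ℕ) (hj : j < 22275) : filterAt j = true := by
  have hadd : ∀ a b : ℕ, Nat.add a b = a + b := fun _ _ => rfl
  rcases (by omega : j < 5569 ∨ (5569 ≤ j ∧ j < 11138) ∨ (11138 ≤ j ∧ j < 16707) ∨ (16707 ≤ j ∧ j < 22275))
    with h | h | h | h
  · have := allN_spec filter_okK0 j h
    rw [hadd, Nat.zero_add] at this
    exact this
  · have := allN_spec filter_okK1 (j - 5569) (by omega)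
    rw [hadd, show 5569 + (j - 5569) = j by omega] at this
    exact this
  · have := allN_spec filter_okK2 (j - 11138) (by omega)
    rw [hadd, show 11138 + (j - 11138) = j by omega] at this
    exact this
  · have := allN_spec filter_okK3 (j - 16707) (by omega)
    rw [hadd, show 16707 + (j - 16707) = j by omega] at this
    exact this

theorem stab_uK (φ : MulAut ↥K) (hφ : φ uK = uK) : φ zK ∈ goodSet := by
  obtain ⟨g, hg⟩ := aut_zK φ
  obtain ⟨j, hj, hrep⟩ := conj_zK g
  have hrep' : Rep (cj j) (φ zK).1 := by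
    rw [hg]
    exact hrep
  -- the relations
  have hrel : ∀ L ∈ rels, ∀ i < 275, relLookF (cj j) L i = i := by
    intro L hL i hi
    have h1 : φ (relW zK uK L) = 1 := by rw [relW_zK L hL, map_one]
    have h0 : φ (relW zK uK L) = relW (φ zK) (φ uK) L := map_relW φ.toMonoidHom zK uK L
    rw [h0, hφ] at h1
    have h2 := map_relW K.subtype (φ zK) uK L
    rw [h1, map_one] at h2
    have h3 := rep_apply (rep_relW hrep' L (rels_spec L hL).1) hi
    have h4 : relW (φ zK).1 uP L = 1 := h2.symm
    rw [h4] at h3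
    exact h3.symm
  have hf := filter_spec j hj
  unfold filterAt at hf
  rw [Bool.or_eq_true] at hf
  have hj14 : j ∈ good14 := by
    rcases hf with hf | hf
    · exact List.contains_iff_mem.mp hf
    · exfalso
      simp only [withNat_eq, withList_eq, Bool.and_eq_true, blt_iff, Bool.not_eq_true',
        ← Bool.not_eq_true, beq_iff] at hf
      obtain ⟨⟨hr, hi⟩, hne⟩ := hf
      apply hne
      exact hrel _ (by rw [List.getD_eq_getElem _ _ hr]; exact List.getElem_mem hr) _ hi
  unfold goodSet
  rw [Finset.mem_image]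
  exact ⟨j, List.mem_toFinset.mpr hj14, clsK_eq hrep'⟩

theorem card_mulAut_K : Nat.card (MulAut ↥K) ≤ 2 * Nat.card ↥K := by
  have : Fact (Nat.Prime 7) := ⟨by norm_num⟩
  exact card_mulAut_le_gen 7 128304000 14 64152000 3 card_K' (by norm_num) (by norm_num) (by rw [card_K]) zK uK nK vK
    closure_zK_uK orderOf_uK orderOf_vK vK_comm 2 nK_conj residues_7 goodSet card_goodSet stab_uK

/-! ### The outer involution -/

theorem t_spec : Good 275 9 tT ∧ (∀ i < 275, slot 9 tT (slot 9 tT i) = i) ∧
    pathValid levels tzPath = true ∧ pathValid levels tuPath = true ∧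
    (∀ i < 275, slot 9 tT (slot 9 zT i) = pathLook 275 9 levels tzPath (slot 9 tT i)) ∧
    (∀ i < 275, slot 9 tT (slot 9 uT i) = pathLook 275 9 levels tuPath (slot 9 tT i)) ∧
    (∀ L ∈ levels, slot 9 tT L.b = L.b) ∧ slot 9 tT 0 ≠ 0 := by
  have h := t_okK
  unfold tB at h
  simp only [Bool.and_eq_true, withList_eq] at h
  obtain ⟨⟨⟨⟨⟨⟨⟨h1, h2⟩, h3⟩, h4⟩, h5⟩, h6⟩, h7⟩, h8⟩ := h
  refine ⟨good_of_goodB h1, fun i hi => beq_iff.mp (allN_spec h2 i hi), h3, h4,
    fun i hi => beq_iff.mp (allN_spec h5 i hi), fun i hi => beq_iff.mp (allN_spec h6 i hi),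
    fun L hL => beq_iff.mp (List.all_eq_true.mp h7 L hL), ?_⟩
  intro h0
  rw [Bool.not_eq_true', ← Bool.not_eq_true, beq_iff] at h8
  exact h8 h0

/-- the outer involution -/
noncomputable def tP : Pm 275 := P 275 9 tT

theorem tP_sq : tP * tP = 1 :=
  eq_one_of_rep (rep_mul (rep_P t_spec.1) (rep_P t_spec.1)) t_spec.2.1

theorem tP_inv : tP⁻¹ = tP := inv_eq_of_mul_eq_one_left tP_sq

theorem tP_zP : tP * zP * tP⁻¹ ∈ K := by
  obtain ⟨g, hg, hrep⟩ := path_mem _ t_spec.2.2.1
  have h : tP * zP = g * tP :=
    eq_of_rep (rep_mul (rep_P t_spec.1) (rep_P z_good)) (rep_mul hrep (rep_P t_spec.1)) t_spec.2.2.2.2.1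
  rw [h]
  have : g * tP * tP⁻¹ = g := by group
  rw [this]
  exact hg

theorem tP_uP : tP * uP * tP⁻¹ ∈ K := by
  obtain ⟨g, hg, hrep⟩ := path_mem _ t_spec.2.2.2.1
  have h : tP * uP = g * tP :=
    eq_of_rep (rep_mul (rep_P t_spec.1) (rep_P u_good)) (rep_mul hrep (rep_P t_spec.1)) t_spec.2.2.2.2.2.1
  rw [h]
  have : g * tP * tP⁻¹ = g := by group
  rw [this]
  exact hg

theorem tP_conj_mem {g : Pm 275} (hg : g ∈ K) : tP * g * tP⁻¹ ∈ K := by
  unfold K Grp at hg
  induction hg using Subgroup.closure_induction with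
  | mem x hx =>
    obtain ⟨y, hy, rfl⟩ := hx
    simp only [zu, List.mem_cons, List.not_mem_nil, or_false] at hy
    rcases hy with rfl | rfl
    · exact tP_zP
    · exact tP_uP
  | one => simp [K.one_mem]
  | mul x y _ _ hx hy =>
    have : tP * (x * y) * tP⁻¹ = (tP * x * tP⁻¹) * (tP * y * tP⁻¹) := by group
    rw [this]
    exact K.mul_mem hx hy
  | inv x _ hx =>
    have : tP * x⁻¹ * tP⁻¹ = (tP * x * tP⁻¹)⁻¹ := by group
    rw [this]
    exact K.inv_mem hx

/-- conjugation by the outer involution -/
noncomputable def tauK : MulAut ↥K where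
  toFun g := ⟨tP * g.1 * tP⁻¹, tP_conj_mem g.2⟩
  invFun g := ⟨tP * g.1 * tP⁻¹, tP_conj_mem g.2⟩
  left_inv g := by
    apply Subtype.ext
    show tP * (tP * g.1 * tP⁻¹) * tP⁻¹ = g.1
    rw [tP_inv]
    calc tP * (tP * g.1 * tP) * tP = (tP * tP) * g.1 * (tP * tP) := by group
      _ = g.1 := by rw [tP_sq]; simp
  right_inv g := by
    apply Subtype.ext
    show tP * (tP * g.1 * tP⁻¹) * tP⁻¹ = g.1
    rw [tP_inv]
    calc tP * (tP * g.1 * tP) * tP = (tP * tP) * g.1 * (tP * tP) := by group
      _ = g.1 := by rw [tP_sq]; simp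
  map_mul' g h := by
    apply Subtype.ext
    show tP * (g.1 * h.1) * tP⁻¹ = (tP * g.1 * tP⁻¹) * (tP * h.1 * tP⁻¹)
    group

theorem tP_not_mem : tP ∉ K := by
  intro h
  have h1 : tP = 1 := by
    apply eq_one_of_fix h
    intro L hL hb
    apply Fin.ext
    show (P 275 9 tT ⟨L.b, hb⟩).1 = L.b
    rw [rep_P t_spec.1]
    exact t_spec.2.2.2.2.2.2.1 L hL
  have e := rep_apply (rep_P t_spec.1) (i := 0) (by norm_num)
  rw [show P 275 9 tT = tP from rfl, h1] at e
  exact t_spec.2.2.2.2.2.2.2 e.symm

theorem tauK_not_inner : tauK ∉ Cfsg.Inn ↥K := by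
  rintro ⟨g₀, hg₀⟩
  apply tP_not_mem
  have hc : ∀ g ∈ K, (g₀.1⁻¹ * tP) * g = g * (g₀.1⁻¹ * tP) := by
    intro g hg
    have h1 : (MulAut.conj g₀) ⟨g, hg⟩ = tauK ⟨g, hg⟩ := by rw [hg₀]
    have h2 : g₀.1 * g * g₀.1⁻¹ = tP * g * tP⁻¹ := congrArg Subtype.val h1
    calc g₀.1⁻¹ * tP * g = g₀.1⁻¹ * (tP * g * tP⁻¹) * tP := by group
      _ = g₀.1⁻¹ * (g₀.1 * g * g₀.1⁻¹) * tP := by rw [h2]
      _ = g * (g₀.1⁻¹ * tP) := by group
  have h3 := eq_one_of_commute hc
  have h4 : tP = g₀.1 := by
    calc tP = g₀.1 * (g₀.1⁻¹ * tP) := by group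
      _ = g₀.1 := by rw [h3, mul_one]
  rw [h4]
  exact g₀.2

/-- the outer automorphism group of the group of order 898128000 on a hundred points has order two -/
theorem card_out_K : Nat.card (Cfsg.Out ↥K) = 2 :=
  card_out_eq_two center_K card_mulAut_K tauK tauK_not_inner

end Cfsg.Agent.Helper22.McLK
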