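import Cfsg.Agent.Helper22.McL275b
import Cfsg.Agent.Helper22.McLIso

/-!
# The stabiliser of a point of the 275 as a stabiliser in the group on 275 letters

For a vector `u` of type three, a summand `v` of type two and a point `x` of the 275 points, the stabiliser of
the three vectors in the group of the lattice is isomorphic to the stabiliser of the letter `0` in the group
`McLK.K` of permutations of 275 letters, and it has order `3265920`.
-/

set_option autoImplicit false

namespace Cfsg.Agent.Helper22.McLStab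

open Cfsg Cfsg.Agent.Helper27 Cfsg.Agent.Helper22.Co0Mono Cfsg.Agent.Helper22.Co0Center
  Cfsg.Agent.Helper22.Summands Cfsg.Agent.Helper22.QuadForm
  Cfsg.Agent.Helper22.HS100 Cfsg.Agent.Helper22.HS100b Cfsg.Agent.Helper22.HSSimple
  Cfsg.Agent.Helper22.McL275 Cfsg.Agent.Helper22.McL275b
  Cfsg.Agent.Helper22.McLBridge Cfsg.Agent.Helper22.McLK Cfsg.Agent.Helper22.McLIso

/-- a general transport of subgroups along an isomorphism -/
noncomputable def subEquiv {A B : Type*} [Group A] [Group B] (e : A ≃* B) (H : Subgroup A) (H' : Subgroup B)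
    (h : ∀ a, a ∈ H ↔ e a ∈ H') : ↥H ≃* ↥H' :=
  (e.subgroupMap H).trans (MulEquiv.subgroupCongr (by
    ext b
    rw [show ((e : A →* B)) = e.toMonoidHom from rfl, Subgroup.mem_map_equiv, h, MulEquiv.apply_symm_apply]))

theorem subEquiv_apply {A B : Type*} [Group A] [Group B] (e : A ≃* B) (H : Subgroup A) (H' : Subgroup B)
    (h : ∀ a, a ∈ H ↔ e a ∈ H') (a : ↥H) : ((subEquiv e H H' h a : ↥H') : B) = e a.1 := rfl

/-! ### Conjugating to the standard triple -/

/-- the stabiliser of three vectors -/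
abbrev S3 (u v x : ↥leechLattice) : Subgroup ↥Co0 :=
  MulAction.stabilizer ↥Co0 u ⊓ MulAction.stabilizer ↥Co0 v ⊓ MulAction.stabilizer ↥Co0 x

theorem mem_S3 (u v x : ↥leechLattice) (k : ↥Co0) : k ∈ S3 u v x ↔ k • u = u ∧ k • v = v ∧ k • x = x := by
  simp only [S3, Subgroup.mem_inf, MulAction.mem_stabilizer_iff, and_assoc]

/-- conjugation carries the stabiliser of a triple to the stabiliser of the image triple -/
noncomputable def conjS3 (g : ↥Co0) (u v x : ↥leechLattice) : ↥(S3 u v x) ≃* ↥(S3 (g • u) (g • v) (g • x)) :=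
  subEquiv (MulAut.conj g) _ _ (by
    intro k
    rw [mem_S3, mem_S3, MulAut.conj_apply]
    simp only [mul_smul, inv_smul_smul, smul_left_cancel_iff])

theorem exists_equiv_std (u v x : ↥leechLattice) (hu : sqNorm (u : GolayPt → ℤ) = 48)
    (hv : sqNorm (v : GolayPt → ℤ) = 32) (huv : sqNorm ((u - v : ↥leechLattice) : GolayPt → ℤ) = 32)
    (hx : x ∈ Y u v) : Nonempty (↥(S3 u v x) ≃* ↥(S3 D0 a01 yA2)) := by
  obtain ⟨g, e1, e2, e3⟩ := exists_to_std3 u v x hu hv huv hx
  have e := conjS3 g u v x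
  rw [e1, e2, e3] at e
  exact ⟨e⟩

/-! ### The standard triple -/

theorem mem_G1_iff (k : ↥Co0) : k ∈ G1 ↔ k • D0 = D0 ∧ k • a01 = a01 := by
  constructor
  · intro h
    exact G1_fix ⟨k, h⟩
  · rintro ⟨h1, h2⟩
    rw [G1, mem_GS]
    exact ⟨h2, by rw [co0_sub, h1, h2]⟩

theorem F_zero : F 0 = yA2 := by
  apply Subtype.ext
  show vecF 0 = fA (pt 2)
  rw [vecF_A (by norm_num : 0 < 22)]

/-- the stabiliser of the third standard vector in the stabiliser of the standard pair -/
noncomputable def toG1 : ↥(S3 D0 a01 yA2) ≃* ↥(MulAction.stabilizer ↥G1 yA2) where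
  toFun k := ⟨⟨k.1, (mem_G1_iff _).mpr ⟨((mem_S3 _ _ _ _).mp k.2).1, ((mem_S3 _ _ _ _).mp k.2).2.1⟩⟩,
    ((mem_S3 _ _ _ _).mp k.2).2.2⟩
  invFun k := ⟨k.1.1, (mem_S3 _ _ _ _).mpr ⟨((mem_G1_iff _).mp k.1.2).1, ((mem_G1_iff _).mp k.1.2).2, k.2⟩⟩
  left_inv _ := rfl
  right_inv _ := rfl
  map_mul' _ _ := rfl

theorem equivK_apply (g : ↥G1) : ((equivK g : ↥K) : Equiv.Perm (Fin 275)) = rho g := rfl

theorem mem_stab_iff (g : ↥G1) :
    g ∈ MulAction.stabilizer ↥G1 yA2 ↔ equivK g ∈ MulAction.stabilizer ↥K (0 : Fin 275) := by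
  rw [MulAction.mem_stabilizer_iff, MulAction.mem_stabilizer_iff]
  change g.1 • yA2 = yA2 ↔ rho g 0 = 0
  constructor
  · intro h
    apply F_injective
    rw [F_rho, F_zero, h]
  · intro h
    have := F_rho g 0
    rw [h, F_zero] at this
    exact this.symm

/-- the stabiliser of the standard triple is the stabiliser of the letter `0` in the group on 275 letters -/
noncomputable def stdEquiv : ↥(S3 D0 a01 yA2) ≃* ↥(MulAction.stabilizer ↥K (0 : Fin 275)) :=
  toG1.trans (subEquiv equivK _ _ mem_stab_iff)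

/-- **The bridge**: the stabiliser of a point of the 275 is the stabiliser of the letter `0` in `K`. -/
theorem exists_equiv_stab (u v x : ↥leechLattice) (hu : sqNorm (u : GolayPt → ℤ) = 48)
    (hv : sqNorm (v : GolayPt → ℤ) = 32) (huv : sqNorm ((u - v : ↥leechLattice) : GolayPt → ℤ) = 32)
    (hx : x ∈ Y u v) :
    Nonempty (↥(MulAction.stabilizer ↥Co0 u ⊓ MulAction.stabilizer ↥Co0 v ⊓ MulAction.stabilizer ↥Co0 x) ≃*
      ↥(MulAction.stabilizer ↥K (0 : Fin 275))) := by
  obtain ⟨e⟩ := exists_equiv_std u v x hu hv huv hx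
  exact ⟨e.trans stdEquiv⟩

/-! ### The order of the stabiliser of a letter -/

theorem exists_map' (a γ : Fin 275) : ∃ g : ↥K, g • a = γ := by
  obtain ⟨g1, hg1, e1⟩ := exists_map a
  obtain ⟨g2, hg2, e2⟩ := exists_map γ
  refine ⟨⟨g2, hg2⟩ * ⟨g1, hg1⟩⁻¹, ?_⟩
  rw [mul_smul]
  have : (⟨g1, hg1⟩ : ↥K)⁻¹ • a = b0 := by
    rw [inv_smul_eq_iff, Subgroup.smul_def, Equiv.Perm.smul_def]
    exact e1.symm
  rw [this, Subgroup.smul_def, Equiv.Perm.smul_def]
  exact e2

instance pretransitive_K : MulAction.IsPretransitive ↥K (Fin 275) := ⟨exists_map'⟩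

theorem card_stab (a : Fin 275) : Nat.card ↥(MulAction.stabilizer ↥K a) = 3265920 := by
  have h1 := (MulAction.stabilizer ↥K a).card_mul_index
  rw [MulAction.index_stabilizer_of_transitive, card_K, Nat.card_fin] at h1
  omega

theorem card_stab0 : Nat.card ↥(MulAction.stabilizer ↥K (0 : Fin 275)) = 3265920 := card_stab 0

end Cfsg.Agent.Helper22.McLStab
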