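import Mathlib
import Cfsg.Agent.Helper2.S2094.DefsR
import Cfsg.Agent.Helper9.S2094BLOCKD
import Cfsg.Agent.Helper3.S2096HNORM
import Cfsg.Agent.Helper24.S2096HABEL

set_option autoImplicit false
set_option linter.unusedSectionVars false
set_option linter.unusedVariables false

/-! S2094 chapter N, piece DTRANS (helper22; driver helper2): facts of type `D_n` (S2096) transported
through the subgroup `MD X`. -/

namespace Cfsg.Agent.S2094P

open Matrix Cfsg.Agent.S3352P Cfsg.Agent.S3351P Cfsg.Agent.S2096P Cfsg.Agent.S2086P Cfsg.Agent.RGD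

variable {n : ℕ} {F : Type*} [Field F] {M : Type*} [Group M] {X : J n → J n → F → M}
  {Ys : J n → F → M}

theorem Hh_conj_mem_B [Fintype F] (π : M →* Matrix (I n) (I n) F)
    (hπX : ∀ a b, IsRoot a b → ∀ t : F, π (X a b t) = xmB a b t) (hn : 3 ≤ n) (hX : DRel X)
    {g h : M} (hg : g ∈ Nh X) (hh : h ∈ Hh X) : g * h * g⁻¹ ∈ Hh X := by
  obtain ⟨πD, hπD, -⟩ := exists_piD (X := X) π hπX
  rw [← map_Nh_XD] at hg
  rw [← map_Hh_XD] at hh ⊢
  obtain ⟨g', hg', rfl⟩ := hg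
  obtain ⟨h', hh', rfl⟩ := hh
  refine ⟨g' * h' * g'⁻¹, Hh_conj_mem πD hπD hn (dRel_XD hX) hg' hh', ?_⟩
  simp

theorem Hh_comm_B [Fintype F] (π : M →* Matrix (I n) (I n) F)
    (hπX : ∀ a b, IsRoot a b → ∀ t : F, π (X a b t) = xmB a b t) (hn : 3 ≤ n) (hX : DRel X)
    {h h' : M} (hh : h ∈ Hh X) (hh' : h' ∈ Hh X) : h * h' = h' * h := by
  obtain ⟨πD, hπD, -⟩ := exists_piD (X := X) π hπX
  rw [← map_Hh_XD] at hh hh'
  obtain ⟨k, hk, rfl⟩ := hh
  obtain ⟨k', hk', rfl⟩ := hh'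
  have := Hh_comm πD hπD hn (dRel_XD hX) hk hk'
  rw [← map_mul, ← map_mul, this]

end Cfsg.Agent.S2094P
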