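import Mathlib
import Cfsg.Agent.Helper5.S2536Basic

/-! S2536, piece PGRPPRIM: a primitive permutation group of prime power order has prime degree. -/

set_option autoImplicit false

namespace Cfsg.Agent.S2536P

open Equiv Nat

universe u

/-- PGRPPRIM -/
theorem card_eq_of_pgroup_prim {α : Type u} [Finite α] {H : Subgroup (Perm α)} {s : ℕ} (hs : s.Prime)
    (hH : IsPGroup s H) (hprim : MulAction.IsPreprimitive H α) (h2 : 2 ≤ Nat.card α) :
    Nat.card α = s := by
  haveI : Fact s.Prime := ⟨hs⟩
  haveI : Nontrivial α := (Finite.one_lt_card_iff_nontrivial).mp (by omega)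
  haveI : MulAction.IsPretransitive H α := hprim.toIsPretransitive
  -- `H` is nontrivial
  haveI : Nontrivial H := by
    obtain ⟨a, b, hab⟩ := exists_pair_ne α
    obtain ⟨g, hg⟩ := MulAction.exists_smul_eq H a b
    refine ⟨⟨g, 1, ?_⟩⟩
    rintro rfl
    rw [one_smul] at hg
    exact hab hg
  -- a central element of order `s`
  haveI := hH.center_nontrivial
  have hdvd : s ∣ Nat.card (Subgroup.center H) := by
    have hZ : IsPGroup s (Subgroup.center H) := hH.to_subgroup _
    obtain ⟨k, hk⟩ := hZ.exists_card_eq
    rw [hk]
    have hk0 : k ≠ 0 := by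
      rintro rfl
      rw [pow_zero] at hk
      have := (Nat.card_eq_one_iff_unique.mp hk).1
      exact not_subsingleton (Subgroup.center H) this
    exact dvd_pow_self s hk0
  obtain ⟨z, hz⟩ := exists_prime_orderOf_dvd_card' s hdvd
  have hz' : orderOf (z : H) = s := by
    rw [Subgroup.orderOf_coe]
    exact hz
  have hzc : ∀ g : H, g * (z : H) = (z : H) * g := fun g => Subgroup.mem_center_iff.mp z.2 g
  -- the cyclic group generated by it is normal
  haveI hN : (Subgroup.zpowers (z : H)).Normal := by
    constructor
    intro n hn g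
    obtain ⟨k, rfl⟩ := hn
    have : g * (z : H) ^ k * g⁻¹ = (z : H) ^ k := by
      have hc : Commute g ((z : H) ^ k) := (show Commute g (z : H) from hzc g).zpow_right k
      rw [hc.eq, mul_inv_cancel_right]
    rw [this]
    exact ⟨k, rfl⟩
  -- it does not fix every point
  have hz1 : (z : H) ≠ 1 := by
    intro h
    rw [h, orderOf_one] at hz'
    exact hs.ne_one hz'.symm
  have hfix : MulAction.fixedPoints (Subgroup.zpowers (z : H)) α ≠ Set.univ := by
    intro h
    apply hz1
    apply Subtype.ext
    apply Equiv.ext
    intro x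
    have hx : x ∈ MulAction.fixedPoints (Subgroup.zpowers (z : H)) α := by
      rw [h]
      exact Set.mem_univ x
    exact hx ⟨(z : H), Subgroup.mem_zpowers _⟩
  haveI : MulAction.IsQuasiPreprimitive H α := inferInstance
  haveI htr : MulAction.IsPretransitive (Subgroup.zpowers (z : H)) α :=
    MulAction.IsQuasiPreprimitive.isPretransitive_of_normal hfix
  -- the degree divides the order
  obtain ⟨a⟩ := (inferInstance : Nonempty α)
  have hidx := MulAction.index_stabilizer_of_transitive (Subgroup.zpowers (z : H)) a
  have hd : Nat.card α ∣ Nat.card (Subgroup.zpowers (z : H)) := by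
    rw [← hidx]
    exact Subgroup.index_dvd_card _
  rw [Nat.card_zpowers, hz'] at hd
  rcases (Nat.dvd_prime hs).mp hd with h | h
  · omega
  · exact h

end Cfsg.Agent.S2536P
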