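import Mathlib
import Cfsg.Agent.Helper5.S2536Basic

/-! S2536, piece TWIN: the symmetric group of prime degree `n` with `n - 2` prime has no subgroup of order
`n (n - 2)`. -/

set_option autoImplicit false

namespace Cfsg.Agent.S2536P

open Equiv Nat

universe u

/-- TWIN -/
theorem twin_false {α : Type u} [Finite α] (H : Subgroup (Perm α)) (hn : (Nat.card α).Prime)
    (hn2 : (Nat.card α - 2).Prime) (h5 : 5 ≤ Nat.card α)
    (hH : Nat.card H = Nat.card α * (Nat.card α - 2)) : False := by
  classical
  haveI := Fintype.ofFinite α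
  obtain ⟨n, hndef⟩ : ∃ n, n = Nat.card α := ⟨_, rfl⟩
  rw [← hndef] at hn hn2 h5 hH
  haveI : Fact n.Prime := ⟨hn⟩
  haveI : Fact (n - 2).Prime := ⟨hn2⟩
  have hnd : ¬ n ∣ n - 2 := Nat.not_dvd_of_pos_of_lt hn2.pos (by omega)
  -- the Sylow subgroup
  obtain ⟨P⟩ : Nonempty (Sylow n H) := inferInstance
  have hPcard : Nat.card P = n := by
    rw [Sylow.card_eq_multiplicity, hH, Nat.factorization_mul hn.ne_zero hn2.ne_zero, Finsupp.add_apply,
      hn.factorization_self, Nat.factorization_eq_zero_of_not_dvd hnd, pow_one]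
  have hidx : (P : Subgroup H).index = n - 2 := by
    have := (P : Subgroup H).card_mul_index
    rw [hPcard, hH] at this
    exact Nat.eq_of_mul_eq_mul_left hn.pos this
  have hN1 : Nat.card (Sylow n H) = 1 := by
    have h1 : Nat.card (Sylow n H) ≡ 1 [MOD n] := card_sylow_modEq_one n H
    have h2 := P.card_dvd_index
    rw [hidx] at h2
    have h3 : Nat.card (Sylow n H) ≤ n - 2 := Nat.le_of_dvd hn2.pos h2
    have h4 : Nat.card (Sylow n H) % n = 1 % n := h1
    rw [Nat.mod_eq_of_lt (by omega), Nat.mod_eq_of_lt hn.one_lt] at h4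
    exact h4
  haveI : Subsingleton (Sylow n H) := (Nat.card_eq_one_iff_unique.mp hN1).1
  haveI hPn : (P : Subgroup H).Normal := Sylow.normal_of_subsingleton P
  -- an element of order `n - 2`
  have hm_dvd : (n - 2) ∣ Nat.card H := by
    rw [hH]
    exact dvd_mul_left _ _
  obtain ⟨x, hx⟩ := exists_prime_orderOf_dvd_card' (n - 2) hm_dvd
  -- its action on the Sylow subgroup
  letI act : MulAction (Subgroup.zpowers x) (P : Subgroup H) :=
    MulAction.compHom (P : Subgroup H)
      ((MulAut.conjNormal (H := (P : Subgroup H))).comp (Subgroup.zpowers x).subtype)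
  have hsmul : ∀ (g : Subgroup.zpowers x) (c : (P : Subgroup H)),
      ((g • c : (P : Subgroup H)) : H) = (g : H) * (c : H) * (g : H)⁻¹ := by
    intro g c
    exact MulAut.conjNormal_apply (g : H) c
  have hpg : IsPGroup (n - 2) (Subgroup.zpowers x) :=
    IsPGroup.of_card (n := 1) (by rw [Nat.card_zpowers, hx, pow_one])
  have hfix := hpg.card_modEq_card_fixedPoints (P : Subgroup H)
  rw [hPcard] at hfix
  have h1mem : (1 : (P : Subgroup H)) ∈ MulAction.fixedPoints (Subgroup.zpowers x) (P : Subgroup H) := by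
    intro g
    apply Subtype.ext
    rw [hsmul]
    simp
  have hcard2 : 2 ≤ Nat.card (MulAction.fixedPoints (Subgroup.zpowers x) (P : Subgroup H)) := by
    by_contra hlt
    push_neg at hlt
    have h6 : n % (n - 2) = Nat.card (MulAction.fixedPoints (Subgroup.zpowers x) (P : Subgroup H)) % (n - 2) :=
      hfix
    have h7 : n % (n - 2) = 2 := by
      rw [Nat.mod_eq_sub_mod (by omega : n ≥ n - 2)]
      have h8 : n - (n - 2) = 2 := by omega
      rw [h8, Nat.mod_eq_of_lt (by omega)]
    rw [h7, Nat.mod_eq_of_lt (by omega)] at h6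
    omega
  haveI : Nontrivial (MulAction.fixedPoints (Subgroup.zpowers x) (P : Subgroup H)) :=
    Finite.one_lt_card_iff_nontrivial.mp (by omega)
  obtain ⟨⟨c, hcfix⟩, hc1⟩ := exists_ne (⟨1, h1mem⟩ :
    MulAction.fixedPoints (Subgroup.zpowers x) (P : Subgroup H))
  have hc1' : c ≠ 1 := fun h => hc1 (Subtype.ext h)
  -- `x` commutes with `c`
  have hcx : x * (c : H) * x⁻¹ = (c : H) := by
    have h2 := hcfix ⟨x, Subgroup.mem_zpowers x⟩
    have h3 := congrArg (fun p : (P : Subgroup H) => (p : H)) h2
    simp only [hsmul] at h3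
    exact h3
  have hcord : orderOf (c : H) = n := by
    have h2 : orderOf c ∣ Nat.card (P : Subgroup H) := orderOf_dvd_natCard c
    rw [hPcard] at h2
    rw [Subgroup.orderOf_coe]
    rcases (Nat.dvd_prime hn).mp h2 with h | h
    · exact absurd (orderOf_eq_one_iff.mp h) hc1'
    · exact h
  -- as permutations
  have hcard : Fintype.card α = n := by
    rw [hndef, Nat.card_eq_fintype_card]
  have hcordP : orderOf ((c : H) : Perm α) = n := by
    rw [Subgroup.orderOf_coe]
    exact hcord
  have hcyc : ((c : H) : Perm α).IsCycle :=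
    Equiv.Perm.isCycle_of_prime_order'' (by rw [hcard]; exact hn) (by rw [hcordP, hcard])
  have hsupp : ((c : H) : Perm α).support = Finset.univ :=
    Finset.eq_univ_of_card _ (by rw [← hcyc.orderOf, hcordP, hcard])
  have hcomm : Commute ((x : H) : Perm α) ((c : H) : Perm α) := by
    have h2 := congrArg (fun g : H => (g : Perm α)) hcx
    simp only [Subgroup.coe_mul, Subgroup.coe_inv] at h2
    exact mul_inv_eq_iff_eq_mul.mp h2
  obtain ⟨hc', hmem⟩ := hcyc.commute_iff.mp hcomm
  have hxz : (x : Perm α) ∈ Subgroup.zpowers ((c : H) : Perm α) := by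
    have e : Equiv.Perm.ofSubtype (Equiv.Perm.subtypePerm (x : Perm α) hc') = (x : Perm α) := by
      ext a
      rw [Equiv.Perm.ofSubtype_subtypePerm_of_mem hc' (by rw [hsupp]; exact Finset.mem_univ a)]
    rw [e] at hmem
    exact hmem
  have hdvd : orderOf (x : Perm α) ∣ orderOf ((c : H) : Perm α) := orderOf_dvd_of_mem_zpowers hxz
  rw [Subgroup.orderOf_coe, hx, hcordP] at hdvd
  rcases (Nat.dvd_prime hn).mp hdvd with h | h
  · exact hn2.ne_one h
  · omega

end Cfsg.Agent.S2536P
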