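import Mathlib
import Cfsg.Agent.Helper5.S2536Basic
import Cfsg.Agent.Helper22.S2536SETSTABCARD

/-! S2536, piece BISTABCARD: the order of the stabiliser of a bisection. -/

set_option autoImplicit false

namespace Cfsg.Agent.S2536P

open Equiv Nat

universe u

namespace BISTABCARD

/-- a permutation exchanging a predicate and its negation -/
theorem exists_swap {α : Type u} [Finite α] (p : α → Prop)
    (h : Nat.card {x // p x} = Nat.card {x // ¬ p x}) : ∃ g : Perm α, ∀ x, p (g x) ↔ ¬ p x := by
  classical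
  obtain ⟨e⟩ := Finite.card_eq.mp h
  refine ⟨(Equiv.sumCompl p).symm.trans (((Equiv.sumComm _ _).trans (Equiv.sumCongr e.symm e)).trans
    (Equiv.sumCompl p)), ?_⟩
  intro x
  by_cases hx : p x
  · have h1 : (Equiv.sumCompl p).symm x = Sum.inl ⟨x, hx⟩ := Equiv.sumCompl_symm_apply_of_pos hx
    simp only [Equiv.trans_apply, h1, Equiv.sumComm_apply, Sum.swap_inl, Equiv.sumCongr_apply, Sum.map_inr,
      Equiv.sumCompl_apply_inr]
    constructor
    · intro h2
      exact absurd h2 (e ⟨x, hx⟩).2
    · intro h2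
      exact absurd hx h2
  · have h1 : (Equiv.sumCompl p).symm x = Sum.inr ⟨x, hx⟩ := Equiv.sumCompl_symm_apply_of_neg hx
    simp only [Equiv.trans_apply, h1, Equiv.sumComm_apply, Sum.swap_inr, Equiv.sumCongr_apply, Sum.map_inl,
      Equiv.sumCompl_apply_inl]
    constructor
    · intro _
      exact hx
    · intro _
      exact (e.symm ⟨x, hx⟩).2

end BISTABCARD

/-- BISTABCARD -/
theorem card_biStab {α : Type u} [Finite α] (p : α → Prop)
    (h : Nat.card {x // p x} = Nat.card {x // ¬ p x}) (h0 : 1 ≤ Nat.card {x // p x}) :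
    Nat.card (biStab p) = 2 * ((Nat.card {x // p x})! * (Nat.card {x // ¬ p x})!) := by
  obtain ⟨g₀, hg₀⟩ := BISTABCARD.exists_swap p h
  have hne : Nonempty {x // p x} := by
    by_contra hc
    rw [not_nonempty_iff] at hc
    rw [Nat.card_of_isEmpty] at h0
    omega
  obtain ⟨⟨x₀, hx₀⟩⟩ := hne
  have hA : ∀ g : Perm α, g ∈ setStab p ↔ ∀ x, p (g x) ↔ p x := fun g => Iff.rfl
  have hB : ∀ g : Perm α, g ∈ biStab p ↔ (∀ x, p (g x) ↔ p x) ∨ (∀ x, p (g x) ↔ ¬ p x) := fun g => Iff.rfl
  have hunion : ((biStab p : Subgroup (Perm α)) : Set (Perm α)) =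
      ((setStab p : Subgroup (Perm α)) : Set (Perm α)) ∪
        (fun g => g₀ * g) '' ((setStab p : Subgroup (Perm α)) : Set (Perm α)) := by
    ext g
    rw [Set.mem_union, SetLike.mem_coe, SetLike.mem_coe, hB, hA]
    constructor
    · rintro (hg | hg)
      · exact Or.inl hg
      · right
        refine ⟨g₀⁻¹ * g, ?_, mul_inv_cancel_left g₀ g⟩
        rw [SetLike.mem_coe, hA]
        intro x
        have h1 := hg₀ (g₀⁻¹ (g x))
        rw [show g₀ (g₀⁻¹ (g x)) = g x from by simp] at h1
        rw [Perm.mul_apply]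
        rw [hg x] at h1
        exact not_iff_not.mp h1.symm
    · rintro (hg | ⟨a, ha, rfl⟩)
      · exact Or.inl hg
      · right
        rw [SetLike.mem_coe, hA] at ha
        intro x
        rw [Perm.mul_apply, hg₀, ha]
  have hdisj : Disjoint ((setStab p : Subgroup (Perm α)) : Set (Perm α))
      ((fun g => g₀ * g) '' ((setStab p : Subgroup (Perm α)) : Set (Perm α))) := by
    rw [Set.disjoint_left]
    rintro g hg ⟨a, ha, rfl⟩
    rw [SetLike.mem_coe, hA] at hg ha
    have h1 := hg x₀
    rw [Perm.mul_apply, hg₀, ha] at h1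
    exact (h1.mpr hx₀) hx₀
  have e : Nat.card (biStab p) = Set.ncard ((biStab p : Subgroup (Perm α)) : Set (Perm α)) :=
    Nat.card_coe_set_eq _
  have e' : Nat.card (setStab p) = Set.ncard ((setStab p : Subgroup (Perm α)) : Set (Perm α)) :=
    Nat.card_coe_set_eq _
  rw [e, hunion, Set.ncard_union_eq hdisj (Set.toFinite _) (Set.toFinite _),
    Set.ncard_image_of_injective _ (mul_right_injective g₀), ← e', card_setStab]
  ring

end Cfsg.Agent.S2536P
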