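import Mathlib
import Cfsg.Agent.Helper5.S2536Basic
import Cfsg.Agent.Helper22.S2536SETSTABCARD
import Cfsg.Agent.Helper22.S2536BISTABCARD

/-! S2536, pieces E2 and E3: Hall `{2,3}`-subgroups of the symmetric groups of degrees seven and eight. -/

set_option autoImplicit false

namespace Cfsg.Agent.S2536P

open Equiv Nat

universe u

namespace E23

theorem eq_two_or_three_of_dvd {p a b : ℕ} (hp : p.Prime) (h : p ∣ 2 ^ a * 3 ^ b) : p = 2 ∨ p = 3 := by
  rcases (Nat.Prime.dvd_mul hp).mp h with h1 | h1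
  · left
    exact (Nat.prime_dvd_prime_iff_eq hp Nat.prime_two).mp (hp.dvd_of_dvd_pow h1)
  · right
    exact (Nat.prime_dvd_prime_iff_eq hp Nat.prime_three).mp (hp.dvd_of_dvd_pow h1)

theorem piNum_23 {π : Set ℕ} {n a b : ℕ} (hn : 3 ≤ n) (h : Is23 π n) : PiNum π (2 ^ a * 3 ^ b) := by
  intro p hp hd
  rcases eq_two_or_three_of_dvd hp hd with rfl | rfl
  · exact (h 2 hp (by omega)).mpr (Or.inl rfl)
  · exact (h 3 hp hn).mpr (Or.inr rfl)

theorem piPrime_35 {π : Set ℕ} {n : ℕ} (hn : 7 ≤ n) (h : Is23 π n) : PiPrime π 35 := by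
  intro p hp hpi hd
  have h35 : (35 : ℕ) = 5 * 7 := by norm_num
  rw [h35] at hd
  have h5 : Nat.Prime 5 := by norm_num
  have h7 : Nat.Prime 7 := by norm_num
  rcases (Nat.Prime.dvd_mul hp).mp hd with h1 | h1
  · have : p = 5 := (Nat.prime_dvd_prime_iff_eq hp h5).mp h1
    subst this
    rcases (h 5 hp (by omega)).mp hpi with h2 | h2 <;> omega
  · have : p = 7 := (Nat.prime_dvd_prime_iff_eq hp h7).mp h1
    subst this
    rcases (h 7 hp hn).mp hpi with h2 | h2 <;> omega

theorem card_lt {n k : ℕ} (hk : k ≤ n) : Nat.card {x : Fin n // x.val < k} = k := by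
  rw [Nat.card_eq_fintype_card, Fintype.card_subtype]
  rcases Nat.lt_or_ge k n with h | h
  · have h2 : (Finset.univ.filter fun x : Fin n => x.val < k) = Finset.Iio (⟨k, h⟩ : Fin n) := by
      ext x
      simp [Fin.lt_def]
    rw [h2, Fin.card_Iio]
  · have hkn : k = n := by omega
    subst hkn
    have h2 : (Finset.univ.filter fun x : Fin k => x.val < k) = Finset.univ := by
      ext x
      simp
    rw [h2, Finset.card_univ, Fintype.card_fin]

theorem card_not_lt {n k : ℕ} (hk : k ≤ n) : Nat.card {x : Fin n // ¬ x.val < k} = n - k := by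
  classical
  have h1 := card_lt hk
  rw [Nat.card_eq_fintype_card] at h1 ⊢
  rw [Fintype.card_subtype_compl, h1, Fintype.card_fin]

end E23

/-- E2 -/
theorem exists_hall_seven {π : Set ℕ} (h : Is23 π 7) : Cfsg.IsEPiGroup π (Perm (Fin 7)) := by
  refine ⟨setStab (fun x : Fin 7 => x.val < 4), ?_⟩
  have hc : Nat.card (setStab (fun x : Fin 7 => x.val < 4)) = 2 ^ 4 * 3 ^ 2 := by
    rw [card_setStab, E23.card_lt (by norm_num), E23.card_not_lt (by norm_num)]
    decide
  have hG : Nat.card (Perm (Fin 7)) = 2 ^ 4 * 3 ^ 2 * 35 := by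
    rw [card_perm_nat, Nat.card_fin]
    decide
  exact isPiHall_of_card hG (E23.piNum_23 (by norm_num) h) (E23.piPrime_35 le_rfl h) hc

/-- E3 -/
theorem exists_hall_eight {π : Set ℕ} (h : Is23 π 8) : Cfsg.IsEPiGroup π (Perm (Fin 8)) := by
  refine ⟨biStab (fun x : Fin 8 => x.val < 4), ?_⟩
  have hc : Nat.card (biStab (fun x : Fin 8 => x.val < 4)) = 2 ^ 7 * 3 ^ 2 := by
    rw [card_biStab _ (by rw [E23.card_lt (by norm_num), E23.card_not_lt (by norm_num)])
      (by rw [E23.card_lt (by norm_num)]; norm_num), E23.card_lt (by norm_num), E23.card_not_lt (by norm_num)]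
    decide
  have hG : Nat.card (Perm (Fin 8)) = 2 ^ 7 * 3 ^ 2 * 35 := by
    rw [card_perm_nat, Nat.card_fin]
    decide
  exact isPiHall_of_card hG (E23.piNum_23 (by norm_num) h) (E23.piPrime_35 (by norm_num) h) hc

end Cfsg.Agent.S2536P
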