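import Mathlib
import Cfsg.Agent.Helper11.S4409Defs

/-! s4409pieces V5 (core): `L = V4`, `c` a `2`-element centralising `L`, `c ∉ L` ⟹ `HasA (L ⊔ ⟨c⟩)`.
The row AB8 (`hasA_of_abelian`) is an explicit hypothesis. -/

set_option autoImplicit false

namespace Cfsg.Agent.S4409P

open Subgroup
open scoped commutatorElement

variable {S : Type*} [Group S] [Finite S]

theorem V5_aux_v4_comm {L : Subgroup S} (hL : IsV4 L) : IsAb L := by
  intro x hx y hy
  have h1 := hL.2 (x * y) (L.mul_mem hx hy)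
  have h2 := hL.2 x hx
  have h3 := hL.2 y hy
  -- xyxy = 1, xx = 1, yy = 1 ⇒ xy = yx
  have hxi : x⁻¹ = x := inv_eq_of_mul_eq_one_right h2
  have hyi : y⁻¹ = y := inv_eq_of_mul_eq_one_right h3
  have h4 : (x * y)⁻¹ = x * y := inv_eq_of_mul_eq_one_right h1
  rw [mul_inv_rev, hxi, hyi] at h4
  exact h4.symm

theorem V5_aux_v4_pgroup {L : Subgroup S} (hL : IsV4 L) : IsPGroup 2 ↥L := by
  intro x
  refine ⟨1, ?_⟩
  apply Subtype.ext
  have := hL.2 x x.2
  simp only [pow_one, Subgroup.coe_pow, Subgroup.coe_one]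
  rw [sq]; exact this

theorem V5_aux_v4_not_cyclic {L : Subgroup S} (hL : IsV4 L) : ¬ IsCyclic ↥L := by
  intro hc
  obtain ⟨g, hg⟩ := hc.exists_generator
  have h1 : orderOf g = Nat.card ↥L := orderOf_eq_card_of_forall_mem_zpowers hg
  rw [hL.1] at h1
  have h2 : g ^ 2 = 1 := by
    apply Subtype.ext
    have := hL.2 g g.2
    simp only [Subgroup.coe_pow, Subgroup.coe_one]
    rw [sq]; exact this
  have h3 := orderOf_le_of_pow_eq_one (by norm_num : 0 < 2) h2
  omega

/-- V5, core -/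
theorem v4_hasA_core
    (hAB8 : ∀ B : Subgroup S, IsPGroup 2 ↥B → IsAb B → ¬ IsCyclic ↥B → 8 ≤ Nat.card ↥B → HasA B)
    (L : Subgroup S) (hL : IsV4 L) (c : S) (hc : c ∈ centralizer (L : Set S)) (hcL : c ∉ L)
    (hc2 : ∃ n : ℕ, c ^ (2 ^ n) = 1) : HasA (L ⊔ zpowers c) := by
  have hLab := V5_aux_v4_comm hL
  have hLle : L ≤ L ⊔ zpowers c := le_sup_left
  have hcB : c ∈ L ⊔ zpowers c := (le_sup_right : zpowers c ≤ L ⊔ zpowers c) (mem_zpowers c)
  -- the generating set commutes pairwise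
  have hZcen : zpowers c ≤ centralizer (L : Set S) := by
    rw [zpowers_le]; exact hc
  have hLcenZ : L ≤ centralizer ((zpowers c : Subgroup S) : Set S) := (Subgroup.le_centralizer_iff).mp hZcen
  have hLcenL : L ≤ centralizer (L : Set S) := by
    intro x hx
    rw [Subgroup.mem_centralizer_iff]
    intro y hy
    exact hLab y hy x hx
  have hZcenZ : zpowers c ≤ centralizer ((zpowers c : Subgroup S) : Set S) := by
    rw [zpowers_le, Subgroup.mem_centralizer_iff]
    intro y hy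
    obtain ⟨k, rfl⟩ := mem_zpowers_iff.mp hy
    exact ((Commute.refl c).zpow_left k).eq
  have hBcenL : L ⊔ zpowers c ≤ centralizer (L : Set S) := sup_le hLcenL hZcen
  have hBcenZ : L ⊔ zpowers c ≤ centralizer ((zpowers c : Subgroup S) : Set S) := sup_le hLcenZ hZcenZ
  have hab : IsAb (L ⊔ zpowers c) := by
    have h1 : L ≤ centralizer ((L ⊔ zpowers c : Subgroup S) : Set S) := (Subgroup.le_centralizer_iff).mp hBcenL
    have h2 : zpowers c ≤ centralizer ((L ⊔ zpowers c : Subgroup S) : Set S) :=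
      (Subgroup.le_centralizer_iff).mp hBcenZ
    have h3 : L ⊔ zpowers c ≤ centralizer ((L ⊔ zpowers c : Subgroup S) : Set S) := sup_le h1 h2
    intro x hx y hy
    have := (Subgroup.mem_centralizer_iff.mp (h3 hy)) x hx
    exact this
  -- a 2-group
  have hZp : IsPGroup 2 ↥(zpowers c) := by
    obtain ⟨n, hn⟩ := hc2
    intro x
    refine ⟨n, ?_⟩
    obtain ⟨k, hk⟩ := mem_zpowers_iff.mp x.2
    apply Subtype.ext
    simp only [Subgroup.coe_pow, Subgroup.coe_one]
    rw [← hk, ← zpow_natCast, ← zpow_mul, mul_comm, zpow_mul, zpow_natCast, hn, one_zpow]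
  have hBp : IsPGroup 2 ↥(L ⊔ zpowers c) := by
    apply IsPGroup.to_sup_of_normal_right' (V5_aux_v4_pgroup hL) hZp
    exact hLcenZ.trans (Subgroup.centralizer_le_normalizer _)
  -- not cyclic
  have hnc : ¬ IsCyclic ↥(L ⊔ zpowers c) := by
    intro hcyc
    apply V5_aux_v4_not_cyclic hL
    have h1 : IsCyclic ↥(L.subgroupOf (L ⊔ zpowers c)) := inferInstance
    exact isCyclic_of_surjective (Subgroup.subgroupOfEquivOfLe hLle).toMonoidHom
      (Subgroup.subgroupOfEquivOfLe hLle).surjective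
  -- order ≥ 8
  have h8 : 8 ≤ Nat.card ↥(L ⊔ zpowers c) := by
    have hdvd : Nat.card ↥L ∣ Nat.card ↥(L ⊔ zpowers c) := Subgroup.card_dvd_of_le hLle
    rw [hL.1] at hdvd
    obtain ⟨k, hk⟩ := hdvd
    have hne : L ≠ L ⊔ zpowers c := by
      intro h
      apply hcL
      rw [h]; exact hcB
    have hlt : Nat.card ↥L < Nat.card ↥(L ⊔ zpowers c) := by
      rcases Nat.lt_or_ge (Nat.card ↥L) (Nat.card ↥(L ⊔ zpowers c)) with h | h
      · exact h
      · exact absurd (Subgroup.eq_of_le_of_card_ge hLle h) hne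
    rw [hL.1] at hlt
    omega
  exact hAB8 _ hBp hab hnc h8

end Cfsg.Agent.S4409P
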