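import Mathlib
import Cfsg.Agent.Helper22.S4409V5core
import Cfsg.Agent.Helper4.S4409AB8

/-! s4409pieces V5: wrapper of `v4_hasA_core` over the landed row AB8. -/

set_option autoImplicit false

namespace Cfsg.Agent.S4409P

open Subgroup
open scoped commutatorElement

variable {S : Type*} [Group S] [Finite S]

/-- V5 -/
theorem v4_hasA (L : Subgroup S) (hL : IsV4 L) (c : S) (hc : c ∈ centralizer (L : Set S)) (hcL : c ∉ L)
    (hc2 : ∃ n : ℕ, c ^ (2 ^ n) = 1) : HasA (L ⊔ zpowers c) :=
  v4_hasA_core (fun B hB hab hnc h8 => hasA_of_abelian B hB hab hnc h8) L hL c hc hcL hc2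

end Cfsg.Agent.S4409P
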