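import Mathlib
import Cfsg.Agent.Helper3.S5655EVDefs
import Cfsg.Agent.Helper14.S5655EVQ2FIELD
import Cfsg.Agent.Helper11.S5655EVQ2WT

set_option autoImplicit false
set_option linter.unusedSectionVars false
set_option linter.unusedVariables false

/-! S5655 k = 1, chapter "q EVEN": piece Q2FULL (helper22). -/

namespace Cfsg.Agent.S5655K1.EV

open Matrix
open Cfsg.Agent.S2644 Cfsg.Agent.Helper2.SUGen Cfsg.Agent.Helper28.SimMax Cfsg.Agent.S5658P

variable {K : Type*} [Field K] {q n : ℕ}

local notation "h" => Cfsg.hermForm n K q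
local notation "T" => Cfsg.unitaryTransvection n q

namespace Q2FULL

/-- the conjugation step: `T u 1 (u') = u' + u = z` when `h u' u = 1` -/
theorem conj_step (D : Frob K q) {M : Subgroup (Matrix.GeneralLinearGroup (Fin n) K)}
    (hM : Over q M) {u u' z : Fin n → K} (hu : T u (1 : K) ∈ MS M) (hu' : T u' (1 : K) ∈ MS M)
    (hh : h u' u = 1) (hz : u' + u = z) : T z (1 : K) ∈ MS M := by
  have := MS_conj_T D hM.le hu hu'
  rwa [T_mulVec, one_mul, hh, one_smul, hz] at this

end Q2FULL

theorem Q2FULL.main [Fintype K] (D : Frob K 2) (hK : Fintype.card K = 2 ^ 2) (hn : 4 ≤ n)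
    {M : Subgroup (Matrix.GeneralLinearGroup (Fin n) K)} (hM : Over 2 M) (h4 : Good 2 M 4)
    (hg : Good 2 M (n - 2)) : Good 2 M n := by
  classical
  intro z hzz hzw
  have h2 : (2 : K) = 0 := Q2FIELD.two_eq_zero hK
  have hadd : ∀ x : K, x + x = 0 := by
    intro x
    rw [← two_mul, h2, zero_mul]
  obtain ⟨ω, hw2, -, hω0, hω1, -⟩ := Q2FIELD.exists_omega D hK
  -- all coordinates are non-zero
  have hsuppz : supp z = Finset.univ := by
    apply Finset.eq_univ_of_card
    rw [Fintype.card_fin]
    exact hzw
  have hznz : ∀ m, z m ≠ 0 := by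
    intro m
    apply mem_supp.mp
    rw [hsuppz]
    exact Finset.mem_univ m
  have hcube : ∀ m, (z m) ^ 3 = 1 := by
    intro m
    have := Q2FIELD.norm_one D hK (hznz m)
    rw [D.pow] at this
    rw [← this]
    ring
  -- four points
  let i : Fin n := ⟨0, by omega⟩
  let j : Fin n := ⟨1, by omega⟩
  let k : Fin n := ⟨2, by omega⟩
  let l : Fin n := ⟨3, by omega⟩
  have hij : i ≠ j := by simp [i, j, Fin.ext_iff]
  have hik : i ≠ k := by simp [i, k, Fin.ext_iff]
  have hil : i ≠ l := by simp [i, l, Fin.ext_iff]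
  have hjk : j ≠ k := by simp [j, k, Fin.ext_iff]
  have hjl : j ≠ l := by simp [j, l, Fin.ext_iff]
  have hkl : k ≠ l := by simp [k, l, Fin.ext_iff]
  -- the two vectors
  let u : Fin n → K := fun m =>
    if m = i then ω * z i else if m = j then (ω + 1) * z j else if m = k ∨ m = l then 0 else z m
  let u' : Fin n → K := fun m =>
    if m = i then (ω + 1) * z i else if m = j then ω * z j else if m = k ∨ m = l then z m else 0
  have hui : u i = ω * z i := by simp [u]
  have huj : u j = (ω + 1) * z j := by simp [u, Ne.symm hij]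
  have huk : u k = 0 := by simp [u, Ne.symm hik, Ne.symm hjk]
  have hul : u l = 0 := by simp [u, Ne.symm hil, Ne.symm hjl]
  have huo : ∀ m, m ≠ i → m ≠ j → m ≠ k → m ≠ l → u m = z m := by
    intro m h1 h2' h3 h4'
    simp [u, h1, h2', h3, h4']
  have hu'i : u' i = (ω + 1) * z i := by simp [u']
  have hu'j : u' j = ω * z j := by simp [u', Ne.symm hij]
  have hu'k : u' k = z k := by simp [u', Ne.symm hik, Ne.symm hjk]
  have hu'l : u' l = z l := by simp [u', Ne.symm hil, Ne.symm hjl]
  have hu'o : ∀ m, m ≠ i → m ≠ j → m ≠ k → m ≠ l → u' m = 0 := by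
    intro m h1 h2' h3 h4'
    simp [u', h1, h2', h3, h4']
  have hsum : u' + u = z := by
    funext m
    show u' m + u m = z m
    by_cases h1 : m = i
    · rw [h1, hu'i, hui]
      linear_combination z i * hadd ω
    by_cases h2' : m = j
    · rw [h2', hu'j, huj]
      linear_combination z j * hadd ω
    by_cases h3 : m = k
    · rw [h3, hu'k, huk, add_zero]
    by_cases h4' : m = l
    · rw [h4', hu'l, hul, add_zero]
    rw [hu'o m h1 h2' h3 h4', huo m h1 h2' h3 h4', zero_add]
  -- supports
  have hsupp' : supp u' = {i, j, k, l} := by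
    ext m
    rw [mem_supp]
    simp only [Finset.mem_insert, Finset.mem_singleton]
    by_cases h1 : m = i
    · rw [h1, hu'i]
      exact ⟨fun _ => Or.inl rfl, fun _ => mul_ne_zero hω1 (hznz i)⟩
    by_cases h2' : m = j
    · rw [h2', hu'j]
      exact ⟨fun _ => Or.inr (Or.inl rfl), fun _ => mul_ne_zero hω0 (hznz j)⟩
    by_cases h3 : m = k
    · rw [h3, hu'k]
      exact ⟨fun _ => Or.inr (Or.inr (Or.inl rfl)), fun _ => hznz k⟩
    by_cases h4' : m = l
    · rw [h4', hu'l]
      exact ⟨fun _ => Or.inr (Or.inr (Or.inr rfl)), fun _ => hznz l⟩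
    rw [hu'o m h1 h2' h3 h4']
    constructor
    · intro h0
      exact absurd rfl h0
    · rintro (e | e | e | e)
      · exact absurd e h1
      · exact absurd e h2'
      · exact absurd e h3
      · exact absurd e h4'
  have hwt' : wt u' = 4 := by
    show (supp u').card = 4
    rw [hsupp', Finset.card_insert_of_notMem, Finset.card_insert_of_notMem,
      Finset.card_insert_of_notMem, Finset.card_singleton]
    · simpa using hkl
    · simp [hjk, hjl]
    · simp [hij, hik, hil]
  have hsupp : supp u = Finset.univ \ {k, l} := by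
    ext m
    rw [mem_supp, Finset.mem_sdiff]
    simp only [Finset.mem_insert, Finset.mem_singleton, Finset.mem_univ, true_and]
    by_cases h3 : m = k
    · rw [h3, huk]
      constructor
      · intro h0
        exact absurd rfl h0
      · intro h0
        exact absurd (Or.inl rfl) h0
    by_cases h4' : m = l
    · rw [h4', hul]
      constructor
      · intro h0
        exact absurd rfl h0
      · intro h0
        exact absurd (Or.inr rfl) h0
    have hnot : ¬ (m = k ∨ m = l) := by
      rintro (e | e)
      · exact h3 e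
      · exact h4' e
    refine ⟨fun _ => hnot, fun _ => ?_⟩
    by_cases h1 : m = i
    · rw [h1, hui]
      exact mul_ne_zero hω0 (hznz i)
    by_cases h2' : m = j
    · rw [h2', huj]
      exact mul_ne_zero hω1 (hznz j)
    rw [huo m h1 h2' h3 h4']
    exact hznz m
  have hwt : wt u = n - 2 := by
    show (supp u).card = n - 2
    rw [hsupp, Finset.card_sdiff_of_subset (Finset.subset_univ _), Finset.card_univ, Fintype.card_fin,
      Finset.card_pair hkl]
  -- isotropy
  have hzeven : Even (wt z) := (Q2WT.iso_iff_even D hK z).mp hzz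
  have hneven : Even (n - 2) := by
    rw [hzw] at hzeven
    obtain ⟨r, hr⟩ := hzeven
    exact ⟨r - 1, by omega⟩
  have hu'iso : Cfsg.hermForm n K 2 u' u' = 0 := by
    rw [Q2WT.iso_iff_even D hK, hwt']
    exact ⟨2, rfl⟩
  have huiso : Cfsg.hermForm n K 2 u u = 0 := by
    rw [Q2WT.iso_iff_even D hK, hwt]
    exact hneven
  -- the pairing
  have hpair : Cfsg.hermForm n K 2 u' u = 1 := by
    show ∑ m, u' m * (u m) ^ 2 = 1
    rw [Finset.sum_eq_add i j hij]
    · rw [hu'i, hui, hu'j, huj]
      have hci := hcube i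
      have hcj := hcube j
      linear_combination (ω + 1) * ω ^ 2 * hci + ω * (ω + 1) ^ 2 * hcj + (2 * ω + 3) * hw2 +
        (ω ^ 2 + 3 * ω + 1) * h2
    · intro m _ hm
      by_cases h3 : m = k
      · rw [h3, huk]
        ring
      by_cases h4' : m = l
      · rw [h4', hul]
        ring
      rw [hu'o m hm.1 hm.2 h3 h4']
      ring
    · intro hmem
      exact absurd (Finset.mem_univ i) hmem
    · intro hmem
      exact absurd (Finset.mem_univ j) hmem
  exact Q2FULL.conj_step D hM (hg u huiso hwt) (h4 u' hu'iso hwt') hpair hsum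

end Cfsg.Agent.S5655K1.EV
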