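import Mathlib
import Cfsg.Agent.Helper3.S5655EVDefs
import Cfsg.Agent.Helper14.S5655EVQ2FIELD
import Cfsg.Agent.Helper11.S5655EVQ2WT

set_option autoImplicit false
set_option linter.unusedSectionVars false
set_option linter.unusedVariables false

/-! S5655 k = 1, chapter "q EVEN": piece Q2UP (helper22). -/

namespace Cfsg.Agent.S5655K1.EV

open Matrix
open Cfsg.Agent.S2644 Cfsg.Agent.Helper2.SUGen Cfsg.Agent.Helper28.SimMax Cfsg.Agent.S5658P

variable {K : Type*} [Field K] {q n : ℕ}

local notation "h" => Cfsg.hermForm n K q
local notation "T" => Cfsg.unitaryTransvection n q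

namespace Q2UP

/-- the conjugation step: `T u 1 (u') = u' + u = z` when `h u' u = 1` -/
theorem conj_step (D : Frob K q) {M : Subgroup (Matrix.GeneralLinearGroup (Fin n) K)}
    (hM : Over q M) {u u' z : Fin n → K} (hu : T u (1 : K) ∈ MS M) (hu' : T u' (1 : K) ∈ MS M)
    (hh : h u' u = 1) (hz : u' + u = z) : T z (1 : K) ∈ MS M := by
  have := MS_conj_T D hM.le hu hu'
  rwa [T_mulVec, one_mul, hh, one_smul, hz] at this

end Q2UP

theorem Q2UP.main [Fintype K] (D : Frob K 2) (hK : Fintype.card K = 2 ^ 2)
    {M : Subgroup (Matrix.GeneralLinearGroup (Fin n) K)} (hM : Over 2 M) {w : ℕ} (hw1 : 1 ≤ w)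
    (hw : w + 3 ≤ n) (h4 : Good 2 M 4) (hgw : Good 2 M w) : Good 2 M (w + 2) := by
  classical
  intro z hzz hzw
  have h2 : (2 : K) = 0 := Q2FIELD.two_eq_zero hK
  have hadd : ∀ x : K, x + x = 0 := by
    intro x
    rw [← two_mul, h2, zero_mul]
  -- three points of the support and one outside
  have hcard : (supp z).card = w + 2 := hzw
  obtain ⟨a, ha, b, hb, c, hc, hab, hac, hbc⟩ := Finset.two_lt_card.mp (by rw [hcard]; omega)
  obtain ⟨p, hp⟩ : ∃ p, p ∉ supp z := by
    by_contra hcon
    push Not at hcon
    have h1 : supp z = Finset.univ := Finset.eq_univ_iff_forall.mpr hcon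
    rw [h1, Finset.card_univ, Fintype.card_fin] at hcard
    omega
  have hza : z a ≠ 0 := mem_supp.mp ha
  have hzb : z b ≠ 0 := mem_supp.mp hb
  have hzc : z c ≠ 0 := mem_supp.mp hc
  have hzp : z p = 0 := by
    by_contra h0
    exact hp (mem_supp.mpr h0)
  have hpa : p ≠ a := fun e => hp (e ▸ ha)
  have hpb : p ≠ b := fun e => hp (e ▸ hb)
  have hpc : p ≠ c := fun e => hp (e ▸ hc)
  set S3 : Finset (Fin n) := {a, b, c} with hS3
  have hS3card : S3.card = 3 := by
    rw [hS3, Finset.card_insert_of_notMem, Finset.card_insert_of_notMem, Finset.card_singleton]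
    · simpa using hbc
    · simp [hab, hac]
  have hS3sub : S3 ⊆ supp z := by
    intro i hi
    rw [hS3] at hi
    simp only [Finset.mem_insert, Finset.mem_singleton] at hi
    rcases hi with rfl | rfl | rfl
    · exact ha
    · exact hb
    · exact hc
  have hpS3 : p ∉ S3 := fun hmem => hp (hS3sub hmem)
  -- the two vectors
  let u' : Fin n → K := fun i => if i ∈ S3 then z i else if i = p then 1 else 0
  let u : Fin n → K := fun i => if i ∈ S3 then 0 else if i = p then 1 else z i
  have hsum : u' + u = z := by
    funext i
    show u' i + u i = z i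
    simp only [u', u]
    by_cases hi : i ∈ S3
    · rw [if_pos hi, if_pos hi, add_zero]
    · rw [if_neg hi, if_neg hi]
      by_cases hip : i = p
      · rw [if_pos hip, if_pos hip, hadd, hip, hzp]
      · rw [if_neg hip, if_neg hip, zero_add]
  -- supports
  have hsupp' : supp u' = insert p S3 := by
    ext i
    rw [mem_supp, Finset.mem_insert]
    simp only [u']
    by_cases hi : i ∈ S3
    · rw [if_pos hi]
      constructor
      · intro _
        exact Or.inr hi
      · intro _
        exact mem_supp.mp (hS3sub hi)
    · rw [if_neg hi]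
      by_cases hip : i = p
      · rw [if_pos hip]
        constructor
        · intro _
          exact Or.inl hip
        · intro _
          exact one_ne_zero
      · rw [if_neg hip]
        constructor
        · intro h0
          exact absurd rfl h0
        · rintro (h0 | h0)
          · exact absurd h0 hip
          · exact absurd h0 hi
  have hwt' : wt u' = 4 := by
    show (supp u').card = 4
    rw [hsupp', Finset.card_insert_of_notMem hpS3, hS3card]
  have hsupp : supp u = insert p (supp z \ S3) := by
    ext i
    rw [mem_supp, Finset.mem_insert, Finset.mem_sdiff]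
    simp only [u]
    by_cases hi : i ∈ S3
    · rw [if_pos hi]
      constructor
      · intro h0
        exact absurd rfl h0
      · rintro (h0 | h0)
        · exact absurd (h0 ▸ hi) hpS3
        · exact absurd hi h0.2
    · rw [if_neg hi]
      by_cases hip : i = p
      · rw [if_pos hip]
        constructor
        · intro _
          exact Or.inl hip
        · intro _
          exact one_ne_zero
      · rw [if_neg hip]
        constructor
        · intro h0
          exact Or.inr ⟨mem_supp.mpr h0, hi⟩
        · rintro (h0 | h0)
          · exact absurd h0 hip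
          · exact mem_supp.mp h0.1
  have hwt : wt u = w := by
    show (supp u).card = w
    have hpn : p ∉ supp z \ S3 := by
      intro hmem
      exact hp (Finset.mem_sdiff.mp hmem).1
    rw [hsupp, Finset.card_insert_of_notMem hpn, Finset.card_sdiff_of_subset hS3sub, hcard, hS3card]
    omega
  -- isotropy
  have hzeven : Even (wt z) := (Q2WT.iso_iff_even D hK z).mp hzz
  have hweven : Even w := by
    rw [hzw] at hzeven
    obtain ⟨r, hr⟩ := hzeven
    exact ⟨r - 1, by omega⟩
  have hu'iso : Cfsg.hermForm n K 2 u' u' = 0 := by
    rw [Q2WT.iso_iff_even D hK, hwt']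
    exact ⟨2, rfl⟩
  have huiso : Cfsg.hermForm n K 2 u u = 0 := by
    rw [Q2WT.iso_iff_even D hK, hwt]
    exact hweven
  -- the pairing
  have hpair : Cfsg.hermForm n K 2 u' u = 1 := by
    show ∑ i, u' i * (u i) ^ 2 = 1
    rw [Finset.sum_eq_single p]
    · simp only [u', u]
      rw [if_neg hpS3, if_neg hpS3]
      simp
    · intro i _ hip
      simp only [u', u]
      by_cases hi : i ∈ S3
      · rw [if_pos hi, if_pos hi]
        ring
      · rw [if_neg hi, if_neg hip]
        ring
    · intro hpu
      exact absurd (Finset.mem_univ p) hpu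
  exact Q2UP.conj_step D hM (hgw u huiso hwt) (h4 u' hu'iso hwt') hpair hsum

end Cfsg.Agent.S5655K1.EV
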