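import Mathlib
import Cfsg.Prelude.Def_GeometricClasses
import Cfsg.Agent.Helper2.S5886.Defs

/-! S5886 piece YADD (helper22). -/

set_option autoImplicit false

namespace Cfsg.Agent.S5886P

variable {F K V : Type*} [Field F] [Field K] [Algebra F K]
  [AddCommGroup V] [Module F V] [Module K V] [IsScalarTower F K V]

/-- YADD.zero -/
theorem YADD.zero (M : Subgroup (V ≃ₗ[F] V)) (L : Submodule F V) : (0 : V →ₗ[F] V) ∈ yset M L := by
  refine ⟨(ulie L).zero_mem, 1, M.one_mem, fun x => ?_⟩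
  simp

/-- YADD.add -/
theorem YADD.add (M : Subgroup (V ≃ₗ[F] V)) (L : Submodule F V) (A B : V →ₗ[F] V)
    (hA : A ∈ yset M L) (hB : B ∈ yset M L) : A + B ∈ yset M L := by
  obtain ⟨hAu, gA, hgA, hgA'⟩ := hA
  obtain ⟨hBu, gB, hgB, hgB'⟩ := hB
  refine ⟨(ulie L).add_mem hAu hBu, gA * gB, M.mul_mem hgA hgB, fun x => ?_⟩
  rw [LinearEquiv.mul_apply, hgB', hgA', map_add, hAu.2 (B x) (hBu.1 x), LinearMap.add_apply]
  abel

/-- YADD.neg -/
theorem YADD.neg (M : Subgroup (V ≃ₗ[F] V)) (L : Submodule F V) (A : V →ₗ[F] V)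
    (hA : A ∈ yset M L) : -A ∈ yset M L := by
  obtain ⟨hAu, gA, hgA, hgA'⟩ := hA
  refine ⟨(ulie L).neg_mem hAu, gA⁻¹, M.inv_mem hgA, fun x => ?_⟩
  apply gA.injective
  have h1 : gA (gA⁻¹ x) = x := by simp
  rw [h1, hgA', LinearMap.neg_apply, map_add, map_neg, hAu.2 (A x) (hAu.1 x)]
  abel

/-- YADD.conj -/
theorem YADD.conj [Finite V] (M : Subgroup (V ≃ₗ[F] V)) (L : Submodule F V) (g : V ≃ₗ[F] V) (hg : g ∈ M)
    (hgL : ∀ x ∈ L, g x ∈ L) (A : V →ₗ[F] V) (hA : A ∈ yset M L) :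
    (g : V →ₗ[F] V) ∘ₗ A ∘ₗ (g.symm : V →ₗ[F] V) ∈ yset M L := by
  obtain ⟨hAu, gA, hgA, hgA'⟩ := hA
  -- `g` maps `L` onto `L`
  have hsymm : ∀ x ∈ L, g.symm x ∈ L := by
    intro x hx
    let φ : L → L := fun y => ⟨g y, hgL y y.2⟩
    have hinj : Function.Injective φ := by
      intro y y' hyy'
      have := congrArg Subtype.val hyy'
      exact Subtype.ext (g.injective this)
    have hsurj : Function.Surjective φ := Finite.injective_iff_surjective.mp hinj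
    obtain ⟨y, hy⟩ := hsurj ⟨x, hx⟩
    have h1 : g y = x := congrArg Subtype.val hy
    rw [← h1, LinearEquiv.symm_apply_apply]
    exact y.2
  refine ⟨⟨fun x => ?_, fun x hx => ?_⟩, g * gA * g⁻¹, M.mul_mem (M.mul_mem hg hgA) (M.inv_mem hg),
    fun x => ?_⟩
  · simp only [LinearMap.comp_apply, LinearEquiv.coe_coe]
    exact hgL _ (hAu.1 _)
  · simp only [LinearMap.comp_apply, LinearEquiv.coe_coe]
    rw [hAu.2 _ (hsymm x hx), map_zero]
  · have h1 : g⁻¹ x = g.symm x := rfl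
    rw [LinearEquiv.mul_apply, LinearEquiv.mul_apply, hgA', map_add, h1, LinearEquiv.apply_symm_apply]
    simp only [LinearMap.comp_apply, LinearEquiv.coe_coe]

end Cfsg.Agent.S5886P
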