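import Mathlib
import Cfsg.Prelude.Def_GeometricClasses
import Cfsg.Agent.Helper2.S5886.Defs

/-! S5886 piece PROJB (helper22): `PROJ.sum`, `PROJ.of_semi_eq`, `PROJ.of_semi_ne`. -/

set_option autoImplicit false

namespace Cfsg.Agent.S5886P

variable {F K V : Type*} [Field F] [Field K] [Algebra F K]
  [AddCommGroup V] [Module F V] [Module K V] [IsScalarTower F K V]

namespace PROJB

/-- the basis used in `proj` -/
noncomputable abbrev bb (F K : Type*) [Field F] [Field K] [Algebra F K] [Finite F] [Finite K] :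
    Module.Basis (Fin (Module.finrank F K)) F K := Module.finBasis F K

/-- its trace-dual basis -/
noncomputable abbrev bd (F K : Type*) [Field F] [Field K] [Algebra F K] [Finite F] [Finite K] :
    Module.Basis (Fin (Module.finrank F K)) F K :=
  (Algebra.traceForm F K).dualBasis (traceForm_nondegenerate F K) (Module.finBasis F K)

/-- `proj` applied to a vector -/
theorem proj_apply [Finite F] [Finite K] (σ : K ≃ₐ[F] K) (A : V →ₗ[F] V) (x : V) :
    proj σ A x = ∑ i, σ (bd F K i) • A (bb F K i • x) := by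
  unfold proj
  rw [LinearMap.sum_apply]
  rfl

/-- orthogonality: `∑ σ, σ (b i) * σ (b' j) = δ i j` -/
theorem sum_gal [Finite F] [Finite K] (i j : Fin (Module.finrank F K)) :
    ∑ σ : K ≃ₐ[F] K, σ (bb F K i) * σ (bd F K j) = if i = j then 1 else 0 := by
  have h1 : ∑ σ : K ≃ₐ[F] K, σ (bb F K i) * σ (bd F K j) =
      ∑ σ : K ≃ₐ[F] K, σ (bb F K i * bd F K j) := by
    apply Finset.sum_congr rfl
    intro σ _
    rw [map_mul]
  rw [h1, ← trace_eq_sum_automorphisms, ← Algebra.traceForm_apply]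
  have h2 := LinearMap.BilinForm.apply_dualBasis_right (traceForm_nondegenerate F K)
    (Algebra.traceForm_isSymm (R := F) (S := K)) (Module.finBasis F K) i j
  rw [h2]
  split_ifs <;> simp

open Classical in
/-- the dual orthogonality: `∑ i, σ (b' i) * τ (b i) = δ σ τ` -/
theorem sum_basis [Finite F] [Finite K] (σ τ : K ≃ₐ[F] K) :
    ∑ i, σ (bd F K i) * τ (bb F K i) = if σ = τ then 1 else 0 := by
  let P : Matrix (Fin (Module.finrank F K)) (K ≃ₐ[F] K) K := fun i σ => σ (bb F K i)
  let Q : Matrix (K ≃ₐ[F] K) (Fin (Module.finrank F K)) K := fun σ j => σ (bd F K j)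
  have hPQ : P * Q = 1 := by
    ext i j
    rw [Matrix.mul_apply, Matrix.one_apply]
    exact sum_gal i j
  have hcard : Fintype.card (Fin (Module.finrank F K)) = Fintype.card (K ≃ₐ[F] K) := by
    rw [Fintype.card_fin, ← Nat.card_eq_fintype_card, IsGalois.card_aut_eq_finrank]
  have hQP : Q * P = 1 := (Matrix.mul_eq_one_comm_of_equiv (Fintype.card_eq.mp hcard).some).mp hPQ
  have := congrFun (congrFun hQP σ) τ
  rw [Matrix.mul_apply, Matrix.one_apply] at this
  exact this

/-- `∑ i, tr (b' i) • b i = 1` -/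
theorem sum_trace [Finite F] [Finite K] :
    ∑ i, Algebra.trace F K (bd F K i) • bb F K i = 1 := by
  have hdd : (Algebra.traceForm F K).dualBasis (traceForm_nondegenerate F K) (bd F K) = bb F K :=
    LinearMap.BilinForm.dualBasis_dualBasis (traceForm_nondegenerate F K)
      (Algebra.traceForm_isSymm (R := F) (S := K)) (Module.finBasis F K)
  have h1 := (bb F K).sum_repr (1 : K)
  rw [← h1]
  apply Finset.sum_congr rfl
  intro i _
  congr 1
  have h2 := LinearMap.BilinForm.dualBasis_repr_apply (traceForm_nondegenerate F K) (bd F K) (1 : K) i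
  rw [hdd] at h2
  rw [h2, Algebra.traceForm_apply, one_mul]

end PROJB

/-- PROJ.sum -/
theorem PROJ.sum [Finite F] [Finite K] (A : V →ₗ[F] V) : ∑ᶠ σ : K ≃ₐ[F] K, proj σ A = A := by
  rw [finsum_eq_sum_of_fintype]
  ext x
  rw [LinearMap.sum_apply]
  have h1 : ∀ σ : K ≃ₐ[F] K, proj σ A x = ∑ i, σ (PROJB.bd F K i) • A (PROJB.bb F K i • x) :=
    fun σ => PROJB.proj_apply σ A x
  simp only [h1]
  rw [Finset.sum_comm]
  have h2 : ∀ i, ∑ σ : K ≃ₐ[F] K, σ (PROJB.bd F K i) • A (PROJB.bb F K i • x) =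
      A ((Algebra.trace F K (PROJB.bd F K i) • PROJB.bb F K i) • x) := by
    intro i
    rw [← Finset.sum_smul, ← trace_eq_sum_automorphisms, algebraMap_smul, smul_assoc, LinearMap.map_smul]
  simp only [h2]
  rw [← map_sum, ← Finset.sum_smul, PROJB.sum_trace, one_smul]

/-- PROJ.of_semi_eq -/
theorem PROJ.of_semi_eq [Finite F] [Finite K] (σ : K ≃ₐ[F] K) (A : V →ₗ[F] V) (hA : IsSemi σ A) :
    proj σ A = A := by
  ext x
  rw [PROJB.proj_apply]
  have h1 : ∀ i, σ (PROJB.bd F K i) • A (PROJB.bb F K i • x) =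
      (σ (PROJB.bd F K i) * σ (PROJB.bb F K i)) • A x := by
    intro i
    rw [hA, smul_smul]
  simp only [h1]
  rw [← Finset.sum_smul, PROJB.sum_basis, if_pos rfl, one_smul]

/-- PROJ.of_semi_ne -/
theorem PROJ.of_semi_ne [Finite F] [Finite K] (σ τ : K ≃ₐ[F] K) (A : V →ₗ[F] V) (hA : IsSemi τ A)
    (hne : σ ≠ τ) : proj σ A = 0 := by
  ext x
  rw [PROJB.proj_apply]
  have h1 : ∀ i, σ (PROJB.bd F K i) • A (PROJB.bb F K i • x) =
      (σ (PROJB.bd F K i) * τ (PROJB.bb F K i)) • A x := by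
    intro i
    rw [hA, smul_smul]
  simp only [h1]
  rw [← Finset.sum_smul, PROJB.sum_basis, if_neg hne, zero_smul, LinearMap.zero_apply]

end Cfsg.Agent.S5886P
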