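import Mathlib
import Cfsg.Prelude.Def_GeometricClasses
import Cfsg.Agent.Helper2.S5886.Defs
import Cfsg.Agent.Helper2.S5664.Defs
import Cfsg.Agent.Helper22.S5886PROJB
import Cfsg.Agent.Helper22.S5886YADD
import Cfsg.Agent.Helper26.S5886PROJA

/-! S5664 piece YPI, core part (helper22): `proj σ A + proj σ⁻¹ A ∈ yset` from the polarisation
property (YPOL) taken as a hypothesis. -/

set_option autoImplicit false

namespace Cfsg.Agent.S5664P

open Cfsg.Agent.S5886P

variable {F K V : Type*} [Field F] [Field K] [Algebra F K]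
  [AddCommGroup V] [Module F V] [Module K V] [IsScalarTower F K V]

namespace YPI

open Classical in
/-- for a `τ`-semilinear `C`: `∑ i, b_i • C (ρ b_i' • x) = [τ ρ = 1] C x` -/
theorem right_sum [Finite F] [Finite K] (τ ρ : K ≃ₐ[F] K) (C : V →ₗ[F] V) (hC : IsSemi τ C)
    (x : V) :
    ∑ i, PROJB.bb F K i • C (ρ (PROJB.bd F K i) • x) = if τ * ρ = 1 then C x else 0 := by
  have h1 : ∀ i, PROJB.bb F K i • C (ρ (PROJB.bd F K i) • x) =
      ((τ * ρ) (PROJB.bd F K i) * (1 : K ≃ₐ[F] K) (PROJB.bb F K i)) • C x := by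
    intro i
    rw [hC, smul_smul, AlgEquiv.mul_apply, AlgEquiv.one_apply, mul_comm]
  simp only [h1]
  rw [← Finset.sum_smul, PROJB.sum_basis]
  split_ifs <;> simp

/-- `∑ i, b_i • A (σ b_i' • x) = proj σ⁻¹ A x` -/
theorem right_proj [Finite F] [Finite K] (σ : K ≃ₐ[F] K) (A : V →ₗ[F] V) (x : V) :
    ∑ i, PROJB.bb F K i • A (σ (PROJB.bd F K i) • x) = proj σ⁻¹ A x := by
  classical
  have hA : ∀ y, A y = ∑ τ : K ≃ₐ[F] K, proj τ A y := by
    intro y
    conv_lhs => rw [← PROJ.sum (F := F) (K := K) A]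
    rw [finsum_eq_sum_of_fintype, LinearMap.sum_apply]
  have h1 : ∀ i, PROJB.bb F K i • A (σ (PROJB.bd F K i) • x) =
      ∑ τ : K ≃ₐ[F] K, PROJB.bb F K i • proj τ A (σ (PROJB.bd F K i) • x) := by
    intro i
    rw [hA (σ (PROJB.bd F K i) • x), Finset.smul_sum]
  simp only [h1]
  rw [Finset.sum_comm]
  have h2 : ∀ τ : K ≃ₐ[F] K, ∑ i, PROJB.bb F K i • proj τ A (σ (PROJB.bd F K i) • x) =
      if τ * σ = 1 then proj τ A x else 0 :=
    fun τ => right_sum τ σ (proj τ A) (PROJ.semi τ A) x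
  simp only [h2]
  rw [Finset.sum_eq_single σ⁻¹]
  · rw [if_pos (inv_mul_cancel σ)]
  · intro τ _ hne
    rw [if_neg]
    intro h
    exact hne (eq_inv_of_mul_eq_one_left h)
  · intro h
    exact absurd (Finset.mem_univ _) h

/-- finite sums stay in `yset` -/
theorem sum_mem (M : Subgroup (V ≃ₗ[F] V)) (L : Submodule F V) {ι : Type*} (s : Finset ι)
    (f : ι → V →ₗ[F] V) (h : ∀ i ∈ s, f i ∈ yset M L) : ∑ i ∈ s, f i ∈ yset M L := by
  classical
  induction s using Finset.induction_on with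
  | empty =>
    rw [Finset.sum_empty]
    exact YADD.zero M L
  | insert a s ha ih =>
    rw [Finset.sum_insert ha]
    exact YADD.add M L _ _ (h a (Finset.mem_insert_self a s))
      (ih fun i hi => h i (Finset.mem_insert_of_mem hi))

/-- the core of YPI: from the polarisation property -/
theorem core [Finite F] [Finite K] (M : Subgroup (V ≃ₗ[F] V)) (L : Submodule F V)
    (σ : K ≃ₐ[F] K) (A : V →ₗ[F] V)
    (hpol : ∀ e e' : K, e • (A ∘ₗ DistribSMul.toLinearMap F V e') +
      e' • (A ∘ₗ DistribSMul.toLinearMap F V e) ∈ yset M L) :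
    proj σ A + proj σ⁻¹ A ∈ yset M L := by
  have hid : proj σ A + proj σ⁻¹ A =
      ∑ i, (σ (PROJB.bd F K i) • (A ∘ₗ DistribSMul.toLinearMap F V (PROJB.bb F K i)) +
        PROJB.bb F K i • (A ∘ₗ DistribSMul.toLinearMap F V (σ (PROJB.bd F K i)))) := by
    ext x
    rw [LinearMap.add_apply, LinearMap.sum_apply, ← right_proj, PROJB.proj_apply,
      ← Finset.sum_add_distrib]
    rfl
  rw [hid]
  exact sum_mem M L _ _ (fun i _ => hpol _ _)

end YPI

end Cfsg.Agent.S5664P
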