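import Mathlib
import Cfsg.Prelude.Def_GeometricClasses
import Cfsg.Agent.Helper2.S5886.Defs
import Cfsg.Agent.Helper2.S5664.Defs
import Cfsg.Agent.Helper22.S5886PROJB
import Cfsg.Agent.Helper26.S5886PROJA

/-! S5664 piece YREP (helper22): `proj σ A = smap B v σ a`. -/

set_option autoImplicit false

namespace Cfsg.Agent.S5664P

open Cfsg.Agent.S5886P

variable {F K V : Type*} [Field F] [Field K] [Algebra F K]
  [AddCommGroup V] [Module F V] [Module K V] [IsScalarTower F K V]

namespace YREP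

/-- an alternating form is antisymmetric -/
theorem antisymm (B : V →ₗ[K] V →ₗ[K] K) (hB : IsAltND B) (x y : V) : B x y = - B y x := by
  have h := hB.alt (x + y)
  simp only [map_add, LinearMap.add_apply, hB.alt x, hB.alt y] at h
  linear_combination h

/-- a partner `v'` with `B v' v = 1` -/
theorem partner (B : V →ₗ[K] V →ₗ[K] K) (hB : IsAltND B) (v : V) (hv : v ≠ 0) :
    ∃ v' : V, B v' v = 1 := by
  have h : ∃ y, B v y ≠ 0 := by
    by_contra hcon
    push Not at hcon
    exact hv (hB.nd v hcon)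
  obtain ⟨y, hy⟩ := h
  refine ⟨(-(B v y)⁻¹) • y, ?_⟩
  rw [map_smul, LinearMap.smul_apply, smul_eq_mul, antisymm B hB y v]
  field_simp

/-- `proj σ A` kills `v^⊥` if `A` does -/
theorem proj_kill [Finite F] [Finite K] (B : V →ₗ[K] V →ₗ[K] K) (v : V) (A : V →ₗ[F] V)
    (hkill : ∀ x, B x v = 0 → A x = 0) (σ : K ≃ₐ[F] K) (x : V) (hx : B x v = 0) :
    proj σ A x = 0 := by
  rw [PROJB.proj_apply]
  apply Finset.sum_eq_zero
  intro i _
  rw [hkill, smul_zero]
  rw [map_smul, LinearMap.smul_apply, hx, smul_zero]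

end YREP

/-- YREP (M): `proj σ A ∈ ulie (K v)` (PROJ.ulie), is `σ`-semilinear (PROJ.semi) and kills `v^⊥` (each term `A (b_i • x)`, `B (b_i • x) v = 0`). Take `v'` with `B v' v = 1`... (PARTNER, sign): `proj σ A v' = a • v`; for any `x`: `x - B x v • v' ∈ v^⊥`, so `proj σ A x = proj σ A (B x v • v') = σ (B x v) • a • v`. -/
theorem YREP [Finite F] [Finite K] (B : V →ₗ[K] V →ₗ[K] K) (hB : IsAltND B) (v : V) (hv : v ≠ 0)
    (A : V →ₗ[F] V) (hA : A ∈ ulie (Kline (F := F) (K := K) v))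
    (hkill : ∀ x, B x v = 0 → A x = 0) (σ : K ≃ₐ[F] K) :
    ∃ a : K, proj σ A = smap B v σ a := by
  obtain ⟨v', hv'⟩ := YREP.partner B hB v hv
  have hP := PROJ.ulie (F := F) (K := K) v σ A hA
  have hsemi := PROJ.semi (F := F) (K := K) (V := V) σ A
  obtain ⟨a, ha⟩ : ∃ a : K, a • v = proj σ A v' := by
    have h := hP.1 v'
    exact Submodule.mem_span_singleton.mp h
  refine ⟨a, ?_⟩
  ext x
  rw [smap_apply]
  have h0 : B (x - B x v • v') v = 0 := by
    rw [map_sub, LinearMap.sub_apply, map_smul, LinearMap.smul_apply, hv', smul_eq_mul, mul_one,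
      sub_self]
  have h1 := YREP.proj_kill B v A hkill σ _ h0
  have h2 : proj σ A x = proj σ A (x - B x v • v') + proj σ A (B x v • v') := by
    rw [← map_add, sub_add_cancel]
  rw [h2, h1, zero_add, hsemi, ← ha, smul_smul, mul_comm]

end Cfsg.Agent.S5664P
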