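import Cfsg.Agent.Helper22.HSIso

/-!
# The Higman–Sims group of the definitions is isomorphic to the stabiliser of the standard pair
-/

set_option autoImplicit false

namespace Cfsg.Agent.Helper22.HSIso

open Cfsg Cfsg.Agent.Helper27 Cfsg.Agent.Helper22.Co0Mono Cfsg.Agent.Helper22.Co0Center
  Cfsg.Agent.Helper22.Summands Cfsg.Agent.Helper22.QuadForm
  Cfsg.Agent.Helper22.HS100 Cfsg.Agent.Helper22.HS100b Cfsg.Agent.Helper22.HSSimple
  Cfsg.Agent.Helper22.HSBridge Cfsg.Agent.Helper22.OutTwo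

/-- the vector `-(V + U')`, with inner product `-32` with `V` -/
def vecW : ↥leechLattice := -(Spor.leechV + Spor.leechU')

theorem sqNorm_V : sqNorm (Spor.leechV : GolayPt → ℤ) = 48 := by
  show sqNorm Spor.vecV = 48
  decide +kernel

theorem sqNorm_W : sqNorm (vecW : GolayPt → ℤ) = 48 := by
  show sqNorm (-(Spor.vecV + Spor.vecU')) = 48
  decide +kernel

theorem dot_V_W : dotInt (Spor.leechV : GolayPt → ℤ) (vecW : GolayPt → ℤ) = -32 := by
  show dotInt Spor.vecV (-(Spor.vecV + Spor.vecU')) = -32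
  decide +kernel

theorem mem_HS (σ : Equiv.Perm ↥leechLattice) :
    σ ∈ Spor.HS ↔ σ ∈ Co0 ∧ σ Spor.leechV = Spor.leechV ∧ σ Spor.leechU' = Spor.leechU' := by
  unfold Spor.HS Spor.Co3
  rw [Subgroup.mem_inf, Subgroup.mem_inf, MulAction.mem_stabilizer_iff, MulAction.mem_stabilizer_iff,
    Equiv.Perm.smul_def, Equiv.Perm.smul_def, and_assoc]

theorem U'_eq : Spor.leechU' = -vecW - Spor.leechV := by
  unfold vecW
  abel

theorem exists_g0 : ∃ g : ↥Co0, g • Spor.leechV = D0 ∧ g • vecW = -D1 :=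
  to_std Spor.leechV vecW sqNorm_V sqNorm_W dot_V_W

/-- the Higman–Sims group is isomorphic to the stabiliser of the standard pair -/
theorem nonempty_equiv : Nonempty (↥Spor.HS ≃* ↥G0) := by
  obtain ⟨g0, hV, hW⟩ := exists_g0
  have hV' : g0⁻¹ • D0 = Spor.leechV := by rw [inv_smul_eq_iff, hV]
  have hW' : g0⁻¹ • (-D1) = vecW := by rw [inv_smul_eq_iff, hW]
  -- an element of the group, in the group of the lattice
  let toC : ↥Spor.HS → ↥Co0 := fun σ => ⟨σ.1, ((mem_HS σ.1).mp σ.2).1⟩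
  have toC_V : ∀ σ, toC σ • Spor.leechV = Spor.leechV := fun σ => ((mem_HS σ.1).mp σ.2).2.1
  have toC_U : ∀ σ, toC σ • Spor.leechU' = Spor.leechU' := fun σ => ((mem_HS σ.1).mp σ.2).2.2
  have toC_W : ∀ σ, toC σ • vecW = vecW := by
    intro σ
    unfold vecW
    rw [co0_neg, co0_add, toC_V, toC_U]
  have hmem : ∀ σ, g0 * toC σ * g0⁻¹ ∈ G0 := by
    intro σ
    rw [mem_GS]
    constructor
    · rw [mul_smul, mul_smul, hV', toC_V, hV]
    · rw [mul_smul, mul_smul, hW', toC_W, hW]
  let f : ↥Spor.HS →* ↥G0 :=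
    { toFun := fun σ => ⟨g0 * toC σ * g0⁻¹, hmem σ⟩
      map_one' := by
        apply Subtype.ext
        show g0 * toC 1 * g0⁻¹ = 1
        have : toC 1 = 1 := rfl
        rw [this]
        group
      map_mul' := by
        intro σ τ
        apply Subtype.ext
        show g0 * toC (σ * τ) * g0⁻¹ = (g0 * toC σ * g0⁻¹) * (g0 * toC τ * g0⁻¹)
        have : toC (σ * τ) = toC σ * toC τ := rfl
        rw [this]
        group }
  have hinj : Function.Injective f := by
    intro σ τ h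
    have h1 : g0 * toC σ * g0⁻¹ = g0 * toC τ * g0⁻¹ := congrArg Subtype.val h
    have h2 : toC σ = toC τ := mul_left_cancel (mul_right_cancel h1)
    have h3 : (toC σ).1 = (toC τ).1 := congrArg Subtype.val h2
    exact Subtype.ext h3
  have hsurj : Function.Surjective f := by
    intro k
    have hk := (mem_GS _ _ k.1).mp k.2
    set s : ↥Co0 := g0⁻¹ * k.1 * g0 with hs
    have sV : s • Spor.leechV = Spor.leechV := by
      rw [hs, mul_smul, mul_smul, hV, hk.1, hV']
    have sW : s • vecW = vecW := by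
      rw [hs, mul_smul, mul_smul, hW, hk.2, hW']
    have sU : s • Spor.leechU' = Spor.leechU' := by
      rw [U'_eq, co0_sub, co0_neg, sW, sV]
    have hsmem : s.1 ∈ Spor.HS := (mem_HS s.1).mpr ⟨s.2, sV, sU⟩
    refine ⟨⟨s.1, hsmem⟩, ?_⟩
    apply Subtype.ext
    show g0 * toC ⟨s.1, hsmem⟩ * g0⁻¹ = k.1
    have : toC ⟨s.1, hsmem⟩ = s := rfl
    rw [this, hs]
    group
  exact ⟨MulEquiv.ofBijective f ⟨hinj, hsurj⟩⟩

/-- the outer automorphism group of the Higman–Sims group has order two -/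
theorem card_out_HS : Nat.card (Cfsg.Out ↥Spor.HS) = 2 := by
  obtain ⟨e⟩ := nonempty_equiv
  rw [card_out_congr' e]
  exact card_out_G0

end Cfsg.Agent.Helper22.HSIso
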