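import Mathlib
import Cfsg.Prelude.Def_Characters
import Cfsg.Agent.Helper12.LSLDefs
import Cfsg.Agent.Helper24.Integrality

set_option autoImplicit false

namespace Cfsg.Agent.Helper12.LSL

open Matrix Cfsg

theorem dvd_of_conj_invariant {G : Type*} [Group G] [Fintype G] (k : ℕ)
    (ρ : Representation ℂ G (Fin k → ℂ)) (hρ : ρ.IsIrreducible) (T : Finset G)
    (hT : ∀ g h : G, g ∈ T → h * g * h⁻¹ ∈ T) (t : ℤ)
    (ht : ∀ g ∈ T, ρ.character g = (t : ℂ)) : (k : ℤ) ∣ (T.card : ℤ) * t := by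
  classical
  haveI := hρ
  let a : G → ℂ := fun g => if g ∈ T then 1 else 0
  have ha : IsClassFunction G a := by
    intro g h
    have hiff : h * g * h⁻¹ ∈ T ↔ g ∈ T := by
      constructor
      · intro h1
        have h2 := hT _ h⁻¹ h1
        have h3 : h⁻¹ * (h * g * h⁻¹) * h⁻¹⁻¹ = g := by group
        rwa [h3] at h2
      · exact hT g h
    show (if h * g * h⁻¹ ∈ T then (1 : ℂ) else 0) = if g ∈ T then 1 else 0
    by_cases hg : g ∈ T
    · rw [if_pos hg, if_pos (hiff.mpr hg)]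
    · rw [if_neg hg, if_neg (fun h1 => hg (hiff.mp h1))]
  have hai : ∀ g, IsIntegral ℤ (a g) := by
    intro g
    show IsIntegral ℤ (if g ∈ T then (1 : ℂ) else 0)
    split_ifs
    · exact isIntegral_one
    · exact isIntegral_zero
  obtain ⟨c, hc, hcs⟩ := Cfsg.Agent.Helper24.isIntegral_class_sum_div ρ a ha hai
  rw [Module.finrank_fin_fun] at hcs
  have hsum : ∑ g, a g * ρ.character g = (T.card : ℂ) * (t : ℂ) := by
    have h1 : ∀ g, a g * ρ.character g = if g ∈ T then (t : ℂ) else 0 := by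
      intro g
      show (if g ∈ T then (1 : ℂ) else 0) * ρ.character g = _
      by_cases hg : g ∈ T
      · rw [if_pos hg, if_pos hg, one_mul, ht g hg]
      · rw [if_neg hg, if_neg hg, zero_mul]
    rw [Finset.sum_congr rfl (fun g _ => h1 g), ← Finset.sum_filter, Finset.sum_const,
      nsmul_eq_mul]
    congr 2
    congr 1
    ext g
    simp
  rw [hsum] at hcs
  have hk : (k : ℂ) ≠ 0 := by
    have hpos := Cfsg.Agent.Helper24.finrank_pos_of_isIrreducible ρ
    rw [Module.finrank_fin_fun] at hpos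
    exact_mod_cast hpos.ne'
  have hkq : (k : ℚ) ≠ 0 := by
    intro h0
    apply hk
    exact_mod_cast h0
  have hcq : c = (((T.card : ℚ) * (t : ℚ) / (k : ℚ) : ℚ) : ℂ) := by
    push_cast
    rw [eq_div_iff hk]
    exact hcs
  rw [hcq] at hc
  obtain ⟨n, hn⟩ := Cfsg.Agent.Helper24.exists_int_of_isIntegral_ratCast hc
  rw [div_eq_iff hkq] at hn
  refine ⟨n, ?_⟩
  have : ((T.card : ℤ) * t : ℚ) = ((k : ℤ) * n : ℚ) := by
    push_cast
    rw [hn]
    ring
  exact_mod_cast this

end Cfsg.Agent.Helper12.LSL
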