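import Mathlib
import Cfsg.Prelude.Def_Characters
import Cfsg.Agent.Helper12.LSLDefs

set_option autoImplicit false

namespace Cfsg.Agent.Helper12.LSL

open Matrix Cfsg

section generic

variable {A : Type*} [Group A] [Fintype A]

theorem values_sum_split (f : A → ℂ) (t : ℂ) (hf : ∀ a, a ≠ 1 → f a = t) (c : A → ℂ) :
    ∑ a, f a * c a = t * ∑ a, c a + (f 1 - t) * c 1 := by
  classical
  have h1 : ∀ a, f a * c a = t * c a + (if a = 1 then (f 1 - t) * c 1 else 0) := by
    intro a
    by_cases ha : a = 1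
    · subst ha; simp only [if_true]; ring
    · rw [hf a ha, if_neg ha, add_zero]
  rw [Finset.sum_congr rfl (fun a _ => h1 a), Finset.sum_add_distrib, ← Finset.mul_sum,
    Finset.sum_ite_eq' Finset.univ (1 : A) (fun _ => (f 1 - t) * c 1)]
  simp

theorem classInner_of_const_off_one (f : A → ℂ) (t : ℂ) (hf : ∀ a, a ≠ 1 → f a = t)
    (l : A →* ℂ) (hl : ∑ a, l a = 0) :
    classInner f (fun a => l a) = (f 1 - t) / (Fintype.card A : ℂ) := by
  unfold classInner
  rw [values_sum_split f t hf (fun a => (starRingEnd ℂ) (l a))]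
  have h2 : ∑ a, (starRingEnd ℂ) (l a) = 0 := by
    rw [← map_sum, hl, map_zero]
  rw [h2, map_one, map_one, mul_zero, zero_add, mul_one, Nat.card_eq_fintype_card]
  rw [div_eq_inv_mul]

theorem classInner_one_of_const_off_one (f : A → ℂ) (t : ℂ) (hf : ∀ a, a ≠ 1 → f a = t) :
    classInner f (fun _ => (1 : ℂ)) =
      (f 1 + ((Fintype.card A : ℂ) - 1) * t) / (Fintype.card A : ℂ) := by
  unfold classInner
  rw [values_sum_split f t hf (fun _ => (starRingEnd ℂ) (1 : ℂ))]
  rw [map_one, Finset.sum_const, Finset.card_univ, Nat.card_eq_fintype_card, nsmul_eq_mul,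
    mul_one, mul_one, div_eq_inv_mul]
  congr 1
  ring

end generic

end Cfsg.Agent.Helper12.LSL
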