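import Mathlib
import Cfsg.Prelude.Def_Characters
import Cfsg.Agent.Helper12.LSLDefs

set_option autoImplicit false

namespace Cfsg.Agent.Helper12.LSL

open Matrix Cfsg

/-- A vector fixed by a generating set of `G` in an irreducible representation of degree `≥ 2`
vanishes. -/
theorem fixg_generic {G : Type*} [Group G] (k : ℕ) (ρ : Representation ℂ G (Fin k → ℂ))
    (hρ : ρ.IsIrreducible) (hk : 2 ≤ k) (S : Set G) (hS : Subgroup.closure S = ⊤)
    (y : Fin k → ℂ) (h1 : ∀ g ∈ S, ρ g y = y) : y = 0 := by
  classical
  -- all of `G` fixes `y`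
  have hall : ∀ g : G, ρ g y = y := by
    intro g
    have hg : g ∈ Subgroup.closure S := by rw [hS]; trivial
    induction hg using Subgroup.closure_induction with
    | mem x hx => exact h1 x hx
    | one => rw [map_one]; rfl
    | mul x z _ _ hx hz => rw [map_mul, Module.End.mul_apply, hz, hx]
    | inv x _ hx =>
      have h2 : ρ x⁻¹ (ρ x y) = y := by
        rw [← Module.End.mul_apply, ← map_mul, inv_mul_cancel, map_one]; rfl
      rw [hx] at h2
      exact h2
  -- the line through `y` is a subrepresentation
  let L : Subrepresentation ρ := ⟨Submodule.span ℂ {y}, by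
    intro g v hv
    obtain ⟨c, rfl⟩ := Submodule.mem_span_singleton.mp hv
    rw [map_smul, hall g]
    exact Submodule.smul_mem _ _ (Submodule.mem_span_singleton_self y)⟩
  rcases hρ.eq_bot_or_eq_top L with hL | hL
  · have h2 : L.toSubmodule = (⊥ : Subrepresentation ρ).toSubmodule := by rw [hL]
    have h3 : y ∈ L.toSubmodule := Submodule.mem_span_singleton_self y
    rw [h2] at h3
    exact (Submodule.mem_bot ℂ).mp h3
  · exfalso
    have h2 : L.toSubmodule = (⊤ : Subrepresentation ρ).toSubmodule := by rw [hL]
    have h3 : Submodule.span ℂ {y} = (⊤ : Submodule ℂ (Fin k → ℂ)) := h2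
    have h4 : Module.finrank ℂ (Submodule.span ℂ {y}) ≤ 1 := by
      by_cases hy : y = 0
      · rw [hy, Submodule.span_zero_singleton, finrank_bot]
        exact Nat.zero_le 1
      · rw [finrank_span_singleton hy]
    rw [h3, finrank_top, Module.finrank_fin_fun] at h4
    omega

end Cfsg.Agent.Helper12.LSL
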