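import Mathlib
import Cfsg.Prelude.Def_Characters
import Cfsg.Agent.Helper12.LSLDefs
import Cfsg.Agent.Helper28.LSLGEN
import Cfsg.Agent.Helper22.LSLFIXGAux

set_option autoImplicit false

namespace Cfsg.Agent.Helper12.LSL

open Matrix Cfsg

variable {F : Type*} [Field F] {m : ℕ}

theorem eq_zero_of_fixed (hm : 1 ≤ m) (k : ℕ) (ρ : Representation ℂ (GG m F) (Fin k → ℂ))
    (hρ : ρ.IsIrreducible) (hk : 2 ≤ k) (y : Fin k → ℂ) (h1 : ∀ b, ρ (uQ b) y = y)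
    (h2 : ∀ b, ρ (uQm b) y = y) : y = 0 := by
  refine fixg_generic k ρ hρ hk _ (closure_uQ_uQm (F := F) hm) y ?_
  rintro g (⟨b, rfl⟩ | ⟨b, rfl⟩)
  · exact h1 b
  · exact h2 b

end Cfsg.Agent.Helper12.LSL
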