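import Mathlib
import Cfsg.Prelude.Def_Characters
import Cfsg.Agent.Helper12.LSLDefs
import Cfsg.Agent.Helper24.Invariants
import Cfsg.Agent.Helper24.Expansion
import Cfsg.Agent.Helper24.Regular
import Cfsg.Agent.Helper8.Ind

set_option autoImplicit false

namespace Cfsg.Agent.Helper12.LSL

open Matrix Cfsg

theorem exists_irr_of_fixed {M : Type*} [Group M] [Fintype M] {V : Type*} [AddCommGroup V]
    [Module ℂ V] [FiniteDimensional ℂ V] (σ : Representation ℂ M V) (W : Submodule ℂ V)
    (hW : ∀ g : M, ∀ w ∈ W, σ g w ∈ W) (K : Subgroup M) (y : V) (hyW : y ∈ W) (hy : y ≠ 0)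
    (hK : ∀ g ∈ K, σ g y = y) (hM : ∑ g : M, σ g y = 0) :
    ∃ ψ : M → ℂ, IsIrrCharacter M ψ ∧ ψ ≠ (fun _ => 1) ∧
      classInner (indFun K (fun _ => (1 : ℂ))) ψ ≠ 0 ∧
      ∃ d : ℕ, ψ 1 = d ∧ d ≤ Module.finrank ℂ W := by
  classical
  haveI : Fintype (IrrCharacter M) := Fintype.ofFinite _
  let Wr : Subrepresentation σ := ⟨W, fun g v hv => hW g v hv⟩
  let τ : Representation ℂ M W := Wr.toRepresentation
  have hτ : ∀ (g : M) (w : W), ((τ g w : W) : V) = σ g (w : V) := fun g w => rfl
  have hχ : IsCharacter M τ.character := Cfsg.Agent.Helper24.isCharacter_character τ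
  have hχ1 : τ.character 1 = (Module.finrank ℂ W : ℂ) := Representation.char_one τ
  have hcardM : (Nat.card M : ℂ) ≠ 0 := Cfsg.Agent.Helper24.card_ne_zero_complex
  haveI : Invertible (Nat.card M : ℂ) := invertibleOfNonzero hcardM
  -- multiplicity of the trivial character of `M`
  have hinvM : classInner τ.character (fun _ => (1 : ℂ)) =
      (Module.finrank ℂ (Representation.invariants τ) : ℂ) := by
    rw [← Representation.card_inv_mul_sum_char_eq_finrank τ]
    unfold classInner
    congr 1
    refine Finset.sum_congr rfl ?_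
    intro g _
    rw [map_one, mul_one]
  -- multiplicity of the trivial character of `K`
  have hinvK : classInner (fun x : K => τ.character x) (fun _ => (1 : ℂ)) =
      (Module.finrank ℂ (Representation.invariants (τ.comp K.subtype)) : ℂ) :=
    Cfsg.Agent.Helper24.classInner_restrict_one_eq_finrank_invariants τ K
  -- strict inclusion of invariants
  have hlt : Module.finrank ℂ (Representation.invariants τ) <
      Module.finrank ℂ (Representation.invariants (τ.comp K.subtype)) := by
    apply Submodule.finrank_lt_finrank_of_lt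
    refine lt_of_le_of_ne ?_ ?_
    · intro v hv
      rw [Cfsg.Agent.Helper24.mem_invariants_comp_subtype]
      intro h _
      exact (Representation.mem_invariants τ v).mp hv h
    · intro heq
      have hy' : (⟨y, hyW⟩ : W) ∈ Representation.invariants (τ.comp K.subtype) := by
        rw [Cfsg.Agent.Helper24.mem_invariants_comp_subtype]
        intro h hh
        apply Subtype.ext
        rw [hτ]
        exact hK h hh
      rw [← heq] at hy'
      have hall : ∀ g : M, σ g y = y := by
        intro g
        have := (Representation.mem_invariants τ _).mp hy' g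
        have h2 := congrArg Subtype.val this
        rw [hτ] at h2
        exact h2
      rw [Finset.sum_congr rfl (fun g _ => hall g), Finset.sum_const, Finset.card_univ] at hM
      have hc : (Fintype.card M : ℂ) • y = 0 := by
        rw [Nat.cast_smul_eq_nsmul]
        exact hM
      rcases smul_eq_zero.mp hc with h0 | h0
      · have : (Fintype.card M : ℂ) ≠ 0 := by
          rw [← Nat.card_eq_fintype_card]; exact hcardM
        exact this h0
      · exact hy h0
  -- expansion of `χ`
  obtain ⟨n, hn⟩ := Cfsg.Agent.Helper24.IsCharacter.exists_nat_coeff hχ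
  have hnψ : ∀ ψ : IrrCharacter M, classInner τ.character (ψ : M → ℂ) = n ψ := by
    intro ψ
    rw [hn]
    exact Cfsg.Agent.Helper24.classInner_sum_irr _ ψ
  set Ind : M → ℂ := indFun K (fun _ => (1 : ℂ)) with hInd
  -- `⟨Ind, χ⟩ = Σ n_ψ ⟨Ind, ψ⟩`
  have hI : classInner Ind τ.character =
      ∑ ψ : IrrCharacter M, (n ψ : ℂ) * classInner Ind (ψ : M → ℂ) := by
    conv_lhs => rw [hn]
    rw [Cfsg.Agent.Helper24.classInner_sum_right]
    refine Finset.sum_congr rfl ?_
    intro ψ _
    rw [Cfsg.Agent.Helper24.classInner_smul_right, Complex.conj_natCast]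
  -- Frobenius
  have hfrob : classInner Ind τ.character =
      (Module.finrank ℂ (Representation.invariants (τ.comp K.subtype)) : ℂ) := by
    rw [hInd, Cfsg.Agent.Helper8.frobenius_reciprocity K _ _
      (Cfsg.Agent.Helper24.IsCharacter.isClassFunction hχ),
      ← Cfsg.Agent.Helper24.classInner_conj_symm, hinvK, Complex.conj_natCast]
  have hfrob1 : classInner Ind (fun _ => (1 : ℂ)) = 1 := by
    have hcf : IsClassFunction M (fun _ => (1 : ℂ)) := fun _ _ => rfl
    rw [hInd, Cfsg.Agent.Helper8.frobenius_reciprocity K _ _ hcf]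
    unfold classInner
    simp only [map_one, mul_one, Finset.sum_const, Finset.card_univ, nsmul_eq_mul]
    rw [Nat.card_eq_fintype_card]
    have : (Fintype.card K : ℂ) ≠ 0 := by
      exact_mod_cast Fintype.card_ne_zero
    exact inv_mul_cancel₀ this
  let triv : IrrCharacter M := Cfsg.Agent.Helper24.trivIrr M
  have htriv : (triv : M → ℂ) = fun _ => (1 : ℂ) := rfl
  -- there is `ψ ≠ 1` with `n ψ ≠ 0` and `⟨Ind, ψ⟩ ≠ 0`
  have hex : ∃ ψ : IrrCharacter M, ψ ≠ triv ∧ n ψ ≠ 0 ∧ classInner Ind (ψ : M → ℂ) ≠ 0 := by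
    by_contra hcon
    push Not at hcon
    have h1 : ∑ ψ : IrrCharacter M, (n ψ : ℂ) * classInner Ind (ψ : M → ℂ) =
        (n triv : ℂ) * classInner Ind (triv : M → ℂ) := by
      apply Finset.sum_eq_single triv
      · intro ψ _ hne
        by_cases h0 : n ψ = 0
        · rw [h0, Nat.cast_zero, zero_mul]
        · rw [hcon ψ hne h0, mul_zero]
      · intro h; exact absurd (Finset.mem_univ triv) h
    rw [← hI, hfrob, htriv, hfrob1, mul_one, ← hnψ triv, htriv, hinvM] at h1
    have h2 : Module.finrank ℂ (Representation.invariants (τ.comp K.subtype)) =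
        Module.finrank ℂ (Representation.invariants τ) := by exact_mod_cast h1
    omega
  obtain ⟨ψ, hne, hn0, hI0⟩ := hex
  choose dd hdd using fun φ : IrrCharacter M =>
    (Cfsg.Agent.Helper24.isIrrCharacter_one φ.2)
  refine ⟨(ψ : M → ℂ), ψ.2, ?_, hI0, dd ψ, (hdd ψ).2, ?_⟩
  · intro h
    apply hne
    exact Subtype.ext h
  · have h1 : (Module.finrank ℂ W : ℂ) = ((∑ φ : IrrCharacter M, n φ * dd φ : ℕ) : ℂ) := by
      rw [← hχ1]
      conv_lhs => rw [hn]
      rw [Finset.sum_apply]
      push_cast
      refine Finset.sum_congr rfl ?_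
      intro φ _
      rw [Pi.smul_apply, smul_eq_mul, (hdd φ).2]
    have h2 : Module.finrank ℂ W = ∑ φ : IrrCharacter M, n φ * dd φ := by exact_mod_cast h1
    rw [h2]
    calc dd ψ ≤ n ψ * dd ψ := Nat.le_mul_of_pos_left _ (Nat.pos_of_ne_zero hn0)
      _ ≤ ∑ φ : IrrCharacter M, n φ * dd φ :=
        Finset.single_le_sum (f := fun φ => n φ * dd φ) (fun _ _ => Nat.zero_le _)
          (Finset.mem_univ ψ)

end Cfsg.Agent.Helper12.LSL
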