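import Mathlib
import Cfsg.Prelude.Def_Characters
import Cfsg.Agent.Helper12.LSLDefs

set_option autoImplicit false

namespace Cfsg.Agent.Helper12.LSL

open Matrix Cfsg

variable {F : Type*} [Field F] {m : ℕ}

theorem n3mat_vS_val (b : Fin 2 → F) :
    ((vS b : GG 2 F) : Matrix (Unit ⊕ Fin 2) (Unit ⊕ Fin 2) F) =
      fromBlocks (1 : Matrix Unit Unit F) (replicateRow Unit ![0, b 1]) 0 !![1, b 0; 0, 1] := by
  unfold vS
  rw [Matrix.SpecialLinearGroup.coe_mul, uQ_val, lev_val, t01_val, fromBlocks_multiply]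
  congr 1
  · simp
  · ext i j
    fin_cases j <;> simp [Matrix.mul_apply, Fin.sum_univ_two]
  · simp
  · simp

theorem n3mat_ext (A B : GG 2 F)
    (h : ∀ i j, (A : Matrix (Unit ⊕ Fin 2) (Unit ⊕ Fin 2) F) i j =
      (B : Matrix (Unit ⊕ Fin 2) (Unit ⊕ Fin 2) F) i j) : A = B :=
  sl_ext A B (Matrix.ext h)

theorem vS_mul (b b' : Fin 2 → F) : vS b * vS b' = vS (b + b') := by
  apply n3mat_ext
  intro i j
  rw [Matrix.SpecialLinearGroup.coe_mul, n3mat_vS_val, n3mat_vS_val, n3mat_vS_val]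
  rcases i with (⟨⟩ | i) <;> rcases j with (⟨⟩ | j)
  · simp [Matrix.mul_apply, Fintype.sum_sum_type, Fin.sum_univ_two]
  · fin_cases j <;> simp [Matrix.mul_apply, Fintype.sum_sum_type, Fin.sum_univ_two, add_comm]
  · fin_cases i <;> simp [Matrix.mul_apply, Fintype.sum_sum_type, Fin.sum_univ_two]
  · fin_cases i <;> fin_cases j <;>
      simp [Matrix.mul_apply, Fintype.sum_sum_type, Fin.sum_univ_two, add_comm]

theorem vS_zero : vS (0 : Fin 2 → F) = 1 := by
  apply n3mat_ext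
  intro i j
  rw [n3mat_vS_val, Matrix.SpecialLinearGroup.coe_one]
  rcases i with (⟨⟩ | i) <;> rcases j with (⟨⟩ | j)
  · simp
  · fin_cases j <;> simp
  · fin_cases i <;> simp
  · fin_cases i <;> fin_cases j <;> simp

theorem vS_eq_uQ (z : F) : vS ![0, z] = uQ ![0, z] := by
  apply n3mat_ext
  intro i j
  rw [n3mat_vS_val, uQ_val]
  rcases i with (⟨⟩ | i) <;> rcases j with (⟨⟩ | j)
  · simp
  · fin_cases j <;> simp
  · fin_cases i <;> simp
  · fin_cases i <;> fin_cases j <;> simp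

theorem vS_mem_tvSet (b : Fin 2 → F) (hb : b ≠ 0) : vS b ∈ tvSet (Unit ⊕ Fin 2) F := by
  refine ⟨Sum.elim (fun _ => b 1) ![b 0, 0], Sum.elim (fun _ => 0) ![0, 1], ?_, ?_, ?_, ?_⟩
  · intro h
    apply hb
    have h1 := congrFun h (Sum.inl ())
    have h2 := congrFun h (Sum.inr 0)
    funext j
    fin_cases j
    · simpa using h2
    · simpa using h1
  · intro h
    have h1 := congrFun h (Sum.inr 1)
    simp at h1
  · simp [dotProduct, Fintype.sum_sum_type, Fin.sum_univ_two]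
  · rw [n3mat_vS_val]
    ext i j
    rcases i with (⟨⟩ | i) <;> rcases j with (⟨⟩ | j)
    · simp [vecMulVec_apply]
    · fin_cases j <;> simp [vecMulVec_apply]
    · fin_cases i <;> simp [vecMulVec_apply]
    · fin_cases i <;> fin_cases j <;> simp [vecMulVec_apply]

theorem uQ_conj_vS (x : F) (b : Fin 2 → F) :
    uQ ![x, 0] * vS b * (uQ ![x, 0])⁻¹ = vS ![b 0, b 1 + x * b 0] := by
  rw [mul_inv_eq_iff_eq_mul]
  apply n3mat_ext
  intro i j
  rw [Matrix.SpecialLinearGroup.coe_mul, Matrix.SpecialLinearGroup.coe_mul, n3mat_vS_val,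
    n3mat_vS_val, uQ_val]
  rcases i with (⟨⟩ | i) <;> rcases j with (⟨⟩ | j)
  · simp [Matrix.mul_apply, Fintype.sum_sum_type, Fin.sum_univ_two]
  · fin_cases j <;> simp [Matrix.mul_apply, Fintype.sum_sum_type, Fin.sum_univ_two]
  · fin_cases i <;> simp [Matrix.mul_apply, Fintype.sum_sum_type, Fin.sum_univ_two]
  · fin_cases i <;> fin_cases j <;>
      simp [Matrix.mul_apply, Fintype.sum_sum_type, Fin.sum_univ_two]

theorem tor3_conj_vS (s : Fˣ) (b : Fin 2 → F) :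
    tor3 s * vS b * (tor3 s)⁻¹ = vS ![b 0, ((s⁻¹ : Fˣ) : F) ^ 3 * b 1] := by
  rw [mul_inv_eq_iff_eq_mul]
  apply n3mat_ext
  intro i j
  rw [Matrix.SpecialLinearGroup.coe_mul, Matrix.SpecialLinearGroup.coe_mul, n3mat_vS_val,
    n3mat_vS_val, tor3_val]
  have hs : ((s⁻¹ : Fˣ) : F) * (s : F) = 1 := by
    rw [← Units.val_mul, inv_mul_cancel, Units.val_one]
  rcases i with (⟨⟩ | i) <;> rcases j with (⟨⟩ | j)
  · simp [Matrix.mul_apply, Fintype.sum_sum_type, Fin.sum_univ_two]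
  · fin_cases j
    · simp [Matrix.mul_apply, Fintype.sum_sum_type, Fin.sum_univ_two]
    · have key : ((s⁻¹ : Fˣ) : F) ^ 2 * b 1 = ((s⁻¹ : Fˣ) : F) ^ 3 * b 1 * (s : F) := by
        rw [pow_succ _ 2, mul_assoc, mul_assoc, mul_comm (b 1), ← mul_assoc _ (s : F), hs,
          one_mul]
      simpa [Matrix.mul_apply, Fintype.sum_sum_type, Fin.sum_univ_two] using key
  · fin_cases i <;> simp [Matrix.mul_apply, Fintype.sum_sum_type, Fin.sum_univ_two]
  · fin_cases i <;> fin_cases j <;>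
      simp [Matrix.mul_apply, Fintype.sum_sum_type, Fin.sum_univ_two, mul_comm]

theorem tor3_conj_uQ (s : Fˣ) (b : Fin 2 → F) :
    tor3 s * uQ b * (tor3 s)⁻¹ = uQ ((((s⁻¹ : Fˣ) : F) ^ 3) • b) := by
  rw [mul_inv_eq_iff_eq_mul]
  apply n3mat_ext
  intro i j
  rw [Matrix.SpecialLinearGroup.coe_mul, Matrix.SpecialLinearGroup.coe_mul, uQ_val, uQ_val,
    tor3_val]
  have hs : ((s⁻¹ : Fˣ) : F) * (s : F) = 1 := by
    rw [← Units.val_mul, inv_mul_cancel, Units.val_one]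
  rcases i with (⟨⟩ | i) <;> rcases j with (⟨⟩ | j)
  · simp [Matrix.mul_apply, Fintype.sum_sum_type, Fin.sum_univ_two]
  · have key : ((s⁻¹ : Fˣ) : F) ^ 2 * b j = ((s⁻¹ : Fˣ) : F) ^ 3 * b j * (s : F) := by
      rw [pow_succ _ 2, mul_assoc, mul_assoc, mul_comm (b j), ← mul_assoc _ (s : F), hs, one_mul]
    fin_cases j <;>
      simpa [Matrix.mul_apply, Fintype.sum_sum_type, Fin.sum_univ_two] using key
  · fin_cases i <;> simp [Matrix.mul_apply, Fintype.sum_sum_type, Fin.sum_univ_two]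
  · fin_cases i <;> fin_cases j <;>
      simp [Matrix.mul_apply, Fintype.sum_sum_type, Fin.sum_univ_two, mul_comm]

theorem exists_cube_ne_one [Fintype F] (h2 : Fintype.card F ≠ 2) (h4 : Fintype.card F ≠ 4) :
    ∃ s : Fˣ, ((s⁻¹ : Fˣ) : F) ^ 3 ≠ 1 := by
  classical
  by_contra hcon
  push Not at hcon
  obtain ⟨g, hg⟩ := IsCyclic.exists_ofOrder_eq_natCard (α := Fˣ)
  have h1 : g ^ 3 = 1 := by
    have h3 := hcon g
    have h4' : ((g⁻¹ ^ 3 : Fˣ) : F) = ((1 : Fˣ) : F) := by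
      rw [Units.val_pow_eq_pow_val, h3, Units.val_one]
    have h5 : g⁻¹ ^ 3 = 1 := Units.ext h4'
    rw [inv_pow, inv_eq_one] at h5
    exact h5
  have h6 : orderOf g ∣ 3 := orderOf_dvd_of_pow_eq_one h1
  rw [hg, Nat.card_eq_fintype_card, Fintype.card_units] at h6
  have h7 : Fintype.card F - 1 ≤ 3 := Nat.le_of_dvd (by norm_num) h6
  have h8 : 1 < Fintype.card F := Fintype.one_lt_card
  have h9 : Fintype.card F - 1 = 1 ∨ Fintype.card F - 1 = 3 := by
    have := (Nat.dvd_prime Nat.prime_three).mp h6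
    exact this
  omega

end Cfsg.Agent.Helper12.LSL
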