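import Mathlib
import Cfsg.Prelude.Def_Characters
import Cfsg.Agent.Helper12.LSLDefs

set_option autoImplicit false

namespace Cfsg.Agent.Helper12.LSL

open Matrix Cfsg

/-- With `q = r + 1`, `s = 1 + q + ... + q^(m-1)`: `q^m - 1 = s * r`. -/
theorem aritha_geom (r m : ℕ) :
    (r + 1) ^ m - 1 = (∑ i ∈ Finset.range m, (r + 1) ^ i) * r := by
  have h := geom_sum_mul_add r m
  omega

theorem aritha_div_one (r m : ℕ) (hr : 1 ≤ r) :
    ((r + 1) ^ (m + 1) - (r + 1)) / r = (r + 1) * ∑ i ∈ Finset.range m, (r + 1) ^ i := by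
  have h1 : (r + 1) ^ (m + 1) - (r + 1) = (r + 1) * ((r + 1) ^ m - 1) := by
    rw [Nat.mul_sub, mul_one, pow_succ, mul_comm]
  rw [h1, aritha_geom, ← mul_assoc, Nat.mul_div_cancel _ (by omega)]

theorem aritha_div_two (r m : ℕ) (hr : 1 ≤ r) (hm : 1 ≤ m) :
    ((r + 1) ^ m - (r + 1)) / r + 1 = ∑ i ∈ Finset.range m, (r + 1) ^ i := by
  obtain ⟨n, rfl⟩ : ∃ n, m = n + 1 := ⟨m - 1, by omega⟩
  rw [aritha_div_one r n hr, Finset.sum_range_succ', pow_zero, Finset.mul_sum]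
  congr 1
  apply Finset.sum_congr rfl
  intro i _
  rw [pow_succ, mul_comm]

theorem arith_two (q m : ℕ) (hq : 2 ≤ q) (hm : 1 ≤ m) :
    (q ^ (m + 1) - q) / (q - 1) ≤ 2 * (q ^ m - 1) := by
  obtain ⟨r, rfl⟩ : ∃ r, q = r + 1 := ⟨q - 1, by omega⟩
  have hr : 1 ≤ r := by omega
  rw [Nat.add_sub_cancel, aritha_div_one r m hr, aritha_geom]
  set s := ∑ i ∈ Finset.range m, (r + 1) ^ i
  have : (r + 1) * s ≤ 2 * r * s := Nat.mul_le_mul_right s (by omega)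
  calc (r + 1) * s ≤ 2 * r * s := this
    _ = 2 * (s * r) := by ring

theorem arith_final (q m c : ℕ) (hq : 2 ≤ q) (hm : 1 ≤ m)
    (hc : (q ^ m - q) / (q - 1) + 1 ≤ c) :
    (q ^ (m + 1) - q) / (q - 1) ≤ c + (q ^ m - 1) := by
  obtain ⟨r, rfl⟩ : ∃ r, q = r + 1 := ⟨q - 1, by omega⟩
  have hr : 1 ≤ r := by omega
  rw [Nat.add_sub_cancel] at hc ⊢
  rw [aritha_div_two r m hr hm] at hc
  rw [aritha_div_one r m hr, aritha_geom]
  set s := ∑ i ∈ Finset.range m, (r + 1) ^ i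
  calc (r + 1) * s = s + s * r := by ring
    _ ≤ c + s * r := Nat.add_le_add_right hc _

end Cfsg.Agent.Helper12.LSL
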