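import Cfsg.Agent.Helper12.S5683Lib
import Cfsg.Agent.Helper23.S5683RATSIEG

set_option autoImplicit false
set_option linter.unusedSectionVars false
set_option linter.unusedVariables false

/-! S5683 piece FULLK (helper22; driver helper12): if all rational long root groups are full, `M`
contains `S(Q)`. -/

namespace Cfsg.Agent.S5683P

open Matrix Cfsg.Agent.Helper28.Sg Cfsg.Agent.Helper28.Spin Cfsg.Agent.Helper12.OrthGen
  Cfsg.Agent.S2614

variable {F : Type*} [Field F] {m : ℕ}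

namespace FULLK

theorem ee_app (i : Fin m) (k : Idx m) :
    ee F i k = if k = Sum.inr (Sum.inl i) then 1 else 0 := by
  unfold ee
  exact Pi.single_apply _ _ _

theorem ff_app (i : Fin m) (k : Idx m) :
    ff F i k = if k = Sum.inr (Sum.inr i) then 1 else 0 := by
  unfold ff
  exact Pi.single_apply _ _ _

theorem dd_app (k : Idx m) :
    dd F m k = if k = Sum.inl () then 1 else 0 := by
  unfold dd
  exact Pi.single_apply _ _ _

/-- two different coordinate vectors are independent -/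
theorem indep_of_coord {u w : Idx m → F} (a b : Idx m) (hua : u a = 1) (hub : u b = 0)
    (hwa : w a = 0) (hwb : w b = 1) : Indep u w := by
  intro x y h
  have h1 := congrFun h a
  have h2 := congrFun h b
  simp only [Pi.add_apply, Pi.smul_apply, smul_eq_mul, Pi.zero_apply, hua, hub, hwa, hwb, mul_one,
    mul_zero, add_zero, zero_add] at h1 h2
  exact ⟨h1, h2⟩

/-- a vector all of whose coordinate directions lie in the radical group -/
theorem mem_rad_of_coord (M : Subgroup (OG m F)) (i0 : Fin m) (u : Idx m → F)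
    (hQu : QfOdd m F u = 0)
    (hE : ∀ i, i ≠ i0 → ∀ c : F, c • ee F i ∈ Rad M u hQu)
    (hFf : ∀ i, i ≠ i0 → ∀ c : F, c • ff F i ∈ Rad M u hQu)
    (hD : ∀ c : F, c • dd F m ∈ Rad M u hQu) (w : Idx m → F)
    (h1 : w (Sum.inr (Sum.inl i0)) = 0) (h2 : w (Sum.inr (Sum.inr i0)) = 0) :
    w ∈ Rad M u hQu := by
  have h := eq_sum_coord w
  rw [h]
  apply add_mem (hD _)
  apply sum_mem
  intro i _
  by_cases hi : i = i0
  · subst hi
    rw [h1, h2, zero_smul, zero_smul, add_zero]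
    exact zero_mem _
  · exact add_mem (hE i hi _) (hFf i hi _)

/-- the `d`-direction, from the `f_1`-direction and the `e_1`-direction, by conjugation with the
rational element `E(e_1, d)` -/
theorem dd_mem_rad (F₀ : Subfield F) (M : Subgroup (OG m F)) (hM : HasRatO F₀ M) (i1 : Fin m)
    (u : Idx m → F) (hQu : QfOdd m F u = 0)
    (hu1 : u (Sum.inr (Sum.inr i1)) = 0) (hu0 : u (Sum.inl ()) = 0)
    (hE : ∀ c : F, c • ee F i1 ∈ Rad M u hQu) (hFf : ∀ c : F, c • ff F i1 ∈ Rad M u hQu) (c : F) :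
    c • dd F m ∈ Rad M u hQu := by
  have hed : B (QfOdd m F) (ee F i1) (dd F m) = 0 := by
    rw [B_ee, dd_app, if_neg (by simp)]
  obtain ⟨hed', hg⟩ := RATSIEG.mem_rad F₀ M hM (ee F i1) (dd F m) (rat_ee i1) rat_dd (Q_ee i1) hed
  have hgu : mt (QfOdd m F) (siegO (QfOdd m F) (ee F i1) (dd F m) (Q_ee i1) hed) *ᵥ u = u := by
    rw [siegO_mulVec, B_ee, B_dd, hu1, hu0]
    simp
  have hgv : mt (QfOdd m F) (siegO (QfOdd m F) (ee F i1) (dd F m) (Q_ee i1) hed) *ᵥ (c • ff F i1) =
      c • ff F i1 + c • dd F m - c • ee F i1 := by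
    rw [siegO_mulVec, B_ee, B_dd, Q_dd]
    simp only [Pi.smul_apply, smul_eq_mul, ff_app]
    simp
  have key := Rad_conj' hg (hFf c) hQu hgu hgv
  have e : c • dd F m = (c • ff F i1 + c • dd F m - c • ee F i1) - c • ff F i1 + c • ee F i1 := by
    abel
  rw [e]
  exact add_mem (sub_mem key (hFf c)) (hE c)

end FULLK

open FULLK

/-- FULLK: if all rational long root groups are full, `M` contains `S(Q)`. -/
theorem FULLK.S_le (h2 : (2 : F) ≠ 0) (hm : 3 ≤ m) (F₀ : Subfield F) (M : Subgroup (OG m F))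
    (hM : HasRatO F₀ M) (hfull : RootFull F₀ M) : S (QfOdd m F) ≤ M := by
  set i0 : Fin m := ⟨0, by omega⟩ with hi0
  set i1 : Fin m := ⟨1, by omega⟩ with hi1
  have h10 : i1 ≠ i0 := by
    intro h
    have := congrArg Fin.val h
    simp [hi0, hi1] at this
  -- the radical group of `e_0`
  have hEe : ∀ i, i ≠ i0 → ∀ c : F, c • ee F i ∈ Rad M (ee F i0) (Q_ee i0) := by
    intro i hi c
    apply hfull (ee F i0) (ee F i) c (Q_ee i0) (rat_ee i0) (rat_ee i) (Q_ee i)
    · rw [B_ee, ee_app, if_neg (by simp)]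
    · apply indep_of_coord (Sum.inr (Sum.inl i0)) (Sum.inr (Sum.inl i))
      · rw [ee_app, if_pos rfl]
      · rw [ee_app, if_neg (by simpa using hi)]
      · rw [ee_app, if_neg (by simpa using Ne.symm hi)]
      · rw [ee_app, if_pos rfl]
  have hEf : ∀ i, i ≠ i0 → ∀ c : F, c • ff F i ∈ Rad M (ee F i0) (Q_ee i0) := by
    intro i hi c
    apply hfull (ee F i0) (ff F i) c (Q_ee i0) (rat_ee i0) (rat_ff i) (Q_ff i)
    · rw [B_ee, ff_app, if_neg (by simpa using Ne.symm hi)]
    · apply indep_of_coord (Sum.inr (Sum.inl i0)) (Sum.inr (Sum.inr i))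
      · rw [ee_app, if_pos rfl]
      · rw [ee_app, if_neg (by simp)]
      · rw [ff_app, if_neg (by simp)]
      · rw [ff_app, if_pos rfl]
  have hEd : ∀ c : F, c • dd F m ∈ Rad M (ee F i0) (Q_ee i0) := by
    intro c
    apply dd_mem_rad F₀ M hM i1 (ee F i0) (Q_ee i0) _ _ (hEe i1 h10) (hEf i1 h10) c
    · rw [ee_app, if_neg (by simp)]
    · rw [ee_app, if_neg (by simp)]
  -- the radical group of `f_0`
  have hFe : ∀ i, i ≠ i0 → ∀ c : F, c • ee F i ∈ Rad M (ff F i0) (Q_ff i0) := by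
    intro i hi c
    apply hfull (ff F i0) (ee F i) c (Q_ff i0) (rat_ff i0) (rat_ee i) (Q_ee i)
    · rw [B_ff, ee_app, if_neg (by simpa using Ne.symm hi)]
    · apply indep_of_coord (Sum.inr (Sum.inr i0)) (Sum.inr (Sum.inl i))
      · rw [ff_app, if_pos rfl]
      · rw [ff_app, if_neg (by simp)]
      · rw [ee_app, if_neg (by simp)]
      · rw [ee_app, if_pos rfl]
  have hFf : ∀ i, i ≠ i0 → ∀ c : F, c • ff F i ∈ Rad M (ff F i0) (Q_ff i0) := by
    intro i hi c
    apply hfull (ff F i0) (ff F i) c (Q_ff i0) (rat_ff i0) (rat_ff i) (Q_ff i)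
    · rw [B_ff, ff_app, if_neg (by simp)]
    · apply indep_of_coord (Sum.inr (Sum.inr i0)) (Sum.inr (Sum.inr i))
      · rw [ff_app, if_pos rfl]
      · rw [ff_app, if_neg (by simpa using hi)]
      · rw [ff_app, if_neg (by simpa using Ne.symm hi)]
      · rw [ff_app, if_pos rfl]
  have hFd : ∀ c : F, c • dd F m ∈ Rad M (ff F i0) (Q_ff i0) := by
    intro c
    apply dd_mem_rad F₀ M hM i1 (ff F i0) (Q_ff i0) _ _ (hFe i1 h10) (hFf i1 h10) c
    · rw [ff_app, if_neg (by simpa using h10)]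
    · rw [ff_app, if_neg (by simp)]
  have hp : HypPair (QfOdd m F) (ee F i0) (ff F i0) := (sfr m F).hypPair i0
  refine S_le_of_rad (nondeg_odd h2 m) hp ?_ ?_ (w₀ := dd F m) ?_ ?_ ?_
  · intro w hw1 hw2
    rw [B_ee] at hw1
    rw [B_ff] at hw2
    exact mem_rad_of_coord M i0 (ee F i0) (Q_ee i0) hEe hEf hEd w hw2 hw1
  · intro w hw1 hw2
    rw [B_ee] at hw1
    rw [B_ff] at hw2
    exact mem_rad_of_coord M i0 (ff F i0) (Q_ff i0) hFe hFf hFd w hw2 hw1
  · rw [B_ee, dd_app, if_neg (by simp)]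
  · rw [B_ff, dd_app, if_neg (by simp)]
  · rw [Q_dd]
    exact one_ne_zero

end Cfsg.Agent.S5683P
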