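import Mathlib
import Cfsg.Prelude.Def_Characters
import Cfsg.Agent.Helper12.LSpWDefs
import Cfsg.Agent.Helper12.LSpWPDefs
import Cfsg.Agent.Helper12.LSLDefs
import Cfsg.Agent.Helper12.RUSpB
import Cfsg.Agent.Helper20.PermCharI
import Cfsg.Agent.Helper25.SpUH
import Cfsg.Agent.Helper12.WGDefs
import Cfsg.Agent.Helper12.WGDefsC
import Cfsg.Agent.Helper12.WGDefsD
import Cfsg.Agent.Helper12.WGStruct
import Cfsg.Agent.Helper19.WGIOTASURJ

set_option autoImplicit false

/-! # S2524 piece GEN (helper22) -/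

namespace Cfsg.Agent.S2524P

open Matrix Cfsg Cfsg.Agent.S2333P Cfsg.Agent.Helper2.Sp Cfsg.Agent.Helper12.LSp Cfsg.Agent.Helper25
open Cfsg.Agent.Helper12.LSL Cfsg.Agent.Helper20.PermChar

variable {F : Type*} [Field F] [Fintype F]

namespace GEN

open Cfsg.Agent.Helper12.SpTwo Cfsg.Agent.Helper12

omit [Fintype F] in
theorem om_e0_left {m : ℕ} (y : Vec (m + 1) F) :
    om (e0 : Vec (m + 1) F) y = -y (Sum.inr 0) := by
  rw [om_split, e0_inr_zero, e0_inl_zero, res_e0, om_zero_left']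
  ring

omit [Fintype F] in
/-- elements of the complement `Sp_{2m}` act on the `res` part -/
theorem om_iota_inr {m : ℕ} (g : symplecticGroup (Fin m) F) (y : Vec (m + 1) F)
    (hy : y (Sum.inr 0) = 0) :
    om y (act (iota m F (SemidirectProduct.inr g)) y) =
      om (res y) ((g : Matrix (Fin m ⊕ Fin m) (Fin m ⊕ Fin m) F) *ᵥ res y) := by
  unfold act
  rw [iota_mulVec, om_split, iotaFun_inr_zero, res_iotaFun, hy, SemidirectProduct.left_inr,
    SemidirectProduct.right_inr, Heis.one_v, smul_zero, add_zero]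
  ring

end GEN

open Cfsg.Agent.Helper12.SpTwo Cfsg.Agent.Helper12 in
/-- **GEN**: a subgroup containing the stabiliser of `e0` and an element moving the line of `e0`
is everything -/
theorem gen_top {m : ℕ} (H : Subgroup ↥(symplecticGroup (Fin (m + 1)) F))
    (hJ : ∀ x : Gam m F, iota m F x ∈ H) (h : ↥(symplecticGroup (Fin (m + 1)) F)) (hh : h ∈ H)
    (hne : ∀ a : F,
      (h : Matrix (Fin (m + 1) ⊕ Fin (m + 1)) (Fin (m + 1) ⊕ Fin (m + 1)) F) *ᵥ e0 ≠ a • e0) :
    H = ⊤ := by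
  have hfix : ∀ g : ↥(symplecticGroup (Fin (m + 1)) F), act g e0 = e0 → g ∈ H := by
    intro g hg
    obtain ⟨x, rfl⟩ := exists_iota_eq g hg
    exact hJ x
  have he0 : (e0 : Vec (m + 1) F) ∈ RUSp.QS H := by
    refine ⟨fun a => hfix _ ?_, fun v hv => hfix _ (RUSp.act_qq_self hv 0)⟩
    rw [act_Tg, om_self, mul_zero, zero_smul, add_zero]
  have hyQ : act h e0 ∈ RUSp.QS H := RUSp.act_mem_QS hh he0
  by_cases h0 : om (e0 : Vec (m + 1) F) (act h e0) = 0
  · have hy0 : act h e0 (Sum.inr 0) = 0 := by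
      rw [GEN.om_e0_left] at h0
      exact neg_eq_zero.mp h0
    have hw : res (act h e0) ≠ 0 := by
      intro hw0
      apply hne (act h e0 (Sum.inl 0))
      show act h e0 = _
      conv_lhs => rw [vec_decomp (act h e0), hy0, hw0]
      rw [zero_smul, add_zero, emb_zero, add_zero]
    obtain ⟨w', hw'⟩ := exists_om_ne_zero hw
    have hk : iota m F (SemidirectProduct.inr (Tg w' 1)) ∈ H := hJ _
    have hy'T : act (iota m F (SemidirectProduct.inr (Tg w' 1))) (act h e0) ∈ TS H :=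
      act_mem_TS hk (RUSp.QS_subset_TS hyQ)
    apply RUSp.eq_top_of_QS hyQ hy'T
    rw [GEN.om_iota_inr _ _ hy0, Tg_mulVec, om_add_right, om_self, zero_add, om_smul_right, one_mul,
      om_swap (res (act h e0)) w']
    exact mul_ne_zero (neg_ne_zero.mpr hw') hw'
  · exact RUSp.eq_top_of_QS he0 (RUSp.QS_subset_TS hyQ) h0

end Cfsg.Agent.S2524P
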