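import Mathlib
import Cfsg.Prelude.Def_Characters
import Cfsg.Agent.Helper12.WGDefs

/-! # S2524 piece ARITH -/

set_option autoImplicit false

namespace Cfsg.Agent.S2524P

open Matrix Cfsg Cfsg.Agent.S2333P

/-- **ARITH** -/
theorem weil_degree_lt_gap {q n : ℕ} (hq : 3 ≤ q) (hodd : Odd q) (hn : 2 ≤ n) :
    (((q ^ n - 1) / 2 + 1 : ℕ) : ℝ) < gapR q n := by
  have hN : q ^ 2 ≤ q ^ n := Nat.pow_le_pow_right (by omega) hn
  obtain ⟨k, hk⟩ : Odd (q ^ n) := hodd.pow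
  have hqN : q ≤ q ^ n := by
    calc q = q ^ 1 := (pow_one q).symm
      _ ≤ q ^ n := Nat.pow_le_pow_right (by omega) (by omega)
  unfold gapR
  rw [hk] at hN hqN ⊢
  have e1 : (2 * k + 1 - 1) / 2 = k := by omega
  have e2 : 2 * k + 1 - 1 = 2 * k := by omega
  rw [e1, e2, Nat.cast_sub hqN]
  push_cast
  have hQ : (3 : ℝ) ≤ (q : ℝ) := by exact_mod_cast hq
  have hK : (q : ℝ) ^ 2 ≤ 2 * (k : ℝ) + 1 := by exact_mod_cast hN
  have hK0 : (0 : ℝ) ≤ (k : ℝ) := Nat.cast_nonneg k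
  rw [lt_div_iff₀ (by positivity)]
  nlinarith [mul_nonneg hK0 (sub_nonneg.mpr hQ), sq_nonneg ((q : ℝ) - 3), sq_nonneg ((k : ℝ) - q)]

end Cfsg.Agent.S2524P
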