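import Mathlib
import Cfsg.Agent.Helper7.K2M.Defs
import Cfsg.Agent.Helper13.K2MSPDefs
import Cfsg.Agent.Helper4.K2MQB
import Cfsg.Agent.Helper3.K2MRACT
import Cfsg.Agent.Helper18.K2MSPREFL
import Cfsg.Agent.Helper19.K2MOMEGA

set_option autoImplicit false
set_option linter.unusedSectionVars false
set_option linter.unusedVariables false

/-! # S5694, `k = 2` minus blocks, chapter SPREAD, piece SPPURE (helper22) -/

namespace Cfsg.Agent.K2M

open Matrix Cfsg.Agent.OC2P Cfsg.Agent.Helper28.Sg Cfsg.Agent.Helper28.Spin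
  Cfsg.Agent.Helper12.OrthGen

variable {F : Type*} [Field F] [Fintype F] {t : ℕ} {Q : QuadraticForm F (Fin t × Fin 2 → F)}
  {q : QuadraticForm F (Fin 2 → F)}

namespace SPPURE

/-- a pair reflection `r_{binj i y} r_{binj j y}` on free blocks `i, j` of `u` maps `Rad H u` to itself -/
theorem pair_Rad (bm : BM Q q) (ht : 3 ≤ t) {H : Subgroup (OG Q)} (hH : HasMO H)
    {u : Fin t × Fin 2 → F} (hu : Q u = 0) (i j : Fin t) (hui : bproj i u = 0)
    (huj : bproj j u = 0) {y : Fin 2 → F} (hQi : Q (binj i y) ≠ 0) (hQj : Q (binj j y) ≠ 0)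
    {w : Fin t × Fin 2 → F} (hw : w ∈ Rad H u hu) :
    mt Q (reflO Q (binj i y) hQi) *ᵥ (mt Q (reflO Q (binj j y) hQj) *ᵥ w) ∈ Rad H u hu := by
  have hg : reflO Q (binj i y) hQi * reflO Q (binj j y) hQj ∈ H :=
    OMEGA.pair_mem bm ht hH i j y y hQi hQj ⟨q y, rfl⟩
  have hgu : mt Q (reflO Q (binj i y) hQi * reflO Q (binj j y) hQj) *ᵥ u = u := by
    rw [mt_mul_mulVec, SPREFL.fix bm j y hQj u huj, SPREFL.fix bm i y hQi u hui]
  exact Rad_conj' hg hw hu hgu (mt_mul_mulVec Q _ _ w)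

end SPPURE

/-- SPPURE (M): a pure block-`p` vector in `Rad H u`. -/
theorem SPPURE (bm : BM Q q) (ht : 3 ≤ t) {H : Subgroup (OG Q)} (hH : HasMO H)
    {u : Fin t × Fin 2 → F} (hu : Q u = 0) {p p' p'' : Fin t} (h1 : p ≠ p') (h2 : p ≠ p'')
    (h3 : p' ≠ p'') (hup : bproj p u = 0) (hup' : bproj p' u = 0) (hup'' : bproj p'' u = 0)
    {w : Fin t × Fin 2 → F} (hw : w ∈ Rad H u hu) (hwp : bproj p w ≠ 0) :
    ∃ a : Fin 2 → F, a ≠ 0 ∧ binj p a ∈ Rad H u hu := by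
  -- the first mirror
  obtain ⟨y, hy1⟩ := QB.exists_polar_ne bm hwp
  have hyw : QuadraticMap.polar ⇑q y (bproj p w) = 1 := by
    rw [QuadraticMap.polar_comm]; exact hy1
  have hy0 : y ≠ 0 := by
    intro h
    rw [h, QuadraticMap.polar_zero_left] at hyw
    exact zero_ne_one hyw
  have hqy : q y ≠ 0 := fun h => hy0 (bm.aniso y h)
  have hQ : ∀ i : Fin t, Q (binj i y) ≠ 0 := fun i => by rw [QB.Q_binj bm]; exact hqy
  -- the second mirror
  obtain ⟨y₂, hy2⟩ := QB.exists_polar_ne bm hy0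
  have hy2y : QuadraticMap.polar ⇑q y₂ y = 1 := by
    rw [QuadraticMap.polar_comm]; exact hy2
  have hy20 : y₂ ≠ 0 := by
    intro h
    rw [h, QuadraticMap.polar_zero_left] at hy2y
    exact zero_ne_one hy2y
  have hqy2 : q y₂ ≠ 0 := fun h => hy20 (bm.aniso y₂ h)
  have hQ2 : ∀ i : Fin t, Q (binj i y₂) ≠ 0 := fun i => by rw [QB.Q_binj bm]; exact hqy2
  -- first step
  set w' := mt Q (reflO Q (binj p' y) (hQ p')) *ᵥ w with hw'
  set w'' := mt Q (reflO Q (binj p y) (hQ p)) *ᵥ w' with hw''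
  have hw''R : w'' ∈ Rad H u hu := SPPURE.pair_Rad bm ht hH hu p p' hup hup' (hQ p) (hQ p') hw
  have hw₁R : w'' - w ∈ Rad H u hu := (Rad H u hu).sub_mem hw''R hw
  have e1 : w' - w = binj p' ((-((q y)⁻¹ * QuadraticMap.polar ⇑q y (bproj p' w))) • y) :=
    SPREFL.sub bm p' y (hQ p') w
  have e2 : w'' - w' = binj p ((-((q y)⁻¹ * QuadraticMap.polar ⇑q y (bproj p w'))) • y) :=
    SPREFL.sub bm p y (hQ p) w'
  have e3 : bproj p w' = bproj p w := by
    have : w' = w + binj p' ((-((q y)⁻¹ * QuadraticMap.polar ⇑q y (bproj p' w))) • y) := by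
      rw [← e1]; abel
    rw [this, QB.bproj_add, bproj_binj_ne h1, add_zero]
  rw [e3, hyw, mul_one] at e2
  have e4 : w'' - w = binj p ((-(q y)⁻¹) • y) +
      binj p' ((-((q y)⁻¹ * QuadraticMap.polar ⇑q y (bproj p' w))) • y) := by
    rw [← e1, ← e2]; abel
  have e5 : bproj p (w'' - w) = (-(q y)⁻¹) • y := by
    rw [e4, QB.bproj_add, bproj_binj, bproj_binj_ne h1, add_zero]
  have e6 : bproj p'' (w'' - w) = 0 := by
    rw [e4, QB.bproj_add, bproj_binj_ne (Ne.symm h2), bproj_binj_ne (Ne.symm h3), add_zero]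
  -- second step
  set w₁ := w'' - w with hw₁
  have hzR : mt Q (reflO Q (binj p y₂) (hQ2 p)) *ᵥ (mt Q (reflO Q (binj p'' y₂) (hQ2 p'')) *ᵥ w₁) ∈
      Rad H u hu := SPPURE.pair_Rad bm ht hH hu p p'' hup hup'' (hQ2 p) (hQ2 p'') hw₁R
  rw [SPREFL.fix bm p'' y₂ (hQ2 p'') w₁ e6] at hzR
  have hz₁R : mt Q (reflO Q (binj p y₂) (hQ2 p)) *ᵥ w₁ - w₁ ∈ Rad H u hu :=
    (Rad H u hu).sub_mem hzR hw₁R
  rw [SPREFL.sub bm p y₂ (hQ2 p) w₁, e5, QuadraticMap.polar_smul_right, hy2y, smul_eq_mul,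
    mul_one] at hz₁R
  refine ⟨_, ?_, hz₁R⟩
  have hc : -((q y₂)⁻¹ * -(q y)⁻¹) ≠ 0 :=
    neg_ne_zero.mpr (mul_ne_zero (inv_ne_zero hqy2) (neg_ne_zero.mpr (inv_ne_zero hqy)))
  exact smul_ne_zero hc hy20

end Cfsg.Agent.K2M
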