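import Mathlib
import Cfsg.Agent.Helper7.K2M.Defs
import Cfsg.Agent.Helper13.K2MSPDefs
import Cfsg.Agent.Helper4.K2MQB
import Cfsg.Agent.Helper13.K2MSPCOUNT
import Cfsg.Agent.Helper18.K2MSPRINV
import Cfsg.Agent.Helper22.K2MSPPURE

set_option autoImplicit false
set_option linter.unusedSectionVars false
set_option linter.unusedVariables false

/-! # S5694, `k = 2` minus blocks, chapter SPREAD, piece SPBLK (helper22) -/

namespace Cfsg.Agent.K2M

open Matrix Cfsg.Agent.OC2P Cfsg.Agent.Helper28.Sg Cfsg.Agent.Helper28.Spin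
  Cfsg.Agent.Helper12.OrthGen

variable {F : Type*} [Field F] [Fintype F] {t : ℕ} {Q : QuadraticForm F (Fin t × Fin 2 → F)}
  {q : QuadraticForm F (Fin 2 → F)}

namespace SPBLK

/-- `binj p` as an additive homomorphism -/
def binjHom (p : Fin t) : (Fin 2 → F) →+ (Fin t × Fin 2 → F) where
  toFun := binj p
  map_zero' := QB.binj_zero p
  map_add' := QB.binj_add p

end SPBLK

/-- SPBLK (M): the whole block `p` lies in `Rad H u`. -/
theorem SPBLK (bm : BM Q q) (ht : 3 ≤ t) {H : Subgroup (OG Q)} (hH : HasMO H)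
    {u : Fin t × Fin 2 → F} (hu : Q u = 0) {p p' p'' : Fin t} (h1 : p ≠ p') (h2 : p ≠ p'')
    (h3 : p' ≠ p'') (hup : bproj p u = 0) (hup' : bproj p' u = 0) (hup'' : bproj p'' u = 0)
    {w : Fin t × Fin 2 → F} (hw : w ∈ Rad H u hu) (hwp : bproj p w ≠ 0) (y : Fin 2 → F) :
    binj p y ∈ Rad H u hu := by
  have hA : (Rad H u hu).comap (SPBLK.binjHom p) = ⊤ := by
    apply SPCOUNT bm.aniso bm.ndq
    · obtain ⟨a, ha0, ha⟩ := SPPURE bm ht hH hu h1 h2 h3 hup hup' hup'' hw hwp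
      exact ⟨a, ha, ha0⟩
    · intro y hy a ha
      exact SPRINV bm ht hH hu h1 hup hup' ha hy
  have hy : y ∈ (Rad H u hu).comap (SPBLK.binjHom p) := by
    rw [hA]
    trivial
  exact hy

end Cfsg.Agent.K2M
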