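import Mathlib
import Cfsg.Agent.Helper13.S3816Defs
import Cfsg.Agent.Helper13.S3816Basic
import Cfsg.Agent.Helper22.S3816MC1

/-! Board `s3816pieces`, row MINN: `MC.exists_minN`, `MinN.elemAb`. -/

set_option autoImplicit false

namespace Cfsg.Agent.S3816P

open scoped commutatorElement

universe u

variable {G : Type u} [Group G] [Finite G] {p : ℕ} [Fact p.Prime] {A K N : Subgroup G}

/-- in a minimal counterexample `K ≠ ⊥` -/
theorem MINN_aux_K_ne (mc : MC p A K) : K ≠ ⊥ := by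
  intro h
  apply mc.neg
  unfold Thm
  have h1 : ⁅K, A⁆ ≤ K := MC1_aux_comm_le mc.hyp.norm
  have h2 : (⁅K, A⁆ : Subgroup G) ≤ ⊥ := h1.trans (le_of_eq h)
  exact inf_le_left.trans (h2.trans bot_le)

/-- MINN -/
theorem MC.exists_minN (mc : MC p A K) : ∃ N : Subgroup G, MinN K N := by
  classical
  have hKn : K.Normal := mc.normalK
  have hKne : K ≠ ⊥ := MINN_aux_K_ne mc
  -- the set of candidate cardinalities
  let P : ℕ → Prop := fun n => ∃ M : Subgroup G, M ≤ K ∧ M ≠ ⊥ ∧ M.Normal ∧ Nat.card M = n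
  have hex : ∃ n, P n := ⟨Nat.card K, K, le_rfl, hKne, hKn, rfl⟩
  obtain ⟨N, hNK, hNne, hNn, hNcard⟩ := Nat.find_spec hex
  refine ⟨N, hNK, hNne, hNn, ?_⟩
  intro M hMN hMn hMne
  have h1 : Nat.find hex ≤ Nat.card M := Nat.find_min' hex ⟨M, hMN.trans hNK, hMne, hMn, rfl⟩
  rw [← hNcard] at h1
  by_contra hne
  have hlt : M < N := lt_of_le_of_ne hMN hne
  have h2 : (M : Set G) ⊂ (N : Set G) := SetLike.coe_ssubset_coe.mpr hlt
  have h3 : Nat.card M < Nat.card N := Set.ncard_lt_ncard h2 (Set.toFinite _)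
  omega

/-- MINN -/
theorem MinN.elemAb (mc : MC p A K) (hN : MinN K N) :
    ∃ r : ℕ, r.Prime ∧ r ≠ p ∧ (∀ n ∈ N, n ^ r = 1) ∧ ∀ m ∈ N, ∀ n ∈ N, m * n = n * m := by
  haveI hNn : N.Normal := hN.normal
  -- `N` is solvable
  haveI hsolN : Group.IsSolvable ↥N := by
    haveI := mc.hyp.solv
    exact solvable_of_solvable_injective (Subgroup.inclusion_injective hN.le)
  -- `N' = 1`
  have hcomm : (⁅N, N⁆ : Subgroup G) = ⊥ := by
    by_contra hne
    have hnorm : (⁅N, N⁆ : Subgroup G).Normal := Subgroup.commutator_normal N N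
    have hle : (⁅N, N⁆ : Subgroup G) ≤ N := Subgroup.commutator_le_left N N
    have heq : (⁅N, N⁆ : Subgroup G) = N := hN.min _ hle hnorm hne
    -- then `N` is perfect and solvable, so trivial
    have hperf : ⁅(⊤ : Subgroup ↥N), (⊤ : Subgroup ↥N)⁆ = ⊤ := by
      apply Subgroup.map_injective N.subtype_injective
      rw [Subgroup.map_commutator, ← MonoidHom.range_eq_map, Subgroup.range_subtype, heq]
    have hder : ∀ n : ℕ, derivedSeries ↥N n = ⊤ := by
      intro n
      induction n with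
      | zero => rfl
      | succ n ih => rw [derivedSeries_succ, ih, hperf]
    obtain ⟨n, hn⟩ := hsolN.solvable
    rw [hder n] at hn
    apply hN.ne
    rw [eq_bot_iff]
    intro x hx
    have h1 : (⟨x, hx⟩ : ↥N) ∈ (⊤ : Subgroup ↥N) := Subgroup.mem_top _
    rw [hn, Subgroup.mem_bot] at h1
    have := congrArg Subtype.val h1
    simpa using this
  have hab : ∀ m ∈ N, ∀ n ∈ N, m * n = n * m := by
    intro m hm n hn
    have h1 : ⁅m, n⁆ ∈ (⁅N, N⁆ : Subgroup G) := Subgroup.commutator_mem_commutator hm hn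
    rw [hcomm, Subgroup.mem_bot] at h1
    exact commutatorElement_eq_one_iff_mul_comm.mp h1
  -- a prime divisor `r` of `|N|`
  have hcardN : Nat.card N ≠ 1 := by
    intro h1
    exact hN.ne (Subgroup.card_eq_one.mp h1)
  obtain ⟨r, hr, hrdvd⟩ := Nat.exists_prime_and_dvd hcardN
  haveI : Fact r.Prime := ⟨hr⟩
  have hrp : r ≠ p := by
    rintro rfl
    have h1 : r ∣ Nat.card K := hrdvd.trans (Subgroup.card_dvd_of_le hN.le)
    have h2 : r ∣ Nat.gcd (Nat.card K) r := Nat.dvd_gcd h1 dvd_rfl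
    rw [Nat.Coprime.gcd_eq_one mc.hyp.cop] at h2
    exact hr.one_lt.ne' (Nat.dvd_one.mp h2)
  -- `Ω = {n ∈ N | n^r = 1}`
  let Om : Subgroup G :=
    { carrier := {n | n ∈ N ∧ n ^ r = 1}
      mul_mem' := by
        rintro a b ⟨ha, ha'⟩ ⟨hb, hb'⟩
        refine ⟨N.mul_mem ha hb, ?_⟩
        have hc : Commute a b := hab a ha b hb
        rw [hc.mul_pow, ha', hb', one_mul]
      one_mem' := ⟨N.one_mem, one_pow r⟩
      inv_mem' := by
        rintro a ⟨ha, ha'⟩
        exact ⟨N.inv_mem ha, by rw [inv_pow, ha', inv_one]⟩ }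
  have hOmN : Om ≤ N := fun n hn => hn.1
  have hOmn : Om.Normal := by
    refine ⟨fun n hn g => ⟨hNn.conj_mem n hn.1 g, ?_⟩⟩
    rw [conj_pow, hn.2]; group
  have hOmne : Om ≠ ⊥ := by
    obtain ⟨x, hx⟩ := exists_prime_orderOf_dvd_card' (G := ↥N) r hrdvd
    intro hbot
    have h1 : (x : G) ∈ Om := by
      refine ⟨x.2, ?_⟩
      have h2 : x ^ r = 1 := by rw [← hx]; exact pow_orderOf_eq_one x
      have := congrArg Subtype.val h2
      simpa using this
    rw [hbot, Subgroup.mem_bot] at h1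
    have h3 : x = 1 := Subtype.ext h1
    rw [h3, orderOf_one] at hx
    exact hr.one_lt.ne hx
  have hOmeq : Om = N := hN.min Om hOmN hOmn hOmne
  refine ⟨r, hr, hrp, ?_, hab⟩
  intro n hn
  have : n ∈ Om := by rw [hOmeq]; exact hn
  exact this.2

end Cfsg.Agent.S3816P
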