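import Mathlib
import Cfsg.Agent.Helper13.S3816Defs
import Cfsg.Agent.Helper13.S3816Basic
import Cfsg.Agent.Helper22.S3816MC1
import Cfsg.Agent.Helper22.S3816MINN

/-! Board `s3816pieces`, row C2CD: `c2_compl` (complete) and the core of `c2_cent` (with the statement of
`MC.not_fixN_le` (row MC3) as a hypothesis). -/

set_option autoImplicit false

namespace Cfsg.Agent.S3816P

open scoped commutatorElement

universe u

variable {G : Type u} [Group G] [Finite G] {p : ℕ} [Fact p.Prime] {A K N : Subgroup G}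

/-- a subgroup mapped into itself by the conjugations from `B` is normalised by `B` -/
theorem C2CD_aux_norm {H B : Subgroup G} (h : ∀ b ∈ B, ∀ x ∈ H, b * x * b⁻¹ ∈ H) :
    B ≤ Subgroup.normalizer (H : Set G) := by
  intro b hb
  rw [Subgroup.mem_normalizer_iff]
  intro x
  constructor
  · exact h b hb x
  · intro hx
    have h1 := h b⁻¹ (B.inv_mem hb) _ hx
    have e : b⁻¹ * (b * x * b⁻¹) * b⁻¹⁻¹ = x := by group
    rwa [e] at h1

/-- `M` is normal in `G` if it is normalised by `W`, `N`, `A` and `W ⊔ N = K`, `K ⊔ A = ⊤` -/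
theorem C2CD_aux_normal {M W : Subgroup G} (htop : K ⊔ A = ⊤) (hWN : W ⊔ N = K)
    (hW : W ≤ Subgroup.normalizer (M : Set G)) (hN : N ≤ Subgroup.normalizer (M : Set G))
    (hA : A ≤ Subgroup.normalizer (M : Set G)) : M.Normal := by
  have h1 : K ⊔ A ≤ Subgroup.normalizer (M : Set G) := by
    rw [← hWN]
    exact sup_le (sup_le hW hN) hA
  rw [htop] at h1
  exact Subgroup.normalizer_eq_top_iff.mp (top_le_iff.mp h1)

/-- C2C -/
theorem c2_compl (mc : MC p A K) (hN : MinN K N) {k : G} (hk : k ∈ K) (hkN : cA A k ⊔ N = K) :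
    cA A k ⊓ N = ⊥ := by
  obtain ⟨r, -, -, -, hab⟩ := hN.elemAb mc
  have hNn : N.Normal := hN.normal
  by_contra hne
  have hnorm : (cA A k ⊓ N : Subgroup G).Normal := by
    apply C2CD_aux_normal mc.top hkN
    · apply C2CD_aux_norm
      intro w hw x hx
      exact ⟨(cA A k).mul_mem ((cA A k).mul_mem hw hx.1) ((cA A k).inv_mem hw), hNn.conj_mem x hx.2 w⟩
    · apply C2CD_aux_norm
      intro n hn x hx
      have h1 : n * x * n⁻¹ = x := by rw [hab n hn x hx.2]; group
      rw [h1]; exact hx
    · apply C2CD_aux_norm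
      intro a ha x hx
      exact ⟨(Subgroup.mem_normalizer_iff.mp (cA_normalized A k ha) x).mp hx.1, hNn.conj_mem x hx.2 a⟩
  have heq : cA A k ⊓ N = N := hN.min _ inf_le_right hnorm hne
  have hNW : N ≤ cA A k := by rw [← heq]; exact inf_le_left
  have : cA A k = K := by rw [← hkN]; exact (sup_eq_left.mpr hNW).symm
  exact mc.cA_ne hk this

/-- C2D, core: the statement of `MC.not_fixN_le` is a hypothesis -/
theorem C2CD_aux_cent (mc : MC p A K) (hN : MinN K N) (h2 : ¬ N ≤ Subgroup.centralizer (A : Set G))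
    {k : G} (hkN : cA A k ⊔ N = K)
    (hnf : ¬ (N ⊓ Subgroup.centralizer (A : Set G) ≤ DD A K)) :
    N ⊓ Subgroup.centralizer (cA A k : Set G) = ⊥ := by
  obtain ⟨r, -, -, -, hab⟩ := hN.elemAb mc
  have hNn : N.Normal := hN.normal
  by_contra hne
  have hnorm : (N ⊓ Subgroup.centralizer (cA A k : Set G) : Subgroup G).Normal := by
    apply C2CD_aux_normal mc.top hkN
    · apply C2CD_aux_norm
      intro w hw x hx
      have h1 : w * x * w⁻¹ = x := by
        have := (Subgroup.mem_centralizer_iff.mp hx.2) w hw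
        rw [this]; group
      rw [h1]; exact hx
    · apply C2CD_aux_norm
      intro n hn x hx
      have h1 : n * x * n⁻¹ = x := by rw [hab n hn x hx.1]; group
      rw [h1]; exact hx
    · apply C2CD_aux_norm
      intro a ha x hx
      refine ⟨hNn.conj_mem x hx.1 a, ?_⟩
      show a * x * a⁻¹ ∈ Subgroup.centralizer (cA A k : Set G)
      rw [Subgroup.mem_centralizer_iff]
      intro w hw
      have hw' : a⁻¹ * w * a⁻¹⁻¹ ∈ cA A k :=
        (Subgroup.mem_normalizer_iff.mp (cA_normalized A k (A.inv_mem ha)) w).mp hw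
      have h3 := (Subgroup.mem_centralizer_iff.mp hx.2) _ hw'
      calc w * (a * x * a⁻¹) = a * ((a⁻¹ * w * a⁻¹⁻¹) * x) * a⁻¹ := by group
        _ = a * (x * (a⁻¹ * w * a⁻¹⁻¹)) * a⁻¹ := by rw [h3]
        _ = a * x * a⁻¹ * w := by group
  have heq : N ⊓ Subgroup.centralizer (cA A k : Set G) = N := hN.min _ inf_le_left hnorm hne
  have hNC : N ≤ Subgroup.centralizer (cA A k : Set G) := by rw [← heq]; exact inf_le_right
  -- now `N ⊓ C(A)` is normal in `G`
  have hnorm2 : (N ⊓ Subgroup.centralizer (A : Set G) : Subgroup G).Normal := by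
    apply C2CD_aux_normal mc.top hkN
    · apply C2CD_aux_norm
      intro w hw x hx
      have h1 : w * x * w⁻¹ = x := by
        have := (Subgroup.mem_centralizer_iff.mp (hNC hx.1)) w hw
        rw [this]; group
      rw [h1]; exact hx
    · apply C2CD_aux_norm
      intro n hn x hx
      have h1 : n * x * n⁻¹ = x := by rw [hab n hn x hx.1]; group
      rw [h1]; exact hx
    · apply C2CD_aux_norm
      intro a ha x hx
      have h1 : a * x * a⁻¹ = x := by
        have := (Subgroup.mem_centralizer_iff.mp hx.2) a ha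
        rw [this]; group
      rw [h1]; exact hx
  by_cases hbot : N ⊓ Subgroup.centralizer (A : Set G) = ⊥
  · apply hnf
    rw [hbot]; exact bot_le
  · have heq2 : N ⊓ Subgroup.centralizer (A : Set G) = N := hN.min _ inf_le_left hnorm2 hbot
    apply h2
    rw [← heq2]; exact inf_le_right

end Cfsg.Agent.S3816P
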