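import Mathlib
import Cfsg.Agent.Helper13.S3816Defs
import Cfsg.Agent.Helper13.S3816Basic
import Cfsg.Agent.Helper22.S3816C2CDcore
import Cfsg.Agent.Helper20.S3816MC3

/-! Board `s3816pieces`, row C2CD, part 2: `c2_cent`. -/

set_option autoImplicit false

namespace Cfsg.Agent.S3816P

universe u

variable {G : Type u} [Group G] [Finite G] {p : ℕ} [Fact p.Prime] {A K N : Subgroup G}

/-- C2D -/
theorem c2_cent (mc : MC p A K) (hN : MinN K N) (h2 : ¬ N ≤ Subgroup.centralizer (A : Set G))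
    {k : G} (hk : k ∈ K) (hkN : cA A k ⊔ N = K) :
    N ⊓ Subgroup.centralizer (cA A k : Set G) = ⊥ := by
  exact C2CD_aux_cent mc hN h2 hkN (mc.not_fixN_le hN)

end Cfsg.Agent.S3816P
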