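import Mathlib
import Cfsg.Agent.Helper4.S5033Defs
open Cfsg Cfsg.Agent.S5033P

set_option autoImplicit false

/-! S5033 board, piece FIX (the `h2'`-trick). -/

namespace Cfsg.Agent.S5033P

variable {G : Type*} [Group G] {S : Set (Subgroup G)}

theorem FIX.aux_conj_conj (A : Subgroup G) (t : G) : conjBy (conjBy A t) t⁻¹ = A := by
  ext x
  simp only [conjBy, Subgroup.mem_map, MulEquiv.coe_toMonoidHom, MulAut.conj_apply]
  constructor
  · rintro ⟨y, ⟨z, hz, rfl⟩, rfl⟩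
    simpa [mul_assoc] using hz
  · intro hx
    exact ⟨t * x * t⁻¹, ⟨x, hx, rfl⟩, by simp [mul_assoc]⟩

theorem FIX.aux_iff (A D : Subgroup G) :
    D ≤ Subgroup.centralizer (A : Set G) ↔ ⁅A, D⁆ = ⊥ := by
  rw [Subgroup.commutator_comm, Subgroup.commutator_eq_bot_iff_le_centralizer]

/-- FIX: the `h2'`-trick. -/
theorem FIX (H : Hyp S) {T : Subgroup G}
    (hd : ∀ A ∈ S, ∀ D ∈ S, ⁅A, D⁆ = ⊥ → ∀ t ∈ T, ⁅conjBy A t, D⁆ = ⊥) :
    ∀ A ∈ S, ∀ t ∈ T, conjBy A t = A := by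
  intro A hA t ht
  by_contra hne
  have hA1 : conjBy A t ∈ S := H.hS.conj_mem A hA t
  apply H.h2' (conjBy A t) hA1 A hA hne
  ext D
  simp only [centralizingMembers, Set.mem_ofPred_eq]
  constructor
  · rintro ⟨hD, hDc⟩
    refine ⟨hD, ?_⟩
    have h1 : ⁅conjBy A t, D⁆ = ⊥ := (FIX.aux_iff _ _).1 hDc
    have h2 := hd (conjBy A t) hA1 D hD h1 t⁻¹ (T.inv_mem ht)
    rw [FIX.aux_conj_conj] at h2
    exact (FIX.aux_iff _ _).2 h2
  · rintro ⟨hD, hDc⟩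
    refine ⟨hD, ?_⟩
    have h1 : ⁅A, D⁆ = ⊥ := (FIX.aux_iff _ _).1 hDc
    exact (FIX.aux_iff _ _).2 (hd A hA D hD h1 t ht)

end Cfsg.Agent.S5033P
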