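import Mathlib
import Cfsg.Prelude.Def_RootSubgroups

set_option autoImplicit false

/-!
# S5047: definitions for the "single swap" lemma
-/

namespace Cfsg.Agent.S5047P

variable {G : Type*} [Group G]

/-- the conjugates `σ^j b σ^{-j}` of `b`. -/
def dd (σ b : G) (j : ℕ) : G := σ ^ j * b * (σ ^ j)⁻¹

/-- the subgroup generated by all `σ^j b σ^{-j}`. -/
def UU (σ b : G) : Subgroup G := Subgroup.closure (Set.range (dd σ b))

/-- the operator `θ = σ + σ⁻¹` written multiplicatively. -/
def th (σ v : G) : G := (σ * v * σ⁻¹) * (σ⁻¹ * v * σ)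

end Cfsg.Agent.S5047P
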