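import Mathlib
import Cfsg.Prelude.Def_GeometricClasses
import Cfsg.Agent.Helper19.Mono.Defs

/-! S5634, monomial half, piece CUT: a transvection `1 + e_o ψ` in `M` gives an elementary one. -/

set_option autoImplicit false

namespace Cfsg.Agent.MonoP

open Matrix

variable {ι : Type} [Fintype ι] [DecidableEq ι] {K : Type*} [Field K] [Fintype K]

namespace CUT

/-- the matrix `1 + e_o ψ` -/
def Tm (o : ι) (ψ : ι → K) : Matrix ι ι K := 1 + Matrix.vecMulVec (Pi.single o (1 : K)) ψ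

omit [Fintype K] in
theorem Tm_mul (o : ι) (ψ₁ ψ₂ : ι → K) (h1 : ψ₁ o = 0) : Tm o ψ₁ * Tm o ψ₂ = Tm o (ψ₁ + ψ₂) := by
  unfold Tm
  rw [Matrix.add_mul, Matrix.mul_add, Matrix.mul_add, Matrix.one_mul, Matrix.mul_one, Matrix.one_mul,
    Matrix.vecMulVec_mul_vecMulVec, Matrix.vecMulVec_add]
  have : ψ₁ ⬝ᵥ Pi.single o (1 : K) = 0 := by
    rw [dotProduct_single, h1, zero_mul]
  rw [this, zero_smul, Matrix.vecMulVec_zero]
  abel

omit [Fintype K] in
theorem Tm_zero (o : ι) : Tm o (0 : ι → K) = 1 := by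
  unfold Tm
  rw [Matrix.vecMulVec_zero, add_zero]

omit [Fintype K] in
/-- conjugation by a diagonal matrix fixing `e_o` -/
theorem diag_conj (o : ι) (ψ : ι → K) (a a' : ι → K) (ho : a o = 1) (haa' : ∀ i, a i * a' i = 1) :
    Matrix.diagonal a * Tm o ψ * Matrix.diagonal a' = Tm o (fun j => ψ j * a' j) := by
  unfold Tm
  rw [Matrix.mul_add, Matrix.add_mul, Matrix.mul_one, Matrix.diagonal_mul_diagonal,
    Matrix.mul_vecMulVec, Matrix.vecMulVec_mul, Matrix.diagonal_mulVec_single, ho, one_mul]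
  congr 1
  · rw [← Matrix.diagonal_one]
    congr 1
    funext i
    exact haa' i
  · congr 1
    funext j
    rw [Matrix.vecMul_diagonal]

omit [Fintype K] in
/-- the inverse of `1 + e_o ψ` -/
theorem inv_val (o : ι) (ψ : ι → K) (h1 : ψ o = 0) (y : GL ι K) (hy : (y : Matrix ι ι K) = Tm o ψ) :
    ((y⁻¹ : GL ι K) : Matrix ι ι K) = Tm o (-ψ) := by
  apply Units.inv_eq_of_mul_eq_one_right
  rw [hy, Tm_mul o ψ (-ψ) h1, add_neg_cancel, Tm_zero]

omit [Fintype K] in
/-- the diagonal matrices of determinant one are in `M` -/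
theorem dg_mem (M : Subgroup (GL ι K)) (hmon : MonoSLE M) (d : ι → Kˣ) (hd : ∏ i, ((d i : Kˣ) : K) = 1) :
    dg d ∈ M := by
  apply hmon
  · refine ⟨1, fun i j hij => ?_⟩
    rw [dg_val]
    exact Matrix.diagonal_apply_ne _ (by simpa using hij)
  · rw [dg_val, Matrix.det_diagonal]
    exact hd

omit [Fintype K] in
theorem d2_mem (M : Subgroup (GL ι K)) (hmon : MonoSLE M) (k l : ι) (hkl : k ≠ l) (η : Kˣ) :
    d2 k l η ∈ M := by
  unfold d2
  apply dg_mem M hmon
  have h1 : ∀ i, ((Function.update (Function.update (fun _ => (1 : Kˣ)) k η) l η⁻¹ i : Kˣ) : K) =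
      Function.update (Function.update (fun _ => (1 : K)) k (η : K)) l ((η⁻¹ : Kˣ) : K) i := by
    intro i
    by_cases hil : i = l
    · subst hil; simp
    · by_cases hik : i = k
      · subst hik; simp [hil]
      · simp [hil, hik]
  simp only [h1]
  rw [Finset.prod_update_of_mem (Finset.mem_univ l),
    Finset.prod_update_of_mem (by simp [hkl] : k ∈ Finset.univ \ {l})]
  simp

omit [Fintype K] in
/-- one step: the functional `ψ` is replaced by `ψ (t⁻¹ - 1)` for a diagonal `t ∈ M` fixing `e_o` -/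
theorem step (M : Subgroup (GL ι K)) (o : ι) (ψ : ι → K) (hψo : ψ o = 0) (y : GL ι K) (hy : y ∈ M)
    (hyv : (y : Matrix ι ι K) = Tm o ψ) (d : ι → Kˣ) (hdo : d o = 1) (hd : dg d ∈ M) :
    ∃ y' ∈ M, (y' : Matrix ι ι K) = Tm o (fun j => ψ j * ((((d j)⁻¹ : Kˣ) : K) - 1)) := by
  refine ⟨y⁻¹ * (dg d * y * (dg d)⁻¹), M.mul_mem (M.inv_mem hy) (M.mul_mem (M.mul_mem hd hy) (M.inv_mem hd)), ?_⟩
  rw [Units.val_mul, Units.val_mul, Units.val_mul, inv_val o ψ hψo y hyv, hyv, dg_val, dg_inv_val,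
    diag_conj o ψ _ _ (by rw [hdo]; rfl) (fun i => by simp), Tm_mul o _ _ (by simp [hψo])]
  congr 1
  funext j
  simp only [Pi.add_apply, Pi.neg_apply]
  ring

omit [Fintype K] in
theorem Tm_single (o l : ι) (c : K) : Tm o (Pi.single l c) = Matrix.transvection o l c := by
  unfold Tm Matrix.transvection
  congr 1
  ext i j
  rw [Matrix.vecMulVec_apply, Matrix.single_apply]
  by_cases hi : o = i
  · by_cases hj : l = j
    · subst hi; subst hj; simp
    · subst hi; simp [hj, Pi.single_eq_of_ne (Ne.symm hj)]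
  · simp [hi, Pi.single_eq_of_ne (Ne.symm hi)]

end CUT

/-- CUT (M): a transvection `1 + e_o ψ` (`ψ o = 0`, `ψ ≠ 0`) in `M` gives an elementary one.  Let `ψ l ≠ 0`.  With
`t = d2 l l' η` (`l' ∉ {o, l}`, `η ≠ 1`; `t ∈ M` by `hmon`): `y⁻¹ * (t * y * t⁻¹) = 1 + e_o (ψ t⁻¹ - ψ)` has functional
`(η⁻¹-1) ψ_l e_lᵀ + (η-1) ψ_{l'} e_{l'}ᵀ`; if `ψ l' ≠ 0` repeat with `d2 l l'' η`, `l'' ∉ {o, l, l'}`, whose `l''`-coordinate is
now `0`: the result is `E_{ol}(ξ)`, `ξ ≠ 0`. -/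
theorem CUT.hasE (hK : 3 ≤ Fintype.card K) (hι : 4 ≤ Fintype.card ι) (M : Subgroup (GL ι K)) (hmon : MonoSLE M)
    (o : ι) (ψ : ι → K) (hψo : ψ o = 0) (hψ : ψ ≠ 0) (y : GL ι K) (hy : y ∈ M)
    (hyv : (y : Matrix ι ι K) = 1 + Matrix.vecMulVec (Pi.single o (1 : K)) ψ) : HasE M := by
  classical
  -- a coordinate with `ψ l ≠ 0`
  obtain ⟨l, hl⟩ : ∃ l, ψ l ≠ 0 := by
    by_contra hcon
    push Not at hcon
    exact hψ (funext hcon)
  have hlo : l ≠ o := by
    rintro rfl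
    exact hl hψo
  -- two further coordinates
  obtain ⟨l', l'', hl', hl'', hne⟩ : ∃ l' l'' : ι, l' ∈ (({o, l} : Finset ι)ᶜ) ∧
      l'' ∈ (({o, l} : Finset ι)ᶜ) ∧ l' ≠ l'' := by
    have hc : 1 < (({o, l} : Finset ι)ᶜ).card := by
      rw [Finset.card_compl]
      have := Finset.card_le_two (a := o) (b := l)
      omega
    obtain ⟨a, ha, b, hb, hab⟩ := Finset.one_lt_card.mp hc
    exact ⟨a, b, ha, hb, hab⟩
  simp only [Finset.mem_compl, Finset.mem_insert, Finset.mem_singleton, not_or] at hl' hl''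
  obtain ⟨hl'o, hl'l⟩ := hl'
  obtain ⟨hl''o, hl''l⟩ := hl''
  -- a unit different from one
  obtain ⟨x, hx0, hx1⟩ : ∃ x : K, x ≠ 0 ∧ x ≠ 1 := by
    by_contra hcon
    push Not at hcon
    have hsub : (Finset.univ : Finset K) ⊆ {0, 1} := by
      intro x _
      by_cases h : x = 0
      · simp [h]
      · simp [hcon x h]
    have h1 := Finset.card_le_card hsub
    have h2 := Finset.card_le_two (a := (0 : K)) (b := 1)
    rw [Finset.card_univ] at h1
    omega
  obtain ⟨η, hη⟩ : ∃ η : Kˣ, (η : K) = x := ⟨Units.mk0 x hx0, rfl⟩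
  have hη1 : ((η⁻¹ : Kˣ) : K) - 1 ≠ 0 := by
    intro h
    apply hx1
    have h1 : ((η⁻¹ : Kˣ) : K) = 1 := by linear_combination h
    have h2 : (η : K) * ((η⁻¹ : Kˣ) : K) = 1 := by simp
    rw [h1, mul_one] at h2
    rw [← hη, h2]
  -- the two steps
  obtain ⟨y₁, hy₁M, hy₁v⟩ := CUT.step M o ψ hψo y hy hyv
    (Function.update (Function.update (fun _ => (1 : Kˣ)) l η) l' η⁻¹)
    (by rw [Function.update_of_ne (Ne.symm hl'o), Function.update_of_ne (Ne.symm hlo)])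
    (CUT.d2_mem M hmon l l' (Ne.symm hl'l) η)
  obtain ⟨y₂, hy₂M, hy₂v⟩ := CUT.step M o _ (by simp [hψo]) y₁ hy₁M hy₁v
    (Function.update (Function.update (fun _ => (1 : Kˣ)) l η) l'' η⁻¹)
    (by rw [Function.update_of_ne (Ne.symm hl''o), Function.update_of_ne (Ne.symm hlo)])
    (CUT.d2_mem M hmon l l'' (Ne.symm hl''l) η)
  refine ⟨o, l, Ne.symm hlo, ψ l * (((η⁻¹ : Kˣ) : K) - 1) * (((η⁻¹ : Kˣ) : K) - 1),
    mul_ne_zero (mul_ne_zero hl hη1) hη1, y₂, hy₂M, ?_⟩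
  rw [hy₂v, ← CUT.Tm_single]
  congr 1
  funext j
  by_cases hjl : j = l
  · subst hjl
    rw [Pi.single_eq_same, Function.update_of_ne (Ne.symm hl'l), Function.update_self,
      Function.update_of_ne (Ne.symm hl''l), Function.update_self]
  · rw [Pi.single_eq_of_ne hjl]
    by_cases hjl' : j = l'
    · subst hjl'
      rw [Function.update_of_ne hne, Function.update_of_ne hjl]
      simp
    · rw [Function.update_of_ne hjl', Function.update_of_ne hjl]
      simp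

end Cfsg.Agent.MonoP
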