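import Mathlib
import Cfsg.Prelude.Def_GeometricClasses
import Cfsg.Agent.Helper19.Mono.Defs
import Cfsg.Agent.Helper22.S5634CUT

/-! S5634, monomial half, piece SECLIFT: an elementary transvection in the section at `o` lifts to `M`. -/

set_option autoImplicit false

namespace Cfsg.Agent.MonoP

open Matrix

variable {ι : Type} [Fintype ι] [DecidableEq ι] {K : Type*} [Field K] [Fintype K]

namespace SECLIFT

omit [Fintype K] in
/-- conjugation of `1 + e_o ψ` by an arbitrary diagonal matrix -/
theorem diag_conj' (o : ι) (ψ : ι → K) (a a' : ι → K) (haa' : ∀ i, a i * a' i = 1) :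
    Matrix.diagonal a * CUT.Tm o ψ * Matrix.diagonal a' = CUT.Tm o (fun j => a o * (ψ j * a' j)) := by
  unfold CUT.Tm
  ext r s
  simp only [Matrix.mul_diagonal, Matrix.diagonal_mul, Matrix.add_apply, Matrix.vecMulVec_apply]
  by_cases hrs : r = s
  · subst hrs
    by_cases hro : r = o
    · subst hro
      simp only [Matrix.one_apply_eq, Pi.single_eq_same]
      have := haa' r
      linear_combination this
    · simp only [Matrix.one_apply_eq, Pi.single_eq_of_ne hro]
      have := haa' r
      linear_combination this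
  · by_cases hro : r = o
    · subst hro
      simp only [Matrix.one_apply_ne hrs, Pi.single_eq_same]
      ring
    · simp only [Matrix.one_apply_ne hrs, Pi.single_eq_of_ne hro]
      ring

omit [Fintype K] in
/-- a diagonal matrix with entries `1` at `i, j` commutes with `E_{ij}(c)` -/
theorem diag_conj_transvection (i j : ι) (hij : i ≠ j) (c : K) (a a' : ι → K)
    (haa' : ∀ r, a r * a' r = 1) (hi : a i = 1) (hj : a' j = 1) :
    Matrix.diagonal a * Matrix.transvection i j c * Matrix.diagonal a' = Matrix.transvection i j c := by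
  unfold Matrix.transvection
  ext r s
  simp only [Matrix.mul_diagonal, Matrix.diagonal_mul, Matrix.add_apply, Matrix.single_apply]
  by_cases hrs : r = s
  · subst hrs
    have hne : ¬ (i = r ∧ j = r) := fun h => hij (h.1.trans h.2.symm)
    simp only [Matrix.one_apply_eq, if_neg hne, add_zero, mul_one]
    exact haa' r
  · simp only [Matrix.one_apply_ne hrs, zero_add]
    by_cases h : i = r ∧ j = s
    · obtain ⟨rfl, rfl⟩ := h
      simp only [and_self, if_true, hi, hj, one_mul, mul_one]
    · simp only [if_neg h, mul_zero, zero_mul]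

omit [Fintype K] in
/-- the shape of an element of `M` whose section at `o` is an elementary transvection -/
theorem shape (o a b : ι) (hao : a ≠ o) (hbo : b ≠ o) (ξ : K) (y : Matrix ι ι K)
    (hcol : ∀ i, i ≠ o → y i o = 0) (hoo : y o o = 1)
    (hblk : ∀ i j : ι, i ≠ o → j ≠ o → y i j = Matrix.transvection a b ξ i j) :
    y = Matrix.transvection a b ξ * CUT.Tm o (fun j => if j = o then 0 else y o j) := by
  unfold CUT.Tm
  rw [Matrix.mul_add, Matrix.mul_one, Matrix.mul_vecMulVec]
  have hE : Matrix.transvection a b ξ *ᵥ Pi.single o (1 : K) = Pi.single o 1 := by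
    unfold Matrix.transvection
    rw [Matrix.add_mulVec, Matrix.one_mulVec, Matrix.single_mulVec]
    rw [Pi.single_eq_of_ne hbo]
    simp
  rw [hE]
  ext i j
  rw [Matrix.add_apply, Matrix.vecMulVec_apply]
  by_cases hi : i = o
  · subst hi
    by_cases hj : j = i
    · subst hj
      rw [hoo, if_pos rfl, mul_zero, add_zero]
      unfold Matrix.transvection
      rw [Matrix.add_apply, Matrix.one_apply_eq, Matrix.single_apply, if_neg (fun h => hao h.1), add_zero]
    · rw [if_neg hj, Pi.single_eq_same, one_mul]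
      unfold Matrix.transvection
      rw [Matrix.add_apply, Matrix.one_apply_ne (Ne.symm hj), Matrix.single_apply,
        if_neg (fun h => hao h.1), add_zero, zero_add]
  · rw [Pi.single_eq_of_ne hi, zero_mul, add_zero]
    by_cases hj : j = o
    · subst hj
      rw [hcol i hi]
      unfold Matrix.transvection
      rw [Matrix.add_apply, Matrix.one_apply_ne hi, Matrix.single_apply, if_neg (fun h => hbo h.2), add_zero]
    · exact hblk i j hi hj

end SECLIFT

/-- SECLIFT (L; uses CUT): an elementary transvection in the section lifts.  `y ∈ M` with column `o` equal to `α e_o` and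
block `E_{ab}(ξ)` (`a, b ≠ o`); `det y = α = 1`.  So `y = 1 + e_o ψ + ξ e_a e_bᵀ` with `ψ o = 0`.  Take `c ∉ {o, a, b}`, a
unit `η` with `η² ≠ 1`, `t = d2 o c η`; `t` commutes with `E_{ab}(ξ)` and `y * t * y⁻¹ * t⁻¹ = 1 + e_o ψ'` with
`ψ' = ψ (t̄ - η) Ē⁻¹ t̄⁻¹` (`t̄ - η` is diagonal with non-zero entries `η⁻¹ - η` at `c`, `1 - η` elsewhere), so `ψ' = 0 ↔ ψ = 0`.  If
`ψ ≠ 0` use CUT; if `ψ = 0` then `y = E_{ab}(ξ)` itself. -/
theorem SECLIFT.hasE (hK : 4 ≤ Fintype.card K) (hι : 4 ≤ Fintype.card ι) (M : Subgroup (GL ι K))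
    (hSL : M ≤ Cfsg.Geo.specialLinear ι K) (hmon : MonoSLE M) (o : ι)
    (S : Subgroup (GL {i : ι // i ≠ o} K)) (hS : (S : Set (GL {i : ι // i ≠ o} K)) = secSet M o)
    (h : HasE S) : HasE M := by
  classical
  obtain ⟨a, b, hab, ξ, hξ, g, hgS, hgv⟩ := h
  have hg' : g ∈ secSet M o := by rw [← hS]; exact hgS
  obtain ⟨y, hyM, hcol, hblk⟩ := hg'
  obtain ⟨a', ha'⟩ := a
  obtain ⟨b', hb'⟩ := b
  have hab' : a' ≠ b' := fun h => hab (Subtype.ext h)
  -- the determinant: `y o o = 1`
  have hdet : (y : Matrix ι ι K).det = 1 := by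
    have := hSL hyM
    have h1 : Matrix.GeneralLinearGroup.det y = 1 := this
    have h2 := congrArg (fun u : Kˣ => (u : K)) h1
    simpa using h2
  have hoo : (y : Matrix ι ι K) o o = 1 := by
    have h1 := Matrix.twoBlockTriangular_det (y : Matrix ι ι K) (fun i => i = o)
      (fun i hi j hj => by rw [hj]; exact hcol i hi)
    have h2 : (Matrix.toSquareBlockProp (y : Matrix ι ι K) (fun i => ¬ i = o)).det = 1 := by
      have h3 : Matrix.toSquareBlockProp (y : Matrix ι ι K) (fun i => ¬ i = o) =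
          Matrix.transvection (⟨a', ha'⟩ : {i : ι // i ≠ o}) ⟨b', hb'⟩ ξ := by
        rw [← hgv]
        ext i j
        exact hblk i j
      rw [h3]
      exact Matrix.det_transvection_of_ne _ _ hab ξ
    have : Subsingleton {i : ι // i = o} := ⟨fun x y => Subtype.ext (x.2.trans y.2.symm)⟩
    have h4 : ∀ (i1 : DecidableEq {i : ι // i = o}) (i2 : Fintype {i : ι // i = o})
        (A : Matrix {i : ι // i = o} {i : ι // i = o} K),
        @Matrix.det _ i1 i2 _ _ A = A ⟨o, rfl⟩ ⟨o, rfl⟩ := by
      intro i1 i2 A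
      exact Matrix.det_eq_elem_of_subsingleton A _
    rw [hdet, h2, mul_one, h4] at h1
    exact h1.symm
  -- the shape of `y`
  obtain ⟨ψ, hψdef⟩ : ∃ ψ : ι → K, ψ = fun j => if j = o then 0 else (y : Matrix ι ι K) o j := ⟨_, rfl⟩
  have hψo : ψ o = 0 := by rw [hψdef]; simp
  have hshape : (y : Matrix ι ι K) = Matrix.transvection a' b' ξ * CUT.Tm o ψ := by
    rw [hψdef]
    apply SECLIFT.shape o a' b' ha' hb' ξ _ hcol hoo
    intro i j hi hj
    have := hblk ⟨i, hi⟩ ⟨j, hj⟩
    rw [hgv] at this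
    rw [this]
    unfold Matrix.transvection
    simp only [Matrix.add_apply, Matrix.one_apply, Matrix.single_apply, Subtype.mk.injEq]
  by_cases hψ0 : ψ = 0
  · refine ⟨a', b', hab', ξ, hξ, y, hyM, ?_⟩
    rw [hshape, hψ0, CUT.Tm_zero, Matrix.mul_one]
  -- a further coordinate
  obtain ⟨c, hc⟩ : ∃ c : ι, c ∈ (({o, a', b'} : Finset ι)ᶜ) := by
    have hc : 0 < (({o, a', b'} : Finset ι)ᶜ).card := by
      rw [Finset.card_compl]
      have := Finset.card_le_three (a := o) (b := a') (c := b')
      omega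
    exact Finset.card_pos.mp hc
  simp only [Finset.mem_compl, Finset.mem_insert, Finset.mem_singleton, not_or] at hc
  obtain ⟨hco, hca, hcb⟩ := hc
  -- a unit with `η² ≠ 1`
  obtain ⟨x, hx0, hx1, hxm⟩ : ∃ x : K, x ≠ 0 ∧ x ≠ 1 ∧ x ≠ -1 := by
    by_contra hcon
    push Not at hcon
    have hsub : (Finset.univ : Finset K) ⊆ {0, 1, -1} := by
      intro x _
      by_cases h0 : x = 0
      · simp [h0]
      · by_cases h1 : x = 1
        · simp [h1]
        · simp [hcon x h0 h1]
    have h1 := Finset.card_le_card hsub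
    have h2 := Finset.card_le_three (a := (0 : K)) (b := 1) (c := -1)
    rw [Finset.card_univ] at h1
    omega
  obtain ⟨η, hη⟩ : ∃ η : Kˣ, (η : K) = x := ⟨Units.mk0 x hx0, rfl⟩
  have hη1 : (η : K) - 1 ≠ 0 := by rw [hη]; exact sub_ne_zero.mpr hx1
  have hη2 : (η : K) * (η : K) - 1 ≠ 0 := by
    rw [hη]
    intro h
    have : (x - 1) * (x + 1) = 0 := by linear_combination h
    rcases mul_eq_zero.mp this with h' | h'
    · exact hx1 (by linear_combination h')
    · exact hxm (by linear_combination h')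
  -- the diagonal element `t`
  obtain ⟨d, hd⟩ : ∃ d : ι → Kˣ, d = Function.update (Function.update (fun _ => (1 : Kˣ)) o η) c η⁻¹ :=
    ⟨_, rfl⟩
  have htM : dg d ∈ M := by
    rw [hd]
    exact CUT.d2_mem M hmon o c (Ne.symm hco) η
  have hdo : d o = η := by
    rw [hd, Function.update_of_ne (Ne.symm hco), Function.update_self]
  have hdc : d c = η⁻¹ := by rw [hd, Function.update_self]
  have hdother : ∀ j, j ≠ o → j ≠ c → d j = 1 := by
    intro j hjo hjc
    rw [hd, Function.update_of_ne hjc, Function.update_of_ne hjo]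
  have hda : d a' = 1 := hdother a' ha' (Ne.symm hca)
  have hdb : d b' = 1 := hdother b' hb' (Ne.symm hcb)
  -- the commutator
  obtain ⟨ψ', hψ'⟩ : ∃ ψ' : ι → K, ψ' = fun j => ψ j * ((η : K) * (((d j)⁻¹ : Kˣ) : K) - 1) := ⟨_, rfl⟩
  have hψ'o : ψ' o = 0 := by
    rw [hψ']
    show ψ o * _ = 0
    rw [hψo, zero_mul]
  have hkey : (y : Matrix ι ι K) * CUT.Tm o ψ' =
      ((dg d * y * (dg d)⁻¹ : GL ι K) : Matrix ι ι K) := by
    rw [Units.val_mul, Units.val_mul, dg_val, dg_inv_val, hshape, Matrix.mul_assoc, CUT.Tm_mul o ψ ψ' hψo]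
    have h1 : Matrix.diagonal (fun i => ((d i : Kˣ) : K)) * (Matrix.transvection a' b' ξ * CUT.Tm o ψ) *
        Matrix.diagonal (fun i => (((d i)⁻¹ : Kˣ) : K)) =
        (Matrix.diagonal (fun i => ((d i : Kˣ) : K)) * Matrix.transvection a' b' ξ *
          Matrix.diagonal (fun i => (((d i)⁻¹ : Kˣ) : K))) *
        (Matrix.diagonal (fun i => ((d i : Kˣ) : K)) * CUT.Tm o ψ *
          Matrix.diagonal (fun i => (((d i)⁻¹ : Kˣ) : K))) := by
      have hdd : Matrix.diagonal (fun i => (((d i)⁻¹ : Kˣ) : K)) *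
          Matrix.diagonal (fun i => ((d i : Kˣ) : K)) = 1 := by
        rw [Matrix.diagonal_mul_diagonal]
        simp
      calc _ = Matrix.diagonal (fun i => ((d i : Kˣ) : K)) * Matrix.transvection a' b' ξ *
            (1 : Matrix ι ι K) * (CUT.Tm o ψ * Matrix.diagonal (fun i => (((d i)⁻¹ : Kˣ) : K))) := by
              simp only [Matrix.mul_one, Matrix.mul_assoc]
        _ = _ := by
              rw [← hdd]
              simp only [Matrix.mul_assoc]
    rw [h1, SECLIFT.diag_conj_transvection a' b' hab' ξ _ _ (fun r => by simp) (by rw [hda]; rfl)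
      (by rw [hdb]; simp), SECLIFT.diag_conj' o ψ _ _ (fun r => by simp)]
    congr 2
    funext j
    rw [hψ', hdo]
    simp only [Pi.add_apply]
    ring
  have hwv : ((y⁻¹ * (dg d * y * (dg d)⁻¹) : GL ι K) : Matrix ι ι K) = CUT.Tm o ψ' := by
    rw [Units.val_mul, ← hkey, ← Matrix.mul_assoc, ← Units.val_mul, inv_mul_cancel, Units.val_one,
      Matrix.one_mul]
  have hwM : y⁻¹ * (dg d * y * (dg d)⁻¹) ∈ M :=
    M.mul_mem (M.inv_mem hyM) (M.mul_mem (M.mul_mem htM hyM) (M.inv_mem htM))
  have hψ'0 : ψ' ≠ 0 := by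
    obtain ⟨l, hl⟩ : ∃ l, ψ l ≠ 0 := by
      by_contra hcon
      push Not at hcon
      exact hψ0 (funext hcon)
    have hlo : l ≠ o := by
      rintro rfl
      exact hl hψo
    intro h0
    have h1 := congrFun h0 l
    rw [hψ'] at h1
    simp only [Pi.zero_apply] at h1
    rcases mul_eq_zero.mp h1 with h2 | h2
    · exact hl h2
    · by_cases hlc : l = c
      · subst hlc
        rw [hdc, inv_inv] at h2
        exact hη2 h2
      · rw [hdother l hlo hlc] at h2
        apply hη1
        simpa using h2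
  exact CUT.hasE (by omega) hι M hmon o ψ' hψ'o hψ'0 _ hwM hwv

end Cfsg.Agent.MonoP
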