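import Cfsg.Agent.Helper22.OutTwo2

/-!
# Groups generated by two elements all of whose automorphisms are inner

A variant of the lemma of `OutTwo2`: the elements of prime order `p` form one class, the centraliser of `u` contains
a subgroup of order `c`, and at most `c` images of the other generator are possible under the automorphisms fixing
`u`; then the group has at most as many automorphisms as elements.
-/

set_option autoImplicit false

namespace Cfsg.Agent.Helper22.OutTwo

open Cfsg.Agent.Helper14.J3Out

theorem card_mulAut_le_card {J : Type*} [Group J] [Finite J] (p m c mc : ℕ) [hp : Fact p.Prime]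
    (hcard : Nat.card J = p * m) (hpm : ¬ p ∣ m) (hc : 0 < c) (hcard' : Nat.card J = c * mc)
    (x u n : J) (hgen : Subgroup.closure {x, u} = ⊤) (hu : orderOf u = p)
    (V : Subgroup J) (hV : Nat.card V = c) (hVu : V ≤ Subgroup.centralizer {u})
    (r : ℕ) (hn : n * u * n⁻¹ = u ^ r)
    (hr : ∀ k, 0 < k → k < p → ∃ j, k % p = r ^ j % p)
    (S : Finset J) (hS : S.card ≤ c)
    (hstab : ∀ φ : MulAut J, φ u = u → φ x ∈ S) :
    Nat.card (MulAut J) ≤ Nat.card J := by
  classical
  have hO : ∀ w : J, orderOf w = p → w ∈ Set.range fun g : J => g * u * g⁻¹ := by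
    intro w hw
    obtain ⟨g, k, hk0, hkp, rfl⟩ := exists_conj_pow p m hcard hpm u w hu hw
    obtain ⟨j, hj⟩ := hr k hk0 hkp
    refine ⟨g * n ^ j, ?_⟩
    have e : u ^ k = u ^ (r ^ j) := by
      calc u ^ k = u ^ (k % orderOf u) := (pow_mod_orderOf u k).symm
        _ = u ^ (r ^ j % orderOf u) := by rw [hu, hj]
        _ = u ^ (r ^ j) := pow_mod_orderOf u _
    show g * n ^ j * u * (g * n ^ j)⁻¹ = g * u ^ k * g⁻¹
    rw [e, ← conj_pow_eq u hn j]
    group
  have hc1 : Nat.card (Set.range fun g : J => g * u * g⁻¹) ≤ mc :=
    card_class_le c mc hc hcard' u V hV hVu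
  have horb : Nat.card (MulAction.orbit (MulAut J) u) ≤ mc := by
    have hsub : MulAction.orbit (MulAut J) u ⊆ Set.range fun g : J => g * u * g⁻¹ := by
      rintro _ ⟨φ, rfl⟩
      apply hO
      show orderOf (φ u) = p
      rw [MulEquiv.orderOf_eq, hu]
    exact (Nat.card_mono (Set.toFinite _) hsub).trans hc1
  have hst : Nat.card (MulAction.stabilizer (MulAut J) u) ≤ c := by
    let f : MulAction.stabilizer (MulAut J) u → S := fun φ =>
      ⟨φ.1 x, hstab φ.1 (MulAction.mem_stabilizer_iff.1 φ.2)⟩
    have hf : Function.Injective f := by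
      intro φ ψ h
      have h1 : φ.1 x = ψ.1 x := congrArg Subtype.val h
      have h2 : φ.1 u = u := MulAction.mem_stabilizer_iff.1 φ.2
      have h3 : ψ.1 u = u := MulAction.mem_stabilizer_iff.1 ψ.2
      apply Subtype.ext
      apply MulEquiv.toMonoidHom_injective
      apply MonoidHom.eq_of_eqOn_dense hgen
      intro y hy
      rcases hy with rfl | hy
      · exact h1
      · rw [Set.mem_singleton_iff] at hy
        subst hy
        show φ.1 y = ψ.1 y
        rw [h2, h3]
    calc Nat.card (MulAction.stabilizer (MulAut J) u) ≤ Nat.card S :=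
          Nat.card_le_card_of_injective f hf
      _ = S.card := by rw [Nat.card_eq_fintype_card, Fintype.card_coe]
      _ ≤ c := hS
  have hprod : Nat.card (MulAut J) = Nat.card (MulAction.orbit (MulAut J) u) *
      Nat.card (MulAction.stabilizer (MulAut J) u) := by
    rw [← Nat.card_prod]
    exact (Nat.card_congr (MulAction.orbitProdStabilizerEquivGroup (MulAut J) u)).symm
  rw [hprod, hcard']
  calc Nat.card (MulAction.orbit (MulAut J) u) * Nat.card (MulAction.stabilizer (MulAut J) u)
      ≤ mc * c := Nat.mul_le_mul horb hst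
    _ = c * mc := Nat.mul_comm _ _

/-- the outer automorphism group is trivial, given the bound -/
theorem card_out_eq_one_of_le {J : Type*} [Group J] [Finite J] (hZ : Subgroup.center J = ⊥)
    (hle : Nat.card (MulAut J) ≤ Nat.card J) : Nat.card (Cfsg.Out J) = 1 := by
  have hinj : Function.Injective (MulAut.conj : J →* MulAut J) := by
    rw [injective_iff_map_eq_one]
    intro g hg
    have : g ∈ Subgroup.center J := by
      rw [Subgroup.mem_center_iff]
      intro k
      have h1 : (MulAut.conj g) k = k := by rw [hg]; rfl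
      rw [MulAut.conj_apply] at h1
      calc k * g = (g * k * g⁻¹) * g := by rw [h1]
        _ = g * k := by group
    rw [hZ] at this
    exact Subgroup.mem_bot.1 this
  have hInn : Nat.card (Cfsg.Inn J) = Nat.card J :=
    Nat.card_congr (MonoidHom.ofInjective hinj).symm.toEquiv
  have hidx : (Cfsg.Inn J).index * Nat.card (Cfsg.Inn J) = Nat.card (MulAut J) := by
    rw [mul_comm]; exact (Cfsg.Inn J).card_mul_index
  have hpos : 0 < Nat.card J := Nat.card_pos
  have h0 : (Cfsg.Inn J).index ≠ 0 := Subgroup.index_ne_zero_of_finite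
  have h1 : (Cfsg.Inn J).index ≤ 1 := by
    rw [hInn] at hidx
    by_contra hcon
    rw [not_le] at hcon
    have : 2 * Nat.card J ≤ (Cfsg.Inn J).index * Nat.card J := Nat.mul_le_mul_right _ hcon
    omega
  show Nat.card (MulAut J ⧸ Cfsg.Inn J) = 1
  have : Nat.card (MulAut J ⧸ Cfsg.Inn J) = (Cfsg.Inn J).index := rfl
  omega

/-- the centre of a simple group that is not of prime order is trivial -/
theorem center_eq_bot_of_simple {J : Type*} [Group J] [Finite J] [IsSimpleGroup J]
    (h : ¬ (Nat.card J).Prime) : Subgroup.center J = ⊥ := by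
  rcases (inferInstance : (Subgroup.center J).Normal).eq_bot_or_eq_top with hb | ht
  · exact hb
  · exfalso
    have hcomm : ∀ a b : J, a * b = b * a := by
      intro a b
      have : b ∈ Subgroup.center J := by rw [ht]; exact Subgroup.mem_top _
      exact (Subgroup.mem_center_iff.mp this a)
    letI : CommGroup J := { (inferInstance : Group J) with mul_comm := hcomm }
    exact h (IsSimpleGroup.prime_card)

end Cfsg.Agent.Helper22.OutTwo
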