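import Cfsg.Agent.Helper29.OC2K.Main
import Cfsg.Agent.Helper29.OC2K.REFLMEM
import Cfsg.Agent.Helper17.OC2KC2Defs
import Cfsg.Agent.Helper17.OC2KC2PM

set_option autoImplicit false
set_option linter.unusedSectionVars false
set_option linter.unusedVariables false

/-! # OC2K chapter CHAR2, case `q = 2`, `k = 4`: piece Q2REFL (helper22) -/

namespace Cfsg.Agent.OC2K

open Matrix Cfsg.Agent.Helper28.Sg Cfsg.Agent.Helper28.Spin Cfsg.Agent.Helper12.OrthGen
  Cfsg.Agent.S2614 Cfsg.Agent.S5683P Cfsg.Agent.Helper28.NDM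

variable {F : Type*} [Field F] [Fintype F] {t k : ℕ} {ι : Type} [Fintype ι] [DecidableEq ι] {Q : QuadraticForm F (ι → F)} [QHyp Q] {D : Fin t → Submodule F (ι → F)}
  {M : Subgroup (OGq Q)}

namespace C2.Q2REFL

/-- in characteristic 2 a product of two reflections in pure nonsingular vectors lies in `HS D` -/
theorem refl2_mem (h2 : (2 : F) = 0) (hD : HD Q k D) (hk : 4 ≤ k) {b b' : Fin t} {p p' : ι → F}
    (hp : p ∈ D b) (hp' : p' ∈ D b') (hQp : Q p ≠ 0) (hQp' : Q p' ≠ 0) :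
    reflO (Q) p hQp * reflO (Q) p' hQp' ∈ HS D := by
  rw [mem_HS]
  constructor
  · apply STAB.of_block hD
    intro i x hx
    rw [mt_mul_mulVec]
    exact REFLMEM.block hD hp hQp i _ (REFLMEM.block hD hp' hQp' i x hx)
  · have hcard : Fintype.card ι ≠ 4 := by
      have h1 := hD.kt
      have h3 := hD.t3
      have h4 : 4 * 3 ≤ k * t := Nat.mul_le_mul hk h3
      omega
    have h5 := reflO_mul_reflO_mem (Q) h2 QHyp.nd (Or.inr hcard) p p' hQp hQp'
    rw [QHyp.om] at h5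
    exact h5

end C2.Q2REFL

/-- Q2REFL (M), char 2, any `q`. -/
theorem C2.Q2REFL.main (h2 : (2 : F) = 0) (hD : HD Q k D) (hk : 4 ≤ k) (hHM : HS D ≤ M)
    {v : ι → F} (hQv : Q v = 0) {b b' : Fin t} (hbb' : b ≠ b') {p p' : ι → F} (hp : p ∈ D b)
    (hp' : p' ∈ D b') (hQp : Q p ≠ 0) (hQp' : Q p' ≠ 0) (hpv : B (Q) p v = 0) (hp'v : B (Q) p' v = 0)
    {y : ι → F} (hy : y ∈ Rad M v hQv) :
    ((Q p)⁻¹ * B (Q) p y) • p + ((Q p')⁻¹ * B (Q) p' y) • p' ∈ Rad M v hQv := by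
  have hh := C2.Q2REFL.refl2_mem h2 hD hk hp hp' hQp hQp'
  have hfix : mt (Q) (reflO (Q) p hQp * reflO (Q) p' hQp') *ᵥ v = v := by
    rw [mt_mul_mulVec, reflO_mulVec p' hQp' v, hp'v, mul_zero, zero_smul, sub_zero, reflO_mulVec,
      hpv, mul_zero, zero_smul, sub_zero]
  have h1 := GP.one hHM hQv hh hfix hy
  have hpp' : B (Q) p p' = 0 := hD.orth b b' hbb' p hp p' hp'
  have h2' : mt (Q) (reflO (Q) p hQp * reflO (Q) p' hQp') *ᵥ y - y =
      -(((Q p)⁻¹ * B (Q) p y) • p + ((Q p')⁻¹ * B (Q) p' y) • p') := by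
    rw [mt_mul_mulVec, reflO_mulVec p' hQp' y, reflO_mulVec]
    have h3 : B (Q) p (y - ((Q p')⁻¹ * B (Q) p' y) • p') = B (Q) p y := by
      show QuadraticMap.polar ⇑Q p (y - ((Q p')⁻¹ * B (Q) p' y) • p') = _
      rw [QuadraticMap.polar_sub_right, QuadraticMap.polar_smul_right]
      show B (Q) p y - ((Q p')⁻¹ * B (Q) p' y) • B (Q) p p' = _
      rw [hpp', smul_zero, sub_zero]
    rw [h3]
    abel
  rw [h2'] at h1
  have h4 := (Rad M v hQv).neg_mem h1
  rw [neg_neg] at h4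
  exact h4

end Cfsg.Agent.OC2K
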