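import Mathlib
import Cfsg.Agent.Helper7.K2M.Defs2
import Cfsg.Agent.Helper3.K2MRACT
import Cfsg.Agent.Helper19.K2MUNIV
import Cfsg.Agent.Helper4.K2MEXROT

set_option autoImplicit false
set_option linter.unusedSectionVars false
set_option linter.unusedVariables false

/-! # S5694, `k = 2` minus blocks, piece THREE (helper22) -/

namespace Cfsg.Agent.K2M

open Matrix Cfsg.Agent.OC2P Cfsg.Agent.Helper28.Sg Cfsg.Agent.Helper28.Spin
  Cfsg.Agent.Helper12.OrthGen

variable {F : Type*} [Field F] [Fintype F] {t : ℕ} {Q : QuadraticForm F (Fin t × Fin 2 → F)}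
  {q : QuadraticForm F (Fin 2 → F)}

/-- THREE: three pairwise independent vectors of any given norm (`y₁` by UNIV, `y₂` by EXROT,
`y₃ := y₂ - (polar q y₁ y₂ / q y₁) • y₁`) -/
theorem THREE.main (bm : BM Q q) (hF : Fintype.card F ≠ 3) {c : F} (hc : c ≠ 0) :
    ∃ y₁ y₂ y₃ : Fin 2 → F, q y₁ = c ∧ q y₂ = c ∧ q y₃ = c ∧ Indep2 (F := F) y₁ y₂ ∧
      Indep2 (F := F) y₁ y₃ ∧ Indep2 (F := F) y₂ y₃ := by
  obtain ⟨y₁, h1⟩ := UNIV.main bm hc
  have hy1 : y₁ ≠ 0 := by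
    intro h
    rw [h, map_zero] at h1
    exact hc h1.symm
  obtain ⟨y₂, h2, hp, hind⟩ := EXROT.main bm hF hy1
  have hq1 : q y₁ ≠ 0 := by rw [h1]; exact hc
  set lam : F := (q y₁)⁻¹ * QuadraticMap.polar ⇑q y₁ y₂ with hlam
  have hlam0 : lam ≠ 0 := mul_ne_zero (inv_ne_zero hq1) hp
  refine ⟨y₁, y₂, r2 q y₁ y₂, h1, by rw [h2, h1], by rw [RACT.q_r2 bm hy1, h2, h1], hind, ?_, ?_⟩
  · intro a b hab
    have h3 : (a - b * lam) • y₁ + b • y₂ = 0 := by
      rw [← hab]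
      unfold r2
      rw [← hlam]
      module
    obtain ⟨h4, h5⟩ := hind _ _ h3
    rw [h5, zero_mul, sub_zero] at h4
    exact ⟨h4, h5⟩
  · intro a b hab
    have h3 : (-(b * lam)) • y₁ + (a + b) • y₂ = 0 := by
      rw [← hab]
      unfold r2
      rw [← hlam]
      module
    obtain ⟨h4, h5⟩ := hind _ _ h3
    have hb : b = 0 := by
      rcases mul_eq_zero.mp (neg_eq_zero.mp h4) with h | h
      · exact h
      · exact absurd h hlam0
    rw [hb, add_zero] at h5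
    exact ⟨h5, hb⟩

end Cfsg.Agent.K2M
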