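import Mathlib
import Cfsg.Agent.Helper7.K2M.Defs2
import Cfsg.Agent.Helper4.K2MQB
import Cfsg.Agent.Helper22.K2MTHREE
import Cfsg.Agent.Helper27.K2MINVBase

set_option autoImplicit false
set_option linter.unusedSectionVars false
set_option linter.unusedVariables false

/-! # S5694, `k = 2` minus blocks, piece CLS (helper22) -/

namespace Cfsg.Agent.K2M

open Matrix Cfsg.Agent.OC2P Cfsg.Agent.Helper28.Sg Cfsg.Agent.Helper28.Spin
  Cfsg.Agent.Helper12.OrthGen

variable {F : Type*} [Field F] [Fintype F] {t : ℕ} {Q : QuadraticForm F (Fin t × Fin 2 → F)}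
  {q : QuadraticForm F (Fin 2 → F)}

namespace CLS

/-- two independent vectors of the plane span it (Cramer) -/
theorem span2 {y₁ y₂ : Fin 2 → F} (hind : Indep2 (F := F) y₁ y₂) (z : Fin 2 → F) :
    ∃ a b : F, z = a • y₁ + b • y₂ := by
  have hd : y₁ 0 * y₂ 1 - y₁ 1 * y₂ 0 ≠ 0 := by
    intro hd
    have e1 : (y₂ 1) • y₁ + (-(y₁ 1)) • y₂ = 0 := by
      funext i
      fin_cases i
      · simp only [Fin.zero_eta, Pi.add_apply, Pi.smul_apply, smul_eq_mul, Pi.zero_apply]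
        linear_combination hd
      · simp only [Fin.mk_one, Pi.add_apply, Pi.smul_apply, smul_eq_mul, Pi.zero_apply]
        ring
    have e2 : (y₂ 0) • y₁ + (-(y₁ 0)) • y₂ = 0 := by
      funext i
      fin_cases i
      · simp only [Fin.zero_eta, Pi.add_apply, Pi.smul_apply, smul_eq_mul, Pi.zero_apply]
        ring
      · simp only [Fin.mk_one, Pi.add_apply, Pi.smul_apply, smul_eq_mul, Pi.zero_apply]
        linear_combination -hd
    obtain ⟨_, h11⟩ := hind _ _ e1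
    obtain ⟨_, h10⟩ := hind _ _ e2
    have hy1 : y₁ = 0 := by
      funext i
      fin_cases i
      · simpa using h10
      · simpa using h11
    have e3 : (1 : F) • y₁ + (0 : F) • y₂ = 0 := by rw [hy1]; simp
    exact one_ne_zero (hind _ _ e3).1
  set d := y₁ 0 * y₂ 1 - y₁ 1 * y₂ 0 with hdd
  refine ⟨(z 0 * y₂ 1 - z 1 * y₂ 0) / d, (y₁ 0 * z 1 - y₁ 1 * z 0) / d, ?_⟩
  funext i
  fin_cases i
  · simp only [Fin.zero_eta, Pi.add_apply, Pi.smul_apply, smul_eq_mul]
    rw [div_mul_eq_mul_div, div_mul_eq_mul_div, ← add_div, eq_div_iff hd, hdd]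
    ring
  · simp only [Fin.mk_one, Pi.add_apply, Pi.smul_apply, smul_eq_mul]
    rw [div_mul_eq_mul_div, div_mul_eq_mul_div, ← add_div, eq_div_iff hd, hdd]
    ring

/-- a nonsingular vector of block `j` has a nonzero `j`-component -/
theorem bproj_ne_zero (bm : BM Q q) {j : Fin t} {v : Fin t × Fin 2 → F} (hv : v ∈ Dblk F t 2 j)
    (hQ : Q v ≠ 0) : bproj j v ≠ 0 := by
  intro h
  have h1 := QB.mem_Dblk_iff'.mp hv
  rw [h, QB.binj_zero] at h1
  rw [h1, map_zero] at hQ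
  exact hQ rfl

/-- the image of a whole block lies in one block -/
theorem block (bm : BM Q q) (hF : Fintype.card F ≠ 3) (x : OG Q) {c : F} (hc : c ≠ 0)
    (h : ∀ (l : Fin t) (y : Fin 2 → F), IsSquare (q y * c) → IsBlk (mt Q x *ᵥ binj l y))
    (l : Fin t) : ∃ j : Fin t, ∀ y : Fin 2 → F, mt Q x *ᵥ binj l y ∈ Dblk F t 2 j := by
  obtain ⟨y₁, y₂, y₃, h1, h2, h3, h12, h13, h23⟩ := THREE.main bm hF hc
  have hsq : ∀ y : Fin 2 → F, q y = c → IsSquare (q y * c) := fun y hy => ⟨c, by rw [hy]⟩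
  obtain ⟨j₁, hj1⟩ := h l y₁ (hsq y₁ h1)
  obtain ⟨j₂, hj2⟩ := h l y₂ (hsq y₂ h2)
  obtain ⟨j₃, hj3⟩ := h l y₃ (hsq y₃ h3)
  obtain ⟨a, b, hab⟩ := span2 h12 y₃
  have ha : a ≠ 0 := by
    intro ha
    rw [ha, zero_smul, zero_add] at hab
    have e : b • y₂ + (-1 : F) • y₃ = 0 := by rw [hab]; module
    have := (h23 _ _ e).2
    exact one_ne_zero (neg_eq_zero.mp this)
  have hb : b ≠ 0 := by
    intro hb
    rw [hb, zero_smul, add_zero] at hab
    have e : a • y₁ + (-1 : F) • y₃ = 0 := by rw [hab]; module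
    have := (h13 _ _ e).2
    exact one_ne_zero (neg_eq_zero.mp this)
  have hQ1 : Q (mt Q x *ᵥ binj l y₁) ≠ 0 := by
    rw [Q_isom, QB.Q_binj bm, h1]; exact hc
  have hQ2 : Q (mt Q x *ᵥ binj l y₂) ≠ 0 := by
    rw [Q_isom, QB.Q_binj bm, h2]; exact hc
  have hv3 : mt Q x *ᵥ binj l y₃ = a • (mt Q x *ᵥ binj l y₁) + b • (mt Q x *ᵥ binj l y₂) := by
    rw [hab, QB.binj_add, QB.binj_smul, QB.binj_smul, Matrix.mulVec_add, Matrix.mulVec_smul,
      Matrix.mulVec_smul]
  have hj : j₁ = j₂ := by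
    by_contra hne
    have hne' : j₂ ≠ j₁ := fun e => hne e.symm
    have e1 : bproj j₁ (mt Q x *ᵥ binj l y₃) = a • bproj j₁ (mt Q x *ᵥ binj l y₁) := by
      rw [hv3, QB.bproj_add, QB.bproj_smul, QB.bproj_smul, QB.mem_Dblk_iff.mp hj2 j₁ hne,
        smul_zero, add_zero]
    have e2 : bproj j₂ (mt Q x *ᵥ binj l y₃) = b • bproj j₂ (mt Q x *ᵥ binj l y₂) := by
      rw [hv3, QB.bproj_add, QB.bproj_smul, QB.bproj_smul, QB.mem_Dblk_iff.mp hj1 j₂ hne',
        smul_zero, zero_add]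
    have n1 : bproj j₁ (mt Q x *ᵥ binj l y₃) ≠ 0 := by
      rw [e1]
      exact smul_ne_zero ha (bproj_ne_zero bm hj1 hQ1)
    have n2 : bproj j₂ (mt Q x *ᵥ binj l y₃) ≠ 0 := by
      rw [e2]
      exact smul_ne_zero hb (bproj_ne_zero bm hj2 hQ2)
    have k1 : j₁ = j₃ := by
      by_contra hk
      exact n1 (QB.mem_Dblk_iff.mp hj3 j₁ hk)
    have k2 : j₂ = j₃ := by
      by_contra hk
      exact n2 (QB.mem_Dblk_iff.mp hj3 j₂ hk)
    exact hne (k1.trans k2.symm)
  subst hj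
  refine ⟨j₁, fun y => ?_⟩
  obtain ⟨a', b', hy⟩ := span2 h12 y
  rw [hy, QB.binj_add, QB.binj_smul, QB.binj_smul, Matrix.mulVec_add, Matrix.mulVec_smul,
    Matrix.mulVec_smul]
  exact Submodule.add_mem _ (Submodule.smul_mem _ _ hj1) (Submodule.smul_mem _ _ hj2)

end CLS

/-- CLS: an isometry mapping the block vectors of one square class to block vectors permutes the blocks.
[THREE in every block (scale: `IsSquare (q y * c)`); `y₃ = α y₁ + β y₂`, `α β ≠ 0`, and a sum of nonzero vectors of two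
different blocks is not a block vector: the three images lie in one block, which then contains the image of the whole
block; then the one-directional `STAB` criterion.] -/
theorem CLS.main (bm : BM Q q) (hF : Fintype.card F ≠ 3) (x : OG Q) {c : F} (hc : c ≠ 0)
    (h : ∀ (l : Fin t) (y : Fin 2 → F), IsSquare (q y * c) → IsBlk (mt Q x *ᵥ binj l y)) :
    StabD Q x := by
  exact STAB.of_forall' bm x (fun l => CLS.block bm hF x hc h l)

end Cfsg.Agent.K2M
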