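import Mathlib
import Cfsg.Agent.Helper14.PSLk.Defs

/-!
# S2480 piece SCALE

The elementary-divisor decomposition of `c • g` from that of `g`: the substitution
`X ↦ c⁻¹ X` on `F[X]` sends `p` to a unit multiple of `scaleRoots p c`.
-/

set_option autoImplicit false

namespace Cfsg.Agent.S2480P

open Polynomial DirectSum

universe u

namespace ScaleAux

variable {F : Type u} [Field F]

/-- the substitution `X ↦ c⁻¹ X`. -/
noncomputable def sig (c : Fˣ) : F[X] ≃ₐ[F] F[X] :=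
  algEquivOfCompEqX (C ((c⁻¹ : Fˣ) : F) * X) (C (c : F) * X)
    (by simp [← C_mul, ← mul_assoc]) (by simp [← C_mul, ← mul_assoc])

theorem sig_apply (c : Fˣ) (q : F[X]) : sig c q = q.comp (C ((c⁻¹ : Fˣ) : F) * X) := by
  simp [sig, comp_eq_aeval]

theorem sig_CX (c : Fˣ) : sig c (C (c : F) * X) = X := by
  rw [sig_apply]; simp [← C_mul, ← mul_assoc]

theorem sig_eq_scaleRoots (c : Fˣ) (q : F[X]) :
    sig c q = C (((c⁻¹ : Fˣ) : F) ^ q.natDegree) * scaleRoots q (c : F) := by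
  ext k
  rw [sig_apply, comp_C_mul_X_coeff, coeff_C_mul, coeff_scaleRoots]
  by_cases hk : k ≤ q.natDegree
  · have h1 : ((c⁻¹ : Fˣ) : F) ^ q.natDegree * (c : F) ^ (q.natDegree - k) =
        ((c⁻¹ : Fˣ) : F) ^ k := by
      obtain ⟨d, hd⟩ := Nat.exists_eq_add_of_le hk
      rw [hd, Nat.add_sub_cancel_left, pow_add, mul_assoc, ← mul_pow]
      simp
    rw [← h1]; ring
  · have : q.coeff k = 0 := coeff_eq_zero_of_natDegree_lt (not_le.mp hk)
    simp [this]

theorem isUnit_C_pow (c : Fˣ) (d : ℕ) : IsUnit (C (((c⁻¹ : Fˣ) : F) ^ d) : F[X]) :=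
  (isUnit_C).2 ((Units.isUnit (c⁻¹)).pow d)

theorem irreducible_scaleRoots (c : Fˣ) {q : F[X]} (hq : Irreducible q) :
    Irreducible (scaleRoots q (c : F)) := by
  have h1 : Irreducible (sig c q) := (MulEquiv.irreducible_iff (sig c)).2 hq
  rw [sig_eq_scaleRoots] at h1
  exact (irreducible_isUnit_mul (isUnit_C_pow c _)).1 h1

theorem map_span_pow (c : Fˣ) (q : F[X]) (e : ℕ) :
    Ideal.span {scaleRoots q (c : F) ^ e} =
      (Ideal.span {q ^ e}).map ((sig c : F[X] ≃ₐ[F] F[X]) : F[X] →+* F[X]) := by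
  rw [Ideal.map_span, Set.image_singleton, Ideal.span_singleton_eq_span_singleton]
  have : ((sig c : F[X] ≃ₐ[F] F[X]) : F[X] →+* F[X]) (q ^ e) =
      C (((c⁻¹ : Fˣ) : F) ^ q.natDegree) ^ e * scaleRoots q (c : F) ^ e := by
    show sig c (q ^ e) = _
    rw [map_pow, sig_eq_scaleRoots, mul_pow]
  rw [this]
  exact (associated_isUnit_mul_left_iff ((isUnit_C_pow c _).pow e)).2 (Associated.refl _) |>.symm

/-- the `F`-linear equivalence `F[X]/(q^e) ≃ F[X]/((scaleRoots q c)^e)` induced by `sig c`. -/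
noncomputable def psi (c : Fˣ) (q : F[X]) (e : ℕ) :
    (F[X] ⧸ Submodule.span F[X] {q ^ e}) ≃ₗ[F]
      (F[X] ⧸ Submodule.span F[X] {scaleRoots q (c : F) ^ e}) :=
  (Ideal.quotientEquivAlg (Ideal.span {q ^ e}) (Ideal.span {scaleRoots q (c : F) ^ e}) (sig c)
    (map_span_pow c q e)).toLinearEquiv

theorem psi_smul (c : Fˣ) (q : F[X]) (e : ℕ) (a : F[X])
    (y : F[X] ⧸ Submodule.span F[X] {q ^ e}) :
    psi c q e (a • y) = sig c a • psi c q e y := by
  induction y using Submodule.Quotient.induction_on with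
  | H y =>
    show (Ideal.quotientEquivAlg (Ideal.span {q ^ e}) (Ideal.span {scaleRoots q (c : F) ^ e})
      (sig c) (map_span_pow c q e)) (Ideal.Quotient.mk _ (a * y)) =
      Ideal.Quotient.mk _ (sig c a) * (Ideal.quotientEquivAlg (Ideal.span {q ^ e})
        (Ideal.span {scaleRoots q (c : F) ^ e}) (sig c) (map_span_pow c q e))
        (Ideal.Quotient.mk _ y)
    rw [Ideal.quotientEquivAlg_mk, Ideal.quotientEquivAlg_mk, map_mul, map_mul]

theorem toLin'_scal_mul (n : ℕ) (g : Matrix.GeneralLinearGroup (Fin n) F) (c : Fˣ) :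
    Matrix.toLin' ((scal n c * g : Matrix.GeneralLinearGroup (Fin n) F) :
        Matrix (Fin n) (Fin n) F) =
      (c : F) • Matrix.toLin' (g : Matrix (Fin n) (Fin n) F) := by
  have h : ((scal n c * g : Matrix.GeneralLinearGroup (Fin n) F) :
        Matrix (Fin n) (Fin n) F) = (c : F) • (g : Matrix (Fin n) (Fin n) F) := by
    rw [Units.val_mul]
    show Matrix.scalar (Fin n) (c : F) * _ = _
    rw [Matrix.scalar_apply, ← Matrix.smul_eq_diagonal_mul]
  rw [h, map_smul]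

end ScaleAux

open ScaleAux in
/-- piece SCALE -/
theorem exists_decomp_scal {F : Type u} [Field F] (n : ℕ) (g : Matrix.GeneralLinearGroup (Fin n) F)
    (c : Fˣ) {ι : Type u} [Fintype ι] (p : ι → F[X]) (e : ι → ℕ)
    (hp : ∀ i, (p i).Monic ∧ Irreducible (p i))
    (Φ : Nonempty (Module.AEval' (Matrix.toLin' (g : Matrix (Fin n) (Fin n) F)) ≃ₗ[F[X]]
        ⨁ i, F[X] ⧸ Submodule.span F[X] {p i ^ e i})) :
    (∀ i, (scaleRoots (p i) (c : F)).Monic ∧ Irreducible (scaleRoots (p i) (c : F))) ∧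
    Nonempty (Module.AEval' (Matrix.toLin' ((scal n c * g : Matrix.GeneralLinearGroup (Fin n) F) :
        Matrix (Fin n) (Fin n) F)) ≃ₗ[F[X]]
        ⨁ i, F[X] ⧸ Submodule.span F[X] {scaleRoots (p i) (c : F) ^ e i}) := by
  classical
  obtain ⟨Φ⟩ := Φ
  refine ⟨fun i => ⟨(monic_scaleRoots_iff _).2 (hp i).1, irreducible_scaleRoots c (hp i).2⟩, ?_⟩
  rw [toLin'_scal_mul]
  set A := Matrix.toLin' (g : Matrix (Fin n) (Fin n) F) with hA
  let Ψ : (⨁ i, F[X] ⧸ Submodule.span F[X] {p i ^ e i}) ≃ₗ[F]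
      ⨁ i, F[X] ⧸ Submodule.span F[X] {scaleRoots (p i) (c : F) ^ e i} :=
    DFinsupp.mapRange.linearEquiv (fun i => psi c (p i) (e i))
  have hΨ : ∀ (a : F[X]) (z : ⨁ i, F[X] ⧸ Submodule.span F[X] {p i ^ e i}),
      Ψ (a • z) = sig c a • Ψ z := by
    intro a z
    refine DFinsupp.ext (fun i => ?_)
    show psi c (p i) (e i) (a • z i) = sig c a • psi c (p i) (e i) (z i)
    exact psi_smul c (p i) (e i) a (z i)
  let f : (Fin n → F) ≃ₗ[F] ⨁ i, F[X] ⧸ Submodule.span F[X] {scaleRoots (p i) (c : F) ^ e i} :=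
    (Module.AEval'.of A).trans ((Φ.restrictScalars F).trans Ψ)
  refine ⟨LinearEquiv.ofAEval _ f ?_⟩
  intro m
  show Ψ (Φ (Module.AEval'.of A (((c : F) • A) m))) =
    (X : F[X]) • Ψ (Φ (Module.AEval'.of A m))
  have h1 : Module.AEval'.of A (((c : F) • A) m) =
      (C (c : F) * X) • Module.AEval'.of A m := by
    rw [mul_smul, Module.AEval'.X_smul_of, Module.AEval.C_smul, LinearMap.smul_apply,
      (Module.AEval'.of A).map_smul]
  rw [h1, map_smul, hΨ, sig_CX]

end Cfsg.Agent.S2480P
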