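import Mathlib
import Cfsg.Agent.Helper14.S2481.Defs

set_option autoImplicit false
set_option linter.unusedVariables false

/-! S2481, chapter W, piece WCRT: combining two solutions of the norm equation by the Chinese
remainder theorem. -/

namespace Cfsg.Agent.S2481P

open Polynomial

namespace WCRT

variable {F : Type*} [Field F] {σ : F →+* F}

theorem map_map_self (hσ : IsInvol σ) (P : F[X]) : (P.map σ).map σ = P := by
  rw [Polynomial.map_map]
  have : σ.comp σ = RingHom.id F := RingHom.ext fun a => hσ.sq a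
  rw [this, Polynomial.map_id]

/-- `σ` respects divisibility -/
theorem map_dvd_map' (σ : F →+* F) {a b : F[X]} (h : a ∣ b) : a.map σ ∣ b.map σ :=
  Polynomial.map_dvd σ h

/-- the key congruence step: if `μ ∣ P - Q` and `μ` is `σ`-fixed, then `μ ∣ P σP - Q σQ` -/
theorem dvd_norm_sub (σ : F →+* F) {μ P Q : F[X]} (hμ : μ.map σ = μ) (h : μ ∣ P - Q) :
    μ ∣ P * P.map σ - Q * Q.map σ := by
  have h2 : μ ∣ P.map σ - Q.map σ := by
    have := Polynomial.map_dvd σ h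
    rwa [hμ, Polynomial.map_sub] at this
  have e : P * P.map σ - Q * Q.map σ = (P - Q) * P.map σ + Q * (P.map σ - Q.map σ) := by ring
  rw [e]
  exact dvd_add (Dvd.dvd.mul_right h _) (Dvd.dvd.mul_left h2 _)

end WCRT

variable {F : Type*} [Field F] [Finite F] {σ : F →+* F}

-- piece WCRT
theorem norm_crt (hσ : IsInvol σ) {μ₁ μ₂ P₁ P₂ : F[X]} (hcop : IsCoprime μ₁ μ₂)
    (h1 : μ₁.map σ = μ₁) (h2 : μ₂.map σ = μ₂) (hP1 : μ₁ ∣ P₁ * P₁.map σ - X)
    (hP2 : μ₂ ∣ P₂ * P₂.map σ - X) : ∃ P : F[X], μ₁ * μ₂ ∣ P * P.map σ - X := by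
  obtain ⟨a, b, hab⟩ := hcop
  refine ⟨P₁ * (b * μ₂) + P₂ * (a * μ₁), ?_⟩
  set P := P₁ * (b * μ₂) + P₂ * (a * μ₁) with hP
  have d1 : μ₁ ∣ P - P₁ := ⟨a * (P₂ - P₁), by rw [hP]; linear_combination P₁ * hab⟩
  have d2 : μ₂ ∣ P - P₂ := ⟨b * (P₁ - P₂), by rw [hP]; linear_combination P₂ * hab⟩
  have e1 : μ₁ ∣ P * P.map σ - X := by
    have := dvd_add (WCRT.dvd_norm_sub σ h1 d1) hP1
    rwa [sub_add_sub_cancel] at this
  have e2 : μ₂ ∣ P * P.map σ - X := by
    have := dvd_add (WCRT.dvd_norm_sub σ h2 d2) hP2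
    rwa [sub_add_sub_cancel] at this
  exact IsCoprime.mul_dvd ⟨a, b, hab⟩ e1 e2

end Cfsg.Agent.S2481P
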