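import Mathlib
import Cfsg.Agent.Helper14.S2481.Defs
import Cfsg.Agent.Helper22.S2481WCRT
import Cfsg.Agent.Helper8.S2481FIELDH90

set_option autoImplicit false
set_option linter.unusedVariables false

/-! S2481, chapter W, piece WLIFT: one lifting step for the norm equation. -/

namespace Cfsg.Agent.S2481P

open Polynomial

variable {F : Type*} [Field F] [Finite F] {σ : F →+* F}

-- piece WLIFT (`P' = P * (1 + l b)`, `b = X V - 1`, `V` a `σ`-fixed inverse of `P σ(P)` mod `π μ`)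
theorem norm_lift (hσ : IsInvol σ) {π μ P : F[X]} (hπ : π.map σ = π) (hμ : μ.map σ = μ)
    (hπμ : π ∣ μ) (hμ0 : μ.coeff 0 ≠ 0) (hP : μ ∣ P * P.map σ - X) :
    ∃ P' : F[X], π * μ ∣ P' * P'.map σ - X := by
  obtain ⟨l, hl⟩ := exists_trace_one hσ
  obtain ⟨N, hN⟩ : ∃ N : F[X], N = P * P.map σ := ⟨_, rfl⟩
  rw [← hN] at hP
  have hNσ : N.map σ = N := by
    rw [hN, Polynomial.map_mul, WCRT.map_map_self hσ, mul_comm]
  -- `X` is coprime to `μ`
  have hXμ : IsCoprime X μ := by
    rcases Polynomial.irreducible_X.isCoprime_or_dvd μ with h | h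
    · exact h
    · exfalso
      apply hμ0
      rw [Polynomial.X_dvd_iff] at h
      exact h
  -- `N` is coprime to `μ`, hence to `π μ`
  have hNμ : IsCoprime N μ := by
    obtain ⟨c, hc⟩ := hP
    have e : N = X + μ * c := by linear_combination hc
    rw [e]
    exact IsCoprime.add_mul_left_left hXμ c
  have hNπμ : IsCoprime N (π * μ) := by
    have h2 : IsCoprime N (μ * μ) := hNμ.mul_right hNμ
    exact h2.of_isCoprime_of_dvd_right (mul_dvd_mul_right hπμ μ)
  obtain ⟨V₀, u, hV⟩ := hNπμ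
  obtain ⟨V, hVdef⟩ : ∃ V : F[X], V = C l * V₀ + C (σ l) * V₀.map σ := ⟨_, rfl⟩
  have hVσ : V.map σ = V := by
    rw [hVdef, Polynomial.map_add, Polynomial.map_mul, Polynomial.map_mul, Polynomial.map_C,
      Polynomial.map_C, hσ.sq, WCRT.map_map_self hσ]
    ring
  have hπμσ : (π * μ).map σ = π * μ := by rw [Polynomial.map_mul, hπ, hμ]
  have h1 : π * μ ∣ V₀ * N - 1 := ⟨-u, by linear_combination hV⟩
  have h1' : π * μ ∣ V₀.map σ * N - 1 := by
    have := Polynomial.map_dvd σ h1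
    rwa [hπμσ, Polynomial.map_sub, Polynomial.map_mul, hNσ, Polynomial.map_one] at this
  have hδ : (C l + C (σ l) - 1 : F[X]) = 0 := by
    rw [← C_add, hl, C_1, sub_self]
  have hVN : π * μ ∣ V * N - 1 := by
    have e : V * N - 1 = C l * (V₀ * N - 1) + C (σ l) * (V₀.map σ * N - 1) +
        (C l + C (σ l) - 1) := by
      rw [hVdef]; ring
    rw [e, hδ, add_zero]
    exact dvd_add (Dvd.dvd.mul_left h1 _) (Dvd.dvd.mul_left h1' _)
  obtain ⟨b, hb⟩ : ∃ b : F[X], b = X * V - 1 := ⟨_, rfl⟩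
  have hbσ : b.map σ = b := by
    rw [hb, Polynomial.map_sub, Polynomial.map_mul, Polynomial.map_X, hVσ, Polynomial.map_one]
  have hμb : μ ∣ b := by
    have e : b = -(N - X) * V + (V * N - 1) := by rw [hb]; ring
    rw [e]
    exact dvd_add (Dvd.dvd.mul_right (dvd_neg.mpr hP) _) (Dvd.dvd.trans (Dvd.intro_left π rfl) hVN)
  have hb2 : π * μ ∣ b * b := Dvd.dvd.trans (mul_dvd_mul_right hπμ μ) (mul_dvd_mul hμb hμb)
  refine ⟨P * (1 + C l * b), ?_⟩
  have e : (P * (1 + C l * b)) * (P * (1 + C l * b)).map σ - X =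
      X * (V * N - 1) + N * C l * C (σ l) * (b * b) + (C l + C (σ l) - 1) * (N * b) +
        N * (1 + b - X * V) := by
    rw [Polynomial.map_mul, Polynomial.map_add, Polynomial.map_one, Polynomial.map_mul,
      Polynomial.map_C, hbσ, hN]
    ring
  have e0 : (1 + b - X * V : F[X]) = 0 := by rw [hb]; ring
  rw [e, hδ, e0, zero_mul, mul_zero, add_zero, add_zero]
  exact dvd_add (Dvd.dvd.mul_left hVN _) (Dvd.dvd.mul_left hb2 _)

end Cfsg.Agent.S2481P
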