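import Mathlib
import Cfsg.Agent.Helper14.S2481.Defs
import Cfsg.Agent.Helper22.S2481WCRT

set_option autoImplicit false
set_option linter.unusedVariables false

/-! S2481, chapter W, piece WPAIR: the norm equation modulo `ρ * σρ` for an irreducible `ρ` which
is not `σ`-fixed. -/

namespace Cfsg.Agent.S2481P

open Polynomial

namespace WPAIR

variable {F : Type*} [Field F] {σ : F →+* F}

/-- an irreducible monic polynomial which is not `σ`-fixed is coprime to its `σ`-conjugate -/
theorem isCoprime_map {ρ : F[X]} (hρ : Irreducible ρ) (hρm : ρ.Monic) (hρσ : ρ.map σ ≠ ρ) :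
    IsCoprime ρ (ρ.map σ) := by
  rcases hρ.isCoprime_or_dvd (ρ.map σ) with h | h
  · exact h
  · exfalso
    apply hρσ
    have hm : (ρ.map σ).Monic := hρm.map σ
    have hdeg : (ρ.map σ).natDegree = ρ.natDegree := Polynomial.natDegree_map_eq_of_injective σ.injective ρ
    exact Polynomial.eq_of_monic_of_dvd_of_natDegree_le hρm hm h (le_of_eq hdeg)

end WPAIR

variable {F : Type*} [Field F] [Finite F] {σ : F →+* F}

-- piece WPAIR (CRT: `P ≡ X mod ρ`, `P ≡ 1 mod σρ`)
theorem exists_norm_mod_pair (hσ : IsInvol σ) {ρ : F[X]} (hρ : Irreducible ρ) (hρm : ρ.Monic)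
    (hρσ : ρ.map σ ≠ ρ) : ∃ P : F[X], ρ * ρ.map σ ∣ P * P.map σ - X := by
  have hcop := WPAIR.isCoprime_map hρ hρm hρσ
  obtain ⟨a, b, hab⟩ := hcop
  refine ⟨X * (b * ρ.map σ) + a * ρ, ?_⟩
  set P := X * (b * ρ.map σ) + a * ρ with hP
  have d1 : ρ ∣ P - X := ⟨a * (1 - X), by rw [hP]; linear_combination X * hab⟩
  have d2 : ρ.map σ ∣ P - 1 := ⟨b * (X - 1), by rw [hP]; linear_combination hab⟩
  -- apply `σ`
  have d1' : ρ.map σ ∣ P.map σ - X := by
    have := Polynomial.map_dvd σ d1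
    rwa [Polynomial.map_sub, Polynomial.map_X] at this
  have d2' : ρ ∣ P.map σ - 1 := by
    have := Polynomial.map_dvd σ d2
    rwa [WCRT.map_map_self hσ, Polynomial.map_sub, Polynomial.map_one] at this
  have e1 : ρ ∣ P * P.map σ - X := by
    have e : P * P.map σ - X = (P - X) * P.map σ + X * (P.map σ - 1) := by ring
    rw [e]
    exact dvd_add (Dvd.dvd.mul_right d1 _) (Dvd.dvd.mul_left d2' _)
  have e2 : ρ.map σ ∣ P * P.map σ - X := by
    have e : P * P.map σ - X = (P - 1) * P.map σ + (P.map σ - X) := by ring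
    rw [e]
    exact dvd_add (Dvd.dvd.mul_right d2 _) d1'
  exact IsCoprime.mul_dvd ⟨a, b, hab⟩ e1 e2

end Cfsg.Agent.S2481P
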