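import Mathlib
import Cfsg.Agent.Helper14.S2481.Defs
import Cfsg.Agent.Helper22.S2481WCRT
import Cfsg.Agent.Helper22.S2481WPAIR
import Cfsg.Agent.Helper22.S2481WLIFT
import Cfsg.Agent.Helper8.S2481FIELDH90
import Cfsg.Agent.Helper23.S2481WFIELD

set_option autoImplicit false
set_option linter.unusedVariables false

/-! S2481, chapter W, piece WMAIN: the polynomial norm equation `μ ∣ P σP - X`. -/

namespace Cfsg.Agent.S2481P

open Polynomial

variable {F : Type*} [Field F] [Finite F] {σ : F →+* F}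

namespace WMAIN

/-- a `σ`-prime factor of a `σ`-fixed polynomial with nonzero constant term, with a solution of the
norm equation -/
theorem exists_sigma_prime (hσ : IsInvol σ) {μ : F[X]} (hμ : μ.map σ = μ) (h0 : μ.coeff 0 ≠ 0)
    (hu : ¬ IsUnit μ) :
    ∃ π : F[X], π.map σ = π ∧ π ∣ μ ∧ 0 < π.natDegree ∧ (∃ P₀ : F[X], π ∣ P₀ * P₀.map σ - X) ∧
      ∀ ν : F[X], ν.map σ = ν → IsCoprime π ν ∨ π ∣ ν := by
  obtain ⟨ρ, hρm, hρi, hρμ⟩ := Polynomial.exists_monic_irreducible_factor μ hu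
  have hρdeg : 0 < ρ.natDegree := Irreducible.natDegree_pos hρi
  by_cases hρσ : ρ.map σ = ρ
  · have hρX : ρ ≠ X := by
      rintro rfl
      apply h0
      rw [← Polynomial.X_dvd_iff]
      exact hρμ
    exact ⟨ρ, hρσ, hρμ, hρdeg, exists_norm_mod_irr hσ hρi hρm hρσ hρX,
      fun ν _ => hρi.isCoprime_or_dvd ν⟩
  · have hcop := WPAIR.isCoprime_map hρi hρm hρσ
    have hσρμ : ρ.map σ ∣ μ := by
      have := Polynomial.map_dvd σ hρμ
      rwa [hμ] at this
    refine ⟨ρ * ρ.map σ, ?_, hcop.mul_dvd hρμ hσρμ, ?_, exists_norm_mod_pair hσ hρi hρm hρσ, ?_⟩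
    · rw [Polynomial.map_mul, WCRT.map_map_self hσ, mul_comm]
    · rw [Polynomial.natDegree_mul hρm.ne_zero (hρm.map σ).ne_zero]
      omega
    · intro ν hν
      rcases hρi.isCoprime_or_dvd ν with h | h
      · left
        have h' : IsCoprime (ρ.map σ) ν := by
          have := h.map (Polynomial.mapRingHom σ)
          simp only [Polynomial.coe_mapRingHom] at this
          rwa [hν] at this
        exact h.mul_left h'
      · right
        have h' : ρ.map σ ∣ ν := by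
          have := Polynomial.map_dvd σ h
          rwa [hν] at this
        exact hcop.mul_dvd h h'

end WMAIN

-- piece WMAIN (strong induction on the degree; uses WFIELD, WPAIR, WCRT, WLIFT)
theorem poly_norm (hσ : IsInvol σ) (μ : F[X]) (hμ : μ.map σ = μ) (h0 : μ.coeff 0 ≠ 0) :
    ∃ P : F[X], μ ∣ P * P.map σ - X := by
  induction' hn : μ.natDegree using Nat.strong_induction_on with n ih generalizing μ
  by_cases hu : IsUnit μ
  · exact ⟨0, hu.dvd⟩
  obtain ⟨π, hπσ, hπμ, hπdeg, ⟨P₀, hP₀⟩, hπalt⟩ := WMAIN.exists_sigma_prime hσ hμ h0 hu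
  obtain ⟨μ₁, hμ₁⟩ := hπμ
  have hμne : μ ≠ 0 := by
    rintro rfl
    exact h0 (Polynomial.coeff_zero 0)
  have hπne : π ≠ 0 := by
    rintro rfl
    rw [zero_mul] at hμ₁
    exact hμne hμ₁
  have hμ₁ne : μ₁ ≠ 0 := by
    rintro rfl
    rw [mul_zero] at hμ₁
    exact hμne hμ₁
  have hμ₁σ : μ₁.map σ = μ₁ := by
    have := hμ
    rw [hμ₁, Polynomial.map_mul, hπσ] at this
    exact mul_left_cancel₀ hπne this
  have hμ₁0 : μ₁.coeff 0 ≠ 0 := by
    intro h
    apply h0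
    rw [hμ₁, Polynomial.mul_coeff_zero, h, mul_zero]
  have hdeg : μ₁.natDegree < n := by
    rw [← hn, hμ₁, Polynomial.natDegree_mul hπne hμ₁ne]
    omega
  obtain ⟨P₁, hP₁⟩ := ih μ₁.natDegree hdeg μ₁ hμ₁σ hμ₁0 rfl
  rw [hμ₁]
  rcases hπalt μ₁ hμ₁σ with hc | hd
  · exact norm_crt hσ hc hπσ hμ₁σ hP₀ hP₁
  · exact norm_lift hσ hπσ hμ₁σ hd hμ₁0 hP₁

end Cfsg.Agent.S2481P
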