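import Mathlib
import Cfsg.Agent.Helper8.S2481FIELDNORM

/-!
# Norm equations in finite commutative rings with an involution (helper22)

`R` a finite commutative ring, `τ : R →+* R` an involution such that `x₀ - τ x₀` is a unit for
some `x₀` (so `τ` is non-trivial on every residue field).  Then every `τ`-fixed unit `s` is a norm:
`s = r * τ r`.

Typical use: `R = F[g, g⁻¹, s] ⊆ End V`, `τ` = the adjoint for a non-degenerate form, `g` an
isometry without eigenvalues `±1` (`x₀ = g`, `g - g⁻¹` a unit) and `s = x* x` self-adjoint commuting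
with `g`.
-/

set_option autoImplicit false

namespace Cfsg.Agent.Helper22.NormInv

universe u

section general

variable {R : Type u} [CommRing R] (τ : R →+* R)

/-- a unit difference gives an element of trace one -/
theorem exists_trace_one (hτ : ∀ x, τ (τ x) = x) {x0 : R} (hx0 : IsUnit (x0 - τ x0)) :
    ∃ l : R, l + τ l = 1 := by
  obtain ⟨d, hd⟩ := hx0
  refine ⟨x0 * ↑d⁻¹, ?_⟩
  have hτd : τ (↑d : R) = -↑d := by rw [hd, map_sub, hτ]; ring
  have hτdi : τ (↑d⁻¹ : R) = -↑d⁻¹ := by
    have h1 : τ (↑d⁻¹ : R) * τ (↑d : R) = 1 := by rw [← map_mul, Units.inv_mul, map_one]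
    rw [hτd] at h1
    calc τ (↑d⁻¹ : R) = τ (↑d⁻¹ : R) * (↑d * ↑d⁻¹) := by rw [Units.mul_inv, mul_one]
      _ = -(τ (↑d⁻¹ : R) * -↑d) * ↑d⁻¹ := by ring
      _ = -↑d⁻¹ := by rw [h1]; ring
  rw [map_mul, hτdi]
  calc x0 * ↑d⁻¹ + τ x0 * -↑d⁻¹ = (x0 - τ x0) * ↑d⁻¹ := by ring
    _ = 1 := by rw [← hd, Units.mul_inv]

/-- a `τ`-fixed element `1 + e` with `e` nilpotent is a norm (given an element of trace one) -/
theorem unipotent_norm (hτ : ∀ x, τ (τ x) = x) {l : R} (hl : l + τ l = 1) :
    ∀ n : ℕ, ∀ e : R, τ e = e → e ^ n = 0 → ∃ r : R, r * τ r = 1 + e := by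
  intro n
  induction n using Nat.strong_induction_on with
  | _ n ih =>
    intro e hfix hn
    rcases Nat.lt_or_ge n 2 with h2 | h2
    · have he : e = 0 := by
        interval_cases n
        · rw [pow_zero] at hn
          calc e = e * 1 := (mul_one e).symm
            _ = 0 := by rw [hn, mul_zero]
        · simpa using hn
      exact ⟨1, by rw [he, map_one]; ring⟩
    · have hτl : τ l = 1 - l := by rw [← hl]; ring
      have hcfix : τ (l * τ l) = l * τ l := by rw [map_mul, hτ, mul_comm]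
      have hN1eq : (1 + l * e) * τ (1 + l * e) = 1 + e + (l * τ l) * e ^ 2 := by
        rw [map_add, map_one, map_mul, hfix, hτl]; ring
      have hnil : IsNilpotent (e + (l * τ l) * e ^ 2) := by
        refine ⟨n, ?_⟩
        have : e + (l * τ l) * e ^ 2 = e * (1 + (l * τ l) * e) := by ring
        rw [this, mul_pow, hn, zero_mul]
      have hunit : IsUnit (1 + e + (l * τ l) * e ^ 2) := by
        have : 1 + e + (l * τ l) * e ^ 2 = 1 + (e + (l * τ l) * e ^ 2) := by ring
        rw [this]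
        exact hnil.isUnit_one_add
      obtain ⟨v, hv⟩ := hunit
      have hN1fix : τ (↑v : R) = ↑v := by
        rw [hv, map_add, map_add, map_one, map_mul, map_pow, hfix, hcfix]
      have hvfix : τ (↑v⁻¹ : R) = ↑v⁻¹ := by
        have h1 : τ (↑v⁻¹ : R) * ↑v = 1 := by
          rw [← hN1fix, ← map_mul, Units.inv_mul, map_one]
        calc τ (↑v⁻¹ : R) = τ (↑v⁻¹ : R) * (↑v * ↑v⁻¹) := by rw [Units.mul_inv, mul_one]
          _ = (τ (↑v⁻¹ : R) * ↑v) * ↑v⁻¹ := by ring
          _ = ↑v⁻¹ := by rw [h1, one_mul]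
      have he'fix : τ (-(↑v⁻¹ * (l * τ l) * e ^ 2)) = -(↑v⁻¹ * (l * τ l) * e ^ 2) := by
        rw [map_neg, map_mul, map_mul, map_pow, hvfix, hcfix, hfix]
      have hkey : (1 + e) * ↑v⁻¹ = 1 + -(↑v⁻¹ * (l * τ l) * e ^ 2) := by
        have h1 : (1 + e) = ↑v - (l * τ l) * e ^ 2 := by rw [hv]; ring
        rw [h1, sub_mul, Units.mul_inv]; ring
      have hm : (-(↑v⁻¹ * (l * τ l) * e ^ 2)) ^ ((n + 1) / 2) = 0 := by
        have h0 : e ^ (2 * ((n + 1) / 2)) = 0 := by
          have hle : n ≤ 2 * ((n + 1) / 2) := by omega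
          rw [← Nat.sub_add_cancel hle, pow_add, hn, mul_zero]
        rw [neg_pow, mul_pow, ← pow_mul, h0, mul_zero, mul_zero]
      obtain ⟨r2, hr2⟩ := ih ((n + 1) / 2) (by omega) _ he'fix hm
      refine ⟨(1 + l * e) * r2, ?_⟩
      rw [map_mul]
      calc (1 + l * e) * r2 * (τ (1 + l * e) * τ r2)
          = ((1 + l * e) * τ (1 + l * e)) * (r2 * τ r2) := by ring
        _ = ↑v * ((1 + e) * ↑v⁻¹) := by rw [hN1eq, hr2, hkey, hv]
        _ = (↑v * ↑v⁻¹) * (1 + e) := by ring
        _ = 1 + e := by rw [Units.mul_inv, one_mul]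

/-- in a finite commutative ring without non-trivial idempotents every element is nilpotent or a
unit -/
theorem nilpotent_or_unit [Finite R] (hid : ∀ e : R, e * e = e → e = 0 ∨ e = 1) (x : R) :
    IsNilpotent x ∨ IsUnit x := by
  obtain ⟨a, b, hab, h⟩ := Finite.exists_ne_map_eq_of_infinite (fun n : ℕ => x ^ n)
  wlog hlt : a < b generalizing a b
  · exact this b a hab.symm h.symm (lt_of_le_of_ne (not_lt.mp hlt) hab.symm)
  obtain ⟨d, rfl⟩ : ∃ d, b = a + d + 1 := ⟨b - a - 1, by omega⟩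
  have hstep : ∀ m, a ≤ m → x ^ (m + (d + 1)) = x ^ m := by
    intro m hm
    obtain ⟨k, rfl⟩ := Nat.exists_eq_add_of_le hm
    calc x ^ (a + k + (d + 1)) = x ^ (a + d + 1) * x ^ k := by rw [← pow_add]; congr 1; ring
      _ = x ^ a * x ^ k := by rw [← h]
      _ = x ^ (a + k) := by rw [pow_add]
  have hmul : ∀ k m, a ≤ m → x ^ (m + k * (d + 1)) = x ^ m := by
    intro k
    induction k with
    | zero => intro m _; simp
    | succ k ih =>
      intro m hm
      rw [Nat.succ_mul, ← add_assoc, hstep _ (by omega), ih m hm]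
  rcases Nat.eq_zero_or_pos a with ha | ha
  · right
    subst ha
    have h1 : x ^ (d + 1) = 1 := by simpa using h.symm
    exact IsUnit.of_mul_eq_one (x ^ d) (by rw [← pow_succ']; exact h1)
  · have hn1 : 1 ≤ a * (d + 1) := Nat.mul_pos ha (Nat.succ_pos d)
    have hna : a ≤ a * (d + 1) := Nat.le_mul_of_pos_right a (Nat.succ_pos d)
    have hidem : x ^ (a * (d + 1)) * x ^ (a * (d + 1)) = x ^ (a * (d + 1)) := by
      rw [← pow_add]
      exact hmul a (a * (d + 1)) hna
    rcases hid _ hidem with h0 | h1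
    · left; exact ⟨_, h0⟩
    · right
      exact IsUnit.of_mul_eq_one (x ^ (a * (d + 1) - 1))
        (by rw [← pow_succ', Nat.sub_add_cancel hn1]; exact h1)

end general


section finite

variable {R : Type u} [CommRing R] [Finite R] (τ : R →+* R)

/-- the local case: every element nilpotent or a unit -/
theorem local_case (hτ : ∀ x, τ (τ x) = x) {x0 : R} (hx0 : IsUnit (x0 - τ x0))
    (hloc : ∀ x : R, IsNilpotent x ∨ IsUnit x) [Nontrivial R] {s : R} (hs : IsUnit s)
    (hfix : τ s = s) : ∃ r : R, r * τ r = s := by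
  classical
  have hmax : (nilradical R).IsMaximal := by
    rw [Ideal.isMaximal_iff]
    refine ⟨fun h => not_isNilpotent_one (mem_nilradical.mp h), fun J x _ hxn hxJ => ?_⟩
    rcases hloc x with hn | hu
    · exact absurd (mem_nilradical.mpr hn) hxn
    · obtain ⟨u, rfl⟩ := hu
      have := J.mul_mem_left (↑u⁻¹) hxJ
      rwa [Units.inv_mul] at this
  letI : Field (R ⧸ nilradical R) := Ideal.Quotient.field _
  have hle : nilradical R ≤ (nilradical R).comap τ := fun x hx => by
    rw [Ideal.mem_comap, mem_nilradical]; exact (mem_nilradical.mp hx).map τ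
  set σ : (R ⧸ nilradical R) →+* (R ⧸ nilradical R) := Ideal.quotientMap (nilradical R) τ hle
    with hσ
  have hσmk : ∀ x : R, σ (Ideal.Quotient.mk _ x) = Ideal.Quotient.mk _ (τ x) :=
    fun x => Ideal.quotientMap_mk
  have hunit_ne : ∀ x : R, IsUnit x → Ideal.Quotient.mk (nilradical R) x ≠ 0 := by
    intro x hx h0
    rw [Ideal.Quotient.eq_zero_iff_mem, mem_nilradical] at h0
    exact h0.not_isUnit hx
  have hinv : Cfsg.Agent.S2481P.IsInvol σ := by
    refine ⟨fun a => ?_, fun h => ?_⟩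
    · obtain ⟨x, rfl⟩ := Ideal.Quotient.mk_surjective a
      rw [hσmk, hσmk, hτ]
    · have h1 : σ (Ideal.Quotient.mk _ x0) = Ideal.Quotient.mk _ x0 := by rw [h]; rfl
      rw [hσmk] at h1
      have h2 : Ideal.Quotient.mk (nilradical R) (x0 - τ x0) = 0 := by
        rw [map_sub, h1, sub_self]
      exact hunit_ne _ hx0 h2
  have hsfix : σ (Ideal.Quotient.mk _ s) = Ideal.Quotient.mk _ s := by rw [hσmk, hfix]
  haveI : Finite (R ⧸ nilradical R) := Finite.of_surjective _ Ideal.Quotient.mk_surjective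
  obtain ⟨ybar, hy⟩ := Cfsg.Agent.S2481P.norm_surj hinv hsfix (hunit_ne s hs)
  obtain ⟨y, rfl⟩ := Ideal.Quotient.mk_surjective ybar
  rw [hσmk, ← map_mul] at hy
  -- `y` is a unit
  have hyu : IsUnit y := by
    rcases hloc y with hn | hu
    · exfalso
      have h0 : Ideal.Quotient.mk (nilradical R) y = 0 := by
        rw [Ideal.Quotient.eq_zero_iff_mem, mem_nilradical]; exact hn
      rw [map_mul, h0, zero_mul] at hy
      exact hunit_ne s hs hy.symm
    · exact hu
  have hNu : IsUnit (y * τ y) := hyu.mul (hyu.map τ)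
  obtain ⟨w, hw⟩ := hNu
  have hwfix : τ (↑w : R) = ↑w := by rw [hw, map_mul, hτ, mul_comm]
  have hwifix : τ (↑w⁻¹ : R) = ↑w⁻¹ := by
    have h1 : τ (↑w⁻¹ : R) * ↑w = 1 := by
      rw [← hwfix, ← map_mul, Units.inv_mul, map_one]
    calc τ (↑w⁻¹ : R) = τ (↑w⁻¹ : R) * (↑w * ↑w⁻¹) := by rw [Units.mul_inv, mul_one]
      _ = (τ (↑w⁻¹ : R) * ↑w) * ↑w⁻¹ := by ring
      _ = ↑w⁻¹ := by rw [h1, one_mul]
  -- `u = s * w⁻¹ = 1 + e`
  have hefix : τ (s * ↑w⁻¹ - 1) = s * ↑w⁻¹ - 1 := by
    rw [map_sub, map_mul, map_one, hfix, hwifix]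
  have henil : IsNilpotent (s * ↑w⁻¹ - 1) := by
    rw [← mem_nilradical, ← Ideal.Quotient.eq_zero_iff_mem, map_sub, map_mul, map_one, ← hy, ← hw,
      ← map_mul, Units.mul_inv, map_one, sub_self]
  obtain ⟨n, hn⟩ := henil
  obtain ⟨l, hl⟩ := exists_trace_one τ hτ hx0
  obtain ⟨r, hr⟩ := unipotent_norm τ hτ hl n _ hefix hn
  refine ⟨y * r, ?_⟩
  rw [map_mul]
  calc y * r * (τ y * τ r) = (y * τ y) * (r * τ r) := by ring
    _ = ↑w * (1 + (s * ↑w⁻¹ - 1)) := by rw [hr, hw]
    _ = s * (↑w * ↑w⁻¹) := by ring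
    _ = s := by rw [Units.mul_inv, mul_one]

/-- solving modulo a `τ`-fixed non-zero element, given the statement for smaller rings -/
theorem quot_solve (hτ : ∀ x, τ (τ x) = x) {x0 : R} (hx0 : IsUnit (x0 - τ x0)) {s : R}
    (hs : IsUnit s) (hfix : τ s = s)
    (IH : ∀ (S : Type u) [CommRing S] [Finite S] (τ' : S →+* S), (∀ x, τ' (τ' x) = x) →
      ∀ x0' : S, IsUnit (x0' - τ' x0') → ∀ s' : S, IsUnit s' → τ' s' = s' →
      Nat.card S < Nat.card R → ∃ r : S, r * τ' r = s')
    {a : R} (ha : τ a = a) (ha0 : a ≠ 0) : ∃ r c : R, r * τ r - s = c * a := by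
  classical
  set I : Ideal R := Ideal.span {a} with hI
  have haI : a ∈ I := Ideal.subset_span rfl
  have hle : I ≤ I.comap τ := by
    rw [hI, Ideal.span_le]
    intro x hx
    rw [Set.mem_singleton_iff] at hx
    subst hx
    show τ x ∈ I
    rw [ha]; exact haI
  haveI : Finite (R ⧸ I) := Finite.of_surjective _ Ideal.Quotient.mk_surjective
  have hlt : Nat.card (R ⧸ I) < Nat.card R := by
    have h1 := Submodule.card_eq_card_quotient_mul_card I
    have h2 : 1 < Nat.card I := by
      rw [Finite.one_lt_card_iff_nontrivial]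
      exact ⟨⟨⟨a, haI⟩, 0, fun h => ha0 (congrArg Subtype.val h)⟩⟩
    have h3 : 0 < Nat.card (R ⧸ I) := Nat.card_pos
    rw [h1]
    nlinarith
  have hmk : ∀ x : R, Ideal.quotientMap I τ hle (Ideal.Quotient.mk I x) = Ideal.Quotient.mk I (τ x) :=
    fun x => Ideal.quotientMap_mk
  obtain ⟨ρ, hρ⟩ := IH (R ⧸ I) (Ideal.quotientMap I τ hle)
    (fun y => by
      obtain ⟨x, rfl⟩ := Ideal.Quotient.mk_surjective y
      rw [hmk, hmk, hτ])
    (Ideal.Quotient.mk I x0) (by rw [hmk, ← map_sub]; exact hx0.map _)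
    (Ideal.Quotient.mk I s) (hs.map _) (by rw [hmk, hfix]) hlt
  obtain ⟨r, rfl⟩ := Ideal.Quotient.mk_surjective ρ
  rw [hmk, ← map_mul, Ideal.Quotient.eq, hI, Ideal.mem_span_singleton'] at hρ
  obtain ⟨c, hc⟩ := hρ
  exact ⟨r, c, hc.symm⟩

/-- splitting along a `τ`-fixed non-trivial idempotent -/
theorem split_step (hτ : ∀ x, τ (τ x) = x) {x0 : R} (hx0 : IsUnit (x0 - τ x0)) {s : R}
    (hs : IsUnit s) (hfix : τ s = s)
    (IH : ∀ (S : Type u) [CommRing S] [Finite S] (τ' : S →+* S), (∀ x, τ' (τ' x) = x) →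
      ∀ x0' : S, IsUnit (x0' - τ' x0') → ∀ s' : S, IsUnit s' → τ' s' = s' →
      Nat.card S < Nat.card R → ∃ r : S, r * τ' r = s')
    {f : R} (hf : f * f = f) (hf0 : f ≠ 0) (hf1 : f ≠ 1) (hffix : τ f = f) :
    ∃ r : R, r * τ r = s := by
  obtain ⟨r1, c1, h1⟩ := quot_solve τ hτ hx0 hs hfix IH hffix hf0
  have hffix' : τ (1 - f) = 1 - f := by rw [map_sub, map_one, hffix]
  have hf1' : (1 - f) ≠ 0 := fun h => hf1 (by linear_combination -h)
  obtain ⟨r2, c2, h2⟩ := quot_solve τ hτ hx0 hs hfix IH hffix' hf1'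
  refine ⟨(1 - f) * r1 + f * r2, ?_⟩
  rw [map_add, map_mul, map_mul, hffix', hffix]
  linear_combination (1 - f) ^ 2 * h1 + f ^ 2 * h2 +
    (2 * s + (f - 1) * c1 - f * c2 - (r1 * τ r2 + r2 * τ r1)) * hf

end finite


theorem main_aux : ∀ n : ℕ, ∀ (R : Type u) [CommRing R] [Finite R] (τ : R →+* R),
    (∀ x, τ (τ x) = x) → ∀ x0 : R, IsUnit (x0 - τ x0) → ∀ s : R, IsUnit s → τ s = s →
    Nat.card R = n → ∃ r : R, r * τ r = s := by
  intro n
  induction n using Nat.strong_induction_on with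
  | _ n ih =>
    intro R _ _ τ hτ x0 hx0 s hs hfix hcard
    have IH : ∀ (S : Type u) [CommRing S] [Finite S] (τ' : S →+* S), (∀ x, τ' (τ' x) = x) →
        ∀ x0' : S, IsUnit (x0' - τ' x0') → ∀ s' : S, IsUnit s' → τ' s' = s' →
        Nat.card S < Nat.card R → ∃ r : S, r * τ' r = s' := by
      intro S _ _ τ' h1 x0' h2 s' h3 h4 hlt
      exact ih (Nat.card S) (hcard ▸ hlt) S τ' h1 x0' h2 s' h3 h4 rfl
    rcases subsingleton_or_nontrivial R with hsub | hnt
    · exact ⟨0, Subsingleton.elim _ _⟩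
    by_cases hid : ∀ e : R, e * e = e → e = 0 ∨ e = 1
    · exact local_case τ hτ hx0 (nilpotent_or_unit hid) hs hfix
    · push_neg at hid
      obtain ⟨e, he, he0, he1⟩ := hid
      have he' : τ e * τ e = τ e := by rw [← map_mul, he]
      by_cases hf0 : e * τ e = 0
      · by_cases hg1 : e + τ e = 1
        · refine ⟨s * e + τ e, ?_⟩
          rw [map_add, map_mul, hfix, hτ]
          linear_combination (s ^ 2 + 1) * hf0 + s * he + s * he' + s * hg1
        · have hg : (e + τ e) * (e + τ e) = e + τ e := by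
            linear_combination he + he' + 2 * hf0
          have hgfix : τ (e + τ e) = e + τ e := by rw [map_add, hτ, add_comm]
          have hg0 : e + τ e ≠ 0 := by
            intro h
            apply he0
            have h1 : τ e = -e := by linear_combination h
            rw [h1] at hf0
            have h2 : e * e = 0 := by linear_combination -hf0
            rw [he] at h2
            exact h2
          exact split_step τ hτ hx0 hs hfix IH hg hg0 hg1 hgfix
      · have hff : (e * τ e) * (e * τ e) = e * τ e := by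
          calc (e * τ e) * (e * τ e) = (e * e) * (τ e * τ e) := by ring
            _ = e * τ e := by rw [he, he']
        have hffix : τ (e * τ e) = e * τ e := by rw [map_mul, hτ, mul_comm]
        have hf1 : e * τ e ≠ 1 := by
          intro h
          apply he1
          calc e = e * 1 := (mul_one e).symm
            _ = e * (e * τ e) := by rw [h]
            _ = (e * e) * τ e := by ring
            _ = e * τ e := by rw [he]
            _ = 1 := h
        exact split_step τ hτ hx0 hs hfix IH hff hf0 hf1 hffix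

/-- **Norm equation.**  In a finite commutative ring with an involution `τ` such that some
`x₀ - τ x₀` is a unit, every `τ`-fixed unit is of the form `r * τ r`. -/
theorem exists_mul_tau_eq {R : Type u} [CommRing R] [Finite R] (τ : R →+* R)
    (hτ : ∀ x, τ (τ x) = x) {x0 : R} (hx0 : IsUnit (x0 - τ x0)) {s : R} (hs : IsUnit s)
    (hfix : τ s = s) : ∃ r : R, r * τ r = s :=
  main_aux _ R τ hτ x0 hx0 s hs hfix rfl

end Cfsg.Agent.Helper22.NormInv
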