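import Mathlib
import Cfsg.Agent.Helper22.NormInv

/-!
# S2482 piece NORMINV (helper22): the binary form `a² - d b²` represents every unit

`R` a finite commutative ring in which `2` is a unit, `d` and `s` units: then `a ^ 2 - d * b ^ 2 = s`
is solvable.  Proof: the quadratic algebra `R[ω]/(ω² - d)` with its conjugation `ω ↦ -ω` is a finite
commutative ring with an involution for which `ω - star ω = 2 ω` is a unit, so the norm equation
`r * star r = s` is solvable (`Cfsg.Agent.Helper22.NormInv.exists_mul_tau_eq`).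
-/

set_option autoImplicit false

namespace Cfsg.Agent.S2482P

namespace NORMINV

theorem exists_sq_sub {R : Type*} [CommRing R] [Finite R] (h2 : IsUnit (2 : R)) (d s : R)
    (hd : IsUnit d) (hs : IsUnit s) : ∃ a b : R, a ^ 2 - d * b ^ 2 = s := by
  haveI : Finite (QuadraticAlgebra R d 0) := Finite.of_equiv _ (QuadraticAlgebra.equivProd d 0).symm
  have hτ : ∀ x : QuadraticAlgebra R d 0, starRingEnd _ (starRingEnd _ x) = x := fun x => star_star x
  have hx0 : IsUnit ((⟨0, 1⟩ : QuadraticAlgebra R d 0) - starRingEnd _ ⟨0, 1⟩) := by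
    rw [QuadraticAlgebra.isUnit_iff_norm_isUnit, QuadraticAlgebra.norm_def]
    have : (starRingEnd (QuadraticAlgebra R d 0)) ⟨0, 1⟩ = star (⟨0, 1⟩ : QuadraticAlgebra R d 0) := rfl
    rw [this, QuadraticAlgebra.star_mk]
    simp only [QuadraticAlgebra.re_sub, QuadraticAlgebra.im_sub]
    have h4 : (0 - (0 + 0 * 1) : R) * (0 - (0 + 0 * 1)) + 0 * (0 - (0 + 0 * 1)) * (1 - -1)
        - d * (1 - -1) * (1 - -1) = -(d * (2 * 2)) := by ring
    rw [h4]
    exact (hd.mul (h2.mul h2)).neg
  have hsu : IsUnit (algebraMap R (QuadraticAlgebra R d 0) s) := hs.map _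
  have hsfix : starRingEnd _ (algebraMap R (QuadraticAlgebra R d 0) s) =
      algebraMap R (QuadraticAlgebra R d 0) s := by
    show star (algebraMap R (QuadraticAlgebra R d 0) s) = _
    rw [QuadraticAlgebra.algebraMap_eq, QuadraticAlgebra.star_mk]
    ext <;> simp
  obtain ⟨r, hr⟩ := Cfsg.Agent.Helper22.NormInv.exists_mul_tau_eq (starRingEnd _) hτ hx0 hsu hsfix
  have hr' : r * star r = algebraMap R (QuadraticAlgebra R d 0) s := hr
  rw [← QuadraticAlgebra.algebraMap_norm_eq_mul_star] at hr'
  have hn : QuadraticAlgebra.norm r = s := QuadraticAlgebra.algebraMap_injective hr'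
  rw [QuadraticAlgebra.norm_def] at hn
  refine ⟨r.re, r.im, ?_⟩
  rw [← hn]; ring

end NORMINV

end Cfsg.Agent.S2482P
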