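import Mathlib
import Cfsg.Agent.Helper17.S2482GDefs
import Cfsg.Agent.Helper14.GLk.MOD
import Cfsg.Agent.Helper14.GLk.CONJ
import Cfsg.Agent.Helper15.S2478FACT
import Cfsg.Agent.Helper15.S2478HPROP

/-! # S2482 piece GLLIN (helper22): symplectic matrices of the same type are linearly equivariantly
isomorphic; every symplectic matrix has a type in `T F (2n) (2n)`.

`exists_decomp'` is helper14's `Cfsg.Agent.S2478P.exists_decomp` (GLk/MOD) with the unused
`[Fintype F]` removed (proof copied verbatim). -/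

set_option autoImplicit false

namespace Cfsg.Agent.S2482P

open Polynomial DirectSum Cfsg.Agent.Helper2.SympInvol Cfsg.Agent.S5955P Cfsg.Agent.S5961P Cfsg.Agent.S2676P
  Cfsg.Agent.S2478P Cfsg.Agent.S2481P

universe u

namespace GLLIN

theorem exists_decomp' {F : Type u} [Field F] (n : ℕ)
    (g : Matrix.GeneralLinearGroup (Fin n) F) :
    ∃ (ι : Type u) (_ : Fintype ι) (p : ι → F[X]) (e : ι → ℕ),
      (∀ i, (p i).Monic ∧ Irreducible (p i) ∧ p i ≠ X ∧ 1 ≤ e i) ∧
      ∑ i, e i * (p i).natDegree = n ∧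
      Nonempty (Module.AEval' (Matrix.toLin' (g : Matrix (Fin n) (Fin n) F)) ≃ₗ[F[X]]
        ⨁ i, F[X] ⧸ Submodule.span F[X] {p i ^ e i}) := by
  classical
  have hM : Module.IsTorsion F[X]
      (Module.AEval' (Matrix.toLin' (g : Matrix (Fin n) (Fin n) F))) :=
    Module.AEval.isTorsion_of_finiteDimensional F _ _
  obtain ⟨ι₀, _, p₀, hp₀, e₀, ⟨Φ₀⟩⟩ := Module.equiv_directSum_of_isTorsion hM
  obtain ⟨ι, fι, p, e, hpe, ⟨Ψ⟩⟩ := Cfsg.Agent.S2478P.MOD.normalize_family p₀ hp₀ e₀
  let Φ := Φ₀.trans Ψ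
  have hinj : Function.Injective (Matrix.toLin' (g : Matrix (Fin n) (Fin n) F)) := by
    intro v w hvw
    have h1 : (↑(g⁻¹) : Matrix (Fin n) (Fin n) F).mulVec
        ((g : Matrix (Fin n) (Fin n) F).mulVec v) =
        (↑(g⁻¹) : Matrix (Fin n) (Fin n) F).mulVec
        ((g : Matrix (Fin n) (Fin n) F).mulVec w) := by
      have := hvw
      simp only [Matrix.toLin'_apply] at this
      rw [this]
    simpa [Matrix.mulVec_mulVec] using h1
  refine ⟨ι, fι, p, e, ?_, ?_, ⟨Φ⟩⟩
  · intro i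
    refine ⟨(hpe i).1, (hpe i).2.1, ?_, (hpe i).2.2⟩
    intro hX
    have hei : 1 ≤ e i := (hpe i).2.2
    set y : F[X] ⧸ Submodule.span F[X] {p i ^ e i} := Submodule.Quotient.mk (X ^ (e i - 1))
      with hy
    set x := Φ.symm (DirectSum.lof F[X] ι (fun i => F[X] ⧸ Submodule.span F[X] {p i ^ e i}) i y)
      with hx
    have hXy : (X : F[X]) • y = 0 := by
      rw [hy, ← Submodule.Quotient.mk_smul, Submodule.Quotient.mk_eq_zero, smul_eq_mul,
        ← pow_succ', Nat.sub_add_cancel hei, hX]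
      exact Submodule.mem_span_singleton_self _
    have hXx : (X : F[X]) • x = 0 := by
      rw [hx, ← map_smul, ← map_smul, hXy, map_zero, map_zero]
    have hx0 : x = 0 := by
      have h1 := Module.AEval'.of_symm_X_smul
        (φ := Matrix.toLin' (g : Matrix (Fin n) (Fin n) F)) x
      rw [hXx, map_zero] at h1
      have h2 := hinj (h1.symm.trans (map_zero _).symm)
      exact (LinearEquiv.map_eq_zero_iff _).1 h2
    have hy0 : y = 0 := by
      have h1 : Φ x = 0 := by rw [hx0, map_zero]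
      rw [hx, LinearEquiv.apply_symm_apply] at h1
      have h2 := congrArg (fun z => z i) h1
      simpa [DirectSum.lof_eq_of] using h2
    rw [hy, Submodule.Quotient.mk_eq_zero] at hy0
    have hdvd : (X : F[X]) ^ e i ∣ X ^ (e i - 1) := by
      have := Ideal.mem_span_singleton.1 hy0
      rwa [hX] at this
    have := (pow_dvd_pow_iff (X_ne_zero (R := F)) not_isUnit_X).1 hdvd
    omega
  · have hfin : ∀ i, Module.Finite F (F[X] ⧸ Submodule.span F[X] {p i ^ e i}) :=
      fun i => ((hpe i).1.pow (e i)).finite_adjoinRoot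
    have h1 : Module.finrank F (⨁ i, F[X] ⧸ Submodule.span F[X] {p i ^ e i}) =
        ∑ i, e i * (p i).natDegree := by
      rw [Module.finrank_directSum]
      refine Finset.sum_congr rfl (fun i _ => ?_)
      rw [finrank_quotient_span_eq_natDegree' ((hpe i).1.pow (e i)),
        Polynomial.natDegree_pow]
    have h2 : Module.finrank F
        (Module.AEval' (Matrix.toLin' (g : Matrix (Fin n) (Fin n) F))) = n := by
      rw [← (Module.AEval'.of (Matrix.toLin' (g : Matrix (Fin n) (Fin n) F))).finrank_eq]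
      simp
    rw [← h1, ← h2]
    exact ((Φ.restrictScalars F).finrank_eq).symm


variable {F : Type u} [Field F]

theorem isUnit_det_toFin {n : ℕ} (g : Matrix.symplecticGroup (Fin n) F) : IsUnit (toFin g).det := by
  unfold toFin
  rw [Matrix.det_reindex_self]
  exact SymplecticGroup.symplectic_det g.2

/-- `toFin g` as an element of the general linear group -/
noncomputable def toGL {n : ℕ} (g : Matrix.symplecticGroup (Fin n) F) :
    Matrix.GeneralLinearGroup (Fin (n + n)) F :=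
  Matrix.GeneralLinearGroup.mkOfDetNeZero (toFin g) (isUnit_det_toFin g).ne_zero

theorem coe_toGL {n : ℕ} (g : Matrix.symplecticGroup (Fin n) F) :
    ((toGL g : Matrix.GeneralLinearGroup (Fin (n + n)) F) : Matrix (Fin (n + n)) (Fin (n + n)) F) =
      toFin g := rfl

theorem linIso_of_hasType {n : ℕ} (g g' : Matrix.symplecticGroup (Fin n) F) (t : ℕ → F[X])
    (h : HasType (toFin g) t) (h' : HasType (toFin g') t) : (ofSp g).LinIso (ofSp g') := by
  classical
  obtain ⟨ι, fι, p, e, hp, -, Φ, hpt⟩ := h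
  obtain ⟨ι', fι', p', e', hp', -, Φ', hpt'⟩ := h'
  have hcnt := cnt_eq_of_prod_eq p e p' e' (fun i => ⟨(hp i).1, (hp i).2.1⟩)
    (fun i => ⟨(hp' i).1, (hp' i).2.1⟩) (fun m => by
      have h1 := congrFun hpt m
      have h2 := congrFun hpt' m
      exact h1.trans h2.symm)
  have hc := isConj_of_decomp (n + n) (toGL g) (toGL g') p e p' e' Φ Φ' hcnt
  rw [isConj_iff] at hc
  obtain ⟨c, hc⟩ := hc
  -- matrix identities over `Fin (n + n)`
  have hc1 : (c : Matrix (Fin (n + n)) (Fin (n + n)) F) * toFin g =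
      toFin g' * (c : Matrix (Fin (n + n)) (Fin (n + n)) F) := by
    have h1 : c * toGL g = toGL g' * c := by rw [← hc]; group
    have h2 := congrArg (fun z : Matrix.GeneralLinearGroup (Fin (n + n)) F =>
      (z : Matrix (Fin (n + n)) (Fin (n + n)) F)) h1
    simpa [coe_toGL] using h2
  have hci1 : (c : Matrix (Fin (n + n)) (Fin (n + n)) F) *
      ((c⁻¹ : Matrix.GeneralLinearGroup (Fin (n + n)) F) : Matrix (Fin (n + n)) (Fin (n + n)) F) = 1 := by
    rw [← Units.val_mul, mul_inv_cancel, Units.val_one]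
  have hci2 : ((c⁻¹ : Matrix.GeneralLinearGroup (Fin (n + n)) F) : Matrix (Fin (n + n)) (Fin (n + n)) F) *
      (c : Matrix (Fin (n + n)) (Fin (n + n)) F) = 1 := by
    rw [← Units.val_mul, inv_mul_cancel, Units.val_one]
  -- transport to `Fin n ⊕ Fin n`
  set C : Matrix (Fin n ⊕ Fin n) (Fin n ⊕ Fin n) F :=
    (c : Matrix (Fin (n + n)) (Fin (n + n)) F).submatrix finSumFinEquiv finSumFinEquiv with hC
  set Ci : Matrix (Fin n ⊕ Fin n) (Fin n ⊕ Fin n) F :=
    ((c⁻¹ : Matrix.GeneralLinearGroup (Fin (n + n)) F) :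
      Matrix (Fin (n + n)) (Fin (n + n)) F).submatrix finSumFinEquiv finSumFinEquiv with hCi
  have hsub : ∀ M : Matrix (Fin n ⊕ Fin n) (Fin n ⊕ Fin n) F,
      (Matrix.reindex finSumFinEquiv finSumFinEquiv M).submatrix finSumFinEquiv finSumFinEquiv = M := by
    intro M
    ext i j
    simp [Matrix.reindex_apply, Matrix.submatrix_apply]
  have hCg : C * (g : Matrix (Fin n ⊕ Fin n) (Fin n ⊕ Fin n) F) =
      (g' : Matrix (Fin n ⊕ Fin n) (Fin n ⊕ Fin n) F) * C := by
    have h1 := congrArg (fun M : Matrix (Fin (n + n)) (Fin (n + n)) F =>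
      M.submatrix finSumFinEquiv finSumFinEquiv) hc1
    rw [← Matrix.submatrix_mul_equiv _ _ _ finSumFinEquiv, ← Matrix.submatrix_mul_equiv _ _ _ finSumFinEquiv] at h1
    unfold toFin at h1
    rw [hsub, hsub] at h1
    exact h1
  have hCCi : C * Ci = 1 := by
    rw [hC, hCi, Matrix.submatrix_mul_equiv, hci1, Matrix.submatrix_one_equiv]
  have hCiC : Ci * C = 1 := by
    rw [hC, hCi, Matrix.submatrix_mul_equiv, hci2, Matrix.submatrix_one_equiv]
  let x : (Fin n ⊕ Fin n → F) ≃ₗ[F] (Fin n ⊕ Fin n → F) :=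
    LinearEquiv.ofLinearMap (Matrix.toLin' C) (Matrix.toLin' Ci)
      (by rw [← Matrix.toLin'_mul, hCCi, Matrix.toLin'_one])
      (by rw [← Matrix.toLin'_mul, hCiC, Matrix.toLin'_one])
  refine ⟨x, fun (v : Fin n ⊕ Fin n → F) => ?_⟩
  show Matrix.toLin' C (Matrix.toLin' (g : Matrix (Fin n ⊕ Fin n) (Fin n ⊕ Fin n) F) v) =
    Matrix.toLin' (g' : Matrix (Fin n ⊕ Fin n) (Fin n ⊕ Fin n) F) (Matrix.toLin' C v)
  rw [← Matrix.toLin'_mul_apply, hCg, Matrix.toLin'_mul_apply]

/-- every symplectic matrix has a type, which lies in `T F (2n) (2n)` -/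
theorem exists_hasType {n : ℕ} (g : Matrix.symplecticGroup (Fin n) F) :
    ∃ t : ℕ → F[X], HasType (toFin g) t ∧ t ∈ T F (2 * n) (2 * n) := by
  classical
  obtain ⟨ι, fι, p, e, hp, hsum, Φ⟩ := exists_decomp' (n + n) (toGL g)
  refine ⟨fun m : ℕ => ∏ i with e i = m, p i, ⟨ι, fι, p, e, hp, hsum, Φ, rfl⟩, ?_⟩
  have := prod_mem_T p e (n + n) hp hsum
  rwa [← two_mul] at this

end GLLIN

end Cfsg.Agent.S2482P
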