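import Mathlib
import Cfsg.Agent.Helper14.S2863Defs

/-!
# S2863 board (route B), rows PSYMM, PCLE, PCOMM, PDECOMP, PABEL

The elementary facts about the abstract configuration `Pair L A C Y1 Y2`.
-/

set_option autoImplicit false
set_option linter.unusedVariables false
set_option linter.unusedSectionVars false

namespace Cfsg.Agent.S2863P

open Cfsg Subgroup
open Cfsg.Agent.Helper14 (cj)

section P
variable {G : Type*} [Group G] {L A C Y1 Y2 : Subgroup G}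

/-- PSYMM -/
theorem Pair.symm (P : Pair L A C Y1 Y2) : Pair L A C Y2 Y1 where
  h1L := P.h2L
  h2L := P.h1L
  comm1 := P.comm2
  comm2 := P.comm1
  hAL := P.hAL
  hLA := P.hLA
  hA1 := P.hA2
  hA2 := P.hA1
  gen := by rw [sup_comm]; exact P.gen
  prod := by rw [sup_comm]; exact P.prod
  hC := by rw [inf_comm]; exact P.hC
  swap := by
    obtain ⟨g, hg, h⟩ := P.swap
    refine ⟨g⁻¹, L.inv_mem hg, ?_⟩
    rw [← h]
    exact Cfsg.Agent.Helper14.map_cj_map_cj_inv Y1 g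
  max1 := P.max2
  max2 := P.max1
  sr1 := P.sr2
  sr2 := P.sr1

/-- PCLE : `C ≤ W1`, `C ≤ W2`, `C` is centralised by `L = ⟨Y1, Y2⟩` (`Y1`, `Y2` abelian). -/
theorem Pair.C_le (P : Pair L A C Y1 Y2) :
    C ≤ Y1 ⊓ A ∧ C ≤ Y2 ⊓ A ∧ C ≤ centralizer (L : Set G) := by
  have h1 : C ≤ Y1 ⊓ A := by rw [← P.hC]; exact inf_le_left
  have h2 : C ≤ Y2 ⊓ A := by rw [← P.hC]; exact inf_le_right
  refine ⟨h1, h2, ?_⟩
  intro c hc
  have hc1 : c ∈ Y1 := (h1 hc).1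
  have hc2 : c ∈ Y2 := (h2 hc).1
  have hL : L ≤ centralizer ({c} : Set G) := by
    rw [← P.gen]
    apply sup_le
    · intro y hy
      rw [mem_centralizer_iff]
      intro h hh
      rw [Set.mem_singleton_iff] at hh
      rw [hh]; exact P.comm1 c hc1 y hy
    · intro y hy
      rw [mem_centralizer_iff]
      intro h hh
      rw [Set.mem_singleton_iff] at hh
      rw [hh]; exact P.comm2 c hc2 y hy
  rw [mem_centralizer_iff]
  intro l hl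
  have := hL hl
  rw [mem_centralizer_iff] at this
  exact (this c (Set.mem_singleton c)).symm

/-- PCOMM : `[Y1, A] ≤ W1`. -/
theorem Pair.comm_mem (P : Pair L A C Y1 Y2) {y a : G} (hy : y ∈ Y1) (ha : a ∈ A) :
    y * a * y⁻¹ * a⁻¹ ∈ Y1 ⊓ A := by
  constructor
  · have h1 : a * y⁻¹ * a⁻¹ ∈ Y1 := ((mem_normalizer_iff.1 (P.hA1 ha)) y⁻¹).1 (Y1.inv_mem hy)
    have h2 : y * (a * y⁻¹ * a⁻¹) ∈ Y1 := Y1.mul_mem hy h1
    have e : y * a * y⁻¹ * a⁻¹ = y * (a * y⁻¹ * a⁻¹) := by group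
    rw [e]; exact h2
  · have h1 : y * a * y⁻¹ ∈ A := ((mem_normalizer_iff.1 (P.hLA (P.h1L hy))) a).1 ha
    exact A.mul_mem h1 (A.inv_mem ha)

/-- `W2` normalises `W1` -/
theorem PBASIC_aux_conj (P : Pair L A C Y1 Y2) {w a : G} (hw : w ∈ Y1 ⊓ A) (ha : a ∈ A) :
    a * w * a⁻¹ ∈ Y1 ⊓ A :=
  ⟨((mem_normalizer_iff.1 (P.hA1 ha)) w).1 hw.1, A.mul_mem (A.mul_mem ha hw.2) (A.inv_mem ha)⟩

/-- PDECOMP : `A = W1 W2` (`W1`, `W2` are normalised by `A`). -/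
theorem Pair.decomp (P : Pair L A C Y1 Y2) {a : G} (ha : a ∈ A) :
    ∃ w1 ∈ Y1 ⊓ A, ∃ w2 ∈ Y2 ⊓ A, a = w1 * w2 := by
  have hmem : a ∈ (Y1 ⊓ A) ⊔ (Y2 ⊓ A) := P.prod ha
  rw [sup_eq_closure] at hmem
  clear ha
  induction hmem using closure_induction with
  | mem x hx =>
    rcases hx with hx | hx
    · exact ⟨x, hx, 1, one_mem _, (mul_one x).symm⟩
    · exact ⟨1, one_mem _, x, hx, (one_mul x).symm⟩
  | one => exact ⟨1, one_mem _, 1, one_mem _, (mul_one 1).symm⟩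
  | mul x y _ _ hx hy =>
    obtain ⟨w1, hw1, w2, hw2, rfl⟩ := hx
    obtain ⟨v1, hv1, v2, hv2, rfl⟩ := hy
    refine ⟨w1 * (w2 * v1 * w2⁻¹), mul_mem hw1 (PBASIC_aux_conj P hv1 hw2.2), w2 * v2, mul_mem hw2 hv2, ?_⟩
    group
  | inv x _ hx =>
    obtain ⟨w1, hw1, w2, hw2, rfl⟩ := hx
    refine ⟨w2⁻¹ * w1⁻¹ * w2⁻¹⁻¹, PBASIC_aux_conj P (inv_mem hw1) (A.inv_mem hw2.2), w2⁻¹, inv_mem hw2, ?_⟩
    group

/-- the elements of `L` commuting with `x` modulo the central subgroup `C` -/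
def PBASIC_aux_K (L C : Subgroup G) (hC : C ≤ centralizer (L : Set G)) (x : G) : Subgroup G where
  carrier := {y | y ∈ L ∧ x * y * x⁻¹ * y⁻¹ ∈ C}
  one_mem' := ⟨L.one_mem, by simp⟩
  mul_mem' := by
    rintro y y' ⟨hy, hc⟩ ⟨hy', hc'⟩
    refine ⟨L.mul_mem hy hy', ?_⟩
    have hcen : y * (x * y' * x⁻¹ * y'⁻¹) = (x * y' * x⁻¹ * y'⁻¹) * y :=
      (mem_centralizer_iff.1 (hC hc')) y hy
    have e : x * (y * y') * x⁻¹ * (y * y')⁻¹ = (x * y * x⁻¹ * y⁻¹) * (y * (x * y' * x⁻¹ * y'⁻¹) * y⁻¹) := by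
      group
    rw [e, hcen, mul_assoc _ y y⁻¹, mul_inv_cancel, mul_one]
    exact C.mul_mem hc hc'
  inv_mem' := by
    rintro y ⟨hy, hc⟩
    refine ⟨L.inv_mem hy, ?_⟩
    have hcen : y⁻¹ * (x * y * x⁻¹ * y⁻¹)⁻¹ = (x * y * x⁻¹ * y⁻¹)⁻¹ * y⁻¹ :=
      (mem_centralizer_iff.1 (hC (C.inv_mem hc))) y⁻¹ (L.inv_mem hy)
    have e : x * y⁻¹ * x⁻¹ * y⁻¹⁻¹ = y⁻¹ * (x * y * x⁻¹ * y⁻¹)⁻¹ * y := by group
    rw [e, hcen, mul_assoc, inv_mul_cancel, mul_one]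
    exact C.inv_mem hc

/-- PABEL : `A / C` is abelian (`[W1, W2] ≤ W1 ⊓ W2 = C`, `W1`, `W2` abelian, PDECOMP). -/
theorem Pair.abel (P : Pair L A C Y1 Y2) {a b : G} (ha : a ∈ A) (hb : b ∈ A) :
    a * b * a⁻¹ * b⁻¹ ∈ C := by
  have hCc : C ≤ centralizer (L : Set G) := P.C_le.2.2
  -- step 1: `x ∈ W1 ∪ W2` commutes with `A` modulo `C`
  have h12 : ∀ x ∈ Y1 ⊓ A, ∀ y ∈ Y2 ⊓ A, x * y * x⁻¹ * y⁻¹ ∈ C := by
    intro x hx y hy
    rw [← P.hC]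
    refine Subgroup.mem_inf.2 ⟨?_, ?_⟩
    · have h1 : y * x⁻¹ * y⁻¹ ∈ Y1 ⊓ A := PBASIC_aux_conj P ((Y1 ⊓ A).inv_mem hx) hy.2
      have e : x * y * x⁻¹ * y⁻¹ = x * (y * x⁻¹ * y⁻¹) := by group
      rw [e]; exact (Y1 ⊓ A).mul_mem hx h1
    · have h1 : x * y * x⁻¹ ∈ Y2 ⊓ A := PBASIC_aux_conj P.symm hy hx.2
      exact (Y2 ⊓ A).mul_mem h1 ((Y2 ⊓ A).inv_mem hy)
  have hW1 : ∀ x ∈ Y1 ⊓ A, A ≤ PBASIC_aux_K L C hCc x := by
    intro x hx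
    refine le_trans P.prod (sup_le ?_ ?_)
    · intro y hy
      refine ⟨P.hAL hy.2, ?_⟩
      have : x * y = y * x := P.comm1 x hx.1 y hy.1
      rw [this, mul_assoc y x, mul_inv_cancel, mul_one, mul_inv_cancel]
      exact one_mem _
    · intro y hy
      exact ⟨P.hAL hy.2, h12 x hx y hy⟩
  have hW2 : ∀ x ∈ Y2 ⊓ A, A ≤ PBASIC_aux_K L C hCc x := by
    intro x hx
    refine le_trans P.prod (sup_le ?_ ?_)
    · intro y hy
      refine ⟨P.hAL hy.2, ?_⟩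
      have h1 := h12 y hy x hx
      have e : x * y * x⁻¹ * y⁻¹ = (y * x * y⁻¹ * x⁻¹)⁻¹ := by group
      rw [e]; exact inv_mem h1
    · intro y hy
      refine ⟨P.hAL hy.2, ?_⟩
      have : x * y = y * x := P.comm2 x hx.1 y hy.1
      rw [this, mul_assoc y x, mul_inv_cancel, mul_one, mul_inv_cancel]
      exact one_mem _
  -- step 2: every `a ∈ A` commutes with `W1 ∪ W2` modulo `C`, hence with `A`
  have hA : A ≤ PBASIC_aux_K L C hCc a := by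
    refine le_trans P.prod (sup_le ?_ ?_)
    · intro y hy
      refine ⟨P.hAL hy.2, ?_⟩
      have h1 := (hW1 y hy ha).2
      have e : a * y * a⁻¹ * y⁻¹ = (y * a * y⁻¹ * a⁻¹)⁻¹ := by group
      rw [e]; exact inv_mem h1
    · intro y hy
      refine ⟨P.hAL hy.2, ?_⟩
      have h1 := (hW2 y hy ha).2
      have e : a * y * a⁻¹ * y⁻¹ = (y * a * y⁻¹ * a⁻¹)⁻¹ := by group
      rw [e]; exact inv_mem h1
  exact (hA hb).2

end P

end Cfsg.Agent.S2863P
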