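import Mathlib
import Cfsg.Agent.Helper14.S2863Defs
import Cfsg.Agent.Helper22.S2863PBASIC

/-!
# S2863 board (route B), row PPROD: core (PFIX for the pair and its mirror as hypotheses)

`t s a0` (`t ∈ Y1 ∖ A`, `s ∈ Y2 ∖ A`, `a0 ∈ A`) is fixed-point-free on `A / C`.
-/

set_option autoImplicit false
set_option linter.unusedVariables false
set_option linter.unusedSectionVars false

namespace Cfsg.Agent.S2863P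

open Cfsg Subgroup
open Cfsg.Agent.Helper14 (cj)

section P
variable {G : Type*} [Group G] {L A C Y1 Y2 : Subgroup G}

theorem PPROD_aux_core (P : Pair L A C Y1 Y2)
    (hfix1 : ∀ {t a : G}, t ∈ Y1 → t ∉ A → a ∈ A → t * a * t⁻¹ * a⁻¹ ∈ C → a ∈ Y1 ⊓ A)
    (hfix2 : ∀ {s a : G}, s ∈ Y2 → s ∉ A → a ∈ A → s * a * s⁻¹ * a⁻¹ ∈ C → a ∈ Y2 ⊓ A)
    {t s a0 : G} (ht : t ∈ Y1) (htA : t ∉ A)
    (hs : s ∈ Y2) (hsA : s ∉ A) (ha0 : a0 ∈ A) : FPF A C (t * s * a0) := by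
  intro a ha hfix
  have hCc : C ≤ centralizer (L : Set G) := P.C_le.2.2
  have hC1 : C ≤ Y1 ⊓ A := P.C_le.1
  have hC2 : C ≤ Y2 ⊓ A := P.C_le.2.1
  have htL : t ∈ L := P.h1L ht
  have hsL : s ∈ L := P.h2L hs
  -- `c₀ = [a0, a] ∈ C`
  have hc0 : a0 * a * a0⁻¹ * a⁻¹ ∈ C := P.abel ha0 ha
  -- `c = [t s, a] ∈ C`
  have hc : (t * s) * a * (t * s)⁻¹ * a⁻¹ ∈ C := by
    -- `[t s a0, a] = (t s) c₀ (t s)⁻¹ * [t s, a]` and `c₀` is central in `L`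
    have hcen : (t * s) * (a0 * a * a0⁻¹ * a⁻¹) = (a0 * a * a0⁻¹ * a⁻¹) * (t * s) :=
      ((mem_centralizer_iff.1 (hCc hc0)) (t * s) (L.mul_mem htL hsL))
    have e : (t * s * a0) * a * (t * s * a0)⁻¹ * a⁻¹
        = ((t * s) * (a0 * a * a0⁻¹ * a⁻¹)) * (t * s)⁻¹ * ((t * s) * a * (t * s)⁻¹ * a⁻¹) := by group
    rw [e, hcen] at hfix
    have e2 : (a0 * a * a0⁻¹ * a⁻¹) * (t * s) * (t * s)⁻¹ * ((t * s) * a * (t * s)⁻¹ * a⁻¹)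
        = (a0 * a * a0⁻¹ * a⁻¹) * ((t * s) * a * (t * s)⁻¹ * a⁻¹) := by group
    rw [e2] at hfix
    have := C.mul_mem (C.inv_mem hc0) hfix
    rwa [inv_mul_cancel_left] at this
  -- `[s, a] = t⁻¹ c t * [t⁻¹, a] = c * [t⁻¹, a]`
  have hcen2 : t⁻¹ * ((t * s) * a * (t * s)⁻¹ * a⁻¹) = ((t * s) * a * (t * s)⁻¹ * a⁻¹) * t⁻¹ :=
    ((mem_centralizer_iff.1 (hCc hc)) t⁻¹ (L.inv_mem htL))
  have hrel : s * a * s⁻¹ * a⁻¹ = ((t * s) * a * (t * s)⁻¹ * a⁻¹) * (t⁻¹ * a * t⁻¹⁻¹ * a⁻¹) := by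
    have e : s * a * s⁻¹ * a⁻¹
        = (t⁻¹ * ((t * s) * a * (t * s)⁻¹ * a⁻¹)) * t * (t⁻¹ * a * t⁻¹⁻¹ * a⁻¹) := by group
    rw [e, hcen2]; group
  have hsa2 : s * a * s⁻¹ * a⁻¹ ∈ Y2 ⊓ A := P.symm.comm_mem hs ha
  have hta1 : t⁻¹ * a * t⁻¹⁻¹ * a⁻¹ ∈ Y1 ⊓ A := P.comm_mem (Y1.inv_mem ht) ha
  have hsa1 : s * a * s⁻¹ * a⁻¹ ∈ Y1 ⊓ A := by
    rw [hrel]; exact (Y1 ⊓ A).mul_mem (hC1 hc) hta1
  have hsaC : s * a * s⁻¹ * a⁻¹ ∈ C := by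
    rw [← P.hC]; exact Subgroup.mem_inf.2 ⟨hsa1, hsa2⟩
  have htaC : t⁻¹ * a * t⁻¹⁻¹ * a⁻¹ ∈ C := by
    have : t⁻¹ * a * t⁻¹⁻¹ * a⁻¹ = ((t * s) * a * (t * s)⁻¹ * a⁻¹)⁻¹ * (s * a * s⁻¹ * a⁻¹) := by
      rw [hrel]; group
    rw [this]; exact C.mul_mem (C.inv_mem hc) hsaC
  have ha2 : a ∈ Y2 ⊓ A := hfix2 hs hsA ha hsaC
  have htinvA : t⁻¹ ∉ A := fun h => htA (by simpa using A.inv_mem h)
  have ha1 : a ∈ Y1 ⊓ A := hfix1 (Y1.inv_mem ht) htinvA ha htaC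
  rw [← P.hC]; exact Subgroup.mem_inf.2 ⟨ha1, ha2⟩

end P

end Cfsg.Agent.S2863P
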