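import Mathlib
import Cfsg.Agent.Helper14.S2863Defs
import Cfsg.Agent.Helper22.S2863PBASIC
import Cfsg.Agent.Helper22.S2863PPRODcore
import Cfsg.Agent.Helper4.S2863PFIX

/-!
# S2863 board (route B), row PPROD

`t s a0` (`t ∈ Y1 ∖ A`, `s ∈ Y2 ∖ A`, `a0 ∈ A`) is fixed-point-free on `A / C`.
-/

set_option autoImplicit false
set_option linter.unusedVariables false
set_option linter.unusedSectionVars false

namespace Cfsg.Agent.S2863P

open Cfsg Subgroup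
open Cfsg.Agent.Helper14 (cj)

section P
variable {G : Type*} [Group G] {L A C Y1 Y2 : Subgroup G}

/-- PPROD : `t s a0` is fixed-point-free on `A / C`.  (`a0` is trivial on `A / C`; `s a s⁻¹ ≡ t⁻¹ a t` gives
`[s, a] ≡ [t⁻¹, a] ∈ W2 ⊓ W1 = C`; PFIX for `t⁻¹` and (via PSYMM) for `s`.) -/
theorem Pair.fpf_prod (P : Pair L A C Y1 Y2) {t s a0 : G} (ht : t ∈ Y1) (htA : t ∉ A)
    (hs : s ∈ Y2) (hsA : s ∉ A) (ha0 : a0 ∈ A) : FPF A C (t * s * a0) :=
  PPROD_aux_core P (fun h1 h2 h3 h4 => P.fix1 h1 h2 h3 h4) (fun h1 h2 h3 h4 => P.symm.fix1 h1 h2 h3 h4)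
    ht htA hs hsA ha0

end P

end Cfsg.Agent.S2863P
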