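import Mathlib
import Cfsg.Prelude.Def_ClassicalGeometry
import Cfsg.Agent.Helper16.S5955Defs

/-!
# S5955 piece CW: a Chevalley–Warning argument

In a subspace of dimension at least `2 i` there is a nonzero vector `v` with
`B v (y ^ j v) = 0` for `1 ≤ j < i`.
-/

set_option autoImplicit false
open scoped MatrixGroups

universe u

namespace Cfsg.Agent.S5955P

open Polynomial Cfsg.Agent.Helper2.SympInvol Cfsg.Agent.Helper2.SympUnits Cfsg.Agent.S5961P

namespace CW

open MvPolynomial in
/-- the quadratic polynomial `∑ a k l X_k X_l` -/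
noncomputable def quad {F : Type*} [Field F] (n : ℕ) (a : Fin n → Fin n → F) : MvPolynomial (Fin n) F :=
  ∑ k, ∑ l, MvPolynomial.C (a k l) * MvPolynomial.X k * MvPolynomial.X l

theorem totalDegree_quad {F : Type*} [Field F] (n : ℕ) (a : Fin n → Fin n → F) :
    (quad n a).totalDegree ≤ 2 := by
  unfold quad
  refine (MvPolynomial.totalDegree_finsetSum _ _).trans ?_
  refine Finset.sup_le (fun k _ => ?_)
  refine (MvPolynomial.totalDegree_finsetSum _ _).trans ?_
  refine Finset.sup_le (fun l _ => ?_)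
  refine (MvPolynomial.totalDegree_mul _ _).trans ?_
  have h1 : (MvPolynomial.C (a k l) * MvPolynomial.X k : MvPolynomial (Fin n) F).totalDegree ≤ 1 := by
    refine (MvPolynomial.totalDegree_mul _ _).trans ?_
    rw [MvPolynomial.totalDegree_C, MvPolynomial.totalDegree_X]
  have h2 : (MvPolynomial.X l : MvPolynomial (Fin n) F).totalDegree = 1 := MvPolynomial.totalDegree_X l
  omega

theorem eval_quad {F : Type*} [Field F] (n : ℕ) (a : Fin n → Fin n → F) (x : Fin n → F) :
    MvPolynomial.eval x (quad n a) = ∑ k, ∑ l, a k l * x k * x l := by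
  unfold quad
  simp only [map_sum, map_mul, MvPolynomial.eval_C, MvPolynomial.eval_X]

end CW

/-- CW: Chevalley–Warning -/
theorem exists_isotropic_cyclic {F V : Type*} [Field F] [Fintype F] [AddCommGroup V]
    [Module F V] [FiniteDimensional F V] (B : LinearMap.BilinForm F V)
    (y : Module.End F V) (M : Submodule F V) (i : ℕ) (hi : 1 ≤ i)
    (hdim : 2 * i ≤ Module.finrank F M) :
    ∃ v ∈ M, v ≠ 0 ∧ ∀ j : ℕ, 1 ≤ j → j < i → B v ((y ^ j) v) = 0 := by
  classical
  obtain ⟨p, hp⟩ := CharP.exists F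
  have : Fact p.Prime := ⟨CharP.char_is_prime F p⟩
  set n := Module.finrank F M with hn
  let b : Module.Basis (Fin n) F M := Module.finBasis F M
  -- the coefficients
  let a : ℕ → Fin n → Fin n → F := fun j k l => B (b k : V) ((y ^ j) (b l : V))
  -- evaluation of the forms
  have hev : ∀ (j : ℕ) (x : Fin n → F),
      MvPolynomial.eval x (CW.quad n (a j)) =
        B ((∑ k, x k • b k : M) : V) ((y ^ j) ((∑ k, x k • b k : M) : V)) := by
    intro j x
    rw [CW.eval_quad]
    have h1 : ((∑ k, x k • b k : M) : V) = ∑ k, x k • (b k : V) := by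
      simp
    rw [h1]
    simp only [map_sum, map_smul, LinearMap.sum_apply, LinearMap.smul_apply, smul_eq_mul,
      Finset.mul_sum]
    rw [Finset.sum_comm]
    refine Finset.sum_congr rfl (fun l _ => Finset.sum_congr rfl (fun k _ => ?_))
    show B (b k : V) ((y ^ j) (b l : V)) * x k * x l = _
    ring
  have hsum : (∑ j ∈ Finset.Ico 1 i, (CW.quad n (a j)).totalDegree) < Fintype.card (Fin n) := by
    rw [Fintype.card_fin]
    calc (∑ j ∈ Finset.Ico 1 i, (CW.quad n (a j)).totalDegree)
        ≤ ∑ _j ∈ Finset.Ico 1 i, 2 := Finset.sum_le_sum (fun j _ => CW.totalDegree_quad n (a j))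
      _ = (i - 1) * 2 := by rw [Finset.sum_const, Nat.card_Ico, smul_eq_mul]
      _ < n := by omega
  have hdvd := char_dvd_card_solutions_of_sum_lt p hsum
  -- zero is a solution
  have h0 : ∀ j ∈ Finset.Ico 1 i, MvPolynomial.eval (0 : Fin n → F) (CW.quad n (a j)) = 0 := by
    intro j _
    rw [hev]
    simp
  -- there is another solution
  rw [Fintype.card_eq_nat_card] at hdvd
  have hpos : 0 < Nat.card {x : Fin n → F // ∀ j ∈ Finset.Ico 1 i,
      MvPolynomial.eval x (CW.quad n (a j)) = 0} := by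
    have : Nonempty {x : Fin n → F // ∀ j ∈ Finset.Ico 1 i,
      MvPolynomial.eval x (CW.quad n (a j)) = 0} := ⟨⟨0, h0⟩⟩
    exact Nat.card_pos
  have hcard : 1 < Nat.card {x : Fin n → F // ∀ j ∈ Finset.Ico 1 i,
      MvPolynomial.eval x (CW.quad n (a j)) = 0} := by
    have := Nat.le_of_dvd hpos hdvd
    have h2 := (Fact.out : p.Prime).two_le
    omega
  have := Finite.one_lt_card_iff_nontrivial.mp hcard
  obtain ⟨⟨x, hx⟩, hne⟩ := exists_ne (⟨0, h0⟩ : {x : Fin n → F // ∀ j ∈ Finset.Ico 1 i,
      MvPolynomial.eval x (CW.quad n (a j)) = 0})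
  have hx0 : x ≠ 0 := fun h => hne (Subtype.ext h)
  refine ⟨((∑ k, x k • b k : M) : V), (∑ k, x k • b k : M).2, ?_, ?_⟩
  · intro h
    apply hx0
    have h' : (∑ k, x k • b k : M) = 0 := Subtype.ext h
    have := Fintype.linearIndependent_iff.mp b.linearIndependent x h'
    exact funext this
  · intro j hj1 hji
    rw [← hev]
    exact hx j (Finset.mem_Ico.mpr ⟨hj1, hji⟩)

end Cfsg.Agent.S5955P
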