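import Cfsg.Agent.Helper15.Iso44Defs
import Cfsg.Agent.Helper15.Iso44Bas

/-! Board `s3044pieces`, row AP (`caseA_pprime`): the core argument, with the statement of `comm_YL_Y` (row CY) as a
hypothesis. Blueprint: `departures/helper15_S3044_blueprint.md`, Case A, steps A1 + AP (done without the quotient `Y/O`:
for a `p`-element `t` of `Y` and `y ∈ Y` the commutator `c = [t,y]` is central mod `O` with `c^(p^k) ∈ O`, so `⟨c⟩O` is a
normal `p`-subgroup of `Y`; hence `[T,Y] ≤ O` and `TO` is a normal `p`-subgroup of `Y`). -/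

set_option autoImplicit false

namespace Cfsg.Agent.Helper15.Iso44

open Cfsg Subgroup
open scoped commutatorElement

namespace AP

/-- if `c = [a,b]` commutes with `a` then `aⁿ b a⁻ⁿ = cⁿ b` -/
theorem pow_conj {H : Type*} [Group H] (a b : H) (hc : Commute ⁅a, b⁆ a) (n : ℕ) :
    a ^ n * b * (a ^ n)⁻¹ = ⁅a, b⁆ ^ n * b := by
  induction n with
  | zero => simp
  | succ n ih =>
    have h1 : a ^ (n + 1) * b * (a ^ (n + 1))⁻¹ = a * (a ^ n * b * (a ^ n)⁻¹) * a⁻¹ := by
      rw [pow_succ']; group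
    rw [h1, ih]
    have h2 : a * ⁅a, b⁆ ^ n = ⁅a, b⁆ ^ n * a := ((hc.pow_left n).eq).symm
    have h3 : a * (⁅a, b⁆ ^ n * b) * a⁻¹ = (a * ⁅a, b⁆ ^ n) * (b * a⁻¹) := by group
    rw [h3, h2, pow_succ]
    have h4 : ⁅a, b⁆ ^ n * a * (b * a⁻¹) = ⁅a, b⁆ ^ n * (a * b * a⁻¹ * b⁻¹) * b := by group
    rw [h4, commutatorElement_def]

variable {G : Type*} [Group G] [Finite G] {p : ℕ} [Fact p.Prime] {S : Sylow p G} {P : Subgroup G}

/-- the core of row AP -/
theorem core (hA : ⁅Ysub p P, Ysub p P⁆ ≤ YLsub p S P)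
    (hYLY : ⁅YLsub p S P, Ysub p P⁆ ≤ Osub p P) : PPrimeQuot p P := by
  intro T hT hTY
  haveI : (Osub p P).Normal := O_normal
  -- commutators of `Y` are central mod `O`
  have hcen : ∀ c ∈ ⁅Ysub p P, Ysub p P⁆, ∀ y ∈ Ysub p P, ⁅c, y⁆ ∈ Osub p P := fun c hc y hy =>
    hYLY (Subgroup.commutator_mem_commutator (hA hc) hy)
  -- step 1: `[t,y] ∈ O` for `t ∈ T`, `y ∈ Y`
  have hTYO : ∀ t ∈ T, ∀ y ∈ Ysub p P, ⁅t, y⁆ ∈ Osub p P := by
    intro t ht y hy
    set c : G := ⁅t, y⁆ with hcdef
    have hcYY : c ∈ ⁅Ysub p P, Ysub p P⁆ := Subgroup.commutator_mem_commutator (hTY ht) hy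
    have hcY : c ∈ Ysub p P := Subgroup.commutator_le_left (Ysub p P) (Ysub p P) hcYY
    -- `c ^ (p^k) ∈ O`
    obtain ⟨k, hk⟩ := hT ⟨t, ht⟩
    have hk' : t ^ p ^ k = 1 := by
      have := congrArg Subtype.val hk
      simpa using this
    have hcpk : c ^ p ^ k ∈ Osub p P := by
      let π := QuotientGroup.mk' (Osub p P)
      have hcomm : Commute ⁅π t, π y⁆ (π t) := by
        have h1 : ⁅c, t⁆ ∈ Osub p P := hcen c hcYY t (hTY ht)
        have h2 : π ⁅c, t⁆ = 1 := (QuotientGroup.eq_one_iff _).mpr h1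
        have h3 : ⁅π c, π t⁆ = 1 := by rw [← map_commutatorElement]; exact h2
        have h4 : π c = ⁅π t, π y⁆ := by rw [hcdef, map_commutatorElement]
        rw [← h4]
        exact commutatorElement_eq_one_iff_commute.mp h3
      have h5 := pow_conj (π t) (π y) hcomm (p ^ k)
      have h6 : π t ^ p ^ k = 1 := by rw [← map_pow, hk', map_one]
      rw [h6] at h5
      simp only [one_mul, inv_one, mul_one] at h5
      have h7 : ⁅π t, π y⁆ ^ p ^ k = 1 := by
        have := h5.symm
        exact mul_eq_right.mp this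
      have h8 : π (c ^ p ^ k) = 1 := by rw [map_pow, hcdef, map_commutatorElement]; exact h7
      exact (QuotientGroup.eq_one_iff _).mp h8
    -- `⟨c⟩` is a `p`-group
    obtain ⟨m, hm⟩ := O_isPGroup (p := p) (P := P) ⟨c ^ p ^ k, hcpk⟩
    have hm' : (c ^ p ^ k) ^ p ^ m = 1 := by
      have := congrArg Subtype.val hm
      simpa using this
    have hcord : c ^ p ^ (k + m) = 1 := by rw [pow_add, pow_mul]; exact hm'
    have hzp : IsPGroup p ↥(Subgroup.zpowers c) := by
      have hdvd : orderOf c ∣ p ^ (k + m) := orderOf_dvd_of_pow_eq_one hcord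
      obtain ⟨j, -, hj⟩ := (Nat.dvd_prime_pow (Fact.out : p.Prime)).mp hdvd
      apply IsPGroup.of_card (n := j)
      rw [Nat.card_zpowers, hj]
    have hKp : IsPGroup p ↥(Subgroup.zpowers c ⊔ Osub p P : Subgroup G) :=
      hzp.to_sup_of_normal_right O_isPGroup
    have hKY : Subgroup.zpowers c ⊔ Osub p P ≤ Ysub p P :=
      sup_le ((Subgroup.zpowers_le).mpr hcY) O_le_Y
    -- `Y` normalizes `⟨c⟩ O`
    have hconj : ∀ y' ∈ Ysub p P, ∀ x ∈ (Subgroup.zpowers c ⊔ Osub p P : Subgroup G),
        y' * x * y'⁻¹ ∈ (Subgroup.zpowers c ⊔ Osub p P : Subgroup G) := by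
      intro y' hy' x hx
      have hmap : (Subgroup.zpowers c ⊔ Osub p P).map (MulAut.conj y').toMonoidHom ≤
          Subgroup.zpowers c ⊔ Osub p P := by
        rw [Subgroup.map_sup]
        apply sup_le
        · rw [MonoidHom.map_zpowers, Subgroup.zpowers_le]
          have h1 : (MulAut.conj y').toMonoidHom c = ⁅y', c⁆ * c := by
            simp [commutatorElement_def, MulAut.conj_apply]
          rw [h1]
          have h2 : ⁅y', c⁆ ∈ Osub p P := by
            have h3 := hcen c hcYY y' hy'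
            have h4 : ⁅y', c⁆ = ⁅c, y'⁆⁻¹ := (commutatorElement_inv c y').symm
            rw [h4]
            exact (Osub p P).inv_mem h3
          exact Subgroup.mul_mem _ (Subgroup.mem_sup_right h2) (Subgroup.mem_sup_left (Subgroup.mem_zpowers c))
        · intro z hz
          obtain ⟨o, ho, rfl⟩ := hz
          apply Subgroup.mem_sup_right
          have : (MulAut.conj y').toMonoidHom o = y' * o * y'⁻¹ := by simp [MulAut.conj_apply]
          rw [this]
          exact (O_normal (p := p) (P := P)).conj_mem o ho y'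
      have : (MulAut.conj y').toMonoidHom x ∈ (Subgroup.zpowers c ⊔ Osub p P).map (MulAut.conj y').toMonoidHom :=
        Subgroup.mem_map_of_mem _ hx
      have h2 := hmap this
      simpa [MulAut.conj_apply] using h2
    have hKN : Ysub p P ≤ normalizer ((Subgroup.zpowers c ⊔ Osub p P : Subgroup G) : Set G) := by
      intro y' hy'
      rw [Subgroup.mem_normalizer_iff]
      intro x
      constructor
      · exact hconj y' hy' x
      · intro hx
        have h1 := hconj y'⁻¹ ((Ysub p P).inv_mem hy') _ hx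
        have e : y'⁻¹ * (y' * x * y'⁻¹) * y'⁻¹⁻¹ = x := by group
        rwa [e] at h1
    exact le_O hKp hKY hKN (Subgroup.mem_sup_left (Subgroup.mem_zpowers c))
  -- step 2: `T O` is a normal `p`-subgroup of `Y`
  have hNp : IsPGroup p ↥(T ⊔ Osub p P : Subgroup G) := hT.to_sup_of_normal_right O_isPGroup
  have hNY : T ⊔ Osub p P ≤ Ysub p P := sup_le hTY O_le_Y
  have hconj : ∀ y' ∈ Ysub p P, ∀ x ∈ (T ⊔ Osub p P : Subgroup G), y' * x * y'⁻¹ ∈ (T ⊔ Osub p P : Subgroup G) := by
    intro y' hy' x hx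
    have hmap : (T ⊔ Osub p P).map (MulAut.conj y').toMonoidHom ≤ T ⊔ Osub p P := by
      rw [Subgroup.map_sup]
      apply sup_le
      · intro z hz
        obtain ⟨t, ht, rfl⟩ := hz
        have h1 : (MulAut.conj y').toMonoidHom t = ⁅y', t⁆ * t := by
          simp [commutatorElement_def, MulAut.conj_apply]
        rw [h1]
        have h2 : ⁅y', t⁆ ∈ Osub p P := by
          have h3 := hTYO t ht y' hy'
          have h4 : ⁅y', t⁆ = ⁅t, y'⁆⁻¹ := (commutatorElement_inv t y').symm
          rw [h4]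
          exact (Osub p P).inv_mem h3
        exact Subgroup.mul_mem _ (Subgroup.mem_sup_right h2) (Subgroup.mem_sup_left ht)
      · intro z hz
        obtain ⟨o, ho, rfl⟩ := hz
        apply Subgroup.mem_sup_right
        have : (MulAut.conj y').toMonoidHom o = y' * o * y'⁻¹ := by simp [MulAut.conj_apply]
        rw [this]
        exact (O_normal (p := p) (P := P)).conj_mem o ho y'
    have : (MulAut.conj y').toMonoidHom x ∈ (T ⊔ Osub p P).map (MulAut.conj y').toMonoidHom :=
      Subgroup.mem_map_of_mem _ hx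
    have h2 := hmap this
    simpa [MulAut.conj_apply] using h2
  have hNN : Ysub p P ≤ normalizer ((T ⊔ Osub p P : Subgroup G) : Set G) := by
    intro y' hy'
    rw [Subgroup.mem_normalizer_iff]
    intro x
    constructor
    · exact hconj y' hy' x
    · intro hx
      have h1 := hconj y'⁻¹ ((Ysub p P).inv_mem hy') _ hx
      have e : y'⁻¹ * (y' * x * y'⁻¹) * y'⁻¹⁻¹ = x := by group
      rwa [e] at h1
  exact le_sup_left.trans (le_O hNp hNY hNN)

end AP

end Cfsg.Agent.Helper15.Iso44
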