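import Cfsg.Agent.Helper15.Iso44Defs
import Cfsg.Agent.Helper15.Iso44Bas
import Cfsg.Agent.Helper22.Iso44APcore
import Cfsg.Agent.Helper19.Iso44CY

/-! Board `s3044pieces`, row AP (`caseA_pprime`). -/

set_option autoImplicit false

namespace Cfsg.Agent.Helper15.Iso44

open Cfsg Subgroup

variable {G : Type*} [Group G] [Finite G] {p : ℕ} [Fact p.Prime] {S : Sylow p G} {P : Subgroup G}

theorem caseA_pprime (h : Ctx p S P) (hA : ⁅Ysub p P, Ysub p P⁆ ≤ YLsub p S P) :
    PPrimeQuot p P :=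
  AP.core hA (comm_YL_Y h)

end Cfsg.Agent.Helper15.Iso44
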