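import Mathlib

/-!
# A generic maximality criterion for point stabilisers

If `K = stabilizer G a` is transitive on every fibre of a function `f` on the orbit of `a`, and
no proper partial sum of fibre sizes containing the fibre of `a` divides the orbit length, then
`K` is a maximal subgroup.
-/

namespace Cfsg.Agent.Helper22.MaxStab

open MulAction

variable {G α ι : Type*} [Group G] [MulAction G α] [DecidableEq ι]

theorem ncard_fiber_union (S : Set α) (hS : S.Finite) (f : α → ι) (J : Finset ι) :
    {x | x ∈ S ∧ f x ∈ J}.ncard = ∑ j ∈ J, {x | x ∈ S ∧ f x = j}.ncard := by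
  classical
  induction J using Finset.induction_on with
  | empty => simp
  | insert j J hj ih =>
    rw [Finset.sum_insert hj, ← ih]
    have : {x | x ∈ S ∧ f x ∈ insert j J} = {x | x ∈ S ∧ f x = j} ∪ {x | x ∈ S ∧ f x ∈ J} := by
      ext x
      simp only [Finset.mem_insert, Set.mem_ofPred_eq, Set.mem_union]
      tauto
    rw [this, Set.ncard_union_eq ?_ (hS.subset (fun x hx => hx.1)) (hS.subset (fun x hx => hx.1))]
    rw [Set.disjoint_left]
    rintro x ⟨_, rfl⟩ ⟨_, h⟩
    exact hj h

theorem stabilizer_subgroup_eq (H : Subgroup G) (a : α) :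
    stabilizer H a = (stabilizer G a).subgroupOf H := by
  ext h
  simp only [mem_stabilizer_iff, Subgroup.mem_subgroupOf]
  rfl

theorem relIndex_stabilizer (H : Subgroup G) (a : α) :
    (stabilizer G a).relIndex H = (orbit H a).ncard := by
  rw [Subgroup.relIndex, ← stabilizer_subgroup_eq, index_stabilizer]

/-- The maximality criterion. -/
theorem isCoatom_stabilizer [Finite G] (a : α) (f : α → ι) (vals : Finset ι) (n : ι → ℕ)
    (hvals : ∀ x ∈ orbit G a, f x ∈ vals)
    (hn : ∀ j ∈ vals, {x | x ∈ orbit G a ∧ f x = j}.ncard = n j)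
    (htrans : ∀ x ∈ orbit G a, ∀ y ∈ orbit G a, f x = f y → ∃ k : G, k • a = a ∧ k • x = y)
    (hne : vals ≠ {f a}) (hpos : ∀ j ∈ vals, n j ≠ 0)
    (harith : ∀ J ∈ vals.powerset, f a ∈ J → (∑ j ∈ J, n j) ∣ (∑ j ∈ vals, n j) →
      J = {f a} ∨ J = vals) :
    IsCoatom (stabilizer G a) := by
  classical
  have hfin : (orbit G a).Finite := Set.finite_range _
  have hfa : f a ∈ vals := hvals a (mem_orbit_self a)
  -- the fibre of `f a` is `{a}`
  have hfib : ∀ x ∈ orbit G a, f x = f a → x = a := by
    intro x hx hfx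
    obtain ⟨k, hk, hkx⟩ := htrans a (mem_orbit_self a) x hx hfx.symm
    rw [← hkx, hk]
  -- the orbit has `∑ n j` elements
  have hN : (orbit G a).ncard = ∑ j ∈ vals, n j := by
    have h1 : orbit G a = {x | x ∈ orbit G a ∧ f x ∈ vals} := by
      ext x
      constructor
      · intro hx; exact ⟨hx, hvals x hx⟩
      · intro hx; exact hx.1
    rw [h1, ncard_fiber_union _ hfin]
    exact Finset.sum_congr rfl hn
  have hNpos : (orbit G a).ncard ≠ 0 := by
    intro h0
    rw [Set.ncard_eq_zero hfin] at h0
    have := mem_orbit_self (M := G) a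
    rw [h0] at this
    exact this
  constructor
  · -- not top
    intro htop
    apply hne
    ext j
    rw [Finset.mem_singleton]
    constructor
    · intro hj
      have hcard := hn j hj
      have hne0 := hpos j hj
      rw [← hcard] at hne0
      obtain ⟨x, hx, hfx⟩ := Set.nonempty_of_ncard_ne_zero hne0
      obtain ⟨g, rfl⟩ := hx
      have hg : g ∈ stabilizer G a := by rw [htop]; trivial
      rw [mem_stabilizer_iff] at hg
      dsimp only at hfx
      rw [← hfx, hg]
    · rintro rfl; exact hfa
  · -- every strictly larger subgroup is top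
    intro H hKH
    have hle : stabilizer G a ≤ H := hKH.le
    set O := orbit H a with hO
    have hOsub : O ⊆ orbit G a := orbit_subgroup_subset H a
    set J := vals.filter (fun j => ∃ x ∈ O, f x = j) with hJ
    have hOeq : O = {x | x ∈ orbit G a ∧ f x ∈ J} := by
      ext y
      constructor
      · intro hy
        refine ⟨hOsub hy, ?_⟩
        rw [hJ, Finset.mem_filter]
        exact ⟨hvals y (hOsub hy), y, hy, rfl⟩
      · rintro ⟨hy, hfy⟩
        rw [hJ, Finset.mem_filter] at hfy
        obtain ⟨_, x, hx, hfx⟩ := hfy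
        obtain ⟨k, hk, hkx⟩ := htrans x (hOsub hx) y hy hfx
        obtain ⟨h, rfl⟩ := hx
        have hkH : k ∈ H := hle (by rw [mem_stabilizer_iff]; exact hk)
        refine ⟨⟨k, hkH⟩ * h, ?_⟩
        rw [← hkx]
        show (⟨k, hkH⟩ * h : H) • a = k • (h • a)
        rw [mul_smul]
        rfl
    have hJsub : J ⊆ vals := Finset.filter_subset _ _
    have hOcard : O.ncard = ∑ j ∈ J, n j := by
      rw [hOeq, ncard_fiber_union _ hfin]
      exact Finset.sum_congr rfl (fun j hj => hn j (hJsub hj))
    have hfaJ : f a ∈ J := by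
      rw [hJ, Finset.mem_filter]
      exact ⟨hfa, a, mem_orbit_self a, rfl⟩
    have hdvd : (∑ j ∈ J, n j) ∣ (∑ j ∈ vals, n j) := by
      rw [← hOcard, ← hN, ← relIndex_stabilizer, ← index_stabilizer]
      exact Subgroup.relIndex_dvd_index_of_le hle
    rcases harith J (Finset.mem_powerset.2 hJsub) hfaJ hdvd with h1 | h2
    · -- `O = {a}`, so `H ≤ K`, contradiction
      exfalso
      apply hKH.not_ge
      intro h hh
      rw [mem_stabilizer_iff]
      have hmem : (⟨h, hh⟩ : H) • a ∈ O := mem_orbit _ _
      rw [hOeq] at hmem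
      obtain ⟨hm1, hm2⟩ := hmem
      rw [h1, Finset.mem_singleton] at hm2
      exact hfib _ hm1 hm2
    · -- `O` is the whole orbit, so `H` has index one
      have hidx : (stabilizer G a).relIndex H = (stabilizer G a).index := by
        rw [relIndex_stabilizer, index_stabilizer, ← hO, hOcard, h2, hN]
      have hmul := Subgroup.relIndex_mul_index hle
      rw [hidx] at hmul
      have hK0 : (stabilizer G a).index ≠ 0 := by rw [index_stabilizer]; exact hNpos
      have : H.index = 1 := by
        have := Nat.eq_of_mul_eq_mul_left (Nat.pos_of_ne_zero hK0) (hmul.trans (mul_one _).symm)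
        exact this
      exact Subgroup.index_eq_one.1 this

/-- The maximality criterion for a subgroup `K` containing a point stabiliser. -/
theorem isCoatom_of_stabilizer_le [Finite G] (a : α) (K : Subgroup G) (hK : stabilizer G a ≤ K)
    (f : α → ι) (vals : Finset ι) (n : ι → ℕ)
    (hinv : ∀ k ∈ K, f (k • a) = f a)
    (hvals : ∀ x ∈ orbit G a, f x ∈ vals)
    (hn : ∀ j ∈ vals, {x | x ∈ orbit G a ∧ f x = j}.ncard = n j)
    (htrans : ∀ x ∈ orbit G a, ∀ y ∈ orbit G a, f x = f y → ∃ k ∈ K, k • x = y)
    (hne : vals ≠ {f a}) (hpos : ∀ j ∈ vals, n j ≠ 0)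
    (harith : ∀ J ∈ vals.powerset, f a ∈ J → (∑ j ∈ J, n j) ∣ (∑ j ∈ vals, n j) →
      J = {f a} ∨ J = vals) :
    IsCoatom K := by
  classical
  have hfin : (orbit G a).Finite := Set.finite_range _
  have hfa : f a ∈ vals := hvals a (mem_orbit_self a)
  -- the orbit has `∑ n j` elements
  have hN : (orbit G a).ncard = ∑ j ∈ vals, n j := by
    have h1 : orbit G a = {x | x ∈ orbit G a ∧ f x ∈ vals} := by
      ext x
      constructor
      · intro hx; exact ⟨hx, hvals x hx⟩
      · intro hx; exact hx.1
    rw [h1, ncard_fiber_union _ hfin]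
    exact Finset.sum_congr rfl hn
  have hNpos : (orbit G a).ncard ≠ 0 := by
    intro h0
    rw [Set.ncard_eq_zero hfin] at h0
    have := mem_orbit_self (M := G) a
    rw [h0] at this
    exact this
  -- a subgroup whose orbit of `a` lies in the fibre of `f a` is `≤ K`
  have hsmall : ∀ H : Subgroup G, (∀ h ∈ H, f (h • a) = f a) → H ≤ K := by
    intro H hH h hh
    obtain ⟨k, hk, hka⟩ := htrans a (mem_orbit_self a) (h • a) (mem_orbit a h) (hH h hh).symm
    have : k⁻¹ * h ∈ stabilizer G a := by
      rw [mem_stabilizer_iff, mul_smul, ← hka, inv_smul_smul]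
    have h2 := K.mul_mem hk (hK this)
    rwa [mul_inv_cancel_left] at h2
  constructor
  · -- not top
    intro htop
    apply hne
    ext j
    rw [Finset.mem_singleton]
    constructor
    · intro hj
      have hcard := hn j hj
      have hne0 := hpos j hj
      rw [← hcard] at hne0
      obtain ⟨x, hx, hfx⟩ := Set.nonempty_of_ncard_ne_zero hne0
      obtain ⟨g, rfl⟩ := hx
      have hg : g ∈ K := by rw [htop]; trivial
      dsimp only at hfx
      rw [← hfx]
      exact hinv g hg
    · rintro rfl; exact hfa
  · -- every strictly larger subgroup is top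
    intro H hKH
    have hle : stabilizer G a ≤ H := hK.trans hKH.le
    obtain ⟨O, hO⟩ : ∃ O, O = orbit H a := ⟨_, rfl⟩
    have hOsub : O ⊆ orbit G a := by rw [hO]; exact orbit_subgroup_subset H a
    obtain ⟨J, hJ⟩ : ∃ J, J = vals.filter (fun j => ∃ x ∈ O, f x = j) := ⟨_, rfl⟩
    have hOeq : O = {x | x ∈ orbit G a ∧ f x ∈ J} := by
      ext y
      constructor
      · intro hy
        refine ⟨hOsub hy, ?_⟩
        rw [hJ, Finset.mem_filter]
        exact ⟨hvals y (hOsub hy), y, hy, rfl⟩
      · rintro ⟨hy, hfy⟩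
        rw [hJ, Finset.mem_filter] at hfy
        obtain ⟨_, x, hx, hfx⟩ := hfy
        obtain ⟨k, hk, hkx⟩ := htrans x (hOsub hx) y hy hfx
        rw [hO] at hx ⊢
        obtain ⟨h, rfl⟩ := hx
        have hkH : k ∈ H := hKH.le hk
        refine ⟨⟨k, hkH⟩ * h, ?_⟩
        rw [← hkx]
        show (⟨k, hkH⟩ * h : H) • a = k • (h • a)
        rw [mul_smul]
        rfl
    have hJsub : J ⊆ vals := by rw [hJ]; exact Finset.filter_subset _ _
    have hOcard : O.ncard = ∑ j ∈ J, n j := by
      rw [hOeq, ncard_fiber_union _ hfin]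
      exact Finset.sum_congr rfl (fun j hj => hn j (hJsub hj))
    have hfaJ : f a ∈ J := by
      rw [hJ, Finset.mem_filter]
      refine ⟨hfa, a, ?_, rfl⟩
      rw [hO]
      exact mem_orbit_self a
    have hdvd : (∑ j ∈ J, n j) ∣ (∑ j ∈ vals, n j) := by
      rw [← hOcard, ← hN, hO, ← relIndex_stabilizer, ← index_stabilizer]
      exact Subgroup.relIndex_dvd_index_of_le hle
    rcases harith J (Finset.mem_powerset.2 hJsub) hfaJ hdvd with h1 | h2
    · exfalso
      apply hKH.not_ge
      apply hsmall
      intro h hh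
      have hmem : (⟨h, hh⟩ : H) • a ∈ O := by rw [hO]; exact mem_orbit _ _
      rw [hOeq] at hmem
      obtain ⟨hm1, hm2⟩ := hmem
      rw [h1, Finset.mem_singleton] at hm2
      exact hm2
    · have hidx : (stabilizer G a).relIndex H = (stabilizer G a).index := by
        rw [relIndex_stabilizer, index_stabilizer, ← hO, hOcard, h2, hN]
      have hmul := Subgroup.relIndex_mul_index hle
      rw [hidx] at hmul
      have hK0 : (stabilizer G a).index ≠ 0 := by rw [index_stabilizer]; exact hNpos
      have : H.index = 1 :=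
        Nat.eq_of_mul_eq_mul_left (Nat.pos_of_ne_zero hK0) (hmul.trans (mul_one _).symm)
      exact Subgroup.index_eq_one.1 this

end Cfsg.Agent.Helper22.MaxStab
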