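import Mathlib
import Cfsg.Agent.Helper15.S3412.Defs
import Cfsg.Agent.Helper23.S3412QIMG
import Cfsg.Agent.Helper23.S3412QCARD

/-! # S3412 piece QEQUIV (helper22): a commuting graph isomorphism induces a bijection of the
`Q`-subgroups -/

set_option autoImplicit false

namespace Cfsg.Agent.S3412P

namespace QEQUIV

/-- a subgroup is determined by its non-identity elements -/
theorem subgroup_ext_of_ne_one {X : Type*} [Group X] {A B : Subgroup X}
    (h : ∀ a : X, a ≠ 1 → (a ∈ A ↔ a ∈ B)) : A = B := by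
  ext a
  by_cases ha : a = 1
  · subst ha
    exact ⟨fun _ => B.one_mem, fun _ => A.one_mem⟩
  · exact h a ha

/-- the order of a centralizer, from the commuting graph (as in `Helper15.NseM`) -/
theorem card_centralizer_eq' {K : Type*} [Group K] [Finite K] (x : K) :
    Nat.card (Subgroup.centralizer ({x} : Set K)) =
      Nat.card {y : {k : K // k ≠ 1} // x * y.1 = y.1 * x} + 1 := by
  classical
  have e : Subgroup.centralizer ({x} : Set K) ≃
      Option {y : {k : K // k ≠ 1} // x * y.1 = y.1 * x} :=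
    { toFun := fun c => if h : (c : K) = 1 then none else
        some ⟨⟨c.1, h⟩, (Subgroup.mem_centralizer_singleton_iff.mp c.2).symm⟩
      invFun := fun o => match o with
        | none => 1
        | some y => ⟨y.1.1, Subgroup.mem_centralizer_singleton_iff.mpr y.2.symm⟩
      left_inv := fun c => by
        by_cases h : (c : K) = 1
        · simp only [h, dite_true]
          exact Subtype.ext h.symm
        · simp only [h, dite_false]
      right_inv := fun o => by
        cases o with
        | none => simp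
        | some y =>
          have : (y.1.1 : K) ≠ 1 := y.1.2
          simp [this] }
  rw [Nat.card_congr e, Finite.card_option]

theorem card_centralizer_map' {H G : Type*} [Group H] [Group G] [Finite H] [Finite G]
    (f : {h : H // h ≠ 1} ≃ {g : G // g ≠ 1}) (hf : IsGraphIso f) (x : {h : H // h ≠ 1}) :
    Nat.card (Subgroup.centralizer ({(x : H)} : Set H)) =
      Nat.card (Subgroup.centralizer ({((f x) : G)} : Set G)) := by
  rw [card_centralizer_eq', card_centralizer_eq']
  congr 1
  exact Nat.card_congr (f.subtypeEquiv (fun y => hf x y))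

/-- the image of a `Q`-subgroup -/
theorem exists_map {H G : Type*} [Group H] [Group G] [Finite H] [Finite G]
    (f : {h : H // h ≠ 1} ≃ {g : G // g ≠ 1}) (hf : IsGraphIso f) (A : QV H) :
    ∃ B : QV G, ∀ (a : H) (ha : a ≠ 1), a ∈ A.1 ↔ (f ⟨a, ha⟩ : G) ∈ B.1 := by
  obtain ⟨hcard, hcent, h27⟩ := A.2
  obtain ⟨B, hB, hAB⟩ := QIMG.exists_image f hf A.1 hcent
  refine ⟨⟨B, ?_, hB, ?_⟩, hAB⟩
  · rw [← QCARD.card_eq_of_mem_iff f A.1 B hAB]
    exact hcard
  · intro b hbB hb
    obtain ⟨⟨a, ha⟩, hfa⟩ := f.surjective ⟨b, hb⟩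
    have hfa' : (f ⟨a, ha⟩ : G) = b := by rw [hfa]
    have haA : a ∈ A.1 := by
      rw [hAB a ha, hfa']
      exact hbB
    have h1 := h27 a haA ha
    have h2 := card_centralizer_map' f hf ⟨a, ha⟩
    rw [hfa'] at h2
    rw [← h2]
    exact h1

theorem exists_qequiv {H G : Type*} [Group H] [Group G] [Finite H] [Finite G]
    (f : {h : H // h ≠ 1} ≃ {g : G // g ≠ 1}) (hf : IsGraphIso f) :
    ∃ e : QV H ≃ QV G, ∀ (A : QV H) (a : H) (ha : a ≠ 1), a ∈ A.1 ↔ (f ⟨a, ha⟩ : G) ∈ (e A).1 := by
  classical
  have hf' : IsGraphIso f.symm := QCARD.isGraphIso_symm f hf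
  choose F hF using exists_map f hf
  choose F' hF' using exists_map f.symm hf'
  refine ⟨⟨F, F', ?_, ?_⟩, hF⟩
  · intro A
    apply Subtype.ext
    apply subgroup_ext_of_ne_one
    intro a ha
    have h1 := hF A a ha
    have h2 := hF' (F A) (f ⟨a, ha⟩ : G) (f ⟨a, ha⟩).2
    rw [Subtype.coe_eta, Equiv.symm_apply_apply] at h2
    rw [h1, h2]
  · intro B
    apply Subtype.ext
    apply subgroup_ext_of_ne_one
    intro b hb
    have h1 := hF' B b hb
    have h2 := hF (F' B) (f.symm ⟨b, hb⟩ : H) (f.symm ⟨b, hb⟩).2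
    rw [Subtype.coe_eta, Equiv.apply_symm_apply] at h2
    rw [h1, h2]

end QEQUIV

end Cfsg.Agent.S3412P
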