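import Mathlib
import Cfsg.Prelude.Def_ClassicalGeometry
import Cfsg.Agent.Helper16.S5955Defs
import Cfsg.Agent.Helper24.S5961DUALPAIR
import Cfsg.Agent.Helper10.S5961FIXSPLIT
import Cfsg.Agent.Helper18.S5961ARITH
import Cfsg.Agent.Helper1.S5961EVENA
import Cfsg.Agent.Helper21.S5950SEMI
import Cfsg.Agent.Helper25.S5955EVENAG
import Cfsg.Agent.Helper26.S5955IRRSUB
import Cfsg.Agent.Helper8.S5955INVSPLIT

/-!
# S5955 piece MODELBOUND

In a model space whose polynomial ranks are bounded, a totally isotropic invariant subspace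
is small.
-/

set_option autoImplicit false
open scoped MatrixGroups

universe u

namespace Cfsg.Agent.S5955P

open Polynomial Cfsg.Agent.Helper2.SympInvol Cfsg.Agent.Helper2.SympUnits Cfsg.Agent.S5961P

namespace MODELBOUND

variable {F V : Type*} [Field F] [AddCommGroup V] [Module F V]

/-- the norm element `∑ y^k u` is fixed -/
theorem geom_mem_ker (y : Module.End F V) (r : ℕ) (hy : y ^ r = 1) (u : V) :
    (∑ k ∈ Finset.range r, (y ^ k) u) ∈ LinearMap.ker (y - 1) := by
  rw [LinearMap.mem_ker]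
  have h := mul_geom_sum y r
  rw [hy, sub_self] at h
  have h2 := congrArg (fun f : Module.End F V => f u) h
  simp only [Module.End.mul_apply, LinearMap.sum_apply, LinearMap.zero_apply] at h2
  exact h2

theorem pow_mem (y : Module.End F V) (U : Submodule F V) (hU : U.map y ≤ U) (k : ℕ) {u : V}
    (hu : u ∈ U) : (y ^ k) u ∈ U := by
  induction k with
  | zero => simpa using hu
  | succ k ih =>
    rw [pow_succ', Module.End.mul_apply]
    exact hU (Submodule.mem_map_of_mem ih)

theorem isom_pow (B : LinearMap.BilinForm F V) (y : Module.End F V)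
    (hyB : ∀ u v, B (y u) (y v) = B u v) (a : ℕ) (u v : V) :
    B ((y ^ a) u) ((y ^ a) v) = B u v := by
  induction a with
  | zero => simp
  | succ a ih => rw [pow_succ', Module.End.mul_apply, Module.End.mul_apply, hyB, ih]

/-- a dual of a subspace without fixed points has no fixed points -/
theorem dual_nofix (B : LinearMap.BilinForm F V) (y : Module.End F V)
    (hyB : ∀ u v, B (y u) (y v) = B u v) (r : ℕ) (hy : y ^ r = 1) (hr : (r : F) ≠ 0)
    (U U' : Submodule F V) (hU : U.map y ≤ U) (hUfix : U ⊓ LinearMap.ker (y - 1) = ⊥)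
    (hpair : ∀ u' ∈ U', (∀ u ∈ U, B u u' = 0) → u' = 0) :
    U' ⊓ LinearMap.ker (y - 1) = ⊥ := by
  rw [Submodule.eq_bot_iff]
  rintro u' ⟨hu', hfix⟩
  apply hpair u' hu'
  intro u hu
  have hyu' : y u' = u' := by
    have := LinearMap.mem_ker.mp hfix
    rw [LinearMap.sub_apply, Module.End.one_apply, sub_eq_zero] at this
    exact this
  have hpow : ∀ k : ℕ, (y ^ k) u' = u' := by
    intro k
    induction k with
    | zero => simp
    | succ k ih => rw [pow_succ', Module.End.mul_apply, ih, hyu']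
  have hs : (∑ k ∈ Finset.range r, (y ^ k) u) = 0 := by
    have h1 : (∑ k ∈ Finset.range r, (y ^ k) u) ∈ U ⊓ LinearMap.ker (y - 1) :=
      ⟨U.sum_mem (fun k _ => pow_mem y U hU k hu), geom_mem_ker y r hy u⟩
    rw [hUfix] at h1
    exact (Submodule.mem_bot F).mp h1
  have h2 : B (∑ k ∈ Finset.range r, (y ^ k) u) u' = (r : F) * B u u' := by
    rw [map_sum, LinearMap.sum_apply]
    have : ∀ k ∈ Finset.range r, B ((y ^ k) u) u' = B u u' := by
      intro k _
      conv_lhs => rw [← hpow k]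
      exact isom_pow B y hyB k u u'
    rw [Finset.sum_congr rfl this, Finset.sum_const, Finset.card_range, nsmul_eq_mul]
  rw [hs, map_zero, LinearMap.zero_apply] at h2
  exact (mul_eq_zero.mp h2.symm).resolve_left hr

end MODELBOUND

/-- MODELBOUND -/
theorem model_bound {F V : Type*} [Field F] [Fintype F] [AddCommGroup V] [Module F V]
    [FiniteDimensional F V] {p : ℕ} [Fact p.Prime] [CharP F p] (r : ℕ) [Fact r.Prime]
    (hr2 : r ≠ 2) (hrp : r ≠ p) (B : LinearMap.BilinForm F V) (y : Module.End F V)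
    (h : IsYSp B y r) (hev : Even (orderOf ((Fintype.card F : ℕ) : ZMod r)))
    (g₀ : F[X]) (hg₀ : g₀.Monic)
    (hg₀d : g₀.natDegree = orderOf ((Fintype.card F : ℕ) : ZMod r)) (w : ℕ)
    (hα : ∀ g : F[X], g.Monic → g.natDegree = orderOf ((Fintype.card F : ℕ) : ZMod r) →
      g ≠ g₀ →
      Module.finrank F ↥(LinearMap.range (y - 1) ⊓ LinearMap.ker (aeval y g)) ≤
        orderOf ((Fintype.card F : ℕ) : ZMod r))
    (hβ : Module.finrank F ↥(LinearMap.range (y - 1) ⊓ LinearMap.ker (aeval y g₀)) ≤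
      orderOf ((Fintype.card F : ℕ) : ZMod r) * (2 * w + 1))
    (W : Submodule F V) (hW : W.map y ≤ W) (hWti : Orth B W W) :
    Module.finrank F W ≤ Module.finrank F ↥(W ⊓ LinearMap.ker (y - 1)) +
      orderOf ((Fintype.card F : ℕ) : ZMod r) * w := by
  classical
  obtain ⟨halt, hnd, hyB, hy⟩ := h
  have hr : r.Prime := Fact.out
  have hp : p.Prime := Fact.out
  obtain ⟨hi0, -, -, -, -, -, -, -⟩ := cc_arith (F := F) (p := p) r hr2 hrp
  obtain ⟨i, hi⟩ : ∃ i : ℕ, i = orderOf ((Fintype.card F : ℕ) : ZMod r) := ⟨_, rfl⟩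
  rw [← hi] at hi0 hg₀d hα hβ hev ⊢
  have hrF : (r : F) ≠ 0 := by
    intro h0
    have := (CharP.cast_eq_zero_iff F p r).mp h0
    exact hrp ((Nat.prime_dvd_prime_iff_eq hp hr).mp this).symm
  obtain ⟨hCN, -, -, hNinv, -⟩ := fix_split (p := p) r hrp B y hyB hy
  have hNC : LinearMap.range (y - 1) ⊓ LinearMap.ker (y - 1) = ⊥ := by
    rw [inf_comm]; exact hCN.inf_eq_bot
  -- invariant subspaces without fixed points lie in the range
  have hleN : ∀ X : Submodule F V, X.map y ≤ X → X ⊓ LinearMap.ker (y - 1) = ⊥ →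
      X ≤ LinearMap.range (y - 1) := by
    intro X hX hXfix
    obtain ⟨h1, -, -⟩ := inv_split (p := p) r hrp y hy X hX
    rw [hXfix, bot_sup_eq] at h1
    exact inf_eq_left.mp h1
  have hfixN : ∀ X : Submodule F V, X ≤ LinearMap.range (y - 1) →
      X ⊓ LinearMap.ker (y - 1) = ⊥ := by
    intro X hX
    exact le_bot_iff.mp ((inf_le_inf_right _ hX).trans hNC.le)
  -- (A) `g₀` kills the totally isotropic invariant subspaces of the range
  have hA : ∀ n : ℕ, ∀ X : Submodule F V, X.map y ≤ X → Orth B X X →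
      X ≤ LinearMap.range (y - 1) → Module.finrank F X = n → ∀ v ∈ X, aeval y g₀ v = 0 := by
    intro n
    induction n using Nat.strong_induction_on with
    | _ n ih =>
      intro X hX hXti hXN hXn v hv
      by_cases hX0 : X = ⊥
      · rw [hX0, Submodule.mem_bot] at hv
        rw [hv, map_zero]
      obtain ⟨W₂, hW₂X, hW₂, hW₂i, -⟩ := exists_irr_sub (p := p) r hrp y hy X hX hX0 (hfixN X hXN)
      rw [← hi] at hW₂i
      obtain ⟨W', hcompl, hW'⟩ := Cfsg.Agent.S5949P.exists_invariant_compl y r 1 one_ne_zero hrF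
        (by rw [hy, one_smul]) W₂ hW₂
      -- the complement inside `X`
      have hW₃ : (W' ⊓ X).map y ≤ W' ⊓ X := (Submodule.map_inf_le _).trans (inf_le_inf hW' hX)
      have hsup : W₂ ⊔ (W' ⊓ X) = X := by
        rw [← sup_inf_assoc_of_le W' hW₂X, hcompl.sup_eq_top, top_inf_eq]
      have hdisj3 : W₂ ⊓ (W' ⊓ X) = ⊥ := by
        rw [← inf_assoc, hcompl.inf_eq_bot, bot_inf_eq]
      have hfr3 : Module.finrank F ↥(W' ⊓ X) < n := by
        have h5 := Submodule.finrank_sup_add_finrank_inf_eq W₂ (W' ⊓ X)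
        rw [hsup, hdisj3, finrank_bot, add_zero, hXn, hW₂i] at h5
        omega
      have hk3 : ∀ v ∈ W' ⊓ X, aeval y g₀ v = 0 :=
        ih _ hfr3 (W' ⊓ X) hW₃ (fun u hu v hv => hXti u hu.2 v hv.2) (inf_le_right.trans hXN) rfl
      -- the irreducible part
      have hk2 : ∀ v ∈ W₂, aeval y g₀ v = 0 := by
        obtain ⟨U', hU', hU'i, hpair⟩ := exists_dual_pair (p := p) r hrp B halt hnd y hyB hy W₂ hW₂
        rw [hW₂i] at hU'i
        have hW₂N : W₂ ≤ LinearMap.range (y - 1) := hW₂X.trans hXN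
        have hU'fix := MODELBOUND.dual_nofix B y hyB r hy hrF W₂ U' hW₂ (hfixN W₂ hW₂N) hpair
        have hU'N := hleN U' hU' hU'fix
        have hdisj : W₂ ⊓ U' = ⊥ := by
          rw [Submodule.eq_bot_iff]
          rintro x ⟨hx, hx'⟩
          exact hpair x hx' (fun u hu => hXti u (hW₂X hu) x (hW₂X hx))
        obtain ⟨g, hg, hgd, hgk⟩ := exists_poly_kills_pair (p := p) r hr2 hrp B y hyB hy
          (hi ▸ hev) W₂ U' hW₂ hU' hpair
        rw [hW₂i] at hgd
        have hgg : g = g₀ := by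
          by_contra hne
          have h1 := hα g hg hgd hne
          have h2 : W₂ ⊔ U' ≤ LinearMap.range (y - 1) ⊓ LinearMap.ker (aeval y g) := by
            refine le_inf (sup_le hW₂N hU'N) ?_
            intro x hx
            exact LinearMap.mem_ker.mpr (hgk x hx)
          have h3 := Submodule.finrank_mono h2
          have h5 := Submodule.finrank_sup_add_finrank_inf_eq W₂ U'
          rw [hdisj, finrank_bot, add_zero, hW₂i, hU'i] at h5
          omega
        intro v hv
        rw [← hgg]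
        exact hgk v (Submodule.mem_sup_left hv)
      rw [← hsup] at hv
      obtain ⟨a, ha, b, hb, rfl⟩ := Submodule.mem_sup.mp hv
      rw [map_add, hk2 a ha, hk3 b hb, add_zero]
  -- (B) the bound
  obtain ⟨-, hsplit, hdvd⟩ := inv_split (p := p) r hrp y hy W hW
  rw [← hi] at hdvd
  set X := W ⊓ LinearMap.range (y - 1) with hXdef
  have hX : X.map y ≤ X := (Submodule.map_inf_le _).trans (inf_le_inf hW hNinv)
  have hXti : Orth B X X := fun u hu v hv => hWti u hu.1 v hv.1
  have hXN : X ≤ LinearMap.range (y - 1) := inf_le_right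
  have hXk := hA _ X hX hXti hXN rfl
  obtain ⟨X', hX', hX'fr, hpair⟩ := exists_dual_pair (p := p) r hrp B halt hnd y hyB hy X hX
  have hX'fix := MODELBOUND.dual_nofix B y hyB r hy hrF X X' hX (hfixN X hXN) hpair
  have hX'N := hleN X' hX' hX'fix
  have hX'k := poly_kills_dual (p := p) r hr2 hrp B y hyB hy (hi ▸ hev) X X' hX hX' hpair g₀ hXk
  have hdisj : X ⊓ X' = ⊥ := by
    rw [Submodule.eq_bot_iff]
    rintro x ⟨hx, hx'⟩
    exact hpair x hx' (fun u hu => hXti u hu x hx)
  have h2 : X ⊔ X' ≤ LinearMap.range (y - 1) ⊓ LinearMap.ker (aeval y g₀) := by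
    refine le_inf (sup_le hXN hX'N) (sup_le ?_ ?_)
    · intro x hx
      exact LinearMap.mem_ker.mpr (hXk x hx)
    · intro x hx
      exact LinearMap.mem_ker.mpr (hX'k x hx)
  have h3 := Submodule.finrank_mono h2
  have h5 := Submodule.finrank_sup_add_finrank_inf_eq X X'
  rw [hdisj, finrank_bot, add_zero, hX'fr] at h5
  obtain ⟨k, hk⟩ := hdvd
  have hkw : k ≤ w := by
    by_contra hlt
    push Not at hlt
    have h6 : i * (2 * w + 1) < 2 * (i * k) := by
      have : 2 * w + 2 ≤ 2 * k := by omega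
      calc i * (2 * w + 1) < i * (2 * w + 2) := Nat.mul_lt_mul_of_pos_left (by omega) hi0
        _ ≤ i * (2 * k) := Nat.mul_le_mul_left i this
        _ = 2 * (i * k) := by ring
    omega
  have h7 : i * k ≤ i * w := Nat.mul_le_mul_left i hkw
  omega

end Cfsg.Agent.S5955P
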