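import Mathlib
import Cfsg.Prelude.Def_Classical
import Cfsg.Prelude.Def_GeometricClasses
import Cfsg.Agent.Helper5.S5973Defs
import Cfsg.Agent.Helper2.OInvE
import Cfsg.Agent.Helper19.S5955MODELSP
import Cfsg.Agent.Helper22.S5955MODELBOUND

set_option autoImplicit false
open scoped MatrixGroups

/-! S5973 + S5987 piece FPFSPE (helper22); adapted from helper19's `exists_model_space`. -/

universe u

namespace Cfsg.Agent.S5973P

open Module Polynomial Cfsg.Agent.S5955P Cfsg.Agent.S5961P Cfsg.Agent.Helper2.SympInvol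
  Cfsg.Agent.Helper2.SympUnits

open MODELSP in
/-- FPFSPE: symplectic model without fixed vectors with `b` blocks, `i` even -/
theorem exists_fpf_sp_even {F : Type u} [Field F] [Fintype F] {p : ℕ} [Fact p.Prime]
    [CharP F p] (r : ℕ) [Fact r.Prime] (hr2 : r ≠ 2) (hrp : r ≠ p)
    (hev : Even (orderOf ((Fintype.card F : ℕ) : ZMod r))) (b : ℕ) (hb1 : 1 ≤ b) :
    ∃ (V : Type u) (_ : AddCommGroup V) (_ : Module F V) (_ : FiniteDimensional F V)
      (B : LinearMap.BilinForm F V) (y : Module.End F V),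
      IsYSp B y r ∧ LinearMap.ker (y - 1) = ⊥ ∧
      finrank F V = orderOf ((Fintype.card F : ℕ) : ZMod r) * b ∧
      ∀ W : Submodule F V, W.map y ≤ W → Orth B W W →
        finrank F W ≤ orderOf ((Fintype.card F : ℕ) : ZMod r) *
          ((b + 1 - (r - 1) / orderOf ((Fintype.card F : ℕ) : ZMod r)) / 2) := by
  classical
  have hr : r.Prime := Fact.out
  obtain ⟨hi0, -, -, -, hccr, -, -, -⟩ := cc_arith (F := F) (p := p) r hr2 hrp
  have hcc : cc F r = orderOf ((Fintype.card F : ℕ) : ZMod r) := by rw [cc_def, if_pos hev]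
  rw [hcc] at hccr
  obtain ⟨hY, hker, hfr⟩ := aug_isYSp (F := F) (p := p) r hr2 hrp
  obtain ⟨m, E, hEinv, hEnd, hEdim, hEorth, hEind, hEsup⟩ :=
    exists_blocks_sp (p := p) r hr2 hrp (augB F r) hY.alt hY.nondeg (augS F r) hY.isom hY.pow
  simp only [hcc] at hEdim
  -- the final bound from `model_bound`
  have hfinal : ∀ (V : Type u) (_ : AddCommGroup V) (_ : Module F V) (_ : FiniteDimensional F V)
      (B : LinearMap.BilinForm F V) (y : Module.End F V), IsYSp B y r →
      finrank F (LinearMap.ker (y - 1)) = 0 → ∀ (g₀ : F[X]) (w : ℕ), g₀.Monic →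
      g₀.natDegree = orderOf ((Fintype.card F : ℕ) : ZMod r) →
      (∀ g : F[X], g.Monic → g.natDegree = orderOf ((Fintype.card F : ℕ) : ZMod r) →
        g ≠ g₀ → finrank F ↥(LinearMap.range (y - 1) ⊓ LinearMap.ker (aeval y g)) ≤
          orderOf ((Fintype.card F : ℕ) : ZMod r)) →
      finrank F ↥(LinearMap.range (y - 1) ⊓ LinearMap.ker (aeval y g₀)) ≤
        orderOf ((Fintype.card F : ℕ) : ZMod r) * (2 * w + 1) →
      LinearMap.ker (y - 1) = ⊥ ∧ ∀ W : Submodule F V, W.map y ≤ W → Orth B W W →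
        finrank F W ≤ orderOf ((Fintype.card F : ℕ) : ZMod r) * w := by
    intro V _ _ _ B y hYV hk g₀ w hg₀m hg₀d hα hβ
    have hkbot : LinearMap.ker (y - 1) = ⊥ := Submodule.finrank_eq_zero.mp hk
    refine ⟨hkbot, ?_⟩
    intro W hW hWti
    have := model_bound (p := p) r hr2 hrp B y hYV hev g₀ hg₀m hg₀d w hα hβ W hW hWti
    rwa [hkbot, inf_bot_eq, finrank_bot, zero_add] at this
  obtain ⟨i, hi⟩ : ∃ i : ℕ, i = orderOf ((Fintype.card F : ℕ) : ZMod r) := ⟨_, rfl⟩
  rw [← hi] at hi0 hccr hEdim hfinal ⊢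
  obtain ⟨t, ht⟩ := hccr
  have htdiv : (r - 1) / i = t := by rw [ht, Nat.mul_div_cancel_left _ hi0]
  rw [htdiv]
  -- the number of blocks is `t`
  have hrange : LinearMap.range (augS F r - 1) = ⊤ :=
    LinearMap.range_eq_top.mpr
      (LinearMap.injective_iff_surjective.mp (LinearMap.ker_eq_bot.mp hker))
  rw [hrange] at hEsup
  have hsum := finrank_biSup E hEind Finset.univ
  have hsup' : (⨆ j ∈ (Finset.univ : Finset (Fin m)), E j) = ⊤ := by simpa using hEsup
  rw [hsup', finrank_top, hfr, Finset.sum_congr rfl (fun j _ => hEdim j), Finset.sum_const,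
    Finset.card_univ, Fintype.card_fin, smul_eq_mul, ht] at hsum
  have hmt : t = m := by
    have h1 : i * t = i * m := by rw [hsum]; ring
    exact Nat.eq_of_mul_eq_mul_left hi0 h1
  subst hmt
  have hinvE : ∀ j, ∀ v ∈ E j, augS F r v ∈ E j := fun j v hv => hEinv j ⟨v, hv, rfl⟩
  have hrec : ∀ (M : Submodule F (Aug F r)) (g : F[X]), g.Monic → g.natDegree = i →
      Module.finrank F ↥(M ⊓ LinearMap.ker (aeval (augS F r) g)) ≤ i := by
    intro M g hg hgd
    calc Module.finrank F ↥(M ⊓ LinearMap.ker (aeval (augS F r) g))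
        ≤ Module.finrank F (LinearMap.ker (aeval (augS F r) g)) :=
          Submodule.finrank_mono inf_le_right
      _ ≤ g.natDegree := aug_rec r g hg
      _ = i := hgd
  by_cases hbt : b ≤ t
  · -- Model I
    set s : Finset (Fin t) := Finset.univ.filter (fun j => j.val < b) with hs
    have hscard : s.card = b := by
      rw [hs, Fin.card_filter_val_lt]
      exact min_eq_right hbt
    have hMnd : Nondeg (augB F r) (⨆ j ∈ s, E j) :=
      nondeg_biSup E s (fun j _ => hEnd j) (fun j _ k _ hjk => hEorth j k hjk)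
    have hMinv : ∀ v ∈ (⨆ j ∈ s, E j), augS F r v ∈ (⨆ j ∈ s, E j) := by
      intro v hv
      have hle : (⨆ j ∈ s, E j).map (augS F r) ≤ ⨆ j ∈ s, E j := by
        simp only [Submodule.map_iSup]
        exact iSup₂_mono (fun j _ => hEinv j)
      exact hle ⟨v, hv, rfl⟩
    have hMfr : Module.finrank F ↥(⨆ j ∈ s, E j) = b * i := by
      rw [finrank_biSup E hEind s, Finset.sum_congr rfl (fun j _ => hEdim j), Finset.sum_const,
        hscard, smul_eq_mul]
    obtain ⟨V, i1, i2, i3, B, y, hYV, hn, hk, hρ⟩ :=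
      hasModel_sub (p := p) r hr2 hrp _ hMinv hMnd
    obtain ⟨hkbot, hbound⟩ := hfinal V i1 i2 i3 B y hYV hk (X ^ i) 0 (monic_X_pow i)
      (natDegree_X_pow i)
      (by
        intro g hg hgd _
        rw [hρ g]
        exact hrec _ g hg hgd)
      (by
        rw [hρ]
        calc _ ≤ i := hrec _ _ (monic_X_pow i) (natDegree_X_pow i)
          _ = i * (2 * 0 + 1) := by ring)
    refine ⟨V, i1, i2, i3, B, y, hYV, hkbot, ?_, ?_⟩
    · rw [hn, hMfr]; ring
    · intro W hW hWti
      have h0 : (b + 1 - t) / 2 = 0 := by omega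
      rw [h0]
      exact hbound W hW hWti
  · -- Model II
    have ht1 : 1 ≤ t := by
      rcases Nat.eq_zero_or_pos t with h0 | h0
      · rw [h0, mul_zero] at ht
        have := hr.two_le
        omega
      · exact h0
    set j0 : Fin t := ⟨0, ht1⟩ with hj0
    have hE0fr : Module.finrank F ↥(E j0) = i := hEdim j0
    have hE0ne : E j0 ≠ ⊥ := by
      intro h0
      rw [h0, finrank_bot] at hE0fr
      omega
    have hfix0 : E j0 ⊓ LinearMap.ker (augS F r - 1) = ⊥ := by rw [hker, inf_bot_eq]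
    have hirr := irr_of_finrank (p := p) r hrp (augS F r) hY.pow (E j0) (hEinv j0) hfix0
      (by rw [hE0fr, hi])
    obtain ⟨-, u2, u3, -⟩ := monic_unique_of_irr (augS F r) (E j0) (hEinv j0) hirr
    obtain ⟨g₀, hg₀m, hg₀d, hg₀k⟩ := u3 hE0ne
    rw [hE0fr] at hg₀d
    obtain ⟨v0, hv0E, hv00⟩ := (Submodule.ne_bot_iff _).mp hE0ne
    have hρE : ∀ g : F[X], g.Monic → g.natDegree = i → g ≠ g₀ →
        Module.finrank F ↥(E j0 ⊓ LinearMap.ker (aeval (augS F r) g)) = 0 := by
      intro g hg hgd hne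
      have hbot : E j0 ⊓ LinearMap.ker (aeval (augS F r) g) = ⊥ := by
        rw [Submodule.eq_bot_iff]
        rintro v ⟨hvE, hvk⟩
        by_contra hv0
        apply hne
        exact u2 g g₀ hg hg₀m (by rw [hgd, hE0fr]) (by rw [hg₀d, hE0fr])
          ⟨v, hvE, hv0, LinearMap.mem_ker.mp hvk⟩ ⟨v0, hv0E, hv00, hg₀k v0 hv0E⟩
      rw [hbot, finrank_bot]
    have hAinv : ∀ v ∈ (⊤ : Submodule F (Aug F r)), augS F r v ∈ (⊤ : Submodule F (Aug F r)) :=
      fun _ _ => trivial
    have hmodA := hasModel_sub (p := p) r hr2 hrp ⊤ hAinv hY.nondeg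
    have hmodE := (hasModel_sub (p := p) r hr2 hrp (E j0) (hinvE j0) (hEnd j0)).pow
      (by simpa using hasModel_triv F r 0) (b - t)
    obtain ⟨V, i1, i2, i3, B, y, hYV, hn, hk, hρ⟩ := hmodA.prod hmodE
    obtain ⟨hkbot, hbound⟩ := hfinal V i1 i2 i3 B y hYV (by rw [hk]; simp) g₀ ((b + 1 - t) / 2) hg₀m
      hg₀d
      (by
        intro g hg hgd hne
        rw [hρ g]
        beta_reduce
        rw [hρE g hg hgd hne, mul_zero, add_zero]
        exact hrec _ g hg hgd)
      (by
        rw [hρ g₀]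
        beta_reduce
        have h1 := hrec ⊤ g₀ hg₀m hg₀d
        have h2 : Module.finrank F ↥(E j0 ⊓ LinearMap.ker (aeval (augS F r) g₀)) ≤ i := by
          calc _ ≤ Module.finrank F ↥(E j0) := Submodule.finrank_mono inf_le_left
            _ = i := hE0fr
        have h3 : b - t ≤ 2 * ((b + 1 - t) / 2) := by omega
        calc _ ≤ i + (b - t) * i := Nat.add_le_add h1 (Nat.mul_le_mul_left _ h2)
          _ ≤ i + (2 * ((b + 1 - t) / 2)) * i := by gcongr
          _ = i * (2 * ((b + 1 - t) / 2) + 1) := by ring)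
    refine ⟨V, i1, i2, i3, B, y, hYV, hkbot, ?_, hbound⟩
    rw [hn, finrank_top, hfr, hE0fr, ht]
    have : b = t + (b - t) := by omega
    conv_rhs => rw [this]
    ring

end Cfsg.Agent.S5973P
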