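import Mathlib
import Cfsg.Prelude.Def_Classical
import Cfsg.Prelude.Def_GeometricClasses
import Cfsg.Agent.Helper5.S5973Defs
import Cfsg.Agent.Helper2.OInvE
import Cfsg.Agent.Helper19.S5955MODELSP

set_option autoImplicit false
open scoped MatrixGroups

/-! S5973 + S5987 piece FPFSPO (helper22) -/

universe u

namespace Cfsg.Agent.S5973P

open Module Polynomial Cfsg.Agent.S5955P Cfsg.Agent.S5961P Cfsg.Agent.Helper2.SympInvol
  Cfsg.Agent.Helper2.SympUnits

open MODELSP in
/-- FPFSPO: symplectic model without fixed vectors with `b` blocks, `i` odd -/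
theorem exists_fpf_sp_odd {F : Type u} [Field F] [Fintype F] {p : ℕ} [Fact p.Prime]
    [CharP F p] (r : ℕ) [Fact r.Prime] (hr2 : r ≠ 2) (hrp : r ≠ p)
    (hodd : Odd (orderOf ((Fintype.card F : ℕ) : ZMod r))) (b : ℕ) :
    ∃ (V : Type u) (_ : AddCommGroup V) (_ : Module F V) (_ : FiniteDimensional F V)
      (B : LinearMap.BilinForm F V) (y : Module.End F V),
      IsYSp B y r ∧ LinearMap.ker (y - 1) = ⊥ ∧
      finrank F V = 2 * orderOf ((Fintype.card F : ℕ) : ZMod r) * b := by
  classical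
  have hr : r.Prime := Fact.out
  have hcc : cc F r = 2 * orderOf ((Fintype.card F : ℕ) : ZMod r) := by
    rw [cc_def, if_neg (Nat.not_even_iff_odd.mpr hodd)]
  obtain ⟨hY, hker, hfr⟩ := aug_isYSp (F := F) (p := p) r hr2 hrp
  obtain ⟨m, E, hEinv, hEnd, hEdim, hEorth, hEind, hEsup⟩ :=
    exists_blocks_sp (p := p) r hr2 hrp (augB F r) hY.alt hY.nondeg (augS F r) hY.isom hY.pow
  simp only [hcc] at hEdim
  have hrange : LinearMap.range (augS F r - 1) = ⊤ :=
    LinearMap.range_eq_top.mpr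
      (LinearMap.injective_iff_surjective.mp (LinearMap.ker_eq_bot.mp hker))
  rw [hrange] at hEsup
  have hm1 : 1 ≤ m := by
    rcases Nat.eq_zero_or_pos m with h0 | h0
    · exfalso
      subst h0
      have hbot : (⨆ j, E j) = ⊥ := by
        rw [eq_bot_iff]
        exact iSup_le (fun j => j.elim0)
      rw [hbot] at hEsup
      have h1 : finrank F (Aug F r) = 0 := by
        rw [← finrank_top F (Aug F r), ← hEsup, finrank_bot]
      rw [hfr] at h1
      have := hr.two_le
      omega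
    · exact h0
  set j0 : Fin m := ⟨0, hm1⟩ with hj0
  have hinvE : ∀ j, ∀ v ∈ E j, augS F r v ∈ E j := fun j v hv => hEinv j ⟨v, hv, rfl⟩
  have hmodE := (hasModel_sub (p := p) r hr2 hrp (E j0) (hinvE j0) (hEnd j0)).pow
    (by simpa using hasModel_triv F r 0) b
  obtain ⟨V, i1, i2, i3, B, y, hYV, hn, hk, -⟩ := hmodE
  refine ⟨V, i1, i2, i3, B, y, hYV, ?_, ?_⟩
  · apply Submodule.finrank_eq_zero.mp
    rw [hk, mul_zero]
  · rw [hn, hEdim j0]
    ring

end Cfsg.Agent.S5973P
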