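import Mathlib
import Cfsg.Prelude.Def_Classical
import Cfsg.Prelude.Def_GeometricClasses
import Cfsg.Agent.Helper5.S5973Defs
import Cfsg.Agent.Helper2.OInvE
import Cfsg.Agent.Helper5.S5973QT
import Cfsg.Agent.Helper22.S5973FPFSPE
import Cfsg.Agent.Helper22.S5973FPFSPO

set_option autoImplicit false
open scoped MatrixGroups

/-! S5973 + S5987 piece FPFQ (helper22) -/

universe u

namespace Cfsg.Agent.S5973P

open Module Polynomial Cfsg.Agent.S5955P Cfsg.Agent.S5961P Cfsg.Agent.Helper2.SympInvol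
  Cfsg.Agent.Helper2.SympUnits

/-- FPFQ: quadratic model without fixed vectors with `b` blocks -/
theorem exists_fpf_model {F : Type u} [Field F] [Fintype F] {p : ℕ} [Fact p.Prime]
    [CharP F p] (r : ℕ) [Fact r.Prime] (hr2 : r ≠ 2) (hrp : r ≠ p) (b : ℕ) (hb1 : 1 ≤ b) :
    ∃ (V : Type u) (_ : AddCommGroup V) (_ : Module F V) (_ : FiniteDimensional F V)
      (Q : QuadraticForm F V) (y : Module.End F V),
      IsYO Q y r ∧ LinearMap.ker (y - 1) = ⊥ ∧
      finrank F V = (if Even (orderOf ((Fintype.card F : ℕ) : ZMod r)) then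
          orderOf ((Fintype.card F : ℕ) : ZMod r)
          else 2 * orderOf ((Fintype.card F : ℕ) : ZMod r)) * b ∧
      (Even (orderOf ((Fintype.card F : ℕ) : ZMod r)) →
        ∀ W : Submodule F V, W.map y ≤ W → IsTS Q W →
          finrank F W ≤ orderOf ((Fintype.card F : ℕ) : ZMod r) *
            ((b + 1 - (r - 1) / orderOf ((Fintype.card F : ℕ) : ZMod r)) / 2)) := by
  have hr : r.Prime := Fact.out
  have hrodd : Odd r := hr.odd_of_ne_two hr2
  rcases Nat.even_or_odd (orderOf ((Fintype.card F : ℕ) : ZMod r)) with he | ho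
  · obtain ⟨V, i1, i2, i3, B, y, hY, hk, hn, hbound⟩ :=
      exists_fpf_sp_even (p := p) r hr2 hrp he b hb1
    obtain ⟨hYO, hiff⟩ := twQ_facts r hrodd B y hY hk
    refine ⟨V, i1, i2, i3, twQ B y, y, hYO, hk, ?_, ?_⟩
    · rw [if_pos he, hn]
    · intro _ W hW hWts
      exact hbound W hW ((hiff W hW).mp hWts)
  · obtain ⟨V, i1, i2, i3, B, y, hY, hk, hn⟩ := exists_fpf_sp_odd (p := p) r hr2 hrp ho b
    obtain ⟨hYO, -⟩ := twQ_facts r hrodd B y hY hk
    refine ⟨V, i1, i2, i3, twQ B y, y, hYO, hk, ?_, ?_⟩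
    · rw [if_neg (Nat.not_even_iff_odd.mpr ho), hn]
    · intro he
      exact absurd he (Nat.not_even_iff_odd.mpr ho)

end Cfsg.Agent.S5973P
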