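import Mathlib
import Cfsg.Prelude.Def_ClassicalGeometry
import Cfsg.Agent.Helper16.S5955Defs
import Cfsg.Agent.Helper22.S5955CW

/-!
# S5955 piece CYCTI: a totally isotropic cyclic subspace
-/

set_option autoImplicit false
open scoped MatrixGroups

universe u

namespace Cfsg.Agent.S5955P

open Polynomial Cfsg.Agent.Helper2.SympInvol Cfsg.Agent.Helper2.SympUnits Cfsg.Agent.S5961P

namespace CYCTI

variable {F V : Type*} [Field F] [AddCommGroup V] [Module F V]

theorem isom_pow (B : LinearMap.BilinForm F V) (y : Module.End F V)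
    (hyB : ∀ u v, B (y u) (y v) = B u v) (a : ℕ) (u v : V) :
    B ((y ^ a) u) ((y ^ a) v) = B u v := by
  induction a with
  | zero => simp
  | succ a ih => rw [pow_succ', Module.End.mul_apply, Module.End.mul_apply, hyB, ih]

theorem skew' (B : LinearMap.BilinForm F V) (halt : ∀ v, B v v = 0) (u v : V) :
    B u v = -B v u := by
  have h := halt (u + v)
  simp only [map_add, LinearMap.add_apply, halt, zero_add, add_zero] at h
  exact eq_neg_of_add_eq_zero_right h

/-- the powers of `y` on `v` are pairwise orthogonal -/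
theorem pow_orth (B : LinearMap.BilinForm F V) (halt : ∀ v, B v v = 0) (y : Module.End F V)
    (hyB : ∀ u v, B (y u) (y v) = B u v) (i : ℕ) (v : V)
    (hv : ∀ j : ℕ, 1 ≤ j → j < i → B v ((y ^ j) v) = 0) (a b : ℕ) (ha : a < i) (hb : b < i) :
    B ((y ^ a) v) ((y ^ b) v) = 0 := by
  have key : ∀ a b : ℕ, a ≤ b → b < i → B ((y ^ a) v) ((y ^ b) v) = 0 := by
    intro a b hab hb
    obtain ⟨c, rfl⟩ := Nat.exists_eq_add_of_le hab
    rw [pow_add, Module.End.mul_apply, isom_pow B y hyB]
    rcases Nat.eq_zero_or_pos c with rfl | hc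
    · simpa using halt v
    · exact hv c hc (by omega)
  rcases le_total a b with h | h
  · exact key a b h hb
  · rw [skew' B halt, key b a h ha, neg_zero]

end CYCTI

/-- CYCTI -/
theorem exists_ti_cyclic {F V : Type*} [Field F] [Fintype F] [AddCommGroup V]
    [Module F V] [FiniteDimensional F V] (B : LinearMap.BilinForm F V)
    (halt : ∀ v, B v v = 0) (y : Module.End F V) (hyB : ∀ u v, B (y u) (y v) = B u v)
    (M : Submodule F V) (hM : M.map y ≤ M) (i : ℕ) (hi : 1 ≤ i)
    (hdim : 2 * i ≤ Module.finrank F M)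
    (g : F[X]) (hg : g.Monic) (hgd : g.natDegree = i) (hgM : ∀ v ∈ M, aeval y g v = 0) :
    ∃ U : Submodule F V, U ≤ M ∧ U ≠ ⊥ ∧ U.map y ≤ U ∧ Orth B U U ∧
      Module.finrank F U ≤ i := by
  classical
  obtain ⟨v, hvM, hv0, hv⟩ := exists_isotropic_cyclic B y M i hi hdim
  -- powers stay in M
  have hpowM : ∀ j : ℕ, (y ^ j) v ∈ M := by
    intro j
    induction j with
    | zero => simpa using hvM
    | succ j ih =>
      rw [pow_succ', Module.End.mul_apply]
      exact hM (Submodule.mem_map_of_mem ih)
  let w : Fin i → V := fun j => (y ^ (j : ℕ)) v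
  let U : Submodule F V := Submodule.span F (Set.range w)
  have hwU : ∀ j : ℕ, j < i → (y ^ j) v ∈ U := fun j hj =>
    Submodule.subset_span ⟨⟨j, hj⟩, rfl⟩
  -- the top power
  have htop : (y ^ i) v ∈ U := by
    have h0 := hgM v hvM
    rw [aeval_eq_sum_range, hgd, Finset.sum_range_succ] at h0
    have hlead : g.coeff i = 1 := by rw [← hgd]; exact hg.coeff_natDegree
    rw [hlead, one_smul, LinearMap.add_apply, LinearMap.sum_apply] at h0
    have : (y ^ i) v = -∑ k ∈ Finset.range i, (g.coeff k • y ^ k) v :=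
      eq_neg_of_add_eq_zero_right h0
    rw [this]
    refine U.neg_mem (U.sum_mem (fun k hk => ?_))
    rw [LinearMap.smul_apply]
    exact U.smul_mem _ (hwU k (Finset.mem_range.mp hk))
  refine ⟨U, ?_, ?_, ?_, ?_, ?_⟩
  · refine Submodule.span_le.mpr ?_
    rintro _ ⟨j, rfl⟩
    exact hpowM j
  · intro h
    have : v ∈ U := by simpa using hwU 0 (by omega)
    rw [h, Submodule.mem_bot] at this
    exact hv0 this
  · rw [Submodule.map_span_le]
    rintro _ ⟨j, rfl⟩
    show y ((y ^ (j : ℕ)) v) ∈ U
    rw [← Module.End.mul_apply, ← pow_succ']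
    rcases Nat.lt_or_ge ((j : ℕ) + 1) i with h | h
    · exact hwU _ h
    · have : (j : ℕ) + 1 = i := by have := j.2; omega
      rw [this]
      exact htop
  · intro u hu u' hu'
    induction hu using Submodule.span_induction with
    | mem x hx =>
      obtain ⟨a, rfl⟩ := hx
      induction hu' using Submodule.span_induction with
      | mem x' hx' =>
        obtain ⟨b, rfl⟩ := hx'
        exact CYCTI.pow_orth B halt y hyB i v hv a b a.2 b.2
      | zero => simp
      | add x' y' _ _ hx' hy' => rw [map_add, hx', hy', add_zero]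
      | smul c x' _ hx' => rw [map_smul, hx', smul_zero]
    | zero => simp
    | add x y' _ _ hx hy' => rw [map_add, LinearMap.add_apply, hx, hy', add_zero]
    | smul c x _ hx => rw [map_smul, LinearMap.smul_apply, hx, smul_zero]
  · calc Module.finrank F U ≤ Fintype.card (Fin i) := finrank_range_le_card w
      _ = i := Fintype.card_fin i

end Cfsg.Agent.S5955P
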