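import Mathlib
import Cfsg.Prelude.Def_ClassicalGeometry
import Cfsg.Agent.Helper16.S5955Defs
import Cfsg.Agent.Helper23.S5961STRUCT
import Cfsg.Agent.Helper24.S5961DUALPAIR
import Cfsg.Agent.Helper10.S5961ORTHC
import Cfsg.Agent.Helper23.S5961RESTR
import Cfsg.Agent.Helper18.S5961ARITH
import Cfsg.Agent.Helper19.S5961BLOCKEX
import Cfsg.Agent.Helper21.S5949CYCMAIN
import Cfsg.Agent.Helper22.S5955CYCTI
import Cfsg.Agent.Helper24.S5955CLASSES

/-!
# S5955 piece PAIRSTEP

For `i` even, a nondegenerate invariant subspace without fixed points of dimension more than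
`r - 1` contains a totally isotropic invariant `i`-space which splits off a nondegenerate
`2 i`-space.
-/

set_option autoImplicit false
open scoped MatrixGroups

universe u

namespace Cfsg.Agent.S5955P

open Polynomial Cfsg.Agent.Helper2.SympInvol Cfsg.Agent.Helper2.SympUnits Cfsg.Agent.S5961P

namespace PAIRSTEP

/-- the version for the whole space -/
theorem top_case {F V : Type*} [Field F] [Fintype F] [AddCommGroup V] [Module F V]
    [FiniteDimensional F V] {p : ℕ} [Fact p.Prime] [CharP F p] (r : ℕ) [Fact r.Prime]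
    (hr2 : r ≠ 2) (hrp : r ≠ p) (B : LinearMap.BilinForm F V) (halt : ∀ v, B v v = 0)
    (hnd : Nondeg B ⊤)
    (y : Module.End F V) (hyB : ∀ u v, B (y u) (y v) = B u v) (hy : y ^ r = 1)
    (hev : Even (orderOf ((Fintype.card F : ℕ) : ZMod r)))
    (hfix : LinearMap.ker (y - 1) = ⊥)
    (hdim : r - 1 < Module.finrank F V) :
    ∃ U₁ N₂ : Submodule F V, U₁.map y ≤ U₁ ∧ N₂.map y ≤ N₂ ∧
      Orth B U₁ U₁ ∧ Orth B U₁ N₂ ∧ Disjoint U₁ N₂ ∧ Nondeg B N₂ ∧
      Module.finrank F U₁ = orderOf ((Fintype.card F : ℕ) : ZMod r) ∧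
      Module.finrank F N₂ + 2 * orderOf ((Fintype.card F : ℕ) : ZMod r) =
        Module.finrank F V := by
  classical
  have hr : r.Prime := Fact.out
  obtain ⟨hi0, -, -, -, -, -, -, -⟩ := cc_arith (F := F) (p := p) r hr2 hrp
  obtain ⟨-, h2, -⟩ := Cfsg.Agent.S5949P.cyc_main (p := p) r hrp y hy
  have hccdef := cc_def F r
  obtain ⟨i, hi⟩ : ∃ i : ℕ, i = orderOf ((Fintype.card F : ℕ) : ZMod r) := ⟨_, rfl⟩
  rw [← hi] at hi0 h2 hccdef hev ⊢
  rw [if_pos hev] at hccdef
  have hk0 : Module.finrank F (LinearMap.ker (y - 1)) = 0 := by rw [hfix, finrank_bot]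
  have hdiv : ∀ W : Submodule F V, W.map y ≤ W → i ∣ Module.finrank F W := by
    intro W hW
    obtain ⟨a', b', ha', hW'⟩ := h2 W hW
    rw [hk0] at ha'
    exact ⟨b', by omega⟩
  have hinj : Function.Injective y := by
    intro a b hab
    obtain ⟨r0, hr0⟩ : ∃ r0, r = r0 + 1 := ⟨r - 1, by have := hr.pos; omega⟩
    have h4 : (y ^ r) a = (y ^ r) b := by
      rw [hr0, pow_succ, Module.End.mul_apply, Module.End.mul_apply, hab]
    rwa [hy, Module.End.one_apply, Module.End.one_apply] at h4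
  -- the blocks
  obtain ⟨m, E, hEinv, -, hEfr, -, hEind, hEsup⟩ := exists_blocks_sp (p := p) r hr2 hrp B halt hnd
    y hyB hy
  have hrange : LinearMap.range (y - 1) = ⊤ :=
    LinearMap.range_eq_top.mpr
      (LinearMap.injective_iff_surjective.mp (LinearMap.ker_eq_bot.mp hfix))
  have hVm : Module.finrank F V = m * i := by
    have h2' := finrank_biSup E hEind Finset.univ
    have h3 : (⨆ j ∈ (Finset.univ : Finset (Fin m)), E j) = ⨆ j, E j := by simp
    rw [h3, hEsup, hrange, Finset.sum_congr rfl (fun j _ => hEfr j), Finset.sum_const,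
      Finset.card_univ, Fintype.card_fin, smul_eq_mul, finrank_top, hccdef] at h2'
    exact h2'
  -- two blocks with a common annihilating polynomial
  obtain ⟨j, j', hjj', g, hg, hgd, hgk⟩ := exists_common_poly (p := p) r hrp y hy E hEinv
    (fun j => by rw [hEfr j, hccdef, hi]) (fun j => by rw [hfix, inf_bot_eq])
    (by rw [← hi, ← hVm]; exact hdim)
  rw [← hi] at hgd
  -- the sum of the two blocks
  have hMinv : (E j ⊔ E j').map y ≤ E j ⊔ E j' := by
    rw [Submodule.map_sup]
    exact sup_le_sup (hEinv j) (hEinv j')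
  have hMdim : Module.finrank F ↥(E j ⊔ E j') = 2 * i := by
    have h5 := Submodule.finrank_sup_add_finrank_inf_eq (E j) (E j')
    have hdisj : Disjoint (E j) (E j') := hEind.pairwiseDisjoint hjj'
    rw [hdisj.eq_bot, finrank_bot, add_zero, hEfr, hEfr, hccdef] at h5
    omega
  obtain ⟨U, -, hU0, hU, hUU, hUle⟩ := exists_ti_cyclic B halt y hyB (E j ⊔ E j') hMinv i hi0
    (by rw [hMdim]) g hg hgd hgk
  have hUi : Module.finrank F U = i := by
    obtain ⟨k, hk⟩ := hdiv U hU
    have hpos : 0 < Module.finrank F U := by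
      rw [Module.finrank_pos_iff_exists_ne_zero]
      obtain ⟨u, hu, hu0⟩ := (Submodule.ne_bot_iff U).mp hU0
      exact ⟨⟨u, hu⟩, fun h => hu0 (congrArg Subtype.val h)⟩
    rcases Nat.eq_zero_or_pos k with rfl | hkpos
    · omega
    · nlinarith
  -- the dual
  obtain ⟨U', hU', hU'i, hpair⟩ := exists_dual_pair (p := p) r hrp B halt hnd y hyB hy U hU
  rw [hUi] at hU'i
  have hU'0 : U' ≠ ⊥ := by
    intro h
    rw [h, finrank_bot] at hU'i
    omega
  have hdisj : Disjoint U U' := by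
    rw [Submodule.disjoint_def]
    intro v hv hv'
    exact hpair v hv' (fun u hu => hUU u hu v hv)
  have hK : (U ⊓ B.orthogonal U').map y ≤ U ⊓ B.orthogonal U' :=
    (Submodule.map_inf_le _).trans
      (inf_le_inf hU (BLOCKEX.orthogonal_invariant B y hyB hinj U' hU'))
  have hKbot : U ⊓ B.orthogonal U' = ⊥ := by
    rcases BLOCKEX.sub_dichotomy y i hdiv U hUi _ hK inf_le_left with h | h
    · exact h
    · exfalso
      apply hU'0
      rw [Submodule.eq_bot_iff]
      intro u' hu'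
      apply hpair u' hu'
      intro u hu
      have hmem : u ∈ U ⊓ B.orthogonal U' := by rw [h]; exact hu
      have := (LinearMap.BilinForm.mem_orthogonal_iff.mp hmem.2) u' hu'
      change B u' u = 0 at this
      rw [skew B halt, this, neg_zero]
  have hXnd : Nondeg B (U ⊔ U') := by
    intro x hx hx0
    obtain ⟨u, hu, u', hu', rfl⟩ := Submodule.mem_sup.mp hx
    by_cases hu'0 : u' = 0
    · subst hu'0
      rw [add_zero] at hx0
      by_contra hcon
      push Not at hcon
      apply hx0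
      have hmem : u ∈ U ⊓ B.orthogonal U' := by
        refine Submodule.mem_inf.mpr ⟨hu, ?_⟩
        rw [LinearMap.BilinForm.mem_orthogonal_iff]
        intro n hn
        show B n u = 0
        have := hcon n (Submodule.mem_sup_right hn)
        rw [add_zero] at this
        rw [skew B halt, this, neg_zero]
      rw [hKbot] at hmem
      exact (Submodule.mem_bot F).mp hmem
    · have : ¬ ∀ u0 ∈ U, B u0 u' = 0 := fun h => hu'0 (hpair u' hu' h)
      push Not at this
      obtain ⟨u0, hu0, hu0'⟩ := this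
      refine ⟨u0, Submodule.mem_sup_left hu0, ?_⟩
      rw [map_add, LinearMap.add_apply, hUU u hu u0 hu0, zero_add, skew B halt]
      exact neg_ne_zero.mpr hu0'
  have hXdim : Module.finrank F ↥(U ⊔ U') = 2 * i := by
    have h5 := Submodule.finrank_sup_add_finrank_inf_eq U U'
    rw [hdisj.eq_bot, finrank_bot, add_zero, hUi, hU'i] at h5
    omega
  have hXinv : (U ⊔ U').map y ≤ U ⊔ U' := by
    rw [Submodule.map_sup]
    exact sup_le_sup hU hU'
  obtain ⟨hcompl, hXN, -, hNnd, hNinv, -⟩ := orth_compl B halt (U ⊔ U') hXnd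
  refine ⟨U, B.orthogonal (U ⊔ U'), hU, hNinv y hyB hinj hXinv, hUU, ?_, ?_, hNnd hnd, hUi, ?_⟩
  · intro u hu v hv
    exact hXN u (Submodule.mem_sup_left hu) v hv
  · exact hcompl.disjoint.mono_left le_sup_left
  · have := Submodule.finrank_add_eq_of_isCompl hcompl
    omega

end PAIRSTEP

/-- PAIRSTEP: for `i` even, more than `t` blocks give a totally isotropic invariant
`i`-space splitting off a nondegenerate `2 i`-space -/
theorem exists_ti_pair_step {F V : Type*} [Field F] [Fintype F] [AddCommGroup V] [Module F V]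
    [FiniteDimensional F V] {p : ℕ} [Fact p.Prime] [CharP F p] (r : ℕ) [Fact r.Prime]
    (hr2 : r ≠ 2) (hrp : r ≠ p) (B : LinearMap.BilinForm F V) (halt : ∀ v, B v v = 0)
    (y : Module.End F V) (hyB : ∀ u v, B (y u) (y v) = B u v) (hy : y ^ r = 1)
    (hev : Even (orderOf ((Fintype.card F : ℕ) : ZMod r)))
    (N : Submodule F V) (hN : N.map y ≤ N) (hNnd : Nondeg B N)
    (hNfix : N ⊓ LinearMap.ker (y - 1) = ⊥)
    (hNdim : r - 1 < Module.finrank F N) :
    ∃ U₁ N₂ : Submodule F V, U₁ ≤ N ∧ N₂ ≤ N ∧ U₁.map y ≤ U₁ ∧ N₂.map y ≤ N₂ ∧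
      Orth B U₁ U₁ ∧ Orth B U₁ N₂ ∧ Disjoint U₁ N₂ ∧ Nondeg B N₂ ∧
      Module.finrank F U₁ = orderOf ((Fintype.card F : ℕ) : ZMod r) ∧
      Module.finrank F N₂ + 2 * orderOf ((Fintype.card F : ℕ) : ZMod r) =
        Module.finrank F N := by
  have hN' : ∀ v ∈ N, y v ∈ N := fun v hv => hN ⟨v, hv, rfl⟩
  obtain ⟨hpowN, haltN, hisoN, hndN, -, hkerN, -, htr⟩ := restr_transport B y N hN'
  have hfixN : LinearMap.ker (y.restrict hN' - 1) = ⊥ := by
    have h1 := hkerN
    rw [hNfix] at h1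
    rw [Submodule.eq_bot_iff]
    intro x hx
    have : N.subtype x ∈ (LinearMap.ker (y.restrict hN' - 1)).map N.subtype :=
      Submodule.mem_map_of_mem hx
    rw [h1, Submodule.mem_bot] at this
    exact Subtype.ext this
  obtain ⟨U₁, N₂, hU₁, hN₂, hUU, hUN, hdisj, hN₂nd, hU₁i, hN₂i⟩ :=
    PAIRSTEP.top_case (p := p) r hr2 hrp (B.restrict N) (haltN halt) (hndN.mpr hNnd)
      (y.restrict hN') (hisoN hyB) (hpowN r hy) hev hfixN hNdim
  obtain ⟨h1le, h1fr, -, h1inv, h1orth⟩ := htr U₁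
  obtain ⟨h2le, h2fr, h2nd, h2inv, -⟩ := htr N₂
  refine ⟨U₁.map N.subtype, N₂.map N.subtype, h1le, h2le, h1inv.mp hU₁, h2inv.mp hN₂,
    (h1orth U₁).mp hUU, (h1orth N₂).mp hUN, ?_, h2nd.mp hN₂nd, by rw [h1fr, hU₁i],
    by rw [h2fr, hN₂i]⟩
  exact Submodule.disjoint_map (f := N.subtype) N.subtype_injective hdisj

end Cfsg.Agent.S5955P
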