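import Mathlib
import Cfsg.Prelude.Def_Classical
import Cfsg.Prelude.Def_GeometricClasses
import Cfsg.Agent.Helper5.S5973Defs
import Cfsg.Agent.Helper2.OInvE
import Cfsg.Agent.Helper5.S5973TRICK
import Cfsg.Agent.Helper20.S5955EVENTI
import Cfsg.Agent.Helper3.S5955ODDSUM
import Cfsg.Agent.Helper23.S5961STRUCT

set_option autoImplicit false
open scoped MatrixGroups

/-! S5973 + S5987 piece NDVD (helper22) -/

universe u

namespace Cfsg.Agent.S5973P

open Module Polynomial Cfsg.Agent.S5955P Cfsg.Agent.S5961P Cfsg.Agent.Helper2.SympInvol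
  Cfsg.Agent.Helper2.SympUnits

/-- NDVD: the dimension of a space without fixed vectors -/
theorem fpf_dvd {F V : Type*} [Field F] [Fintype F] [AddCommGroup V] [Module F V]
    [FiniteDimensional F V] {p : ℕ} [Fact p.Prime] [CharP F p] (r : ℕ) [Fact r.Prime]
    (hr2 : r ≠ 2) (hrp : r ≠ p) (Q : QuadraticForm F V) (y : Module.End F V) (h : IsYO Q y r)
    (hfix : LinearMap.ker (y - 1) = ⊥) :
    (if Even (orderOf ((Fintype.card F : ℕ) : ZMod r)) then orderOf ((Fintype.card F : ℕ) : ZMod r)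
      else 2 * orderOf ((Fintype.card F : ℕ) : ZMod r)) ∣ finrank F V := by
  have hr : r.Prime := Fact.out
  obtain ⟨Bt, hBt, -⟩ := trick r (hr.odd_of_ne_two hr2) Q y h hfix
  have h1 := sp_dvd (p := p) r hr2 hrp Bt hBt.alt y hBt.isom hBt.pow ⊤ le_top hBt.nondeg
  rw [top_inf_eq, hfix, finrank_bot, Nat.sub_zero, finrank_top, cc_def] at h1
  exact h1

end Cfsg.Agent.S5973P
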