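import Mathlib
import Cfsg.Prelude.Def_Classical
import Cfsg.Prelude.Def_GeometricClasses
import Cfsg.Agent.Helper5.S5973Defs
import Cfsg.Agent.Helper2.OInvE
import Cfsg.Agent.Helper5.S5973TRICK
import Cfsg.Agent.Helper20.S5955EVENTI
import Cfsg.Agent.Helper3.S5955ODDSUM
import Cfsg.Agent.Helper23.S5961STRUCT

set_option autoImplicit false
open scoped MatrixGroups

/-! S5973 + S5987 piece NFPF (helper22) -/

universe u

namespace Cfsg.Agent.S5973P

open Module Polynomial Cfsg.Agent.S5955P Cfsg.Agent.S5961P Cfsg.Agent.Helper2.SympInvol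
  Cfsg.Agent.Helper2.SympUnits

/-- NFPF: invariant totally singular subspaces of a space without fixed vectors -/
theorem exists_ts_fpf {F V : Type*} [Field F] [Fintype F] [AddCommGroup V] [Module F V]
    [FiniteDimensional F V] {p : ℕ} [Fact p.Prime] [CharP F p] (r : ℕ) [Fact r.Prime]
    (hr2 : r ≠ 2) (hrp : r ≠ p) (Q : QuadraticForm F V) (y : Module.End F V) (h : IsYO Q y r)
    (hfix : LinearMap.ker (y - 1) = ⊥) (s : ℕ)
    (hodd : Odd (orderOf ((Fintype.card F : ℕ) : ZMod r)) →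
      2 * orderOf ((Fintype.card F : ℕ) : ZMod r) * s ≤ finrank F V)
    (hev : Even (orderOf ((Fintype.card F : ℕ) : ZMod r)) → s = 0 ∨
      (r - 1) + 2 * s * orderOf ((Fintype.card F : ℕ) : ZMod r) ≤
        finrank F V + orderOf ((Fintype.card F : ℕ) : ZMod r)) :
    ∃ U : Submodule F V, U.map y ≤ U ∧ IsTS Q U ∧
      finrank F U = orderOf ((Fintype.card F : ℕ) : ZMod r) * s := by
  have hr : r.Prime := Fact.out
  obtain ⟨Bt, hBt, hiff⟩ := trick r (hr.odd_of_ne_two hr2) Q y h hfix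
  rcases Nat.even_or_odd (orderOf ((Fintype.card F : ℕ) : ZMod r)) with he | ho
  · obtain ⟨U, -, hU, hUorth, hUfr⟩ := exists_ti_even (p := p) r hr2 hrp Bt hBt.alt y hBt.isom
      hBt.pow he ⊤ le_top hBt.nondeg (by rw [top_inf_eq]; exact hfix) s
      (by rw [finrank_top]; exact hev he)
    exact ⟨U, hU, (hiff U hU).mp hUorth, hUfr⟩
  · have hrange : LinearMap.range (y - 1) = ⊤ :=
      LinearMap.range_eq_top.mpr
        (LinearMap.surjective_of_injective (LinearMap.ker_eq_bot.mp hfix))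
    obtain ⟨U, -, hU, hUorth, hUfr⟩ := exists_ti_odd (p := p) r hr2 hrp Bt hBt.alt hBt.nondeg y
      hBt.isom hBt.pow ho s (by rw [hrange, finrank_top]; exact hodd ho)
    exact ⟨U, hU, (hiff U hU).mp hUorth, hUfr⟩

end Cfsg.Agent.S5973P
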