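import Mathlib
import Cfsg.Prelude.Def_GeometricClasses
import Cfsg.Prelude.Def_Classical
import Cfsg.Prelude.Def_LieClassical
import Cfsg.Agent.Helper6.S5992Defs
import Cfsg.Agent.Helper13.QuadWitt
import Cfsg.Agent.Helper8.S5992DISCBASIS
import Cfsg.Agent.Helper6.S5992PLUSDISC
import Cfsg.Agent.Helper7.S5992EXC

/-! S5992 piece INVPLANE (helper22) -/

set_option autoImplicit false
open scoped MatrixGroups
universe u

namespace Cfsg.Agent.S5992P

open Cfsg.Agent.Helper2.SympInvol Cfsg.Agent.Helper2.SympUnits Cfsg.Agent.S5961P Cfsg.Agent.S2614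
  Cfsg.Agent.S5955P

namespace INVPLANE

variable {F V : Type*} [Field F] [AddCommGroup V] [Module F V]

/-- a nondegenerate subspace of dimension at least two represents every scalar -/
theorem represents [Finite F] [FiniteDimensional F V] (Q : QuadraticForm F V)
    (P : Submodule F V) (hP : Nondeg (PB Q) P) (h2 : 2 ≤ Module.finrank F P) (c : F) :
    ∃ u ∈ P, Q u = c := by
  by_cases haniso : ∀ v ∈ P, Q v = 0 → v = 0
  · obtain ⟨v, hv⟩ := Cfsg.Agent.Helper13.represents_of_aniso (Q.comp P.subtype) h2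
      (fun v hv => Subtype.ext (haniso v v.2 hv)) c
    exact ⟨v, v.2, hv⟩
  · push Not at haniso
    obtain ⟨e, heP, hQe, he0⟩ := haniso
    obtain ⟨f, hfP, hef⟩ := hP e heP he0
    refine ⟨((c - Q f) / PB Q e f) • e + f, P.add_mem (P.smul_mem _ heP) hfP, ?_⟩
    have h1 : Q (((c - Q f) / PB Q e f) • e + f) =
        Q (((c - Q f) / PB Q e f) • e) + Q f +
          QuadraticMap.polar Q (((c - Q f) / PB Q e f) • e) f := by
      rw [QuadraticMap.polar]; ring
    rw [h1, QuadraticMap.map_smul, hQe, QuadraticMap.polar_smul_left, ← PB_apply, smul_eq_mul,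
      smul_eq_mul, div_mul_cancel₀ _ hef]
    ring

/-- a nonzero nondegenerate subspace contains a nonsingular vector (`2 ≠ 0`) -/
theorem exists_nonsing (h2 : (2 : F) ≠ 0) (Q : QuadraticForm F V) (L : Submodule F V)
    (hL : Nondeg (PB Q) L) (hne : L ≠ ⊥) : ∃ w ∈ L, Q w ≠ 0 := by
  by_contra hcon
  push Not at hcon
  obtain ⟨u, hu, hu0⟩ := (Submodule.ne_bot_iff L).mp hne
  obtain ⟨v, hv, huv⟩ := hL u hu hu0
  apply huv
  rw [PB_apply, QuadraticMap.polar, hcon _ (L.add_mem hu hv), hcon u hu, hcon v hv]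
  ring

theorem ringChar_ne_two (h2 : (2 : F) ≠ 0) : ringChar F ≠ 2 := by
  intro h
  apply h2
  have := (ringChar.spec F 2).mpr (by rw [h])
  exact_mod_cast this

/-- the plane spanned by two orthogonal nonsingular vectors -/
theorem plane_ty [Fintype F] [FiniteDimensional F V] (h2 : (2 : F) ≠ 0) (Q : QuadraticForm F V)
    (u w : V) (huw : PB Q u w = 0) (hu : Q u ≠ 0) (hw : Q w ≠ 0) :
    Module.finrank F (Submodule.span F (Set.range ![u, w])) = 2 ∧
    Nondeg (PB Q) (Submodule.span F (Set.range ![u, w])) ∧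
    (Plus Q (Submodule.span F (Set.range ![u, w])) ↔ IsSquare (-(Q u * Q w))) := by
  have hwu : PB Q w u = 0 := by rw [PB_comm]; exact huw
  have hli : LinearIndependent F ![u, w] := by
    rw [LinearIndependent.pair_iff]
    intro s t hst
    have h1 : PB Q (s • u + t • w) u = 0 := by rw [hst]; simp
    have h3 : PB Q (s • u + t • w) w = 0 := by rw [hst]; simp
    rw [map_add, LinearMap.add_apply, map_smul, map_smul, LinearMap.smul_apply,
      LinearMap.smul_apply, hwu, PB_self, smul_eq_mul, smul_eq_mul, mul_zero, add_zero] at h1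
    rw [map_add, LinearMap.add_apply, map_smul, map_smul, LinearMap.smul_apply,
      LinearMap.smul_apply, huw, PB_self, smul_eq_mul, smul_eq_mul, mul_zero, zero_add] at h3
    constructor
    · rcases mul_eq_zero.mp h1 with h | h
      · exact h
      · exact absurd h (mul_ne_zero h2 hu)
    · rcases mul_eq_zero.mp h3 with h | h
      · exact h
      · exact absurd h (mul_ne_zero h2 hw)
  have hfr : Module.finrank F (Submodule.span F (Set.range ![u, w])) = 2 := by
    rw [finrank_span_eq_card hli, Fintype.card_fin]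
  set b := Module.Basis.span hli with hb
  have hbi : ∀ i, ((b i : Submodule.span F (Set.range ![u, w])) : V) = ![u, w] i := by
    intro i
    rw [hb, Module.Basis.span_apply]
  have hgram : gramDet Q (fun i => ((b i : Submodule.span F (Set.range ![u, w])) : V)) =
      4 * (Q u * Q w) := by
    rw [gramDet, Matrix.det_fin_two]
    simp only [Matrix.of_apply, hbi, Matrix.cons_val_zero, Matrix.cons_val_one]
    rw [← PB_apply, ← PB_apply, ← PB_apply, ← PB_apply, PB_self, PB_self, huw, hwu]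
    ring
  obtain ⟨hdisc, hnd⟩ := discSq_iff Q (Submodule.span F (Set.range ![u, w])) b
  have hnd' : Nondeg (PB Q) (Submodule.span F (Set.range ![u, w])) := by
    rw [hnd, hgram]
    exact mul_ne_zero (by
      have : (4 : F) = 2 * 2 := by norm_num
      rw [this]
      exact mul_ne_zero h2 h2) (mul_ne_zero hu hw)
  refine ⟨hfr, hnd', ?_⟩
  rw [plus_iff_discSq h2 Q _ hnd' (by rw [hfr]; exact even_two), hdisc, hgram]
  have h4 : (-1 : F) ^ (2 / 2) * (4 * (Q u * Q w)) = 2 * 2 * (-(Q u * Q w)) := by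
    norm_num
  rw [h4]
  constructor
  · rintro ⟨s, hs⟩
    refine ⟨s * 2⁻¹, ?_⟩
    have h5 : -(Q u * Q w) = (2 * 2 * -(Q u * Q w)) * (2⁻¹ * 2⁻¹) := by field_simp
    rw [h5, hs]
    ring
  · rintro ⟨s, hs⟩
    exact ⟨2 * s, by rw [hs]; ring⟩

/-- two orthogonal nondegenerate subspaces, the first of dimension at least two, the second nonzero:
a plane of prescribed type spanned by a vector from each -/
theorem exists_mixed [Fintype F] [FiniteDimensional F V] (h2 : (2 : F) ≠ 0)
    (Q : QuadraticForm F V) (P L : Submodule F V) (hP : Nondeg (PB Q) P)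
    (hP2 : 2 ≤ Module.finrank F P) (hL : Nondeg (PB Q) L) (hL0 : L ≠ ⊥)
    (ho : Orth (PB Q) P L) (ε : Bool) :
    ∃ u ∈ P, ∃ w ∈ L, IsTy Q ε 2 (Submodule.span F (Set.range ![u, w])) := by
  obtain ⟨w, hwL, hw⟩ := exists_nonsing h2 Q L hL hL0
  obtain ⟨n, hn0, hn⟩ : ∃ n : F, n ≠ 0 ∧ (IsSquare n ↔ ε = true) := by
    cases ε with
    | true => exact ⟨1, one_ne_zero, by simp⟩
    | false =>
      obtain ⟨a, ha⟩ := FiniteField.exists_nonsquare (F := F) (ringChar_ne_two h2)
      refine ⟨a, ?_, by simpa using ha⟩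
      rintro rfl
      exact ha ⟨0, by simp⟩
  obtain ⟨u, huP, hu⟩ := represents Q P hP hP2 (-(n / Q w))
  have hu0 : Q u ≠ 0 := by
    rw [hu]
    exact neg_ne_zero.mpr (div_ne_zero hn0 hw)
  obtain ⟨hfr, hnd, hplus⟩ := plane_ty h2 Q u w (ho u huP w hwL) hu0 hw
  refine ⟨u, huP, w, hwL, hfr, hnd, ?_⟩
  rw [hplus, hu, ← hn]
  have : -(-(n / Q w) * Q w) = n := by
    field_simp
  rw [this]

end INVPLANE

/-- INVPLANE -/
theorem exists_invariant_plane {F V : Type*} [Field F] [Fintype F] [AddCommGroup V] [Module F V]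
    [FiniteDimensional F V] (h2 : (2 : F) ≠ 0) (Q : QuadraticForm F V) (M : Submodule F V)
    (hM : Nondeg (PB Q) M) (h3 : 3 ≤ Module.finrank F M) (x : Module.End F V)
    (hxQ : ∀ v, Q (x v) = Q v) (hx2 : x * x = 1) (hMx : M.map x ≤ M) (ε : Bool) :
    ∃ A : Submodule F V, A ≤ M ∧ IsTy Q ε 2 A ∧ A.map x ≤ A := by
  classical
  have hxx : ∀ v, x (x v) = v := fun v => by
    rw [← Module.End.mul_apply, hx2, Module.End.one_apply]
  have hMx' : ∀ v ∈ M, x v ∈ M := fun v hv => hMx ⟨v, hv, rfl⟩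
  -- the eigenspaces in `M`
  set Mp : Submodule F V := M ⊓ LinearMap.ker (x - 1) with hMp
  set Mm : Submodule F V := M ⊓ LinearMap.ker (x + 1) with hMm
  have hp_mem : ∀ v, v ∈ Mp ↔ v ∈ M ∧ x v = v := by
    intro v
    rw [hMp, Submodule.mem_inf, LinearMap.mem_ker, LinearMap.sub_apply, Module.End.one_apply,
      sub_eq_zero]
  have hm_mem : ∀ v, v ∈ Mm ↔ v ∈ M ∧ x v = -v := by
    intro v
    rw [hMm, Submodule.mem_inf, LinearMap.mem_ker, LinearMap.add_apply, Module.End.one_apply,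
      add_eq_zero_iff_eq_neg]
  have hsplit : ∀ v ∈ M, ∃ a ∈ Mp, ∃ b ∈ Mm, v = a + b := by
    intro v hv
    refine ⟨(2 : F)⁻¹ • (v + x v), ?_, (2 : F)⁻¹ • (v - x v), ?_, ?_⟩
    · rw [hp_mem]
      refine ⟨M.smul_mem _ (M.add_mem hv (hMx' v hv)), ?_⟩
      rw [map_smul, map_add, hxx, add_comm]
    · rw [hm_mem]
      refine ⟨M.smul_mem _ (M.sub_mem hv (hMx' v hv)), ?_⟩
      rw [map_smul, map_sub, hxx, ← smul_neg, neg_sub]
    · rw [← smul_add, add_add_sub_cancel, ← two_smul F v, smul_smul, inv_mul_cancel₀ h2, one_smul]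
  have horth : Orth (PB Q) Mp Mm := by
    intro a ha b hb
    obtain ⟨-, hxa⟩ := (hp_mem a).mp ha
    obtain ⟨-, hxb⟩ := (hm_mem b).mp hb
    have h1 : PB Q a b = -PB Q a b := by
      conv_lhs => rw [← PB_isom Q hxQ a b, hxa, hxb, map_neg]
    have h4 : (2 : F) * PB Q a b = 0 := by linear_combination h1
    rcases mul_eq_zero.mp h4 with h | h
    · exact absurd h h2
    · exact h
  have horth' : Orth (PB Q) Mm Mp := fun b hb a ha => by rw [PB_comm]; exact horth a ha b hb
  have hMpnd : Nondeg (PB Q) Mp := by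
    intro a ha ha0
    obtain ⟨v, hv, hav⟩ := hM a ((hp_mem a).mp ha).1 ha0
    obtain ⟨a', ha', b', hb', rfl⟩ := hsplit v hv
    refine ⟨a', ha', ?_⟩
    rwa [map_add, horth a ha b' hb', add_zero] at hav
  have hMmnd : Nondeg (PB Q) Mm := by
    intro b hb hb0
    obtain ⟨v, hv, hbv⟩ := hM b ((hm_mem b).mp hb).1 hb0
    obtain ⟨a', ha', b', hb', rfl⟩ := hsplit v hv
    refine ⟨b', hb', ?_⟩
    rwa [map_add, horth' b hb a' ha', zero_add] at hbv
  have hsup : Mp ⊔ Mm = M := by
    apply le_antisymm (sup_le inf_le_left inf_le_left)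
    intro v hv
    obtain ⟨a, ha, b, hb, rfl⟩ := hsplit v hv
    exact Submodule.add_mem_sup ha hb
  have hdisj : Disjoint Mp Mm := by
    rw [Submodule.disjoint_def]
    intro v hvp hvm
    obtain ⟨-, h1⟩ := (hp_mem v).mp hvp
    obtain ⟨-, h3'⟩ := (hm_mem v).mp hvm
    have h4 : (2 : F) • v = 0 := by
      rw [two_smul]
      nth_rewrite 1 [← h1]
      rw [h3', neg_add_cancel]
    rcases smul_eq_zero.mp h4 with h | h
    · exact absurd h h2
    · exact h
  have hfrsum : Module.finrank F Mp + Module.finrank F Mm = Module.finrank F M := by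
    have h5 := Submodule.finrank_sup_add_finrank_inf_eq Mp Mm
    rw [hdisj.eq_bot, finrank_bot, add_zero, hsup] at h5
    exact h5.symm
  -- invariance of the mixed plane
  have hmixed : ∀ u w : V, x u = u ∨ x u = -u → x w = w ∨ x w = -w →
      (Submodule.span F (Set.range ![u, w])).map x ≤ Submodule.span F (Set.range ![u, w]) := by
    intro u w hu hw
    rw [Submodule.map_span_le]
    intro v hv
    have hu_mem : u ∈ Submodule.span F (Set.range ![u, w]) :=
      Submodule.subset_span ⟨0, rfl⟩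
    have hw_mem : w ∈ Submodule.span F (Set.range ![u, w]) :=
      Submodule.subset_span ⟨1, rfl⟩
    obtain ⟨i, rfl⟩ := hv
    have hi : ![u, w] i = u ∨ ![u, w] i = w := by fin_cases i <;> simp
    rcases hi with hi | hi <;> rw [hi]
    · rcases hu with h | h <;> rw [h]
      · exact hu_mem
      · exact Submodule.neg_mem _ hu_mem
    · rcases hw with h | h <;> rw [h]
      · exact hw_mem
      · exact Submodule.neg_mem _ hw_mem
  have hspan_le : ∀ u w : V, u ∈ M → w ∈ M → Submodule.span F (Set.range ![u, w]) ≤ M := by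
    intro u w hu hw
    rw [Submodule.span_le]
    rintro _ ⟨i, rfl⟩
    fin_cases i
    · exact hu
    · exact hw
  by_cases hMm0 : Mm = ⊥
  · -- `x = 1` on `M`
    have hMpM : Mp = M := by rw [← hsup, hMm0, sup_bot_eq]
    obtain ⟨A, hAM, hA⟩ := exists_sub_ty h2 Q M hM ε 2 even_two (fun _ => le_rfl) (by omega)
    refine ⟨A, hAM, hA, ?_⟩
    rintro _ ⟨a, ha, rfl⟩
    have : a ∈ Mp := by rw [hMpM]; exact hAM ha
    rw [((hp_mem a).mp this).2]
    exact ha
  by_cases hMp0 : Mp = ⊥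
  · -- `x = -1` on `M`
    have hMmM : Mm = M := by rw [← hsup, hMp0, bot_sup_eq]
    obtain ⟨A, hAM, hA⟩ := exists_sub_ty h2 Q M hM ε 2 even_two (fun _ => le_rfl) (by omega)
    refine ⟨A, hAM, hA, ?_⟩
    rintro _ ⟨a, ha, rfl⟩
    have : a ∈ Mm := by rw [hMmM]; exact hAM ha
    rw [((hm_mem a).mp this).2]
    exact A.neg_mem ha
  -- both eigenspaces are nonzero; one of them has dimension at least two
  by_cases hp2 : 2 ≤ Module.finrank F Mp
  · obtain ⟨u, hu, w, hw, hty⟩ := INVPLANE.exists_mixed h2 Q Mp Mm hMpnd hp2 hMmnd hMm0 horth ε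
    obtain ⟨huM, hxu⟩ := (hp_mem u).mp hu
    obtain ⟨hwM, hxw⟩ := (hm_mem w).mp hw
    exact ⟨_, hspan_le u w huM hwM, hty, hmixed u w (Or.inl hxu) (Or.inr hxw)⟩
  · have hm2 : 2 ≤ Module.finrank F Mm := by omega
    obtain ⟨u, hu, w, hw, hty⟩ := INVPLANE.exists_mixed h2 Q Mm Mp hMmnd hm2 hMpnd hMp0 horth' ε
    obtain ⟨huM, hxu⟩ := (hm_mem u).mp hu
    obtain ⟨hwM, hxw⟩ := (hp_mem w).mp hw
    exact ⟨_, hspan_le u w huM hwM, hty, hmixed u w (Or.inr hxu) (Or.inl hxw)⟩

end Cfsg.Agent.S5992P
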