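import Mathlib
import Cfsg.Agent.Helper16.F3Basic

set_option autoImplicit false

/-! MAXC of the Fischer rank-3 package: maximal commuting subsets of `D`. -/

namespace Cfsg.Agent.Helper16.F3

variable {G : Type*} [Group G] [Finite G] {D : Set G}

omit [Finite G] in
/-- Two members of `D` inside a 2-subgroup commute. -/
theorem maxc_commute_of_pgroup (hD : Cfsg.IsThreeTranspositionGroup D) (T : Subgroup G)
    (hT : IsPGroup 2 T) {x y : G} (hx : x ∈ D) (hy : y ∈ D) (hxT : x ∈ T) (hyT : y ∈ T) :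
    Commute x y := by
  by_contra hnc
  have h3 := cube hD hx hy hnc
  obtain ⟨k, hk⟩ := hT ⟨x * y, T.mul_mem hxT hyT⟩
  have hk' : (x * y) ^ (2 ^ k) = 1 := by
    have := congrArg Subtype.val hk
    simpa using this
  have h1 : orderOf (x * y) ∣ 3 := orderOf_dvd_of_pow_eq_one h3
  have h2 : orderOf (x * y) ∣ 2 ^ k := orderOf_dvd_of_pow_eq_one hk'
  have h4 : orderOf (x * y) ∣ Nat.gcd 3 (2 ^ k) := Nat.dvd_gcd h1 h2
  have h5 : Nat.gcd 3 (2 ^ k) = 1 := Nat.Coprime.pow_right k (by norm_num)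
  rw [h5, Nat.dvd_one, orderOf_eq_one_iff] at h4
  apply hnc
  have h6 : x = y := by
    have := eq_inv_of_mul_eq_one_left h4
    rwa [inv_eq hD hy] at this
  rw [h6]

omit [Finite G] in
theorem maxc_comm_closure {E : Set G} (hc : ∀ a ∈ E, ∀ b ∈ E, Commute a b) :
    ∀ x ∈ Subgroup.closure E, ∀ y ∈ Subgroup.closure E, Commute x y := by
  have hA : ∀ y ∈ Subgroup.closure E, ∀ e ∈ E, Commute y e := by
    intro y hy e he
    induction hy using Subgroup.closure_induction with
    | mem x hx => exact hc x hx e he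
    | one => exact Commute.one_left e
    | mul x z _ _ hx hz => exact hx.mul_left hz
    | inv x _ hx => exact hx.inv_left
  intro x hx y hy
  induction hx using Subgroup.closure_induction with
  | mem x hx => exact (hA y hy x hx).symm
  | one => exact Commute.one_left y
  | mul x z _ _ hx hz => exact hx.mul_left hz
  | inv x _ hx => exact hx.inv_left

omit [Finite G] in
/-- The subgroup generated by a commuting subset of `D` is a 2-group. -/
theorem maxc_isPGroup (hD : Cfsg.IsThreeTranspositionGroup D) {E : Set G} (hE : E ⊆ D)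
    (hc : ∀ a ∈ E, ∀ b ∈ E, Commute a b) : IsPGroup 2 (Subgroup.closure E) := by
  have hcomm := maxc_comm_closure hc
  have hsq : ∀ x ∈ Subgroup.closure E, x ^ 2 = 1 := by
    intro x hx
    induction hx using Subgroup.closure_induction with
    | mem x hx => rw [pow_two]; exact sq hD (hE hx)
    | one => exact one_pow 2
    | mul x y hx hy ihx ihy => rw [(hcomm x hx y hy).mul_pow, ihx, ihy, mul_one]
    | inv x hx ih => rw [inv_pow, ih, inv_one]
  intro g
  refine ⟨1, ?_⟩
  apply Subtype.ext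
  rw [pow_one, Subgroup.coe_pow, hsq g g.2]
  rfl

/-- An element mapping the finite set `E` into itself by conjugation normalizes `E`. -/
theorem maxc_mem_normalizer {E : Set G} (n : G) (hn : ∀ x ∈ E, n * x * n⁻¹ ∈ E) :
    n ∈ Subgroup.normalizer E := by
  rw [Subgroup.mem_normalizer_iff_conj_image_eq]
  apply Set.eq_of_subset_of_ncard_le
  · rintro _ ⟨x, hx, rfl⟩
    exact hn x hx
  · rw [Set.ncard_image_of_injective _ (MulAut.conj n).injective]
  · exact Set.toFinite E

/-- A maximal commuting subset of `D` is the set of all members of `D` in any 2-subgroup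
containing it. -/
theorem maxc_eq_inter (hD : Cfsg.IsThreeTranspositionGroup D) {E : Set G} (hE : E ⊆ D)
    (hmax : ∀ E' : Set G, E' ⊆ D → (∀ a ∈ E', ∀ b ∈ E', Commute a b) → E'.ncard ≤ E.ncard)
    (T : Subgroup G) (hT : IsPGroup 2 T) (hET : ∀ x ∈ E, x ∈ T) :
    E = {x | x ∈ D ∧ x ∈ T} := by
  apply Set.eq_of_subset_of_ncard_le
  · intro x hx
    exact ⟨hE hx, hET x hx⟩
  · apply hmax
    · intro x hx
      exact hx.1
    · intro a ha b hb
      exact maxc_commute_of_pgroup hD T hT ha.1 hb.1 ha.2 hb.2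
  · exact Set.toFinite _

/-- Key lemma: inside a subgroup `K` containing both `E` and `g E g⁻¹`, the two are conjugate. -/
theorem maxc_key (hD : Cfsg.IsThreeTranspositionGroup D) {E : Set G} (hE : E ⊆ D)
    (hc : ∀ a ∈ E, ∀ b ∈ E, Commute a b)
    (hmax : ∀ E' : Set G, E' ⊆ D → (∀ a ∈ E', ∀ b ∈ E', Commute a b) → E'.ncard ≤ E.ncard)
    (K : Subgroup G) (g : G) (hEK : ∀ x ∈ E, x ∈ K) (hgEK : ∀ x ∈ E, g * x * g⁻¹ ∈ K) :
    ∃ k ∈ K, k * g ∈ Subgroup.normalizer E := by
  classical
  set E' : Set G := (fun x => g * x * g⁻¹) '' E with hE'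
  have hE'D : E' ⊆ D := by
    rintro _ ⟨x, hx, rfl⟩
    exact conj_mem hD g (hE hx)
  have hc' : ∀ a ∈ E', ∀ b ∈ E', Commute a b := by
    rintro _ ⟨x, hx, rfl⟩ _ ⟨y, hy, rfl⟩
    exact (Commute.conj_iff g).mpr (hc x hx y hy)
  have hP1 : IsPGroup 2 ((Subgroup.closure E).subgroupOf K) :=
    (maxc_isPGroup hD hE hc).comap_subtype
  have hP2 : IsPGroup 2 ((Subgroup.closure E').subgroupOf K) :=
    (maxc_isPGroup hD hE'D hc').comap_subtype
  obtain ⟨T, hT⟩ := hP1.exists_le_sylow
  obtain ⟨T', hT'⟩ := hP2.exists_le_sylow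
  obtain ⟨k, hk⟩ := MulAction.exists_smul_eq K T' T
  refine ⟨k, k.2, ?_⟩
  set TG : Subgroup G := (T : Subgroup K).map K.subtype with hTG
  have hTGp : IsPGroup 2 TG := T.2.map K.subtype
  have hETG : ∀ x ∈ E, x ∈ TG := by
    intro x hx
    refine ⟨⟨x, hEK x hx⟩, hT ?_, rfl⟩
    rw [Subgroup.mem_subgroupOf]
    exact Subgroup.subset_closure hx
  have hEeq := maxc_eq_inter hD hE hmax TG hTGp hETG
  apply maxc_mem_normalizer
  intro x hx
  have hmem : (k : G) * g * x * ((k : G) * g)⁻¹ ∈ {x | x ∈ D ∧ x ∈ TG} := by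
    constructor
    · exact conj_mem hD _ (hE hx)
    · have hy : (⟨g * x * g⁻¹, hgEK x hx⟩ : K) ∈ (T' : Subgroup K) := by
        apply hT'
        rw [Subgroup.mem_subgroupOf]
        exact Subgroup.subset_closure ⟨x, hx, rfl⟩
      have hky : k * ⟨g * x * g⁻¹, hgEK x hx⟩ * k⁻¹ ∈ (T : Subgroup K) := by
        rw [← hk, Sylow.coe_subgroup_smul]
        exact Subgroup.smul_mem_pointwise_smul _ (MulAut.conj k) _ hy
      refine ⟨_, hky, ?_⟩
      simp only [Subgroup.coe_subtype, Subgroup.coe_mul, Subgroup.coe_inv]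
      group
  rw [← hEeq] at hmem
  exact hmem

/-- MAXC, with the transitivity of `C(d)` on `D_d` as a hypothesis. -/
theorem maxcomm_of_trans (hD : Cfsg.IsThreeTranspositionGroup D)
    (hconj : ∀ x ∈ D, ∀ y ∈ D, ∃ g : G, g * x * g⁻¹ = y)
    (htrans : ∀ {d e f : G}, d ∈ D → e ∈ D → f ∈ D → e ≠ d → f ≠ d → Commute d e → Commute d f →
      ∃ g : G, Commute g d ∧ g * e * g⁻¹ = f)
    {E : Set G} (hE : E ⊆ D) (hc : ∀ a ∈ E, ∀ b ∈ E, Commute a b)
    (hmax : ∀ E' : Set G, E' ⊆ D → (∀ a ∈ E', ∀ b ∈ E', Commute a b) → E'.ncard ≤ E.ncard) :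
    (∃ P : Sylow 2 G, (P : Subgroup G) ≤ Subgroup.normalizer E) ∧
      ∀ a ∈ E, ∀ b ∈ E, ∀ c ∈ E, ∀ d ∈ E, a ≠ b → c ≠ d →
        ∃ g ∈ Subgroup.normalizer E, g * a * g⁻¹ = c ∧ g * b * g⁻¹ = d := by
  classical
  constructor
  · obtain ⟨P, hP⟩ := (maxc_isPGroup hD hE hc).exists_le_sylow
    refine ⟨P, ?_⟩
    have hEP : ∀ x ∈ E, x ∈ (P : Subgroup G) := fun x hx => hP (Subgroup.subset_closure hx)
    have hEeq := maxc_eq_inter hD hE hmax P P.2 hEP
    intro g hg
    apply maxc_mem_normalizer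
    intro x hx
    have : g * x * g⁻¹ ∈ {x | x ∈ D ∧ x ∈ (P : Subgroup G)} :=
      ⟨conj_mem hD g (hE hx), (P : Subgroup G).mul_mem ((P : Subgroup G).mul_mem hg (hEP x hx))
        ((P : Subgroup G).inv_mem hg)⟩
    rw [← hEeq] at this
    exact this
  · intro a ha b hb c hc' d hd hab hcd
    -- step 1: move `a` to `c`
    obtain ⟨g, hg⟩ := hconj a (hE ha) c (hE hc')
    obtain ⟨k, hk, hkg⟩ := maxc_key hD hE hc hmax (Subgroup.centralizer {c}) g
      (by
        intro x hx
        rw [Subgroup.mem_centralizer_iff]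
        intro y hy
        rw [Set.mem_singleton_iff] at hy
        subst hy
        exact (hc y hc' x hx).eq)
      (by
        intro x hx
        rw [Subgroup.mem_centralizer_iff]
        intro y hy
        rw [Set.mem_singleton_iff] at hy
        subst hy
        rw [← hg]
        exact ((Commute.conj_iff g).mpr (hc a ha x hx)).eq)
    have hkc : k * c * k⁻¹ = c := by
      rw [Subgroup.mem_centralizer_iff] at hk
      rw [← hk c rfl, mul_inv_cancel_right]
    set n1 := k * g with hn1
    have hn1a : n1 * a * n1⁻¹ = c := by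
      calc n1 * a * n1⁻¹ = k * (g * a * g⁻¹) * k⁻¹ := by rw [hn1]; group
        _ = c := by rw [hg, hkc]
    -- step 2
    set b' := n1 * b * n1⁻¹ with hb'
    have hb'E : b' ∈ E := ((Subgroup.mem_set_normalizer_iff.mp hkg) b).mp hb
    have hb'c : b' ≠ c := by
      intro h
      apply hab
      rw [← hn1a] at h
      have h2 := mul_right_cancel h
      exact (mul_left_cancel h2).symm
    obtain ⟨g2, hg2c, hg2⟩ := htrans (hE hc') (hE hb'E) (hE hd) hb'c (Ne.symm hcd)
      (hc c hc' b' hb'E) (hc c hc' d hd)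
    have hg2c' : g2 * c * g2⁻¹ = c := by
      rw [hg2c.eq, mul_inv_cancel_right]
    obtain ⟨k2, hk2, hk2g⟩ := maxc_key hD hE hc hmax
      (Subgroup.centralizer {c} ⊓ Subgroup.centralizer {d}) g2
      (by
        intro x hx
        rw [Subgroup.mem_inf, Subgroup.mem_centralizer_iff, Subgroup.mem_centralizer_iff]
        constructor
        · intro y hy
          rw [Set.mem_singleton_iff] at hy
          subst hy
          exact (hc y hc' x hx).eq
        · intro y hy
          rw [Set.mem_singleton_iff] at hy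
          subst hy
          exact (hc y hd x hx).eq)
      (by
        intro x hx
        rw [Subgroup.mem_inf, Subgroup.mem_centralizer_iff, Subgroup.mem_centralizer_iff]
        constructor
        · intro y hy
          rw [Set.mem_singleton_iff] at hy
          subst hy
          have h1 := (Commute.conj_iff g2).mpr (hc y hc' x hx)
          rw [hg2c'] at h1
          exact h1.eq
        · intro y hy
          rw [Set.mem_singleton_iff] at hy
          subst hy
          have h1 := (Commute.conj_iff g2).mpr (hc b' hb'E x hx)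
          rw [hg2] at h1
          exact h1.eq)
    rw [Subgroup.mem_inf, Subgroup.mem_centralizer_iff, Subgroup.mem_centralizer_iff] at hk2
    have hk2c : k2 * c * k2⁻¹ = c := by
      rw [← hk2.1 c rfl, mul_inv_cancel_right]
    have hk2d : k2 * d * k2⁻¹ = d := by
      rw [← hk2.2 d rfl, mul_inv_cancel_right]
    set n2 := k2 * g2 with hn2
    refine ⟨n2 * n1, (Subgroup.normalizer E).mul_mem hk2g hkg, ?_, ?_⟩
    · calc n2 * n1 * a * (n2 * n1)⁻¹ = n2 * (n1 * a * n1⁻¹) * n2⁻¹ := by group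
        _ = k2 * (g2 * c * g2⁻¹) * k2⁻¹ := by rw [hn1a, hn2]; group
        _ = c := by rw [hg2c', hk2c]
    · calc n2 * n1 * b * (n2 * n1)⁻¹ = n2 * (n1 * b * n1⁻¹) * n2⁻¹ := by group
        _ = k2 * (g2 * b' * g2⁻¹) * k2⁻¹ := by rw [← hb', hn2]; group
        _ = d := by rw [hg2, hk2d]

end Cfsg.Agent.Helper16.F3
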