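import Mathlib
import Cfsg.Agent.Helper16.F3Basic
import Cfsg.Agent.Helper22.F3MAXCAux

set_option autoImplicit false

/-! CONN of the Fischer rank-3 package: `D_d` is a single class of `⟨D_d⟩`. -/

namespace Cfsg.Agent.Helper16.F3

variable {G : Type*} [Group G] {D : Set G}

/-- `D_d`: the members of `D` other than `d` commuting with `d`. -/
def connDC (D : Set G) (d : G) : Set G := {z | z ∈ D ∧ z ≠ d ∧ Commute d z}

/-- non-commuting adjacency inside `D_d` -/
def connAdj (D : Set G) (d : G) (u v : G) : Prop :=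
  u ∈ connDC D d ∧ v ∈ connDC D d ∧ ¬ Commute u v

/-- the component of `y` in `D_d` -/
def connComp (D : Set G) (d y : G) : Set G := {z | Relation.ReflTransGen (connAdj D d) y z}

theorem connAdj_symm (d : G) {u v : G} (h : connAdj D d u v) : connAdj D d v u :=
  ⟨h.2.1, h.1, fun hc => h.2.2 hc.symm⟩

theorem connComp_self (d y : G) : y ∈ connComp D d y := Relation.ReflTransGen.refl

theorem connComp_symm {d y z : G} (h : z ∈ connComp D d y) : y ∈ connComp D d z := by
  induction h with
  | refl => exact Relation.ReflTransGen.refl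
  | tail _ hbc ih => exact Relation.ReflTransGen.head (connAdj_symm d hbc) ih

theorem connComp_trans {d y z w : G} (h1 : z ∈ connComp D d y) (h2 : w ∈ connComp D d z) :
    w ∈ connComp D d y :=
  Relation.ReflTransGen.trans h1 h2

theorem connComp_mem_DC {d y z : G} (hy : y ∈ connDC D d) (h : z ∈ connComp D d y) :
    z ∈ connDC D d := by
  rcases Relation.ReflTransGen.cases_tail h with h1 | ⟨c, _, hc⟩
  · rw [h1]; exact hy
  · exact hc.2.1

/-- different components commute elementwise -/
theorem connComp_commute {d y u v : G} (hy : y ∈ connDC D d) (hu : u ∈ connComp D d y)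
    (hv : v ∈ connDC D d) (hvn : v ∉ connComp D d y) : Commute u v := by
  by_contra hnc
  apply hvn
  exact Relation.ReflTransGen.tail hu ⟨connComp_mem_DC hy hu, hv, hnc⟩

theorem connDC_conj (hD : Cfsg.IsThreeTranspositionGroup D) (g : G) {d z : G}
    (hz : z ∈ connDC D d) : g * z * g⁻¹ ∈ connDC D (g * d * g⁻¹) := by
  refine ⟨conj_mem hD g hz.1, ?_, (Commute.conj_iff g).mpr hz.2.2⟩
  intro h
  apply hz.2.1
  have h2 := mul_right_cancel h
  exact mul_left_cancel h2

theorem connAdj_conj (hD : Cfsg.IsThreeTranspositionGroup D) (g : G) {d u v : G}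
    (h : connAdj D d u v) : connAdj D (g * d * g⁻¹) (g * u * g⁻¹) (g * v * g⁻¹) :=
  ⟨connDC_conj hD g h.1, connDC_conj hD g h.2.1, fun hc => h.2.2 ((Commute.conj_iff g).mp hc)⟩

theorem connComp_conj (hD : Cfsg.IsThreeTranspositionGroup D) (g : G) {d y z : G}
    (h : z ∈ connComp D d y) : g * z * g⁻¹ ∈ connComp D (g * d * g⁻¹) (g * y * g⁻¹) := by
  induction h with
  | refl => exact Relation.ReflTransGen.refl
  | tail _ hbc ih => exact Relation.ReflTransGen.tail ih (connAdj_conj hD g hbc)

theorem connComp_ncard_le [Finite G] (hD : Cfsg.IsThreeTranspositionGroup D) (g : G)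
    {e d' d y : G} (h1 : g * e * g⁻¹ = d) (h2 : g * d' * g⁻¹ = y) :
    (connComp D e d').ncard ≤ (connComp D d y).ncard := by
  apply Set.ncard_le_ncard_of_injOn (fun z => g * z * g⁻¹)
  · intro z hz
    have := connComp_conj hD g hz
    rw [h1, h2] at this
    exact this
  · intro a _ b _ hab
    have h3 := mul_right_cancel hab
    exact mul_left_cancel h3

/-- a non-commuting path inside `D_d` yields a conjugating element of `⟨D_d⟩` -/
theorem conn_path_conj (hD : Cfsg.IsThreeTranspositionGroup D) {d y z : G}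
    (h : z ∈ connComp D d y) :
    ∃ g ∈ Subgroup.closure (connDC D d), g * y * g⁻¹ = z := by
  induction h with
  | refl => exact ⟨1, Subgroup.one_mem _, by group⟩
  | @tail u v _ huv ih =>
    obtain ⟨g, hg, hgy⟩ := ih
    obtain ⟨hu, hv, hnc⟩ := huv
    obtain ⟨hw, hswap, hwu, _⟩ := third hD hu.1 hv.1 hnc
    have hwd : Commute d (v * u * v) := (hv.2.2.mul_right hu.2.2).mul_right hv.2.2
    have hwne : v * u * v ≠ d := by
      intro h1
      apply hwu
      rw [h1]
      exact hu.2.2
    refine ⟨(v * u * v) * g, Subgroup.mul_mem _ (Subgroup.subset_closure ⟨hw, hwne, hwd⟩) hg, ?_⟩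
    calc v * u * v * g * y * (v * u * v * g)⁻¹
        = (v * u * v) * (g * y * g⁻¹) * (v * u * v)⁻¹ := by group
      _ = v := by rw [hgy, hswap]

/-- connectivity of `D_d`, from transitivity of `C(d)` on `D_d`, VLEM and maximality of the
`D`-subgroup generated by `C_D(d)`. -/
theorem conn_connected [Finite G] (hD : Cfsg.IsThreeTranspositionGroup D)
    (hconj : ∀ x ∈ D, ∀ y ∈ D, ∃ g : G, g * x * g⁻¹ = y)
    (hnoncomm : ∀ d ∈ D, ∃ a ∈ D, ¬ Commute a d)
    (htrans : ∀ {d e f : G}, d ∈ D → e ∈ D → f ∈ D → e ≠ d → f ≠ d → Commute d e → Commute d f →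
      ∃ g : G, Commute g d ∧ g * e * g⁻¹ = f)
    (hvlem : ∀ {d e : G}, d ∈ D → e ∈ D → e ≠ d → Commute e d →
      ∃ x ∈ D, Commute x e ∧ ¬ Commute x d)
    (hmaxD : ∀ d ∈ D, ∀ H : Subgroup G, Cfsg.IsDSubgroup D H →
      Subgroup.closure {y : G | y ∈ D ∧ Commute d y} ≤ H →
      H = Subgroup.closure {y : G | y ∈ D ∧ Commute d y} ∨ H = ⊤)
    {d e f : G} (hd : d ∈ D) (he : e ∈ connDC D d) (hf : f ∈ connDC D d) :
    f ∈ connComp D d e := by
  classical
  by_contra hfe
  -- (3) the element `x`
  obtain ⟨x, hx, hxe, hxd⟩ := hvlem hd he.1 he.2.1 he.2.2.symm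
  have hdDe : d ∈ connDC D e := ⟨hd, Ne.symm he.2.1, he.2.2.symm⟩
  have hxDe : x ∈ connDC D e := by
    refine ⟨hx, ?_, hxe.symm⟩
    intro h
    apply hxd
    rw [h]
    exact he.2.2.symm
  -- members of components other than that of `e` lie in `D_e`
  have hoff : ∀ w ∈ connDC D d, w ∉ connComp D d e → w ∈ connDC D e := by
    intro w hw hwn
    refine ⟨hw.1, ?_, connComp_commute he (connComp_self d e) hw hwn⟩
    intro h
    apply hwn
    rw [h]
    exact connComp_self d e
  -- (4)
  have h4 : ∀ y ∈ connDC D d, y ∉ connComp D d e → Commute y x := by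
    intro y hy hyn
    by_contra hyx
    have hyDe : y ∈ connDC D e := hoff y hy hyn
    have hycomp : y ∈ connComp D e d := by
      have s1 : connAdj D e d x := ⟨hdDe, hxDe, fun hc => hxd hc.symm⟩
      have s2 : connAdj D e x y := ⟨hxDe, hyDe, fun hc => hyx hc.symm⟩
      exact Relation.ReflTransGen.tail (Relation.ReflTransGen.single s1) s2
    -- members of `comp d y` are off `comp d e`
    have hoffy : ∀ w ∈ connComp D d y, w ∈ connDC D d ∧ w ∉ connComp D d e := by
      intro w hw
      refine ⟨connComp_mem_DC hy hw, ?_⟩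
      intro hwe
      exact hyn (connComp_trans hwe (connComp_symm hw))
    -- `comp d y ⊆ comp e y`
    have hsub : ∀ w ∈ connComp D d y, w ∈ connComp D e y := by
      intro w hw
      induction hw with
      | refl => exact Relation.ReflTransGen.refl
      | @tail u v huv0 huv ih =>
        have hu := hoffy u huv0
        have hv := hoffy v (Relation.ReflTransGen.tail huv0 huv)
        exact Relation.ReflTransGen.tail ih
          ⟨hoff u hu.1 hu.2, hoff v hv.1 hv.2, huv.2.2⟩
    have hins : insert d (connComp D d y) ⊆ connComp D e d := by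
      intro w hw
      rcases Set.mem_insert_iff.mp hw with h1 | h1
      · rw [h1]; exact connComp_self e d
      · exact connComp_trans hycomp (hsub w h1)
    have hdn : d ∉ connComp D d y := by
      intro h1
      exact (connComp_mem_DC hy h1).2.1 rfl
    have hcard1 : (connComp D d y).ncard + 1 ≤ (connComp D e d).ncard := by
      rw [← Set.ncard_insert_of_notMem hdn (Set.toFinite _)]
      exact Set.ncard_le_ncard hins (Set.toFinite _)
    -- a conjugating element `e ↦ d`, `d ↦ y`
    obtain ⟨g0, hg0⟩ := hconj e he.1 d hd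
    have hg0d : g0 * d * g0⁻¹ ∈ connDC D d := by
      have := connDC_conj hD g0 hdDe
      rwa [hg0] at this
    obtain ⟨k, hkd, hk⟩ := htrans hd hg0d.1 hy.1 hg0d.2.1 hy.2.1 hg0d.2.2 hy.2.2
    have hkd' : k * d * k⁻¹ = d := by rw [hkd.eq, mul_inv_cancel_right]
    have hcard2 : (connComp D e d).ncard ≤ (connComp D d y).ncard := by
      apply connComp_ncard_le hD (k * g0)
      · calc k * g0 * e * (k * g0)⁻¹ = k * (g0 * e * g0⁻¹) * k⁻¹ := by group
          _ = d := by rw [hg0, hkd']
      · calc k * g0 * d * (k * g0)⁻¹ = k * (g0 * d * g0⁻¹) * k⁻¹ := by group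
          _ = y := hk
    omega
  -- (5)
  set U : Set G := {u | u ∈ connDC D d ∧ u ∉ connComp D d e} with hU
  set Cd : Set G := {y : G | y ∈ D ∧ Commute d y} with hCd
  set H : Subgroup G := Subgroup.closure (Cd ∪ {x}) with hH
  have hCdH : Subgroup.closure Cd ≤ H := Subgroup.closure_mono Set.subset_union_left
  have hxH : x ∈ H := Subgroup.subset_closure (Set.mem_union_right _ rfl)
  have hHD : Cfsg.IsDSubgroup D H := by
    unfold Cfsg.IsDSubgroup
    apply le_antisymm
    · rw [Subgroup.closure_le]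
      intro z hz
      exact hz.2
    · rw [hH, Subgroup.closure_le]
      rintro z (hz | hz)
      · exact Subgroup.subset_closure ⟨hz.1, hCdH (Subgroup.subset_closure hz)⟩
      · rw [Set.mem_singleton_iff] at hz
        rw [hz]
        exact Subgroup.subset_closure ⟨hx, hxH⟩
  have hHtop : H = ⊤ := by
    rcases hmaxD d hd H hHD hCdH with h1 | h1
    · exfalso
      have h2 : Subgroup.closure Cd ≤ Subgroup.centralizer {d} := by
        rw [Subgroup.closure_le]
        intro z hz
        rw [SetLike.mem_coe, Subgroup.mem_centralizer_iff]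
        intro w hw
        rw [Set.mem_singleton_iff] at hw
        rw [hw]
        exact hz.2.eq
      have h3 : x ∈ Subgroup.centralizer {d} := h2 (h1 ▸ hxH)
      rw [Subgroup.mem_centralizer_iff] at h3
      exact hxd (h3 d rfl).symm
    · exact h1
  -- every generator of `H` maps `U` into `U`
  have hgen : ∀ s ∈ Cd ∪ {x}, ∀ u ∈ U, s * u * s⁻¹ ∈ U := by
    rintro s (hs | hs) u hu
    · by_cases hsd : s = d
      · rw [hsd, hu.1.2.2.eq, mul_inv_cancel_right]
        exact hu
      · have hsDC : s ∈ connDC D d := ⟨hs.1, hsd, hs.2⟩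
        by_cases hcs : Commute s u
        · rw [hcs.eq, mul_inv_cancel_right]
          exact hu
        · -- then `s` is off `comp d e` as well and `s u s` is adjacent to `u`
          have hsu : s * u * s⁻¹ ∈ connDC D d := by
            refine ⟨conj_mem hD s hu.1.1, ?_, ?_⟩
            · intro h1
              apply hu.1.2.1
              have h2 : s * u * s⁻¹ = s * d * s⁻¹ := by
                rw [h1, ← hs.2.eq, mul_inv_cancel_right]
              have h3 := mul_right_cancel h2
              exact mul_left_cancel h3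
            · exact (hs.2.mul_right hu.1.2.2).mul_right hs.2.inv_right
          refine ⟨hsu, ?_⟩
          intro hin
          apply hu.2
          have hnc : ¬ Commute (s * u * s⁻¹) u := by
            have h0 := (third hD hu.1.1 hs.1 (fun hc => hcs hc.symm)).2.2.1
            have e1 : s * u * s⁻¹ = s * u * s := by rw [inv_eq hD hs.1]
            rw [e1]
            exact h0
          have hadj : connAdj D d (s * u * s⁻¹) u := ⟨hsu, hu.1, hnc⟩
          exact Relation.ReflTransGen.tail hin hadj
    · rw [Set.mem_singleton_iff] at hs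
      rw [hs, ← (h4 u hu.1 hu.2).eq, mul_inv_cancel_right]
      exact hu
  have hnorm : H ≤ Subgroup.normalizer U := by
    rw [hH, Subgroup.closure_le]
    intro s hs
    exact maxc_mem_normalizer s (hgen s hs)
  -- all conjugates of `f` lie in `U`, so commute with `d`
  have hfU : f ∈ U := ⟨hf, hfe⟩
  obtain ⟨a, ha, had⟩ := hnoncomm d hd
  obtain ⟨g, hg⟩ := hconj f hf.1 a ha
  have hgN : g ∈ Subgroup.normalizer U := hnorm (hHtop ▸ Subgroup.mem_top g)
  have haU : g * f * g⁻¹ ∈ U := (Subgroup.mem_set_normalizer_iff.mp hgN f).mp hfU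
  rw [hg] at haU
  exact had haU.1.2.2.symm

/-- CONN with its three inputs as hypotheses. -/
theorem comm_class_of [Finite G] (hD : Cfsg.IsThreeTranspositionGroup D)
    (hconj : ∀ x ∈ D, ∀ y ∈ D, ∃ g : G, g * x * g⁻¹ = y)
    (hnoncomm : ∀ d ∈ D, ∃ a ∈ D, ¬ Commute a d)
    (htrans : ∀ {d e f : G}, d ∈ D → e ∈ D → f ∈ D → e ≠ d → f ≠ d → Commute d e → Commute d f →
      ∃ g : G, Commute g d ∧ g * e * g⁻¹ = f)
    (hvlem : ∀ {d e : G}, d ∈ D → e ∈ D → e ≠ d → Commute e d →
      ∃ x ∈ D, Commute x e ∧ ¬ Commute x d)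
    (hmaxD : ∀ d ∈ D, ∀ H : Subgroup G, Cfsg.IsDSubgroup D H →
      Subgroup.closure {y : G | y ∈ D ∧ Commute d y} ≤ H →
      H = Subgroup.closure {y : G | y ∈ D ∧ Commute d y} ∨ H = ⊤)
    {d y y' : G} (hd : d ∈ D) (hy : y ∈ D) (hy' : y' ∈ D)
    (hyd : y ≠ d) (hy'd : y' ≠ d) (hc : Commute d y) (hc' : Commute d y') :
    ∃ g ∈ Subgroup.closure {z : G | z ∈ D ∧ z ≠ d ∧ Commute d z}, g * y * g⁻¹ = y' :=
  conn_path_conj hD
    (conn_connected hD hconj hnoncomm htrans hvlem hmaxD hd ⟨hy, hyd, hc⟩ ⟨hy', hy'd, hc'⟩)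

end Cfsg.Agent.Helper16.F3
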