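import Mathlib
import Cfsg.Agent.Helper8.S1904Defs

/-!
# S1904 board, row INJ

The injectivity lemma for `|A| = 3`.
-/

set_option autoImplicit false
set_option linter.unusedVariables false
set_option linter.unusedSectionVars false

namespace Cfsg.Agent.S1904P

variable {X : Type*} [Group X] [Finite X] {A : Subgroup (MulAut X)} {B : Subgroup X}

/-- a group of order `3` is `{1, a, a²}` -/
theorem INJ_aux_three {Y : Type*} [Group Y] (h3 : Nat.card Y = 3) :
    ∃ a : Y, a ≠ 1 ∧ a * a * a = 1 ∧ ∀ x : Y, x = 1 ∨ x = a ∨ x = a * a := by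
  haveI : Finite Y := Nat.finite_of_card_ne_zero (by rw [h3]; norm_num)
  haveI : Nontrivial Y := (Finite.one_lt_card_iff_nontrivial).1 (by rw [h3]; norm_num)
  obtain ⟨a, ha1⟩ := exists_ne (1 : Y)
  have ho : orderOf a = 3 := by
    have hd : orderOf a ∣ 3 := by rw [← h3]; exact orderOf_dvd_natCard a
    rcases (Nat.dvd_prime Nat.prime_three).1 hd with h | h
    · exact absurd (orderOf_eq_one_iff.1 h) ha1
    · exact h
  have ha3 : a * a * a = 1 := by
    have := pow_orderOf_eq_one a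
    rw [ho] at this
    rw [← this, pow_succ, pow_two]
  refine ⟨a, ha1, ha3, ?_⟩
  have htop : Subgroup.zpowers a = ⊤ := by
    apply Subgroup.eq_top_of_card_eq
    rw [Nat.card_zpowers, ho, h3]
  intro x
  have hx : x ∈ Subgroup.zpowers a := by rw [htop]; exact Subgroup.mem_top x
  obtain ⟨k, rfl⟩ := Subgroup.mem_zpowers_iff.1 hx
  have hk : a ^ k = a ^ (k % 3) := by
    have := zpow_mod_orderOf a k
    rw [ho] at this
    exact this.symm
  rw [hk]
  have h0 : 0 ≤ k % 3 := Int.emod_nonneg k (by norm_num)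
  have h1 : k % 3 < 3 := Int.emod_lt_of_pos k (by norm_num)
  obtain ⟨j, hj⟩ : ∃ j : ℕ, k % 3 = j := ⟨(k % 3).toNat, (Int.toNat_of_nonneg h0).symm⟩
  rw [hj] at h1 ⊢
  have hj3 : j < 3 := by exact_mod_cast h1
  rw [zpow_natCast]
  interval_cases j
  · left; simp
  · right; left; simp
  · right; right; rw [pow_two]

/-- INJ: the injectivity lemma for `|A| = 3`. -/
theorem INJ (H : Hyp A) (hA3 : Nat.card A = 3) (hfix : ∀ w ∈ WW X, (∀ φ ∈ A, φ w = w) → w = 1)
    (P P₀ : Subgroup X) (hP₀P : P₀ ≤ P) (hPc : ∀ a ∈ P, ∀ b ∈ P, a * b = b * a)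
    (hIP : Inv A P) (hIP₀ : Inv A P₀) (hidx : Nat.card P₀ * 4 = Nat.card P)
    (hnf : ∀ p ∈ P, (∀ φ ∈ A, p⁻¹ * φ p ∈ P₀) → p ∈ P₀)
    (lam : X → X) (hmul : ∀ p ∈ P, ∀ q ∈ P, lam (p * q) = lam p * lam q) (hW : ∀ p ∈ P, lam p ∈ WW X)
    (h0 : ∀ p ∈ P₀, lam p = 1)
    (hnorm : ∀ α ∈ A, α ≠ 1 → ∀ p ∈ P, lam p * α (lam (α⁻¹ p)) * (α * α) (lam ((α * α)⁻¹ p)) = 1) :
    ∀ p ∈ P, lam p = 1 → p ∈ P₀ ∨ ∀ q ∈ P, lam q = 1 := by
  intro p hpP hlp
  by_cases hp0 : p ∈ P₀
  · exact Or.inl hp0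
  right
  -- the generator `α` of `A`
  obtain ⟨a, ha1, ha3, hall⟩ := INJ_aux_three hA3
  set α : MulAut X := (a : MulAut X) with hαdef
  have hαA : α ∈ A := a.2
  have hα1 : α ≠ 1 := fun h => ha1 (Subtype.ext h)
  have hα3 : α * α * α = 1 := by
    have := congrArg (Subtype.val) ha3
    simpa using this
  have hallA : ∀ φ ∈ A, φ = 1 ∨ φ = α ∨ φ = α * α := by
    intro φ hφ
    rcases hall ⟨φ, hφ⟩ with h | h | h
    · left; exact congrArg Subtype.val h
    · right; left; exact congrArg Subtype.val h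
    · right; right
      have := congrArg Subtype.val h
      simpa using this
  have hα3x : ∀ x : X, α (α (α x)) = x := by
    intro x
    have := congrArg (fun f : MulAut X => f x) hα3
    simpa [MulAut.mul_apply] using this
  have hαinv : α⁻¹ = α * α := by
    rw [inv_eq_iff_mul_eq_one, ← mul_assoc]
    exact hα3
  have hααinv : (α * α)⁻¹ = α := by
    rw [inv_eq_iff_mul_eq_one]
    exact hα3
  -- the three translates of `p`
  have hp1P : α p ∈ P := hIP α hαA p hpP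
  have hp2P : α (α p) ∈ P := hIP α hαA _ hp1P
  -- a fixed point criterion
  have hfixA : ∀ x : X, α x = x → ∀ φ ∈ A, φ x = x := by
    intro x hx φ hφ
    rcases hallA φ hφ with h | h | h
    · rw [h]; rfl
    · rw [h]; exact hx
    · rw [h, MulAut.mul_apply, hx, hx]
  -- `n = p α(p) α²(p) ∈ P₀`
  have hnP : p * α p * α (α p) ∈ P := P.mul_mem (P.mul_mem hpP hp1P) hp2P
  have hαn : α (p * α p * α (α p)) = p * α p * α (α p) := by
    rw [map_mul, map_mul, hα3x]
    have c1 : α p * α (α p) * p = p * (α p * α (α p)) := (hPc _ (P.mul_mem hp1P hp2P) p hpP)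
    rw [c1, mul_assoc]
  have hnP₀ : p * α p * α (α p) ∈ P₀ := by
    apply hnf _ hnP
    intro φ hφ
    rw [hfixA _ hαn φ hφ, inv_mul_cancel]
    exact P₀.one_mem
  have hlamn : lam p * lam (α p) * lam (α (α p)) = 1 := by
    rw [← hmul p hpP _ hp1P, ← hmul _ (P.mul_mem hpP hp1P) _ hp2P]
    exact h0 _ hnP₀
  rw [hlp, one_mul] at hlamn
  have hu2 : lam (α p) * lam (α p) = 1 := (hW _ hp1P).2
  have hvu : lam (α (α p)) = lam (α p) := by
    have : lam (α p) * lam (α (α p)) = lam (α p) * lam (α p) := by rw [hlamn, hu2]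
    exact mul_left_cancel this
  -- the norm relation at `α²(p)`
  have hn2 := hnorm α hαA hα1 (α (α p)) hp2P
  have e1 : α⁻¹ (α (α p)) = α p := by simp
  have e2 : (α * α)⁻¹ (α (α p)) = p := by
    rw [hααinv]; exact hα3x p
  rw [e1, e2, hlp, map_one, mul_one, hvu] at hn2
  have hαu : α (lam (α p)) = lam (α p) := by
    have : lam (α p) * α (lam (α p)) = lam (α p) * lam (α p) := by rw [hn2, hu2]
    exact mul_left_cancel this
  have hu1 : lam (α p) = 1 := hfix _ (hW _ hp1P) (hfixA _ hαu)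
  have hv1 : lam (α (α p)) = 1 := by rw [hvu, hu1]
  -- the kernel of `lam` on `P`
  have hlam1 : lam 1 = 1 := h0 1 P₀.one_mem
  let K : Subgroup X :=
    { carrier := {q | q ∈ P ∧ lam q = 1}
      one_mem' := ⟨P.one_mem, hlam1⟩
      mul_mem' := by
        rintro x y ⟨hx, hx1⟩ ⟨hy, hy1⟩
        exact ⟨P.mul_mem hx hy, by rw [hmul x hx y hy, hx1, hy1, one_mul]⟩
      inv_mem' := by
        rintro x ⟨hx, hx1⟩
        refine ⟨P.inv_mem hx, ?_⟩
        have := hmul x⁻¹ (P.inv_mem hx) x hx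
        rw [inv_mul_cancel, hlam1, hx1, mul_one] at this
        exact this.symm }
  have hKP : K ≤ P := fun q hq => hq.1
  have hP₀K : P₀ ≤ K := fun q hq => ⟨hP₀P hq, h0 q hq⟩
  have hpK : p ∈ K := ⟨hpP, hlp⟩
  have hp1K : α p ∈ K := ⟨hp1P, hu1⟩
  suffices hPK : P ≤ K from fun q hq => (hPK hq).2
  -- index bookkeeping
  have hrel4 : P₀.relIndex P = 4 := by
    have h1 : Nat.card ↥(P₀.subgroupOf P) * (P₀.subgroupOf P).index = Nat.card ↥P :=
      Subgroup.card_mul_index _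
    rw [Nat.card_congr (Subgroup.subgroupOfEquivOfLe hP₀P).toEquiv, ← hidx] at h1
    exact Nat.eq_of_mul_eq_mul_left Nat.card_pos h1
  have hmulrel : P₀.relIndex K * K.relIndex P = 4 := by
    rw [Subgroup.relIndex_mul_relIndex _ _ _ hP₀K hKP, hrel4]
  have ha_ne1 : P₀.relIndex K ≠ 1 := by
    intro h
    exact hp0 ((Subgroup.relIndex_eq_one.1 h) hpK)
  by_cases hb1 : K.relIndex P = 1
  · exact Subgroup.relIndex_eq_one.1 hb1
  exfalso
  have ha2 : P₀.relIndex K = 2 := by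
    have hdvd : P₀.relIndex K ∣ 4 := Dvd.intro _ hmulrel
    have hle : P₀.relIndex K ≤ 4 := Nat.le_of_dvd (by norm_num) hdvd
    generalize P₀.relIndex K = m at *
    generalize K.relIndex P = b at *
    interval_cases m
    · simp at hmulrel
    · exact absurd rfl ha_ne1
    · rfl
    · omega
    · exfalso; apply hb1; omega
  -- index two: `p⁻¹ α(p) ∈ P₀`
  have hp1nP₀ : α p ∉ P₀ := by
    intro h
    apply hp0
    have := hIP₀ α hαA _ (hIP₀ α hαA _ h)
    rwa [hα3x] at this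
  have hpinvn : p⁻¹ ∉ P₀ := fun h => hp0 (by simpa using P₀.inv_mem h)
  have hmem : p⁻¹ * α p ∈ P₀ := by
    have h2 := Subgroup.mul_mem_iff_of_index_two (H := P₀.subgroupOf K) ha2
      (a := ⟨p⁻¹, K.inv_mem hpK⟩) (b := ⟨α p, hp1K⟩)
    simp only [Subgroup.mem_subgroupOf, Subgroup.coe_mul] at h2
    exact h2.2 ⟨fun h => absurd h hpinvn, fun h => absurd h hp1nP₀⟩
  apply hp0
  apply hnf p hpP
  intro φ hφ
  rcases hallA φ hφ with h | h | h
  · rw [h]; simp [P₀.one_mem]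
  · rw [h]; exact hmem
  · rw [h, MulAut.mul_apply]
    have e : p⁻¹ * α (α p) = (p⁻¹ * α p) * α (p⁻¹ * α p) := by
      rw [map_mul, map_inv]; group
    rw [e]
    exact P₀.mul_mem hmem (hIP₀ α hαA _ hmem)

end Cfsg.Agent.S1904P
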