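import Mathlib
import Cfsg.Prelude.Def_FusionSystem
import Cfsg.Prelude.Def_KGroupFacts
import Cfsg.Agent.Helper7.S2647.Defs

/-! # S2647 piece REFL: sign changes and transpositions are reflections. -/

set_option autoImplicit false
set_option linter.unusedSectionVars false
set_option linter.unusedVariables false

namespace Cfsg.Agent.S2647P

open Matrix Cfsg.Agent.Helper28.IsoTransport Cfsg.Agent.Helper28.Spin

variable {F : Type*} [Field F]

namespace REFL

/-- the polar form of `Qd` -/
theorem polar_Qd (u x : J → F) :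
    QuadraticMap.polar ⇑(Qd F) u x = -(2 * ∑ k, u k * x k) := by
  have hk : ∀ k, (u k + x k) * (u k + x k) = u k * u k + x k * x k + 2 * (u k * x k) := by
    intro k; ring
  simp only [QuadraticMap.polar, Qd_apply, Pi.add_apply, hk, Finset.sum_add_distrib,
    ← Finset.mul_sum]
  ring

theorem sum_single_mul (j : J) (x : J → F) :
    ∑ k, (Pi.single j (1 : F) : J → F) k * x k = x j := by
  simp [Pi.single_apply]

end REFL

theorem Qd_single (j : J) : Qd F (Pi.single j 1) = -1 := by
  rw [Qd_apply, REFL.sum_single_mul]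
  simp

theorem Qd_single_sub (i j : J) (hij : i ≠ j) :
    Qd F (Pi.single i 1 - Pi.single j 1) = -2 := by
  rw [Qd_apply]
  have : ∀ k, ((Pi.single i (1 : F) - Pi.single j 1 : J → F) k) *
      ((Pi.single i (1 : F) - Pi.single j 1 : J → F) k) =
      (Pi.single i (1 : F) : J → F) k * (Pi.single i (1 : F) - Pi.single j 1 : J → F) k -
      (Pi.single j (1 : F) : J → F) k * (Pi.single i (1 : F) - Pi.single j 1 : J → F) k := by
    intro k
    simp only [Pi.sub_apply]
    ring
  simp only [this, Finset.sum_sub_distrib, REFL.sum_single_mul]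
  simp only [Pi.sub_apply, Pi.single_eq_same, Pi.single_eq_of_ne hij,
    Pi.single_eq_of_ne (Ne.symm hij)]
  ring

theorem dg_update_eq_reflO (h2 : (2 : F) ≠ 0) (j : J) (hv : Qd F (Pi.single j 1) ≠ 0) :
    dg F (Function.update (1 : J → ℤˣ) j (-1)) = reflO (Qd F) (Pi.single j 1) hv := by
  apply Subtype.ext
  apply Units.ext
  show dgM F _ = Cfsg.reflectionMatrix ⇑(Qd F) (Pi.single j 1)
  apply matrix_ext_mulVec
  intro x
  rw [dgM_mulVec, refl_mulVec, Qd_single, REFL.polar_Qd, REFL.sum_single_mul]
  funext k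
  by_cases hk : k = j
  · subst hk
    simp only [Function.update_self, sg_neg_one, Pi.sub_apply, Pi.smul_apply, Pi.single_eq_same,
      smul_eq_mul]
    field_simp
    ring
  · simp only [Function.update_of_ne hk, Pi.one_apply, sg_one, Pi.sub_apply, Pi.smul_apply,
      Pi.single_eq_of_ne hk, smul_eq_mul]
    ring

theorem pm_swap_eq_reflO (h2 : (2 : F) ≠ 0) (i j : J) (hij : i ≠ j)
    (hv : Qd F (Pi.single i 1 - Pi.single j 1) ≠ 0) :
    pm F (Equiv.swap i j) = reflO (Qd F) (Pi.single i 1 - Pi.single j 1) hv := by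
  apply Subtype.ext
  apply Units.ext
  show ((Equiv.swap i j)⁻¹).permMatrix F = Cfsg.reflectionMatrix ⇑(Qd F) (Pi.single i 1 - Pi.single j 1)
  apply matrix_ext_mulVec
  intro x
  have hpm := pm_mulVec F (Equiv.swap i j) x
  rw [pm_val] at hpm
  rw [hpm, refl_mulVec, Qd_single_sub i j hij, REFL.polar_Qd]
  have hsum : ∑ k, (Pi.single i (1 : F) - Pi.single j 1 : J → F) k * x k = x i - x j := by
    have : ∀ k, (Pi.single i (1 : F) - Pi.single j 1 : J → F) k * x k =
        (Pi.single i (1 : F) : J → F) k * x k - (Pi.single j (1 : F) : J → F) k * x k := by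
      intro k
      simp only [Pi.sub_apply]
      ring
    simp only [this, Finset.sum_sub_distrib, REFL.sum_single_mul]
  rw [hsum, Equiv.swap_inv]
  funext k
  simp only [Pi.sub_apply, Pi.smul_apply, smul_eq_mul]
  by_cases hki : k = i
  · subst hki
    rw [Equiv.swap_apply_left, Pi.single_eq_same, Pi.single_eq_of_ne hij]
    field_simp
    ring
  · by_cases hkj : k = j
    · subst hkj
      rw [Equiv.swap_apply_right, Pi.single_eq_same, Pi.single_eq_of_ne hki]
      field_simp
      ring
    · rw [Equiv.swap_apply_of_ne_of_ne hki hkj, Pi.single_eq_of_ne hki, Pi.single_eq_of_ne hkj]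
      ring

end Cfsg.Agent.S2647P
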