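import Mathlib
import Cfsg.Prelude.Def_Classical
import Cfsg.Prelude.Def_FusionComponents
import Cfsg.Agent.Helper26.S5320.Defs
import Cfsg.Agent.Helper26.PSL2Syl
import Cfsg.Agent.Helper24.S5320INVOL
import Cfsg.Agent.Helper26.S5320QUATA

/-! # S5320 piece SYLQ: the Sylow `2`-subgroups of `SL₂(F)`, `F` finite of odd order (centre, generation, an element
of order four). -/

set_option autoImplicit false
set_option linter.unusedSectionVars false
set_option linter.unusedVariables false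

namespace Cfsg.Agent.S5320P

open Matrix

variable {F : Type*} [Field F]

namespace SYLQ

/-- `1 ≠ -1` in `SL₂(F)`, `2 ≠ 0` -/
theorem one_ne_neg_one (h2 : (2 : F) ≠ 0) : (1 : L F) ≠ -1 := by
  intro h
  have h00 := congrArg (fun m : L F => (m : Matrix (Fin 2) (Fin 2) F) 0 0) h
  simp only [Matrix.SpecialLinearGroup.coe_one, Matrix.SpecialLinearGroup.coe_neg,
    Matrix.one_apply_eq, Matrix.neg_apply] at h00
  apply h2
  linear_combination h00

theorem two_ne_zero_of_odd [Fintype F] (hodd : Fintype.card F % 2 = 1) : (2 : F) ≠ 0 :=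
  Cfsg.Agent.Helper26.PSL2Syl.two_ne_zero' hodd

/-- an element of order `4` of `SL₂(F)` squares to `-1` -/
theorem sq_eq_neg_one_of_orderOf (h2 : (2 : F) ≠ 0) (x : L F) (hx : orderOf x = 4) : x * x = -1 := by
  have h4 : x ^ 4 = 1 := by rw [← hx]; exact pow_orderOf_eq_one x
  have hsq : (x * x) * (x * x) = 1 := by
    rw [← h4, pow_succ, pow_succ, pow_succ, pow_one]
    simp only [mul_assoc]
  rcases INVOL.eq h2 (x * x) hsq with h1 | h1
  · exfalso
    have : orderOf x ∣ 2 := orderOf_dvd_of_pow_eq_one (by rw [pow_two]; exact h1)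
    rw [hx] at this
    omega
  · exact h1

/-- the data of a Sylow `2`-subgroup: an isomorphism with a quaternion group sending `-1` to the central involution -/
theorem exists_iso [Fintype F] (hodd : Fintype.card F % 2 = 1) (Q : Sylow 2 (L F)) :
    ∃ k : ℕ, 1 ≤ k ∧ ∃ e : (Q : Subgroup (L F)) ≃* QuaternionGroup (2 ^ k),
      ∀ x : (Q : Subgroup (L F)),
        e x = QuaternionGroup.a ((2 ^ k : ℕ) : ZMod (2 * 2 ^ k)) → (x : L F) = -1 := by
  have h2F : (2 : F) ≠ 0 := two_ne_zero_of_odd hodd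
  obtain ⟨k, hk1, ⟨e⟩⟩ := Cfsg.Agent.S0261.result (Nat.odd_iff.mpr hodd) Q
  have : NeZero (2 ^ k) := ⟨by positivity⟩
  refine ⟨k, hk1, e, ?_⟩
  have hneg := Cfsg.Agent.Helper26.PSL2Syl.neg_one_mem_sylow Q
  have hz : e ⟨-1, hneg⟩ = QuaternionGroup.a ((2 ^ k : ℕ) : ZMod (2 * 2 ^ k)) := by
    apply Cfsg.Agent.Helper26.PSL2Syl.quat_invol
    · intro h
      have h' : (⟨-1, hneg⟩ : (Q : Subgroup (L F))) = 1 := by
        rw [← e.map_eq_one_iff]; exact h
      have := congrArg Subtype.val h'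
      exact one_ne_neg_one h2F this.symm
    · rw [← map_mul]
      have : (⟨-1, hneg⟩ : (Q : Subgroup (L F))) * ⟨-1, hneg⟩ = 1 := by
        apply Subtype.ext
        show (-1 : L F) * (-1) = 1
        rw [neg_mul_neg, one_mul]
      rw [this, map_one]
  intro x hx
  have : x = ⟨-1, hneg⟩ := e.injective (by rw [hx, hz])
  rw [this]

end SYLQ

theorem SYLQ.center_eq [Fintype F] (hodd : Fintype.card F % 2 = 1) (Q : Sylow 2 (L F)) {x : L F}
    (hx : x ∈ (Q : Subgroup (L F))) (h : ∀ c ∈ (Q : Subgroup (L F)), x * c = c * x) :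
    x = 1 ∨ x = -1 := by
  obtain ⟨k, hk1, e, he⟩ := SYLQ.exists_iso hodd Q
  have : NeZero (2 ^ k) := ⟨by positivity⟩
  have hn : 2 ≤ 2 ^ k := by
    calc 2 = 2 ^ 1 := by norm_num
      _ ≤ 2 ^ k := Nat.pow_le_pow_right (by norm_num) hk1
  have hcen : ∀ y : QuaternionGroup (2 ^ k), e ⟨x, hx⟩ * y = y * e ⟨x, hx⟩ := by
    intro y
    obtain ⟨c, rfl⟩ := e.surjective y
    rw [← map_mul, ← map_mul]
    congr 1
    apply Subtype.ext
    exact h c.1 c.2
  rcases QUATA.center_eq hn (e ⟨x, hx⟩) hcen with h1 | h1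
  · left
    have : (⟨x, hx⟩ : (Q : Subgroup (L F))) = 1 := by
      rw [← e.map_eq_one_iff]; exact h1
    exact congrArg Subtype.val this
  · right
    exact he ⟨x, hx⟩ h1

theorem SYLQ.le_closure [Fintype F] (hodd : Fintype.card F % 2 = 1) (Q : Sylow 2 (L F)) :
    (Q : Subgroup (L F)) ≤ Subgroup.closure {g : L F | ∃ x ∈ (Q : Subgroup (L F)),
      ∃ y ∈ (Q : Subgroup (L F)), x * x = -1 ∧ y * y = -1 ∧ g = x * y} := by
  have h2F : (2 : F) ≠ 0 := SYLQ.two_ne_zero_of_odd hodd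
  obtain ⟨k, hk1, e, he⟩ := SYLQ.exists_iso hodd Q
  have : NeZero (2 ^ k) := ⟨by positivity⟩
  have hev : Even (2 ^ k) := by
    obtain ⟨j, rfl⟩ : ∃ j, k = j + 1 := ⟨k - 1, by omega⟩
    rw [pow_succ]
    exact even_two.mul_left _
  have htop := QUATA.closure_ord4 (n := 2 ^ k) hev
  intro g hg
  -- the homomorphism `QuaternionGroup → L F`
  let f : QuaternionGroup (2 ^ k) →* L F := (Q : Subgroup (L F)).subtype.comp e.symm.toMonoidHom
  have hfg : f (e ⟨g, hg⟩) = g := by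
    show ((e.symm (e ⟨g, hg⟩) : (Q : Subgroup (L F))) : L F) = g
    rw [e.symm_apply_apply]
  have hmem : e ⟨g, hg⟩ ∈ Subgroup.closure {g : QuaternionGroup (2 ^ k) |
      ∃ x y : QuaternionGroup (2 ^ k), orderOf x = 4 ∧ orderOf y = 4 ∧ g = x * y} := by
    rw [htop]; trivial
  have hmap := Subgroup.mem_map_of_mem f hmem
  rw [hfg, MonoidHom.map_closure] at hmap
  refine Subgroup.closure_mono ?_ hmap
  rintro _ ⟨z, ⟨x, y, hx4, hy4, rfl⟩, rfl⟩
  have hord : ∀ w : QuaternionGroup (2 ^ k), orderOf w = 4 → f w * f w = -1 := by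
    intro w hw
    apply SYLQ.sq_eq_neg_one_of_orderOf h2F
    show orderOf (((e.symm w : (Q : Subgroup (L F))) : L F)) = 4
    rw [Subgroup.orderOf_coe, MulEquiv.orderOf_eq, hw]
  refine ⟨f x, (e.symm x).2, f y, (e.symm y).2, hord x hx4, hord y hy4, map_mul f x y⟩

theorem SYLQ.exists_ord4 [Fintype F] (hodd : Fintype.card F % 2 = 1) (Q : Sylow 2 (L F)) :
    ∃ c ∈ (Q : Subgroup (L F)), c * c = -1 := by
  have h2F : (2 : F) ≠ 0 := SYLQ.two_ne_zero_of_odd hodd
  obtain ⟨k, hk1, e, he⟩ := SYLQ.exists_iso hodd Q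
  have : NeZero (2 ^ k) := ⟨by positivity⟩
  refine ⟨((e.symm (QuaternionGroup.xa 0) : (Q : Subgroup (L F))) : L F), (e.symm _).2, ?_⟩
  apply SYLQ.sq_eq_neg_one_of_orderOf h2F
  rw [Subgroup.orderOf_coe, MulEquiv.orderOf_eq, QuaternionGroup.orderOf_xa]

end Cfsg.Agent.S5320P
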