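import Mathlib
import Cfsg.Prelude.Def_GeometricClasses
import Cfsg.Prelude.Def_Classical
import Cfsg.Prelude.Def_LieClassical
import Cfsg.Agent.Helper27.S5989Defs
import Cfsg.Agent.Helper28.Spin6
import Cfsg.Agent.Helper8.S5992DISCBASIS
import Cfsg.Agent.Helper6.S5992PLUSDISC
import Cfsg.Agent.Helper16.S5989NEGFRAME

/-! S5989 piece NEGTYPE (helper22) -/

set_option autoImplicit false
open scoped MatrixGroups
universe u

namespace Cfsg.Agent.S5989P

open Cfsg.Agent.Helper2.SympInvol Cfsg.Agent.Helper2.SympUnits Cfsg.Agent.S5961P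
  Cfsg.Agent.S5992P Cfsg.Agent.Helper28.Spin

/-- NEGTYPE -/
theorem plus_iff_of_neg {F V : Type*} [Field F] [Fintype F] [AddCommGroup V] [Module F V]
    [FiniteDimensional F V] (h2 : (2 : F) ≠ 0) (Q : QuadraticForm F V) (hnd : Nondeg (PB Q) ⊤)
    (x : Module.End F V) (hxQ : ∀ v, Q (x v) = Q v) (hx2 : x * x = -1) (d : ℕ)
    (hd : Module.finrank F V = 2 * d) : Plus Q ⊤ ↔ IsSquare ((-1 : F) ^ d) := by
  classical
  obtain ⟨d', b, hbx, hbQ, hborth⟩ := exists_neg_frame h2 Q hnd x hxQ hx2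
  have hdd : d' = d := by
    have h1 := Module.finrank_eq_card_basis b
    rw [Fintype.card_sum, Fintype.card_fin, hd] at h1
    omega
  subst hdd
  -- a basis of `⊤` indexed by `Fin (d' + d')`
  set b' : Module.Basis (Fin (d' + d')) F (⊤ : Submodule F V) :=
    (b.map (Submodule.topEquiv (R := F) (M := V)).symm).reindex finSumFinEquiv with hb'
  have hb'i : ∀ i, ((b' i : (⊤ : Submodule F V)) : V) = b (finSumFinEquiv.symm i) := by
    intro i
    rw [hb', Module.Basis.reindex_apply, Module.Basis.map_apply]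
    rfl
  have hfr : Module.finrank F (⊤ : Submodule F V) = d' + d' := by
    rw [finrank_top, hd]; ring
  have hQinr : ∀ j, Q (b (Sum.inr j)) = Q (b (Sum.inl j)) := fun j => by rw [hbx, hxQ]
  set P : F := ∏ j : Fin d', (2 * Q (b (Sum.inl j))) with hP
  have hP0 : P ≠ 0 := by
    rw [hP]
    exact Finset.prod_ne_zero_iff.mpr (fun j _ => mul_ne_zero h2 (hbQ j))
  have hgram : gramDet Q (fun i => ((b' i : (⊤ : Submodule F V)) : V)) = P * P := by
    have hmat : (Matrix.of fun i j : Fin (d' + d') =>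
        QuadraticMap.polar Q ((b' i : (⊤ : Submodule F V)) : V)
          ((b' j : (⊤ : Submodule F V)) : V)) =
        (Matrix.diagonal (fun s : Fin d' ⊕ Fin d' => 2 * Q (b s))).submatrix
          finSumFinEquiv.symm finSumFinEquiv.symm := by
      ext i j
      rw [Matrix.of_apply, Matrix.submatrix_apply, hb'i, hb'i, Matrix.diagonal_apply]
      by_cases hij : finSumFinEquiv.symm i = finSumFinEquiv.symm j
      · rw [if_pos hij, hij, ← PB_apply, PB_self]
      · rw [if_neg hij, ← PB_apply]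
        exact hborth _ _ hij
    rw [gramDet, hmat, Matrix.det_submatrix_equiv_self, Matrix.det_diagonal,
      Fintype.prod_sum_type]
    simp only [hQinr]
    rfl
  obtain ⟨hdisc, -⟩ := discSq_iff Q (⊤ : Submodule F V) b'
  rw [plus_iff_discSq h2 Q ⊤ hnd (by rw [hfr]; exact ⟨d', rfl⟩), hdisc, hgram]
  have hdiv : (d' + d') / 2 = d' := by omega
  rw [hdiv]
  constructor
  · rintro ⟨s, hs⟩
    refine ⟨s * P⁻¹, ?_⟩
    have h5 : (-1 : F) ^ d' = ((-1) ^ d' * (P * P)) * (P⁻¹ * P⁻¹) := by field_simp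
    rw [h5, hs]
    ring
  · rintro ⟨t, ht⟩
    exact ⟨t * P, by rw [ht]; ring⟩

end Cfsg.Agent.S5989P
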