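import Mathlib
import Cfsg.Prelude.Def_GeometricClasses
import Cfsg.Prelude.Def_Classical
import Cfsg.Prelude.Def_LieClassical
import Cfsg.Agent.Helper27.S5989Defs
import Cfsg.Agent.Helper28.Spin6
import Cfsg.Agent.Helper22.S5989NEGTYPE
import Cfsg.Agent.Helper7.S5989STDTRANSE
import Cfsg.Agent.Helper7.S5989CONJMAT

/-! S5989 piece NEGEXIST (helper22) -/

set_option autoImplicit false
open scoped MatrixGroups
universe u

namespace Cfsg.Agent.S5989P

open Cfsg.Agent.Helper2.SympInvol Cfsg.Agent.Helper2.SympUnits Cfsg.Agent.S5961P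
  Cfsg.Agent.S5992P Cfsg.Agent.Helper28.Spin

namespace NEGEXIST

variable (F : Type*) [Field F] (d : ℕ)

/-- the sum of squares on `Fin d ⊕ Fin d → F` -/
noncomputable def sqQ : QuadraticForm F (Fin d ⊕ Fin d → F) :=
  QuadraticMap.weightedSumSquares F (fun _ : Fin d ⊕ Fin d => (1 : F))

theorem sqQ_apply (v : Fin d ⊕ Fin d → F) : sqQ F d v = ∑ s, v s * v s := by
  rw [sqQ, QuadraticMap.weightedSumSquares_apply]
  simp

theorem sqQ_polar (u v : Fin d ⊕ Fin d → F) :
    QuadraticMap.polar (sqQ F d) u v = 2 * ∑ s, u s * v s := by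
  rw [QuadraticMap.polar, sqQ_apply, sqQ_apply, sqQ_apply, Finset.mul_sum,
    ← Finset.sum_sub_distrib, ← Finset.sum_sub_distrib]
  apply Finset.sum_congr rfl
  intro s _
  simp only [Pi.add_apply]
  ring

theorem sqQ_nondeg (h2 : (2 : F) ≠ 0) : Nondeg (PB (sqQ F d)) ⊤ := by
  classical
  intro u _ hu0
  obtain ⟨s, hs⟩ : ∃ s, u s ≠ 0 := by
    by_contra hcon
    push Not at hcon
    exact hu0 (funext hcon)
  refine ⟨Pi.single s 1, trivial, ?_⟩
  rw [PB_apply, sqQ_polar]
  simp only [Pi.single_apply, mul_ite, mul_one, mul_zero, Finset.sum_ite_eq', Finset.mem_univ,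
    if_true]
  exact mul_ne_zero h2 hs

/-- the rotation `(u, w) ↦ (-w, u)` -/
def rotJ : Module.End F (Fin d ⊕ Fin d → F) where
  toFun v := Sum.elim (fun j => -v (Sum.inr j)) (fun j => v (Sum.inl j))
  map_add' u v := by
    funext s
    cases s with
    | inl j => simp [add_comm]
    | inr j => simp
  map_smul' c v := by
    funext s
    cases s with
    | inl j => simp
    | inr j => simp

theorem rotJ_inl (v : Fin d ⊕ Fin d → F) (j : Fin d) : rotJ F d v (Sum.inl j) = -v (Sum.inr j) :=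
  rfl

theorem rotJ_inr (v : Fin d ⊕ Fin d → F) (j : Fin d) : rotJ F d v (Sum.inr j) = v (Sum.inl j) :=
  rfl

theorem rotJ_isom (v : Fin d ⊕ Fin d → F) : sqQ F d (rotJ F d v) = sqQ F d v := by
  rw [sqQ_apply, sqQ_apply, Fintype.sum_sum_type, Fintype.sum_sum_type]
  simp only [rotJ_inl, rotJ_inr]
  rw [add_comm]
  congr 1
  apply Finset.sum_congr rfl
  intro j _
  ring

theorem rotJ_sq : rotJ F d * rotJ F d = -1 := by
  apply LinearMap.ext
  intro v
  funext s
  rw [Module.End.mul_apply, LinearMap.neg_apply, Module.End.one_apply, Pi.neg_apply]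
  cases s with
  | inl j => rw [rotJ_inl, rotJ_inr]
  | inr j => rw [rotJ_inr, rotJ_inl]

end NEGEXIST

open NEGEXIST in
/-- NEGEXIST -/
theorem exists_neg_isometry {F : Type*} [Field F] [Fintype F] (h2 : (2 : F) ≠ 0) {ι : Type}
    [Fintype ι] [DecidableEq ι] (Q : QuadraticForm F (ι → F))
    (hQ : (QuadraticMap.polarBilin Q).Nondegenerate) (d : ℕ) (hι : Fintype.card ι = 2 * d)
    (hty : Plus Q ⊤ ↔ IsSquare ((-1 : F) ^ d)) :
    ∃ x : GL ι F, x ∈ Cfsg.isometryGroup F ⇑Q ∧ x * x = -1 := by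
  classical
  have hfr : Module.finrank F (Fin d ⊕ Fin d → F) = 2 * d := by
    rw [Module.finrank_fintype_fun_eq_card, Fintype.card_sum, Fintype.card_fin]
    ring
  have hnd₁ := sqQ_nondeg F d h2
  have hty₁ := plus_iff_of_neg h2 (sqQ F d) hnd₁ (rotJ F d) (rotJ_isom F d) (rotJ_sq F d) d hfr
  obtain ⟨e, he⟩ := exists_std_of_space_even h2 (sqQ F d) hnd₁ Q hQ (by rw [hfr, hι])
    (by rw [hι]; exact even_two_mul d) (by rw [hty₁, hty])
  have hJinj : Function.Injective (rotJ F d) := by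
    intro a b hab
    have h1 : rotJ F d (rotJ F d a) = rotJ F d (rotJ F d b) := by rw [hab]
    rw [← Module.End.mul_apply, ← Module.End.mul_apply, rotJ_sq] at h1
    simpa using h1
  obtain ⟨x, hx, hxe, -, -⟩ := exists_matrix_of_conj (sqQ F d) (rotJ F d) (rotJ_isom F d) hJinj
    Q e he
  refine ⟨x, hx, ?_⟩
  apply Units.ext
  rw [Units.val_mul, Units.val_neg, Units.val_one]
  apply Matrix.toLin'.injective
  apply LinearMap.ext
  intro w
  obtain ⟨v, rfl⟩ := e.surjective w
  rw [Matrix.toLin'_mul, LinearMap.comp_apply, ← hxe, ← hxe, ← Module.End.mul_apply, rotJ_sq,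
    LinearMap.neg_apply, Module.End.one_apply, map_neg, Matrix.toLin'_apply, Matrix.neg_mulVec,
    Matrix.one_mulVec]

end Cfsg.Agent.S5989P
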