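import Mathlib
import Cfsg.Prelude.Def_GeometricClasses
import Cfsg.Prelude.Def_Classical
import Cfsg.Prelude.Def_LieClassical
import Cfsg.Agent.Helper27.S5989Defs
import Cfsg.Agent.Helper28.Spin6
import Cfsg.Agent.Helper28.NonMax
import Cfsg.Agent.Helper28.IsoTransport
import Cfsg.Agent.Helper16.S5989NEGSPIN
import Cfsg.Agent.Helper22.S5989NEGTYPE
import Cfsg.Agent.Helper22.S5989NEGEXIST

/-! S5989 piece NEGIFF (helper22) -/

set_option autoImplicit false
open scoped MatrixGroups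
universe u

namespace Cfsg.Agent.S5989P

open Cfsg.Agent.Helper2.SympInvol Cfsg.Agent.Helper2.SympUnits Cfsg.Agent.S5961P
  Cfsg.Agent.S5992P Cfsg.Agent.Helper28.Spin

/-- NEGIFF -/
theorem exists_neg_omega_iff {F : Type*} [Field F] [Fintype F] (h2 : (2 : F) ≠ 0) {ι : Type}
    [Fintype ι] [DecidableEq ι] (Q : QuadraticForm F (ι → F))
    (hQ : (QuadraticMap.polarBilin Q).Nondegenerate) (d : ℕ) (hι : Fintype.card ι = 2 * d)
    (ε : Bool) (hε : Plus Q ⊤ ↔ ε = true) :
    (∃ x : GL ι F, x ∈ Cfsg.Geo.omegaGL ⇑Q ∧ x * x = -1) ↔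
      ((IsSquare ((-1 : F) ^ d) ↔ ε = true) ∧ IsSquare ((2 : F) ^ d)) := by
  classical
  constructor
  · rintro ⟨x, hxΩ, hx2⟩
    have hxI : x ∈ Cfsg.isometryGroup F ⇑Q := by
      rw [Cfsg.Agent.Helper28.NM.mem_omegaGL_iff] at hxΩ
      obtain ⟨h, -, rfl⟩ := hxΩ
      exact h.2
    have hxQ : ∀ v, Q (Matrix.toLin' (x : Matrix ι ι F) v) = Q v := by
      intro v
      rw [Cfsg.Agent.Helper28.IsoTransport.mem_isometryGroup_iff] at hxI
      rw [Matrix.toLin'_apply]
      exact hxI v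
    have hx2' : Matrix.toLin' (x : Matrix ι ι F) * Matrix.toLin' (x : Matrix ι ι F) = -1 := by
      have hxx : (x : Matrix ι ι F) * (x : Matrix ι ι F) = -1 := by
        have h := congrArg Units.val hx2
        rw [Units.val_mul, Units.val_neg, Units.val_one] at h
        exact h
      apply LinearMap.ext
      intro v
      rw [Module.End.mul_apply, Matrix.toLin'_apply, Matrix.toLin'_apply, Matrix.mulVec_mulVec,
        hxx, Matrix.neg_mulVec, Matrix.one_mulVec, LinearMap.neg_apply, Module.End.one_apply]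
    have hfr : Module.finrank F (ι → F) = 2 * d := by
      rw [Module.finrank_fintype_fun_eq_card, hι]
    have hty := plus_iff_of_neg h2 Q (nondeg_top_of_nondegenerate Q hQ)
      (Matrix.toLin' (x : Matrix ι ι F)) hxQ hx2' d hfr
    refine ⟨by rw [← hty, hε], ?_⟩
    exact (neg_mem_omega_iff h2 Q hQ d hι x hxI hx2).mp hxΩ
  · rintro ⟨h1, h2'⟩
    obtain ⟨x, hxI, hx2⟩ := exists_neg_isometry h2 Q hQ d hι (by rw [hε, h1])
    exact ⟨x, (neg_mem_omega_iff h2 Q hQ d hι x hxI hx2).mpr h2', hx2⟩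

end Cfsg.Agent.S5989P
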