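import Mathlib

/-!
Abstract counting in block designs: the number `cnt B s` of blocks through a set of points, the one-step
double count relating `cnt B s` and `cnt B (insert p s)`, and the "Leech triangle" numbers
`meet B T S` (blocks meeting `T` exactly in `S`) with their Pascal-type recurrence.
-/

set_option autoImplicit false

namespace Cfsg.Agent.Helper22.Design

variable {α : Type*} [DecidableEq α]

/-- number of blocks containing `s` -/
def cnt (B : Finset (Finset α)) (s : Finset α) : ℕ := (B.filter (fun b => s ⊆ b)).card

/-- number of blocks meeting `T` exactly in `S` -/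
def meet (B : Finset (Finset α)) (T S : Finset α) : ℕ := (B.filter (fun b => b ∩ T = S)).card

theorem meet_self (B : Finset (Finset α)) (T : Finset α) : meet B T T = cnt B T := by
  unfold meet cnt
  congr 1
  apply Finset.filter_congr
  intro b _
  exact Finset.inter_eq_right

theorem meet_pascal (B : Finset (Finset α)) {T S : Finset α} {x : α} (hx : x ∉ T) (hS : S ⊆ T) :
    meet B T S = meet B (insert x T) S + meet B (insert x T) (insert x S) := by
  have hxS : x ∉ S := fun h => hx (hS h)
  unfold meet
  rw [← Finset.card_filter_add_card_filter_not (s := B.filter (fun b => b ∩ T = S)) (fun b => x ∈ b), add_comm]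
  rw [Finset.filter_filter, Finset.filter_filter]
  congr 1
  · congr 1
    apply Finset.filter_congr
    intro b _
    constructor
    · rintro ⟨h1, h2⟩
      rw [Finset.inter_insert_of_notMem h2, h1]
    · intro h
      have hxb : x ∉ b := fun hb => hxS (h ▸ Finset.mem_inter.mpr ⟨hb, Finset.mem_insert_self x T⟩)
      refine ⟨?_, hxb⟩
      rw [← h, Finset.inter_insert_of_notMem hxb]
  · congr 1
    apply Finset.filter_congr
    intro b _
    constructor
    · rintro ⟨h1, h2⟩
      rw [Finset.inter_insert_of_mem h2, h1]
    · intro h
      have hxb : x ∈ b := by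
        have : x ∈ b ∩ insert x T := h ▸ Finset.mem_insert_self x S
        exact (Finset.mem_inter.mp this).1
      refine ⟨?_, hxb⟩
      rw [Finset.inter_insert_of_mem hxb] at h
      have h1 : x ∉ b ∩ T := fun h' => hx (Finset.mem_inter.mp h').2
      have := congrArg (fun s => s.erase x) h
      simpa [Finset.erase_insert h1, Finset.erase_insert hxS] using this

/-- one-step double count -/
theorem cnt_step [Fintype α] (B : Finset (Finset α)) (k : ℕ) (hk : ∀ b ∈ B, b.card = k) (s : Finset α) :
    ∑ p ∈ sᶜ, cnt B (insert p s) = (k - s.card) * cnt B s := by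
  unfold cnt
  simp only [Finset.card_filter]
  rw [Finset.sum_comm, Finset.mul_sum]
  apply Finset.sum_congr rfl
  intro b hb
  by_cases hs : s ⊆ b
  · simp only [Finset.insert_subset_iff, hs, and_true, if_true, mul_one]
    rw [← Finset.card_filter]
    have : sᶜ.filter (fun p => p ∈ b) = b \ s := by
      ext p; simp [and_comm]
    rw [this, Finset.card_sdiff_of_subset hs, hk b hb]
  · simp [Finset.insert_subset_iff, hs]

theorem cnt_of_succ [Fintype α] (B : Finset (Finset α)) (k : ℕ) (hk : ∀ b ∈ B, b.card = k) (i L : ℕ)
    (h : ∀ s' : Finset α, s'.card = i + 1 → cnt B s' = L) (s : Finset α) (hs : s.card = i) :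
    (k - i) * cnt B s = (Fintype.card α - i) * L := by
  rw [← hs, ← cnt_step B k hk s]
  rw [Finset.sum_congr rfl (fun p hp => h (insert p s)
    (by rw [Finset.card_insert_of_notMem (Finset.mem_compl.mp hp), hs]))]
  rw [Finset.sum_const, Finset.card_compl, smul_eq_mul]

/-- the triangle determined by its diagonal `c`: `tri c d i j` is the entry in row `i`, column `j`, for `i = j + d` -/
def tri (c : ℕ → ℕ) : ℕ → ℕ → ℕ → ℕ
  | 0, i, _ => c i
  | d+1, i, j => tri c d (i-1) j - tri c d i (j+1)

/-- if the number of blocks containing a subset `T` of `U` depends only on `T.card`, so does the number of blocks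
meeting `T` exactly in a subset `S` -/
theorem meet_eq_tri (B : Finset (Finset α)) (U : Finset α) (c : ℕ → ℕ)
    (hc : ∀ T ⊆ U, cnt B T = c T.card) :
    ∀ (d : ℕ) (T S : Finset α), T ⊆ U → S ⊆ T → T.card = S.card + d → meet B T S = tri c d T.card S.card := by
  intro d
  induction d with
  | zero =>
    intro T S hT hS hcard
    have : S = T := Finset.eq_of_subset_of_card_le hS (by omega)
    subst this
    rw [meet_self, tri, hc S hT]
  | succ d ih =>
    intro T S hT hS hcard
    have hne : (T \ S).Nonempty := by
      rw [← Finset.card_pos, Finset.card_sdiff_of_subset hS]; omega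
    obtain ⟨x, hx⟩ := hne
    rw [Finset.mem_sdiff] at hx
    have hxT' : x ∉ T.erase x := Finset.notMem_erase x T
    have hST' : S ⊆ T.erase x := by
      intro y hy
      rw [Finset.mem_erase]
      exact ⟨fun h => hx.2 (h ▸ hy), hS hy⟩
    have hins : insert x (T.erase x) = T := Finset.insert_erase hx.1
    have hp := meet_pascal B hxT' hST'
    rw [hins] at hp
    have hcardT' : (T.erase x).card = T.card - 1 := Finset.card_erase_of_mem hx.1
    have h1 := ih (T.erase x) S ((Finset.erase_subset x T).trans hT) hST' (by rw [hcardT']; omega)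
    have hxS : insert x S ⊆ T := Finset.insert_subset hx.1 hS
    have hcardS : (insert x S).card = S.card + 1 := Finset.card_insert_of_notMem hx.2
    have h2 := ih T (insert x S) hT hxS (by rw [hcardS]; omega)
    rw [tri, ← hcardT', ← h1, ← hcardS, ← h2, hp]
    omega

/-! ### From sets of blocks to finsets of blocks -/

section sets

variable [Fintype α]

/-- the finset of blocks of a family of subsets of a finite type -/
noncomputable def toFin (B : Set (Finset α)) : Finset (Finset α) := (Set.toFinite B).toFinset

theorem mem_toFin (B : Set (Finset α)) (b : Finset α) : b ∈ toFin B ↔ b ∈ B := by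
  simp [toFin]

theorem ncard_eq_card_filter (B : Set (Finset α)) (P : Finset α → Prop) [DecidablePred P] :
    {c : Finset α | c ∈ B ∧ P c}.ncard = ((toFin B).filter P).card := by
  have : {c : Finset α | c ∈ B ∧ P c} = ((toFin B).filter P : Finset (Finset α)) := by
    ext c
    simp [mem_toFin]
  rw [this, Set.ncard_coe_finset]

theorem ncard_eq_card (B : Set (Finset α)) : B.ncard = (toFin B).card := by
  have : B = ((toFin B : Finset (Finset α)) : Set (Finset α)) := by
    ext c
    simp [mem_toFin]
  conv_lhs => rw [this]
  rw [Set.ncard_coe_finset]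

theorem cnt_eq_one_of_existsUnique (B : Set (Finset α)) (s : Finset α) (h : ∃! b, b ∈ B ∧ s ⊆ b) :
    cnt (toFin B) s = 1 := by
  obtain ⟨b, ⟨hb, hsb⟩, huniq⟩ := h
  unfold cnt
  rw [Finset.card_eq_one]
  refine ⟨b, ?_⟩
  ext c
  simp only [Finset.mem_filter, mem_toFin, Finset.mem_singleton]
  constructor
  · rintro ⟨hc, hsc⟩
    exact huniq c ⟨hc, hsc⟩
  · rintro rfl
    exact ⟨hb, hsb⟩

theorem cnt_empty (B : Finset (Finset α)) : cnt B ∅ = B.card := by
  unfold cnt
  congr 1
  apply Finset.filter_true_of_mem
  intro b _
  exact Finset.empty_subset b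

end sets

end Cfsg.Agent.Helper22.Design
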