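import Cfsg.Prelude.Def_Sporadic_a
import Cfsg.Agent.Helper22.Design

/-!
Block counts and block intersection numbers ("Leech triangles") of Steiner systems `S(5, 8, 24)` and `S(5, 6, 12)`,
for `Cfsg.IsSteinerSystem`.
-/

set_option autoImplicit false

namespace Cfsg.Agent.Helper22.Design

open Cfsg

variable {α : Type*} [Fintype α] [DecidableEq α]

theorem card_of_mem_toFin {t k : ℕ} {B : Set (Finset α)} (hB : IsSteinerSystem t k B) :
    ∀ b ∈ toFin B, b.card = k :=
  fun b hb => hB.1 b ((mem_toFin B b).mp hb)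

theorem cnt_eq_one {t k : ℕ} {B : Set (Finset α)} (hB : IsSteinerSystem t k B) (s : Finset α) (hs : s.card = t) :
    cnt (toFin B) s = 1 :=
  cnt_eq_one_of_existsUnique B s (hB.2 s hs)

/-- two blocks sharing at least `t` points are equal -/
theorem block_eq_of_inter {t k : ℕ} {B : Set (Finset α)} (hB : IsSteinerSystem t k B) {b c : Finset α}
    (hb : b ∈ B) (hc : c ∈ B) (h : t ≤ (b ∩ c).card) : b = c := by
  obtain ⟨s, hs, hcard⟩ := Finset.exists_subset_card_eq h
  obtain ⟨x, _, hx⟩ := hB.2 s hcard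
  rw [hx b ⟨hb, hs.trans Finset.inter_subset_left⟩, hx c ⟨hc, hs.trans Finset.inter_subset_right⟩]

/-- a subset of a block with at least `t` points lies in no other block -/
theorem cnt_sub_block {t k : ℕ} {B : Set (Finset α)} (hB : IsSteinerSystem t k B) {b : Finset α} (hb : b ∈ B)
    {T : Finset α} (hT : T ⊆ b) (h : t ≤ T.card) : cnt (toFin B) T = 1 := by
  unfold cnt
  rw [Finset.card_eq_one]
  refine ⟨b, ?_⟩
  ext c
  simp only [Finset.mem_filter, mem_toFin, Finset.mem_singleton]
  constructor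
  · rintro ⟨hc, hTc⟩
    apply block_eq_of_inter hB hc hb
    exact le_trans h (Finset.card_le_card (Finset.subset_inter hTc hT))
  · rintro rfl
    exact ⟨hb, hT⟩

/-! ### `S(5, 8, 24)` -/

section s5824

variable (hα : Fintype.card α = 24) {B : Set (Finset α)} (hB : IsSteinerSystem 5 8 B)
include hα hB

theorem lam4_5824 (s : Finset α) (hs : s.card = 4) : cnt (toFin B) s = 5 := by
  have := cnt_of_succ (toFin B) 8 (card_of_mem_toFin hB) 4 1 (fun s' hs' => cnt_eq_one hB s' hs') s hs
  rw [hα] at this; omega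

theorem lam3_5824 (s : Finset α) (hs : s.card = 3) : cnt (toFin B) s = 21 := by
  have := cnt_of_succ (toFin B) 8 (card_of_mem_toFin hB) 3 5 (fun s' hs' => lam4_5824 hα hB s' hs') s hs
  rw [hα] at this; omega

theorem lam2_5824 (s : Finset α) (hs : s.card = 2) : cnt (toFin B) s = 77 := by
  have := cnt_of_succ (toFin B) 8 (card_of_mem_toFin hB) 2 21 (fun s' hs' => lam3_5824 hα hB s' hs') s hs
  rw [hα] at this; omega

theorem lam1_5824 (s : Finset α) (hs : s.card = 1) : cnt (toFin B) s = 253 := by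
  have := cnt_of_succ (toFin B) 8 (card_of_mem_toFin hB) 1 77 (fun s' hs' => lam2_5824 hα hB s' hs') s hs
  rw [hα] at this; omega

theorem lam0_5824 (s : Finset α) (hs : s.card = 0) : cnt (toFin B) s = 759 := by
  have := cnt_of_succ (toFin B) 8 (card_of_mem_toFin hB) 0 253 (fun s' hs' => lam1_5824 hα hB s' hs') s hs
  rw [hα] at this; omega

theorem card_blocks_5824 : B.ncard = 759 := by
  rw [ncard_eq_card, ← cnt_empty]
  exact lam0_5824 hα hB ∅ rfl

/-- the diagonal of the Leech triangle -/
def c5824 : ℕ → ℕ := fun i => [759, 253, 77, 21, 5, 1, 1, 1, 1].getD i 0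

theorem cnt_sub_5824 {b : Finset α} (hb : b ∈ B) (T : Finset α) (hT : T ⊆ b) : cnt (toFin B) T = c5824 T.card := by
  have h8 : T.card ≤ 8 := (hB.1 b hb) ▸ Finset.card_le_card hT
  by_cases h5 : 5 ≤ T.card
  · rw [cnt_sub_block hB hb hT h5]
    interval_cases T.card <;> rfl
  · have h4 : T.card ≤ 4 := by omega
    interval_cases h : T.card
    · exact lam0_5824 hα hB T h
    · exact lam1_5824 hα hB T h
    · exact lam2_5824 hα hB T h
    · exact lam3_5824 hα hB T h
    · exact lam4_5824 hα hB T h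

theorem meet_5824 {b : Finset α} (hb : b ∈ B) (S : Finset α) (hS : S ⊆ b) :
    meet (toFin B) b S = tri c5824 (8 - S.card) 8 S.card := by
  have h8 : b.card = 8 := hB.1 b hb
  have hS8 : S.card ≤ 8 := h8 ▸ Finset.card_le_card hS
  have := meet_eq_tri (toFin B) b c5824 (fun T hT => cnt_sub_5824 hα hB hb T hT) (8 - S.card) b S
    (Finset.Subset.refl b) hS (by omega)
  rw [h8] at this
  exact this

/-- the bottom row of the Leech triangle of `S(5, 8, 24)` -/
theorem meet_5824_values {b : Finset α} (hb : b ∈ B) (S : Finset α) (hS : S ⊆ b) :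
    meet (toFin B) b S = [30, 0, 16, 0, 4, 0, 0, 0, 1].getD S.card 0 := by
  have h8 : b.card = 8 := hB.1 b hb
  have hS8 : S.card ≤ 8 := h8 ▸ Finset.card_le_card hS
  rw [meet_5824 hα hB hb S hS]
  interval_cases S.card <;> decide

end s5824

/-! ### `S(5, 6, 12)` -/

section s5612

variable (hα : Fintype.card α = 12) {B : Set (Finset α)} (hB : IsSteinerSystem 5 6 B)
include hα hB

theorem lam4_5612 (s : Finset α) (hs : s.card = 4) : cnt (toFin B) s = 4 := by
  have := cnt_of_succ (toFin B) 6 (card_of_mem_toFin hB) 4 1 (fun s' hs' => cnt_eq_one hB s' hs') s hs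
  rw [hα] at this; omega

theorem lam3_5612 (s : Finset α) (hs : s.card = 3) : cnt (toFin B) s = 12 := by
  have := cnt_of_succ (toFin B) 6 (card_of_mem_toFin hB) 3 4 (fun s' hs' => lam4_5612 hα hB s' hs') s hs
  rw [hα] at this; omega

theorem lam2_5612 (s : Finset α) (hs : s.card = 2) : cnt (toFin B) s = 30 := by
  have := cnt_of_succ (toFin B) 6 (card_of_mem_toFin hB) 2 12 (fun s' hs' => lam3_5612 hα hB s' hs') s hs
  rw [hα] at this; omega

theorem lam1_5612 (s : Finset α) (hs : s.card = 1) : cnt (toFin B) s = 66 := by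
  have := cnt_of_succ (toFin B) 6 (card_of_mem_toFin hB) 1 30 (fun s' hs' => lam2_5612 hα hB s' hs') s hs
  rw [hα] at this; omega

theorem lam0_5612 (s : Finset α) (hs : s.card = 0) : cnt (toFin B) s = 132 := by
  have := cnt_of_succ (toFin B) 6 (card_of_mem_toFin hB) 0 66 (fun s' hs' => lam1_5612 hα hB s' hs') s hs
  rw [hα] at this; omega

theorem card_blocks_5612 : B.ncard = 132 := by
  rw [ncard_eq_card, ← cnt_empty]
  exact lam0_5612 hα hB ∅ rfl

/-- the diagonal of the Leech triangle -/
def c5612 : ℕ → ℕ := fun i => [132, 66, 30, 12, 4, 1, 1].getD i 0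

theorem cnt_sub_5612 {b : Finset α} (hb : b ∈ B) (T : Finset α) (hT : T ⊆ b) : cnt (toFin B) T = c5612 T.card := by
  have h8 : T.card ≤ 6 := (hB.1 b hb) ▸ Finset.card_le_card hT
  by_cases h5 : 5 ≤ T.card
  · rw [cnt_sub_block hB hb hT h5]
    interval_cases T.card <;> rfl
  · have h4 : T.card ≤ 4 := by omega
    interval_cases h : T.card
    · exact lam0_5612 hα hB T h
    · exact lam1_5612 hα hB T h
    · exact lam2_5612 hα hB T h
    · exact lam3_5612 hα hB T h
    · exact lam4_5612 hα hB T h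

theorem meet_5612 {b : Finset α} (hb : b ∈ B) (S : Finset α) (hS : S ⊆ b) :
    meet (toFin B) b S = tri c5612 (6 - S.card) 6 S.card := by
  have h8 : b.card = 6 := hB.1 b hb
  have hS8 : S.card ≤ 6 := h8 ▸ Finset.card_le_card hS
  have := meet_eq_tri (toFin B) b c5612 (fun T hT => cnt_sub_5612 hα hB hb T hT) (6 - S.card) b S
    (Finset.Subset.refl b) hS (by omega)
  rw [h8] at this
  exact this

/-- the bottom row of the Leech triangle of `S(5, 6, 12)` -/
theorem meet_5612_values {b : Finset α} (hb : b ∈ B) (S : Finset α) (hS : S ⊆ b) :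
    meet (toFin B) b S = [1, 0, 3, 2, 3, 0, 1].getD S.card 0 := by
  have h8 : b.card = 6 := hB.1 b hb
  have hS8 : S.card ≤ 6 := h8 ▸ Finset.card_le_card hS
  rw [meet_5612 hα hB hb S hS]
  interval_cases S.card <;> decide

end s5612

/-- the set form of `meet` -/
theorem ncard_meet (B : Set (Finset α)) (b s : Finset α) :
    {c : Finset α | c ∈ B ∧ b ∩ c = s}.ncard = meet (toFin B) b s := by
  rw [ncard_eq_card_filter]
  unfold meet
  congr 1
  apply Finset.filter_congr
  intro c _
  rw [Finset.inter_comm]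

end Cfsg.Agent.Helper22.Design
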