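import Cfsg.Prelude.Def_SporadicCombinatorics
import Cfsg.Agent.Helper27.GolaySteiner
import Cfsg.Agent.Helper22.Steiner

/-!
Combinatorics of the octads of the length-24 code: complements, symmetric differences, octads through a tetrad,
sextets and trios.
-/

set_option autoImplicit false

namespace Cfsg.Agent.Helper22.GolayComb

open Cfsg Cfsg.Agent.Helper27 Cfsg.Agent.Helper22.Design

theorem card_golayPt : Fintype.card GolayPt = 24 := by decide

/-- the code as a family of supports -/
abbrev Supp : Set (Finset GolayPt) := supports (golayCode : Set (GolayPt → ZMod 2))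

theorem symmDiff_mem_supp {b c : Finset GolayPt} (hb : b ∈ Supp) (hc : c ∈ Supp) : symmDiff b c ∈ Supp := by
  obtain ⟨v, hv, rfl⟩ := hb
  obtain ⟨w, hw, rfl⟩ := hc
  exact ⟨v + w, golayCode.add_mem hv hw, support₂_add v w⟩

theorem univ_mem_supp : (Finset.univ : Finset GolayPt) ∈ Supp := by
  refine ⟨1, Submodule.subset_span (Or.inr rfl), ?_⟩
  ext p
  simp [support₂]

theorem compl_mem_supp {b : Finset GolayPt} (hb : b ∈ Supp) : bᶜ ∈ Supp := by
  have := symmDiff_mem_supp hb univ_mem_supp
  rw [← Finset.top_eq_univ, symmDiff_top] at this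
  exact this

theorem supp_card {b : Finset GolayPt} (hb : b ∈ Supp) :
    b.card = 0 ∨ b.card = 8 ∨ b.card = 12 ∨ b.card = 16 ∨ b.card = 24 := by
  obtain ⟨v, hv, rfl⟩ := hb
  rw [card_support_eq_hammingNorm]
  exact golay_weights hv

theorem octad_mem_supp {o : Finset GolayPt} (ho : o ∈ octads) : o ∈ Supp := ho.1

theorem mem_octads_iff (o : Finset GolayPt) : o ∈ octads ↔ o ∈ Supp ∧ o.card = 8 := Iff.rfl

theorem mem_dodecads_iff (o : Finset GolayPt) : o ∈ dodecads ↔ o ∈ Supp ∧ o.card = 12 := Iff.rfl

/-- the complement of the union of two disjoint octads is an octad -/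
theorem compl_union_mem_octads {o o' : Finset GolayPt} (ho : o ∈ octads) (ho' : o' ∈ octads) (hd : Disjoint o o') :
    (o ∪ o')ᶜ ∈ octads := by
  have h1 : symmDiff o o' = o ∪ o' := by
    rw [symmDiff_eq_sup_sdiff_inf]
    have : o ⊓ o' = ∅ := Finset.disjoint_iff_inter_eq_empty.mp hd
    rw [this]
    simp
  have h2 := symmDiff_mem_supp ho.1 ho'.1
  rw [h1] at h2
  refine ⟨compl_mem_supp h2, ?_⟩
  rw [Finset.card_compl, Finset.card_union_of_disjoint hd, ho.2, ho'.2, card_golayPt]

/-- two distinct octads through a tetrad meet exactly in the tetrad -/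
theorem inter_eq_of_tetrad {t b c : Finset GolayPt} (ht : t.card = 4) (hb : b ∈ octads) (hc : c ∈ octads)
    (htb : t ⊆ b) (htc : t ⊆ c) (hbc : b ≠ c) : b ∩ c = t := by
  symm
  apply Finset.eq_of_subset_of_card_le (Finset.subset_inter htb htc)
  by_contra h
  apply hbc
  apply octad_eq_of_inter hb hc
  omega

/-- the symmetric difference of two distinct octads through a tetrad is an octad -/
theorem symmDiff_mem_octads_of_tetrad {t b c : Finset GolayPt} (ht : t.card = 4) (hb : b ∈ octads) (hc : c ∈ octads)
    (htb : t ⊆ b) (htc : t ⊆ c) (hbc : b ≠ c) : symmDiff b c ∈ octads := by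
  refine ⟨symmDiff_mem_supp hb.1 hc.1, ?_⟩
  have h1 := card_symmDiff_add b c
  rw [inter_eq_of_tetrad ht hb hc htb htc hbc, ht, hb.2, hc.2] at h1
  omega

/-! ### Sextets -/

/-- the finset of octads -/
noncomputable abbrev Oct : Finset (Finset GolayPt) := toFin octads

theorem mem_Oct (o : Finset GolayPt) : o ∈ Oct ↔ o ∈ octads := mem_toFin _ _

/-- the octads through a set of points -/
noncomputable def octThrough (t : Finset GolayPt) : Finset (Finset GolayPt) := Oct.filter (fun b => t ⊆ b)

theorem mem_octThrough (t b : Finset GolayPt) : b ∈ octThrough t ↔ b ∈ octads ∧ t ⊆ b := by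
  simp [octThrough, mem_Oct]

theorem card_octThrough_tetrad {t : Finset GolayPt} (ht : t.card = 4) : (octThrough t).card = 5 :=
  lam4_5824 card_golayPt octads_steiner t ht

/-- the sextet determined by a tetrad -/
noncomputable def sextetOf (t : Finset GolayPt) : Finset (Finset GolayPt) :=
  insert t ((octThrough t).image (fun b => b \ t))

theorem sdiff_injOn (t : Finset GolayPt) :
    Set.InjOn (fun b : Finset GolayPt => b \ t) (octThrough t : Set (Finset GolayPt)) := by
  intro b hb c hc h
  have hb' := ((mem_octThrough t b).mp hb).2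
  have hc' := ((mem_octThrough t c).mp hc).2
  simp only at h
  rw [← Finset.sdiff_union_of_subset hb', ← Finset.sdiff_union_of_subset hc', h]

theorem card_sextetOf {t : Finset GolayPt} (ht : t.card = 4) : (sextetOf t).card = 6 := by
  unfold sextetOf
  rw [Finset.card_insert_of_notMem, Finset.card_image_of_injOn (sdiff_injOn t), card_octThrough_tetrad ht]
  intro h
  rw [Finset.mem_image] at h
  obtain ⟨b, _, hb⟩ := h
  have hne : t.Nonempty := by rw [← Finset.card_pos]; omega
  obtain ⟨x, hx⟩ := hne
  have : x ∈ b \ t := by rw [hb]; exact hx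
  exact (Finset.mem_sdiff.mp this).2 hx

theorem sextetOf_mem {t : Finset GolayPt} (ht : t.card = 4) : sextetOf t ∈ sextets := by
  have hsd : ∀ b ∈ octThrough t, (b \ t).card = 4 ∧ t ∪ (b \ t) = b := by
    intro b hb
    obtain ⟨hbo, htb⟩ := (mem_octThrough t b).mp hb
    refine ⟨by rw [Finset.card_sdiff_of_subset htb, hbo.2, ht], ?_⟩
    rw [Finset.union_comm]
    exact Finset.sdiff_union_of_subset htb
  refine ⟨card_sextetOf ht, ?_, ?_⟩
  · intro u hu
    rw [sextetOf, Finset.mem_insert, Finset.mem_image] at hu
    rcases hu with rfl | ⟨b, hb, rfl⟩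
    · exact ht
    · exact (hsd b hb).1
  · intro u hu v hv huv
    rw [sextetOf, Finset.mem_insert, Finset.mem_image] at hu hv
    rcases hu with rfl | ⟨b, hb, rfl⟩ <;> rcases hv with rfl | ⟨c, hc, rfl⟩
    · exact absurd rfl huv
    · rw [(hsd c hc).2]; exact ((mem_octThrough _ c).mp hc).1
    · rw [Finset.union_comm, (hsd b hb).2]; exact ((mem_octThrough _ b).mp hb).1
    · obtain ⟨hbo, htb⟩ := (mem_octThrough _ b).mp hb
      obtain ⟨hco, htc⟩ := (mem_octThrough _ c).mp hc
      have hbc : b ≠ c := fun h => huv (by rw [h])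
      have hi := inter_eq_of_tetrad ht hbo hco htb htc hbc
      have : b \ t ∪ c \ t = symmDiff b c := by
        rw [← hi]
        ext x
        simp only [Finset.mem_union, Finset.mem_sdiff, Finset.mem_inter, Finset.mem_symmDiff]
        tauto
      rw [this]
      exact symmDiff_mem_octads_of_tetrad ht hbo hco htb htc hbc

theorem mem_sextetOf_self (t : Finset GolayPt) : t ∈ sextetOf t := Finset.mem_insert_self _ _

theorem eq_sextetOf {t : Finset GolayPt} (ht : t.card = 4) {S : Finset (Finset GolayPt)} (hS : S ∈ sextets)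
    (htS : t ∈ S) : S = sextetOf t := by
  apply Finset.eq_of_subset_of_card_le
  · intro u hu
    by_cases hut : u = t
    · rw [hut]; exact mem_sextetOf_self t
    · have ho : t ∪ u ∈ octads := hS.2.2 t htS u hu (fun h => hut h.symm)
      have hu4 : u.card = 4 := hS.2.1 u hu
      have hd : Disjoint t u := by
        rw [← Finset.card_union_eq_card_add_card, ho.2, ht, hu4]
      rw [sextetOf, Finset.mem_insert, Finset.mem_image]
      right
      refine ⟨t ∪ u, (mem_octThrough _ _).mpr ⟨ho, Finset.subset_union_left⟩, ?_⟩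
      rw [Finset.union_sdiff_cancel_left hd]
  · rw [card_sextetOf ht, hS.1]

theorem existsUnique_sextet {t : Finset GolayPt} (ht : t.card = 4) :
    ∃! S : Finset (Finset GolayPt), S ∈ sextets ∧ t ∈ S :=
  ⟨sextetOf t, ⟨sextetOf_mem ht, mem_sextetOf_self t⟩, fun _ hS => eq_sextetOf ht hS.1 hS.2⟩

/-- the finset of sextets -/
noncomputable def sextetsFin : Finset (Finset (Finset GolayPt)) := (Set.toFinite sextets).toFinset

theorem mem_sextetsFin (S : Finset (Finset GolayPt)) : S ∈ sextetsFin ↔ S ∈ sextets := by
  simp [sextetsFin]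

theorem sextets_ncard : sextets.ncard = 1771 := by
  classical
  have h0 : sextets = ((sextetsFin : Finset (Finset (Finset GolayPt))) : Set (Finset (Finset GolayPt))) := by
    ext S; simp [mem_sextetsFin]
  rw [h0, Set.ncard_coe_finset]
  have key := Finset.sum_card_bipartiteAbove_eq_sum_card_bipartiteBelow
    (s := Finset.powersetCard 4 (Finset.univ : Finset GolayPt)) (t := sextetsFin)
    (fun (t : Finset GolayPt) (S : Finset (Finset GolayPt)) => t ∈ S)
  have hL : ∀ t ∈ Finset.powersetCard 4 (Finset.univ : Finset GolayPt),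
      (Finset.bipartiteAbove (fun (t : Finset GolayPt) (S : Finset (Finset GolayPt)) => t ∈ S) sextetsFin t).card
        = 1 := by
    intro t ht
    have ht4 : t.card = 4 := (Finset.mem_powersetCard.mp ht).2
    rw [Finset.card_eq_one]
    refine ⟨sextetOf t, ?_⟩
    ext S
    simp only [Finset.bipartiteAbove, Finset.mem_filter, mem_sextetsFin, Finset.mem_singleton]
    constructor
    · rintro ⟨hS, htS⟩; exact eq_sextetOf ht4 hS htS
    · rintro rfl; exact ⟨sextetOf_mem ht4, mem_sextetOf_self t⟩
  have hR : ∀ S ∈ sextetsFin,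
      (Finset.bipartiteBelow (fun (t : Finset GolayPt) (S : Finset (Finset GolayPt)) => t ∈ S)
        (Finset.powersetCard 4 (Finset.univ : Finset GolayPt)) S).card = 6 := by
    intro S hS
    have hS' := (mem_sextetsFin S).mp hS
    have : Finset.bipartiteBelow (fun (t : Finset GolayPt) (S : Finset (Finset GolayPt)) => t ∈ S)
        (Finset.powersetCard 4 (Finset.univ : Finset GolayPt)) S = S := by
      ext t
      simp only [Finset.bipartiteBelow, Finset.mem_filter, Finset.mem_powersetCard, Finset.subset_univ, true_and]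
      constructor
      · exact fun h => h.2
      · exact fun h => ⟨hS'.2.1 t h, h⟩
    rw [this, hS'.1]
  rw [Finset.sum_congr rfl hL, Finset.sum_congr rfl hR, Finset.sum_const, Finset.sum_const,
    Finset.card_powersetCard, Finset.card_univ, card_golayPt] at key
  simp only [smul_eq_mul, mul_one] at key
  have : Nat.choose 24 4 = 10626 := by decide
  omega

end Cfsg.Agent.Helper22.GolayComb
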