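import Mathlib
import Cfsg.Prelude.Def_FischerSpaces

set_option autoImplicit false

/-!
# S1615 (Fischer: `O(⟨D_x⟩)` not central ⟹ `G ≅ S₅`): common definitions

`Tw D d e f`: `e, f` are different non-commuting members of `D_d` (the members of `D` other than `d`
commuting with `d`) with the same commuting partners inside `D_d` ("twins in `D_d`").

`L0 D`: no two different members of any `D_d` commute (the commuting graph of `D` has no triangle).
-/

namespace Cfsg.Agent.S1615P

variable {G : Type*} [Group G]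

/-- `e, f` are twins in `D_d`. -/
def Tw (D : Set G) (d e f : G) : Prop :=
  e ∈ D ∧ f ∈ D ∧ e ≠ d ∧ f ≠ d ∧ Commute d e ∧ Commute d f ∧ ¬ Commute e f ∧
    ∀ g ∈ D, g ≠ d → Commute d g →
      ((g ≠ e → Commute g e → Commute g f) ∧ (g ≠ f → Commute g f → Commute g e))

/-- No two different members of any `D_d` commute. -/
def L0 (D : Set G) : Prop :=
  ∀ d ∈ D, ∀ e ∈ D, ∀ y ∈ D, e ≠ d → y ≠ d → Commute d e → Commute d y → Commute e y → e = y

theorem Tw.symm {D : Set G} {d e f : G} (h : Tw D d e f) : Tw D d f e := by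
  obtain ⟨he, hf, hed, hfd, hce, hcf, hnc, hall⟩ := h
  refine ⟨hf, he, hfd, hed, hcf, hce, fun hc => hnc hc.symm, ?_⟩
  intro g hg hgd hcg
  exact ⟨(hall g hg hgd hcg).2, (hall g hg hgd hcg).1⟩

/-- Twins are preserved by conjugation. -/
theorem Tw.conj {D : Set G} (hconj : ∀ g : G, ∀ x ∈ D, g * x * g⁻¹ ∈ D) {d e f : G}
    (h : Tw D d e f) (c : G) : Tw D (c * d * c⁻¹) (c * e * c⁻¹) (c * f * c⁻¹) := by
  obtain ⟨he, hf, hed, hfd, hce, hcf, hnc, hall⟩ := h
  have hinj : ∀ {u v : G}, c * u * c⁻¹ = c * v * c⁻¹ → u = v := by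
    intro u v huv
    exact mul_left_cancel (mul_right_cancel huv)
  refine ⟨hconj c e he, hconj c f hf, fun hh => hed (hinj hh), fun hh => hfd (hinj hh),
    (Commute.conj_iff c).mpr hce, (Commute.conj_iff c).mpr hcf,
    fun hc => hnc ((Commute.conj_iff c).mp hc), ?_⟩
  intro g hg hgd hcg
  -- pull `g` back
  have hg' : c⁻¹ * g * c ∈ D := by
    have := hconj c⁻¹ g hg
    rwa [inv_inv] at this
  have hgeq : g = c * (c⁻¹ * g * c) * c⁻¹ := by group
  have hgd' : c⁻¹ * g * c ≠ d := by
    intro hh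
    apply hgd
    rw [hgeq, hh]
  have hcg' : Commute d (c⁻¹ * g * c) := by
    rw [hgeq] at hcg
    exact (Commute.conj_iff c).mp hcg
  obtain ⟨h1, h2⟩ := hall _ hg' hgd' hcg'
  constructor
  · intro hne hc
    rw [hgeq] at hc ⊢
    apply (Commute.conj_iff c).mpr
    apply h1
    · intro hh
      apply hne
      rw [hgeq, hh]
    · exact (Commute.conj_iff c).mp hc
  · intro hne hc
    rw [hgeq] at hc ⊢
    apply (Commute.conj_iff c).mpr
    apply h2
    · intro hh
      apply hne
      rw [hgeq, hh]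
    · exact (Commute.conj_iff c).mp hc

/-- If `c` commutes with the twins, conjugating by `c` only moves the base point. -/
theorem Tw.conj_base {D : Set G} (hconj : ∀ g : G, ∀ x ∈ D, g * x * g⁻¹ ∈ D) {d e f : G}
    (h : Tw D d e f) {c : G} (hce : Commute c e) (hcf : Commute c f) : Tw D (c * d * c⁻¹) e f := by
  have := h.conj hconj c
  have e1 : c * e * c⁻¹ = e := by rw [hce.eq, mul_inv_cancel_right]
  have e2 : c * f * c⁻¹ = f := by rw [hcf.eq, mul_inv_cancel_right]
  rwa [e1, e2] at this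

end Cfsg.Agent.S1615P
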