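import Mathlib
import Cfsg.Agent.Helper17.S2482GDefs
import Cfsg.Agent.Helper19.S2482XSTARX
import Cfsg.Agent.Helper29.S2482NORMY

/-! # S2482 piece ISOREST (helper22): without eigenvalues `±1`, linearly isomorphic implies isometric -/

set_option autoImplicit false

namespace Cfsg.Agent.S2482P

open Polynomial Cfsg.Agent.Helper2.SympInvol Cfsg.Agent.S5955P Cfsg.Agent.S5961P Cfsg.Agent.S2676P
  Cfsg.Agent.S2478P Cfsg.Agent.S2481P

universe u

variable {F : Type u} [Field F]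

namespace ISOREST

theorem iso_of_linIso [Finite F] (h2 : (2 : F) ≠ 0) (S S' : SpSpace F) (hS : S.IsSp) (hS' : S'.IsSp)
    (hm : IsUnit (S.g - 1)) (hp : IsUnit (S.g + 1)) (h : S.LinIso S') : S.Iso S' := by
  obtain ⟨x, hx⟩ := h
  obtain ⟨s, hsu, hsx, hsym, hsg⟩ := XSTARX.exists_sym S S' hS hS' x hx
  obtain ⟨y, hyu, hyg, hyB⟩ := NORMY.exists_norm h2 S hS hm hp s hsu hsym hsg
  obtain ⟨w, hw⟩ := hyu
  -- `wi` the inverse of `y`
  have hwi1 : ∀ v, y ((↑w⁻¹ : Module.End F S.V) v) = v := by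
    intro v
    rw [← hw, ← Module.End.mul_apply, Units.mul_inv, Module.End.one_apply]
  have hwi2 : ∀ v, (↑w⁻¹ : Module.End F S.V) (y v) = v := by
    intro v
    rw [← hw, ← Module.End.mul_apply, Units.inv_mul, Module.End.one_apply]
  have hcomm : ∀ v, (↑w⁻¹ : Module.End F S.V) (S.g v) = S.g ((↑w⁻¹ : Module.End F S.V) v) := by
    intro v
    have h1 : y (S.g ((↑w⁻¹ : Module.End F S.V) v)) = S.g v := by
      rw [← Module.End.mul_apply, hyg, Module.End.mul_apply, hwi1]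
    rw [← h1, hwi2]
  let yi : S.V ≃ₗ[F] S.V := LinearEquiv.ofLinearMap (↑w⁻¹ : Module.End F S.V) y
    (LinearMap.ext hwi2) (LinearMap.ext hwi1)
  refine ⟨yi.trans x, fun u v => ?_, fun v => ?_⟩
  · show S'.B (x ((↑w⁻¹ : Module.End F S.V) u)) (x ((↑w⁻¹ : Module.End F S.V) v)) = S.B u v
    rw [hsx, ← hyB, hwi1, hwi1]
  · show x ((↑w⁻¹ : Module.End F S.V) (S.g v)) = S'.g (x ((↑w⁻¹ : Module.End F S.V) v))
    rw [hcomm, hx]

end ISOREST

end Cfsg.Agent.S2482P
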