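import Mathlib
import Cfsg.Agent.Helper7.S2862Defs
import Cfsg.Agent.Helper7.S2862B1
import Cfsg.Agent.Helper22.S2862CP4

/-! Board `s2862pieces`, row B7b (core, taking the conclusion of row B3 as a hypothesis). -/

set_option autoImplicit false
set_option linter.unusedVariables false

namespace Cfsg.Agent.S2862P

open Cfsg
open Cfsg.Agent.Helper14 (cj)
open Subgroup
open scoped commutatorElement

variable {G : Type*} [Group G] [Finite G] {p : ℕ} [Fact p.Prime]
variable {H Y D L L0 Vt Vb : Subgroup G}

theorem B7b_core (K : KHyp p H Y D L L0) (C : ChiefPair p H Vt Vb) {h : G}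
    (hB3 : fixP Vt Vb Y ⊓ commP Vt Vb (cjs h Y) = Vb) :
    commP Vt Vb Y ⊓ commP Vt Vb (cjs h Y) = Vb := by
  apply le_antisymm
  · exact (inf_le_inf_right _ (B1q K C)).trans hB3.le
  · exact le_inf (le_commP Y) (le_commP (cjs h Y))

end Cfsg.Agent.S2862P
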