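import Mathlib
import Cfsg.Agent.Helper7.S2862Defs
import Cfsg.Agent.Helper7.S2862B2
import Cfsg.Agent.Helper22.S2862B7Bcore

/-! Board `s2862pieces`, row B7b. -/

set_option autoImplicit false
set_option linter.unusedVariables false

namespace Cfsg.Agent.S2862P

open Cfsg
open Cfsg.Agent.Helper14 (cj)
open Subgroup
open scoped commutatorElement

variable {G : Type*} [Group G] [Finite G] {p : ℕ} [Fact p.Prime]
variable {H Y D L L0 Vt Vb : Subgroup G}

/-- B7b -/
theorem B7b (K : KHyp p H Y D L L0) (C : ChiefPair p H Vt Vb) (hnc : Noncentral H Vt Vb) {h : G} (hh : h ∈ L)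
    (hh0 : h ∉ L0) : commP Vt Vb Y ⊓ commP Vt Vb (cjs h Y) = Vb :=
  B7b_core K C (B3 K C hnc hh hh0)

end Cfsg.Agent.S2862P
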