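import Mathlib
import Cfsg.Prelude.Def_Classical
import Cfsg.Agent.Helper28.S3589Defs
import Cfsg.Agent.Helper13.S5973HCANCEL
import Cfsg.Agent.Helper13.S5973HYPISO

/-! S3589 piece TRANSP (driver helper28): any quadratic space with an isometry gives a block. -/

set_option autoImplicit false

namespace Cfsg.Agent.S3589P

open Module
open Cfsg.Agent.S5973P
open scoped Classical

noncomputable section

namespace TRANSP

variable {F : Type*} [Field F] {V V' : Type*} [AddCommGroup V] [Module F V]
  [AddCommGroup V'] [Module F V']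

theorem polar_comp_equiv (Q : QuadraticForm F V) (e : V' ≃ₗ[F] V) (x y : V') :
    QuadraticMap.polar (Q.comp e.toLinearMap) x y = QuadraticMap.polar Q (e x) (e y) := by
  simp [QuadraticMap.polar, QuadraticMap.comp_apply]

theorem nd_comp_equiv (Q : QuadraticForm F V) (e : V' ≃ₗ[F] V) (h : ND Q) :
    ND (Q.comp e.toLinearMap) := by
  apply HCANCEL.nd_of_left
  intro v hv
  have h1 : e v = 0 := by
    apply HCANCEL.left_of_nd Q h
    intro w
    have := hv (e.symm w)
    rw [polar_comp_equiv, LinearEquiv.apply_symm_apply] at this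
    exact this
  exact (LinearEquiv.map_eq_zero_iff e).1 h1

theorem conj_apply (e : V ≃ₗ[F] V') (y : Module.End F V) (w : V') :
    e.conjRingEquiv y w = e (y (e.symm w)) := by
  simp [LinearEquiv.conjRingEquiv]

theorem conj_pow_eq_one_iff (e : V ≃ₗ[F] V') (y : Module.End F V) (j : ℕ) :
    (e.conjRingEquiv y) ^ j = 1 ↔ y ^ j = 1 := by
  rw [← map_pow, map_eq_one_iff _ e.conjRingEquiv.injective]

end TRANSP

/-- TRANSP: any quadratic space with an isometry gives a block (choose a basis). -/
theorem hasBlock_of_space {F : Type*} [Field F] [Fintype F] {V : Type*} [AddCommGroup V] [Module F V]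
    [FiniteDimensional F V] (Q : QuadraticForm F V) (y : Module.End F V) (d : ℕ) (hyp : Bool) (o : ℕ)
    (hND : ND Q) (hdim : finrank F V = 2 * d) (hhyp : IsHyp Q ↔ hyp = true)
    (hiso : ∀ v, Q (y v) = Q v) (hord : ∀ j : ℕ, y ^ j = 1 ↔ o ∣ j) : HasBlock F d hyp o := by
  set e : V ≃ₗ[F] (Fin (2 * d) → F) := (Module.finBasisOfFinrankEq F V hdim).equivFun with he
  refine ⟨Q.comp e.symm.toLinearMap, e.conjRingEquiv y, TRANSP.nd_comp_equiv Q e.symm hND, ?_, ?_, ?_⟩
  · rw [← hhyp]
    refine (isHyp_of_isometry Q (Q.comp e.symm.toLinearMap) e fun v => ?_).symm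
    simp [QuadraticMap.comp_apply]
  · intro v
    rw [TRANSP.conj_apply]
    simp only [QuadraticMap.comp_apply, LinearEquiv.coe_coe, LinearEquiv.symm_apply_apply]
    exact hiso _
  · intro j
    rw [TRANSP.conj_pow_eq_one_iff]
    exact hord j

end

end Cfsg.Agent.S3589P
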