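import Mathlib

/-! Board `s3913pieces`, row AC2: a group acting coprimely on a cyclic `q`-group induces a cyclic group of automorphisms. -/

set_option autoImplicit false

namespace Cfsg.Agent.S3913P

/-- the unit group of `ZMod (q^k)` has no nontrivial subgroups of order prime to `q`, unless it is cyclic -/
theorem AC2_aux_range_cyclic {P : Type*} [Group P] [Finite P] (q : ℕ) [Fact q.Prime] (n : ℕ)
    (hn : ∃ k : ℕ, n = q ^ k) (hcop : (Nat.card P).Coprime q) (ψ : P →* (ZMod n)ˣ) : IsCyclic ↥ψ.range := by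
  obtain ⟨k, rfl⟩ := hn
  have hq : q.Prime := Fact.out
  by_cases hq2 : q = 2
  · -- the unit group is a `2`-group, the range has odd order
    subst hq2
    haveI : NeZero (2 ^ k) := ⟨pow_ne_zero _ two_ne_zero⟩
    have hcardU : Nat.card (ZMod (2 ^ k))ˣ ∣ 2 ^ k := by
      rw [Nat.card_eq_fintype_card, ZMod.card_units_eq_totient]
      rcases k with _ | k
      · simp
      · rw [Nat.totient_prime_pow Nat.prime_two (Nat.succ_pos k)]
        simp only [Nat.succ_sub_one]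
        exact ⟨2, by rw [pow_succ]; norm_num⟩
    have h1 : Nat.card ↥ψ.range ∣ 2 ^ k := (Subgroup.card_subgroup_dvd_card _).trans hcardU
    have h2 : Nat.card ↥ψ.range ∣ Nat.card P := Subgroup.card_range_dvd ψ
    have h3 : (Nat.card ↥ψ.range).Coprime (2 ^ k) :=
      Nat.Coprime.coprime_dvd_left h2 (Nat.Coprime.pow_right k hcop)
    have h4 : Nat.card ↥ψ.range = 1 := Nat.Coprime.eq_one_of_dvd h3 h1
    haveI : Subsingleton ↥ψ.range := (Nat.card_eq_one_iff_unique.mp h4).1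
    exact isCyclic_of_subsingleton
  · haveI : IsCyclic (ZMod (q ^ k))ˣ := ZMod.isCyclic_units_of_prime_pow q hq hq2 k
    exact Subgroup.isCyclic _

/-- AC2 (M): a group `P` acting coprimely on a cyclic `q`-group `C` induces a cyclic group of automorphisms. -/
theorem AC2 {K : Type*} [Group K] [Finite K] (P C : Subgroup K) (hPC : P ≤ Subgroup.normalizer (C : Set K))
    (hC : IsCyclic ↥C) (q : ℕ) [Fact q.Prime] (hCq : IsPGroup q ↥C)
    (hcop : (Nat.card ↥P).Coprime q) :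
    ∃ x ∈ P, ∀ y ∈ P, ∃ m : ℕ, y * x ^ m ∈ Subgroup.centralizer (C : Set K) := by
  classical
  obtain ⟨k, hk⟩ := hCq.exists_card_eq
  let φ : ↥P →* MulAut ↥C := C.normalizerMonoidHom.comp (Subgroup.inclusion hPC)
  let ψ : ↥P →* (ZMod (Nat.card ↥C))ˣ := (IsCyclic.mulAutMulEquiv ↥C).toMonoidHom.comp φ
  have hker : ∀ y : ↥P, ψ y = 1 → (y : K) ∈ Subgroup.centralizer (C : Set K) := by
    intro y hy
    have h1 : φ y = 1 := by
      have : (IsCyclic.mulAutMulEquiv ↥C) (φ y) = 1 := hy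
      exact (MulEquiv.map_eq_one_iff _).mp this
    have h2 : Subgroup.inclusion hPC y ∈ C.normalizerMonoidHom.ker := h1
    rw [Subgroup.normalizerMonoidHom_ker] at h2
    exact h2
  haveI : IsCyclic ↥ψ.range := AC2_aux_range_cyclic q (Nat.card ↥C) ⟨k, hk⟩ hcop ψ
  obtain ⟨g, hg⟩ := IsCyclic.exists_generator (α := ↥ψ.range)
  obtain ⟨x, hx⟩ := g.2
  refine ⟨x, x.2, ?_⟩
  intro y hy
  have h1 : (⟨ψ ⟨y, hy⟩, ⟨⟨y, hy⟩, rfl⟩⟩ : ↥ψ.range)⁻¹ ∈ Submonoid.powers g := by
    rw [mem_powers_iff_mem_zpowers]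
    exact hg _
  obtain ⟨m, hm⟩ := h1
  refine ⟨m, ?_⟩
  have h2 : ψ (⟨y, hy⟩ * x ^ m) = 1 := by
    rw [map_mul, map_pow, hx]
    have h3 := congrArg Subtype.val hm
    simp only [Subgroup.coe_pow, Subgroup.coe_inv] at h3
    rw [h3]
    exact mul_inv_cancel _
  exact hker _ h2

end Cfsg.Agent.S3913P
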