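import Mathlib
import Cfsg.Agent.Helper14.S2863Defs

/-!
# S2863 board (route B), row SL2UNI

A non-scalar element of `SL₂(F)` of trace `≠ 2` is a product of two nontrivial elements of trace `2`.
-/

set_option autoImplicit false
set_option linter.unusedVariables false
set_option linter.unusedSectionVars false

namespace Cfsg.Agent.S2863P

open Cfsg Subgroup
open Cfsg.Agent.Helper14 (cj)

section SL2
open Matrix
variable {F : Type*} [Field F]

local notation "S2" => Matrix.SpecialLinearGroup (Fin 2) F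
local notation "M2" => Matrix (Fin 2) (Fin 2) F

/-- the general principle: if `t` has trace `2`, `t ≠ 1`, `t t' = 1` and `t' h` has trace `2`, we are done -/
theorem SL2UNI_aux_of (h t t' : S2) (htr : (h : M2) 0 0 + (h : M2) 1 1 ≠ 2) (ht1 : t ≠ 1)
    (htt' : t * t' = 1) (htt : (t : M2) 0 0 + (t : M2) 1 1 = 2)
    (hst : ((t' : M2) * (h : M2)) 0 0 + ((t' : M2) * (h : M2)) 1 1 = 2) :
    ∃ t s : S2, t ≠ 1 ∧ s ≠ 1 ∧ h = t * s ∧ (t : M2) 0 0 + (t : M2) 1 1 = 2 ∧
      (s : M2) 0 0 + (s : M2) 1 1 = 2 := by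
  refine ⟨t, t' * h, ht1, ?_, by rw [← mul_assoc, htt', one_mul], htt, ?_⟩
  · intro h1
    have : h = t := by
      have := congrArg (fun z => t * z) h1
      simp only [← mul_assoc, htt', one_mul, mul_one] at this
      exact this
    rw [this] at htr
    exact htr htt
  · rw [Matrix.SpecialLinearGroup.coe_mul]; exact hst

theorem SL2_uni (h : S2) (htr : (h : M2) 0 0 + (h : M2) 1 1 ≠ 2)
    (hns : (h : M2) 1 0 ≠ 0 ∨ (h : M2) 0 1 ≠ 0 ∨ (h : M2) 0 0 ≠ (h : M2) 1 1) :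
    ∃ t s : S2, t ≠ 1 ∧ s ≠ 1 ∧ h = t * s ∧ (t : M2) 0 0 + (t : M2) 1 1 = 2 ∧
      (s : M2) 0 0 + (s : M2) 1 1 = 2 := by
  have htr' : (h : M2) 0 0 + (h : M2) 1 1 - 2 ≠ 0 := sub_ne_zero.2 htr
  by_cases h10 : (h : M2) 1 0 ≠ 0
  · -- `t = [[1, β], [0, 1]]`, `β = (tr h - 2) / h 1 0`
    obtain ⟨β, hβ⟩ : ∃ β : F, β * (h : M2) 1 0 = (h : M2) 0 0 + (h : M2) 1 1 - 2 :=
      ⟨_, div_mul_cancel₀ _ h10⟩
    have hβ0 : β ≠ 0 := by
      rintro rfl
      rw [zero_mul] at hβ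
      exact htr' hβ.symm
    have hd : (!![1, β; 0, 1] : M2).det = 1 := by simp [Matrix.det_fin_two]
    have hd' : (!![1, -β; 0, 1] : M2).det = 1 := by simp [Matrix.det_fin_two]
    apply SL2UNI_aux_of h ⟨!![1, β; 0, 1], hd⟩ ⟨!![1, -β; 0, 1], hd'⟩ htr
    · intro h1
      have := congrArg (fun z : S2 => (z : M2) 0 1) h1
      simp at this
      exact hβ0 this
    · apply Subtype.ext
      show (!![1, β; 0, 1] : M2) * !![1, -β; 0, 1] = 1
      ext i j
      fin_cases i <;> fin_cases j <;> simp [Matrix.mul_apply, Fin.sum_univ_two]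
    · show (!![1, β; 0, 1] : M2) 0 0 + (!![1, β; 0, 1] : M2) 1 1 = 2
      simp; norm_num
    · show ((!![1, -β; 0, 1] : M2) * (h : M2)) 0 0 + ((!![1, -β; 0, 1] : M2) * (h : M2)) 1 1 = 2
      simp [Matrix.mul_apply, Fin.sum_univ_two]
      linear_combination -hβ
  · push Not at h10
    by_cases h01 : (h : M2) 0 1 ≠ 0
    · -- `t = [[1, 0], [γ, 1]]`, `γ = (tr h - 2) / h 0 1`
      obtain ⟨γ, hγ⟩ : ∃ γ : F, γ * (h : M2) 0 1 = (h : M2) 0 0 + (h : M2) 1 1 - 2 :=
        ⟨_, div_mul_cancel₀ _ h01⟩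
      have hγ0 : γ ≠ 0 := by
        rintro rfl
        rw [zero_mul] at hγ
        exact htr' hγ.symm
      have hd : (!![1, 0; γ, 1] : M2).det = 1 := by simp [Matrix.det_fin_two]
      have hd' : (!![1, 0; -γ, 1] : M2).det = 1 := by simp [Matrix.det_fin_two]
      apply SL2UNI_aux_of h ⟨!![1, 0; γ, 1], hd⟩ ⟨!![1, 0; -γ, 1], hd'⟩ htr
      · intro h1
        have := congrArg (fun z : S2 => (z : M2) 1 0) h1
        simp at this
        exact hγ0 this
      · apply Subtype.ext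
        show (!![1, 0; γ, 1] : M2) * !![1, 0; -γ, 1] = 1
        ext i j
        fin_cases i <;> fin_cases j <;> simp [Matrix.mul_apply, Fin.sum_univ_two]
      · show (!![1, 0; γ, 1] : M2) 0 0 + (!![1, 0; γ, 1] : M2) 1 1 = 2
        simp; norm_num
      · show ((!![1, 0; -γ, 1] : M2) * (h : M2)) 0 0 + ((!![1, 0; -γ, 1] : M2) * (h : M2)) 1 1 = 2
        simp [Matrix.mul_apply, Fin.sum_univ_two]
        linear_combination -hγ
    · push Not at h01
      have hne : (h : M2) 0 0 ≠ (h : M2) 1 1 := by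
        rcases hns with h' | h' | h'
        · exact absurd h10 h'
        · exact absurd h01 h'
        · exact h'
      have hne' : (h : M2) 0 0 - (h : M2) 1 1 ≠ 0 := sub_ne_zero.2 hne
      -- `t = [[1 + α, 1], [-α², 1 - α]]`, `α = (tr h - 2) / (h 0 0 - h 1 1)`
      obtain ⟨α, hα⟩ : ∃ α : F, α * ((h : M2) 0 0 - (h : M2) 1 1) = (h : M2) 0 0 + (h : M2) 1 1 - 2 :=
        ⟨_, div_mul_cancel₀ _ hne'⟩
      have hd : (!![1 + α, 1; -α ^ 2, 1 - α] : M2).det = 1 := by
        simp [Matrix.det_fin_two]; ring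
      have hd' : (!![1 - α, -1; α ^ 2, 1 + α] : M2).det = 1 := by
        simp [Matrix.det_fin_two]; ring
      apply SL2UNI_aux_of h ⟨!![1 + α, 1; -α ^ 2, 1 - α], hd⟩ ⟨!![1 - α, -1; α ^ 2, 1 + α], hd'⟩ htr
      · intro h1
        have := congrArg (fun z : S2 => (z : M2) 0 1) h1
        simp at this
      · apply Subtype.ext
        show (!![1 + α, 1; -α ^ 2, 1 - α] : M2) * !![1 - α, -1; α ^ 2, 1 + α] = 1
        ext i j
        fin_cases i <;> fin_cases j <;> simp [Matrix.mul_apply, Fin.sum_univ_two] <;> ring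
      · show (!![1 + α, 1; -α ^ 2, 1 - α] : M2) 0 0 + (!![1 + α, 1; -α ^ 2, 1 - α] : M2) 1 1 = 2
        simp; ring
      · show ((!![1 - α, -1; α ^ 2, 1 + α] : M2) * (h : M2)) 0 0
          + ((!![1 - α, -1; α ^ 2, 1 + α] : M2) * (h : M2)) 1 1 = 2
        simp [Matrix.mul_apply, Fin.sum_univ_two, h10, h01]
        linear_combination -hα

end SL2

end Cfsg.Agent.S2863P
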