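import Mathlib

set_option autoImplicit false

/-! S4274, piece COMMSYMM: if `s ∣ |C(R)|` then `r ∣ |C(S)|` (Sylow subgroups of prime order). -/

namespace Cfsg.Agent.S4274P

open scoped Pointwise

/-- COMMSYMM: if a prime `s` divides `|C(R)|` then `r` divides `|C(S)|` (Sylows of prime order). -/
theorem dvd_centralizer_symm {H : Type*} [Group H] [Finite H] (r s : ℕ) [Fact r.Prime]
    [Fact s.Prime] (R : Sylow r H) (S : Sylow s H) (hR : Nat.card (R : Subgroup H) = r)
    (hS : Nat.card (S : Subgroup H) = s)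
    (h : s ∣ Nat.card (Subgroup.centralizer ((R : Subgroup H) : Set H))) :
    r ∣ Nat.card (Subgroup.centralizer ((S : Subgroup H) : Set H)) := by
  -- an element of order `s` centralizing `R`
  obtain ⟨⟨x, hxC⟩, hx⟩ := exists_prime_orderOf_dvd_card' (G := Subgroup.centralizer ((R : Subgroup H) : Set H)) s h
  have hxs : orderOf x = s := by
    rw [← hx]; exact (Subgroup.orderOf_mk x hxC).symm
  -- `⟨x⟩` is a Sylow `s`-subgroup
  have hp : IsPGroup s (Subgroup.zpowers x) := by
    apply IsPGroup.of_card (n := 1)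
    rw [Nat.card_zpowers, hxs, pow_one]
  obtain ⟨Q, hQ⟩ := hp.exists_le_sylow
  obtain ⟨g, hg⟩ := MulAction.exists_smul_eq H Q S
  have hQcard : Nat.card (Q : Subgroup H) = s := by
    have e := Nat.card_congr (Q.equivSMul g).toEquiv
    rw [hg] at e
    rw [e]; exact hS
  have hQeq : Subgroup.zpowers x = (Q : Subgroup H) :=
    Subgroup.eq_of_le_of_card_ge hQ (by rw [hQcard, Nat.card_zpowers, hxs])
  -- membership in `S`
  have hmemS : ∀ z, z ∈ (S : Subgroup H) → g⁻¹ * z * g ∈ Subgroup.zpowers x := by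
    intro z hz
    rw [hQeq]
    have hz' : z ∈ ((g • Q : Sylow s H) : Subgroup H) := by rw [hg]; exact hz
    rw [Sylow.coe_subgroup_smul, Subgroup.mem_pointwise_smul_iff_inv_smul_mem] at hz'
    have e : (MulAut.conj g)⁻¹ • z = g⁻¹ * z * g := by
      rw [MulAut.smul_def, ← map_inv, MulAut.conj_apply, inv_inv]
    rw [e] at hz'
    exact hz'
  -- the conjugate of `R` centralizes `S`
  have hle : (R : Subgroup H).map (MulAut.conj g).toMonoidHom ≤
      Subgroup.centralizer ((S : Subgroup H) : Set H) := by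
    rintro _ ⟨y, hy, rfl⟩
    rw [Subgroup.mem_centralizer_iff]
    intro z hz
    obtain ⟨k, hk⟩ := Subgroup.mem_zpowers_iff.mp (hmemS z hz)
    have hxy : x * y = y * x := by
      have := Subgroup.mem_centralizer_iff.mp hxC y hy
      exact this.symm
    have hcomm : Commute (x ^ k) y := (Commute.zpow_left hxy k)
    have hz' : z = g * x ^ k * g⁻¹ := by
      rw [hk]; group
    show z * (MulAut.conj g y) = (MulAut.conj g y) * z
    rw [MulAut.conj_apply, hz']
    have := hcomm.eq
    calc g * x ^ k * g⁻¹ * (g * y * g⁻¹) = g * (x ^ k * y) * g⁻¹ := by group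
      _ = g * (y * x ^ k) * g⁻¹ := by rw [this]
      _ = g * y * g⁻¹ * (g * x ^ k * g⁻¹) := by group
  have hcard : Nat.card ((R : Subgroup H).map (MulAut.conj g).toMonoidHom) = r := by
    rw [Subgroup.card_map_of_injective (MulAut.conj g).injective, hR]
  rw [← hcard]
  exact Subgroup.card_dvd_of_le hle

end Cfsg.Agent.S4274P
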