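import Mathlib

set_option autoImplicit false

/-! S4274, piece COUNT2: at least `n_r (r-1)(s-1)` elements of order `r s` when `s ∣ |C(R)|`. -/

namespace Cfsg.Agent.S4274P

open scoped Pointwise

namespace COUNT2

theorem card_ne_one {G : Type*} [Group G] [Finite G] : Nat.card {x : G // x ≠ 1} = Nat.card G - 1 := by
  classical
  haveI := Fintype.ofFinite G
  rw [Nat.card_eq_fintype_card, Nat.card_eq_fintype_card, Fintype.card_subtype_compl,
    Fintype.card_subtype_eq]

/-- a nontrivial element of a group of prime order `r` has order `r` -/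
theorem orderOf_of_card {G : Type*} [Group G] [Finite G] {r : ℕ} (hr : r.Prime) (hG : Nat.card G = r)
    {x : G} (hx : x ≠ 1) : orderOf x = r := by
  have hd : orderOf x ∣ r := hG ▸ orderOf_dvd_natCard x
  rcases (Nat.dvd_prime hr).mp hd with h | h
  · exact absurd (orderOf_eq_one_iff.mp h) hx
  · exact h

/-- a subgroup of prime order is generated by any of its nontrivial elements -/
theorem zpowers_eq {H : Type*} [Group H] [Finite H] {r : ℕ} (hr : r.Prime) (K : Subgroup H)
    (hK : Nat.card K = r) {z : H} (hz : z ∈ K) (hz1 : z ≠ 1) : Subgroup.zpowers z = K := by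
  apply Subgroup.eq_of_le_of_card_ge (Subgroup.zpowers_le.mpr hz)
  have h1 : orderOf (⟨z, hz⟩ : K) = r :=
    orderOf_of_card hr hK (fun h => hz1 (congrArg Subtype.val h))
  rw [Nat.card_zpowers, hK, ← h1, Subgroup.orderOf_mk]

end COUNT2

/-- COUNT2: at least `n_r (r-1)(s-1)` elements of order `r s` when `s ∣ |C(R)|`. -/
theorem card_orderOf_mul_ge {H : Type*} [Group H] [Finite H] (r s : ℕ) [Fact r.Prime]
    [Fact s.Prime] (hrs : r ≠ s) (R : Sylow r H) (hR : Nat.card (R : Subgroup H) = r)
    (h : s ∣ Nat.card (Subgroup.centralizer ((R : Subgroup H) : Set H))) :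
    Nat.card (Sylow r H) * (r - 1) * (s - 1) ≤ Nat.card {g : H // orderOf g = r * s} := by
  classical
  have hr : r.Prime := Fact.out
  have hs : s.Prime := Fact.out
  have hco : r.Coprime s := (Nat.coprime_primes hr hs).mpr hrs
  -- the data of every Sylow `r`-subgroup
  have key : ∀ R' : Sylow r H, Nat.card (R' : Subgroup H) = r ∧
      ∃ y : H, orderOf y = s ∧ ∀ x ∈ (R' : Subgroup H), Commute x y := by
    intro R'
    obtain ⟨g, hg⟩ := MulAction.exists_smul_eq H R R'
    have hc : Nat.card (R' : Subgroup H) = r := by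
      rw [← hg, ← Nat.card_congr (R.equivSMul g).toEquiv, hR]
    obtain ⟨⟨y, hyC⟩, hy⟩ :=
      exists_prime_orderOf_dvd_card' (G := Subgroup.centralizer ((R : Subgroup H) : Set H)) s h
    have hys : orderOf y = s := by
      rw [← hy]; exact (Subgroup.orderOf_mk y hyC).symm
    refine ⟨hc, g * y * g⁻¹, ?_, ?_⟩
    · have := orderOf_injective (MulAut.conj g).toMonoidHom (MulAut.conj g).injective y
      rw [← hys, ← this]
      rfl
    · intro x hx
      have hx' : x ∈ ((g • R : Sylow r H) : Subgroup H) := by rw [hg]; exact hx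
      rw [Sylow.coe_subgroup_smul, Subgroup.mem_pointwise_smul_iff_inv_smul_mem] at hx'
      have e : (MulAut.conj g)⁻¹ • x = g⁻¹ * x * g := by
        rw [MulAut.smul_def, ← map_inv, MulAut.conj_apply, inv_inv]
      rw [e] at hx'
      have hcm : (g⁻¹ * x * g) * y = y * (g⁻¹ * x * g) :=
        Subgroup.mem_centralizer_iff.mp hyC _ hx'
      show x * (g * y * g⁻¹) = g * y * g⁻¹ * x
      calc x * (g * y * g⁻¹) = g * ((g⁻¹ * x * g) * y) * g⁻¹ := by group
        _ = g * (y * (g⁻¹ * x * g)) * g⁻¹ := by rw [hcm]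
        _ = g * y * g⁻¹ * x := by group
  choose hcard yy hyy hcomm using key
  -- the map
  have hord : ∀ (R' : Sylow r H) (x : (R' : Subgroup H)) (hx : x ≠ 1) (j : Fin (s - 1)),
      orderOf ((x : H) * yy R' ^ (j.val + 1)) = r * s := by
    intro R' x hx j
    have h1 : orderOf (x : H) = r := by
      rw [Subgroup.orderOf_coe]; exact COUNT2.orderOf_of_card hr (hcard R') hx
    have hj : j.val + 1 < s := by have := j.2; omega
    have hcop : (orderOf (yy R')).Coprime (j.val + 1) := by
      rw [hyy, Nat.Prime.coprime_iff_not_dvd hs]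
      exact Nat.not_dvd_of_pos_of_lt (Nat.succ_pos _) hj
    have h2 : orderOf (yy R' ^ (j.val + 1)) = s := by
      rw [Nat.Coprime.orderOf_pow hcop, hyy]
    have hc : Commute (x : H) (yy R' ^ (j.val + 1)) := (hcomm R' x x.2).pow_right _
    rw [hc.orderOf_mul_eq_mul_orderOf_of_coprime (by rw [h1, h2]; exact hco), h1, h2]
  let f : (Σ R' : Sylow r H, {x : (R' : Subgroup H) // x ≠ 1} × Fin (s - 1)) →
      {g : H // orderOf g = r * s} :=
    fun a => ⟨(a.2.1.1 : H) * yy a.1 ^ (a.2.2.val + 1), hord a.1 a.2.1.1 a.2.1.2 a.2.2⟩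
  have hf : Function.Injective f := by
    rintro ⟨R1, ⟨x1, hx1⟩, j1⟩ ⟨R2, ⟨x2, hx2⟩, j2⟩ hab
    have hab' : (x1 : H) * yy R1 ^ (j1.val + 1) = (x2 : H) * yy R2 ^ (j2.val + 1) :=
      congrArg Subtype.val hab
    -- `s`-th powers
    have hpow : ∀ (R' : Sylow r H) (x : (R' : Subgroup H)) (j : Fin (s - 1)),
        ((x : H) * yy R' ^ (j.val + 1)) ^ s = (x : H) ^ s := by
      intro R' x j
      have hc : Commute (x : H) (yy R' ^ (j.val + 1)) := (hcomm R' x x.2).pow_right _
      have hys : yy R' ^ s = 1 := by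
        have := pow_orderOf_eq_one (yy R')
        rwa [hyy R'] at this
      rw [hc.mul_pow, ← pow_mul, mul_comm (j.val + 1) s, pow_mul, hys, one_pow, mul_one]
    have hz : (x1 : H) ^ s = (x2 : H) ^ s := by
      rw [← hpow R1 x1 j1, ← hpow R2 x2 j2, hab']
    have hz1 : (x1 : H) ^ s ≠ 1 := by
      intro h1
      have hd : orderOf (x1 : H) ∣ s := orderOf_dvd_of_pow_eq_one h1
      rw [Subgroup.orderOf_coe, COUNT2.orderOf_of_card hr (hcard R1) hx1] at hd
      exact hrs ((Nat.prime_dvd_prime_iff_eq hr hs).mp hd)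
    have hR12 : R1 = R2 := by
      apply Sylow.ext
      rw [← COUNT2.zpowers_eq hr (R1 : Subgroup H) (hcard R1) ((R1 : Subgroup H).pow_mem x1.2 s) hz1]
      rw [hz] at hz1 ⊢
      exact COUNT2.zpowers_eq hr (R2 : Subgroup H) (hcard R2) ((R2 : Subgroup H).pow_mem x2.2 s) hz1
    subst hR12
    -- now the same Sylow subgroup
    set y := yy R1 with hy
    have hw : (x2 : H)⁻¹ * (x1 : H) = y ^ (j2.val + 1) * (y ^ (j1.val + 1))⁻¹ := by
      rw [eq_mul_inv_iff_mul_eq, mul_assoc, hab', inv_mul_cancel_left]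
    have hwR : (x2 : H)⁻¹ * (x1 : H) ∈ (R1 : Subgroup H) :=
      (R1 : Subgroup H).mul_mem ((R1 : Subgroup H).inv_mem x2.2) x1.2
    have hwY : (x2 : H)⁻¹ * (x1 : H) ∈ Subgroup.zpowers y := by
      rw [hw]
      exact (Subgroup.zpowers y).mul_mem (Subgroup.pow_mem _ (Subgroup.mem_zpowers y) _)
        ((Subgroup.zpowers y).inv_mem (Subgroup.pow_mem _ (Subgroup.mem_zpowers y) _))
    have hw1 : (x2 : H)⁻¹ * (x1 : H) = 1 := by
      have d1 : orderOf ((x2 : H)⁻¹ * (x1 : H)) ∣ r := by
        have := orderOf_dvd_natCard (⟨_, hwR⟩ : (R1 : Subgroup H))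
        rw [hcard R1, Subgroup.orderOf_mk] at this
        exact this
      have d2 : orderOf ((x2 : H)⁻¹ * (x1 : H)) ∣ s := by
        have := orderOf_dvd_natCard (⟨_, hwY⟩ : Subgroup.zpowers y)
        rw [Nat.card_zpowers, hyy R1, Subgroup.orderOf_mk] at this
        exact this
      have : orderOf ((x2 : H)⁻¹ * (x1 : H)) ∣ 1 := by
        have := Nat.dvd_gcd d1 d2
        rwa [hco] at this
      exact orderOf_eq_one_iff.mp (Nat.dvd_one.mp this)
    have hx12 : (x1 : H) = (x2 : H) := by
      have := inv_mul_eq_one.mp hw1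
      exact this.symm
    have hyk : y ^ (j1.val + 1) = y ^ (j2.val + 1) := by
      rw [hx12] at hab'
      exact mul_left_cancel hab'
    have hj : j1.val + 1 = j2.val + 1 := by
      apply pow_injOn_Iio_orderOf (x := y)
      · rw [Set.mem_Iio, hyy R1]; have := j1.2; omega
      · rw [Set.mem_Iio, hyy R1]; have := j2.2; omega
      · exact hyk
    have hx12' : x1 = x2 := Subtype.ext hx12
    subst hx12'
    have hj' : j1 = j2 := Fin.ext (by omega)
    subst hj'
    rfl
  have hle := Nat.card_le_card_of_injective f hf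
  haveI : Fintype (Sylow r H) := Fintype.ofFinite _
  rw [Nat.card_sigma] at hle
  have hterm : ∀ R' : Sylow r H,
      Nat.card ({x : (R' : Subgroup H) // x ≠ 1} × Fin (s - 1)) = (r - 1) * (s - 1) := by
    intro R'
    rw [Nat.card_prod, COUNT2.card_ne_one, hcard R', Nat.card_fin]
  simp_rw [hterm] at hle
  rw [Finset.sum_const, Finset.card_univ, smul_eq_mul, ← Nat.card_eq_fintype_card, ← mul_assoc] at hle
  exact hle

end Cfsg.Agent.S4274P
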