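import Mathlib

set_option autoImplicit false

/-! S4274, piece COUNTSUM: elements of pairwise different orders. -/

namespace Cfsg.Agent.S4274P

/-- COUNTSUM: elements of pairwise different orders. -/
theorem sum_card_orderOf_le {H : Type*} [Group H] [Finite H] (K : Finset ℕ) :
    ∑ k ∈ K, Nat.card {g : H // orderOf g = k} ≤ Nat.card H := by
  classical
  haveI := Fintype.ofFinite H
  have h1 : ∀ k, Nat.card {g : H // orderOf g = k} =
      (Finset.univ.filter (fun g : H => orderOf g = k)).card := by
    intro k
    rw [Nat.card_eq_fintype_card, Fintype.card_subtype]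
  simp_rw [h1]
  rw [← Finset.card_biUnion]
  · rw [Nat.card_eq_fintype_card, ← Finset.card_univ]
    exact Finset.card_le_card (Finset.subset_univ _)
  · intro a _ b _ hab
    rw [Function.onFun, Finset.disjoint_filter]
    intro g _ h1 h2
    exact hab (h1.symm.trans h2)

end Cfsg.Agent.S4274P
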