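import Mathlib
import Cfsg.Agent.Helper28.S5658.Defs
import Cfsg.Agent.Helper28.S5658.Lib

set_option autoImplicit false

/-! # S5658 piece HYPB: rational hyperbolic partners and frames. -/

namespace Cfsg.Agent.S5658P

open Matrix
open Cfsg.Agent.S2644 Cfsg.Agent.Helper2.SUGen Cfsg.Agent.Helper28.SimMax Cfsg.Agent.S5639P

variable {K : Type*} [Field K] {q n : ℕ}

local notation "h" => Cfsg.hermForm n K q
local notation "T" => Cfsg.unitaryTransvection n q

namespace HYPB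

/-- a value of the form over the subfield vanishes iff it does over `K` -/
theorem herm_up_eq_zero (F₀ : Subfield K) (a b : Fin n → F₀) :
    h (up F₀ a) (up F₀ b) = 0 ↔ Cfsg.hermForm n F₀ q a b = 0 := by
  rw [herm_up]
  constructor
  · intro h0
    exact Subtype.ext h0
  · intro h0
    rw [h0]
    rfl

theorem herm_up_eq_one (F₀ : Subfield K) (a b : Fin n → F₀) :
    h (up F₀ a) (up F₀ b) = 1 ↔ Cfsg.hermForm n F₀ q a b = 1 := by
  rw [herm_up]
  constructor
  · intro h0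
    exact Subtype.ext h0
  · intro h0
    rw [h0]
    rfl

/-- a frame over the subfield gives a rational frame -/
theorem hframe_up (F₀ : Subfield K) {k : ℕ} (e₀ f₀ : Fin k → Fin n → F₀)
    (hee : ∀ i j, Cfsg.hermForm n F₀ q (e₀ i) (e₀ j) = 0)
    (hff : ∀ i j, Cfsg.hermForm n F₀ q (f₀ i) (f₀ j) = 0)
    (hef : ∀ i j, Cfsg.hermForm n F₀ q (e₀ i) (f₀ j) = if i = j then 1 else 0) :
    HFrame q F₀ (fun i => up F₀ (e₀ i)) (fun i => up F₀ (f₀ i)) where
  rat_e := fun i => rat_up (e₀ i)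
  rat_f := fun i => rat_up (f₀ i)
  ee := fun i j => (herm_up_eq_zero F₀ _ _).mpr (hee i j)
  ff := fun i j => (herm_up_eq_zero F₀ _ _).mpr (hff i j)
  ef := by
    intro i j
    show h (up F₀ (e₀ i)) (up F₀ (f₀ j)) = _
    rw [herm_up, hef i j]
    split_ifs <;> rfl

/-- the frame construction over a field with involution -/
theorem exists_frame_aux {L : Type*} [Field L] [Finite L] (hn : 13 ≤ n) (D : Frob L q)
    {u w : Fin n → L} (huu : Cfsg.hermForm n L q u u = 0) (hww : Cfsg.hermForm n L q w w = 0)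
    (hwu : Cfsg.hermForm n L q w u = 0) (hw0 : w ≠ 0) (hi : ∀ c : L, u ≠ c • w) :
    ∃ e f : Fin 3 → Fin n → L,
      (∀ i j, Cfsg.hermForm n L q (e i) (e j) = 0) ∧
      (∀ i j, Cfsg.hermForm n L q (f i) (f j) = 0) ∧
      (∀ i j, Cfsg.hermForm n L q (e i) (f j) = if i = j then 1 else 0) ∧ e 0 = u ∧ e 1 = w := by
  classical
  have huw : Cfsg.hermForm n L q u w = 0 := h_symm_zero D hwu
  -- a vector orthogonal to `w` and not to `u`
  obtain ⟨z, hzw, hzu⟩ : ∃ z : Fin n → L, Cfsg.hermForm n L q z w = 0 ∧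
      Cfsg.hermForm n L q z u ≠ 0 := by
    by_contra hcon
    push Not at hcon
    have hle : perpL q (Submodule.span L {w}) ≤ perpL q (Submodule.span L {u}) := by
      intro z hz
      rw [mem_perpL_singleton D] at hz ⊢
      exact hcon z hz
    have := perpL_anti (q := q) hle
    rw [perpL_perpL D, perpL_perpL D] at this
    have hu : u ∈ Submodule.span L {w} := this (Submodule.subset_span rfl)
    obtain ⟨c, hc⟩ := Submodule.mem_span_singleton.mp hu
    exact hi c hc.symm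
  -- normalise
  set x : Fin n → L := (Cfsg.hermForm n L q z u)⁻¹ • z with hx
  have hxu : Cfsg.hermForm n L q x u = 1 := by
    rw [hx, h_smul_left, inv_mul_cancel₀ hzu]
  have hxw : Cfsg.hermForm n L q x w = 0 := by
    rw [hx, h_smul_left, hzw, mul_zero]
  have hux : Cfsg.hermForm n L q u x = 1 := by
    rw [← h_conj D, hxu, map_one]
  clear_value x
  clear hx
  obtain ⟨t, ht⟩ := exists_trace D (-(Cfsg.hermForm n L q x x)) (by
    rw [map_neg, h_self_fix D])
  set f0 : Fin n → L := x + t • u with hf0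
  have hf0u : Cfsg.hermForm n L q f0 u = 1 := by
    rw [hf0, h_add_left, h_smul_left, huu, hxu, mul_zero, add_zero]
  have hf0w : Cfsg.hermForm n L q f0 w = 0 := by
    rw [hf0, h_add_left, h_smul_left, huw, hxw, mul_zero, add_zero]
  have hf0f0 : Cfsg.hermForm n L q f0 f0 = 0 := by
    rw [hf0, h_add_left, h_add_right D, h_add_right D, h_smul_left, h_smul_left, h_smul_right D,
      h_smul_right D, huu, hxu, hux]
    have : Cfsg.hermForm n L q x x = -(t + D.σ t) := by rw [ht]; ring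
    rw [this]
    ring
  have huf0 : Cfsg.hermForm n L q u f0 = 1 := by
    rw [← h_conj D, hf0u, map_one]
  have hwf0 : Cfsg.hermForm n L q w f0 = 0 := h_symm_zero D hf0w
  clear_value f0
  clear hf0
  -- the complement of the first pair
  have hnd0 : NonDeg q (perpL q (⊥ : Submodule L (Fin n → L))) := by
    rw [perpL_bot D]
    exact nonDeg_top D
  have hubot : u ∈ perpL q (⊥ : Submodule L (Fin n → L)) := by
    rw [perpL_bot D]; trivial
  have hfbot : f0 ∈ perpL q (⊥ : Submodule L (Fin n → L)) := by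
    rw [perpL_bot D]; trivial
  have hnd1 := nonDeg_cut D hnd0 hubot hfbot huu hf0f0 huf0 hf0u
  have hw1 : w ∈ perpL q ((⊥ : Submodule L (Fin n → L)) ⊔ Submodule.span L {u, f0}) := by
    rw [mem_perpL_sup_pair D]
    refine ⟨?_, hwu, hwf0⟩
    rw [perpL_bot D]; trivial
  obtain ⟨f1, hf1mem, hf1f1, hwf1, hf1w⟩ := exists_partner D hnd1 hw1 hw0 hww
  have hf1mem' := hf1mem
  rw [mem_perpL_sup_pair D] at hf1mem'
  obtain ⟨-, hf1u, hf1f0⟩ := hf1mem'
  have huf1 : Cfsg.hermForm n L q u f1 = 0 := h_symm_zero D hf1u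
  have hf0f1 : Cfsg.hermForm n L q f0 f1 = 0 := h_symm_zero D hf1f0
  -- the complement of the two pairs
  have hnd2 := nonDeg_cut D hnd1 hw1 hf1mem hww hf1f1 hwf1 hf1w
  obtain ⟨X2, hX2⟩ : ∃ X2 : Submodule L (Fin n → L), X2 =
    ((⊥ : Submodule L (Fin n → L)) ⊔ Submodule.span L {u, f0}) ⊔ Submodule.span L {w, f1} := ⟨_, rfl⟩
  rw [← hX2] at hnd2
  have hpair : ∀ a b : Fin n → L, Module.finrank L (Submodule.span L ({a, b} : Set (Fin n → L))) ≤ 2 := by
    intro a b
    have := finrank_span_finset_le_card (R := L) ({a, b} : Finset (Fin n → L))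
    rw [Finset.coe_insert, Finset.coe_singleton] at this
    exact this.trans Finset.card_le_two
  have hX2le : Module.finrank L X2 ≤ 4 := by
    have h1 := Submodule.finrank_add_le_finrank_add_finrank
      ((⊥ : Submodule L (Fin n → L)) ⊔ Submodule.span L {u, f0}) (Submodule.span L {w, f1})
    have h2 := Submodule.finrank_add_le_finrank_add_finrank
      (⊥ : Submodule L (Fin n → L)) (Submodule.span L {u, f0})
    have h3 := hpair u f0
    have h4 := hpair w f1
    have h5 : Module.finrank L (⊥ : Submodule L (Fin n → L)) = 0 := finrank_bot L (Fin n → L)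
    rw [hX2]
    omega
  have hdim : 2 ≤ Module.finrank L (perpL q X2) := by
    have := finrank_perpL D X2
    omega
  obtain ⟨e2, he2mem, f2, hf2mem, -, he2e2, hf2f2, he2f2, hf2e2⟩ := exists_hyp_pair D hnd2 hdim
  rw [hX2, mem_perpL_sup_pair D, mem_perpL_sup_pair D] at he2mem hf2mem
  obtain ⟨⟨-, he2u, he2f0⟩, he2w, he2f1⟩ := he2mem
  obtain ⟨⟨-, hf2u, hf2f0⟩, hf2w, hf2f1⟩ := hf2mem
  have hue2 := h_symm_zero D he2u
  have hf0e2 := h_symm_zero D he2f0
  have hwe2 := h_symm_zero D he2w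
  have hf1e2 := h_symm_zero D he2f1
  have huf2 := h_symm_zero D hf2u
  have hf0f2 := h_symm_zero D hf2f0
  have hwf2 := h_symm_zero D hf2w
  have hf1f2 := h_symm_zero D hf2f1
  refine ⟨![u, w, e2], ![f0, f1, f2], ?_, ?_, ?_, rfl, rfl⟩
  · intro i j
    fin_cases i <;> fin_cases j <;> simp [*]
  · intro i j
    fin_cases i <;> fin_cases j <;> simp [*]
  · intro i j
    fin_cases i <;> fin_cases j <;> simp [*]

end HYPB

theorem HYPB.exists_partner [Finite K] (D : Frob K q) (F₀ : Subfield K) (hθ : ∃ θ ∈ F₀, D.σ θ ≠ θ)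
    {b : Fin n → K} (hb : Rat F₀ b) (hb0 : b ≠ 0) (hbb : h b b = 0) :
    ∃ f : Fin n → K, Rat F₀ f ∧ h f f = 0 ∧ h f b = 1 ∧ h b f = 1 := by
  obtain ⟨b₀, rfl⟩ := exists_up hb
  have hb₀ : b₀ ≠ 0 := by
    rintro rfl
    exact hb0 up_zero
  have hbb₀ : Cfsg.hermForm n F₀ q b₀ b₀ = 0 := (HYPB.herm_up_eq_zero F₀ _ _).mp hbb
  obtain ⟨v, -, hvv, hbv, hvb⟩ := Cfsg.Agent.Helper2.SUGen.exists_partner (frob0 D F₀ hθ)
    (nonDeg_top (frob0 D F₀ hθ)) (Submodule.mem_top : b₀ ∈ (⊤ : Submodule F₀ (Fin n → F₀))) hb₀ hbb₀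
  exact ⟨up F₀ v, rat_up v, (HYPB.herm_up_eq_zero F₀ _ _).mpr hvv,
    (HYPB.herm_up_eq_one F₀ _ _).mpr hvb, (HYPB.herm_up_eq_one F₀ _ _).mpr hbv⟩

theorem HYPB.exists_frame_of_pair [Finite K] (hn : 13 ≤ n) (D : Frob K q) (F₀ : Subfield K)
    (hθ : ∃ θ ∈ F₀, D.σ θ ≠ θ) {u w : Fin n → K} (hu : Rat F₀ u) (hw : Rat F₀ w) (huu : h u u = 0)
    (hww : h w w = 0) (hwu : h w u = 0) (hi : LinearIndependent K ![u, w]) :
    ∃ e f : Fin 3 → Fin n → K, HFrame q F₀ e f ∧ e 0 = u ∧ e 1 = w := by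
  obtain ⟨u₀, rfl⟩ := exists_up hu
  obtain ⟨w₀, rfl⟩ := exists_up hw
  rw [LinearIndependent.pair_iff] at hi
  have hw0 : w₀ ≠ 0 := by
    rintro rfl
    have := (hi 0 1 (by rw [up_zero]; simp)).2
    exact one_ne_zero this
  have hind : ∀ c : F₀, u₀ ≠ c • w₀ := by
    intro c hc
    have := (hi 1 (-(c : K)) (by rw [hc, up_smul]; simp)).1
    exact one_ne_zero this
  obtain ⟨e₀, f₀, hee, hff, hef, he0, he1⟩ := HYPB.exists_frame_aux hn (frob0 D F₀ hθ)
    ((HYPB.herm_up_eq_zero F₀ _ _).mp huu) ((HYPB.herm_up_eq_zero F₀ _ _).mp hww)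
    ((HYPB.herm_up_eq_zero F₀ _ _).mp hwu) hw0 hind
  refine ⟨fun i => up F₀ (e₀ i), fun i => up F₀ (f₀ i), HYPB.hframe_up F₀ e₀ f₀ hee hff hef, ?_, ?_⟩
  · show up F₀ (e₀ 0) = _
    rw [he0]
  · show up F₀ (e₀ 1) = _
    rw [he1]

end Cfsg.Agent.S5658P
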