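import Mathlib
import Cfsg.Prelude.Def_GeometricClasses
import Cfsg.Agent.Helper18.S5707.Defs

/-! S5707 piece SYMZ (helper22). -/

set_option autoImplicit false

namespace Cfsg.Agent.S5707P

open Matrix

variable {F : Type*} [Field F] {k t : ℕ}

/-- piece SYMZ (S-M): `Finset.sum_involution` with `Prod.swap`. -/
theorem SYMZ.sum_eq_zero [CharP F 2] {ι : Type*} [Fintype ι] [DecidableEq ι] (S : Matrix ι ι F)
    (hs : S.IsSymm) (h0 : ∀ a, S a a = 0) (v : ι → F) : ∑ a, ∑ b, v a * S a b * v b = 0 := by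
  rw [← Finset.sum_product']
  refine Finset.sum_involution (fun p _ => Prod.swap p) ?_ ?_ ?_ ?_
  · rintro ⟨a, b⟩ _
    simp only [Prod.swap_prod_mk]
    rw [hs.apply a b]
    have : v b * S a b * v a = v a * S a b * v b := by ring
    rw [this]
    exact CharTwo.add_self_eq_zero _
  · rintro ⟨a, b⟩ _ hne heq
    simp only [Prod.swap_prod_mk, Prod.mk.injEq] at heq
    apply hne
    rw [← heq.1, h0]
    simp
  · rintro ⟨a, b⟩ _
    exact Finset.mem_univ _
  · rintro ⟨a, b⟩ _
    rfl

end Cfsg.Agent.S5707P
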