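import Mathlib
import Cfsg.Prelude.Def_GeometricClasses
import Cfsg.Agent.Helper18.S5707.Defs

/-! S5707 piece INVNORM (helper22). -/

set_option autoImplicit false

namespace Cfsg.Agent.S5707P

open Matrix

variable {F : Type*} [Field F] {k t : ℕ}

namespace INVNORM

/-- conjugation by `1 + N` expands as `M + (N M + M N + N M N)` -/
theorem conj_expand (N M : Matrix (X k t) (X k t) F) :
    (1 + N) * M * (1 + N) = M + (N * M + M * N + N * M * N) := by
  simp only [Matrix.add_mul, Matrix.one_mul, Matrix.mul_add, Matrix.mul_one]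
  abel

/-- conjugation by `1 + N` maps `calV L` into itself -/
theorem conj_mem (L : Submodule F (Matrix (Fin k) (Fin k) F))
    (N : Matrix (X k t) (X k t) F)
    (h : ∀ (i : Fin t) (A : Matrix (Fin k) (Fin k) F), A ∈ L →
      N * loc i A + loc i A * N + N * loc i A * N ∈ calV (t := t) L)
    (M : Matrix (X k t) (X k t) F) (hM : M ∈ calV (t := t) L) :
    (1 + N) * M * (1 + N) ∈ calV (t := t) L := by
  unfold calV at hM
  induction hM using Submodule.span_induction with
  | mem x hx =>
    obtain ⟨i, A, hA, rfl⟩ := hx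
    rw [conj_expand]
    refine Submodule.add_mem _ ?_ (h i A hA)
    exact Submodule.subset_span ⟨i, A, hA, rfl⟩
  | zero =>
    rw [Matrix.mul_zero, Matrix.zero_mul]
    exact Submodule.zero_mem _
  | add x y _ _ hx hy =>
    have e : (1 + N) * (x + y) * (1 + N) = (1 + N) * x * (1 + N) + (1 + N) * y * (1 + N) := by
      rw [Matrix.mul_add (1 + N) x y, Matrix.add_mul]
    rw [e]
    exact Submodule.add_mem _ hx hy
  | smul a x _ hx =>
    have e : (1 + N) * (a • x) * (1 + N) = a • ((1 + N) * x * (1 + N)) := by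
      rw [Matrix.mul_smul, Matrix.smul_mul]
    rw [e]
    exact Submodule.smul_mem _ a hx

/-- in characteristic 2 with `N * N = 0`, `(1 + N) * (1 + N) = 1` -/
theorem one_add_sq [CharP F 2] (N : Matrix (X k t) (X k t) F) (hN : N * N = 0) :
    (1 + N) * (1 + N) = 1 := by
  have h2 : N + N = 0 := Matrix.ext fun i j => CharTwo.add_self_eq_zero (N i j)
  rw [Matrix.add_mul, Matrix.mul_add, Matrix.mul_add, hN]
  simp only [Matrix.one_mul, Matrix.mul_one, add_zero]
  rw [add_assoc, h2, add_zero]

end INVNORM

/-- piece INVNORM (S-M): criterion for a square-zero involution to normalise `calV L`. -/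
theorem INVNORM.invo_mem_normV [CharP F 2] (L : Submodule F (Matrix (Fin k) (Fin k) F))
    (N : Matrix (X k t) (X k t) F) (hN : N * N = 0)
    (h : ∀ (i : Fin t) (A : Matrix (Fin k) (Fin k) F), A ∈ L →
      N * loc i A + loc i A * N + N * loc i A * N ∈ calV (t := t) L) :
    invo N hN ∈ normV (t := t) L := by
  intro M
  show (1 + N) * M * (1 + N) ∈ calV (t := t) L ↔ M ∈ calV (t := t) L
  constructor
  · intro hM
    have h1 := INVNORM.conj_mem L N h _ hM
    have h2 : (1 + N) * ((1 + N) * M * (1 + N)) * (1 + N) = M := by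
      rw [Matrix.mul_assoc (1 + N) M, ← Matrix.mul_assoc (1 + N) (1 + N), INVNORM.one_add_sq N hN,
        Matrix.one_mul, Matrix.mul_assoc, INVNORM.one_add_sq N hN, Matrix.mul_one]
    rw [h2] at h1
    exact h1
  · intro hM
    exact INVNORM.conj_mem L N h _ hM

end Cfsg.Agent.S5707P
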