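import Mathlib
import Cfsg.Prelude.Def_Classical
import Cfsg.Agent.Helper23.S5953Defs
import Cfsg.Agent.Helper18.S5961ARITH
import Cfsg.Agent.Helper26.S5955IRRDIV
import Cfsg.Agent.Helper26.S5955UNIQ
import Cfsg.Agent.Helper7.S5955AUG1
import Cfsg.Agent.Helper7.S5955AUGREC
import Cfsg.Agent.Helper7.S5953AUG1U
import Cfsg.Agent.Helper7.S5953IRRNDU
import Cfsg.Agent.Helper18.S5953DUALPAIRU
import Cfsg.Agent.Helper25.S5953EVENAGU

/-!
# S5953 piece AUGND (helper22)
-/

set_option autoImplicit false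
open scoped MatrixGroups Matrix

universe u

namespace Cfsg.Agent.S5953P

open Polynomial Cfsg.Agent.S5955P Cfsg.Agent.Helper28.HW Cfsg.Agent.Helper28.HermFrame

namespace AUGND

theorem injective_of_pow' {F V : Type*} [Field F] [AddCommGroup V] [Module F V]
    (y : Module.End F V) (r : ℕ) (hr : 0 < r) (hy : y ^ r = 1) : Function.Injective y := by
  intro a b hab
  obtain ⟨r0, hr0⟩ : ∃ r0, r = r0 + 1 := ⟨r - 1, by omega⟩
  have h4 : (y ^ r) a = (y ^ r) b := by
    rw [hr0, pow_succ, Module.End.mul_apply, Module.End.mul_apply, hab]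
  rwa [hy, Module.End.one_apply, Module.End.one_apply] at h4

end AUGND

/-- AUGND: for `i ≡ 2 (mod 4)` the irreducible invariant subspaces of `Aug` are nondegenerate -/
theorem aug_irr_nondeg_u {F : Type*} [Field F] [Fintype F] {p : ℕ} [Fact p.Prime] [CharP F p]
    {q : ℕ} (hF : Fintype.card F = q ^ 2) (σ : F →+* F) (hσ : ∀ a, σ a = a ^ q) (r : ℕ)
    [Fact r.Prime] (hr2 : r ≠ 2) (hrp : r ≠ p) (hsd : orderOf (q : ZMod r) % 4 = 2)
    (U : Submodule F (Aug F r)) (hU : U.map (augS F r) ≤ U)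
    (hUdim : Module.finrank F U = orderOf ((Fintype.card F : ℕ) : ZMod r)) :
    NondegU (augU σ r) U := by
  classical
  have hr : r.Prime := Fact.out
  have h := aug_isYU (p := p) hF σ hσ r hrp
  obtain ⟨-, hker, -⟩ := aug_isYSp (F := F) (p := p) r hr2 hrp
  have hy := h.pow
  have hinj : Function.Injective (augS F r) := AUGND.injective_of_pow' _ r hr.pos hy
  obtain ⟨hb0, -, -, -, -, -, -, -⟩ := Cfsg.Agent.S5961P.cc_arith (F := F) (p := p) r hr2 hrp
  have hfix : U ⊓ LinearMap.ker (augS F r - 1) = ⊥ := by rw [hker, inf_bot_eq]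
  have hirr := irr_of_finrank (p := p) r hrp (augS F r) hy U hU hfix hUdim
  rcases irr_dichotomy_u (augU σ r) h.herm (augS F r) h.isom hinj U hU hirr with hti | hnd
  · exfalso
    obtain ⟨U', -, hU', hU'fr, hpair, hX⟩ := exists_dual_pair_u (p := p) r hrp (augU σ r)
      (augS F r) h ⊤ U le_top h.nondeg le_top hU
    obtain ⟨hdisj, -⟩ := hX hti
    have hU0 : U ≠ ⊥ := by
      intro h0
      rw [h0, finrank_bot] at hUdim
      omega
    obtain ⟨-, -, h3, -⟩ := monic_unique_of_irr (augS F r) U hU hirr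
    obtain ⟨g, hg, hgd, hgk⟩ := h3 hU0
    have hgk' := poly_kills_dual_u (p := p) r hr2 hrp (augU σ r) (augS F r) h hsd U U' hU hU'
      hpair g hgk
    have hle : U ⊔ U' ≤ LinearMap.ker (aeval (augS F r) g) :=
      sup_le (fun u hu => LinearMap.mem_ker.mpr (hgk u hu))
        (fun u hu => LinearMap.mem_ker.mpr (hgk' u hu))
    have h1 := Submodule.finrank_mono hle
    have h2 := aug_rec (F := F) r g hg
    have h5 := Submodule.finrank_sup_add_finrank_inf_eq U U'
    rw [hdisj.eq_bot, finrank_bot, add_zero, hU'fr] at h5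
    omega
  · exact hnd

end Cfsg.Agent.S5953P
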