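import Mathlib
import Cfsg.Agent.Helper24.Burnside

/-!
# A simplicity criterion for primitive groups with a simple point stabiliser

* `isPreprimitive_of_labels`: primitivity from the sizes of the orbits of a point stabiliser.
* `simple_of_primitive`: a finite group acting faithfully and primitively on a set whose cardinality is a product of
  powers of two distinct primes, with a simple point stabiliser, is simple.
-/

set_option autoImplicit false

namespace Cfsg.Agent.Helper22.PrimSimple

open MulAction
open scoped Pointwise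

variable {G X : Type*} [Group G] [MulAction G X]

/-- primitivity from the orbit sizes of the point stabiliser: `f` labels the orbits -/
theorem isPreprimitive_of_labels [Finite X] [IsPretransitive G X] (x₀ : X) {k : ℕ} (f : X → Fin k) (c : Fin k → ℕ)
    (hf : ∀ y y', f y = f y' → ∃ h ∈ stabilizer G x₀, h • y = y')
    (hc : ∀ i, {y | f y = i}.ncard = c i) (h0 : c (f x₀) = 1)
    (hJ : ∀ J : Finset (Fin k), f x₀ ∈ J → (∑ j ∈ J, c j) ∣ Nat.card X → J = {f x₀} ∨ J = Finset.univ) :
    IsPreprimitive G X := by
  classical
  have : Fintype X := Fintype.ofFinite X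
  apply IsPreprimitive.of_isTrivialBlock_base x₀
  intro B hx₀ hB
  have hstab : ∀ h ∈ stabilizer G x₀, h • B = B := fun h hh => mem_stabilizer_iff.mp (hB.stabilizer_le hx₀ hh)
  let J : Finset (Fin k) := Finset.univ.filter (fun i => ∃ y ∈ B, f y = i)
  have hBJ : ∀ y, y ∈ B ↔ f y ∈ J := by
    intro y
    constructor
    · intro hy
      exact Finset.mem_filter.mpr ⟨Finset.mem_univ _, y, hy, rfl⟩
    · intro hy
      obtain ⟨-, y', hy', e⟩ := Finset.mem_filter.mp hy
      obtain ⟨h, hh, rfl⟩ := hf y' y e
      rw [← hstab h hh]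
      exact Set.smul_mem_smul_set hy'
  have hcard : B.ncard = ∑ j ∈ J, c j := by
    have e1 : B = ↑(Finset.univ.filter (fun y => f y ∈ J)) := by
      ext y
      rw [hBJ]
      simp
    rw [e1, Set.ncard_coe_finset, Finset.card_eq_sum_card_fiberwise (f := f) (t := J)]
    · apply Finset.sum_congr rfl
      intro j hj
      rw [← hc j, ← Set.ncard_coe_finset]
      congr 1
      ext y
      simp only [Finset.coe_filter, Finset.mem_filter, Finset.mem_univ, true_and, Set.mem_ofPred_eq]
      constructor
      · rintro ⟨-, e⟩
        exact e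
      · intro e
        exact ⟨e ▸ hj, e⟩
    · intro y hy
      exact (Finset.mem_filter.mp hy).2
  have hdvd := hB.ncard_dvd_card ⟨x₀, hx₀⟩
  rw [hcard] at hdvd
  rcases hJ J ((hBJ x₀).mp hx₀) hdvd with h | h
  · left
    have : Finite ↑B := Set.toFinite B |>.to_subtype
    rw [← Set.ncard_le_one_iff_subsingleton, hcard, h, Finset.sum_singleton, h0]
  · right
    ext y
    rw [hBJ, h]
    simp

/-- a nontrivial normal subgroup of a faithful primitive group is transitive -/
theorem normal_transitive [IsPreprimitive G X] [FaithfulSMul G X] (N : Subgroup G) [N.Normal] (hN : N ≠ ⊥) :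
    IsPretransitive N X := by
  apply IsQuasiPreprimitive.isPretransitive_of_normal
  intro hfix
  apply hN
  rw [Subgroup.eq_bot_iff_forall]
  intro g hg
  apply FaithfulSMul.eq_of_smul_eq_smul (α := X)
  intro x
  have hx : x ∈ fixedPoints N X := by rw [hfix]; exact Set.mem_univ x
  rw [one_smul]
  exact hx ⟨g, hg⟩

/-- a transitive subgroup has at least as many elements as there are points -/
theorem card_le_of_transitive [Finite G] [Finite X] (N : Subgroup G) [IsPretransitive N X] (x₀ : X) :
    Nat.card X ≤ Nat.card N := by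
  have h1 := MulAction.index_stabilizer N x₀
  have h2 := Subgroup.card_mul_index (stabilizer N x₀)
  have h3 : orbit N x₀ = Set.univ := MulAction.orbit_eq_univ N x₀
  rw [h3, Set.ncard_univ] at h1
  rw [h1] at h2
  rw [← h2]
  exact Nat.le_mul_of_pos_left _ Nat.card_pos

theorem simple_of_primitive [Finite G] [Finite X] [IsPreprimitive G X] [FaithfulSMul G X] (x₀ : X)
    [IsSimpleGroup (stabilizer G x₀)] (p q a b : ℕ) (hp : p.Prime) (hq : q.Prime) (hpq : p ≠ q) (ha : 0 < a)
    (hb : 0 < b) (hcard : Nat.card X = p ^ a * q ^ b) : IsSimpleGroup G := by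
  classical
  have hX2 : 2 ≤ Nat.card X := by
    rw [hcard]
    have h1 : 2 ≤ p ^ a := le_trans hp.two_le (Nat.le_self_pow ha.ne' p)
    have h2 : 1 ≤ q ^ b := Nat.one_le_pow _ _ hq.pos
    nlinarith
  have : Nontrivial X := Finite.one_lt_card_iff_nontrivial.mp (by omega)
  have : Nontrivial G := by
    obtain ⟨x, y, hxy⟩ := exists_pair_ne X
    obtain ⟨g, hg⟩ := exists_smul_eq G x y
    refine ⟨⟨g, 1, ?_⟩⟩
    rintro rfl
    rw [one_smul] at hg
    exact hxy hg
  refine ⟨fun N hNn => ?_⟩
  by_cases hbot : N = ⊥
  · exact Or.inl hbot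
  right
  have hNt : IsPretransitive N X := normal_transitive N hbot
  -- the intersection with the point stabiliser
  have hnorm : (N.subgroupOf (stabilizer G x₀)).Normal := hNn.subgroupOf _
  rcases (IsSimpleGroup.eq_bot_or_eq_top_of_normal (N.subgroupOf (stabilizer G x₀)) hnorm) with h | h
  · -- the regular case
    exfalso
    have hreg : stabilizer N x₀ = ⊥ := by
      rw [Subgroup.eq_bot_iff_forall]
      rintro ⟨g, hg⟩ hgs
      have hgs' : g ∈ stabilizer G x₀ := hgs
      have : (⟨g, hgs'⟩ : stabilizer G x₀) ∈ N.subgroupOf (stabilizer G x₀) := hg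
      rw [h, Subgroup.mem_bot] at this
      have e : g = 1 := congrArg Subtype.val this
      exact Subtype.ext e
    have hNcard : Nat.card N = p ^ a * q ^ b := by
      have h1 := MulAction.index_stabilizer N x₀
      have h2 := Subgroup.card_mul_index (stabilizer N x₀)
      have h3 : orbit N x₀ = Set.univ := MulAction.orbit_eq_univ N x₀
      rw [h3, Set.ncard_univ, hcard] at h1
      rw [h1, hreg, Subgroup.card_bot, one_mul] at h2
      exact h2.symm
    -- every nontrivial normal subgroup below `N` is `N`
    have hmin : ∀ M : Subgroup G, M.Normal → M ≤ N → M ≠ ⊥ → M = N := by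
      intro M hMn hMN hMbot
      have : IsPretransitive M X := normal_transitive M hMbot
      apply Subgroup.eq_of_le_of_card_ge hMN
      rw [hNcard, ← hcard]
      exact card_le_of_transitive M x₀
    have hsolv : Group.IsSolvable N :=
      Cfsg.Agent.Helper24.isSolvable_of_card_eq_prime_pow_mul p q a b hp hq hNcard
    have hNnt : Nontrivial N := by
      rw [Subgroup.nontrivial_iff_ne_bot]
      exact hbot
    -- `N` is commutative
    have hcomm : ⁅N, N⁆ = ⊥ := by
      by_contra hD
      have hDn : (⁅N, N⁆).Normal := Subgroup.commutator_normal N N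
      have hDN : ⁅N, N⁆ = N := hmin _ hDn (Subgroup.commutator_le_right N N) hD
      have hlt := Group.IsSolvable.commutator_lt_top_of_nontrivial N
      have hmap := Subgroup.map_subtype_commutator N
      rw [hDN] at hmap
      have : commutator N = ⊤ := by
        apply Subgroup.map_injective N.subtype_injective
        rw [hmap, ← MonoidHom.range_eq_map, Subgroup.range_subtype]
      rw [this] at hlt
      exact lt_irrefl _ hlt
    have hcomm' : ∀ x ∈ N, ∀ y ∈ N, x * y = y * x := by
      intro x hx y hy
      have := Subgroup.commutator_eq_bot_iff_le_centralizer.mp hcomm hx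
      exact (this y hy).symm
    -- the elements of order dividing `p`
    let K : Subgroup G :=
      { carrier := {x | x ∈ N ∧ x ^ p = 1}
        one_mem' := ⟨N.one_mem, one_pow p⟩
        mul_mem' := by
          rintro x y ⟨hx, hxp⟩ ⟨hy, hyp⟩
          refine ⟨N.mul_mem hx hy, ?_⟩
          have hc : Commute x y := hcomm' x hx y hy
          rw [hc.mul_pow, hxp, hyp, one_mul]
        inv_mem' := by
          rintro x ⟨hx, hxp⟩
          exact ⟨N.inv_mem hx, by rw [inv_pow, hxp, inv_one]⟩ }
    have hKn : K.Normal := by
      refine ⟨fun x hx g => ?_⟩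
      obtain ⟨hxN, hxp⟩ := hx
      refine ⟨hNn.conj_mem x hxN g, ?_⟩
      rw [conj_pow, hxp, mul_one, mul_inv_cancel]
    have hKN : K ≤ N := fun x hx => hx.1
    have : Fact p.Prime := ⟨hp⟩
    have : Fact q.Prime := ⟨hq⟩
    have hKbot : K ≠ ⊥ := by
      have hpd : p ∣ Nat.card N := by
        rw [hNcard]
        exact Dvd.dvd.mul_right (dvd_pow_self p ha.ne') _
      obtain ⟨x, hx⟩ := exists_prime_orderOf_dvd_card' p hpd
      intro hK
      have hxK : (x : G) ∈ K := by
        refine ⟨x.2, ?_⟩
        have := pow_orderOf_eq_one x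
        rw [hx] at this
        exact congrArg Subtype.val this
      rw [hK, Subgroup.mem_bot] at hxK
      have : x = 1 := Subtype.ext hxK
      rw [this, orderOf_one] at hx
      exact hp.one_lt.ne hx
    have hKeq : K = N := hmin K hKn hKN hKbot
    have hqd : q ∣ Nat.card N := by
      rw [hNcard]
      exact Dvd.dvd.mul_left (dvd_pow_self q hb.ne') _
    obtain ⟨y, hy⟩ := exists_prime_orderOf_dvd_card' q hqd
    have hyK : (y : G) ∈ K := by
      rw [hKeq]
      exact y.2
    have hyp : y ^ p = 1 := Subtype.ext hyK.2
    have hdvd : q ∣ p := by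
      rw [← hy]
      exact orderOf_dvd_of_pow_eq_one hyp
    exact hpq ((Nat.prime_dvd_prime_iff_eq hq hp).mp hdvd).symm
  · -- the point stabiliser lies in `N`
    have hle : stabilizer G x₀ ≤ N := by
      intro g hg
      have : (⟨g, hg⟩ : stabilizer G x₀) ∈ N.subgroupOf (stabilizer G x₀) := by
        rw [h]
        exact Subgroup.mem_top _
      exact this
    rw [eq_top_iff]
    intro g _
    obtain ⟨m, hm⟩ := exists_smul_eq N x₀ (g • x₀)
    have hmg : (m : G)⁻¹ * g ∈ stabilizer G x₀ := by
      rw [mem_stabilizer_iff, mul_smul, inv_smul_eq_iff]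
      exact hm.symm
    have := N.mul_mem m.2 (hle hmg)
    rwa [mul_inv_cancel_left] at this

end Cfsg.Agent.Helper22.PrimSimple
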