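import Cfsg.Agent.Helper22.IcoGroupK
import Cfsg.Agent.Helper22.PrimSimple

/-!
# A simple group of order 604800 of permutations of 315 points

The group generated by four explicit involutions; its order, its primitivity and its simplicity.
-/

set_option autoImplicit false
set_option maxRecDepth 8000

namespace Cfsg.Agent.Helper22.IcoGroup

open Cfsg.Agent.Helper22.PermPack Cfsg.Agent.Helper22.IcoData Cfsg.Agent.Helper22.PrimSimple MulAction

theorem gens_good : ∀ y ∈ gens, Good 315 9 y :=
  fun y hy => good_of_goodB (List.all_eq_true.mp gens_goodK y hy)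

theorem gens4_good : ∀ y ∈ gens4, Good 315 9 y :=
  fun y hy => good_of_goodB (List.all_eq_true.mp gens4_goodK y hy)

/-- the group -/
noncomputable def G : Subgroup (Pm 315) := Grp 315 9 gens

theorem card_G : Nat.card G = 604800 := by
  rw [← prod_levels]
  exact (chain_sound levels gens gens_good chain_okK).1

theorem path_mem (p : List ℕ) (hp : pathValid levels p = true) : ∃ g ∈ G, Rep (pathLook 315 9 levels p) g :=
  (chain_sound levels gens gens_good chain_okK).2 p hp

theorem gens_sub : ∀ y ∈ gens, y ∈ gens4 ∨ ∃ e ∈ slp, e.1 = y := by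
  intro y hy
  have := List.all_eq_true.mp gens_subK y hy
  rw [Bool.or_eq_true, List.contains_iff_mem, List.any_eq_true] at this
  rcases this with h1 | ⟨e, he, h2⟩
  · exact Or.inl h1
  · exact Or.inr ⟨e, he, beq_iff_eq.mp h2⟩

theorem gens4_sub : ∀ y ∈ gens4, y ∈ gens := by
  intro y hy
  have := List.all_eq_true.mp gens4_subK y hy
  rwa [List.contains_iff_mem] at this

theorem G_eq : G = Grp 315 9 gens4 := Grp_eq_of_slp gens4_good slp_okK gens_sub gens4_sub

/-- the generators fixing the first base point -/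
def gens1 : List ℕ := gens.filter fun y => Nat.beq (slot 9 y L0.b) L0.b

theorem gens1_sub : ∀ y ∈ gens1, y ∈ gens := fun _ hy => (List.mem_filter.mp hy).1

theorem gens1_good : ∀ y ∈ gens1, Good 315 9 y := fun y hy => gens_good y (gens1_sub y hy)

theorem gens1_fix : ∀ y ∈ gens1, slot 9 y 0 = 0 := fun y hy => beq_iff.mp (List.mem_filter.mp hy).2

theorem chain_ok1 : chainOK 315 9 gens1 tail = true := by
  have h := chain_okK
  unfold levels at h
  rw [chainOK, withList_eq, Bool.and_eq_true] at h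
  exact h.2

/-- the point stabiliser -/
noncomputable def G1 : Subgroup (Pm 315) := Grp 315 9 gens1

theorem G1_le : G1 ≤ G := Grp_mono gens1_sub

theorem G1_fix : ∀ g ∈ G1, g (0 : Fin 315) = 0 := Grp_fix gens1_good (by norm_num) gens1_fix

theorem card_G1 : Nat.card G1 = 1920 := by
  have h := (chain_sound tail gens1 gens1_good chain_ok1).1
  rw [show (tail.map fun L => L.m).prod = 1920 by decide +kernel] at h
  exact h

theorem path_mem1 (p : List ℕ) (hp : pathValid tail p = true) : ∃ g ∈ G1, Rep (pathLook 315 9 tail p) g :=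
  (chain_sound tail gens1 gens1_good chain_ok1).2 p hp

/-! ### Transitivity -/

theorem exists_map (γ : Fin 315) : ∃ g ∈ G, g 0 = γ := by
  have h := allN_spec trans_okK γ.1 γ.2
  rw [withNat_eq, Bool.and_eq_true] at h
  obtain ⟨g, hg, hrep⟩ := path_mem _ h.1
  refine ⟨g, hg, Fin.ext ?_⟩
  rw [hrep]
  exact beq_iff.mp h.2

instance : IsPretransitive ↥G (Fin 315) := by
  refine ⟨fun x y => ?_⟩
  obtain ⟨g, hg, hgx⟩ := exists_map x
  obtain ⟨g', hg', hgy⟩ := exists_map y
  refine ⟨⟨g' * g⁻¹, G.mul_mem hg' (G.inv_mem hg)⟩, ?_⟩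
  show (g' * g⁻¹) x = y
  rw [← hgx, ← hgy]
  simp

/-! ### Primitivity -/

theorem root_lt {l : ℕ} (h0 : 0 < l) (h6 : l < 6) : root l < 315 := by
  have h : (allN 6 fun l => Nat.blt (root l) 315) = true := by decide +kernel
  exact blt_iff.mp (allN_spec h l h6)

theorem prim_spec (γ : Fin 315) (hγ : γ ≠ 0) : 0 < lab γ.1 ∧ lab γ.1 < 6 ∧
    ∃ hr : root (lab γ.1) < 315, ∃ g ∈ G1, g ⟨root (lab γ.1), hr⟩ = γ := by
  have h := allN_spec prim_okK γ.1 γ.2
  have hne : Nat.beq γ.1 0 = false := by
    rw [← Bool.not_eq_true, beq_iff]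
    intro h0
    exact hγ (Fin.ext h0)
  rw [withNat_eq, hne, cond_false, withList_eq] at h
  simp only [Bool.and_eq_true, blt_iff, beq_iff] at h
  obtain ⟨⟨h1, h2⟩, h3, h4⟩ := h
  refine ⟨h1, h2, root_lt h1 h2, ?_⟩
  obtain ⟨g, hg, hrep⟩ := path_mem1 _ h3
  refine ⟨g, hg, Fin.ext ?_⟩
  rw [hrep]
  exact h4

theorem lab_zero : lab 0 = 0 := by decide +kernel

theorem lab_lt (γ : ℕ) (hγ : γ < 315) : lab γ < 6 := by
  have h : (allN 315 fun γ => Nat.blt (lab γ) 6) = true := by decide +kernel
  exact blt_iff.mp (allN_spec h γ hγ)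

/-- the labelling function -/
def f (y : Fin 315) : Fin 6 := ⟨lab y.1 % 6, Nat.mod_lt _ (by norm_num)⟩

theorem f_val (y : Fin 315) : (f y).1 = lab y.1 := Nat.mod_eq_of_lt (lab_lt y.1 y.2)

theorem f_zero : f 0 = 0 := by
  apply Fin.ext
  rw [f_val]
  exact lab_zero

theorem f_eq_zero_iff (y : Fin 315) : f y = 0 ↔ y = 0 := by
  constructor
  · intro h
    by_contra hne
    obtain ⟨h1, -⟩ := prim_spec y hne
    have h2 : lab y.1 = 0 := by
      rw [← f_val, h]
      rfl
    omega
  · rintro rfl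
    exact f_zero

theorem card_fiber (i : Fin 6) : {y : Fin 315 | f y = i}.ncard = ![1, 80, 10, 160, 32, 32] i := by
  have h1 : {y : Fin 315 | f y = i} = ↑(Finset.univ.filter fun y : Fin 315 => y.1 ∈ (List.range 315).filter fun γ => lab γ == i.1) := by
    ext y
    simp only [Set.mem_ofPred_eq, Finset.coe_filter, Finset.mem_univ, true_and, List.mem_filter, List.mem_range,
      beq_iff_eq]
    constructor
    · intro h
      exact ⟨y.2, by rw [← f_val, h]⟩
    · rintro ⟨-, h⟩
      exact Fin.ext (by rw [f_val, h])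
  rw [h1, Set.ncard_coe_finset]
  have h2 : (Finset.univ.filter fun y : Fin 315 => y.1 ∈ (List.range 315).filter fun γ => lab γ == i.1).card =
      ((List.range 315).filter fun γ => lab γ == i.1).length := by
    rw [← List.toFinset_card_of_nodup (List.Nodup.filter _ List.nodup_range),
      ← Finset.card_image_of_injective _ Fin.val_injective]
    congr 1
    ext β
    simp only [Finset.mem_image, Finset.mem_filter, Finset.mem_univ, true_and, List.mem_toFinset]
    constructor
    · rintro ⟨x, hx, rfl⟩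
      exact hx
    · intro hβ
      exact ⟨⟨β, List.mem_range.mp (List.mem_filter.mp hβ).1⟩, hβ, rfl⟩
  rw [h2]
  have h3 := labCountK
  have h4 : ∀ l < 6, labCount l = [1, 80, 10, 160, 32, 32].getD l 0 := by
    intro l hl
    have := congrArg (fun L => L.getD l 0) h3
    rw [← this, List.getD_eq_getElem _ _ (by simpa using hl), List.getElem_map, List.getElem_range]
  have h5 := h4 i.1 i.2
  unfold labCount at h5
  rw [h5]
  fin_cases i <;> rfl

instance : IsPreprimitive ↥G (Fin 315) := by
  apply isPreprimitive_of_labels (0 : Fin 315) f ![1, 80, 10, 160, 32, 32]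
  · intro y y' hyy
    by_cases hy : y = 0
    · subst hy
      rw [f_zero] at hyy
      have hy' : y' = 0 := (f_eq_zero_iff y').mp hyy.symm
      subst hy'
      exact ⟨1, Subgroup.one_mem _, one_smul _ _⟩
    · have hy' : y' ≠ 0 := by
        intro h0
        subst h0
        rw [f_zero] at hyy
        exact hy ((f_eq_zero_iff y).mp hyy)
      obtain ⟨-, -, hr, g, hg, hgy⟩ := prim_spec y hy
      obtain ⟨-, -, hr', g', hg', hgy'⟩ := prim_spec y' hy'
      have hlab : lab y.1 = lab y'.1 := by rw [← f_val, ← f_val, hyy]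
      have hmem : g' * g⁻¹ ∈ G1 := G1.mul_mem hg' (G1.inv_mem hg)
      refine ⟨⟨g' * g⁻¹, G1_le hmem⟩, ?_, ?_⟩
      · rw [mem_stabilizer_iff]
        exact G1_fix _ hmem
      · show (g' * g⁻¹) y = y'
        have hroot : (⟨root (lab y.1), hr⟩ : Fin 315) = ⟨root (lab y'.1), hr'⟩ := by
          apply Fin.ext
          show root (lab y.1) = root (lab y'.1)
          rw [hlab]
        rw [← hgy, ← hgy', hroot]
        show g' (g.symm (g _)) = g' _
        rw [Equiv.symm_apply_apply]
  · exact card_fiber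
  · rw [f_zero]
    rfl
  · rw [f_zero, Nat.card_eq_fintype_card, Fintype.card_fin]
    decide

/-! ### The elements of order seven -/

theorem pow_seven_of_rep {fn : ℕ → ℕ} {g : Pm 315} (h : Rep fn g) (h7 : ∀ i < 315, pow7 fn i = i) :
    g ^ 7 = 1 := by
  have h1 : g ^ 7 = g * (g * (g * (g * (g * (g * g))))) := by
    rw [pow_succ, pow_succ, pow_succ, pow_succ, pow_succ, pow_succ, pow_one]
    simp only [mul_assoc]
  rw [h1]
  apply rep_unique (rep_mul h (rep_mul h (rep_mul h (rep_mul h (rep_mul h (rep_mul h h))))))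
  apply rep_congr rep_one
  intro i hi
  exact h7 i hi

theorem seven_spec (y : ℕ) (hy : y ∈ gens) : ∃ u ∈ G, ∃ v ∈ G, u ^ 7 = 1 ∧ v ^ 7 = 1 ∧ P 315 9 y = u * v := by
  obtain ⟨j, hj, hjy⟩ := List.mem_iff_getElem.mp hy
  have h := List.all_eq_true.mp seven_okK j (List.mem_range.mpr hj)
  rw [List.getD_eq_getElem _ _ hj, hjy] at h
  simp only [withList_eq, withNat_eq, Bool.and_eq_true] at h
  obtain ⟨⟨h1, h2⟩, ⟨h3, h4⟩, h5⟩ := h
  obtain ⟨u, hu, hurep⟩ := path_mem _ h1
  obtain ⟨v, hv, hvrep⟩ := path_mem _ h2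
  refine ⟨u, hu, v, hv, ?_, ?_, ?_⟩
  · exact pow_seven_of_rep hurep (fun i hi => beq_iff.mp (allN_spec h3 i hi))
  · exact pow_seven_of_rep hvrep (fun i hi => beq_iff.mp (allN_spec h4 i hi))
  · apply rep_unique (rep_P (gens_good y hy))
    apply rep_congr (rep_mul hurep hvrep)
    intro i hi
    exact beq_iff.mp (allN_spec h5 i hi)

/-! ### Simplicity -/

instance : Finite ↥G := Nat.finite_of_card_ne_zero (by rw [card_G]; norm_num)

theorem simple_G : IsSimpleGroup ↥G := by
  have hnt : Nontrivial ↥G := Finite.one_lt_card_iff_nontrivial.mp (by rw [card_G]; norm_num)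
  refine ⟨fun N hNn => ?_⟩
  by_cases hbot : N = ⊥
  · exact Or.inl hbot
  right
  have hNt : IsPretransitive N (Fin 315) := normal_transitive N hbot
  -- the index is prime to seven
  have h315 : 315 ∣ Nat.card N := by
    have h1 := MulAction.index_stabilizer N (0 : Fin 315)
    have h3 : orbit N (0 : Fin 315) = Set.univ := MulAction.orbit_eq_univ N _
    rw [h3, Set.ncard_univ, Nat.card_eq_fintype_card, Fintype.card_fin] at h1
    have h4 := Subgroup.index_dvd_card (stabilizer N (0 : Fin 315))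
    rwa [h1] at h4
  have hidx : N.index ∣ 1920 := by
    obtain ⟨m, hm⟩ := h315
    have h1 := Subgroup.card_mul_index N
    rw [card_G, hm] at h1
    exact ⟨m, by nlinarith⟩
  have hcop : Nat.Coprime N.index 7 := Nat.Coprime.coprime_dvd_left hidx (by norm_num)
  have hseven : ∀ u : ↥G, u ^ 7 = 1 → u ∈ N := by
    intro u hu
    have h1 : ((u : ↥G) : ↥G ⧸ N) ^ 7 = 1 := by rw [← QuotientGroup.mk_pow, hu, QuotientGroup.mk_one]
    have h2 : ((u : ↥G) : ↥G ⧸ N) ^ N.index = 1 := by
      rw [← QuotientGroup.mk_pow]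
      exact (QuotientGroup.eq_one_iff _).mpr (Subgroup.pow_index_mem N u)
    have h3 : orderOf ((u : ↥G) : ↥G ⧸ N) ∣ Nat.gcd N.index 7 :=
      Nat.dvd_gcd (orderOf_dvd_of_pow_eq_one h2) (orderOf_dvd_of_pow_eq_one h1)
    rw [hcop, Nat.dvd_one, orderOf_eq_one_iff] at h3
    exact (QuotientGroup.eq_one_iff u).mp h3
  -- the generators lie in the normal subgroup
  have hgen : ∀ y ∈ gens, P 315 9 y ∈ N.map G.subtype := by
    intro y hy
    obtain ⟨u, hu, v, hv, hu7, hv7, huv⟩ := seven_spec y hy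
    have hu' : (⟨u, hu⟩ : ↥G) ∈ N := hseven _ (Subtype.ext hu7)
    have hv' : (⟨v, hv⟩ : ↥G) ∈ N := hseven _ (Subtype.ext hv7)
    exact ⟨⟨u, hu⟩ * ⟨v, hv⟩, N.mul_mem hu' hv', huv.symm⟩
  have hle : G ≤ N.map G.subtype := by
    unfold G Grp
    rw [Subgroup.closure_le]
    rintro g ⟨y, hy, rfl⟩
    exact hgen y hy
  rw [eq_top_iff]
  intro g _
  obtain ⟨n, hn, hng⟩ := hle g.2
  have h1 : n = g := Subtype.ext hng
  rwa [← h1]

end Cfsg.Agent.Helper22.IcoGroup
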