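import Cfsg.Agent.Helper22.IcoAct
import Cfsg.Agent.Helper22.IcoGroup

/-!
# The Hall–Janko group as the group generated by the reflections of the icosian Leech lattice, modulo its centre
-/

set_option autoImplicit false
set_option maxRecDepth 8000

namespace Cfsg.Agent.Helper22.Ico

open Quaternion Cfsg.Spor Cfsg.Agent.Helper22.PermPack Cfsg.Agent.Helper22.IcoData Cfsg.Agent.Helper22.IcoGroup

theorem genIdx_lt (i : ℕ) (hi : i < 4) : genIdx.getD i 0 < 315 := by
  have h : (allN 4 fun i => Nat.blt (genIdx.getD i 0) 315) = true := by decide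
  exact blt_iff.mp (allN_spec h i hi)

theorem tab_spec (i : ℕ) (hi : i < 4) :
    V3.tabOK (genIdx.getD i 0) (gens4.getD i 0) (V3.units4.getD i 0) = true :=
  allN_spec V3.tabs_okK i hi

/-- the four generating reflections -/
noncomputable def gen (i : Fin 4) : twoJ2 := ⟨rf (genIdx.getD i.1 0), rf_mem (genIdx_lt i.1 i.2)⟩

theorem gens4_length : gens4.length = 4 := by decide

theorem gens4_getD_mem (i : ℕ) (hi : i < 4) : gens4.getD i 0 ∈ gens4 := by
  have h : i < gens4.length := by rw [gens4_length]; exact hi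
  rw [List.getD_eq_getElem _ _ h]
  exact List.getElem_mem h

theorem ρ_gen (i : Fin 4) : ρ (gen i) = P 315 9 (gens4.getD i.1 0) := by
  apply rep_unique (f := slot 9 (gens4.getD i.1 0)) _ (rep_P (gens4_good _ (gens4_getD_mem i.1 i.2)))
  intro j
  obtain ⟨h1, h2⟩ := rf_conj_of_tabOK (genIdx_lt i.1 i.2) (tab_spec i.1 i.2) j.2
  have : ρ (gen i) j = ⟨slot 9 (gens4.getD i.1 0) j.1, h1⟩ := (ρ_eq_iff _ _ _).mpr h2
  rw [this]

/-- the subgroup generated by the four reflections -/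
noncomputable def T4 : Subgroup twoJ2 := Subgroup.closure (Set.range gen)

theorem map_T4 : T4.map ρ = G := by
  rw [G_eq]
  unfold T4 Grp
  rw [MonoidHom.map_closure]
  congr 1
  ext g
  simp only [Set.mem_image, Set.mem_range, Set.mem_ofPred_eq]
  constructor
  · rintro ⟨_, ⟨i, rfl⟩, rfl⟩
    exact ⟨_, gens4_getD_mem i.1 i.2, ρ_gen i⟩
  · rintro ⟨y, hy, rfl⟩
    obtain ⟨i, hi, e⟩ := List.mem_iff_getElem.mp hy
    have hi' : i < 4 := by rw [← gens4_length]; exact hi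
    refine ⟨gen ⟨i, hi'⟩, ⟨⟨i, hi'⟩, rfl⟩, ?_⟩
    rw [ρ_gen]
    show P 315 9 (gens4.getD i 0) = P 315 9 y
    rw [List.getD_eq_getElem _ _ hi, e]

theorem gen_zero : (gen 0).1 = rf 0 := rfl

theorem rf_mem_T4 (k : Fin 315) : (⟨rf k.1, rf_mem k.2⟩ : twoJ2) ∈ T4 := by
  obtain ⟨g, hg, hgk⟩ := exists_map k
  rw [← map_T4] at hg
  obtain ⟨x, hx, rfl⟩ := hg
  have h1 := (ρ_eq_iff x 0 k).mp hgk
  have h2 : (⟨rf k.1, rf_mem k.2⟩ : twoJ2) = x * gen 0 * x⁻¹ := by
    apply Subtype.ext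
    show rf k.1 = x.1 * (gen 0).1 * x.1⁻¹
    rw [gen_zero, ← h1]
    rfl
  rw [h2]
  exact T4.mul_mem (T4.mul_mem hx (Subgroup.subset_closure ⟨0, rfl⟩)) (T4.inv_mem hx)

theorem twoJ2_le {K : Subgroup (Equiv.Perm icoLeech)} (h : ∀ j < 315, rf j ∈ K) : twoJ2 ≤ K := by
  rw [twoJ2_eq, Subgroup.closure_le]
  rintro f ⟨j, hj, rfl⟩
  exact h j hj

theorem T4_eq_top : T4 = ⊤ := by
  rw [eq_top_iff]
  intro g _
  have hle : twoJ2 ≤ T4.map twoJ2.subtype :=
    twoJ2_le fun j hj => ⟨⟨rf j, rf_mem hj⟩, rf_mem_T4 ⟨j, hj⟩, rfl⟩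
  obtain ⟨x, hx, hxg⟩ := hle g.2
  have : x = g := Subtype.ext hxg
  rwa [← this]

theorem range_ρ : ρ.range = G := by
  rw [MonoidHom.range_eq_map, ← T4_eq_top, map_T4]

theorem mem_ker_iff (g : twoJ2) : g ∈ ρ.ker ↔ ∀ j < 315, g.1 * rf j = rf j * g.1 := by
  rw [MonoidHom.mem_ker]
  constructor
  · intro h j hj
    have h1 := ρ_spec g ⟨j, hj⟩
    rw [h] at h1
    have h2 : g.1 * rf j * g.1⁻¹ = rf j := h1
    calc g.1 * rf j = (g.1 * rf j * g.1⁻¹) * g.1 := by group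
      _ = rf j * g.1 := by rw [h2]
  · intro h
    ext j : 1
    show ρ g j = j
    rw [ρ_eq_iff, h j.1 j.2]
    group

theorem ker_ρ : ρ.ker = Subgroup.center twoJ2 := by
  ext g
  rw [mem_ker_iff, Subgroup.mem_center_iff]
  constructor
  · intro h x
    have hle : twoJ2 ≤ Subgroup.centralizer {g.1} := by
      apply twoJ2_le
      intro j hj
      rw [Subgroup.mem_centralizer_iff]
      intro y hy
      rw [Set.mem_singleton_iff] at hy
      rw [hy]
      exact h j hj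
    have := Subgroup.mem_centralizer_iff.mp (hle x.2) g.1 rfl
    exact Subtype.ext this.symm
  · intro h j hj
    have := h ⟨rf j, rf_mem hj⟩
    exact (congrArg Subtype.val this).symm

/-- the Hall–Janko group is isomorphic to the group of permutations of 315 points -/
noncomputable def J2iso : J2 ≃* G :=
  ((QuotientGroup.quotientMulEquivOfEq ker_ρ).symm.trans (QuotientGroup.quotientKerEquivRange ρ)).trans
    (MulEquiv.subgroupCongr range_ρ)

theorem card_J2 : Nat.card J2 = 604800 := by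
  rw [Nat.card_congr J2iso.toEquiv, card_G]

theorem simple_J2 : IsSimpleGroup J2 := by
  have := simple_G
  exact MulEquiv.isSimpleGroup J2iso

theorem exists_conj_zero (k : Fin 315) : ∃ x : twoJ2, x.1 * rf 0 * x.1⁻¹ = rf k.1 := by
  obtain ⟨g, hg, hgk⟩ := exists_map k
  rw [← range_ρ] at hg
  obtain ⟨x, rfl⟩ := hg
  exact ⟨x, (ρ_eq_iff x 0 k).mp hgk⟩

theorem exists_conj_refl (f f' : Equiv.Perm icoLeech) (hf : IsIcoReflection f) (hf' : IsIcoReflection f') :
    ∃ g ∈ twoJ2, g * f * g⁻¹ = f' := by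
  obtain ⟨j, hj, rfl⟩ := (isIcoReflection_iff_rf f).mp hf
  obtain ⟨k, hk, rfl⟩ := (isIcoReflection_iff_rf f').mp hf'
  obtain ⟨x, hx⟩ := exists_conj_zero ⟨j, hj⟩
  obtain ⟨x', hx'⟩ := exists_conj_zero ⟨k, hk⟩
  refine ⟨x'.1 * x.1⁻¹, twoJ2.mul_mem x'.2 (twoJ2.inv_mem x.2), ?_⟩
  show x'.1 * x.1⁻¹ * rf j * (x'.1 * x.1⁻¹)⁻¹ = rf k
  rw [← hx', ← hx]
  group

theorem exists_not_comm_J2 : ∃ a b : J2, a * b ≠ b * a := by
  by_contra hcon
  have hcomm : ∀ a b : J2, a * b = b * a := by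
    intro a b
    by_contra h
    exact hcon ⟨a, b, h⟩
  have hs := simple_J2
  letI : CommGroup J2 := { (inferInstance : Group J2) with mul_comm := hcomm }
  have hp : (Nat.card J2).Prime := IsSimpleGroup.prime_card
  rw [card_J2] at hp
  norm_num at hp

end Cfsg.Agent.Helper22.Ico
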