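import Mathlib
import Cfsg.Agent.Helper23.S0679TYPE
import Cfsg.Agent.Helper24.S0679CENT

set_option autoImplicit false

/-! S0679 chapter (5), piece LOW (helper22): `240 ≤ |C_G(τ)|`. -/

namespace Cfsg.Agent.S0679F

open Equiv

variable {α : Type*} [Fintype α] [DecidableEq α]

namespace LOW

/-- the number of fixed points of a permutation -/
theorem card_fix (τ : Perm α) :
    Fintype.card {a : α // τ a = a} = Fintype.card α - τ.support.card := by
  rw [Fintype.card_subtype]
  have h : (Finset.univ.filter fun a => τ a = a) = τ.supportᶜ := by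
    ext a
    simp [Equiv.Perm.mem_support]
  rw [h, Finset.card_compl]

end LOW

/-- (5-LOW) `|C_G(τ)| ≥ 5·4·3·2·|⟨τ⟩| = 240`. -/
theorem LOW (hα : Fintype.card α = 11) (G : Subgroup (Perm α))
    (h4 : ∀ x y : Fin 4 ↪ α, ∃ h ∈ G, h ∈ alternatingGroup α ∧ ∀ i, h (x i) = y i)
    (hsh : ∀ h ∈ G, h ∈ alternatingGroup α → h ≠ 1 → 8 ≤ h.support.card)
    (hsw : ∀ g ∈ G, ¬ g.IsSwap) {τ : Perm α} (hτ : τ ∈ G) (hτo : τ ∉ alternatingGroup α)
    {x : Fin 4 ↪ α} (hx : ∀ i, τ (x i) = x i) :
    240 ≤ Nat.card {g : Perm α // g ∈ G ∧ g * τ = τ * g} := by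
  obtain ⟨h2, hc⟩ := TYPE hα G hsh hsw hτ hτo hx
  have hfix : Fintype.card {a : α // τ a = a} = 5 := by
    rw [LOW.card_fix, hα, hc]
  have hτ1 : τ ≠ 1 := by
    intro h
    rw [h] at hτo
    exact hτo (Subgroup.one_mem _)
  have hC : ∀ y : Fin 4 ↪ {a : α // τ a = a}, ∃ g ∈ G, g * τ = τ * g ∧
      ∀ i, g (x i) = ((y i : {a : α // τ a = a}) : α) := fun y =>
    CENT hα G h4 hsh hτ hτo x (y.trans (Function.Embedding.subtype _)) hx (fun i => (y i).2)
  choose gy hgG hgc hgx using hC
  let Φ : (Fin 4 ↪ {a : α // τ a = a}) × Bool → {g : Perm α // g ∈ G ∧ g * τ = τ * g} :=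
    fun p => ⟨gy p.1 * (if p.2 then τ else 1), by
      refine ⟨G.mul_mem (hgG _) ?_, ?_⟩
      · split_ifs
        · exact hτ
        · exact G.one_mem
      · split_ifs
        · rw [mul_assoc, ← mul_assoc τ, ← hgc, mul_assoc]
        · rw [mul_one, hgc]⟩
  have hΦ : Function.Injective Φ := by
    rintro ⟨y, b⟩ ⟨y', b'⟩ h
    have h' : gy y * (if b then τ else 1) = gy y' * (if b' then τ else 1) := congrArg Subtype.val h
    have hfixc : ∀ (c : Bool) (i : Fin 4), (if c then τ else (1 : Perm α)) (x i) = x i := by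
      intro c i
      split_ifs
      · exact hx i
      · rfl
    have hy : y = y' := by
      ext i
      have h3 := congrArg (fun g : Perm α => g (x i)) h'
      simp only [Equiv.Perm.mul_apply, hfixc, hgx] at h3
      exact h3
    subst hy
    have hb : (if b then τ else (1 : Perm α)) = (if b' then τ else 1) := mul_left_cancel h'
    have hbb : b = b' := by
      cases b <;> cases b' <;> simp_all
    rw [hbb]
  have hcard : Fintype.card ((Fin 4 ↪ {a : α // τ a = a}) × Bool) = 240 := by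
    rw [Fintype.card_prod, Fintype.card_embedding_eq, Fintype.card_bool, hfix, Fintype.card_fin]
    rfl
  calc 240 = Fintype.card ((Fin 4 ↪ {a : α // τ a = a}) × Bool) := hcard.symm
    _ = Nat.card ((Fin 4 ↪ {a : α // τ a = a}) × Bool) := (Nat.card_eq_fintype_card).symm
    _ ≤ Nat.card {g : Perm α // g ∈ G ∧ g * τ = τ * g} := Nat.card_le_card_of_injective Φ hΦ

end Cfsg.Agent.S0679F
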