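import Cfsg.Agent.Helper22.Flag

/-!
The stabiliser of an octad and two of its points: orbits on the octads through the two points.
-/

set_option autoImplicit false

namespace Cfsg.Agent.Helper22.OctTwo

open Cfsg Cfsg.Agent.Helper27 Cfsg.Agent.Helper22.OrbitDod Cfsg.Agent.Helper22.Flag
open scoped Pointwise

/-- masks of octads through the points `0`, `1` meeting the standard octad in `i` points -/
def cls (i : ℕ) (n : ℕ) : Bool := n.testBit 0 && n.testBit 1 && (popc 24 (oct5 &&& n) == i)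

/-- the same with the weight condition -/
def clsP (i : ℕ) (n : ℕ) : Bool := (popc 24 n == 8) && cls i n

theorem hfix : ∀ f ∈ [0, 1], f < 24 := by decide

/-- descent elements for intersection size 2 -/
def gens2 : List (List ℕ) := [
  [0,1,4,7,12,15,11,10,14,18,3,6,2,21,5,17,19,23,20,16,22,9,13,8],
  [0,1,10,2,12,17,20,3,11,15,7,9,4,5,6,13,19,18,8,14,21,22,23,16],
  [0,1,12,4,3,6,5,7,20,14,10,22,2,13,9,15,16,23,19,18,8,21,11,17]]

theorem desc2 : descOKH (certF oct5 [0, 1]) gens2 (clsP 2) 352547 = true := by decide +kernel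

/-- descent elements for intersection size 4 -/
def gens4 : List (List ℕ) := [
  [0,1,4,7,12,16,8,3,13,15,2,5,10,9,19,11,6,14,20,18,21,22,23,17],
  [0,1,10,4,3,14,9,2,17,16,12,11,7,6,21,5,13,18,22,20,19,15,8,23],
  [0,1,7,12,10,13,9,3,6,15,4,19,2,17,14,8,22,20,21,16,5,18,11,23],
  [0,1,3,7,4,5,15,12,14,6,2,20,10,18,13,11,8,19,16,21,9,23,17,22]]

theorem desc4 : descOKH (certF oct5 [0, 1]) gens4 (clsP 4) 18147 = true := by decide +kernel

/-- descent elements for intersection size 8 -/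
def gens8 : List (List ℕ) := [
]

theorem desc8 : descOKH (certF oct5 [0, 1]) gens8 (clsP 8) 5279 = true := by decide +kernel

theorem cnt2 : countBelow (fun k => (popc 24 (cw k) == 8) && cls 2 (cw k)) 4096 = 16 := by decide +kernel
theorem cnt4 : countBelow (fun k => (popc 24 (cw k) == 8) && cls 4 (cw k)) 4096 = 60 := by decide +kernel

theorem cls_iff (i : ℕ) (n : ℕ) :
    (pt 0 ∈ maskSet n ∧ pt 1 ∈ maskSet n ∧ (maskSet oct5 ∩ maskSet n).card = i) ↔ cls i n = true := by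
  rw [pt_mem_maskSet (by norm_num), pt_mem_maskSet (by norm_num), card_inter_maskSet]
  simp [cls, and_assoc]

theorem pt0_mem : pt 0 ∈ maskSet oct5 := by
  rw [pt_mem_maskSet (by norm_num)]
  decide

theorem pt1_mem : pt 1 ∈ maskSet oct5 := by
  rw [pt_mem_maskSet (by norm_num)]
  decide

theorem pt01 : pt 0 ≠ pt 1 := by decide

theorem count (i : ℕ) {p q : GolayPt} (hpq : p ≠ q) {o : Finset GolayPt} (ho : o ∈ octads) (hp : p ∈ o) (hq : q ∈ o) :
    {x : Finset GolayPt | x ∈ octads ∧ p ∈ x ∧ q ∈ x ∧ (o ∩ x).card = i}.ncard =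
      countBelow (fun k => (popc 24 (cw k) == 8) && cls i (cw k)) 4096 := by
  obtain ⟨g0, hg0, hg0o, hg0p, hg0q⟩ := exists_M24_octad_two ho maskSet_oct5_mem hp hq hpq pt0_mem pt1_mem pt01
  rw [← ncard_std 8 (fun b => pt 0 ∈ b ∧ pt 1 ∈ b ∧ (maskSet oct5 ∩ b).card = i) (cls i) (cls_iff i)]
  apply ncard_smul_set g0
  intro b
  simp only [Set.mem_ofPred_eq]
  rw [← hg0o, ← hg0p, ← hg0q, card_inter_smul, mem_smul_iff, mem_smul_iff]
  exact and_congr (octads_smul_iff hg0 b).symm Iff.rfl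

theorem orbit {p q : GolayPt} (hpq : p ≠ q) {o o' o'' : Finset GolayPt} (ho : o ∈ octads) (ho' : o' ∈ octads)
    (ho'' : o'' ∈ octads) (hp : p ∈ o ∧ p ∈ o' ∧ p ∈ o'') (hq : q ∈ o ∧ q ∈ o' ∧ q ∈ o'')
    (h : (o ∩ o').card = (o ∩ o'').card) :
    ∃ g : Equiv.Perm GolayPt, g ∈ M24 ∧ g p = p ∧ g q = q ∧ g • o = o ∧ g • o' = o'' := by
  obtain ⟨g0, hg0, hg0o, hg0p, hg0q⟩ :=
    exists_M24_octad_two ho maskSet_oct5_mem hp.1 hq.1 hpq pt0_mem pt1_mem pt01
  have hd1 : g0 • o' ∈ octads := (octads_smul_iff hg0 o').mpr ho'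
  have hd2 : g0 • o'' ∈ octads := (octads_smul_iff hg0 o'').mpr ho''
  obtain ⟨m', hm', hpop', e'⟩ := exists_mask_of_mem_wordsOfWeight hd1
  obtain ⟨m'', hm'', hpop'', e''⟩ := exists_mask_of_mem_wordsOfWeight hd2
  have hc' : cls (o ∩ o').card m' = true := by
    rw [← cls_iff, ← e', ← hg0o, ← hg0p, ← hg0q, card_inter_smul, mem_smul_iff, mem_smul_iff]
    exact ⟨hp.2.1, hq.2.1, rfl⟩
  have hc'' : cls (o ∩ o').card m'' = true := by
    rw [← cls_iff, ← e'', ← hg0o, ← hg0p, ← hg0q, card_inter_smul, mem_smul_iff, mem_smul_iff]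
    exact ⟨hp.2.2, hq.2.2, h.symm⟩
  have hpos : 0 < (o ∩ o').card := Finset.card_pos.mpr ⟨p, Finset.mem_inter.mpr ⟨hp.1, hp.2.1⟩⟩
  have hk : ∃ k ∈ flagH oct5 [0, 1], k • maskSet m' = maskSet m'' := by
    rcases octad_inter_cases ho ho' with hi | hi | hi | hi
    · omega
    · rw [hi] at hc' hc''
      exact same_orbit_of_desc (certSoundF oct5 hfix) desc2 hm' (by simp [clsP, hpop', hc']) hm''
        (by simp [clsP, hpop'', hc''])
    · rw [hi] at hc' hc''
      exact same_orbit_of_desc (certSoundF oct5 hfix) desc4 hm' (by simp [clsP, hpop', hc']) hm''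
        (by simp [clsP, hpop'', hc''])
    · rw [hi] at hc' hc''
      exact same_orbit_of_desc (certSoundF oct5 hfix) desc8 hm' (by simp [clsP, hpop', hc']) hm''
        (by simp [clsP, hpop'', hc''])
  obtain ⟨k, hk, hkm⟩ := hk
  obtain ⟨h1, h2, h3, h4⟩ := conj_flag hfix hg0 hk
  refine ⟨g0⁻¹ * k * g0, h1, h3 0 (by simp) p hg0p, h3 1 (by simp) q hg0q, h2 o hg0o, h4 o' o'' ?_⟩
  rw [← e', ← e''] at hkm
  exact hkm

end Cfsg.Agent.Helper22.OctTwo
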