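import Mathlib
import Cfsg.Prelude.Def_Classical
import Cfsg.Agent.Helper23.S5953Defs
import Cfsg.Agent.Helper18.S5961ARITH
import Cfsg.Agent.Helper2.SympUnits
import Cfsg.Agent.Helper26.S5955IRRSUB
import Cfsg.Agent.Helper26.S5955IRRDIV
import Cfsg.Agent.Helper24.S5955CLASSES
import Cfsg.Agent.Helper7.S5953IRRNDU
import Cfsg.Agent.Helper7.S5953ORTHCU
import Cfsg.Agent.Helper23.S5953SDNT
import Cfsg.Agent.Helper23.S5953NDCHAIN
import Cfsg.Agent.Helper23.S5953CYCISO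
import Cfsg.Agent.Helper23.S5953ISOCONJ
import Cfsg.Agent.Helper18.S5953TWIST
import Cfsg.Agent.Helper18.S5953DUALPAIRU

/-!
# S5953 piece PAIRSTEPU (helper22)
-/

set_option autoImplicit false
open scoped MatrixGroups Matrix

universe u

namespace Cfsg.Agent.S5953P

open Polynomial Cfsg.Agent.S5955P Cfsg.Agent.Helper28.HW Cfsg.Agent.Helper28.HermFrame

namespace PAIRSTEPU

theorem injective_of_pow {F V : Type*} [Field F] [AddCommGroup V] [Module F V]
    (y : Module.End F V) (r : ℕ) (hr : 0 < r) (hy : y ^ r = 1) : Function.Injective y := by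
  intro a b hab
  obtain ⟨r0, hr0⟩ : ∃ r0, r = r0 + 1 := ⟨r - 1, by omega⟩
  have h4 : (y ^ r) a = (y ^ r) b := by
    rw [hr0, pow_succ, Module.End.mul_apply, Module.End.mul_apply, hab]
  rwa [hy, Module.End.one_apply, Module.End.one_apply] at h4

end PAIRSTEPU

/-- PAIRSTEPU -/
theorem exists_ti_pair_step_u {F V : Type*} [Field F] [Fintype F] [AddCommGroup V]
    [Module F V] [FiniteDimensional F V] {p : ℕ} [Fact p.Prime] [CharP F p] {q : ℕ} (r : ℕ)
    [Fact r.Prime] (hr2 : r ≠ 2) (hrp : r ≠ p) {σ : F →+* F} (B : V →ₛₗ[σ] V →ₗ[F] F)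
    (y : Module.End F V) (h : IsYU q B y r) (M : Submodule F V) (hM : M.map y ≤ M)
    (hMnd : NondegU B M) (hMfix : M ⊓ LinearMap.ker (y - 1) = ⊥)
    (hcase : (orderOf (q : ZMod r) % 4 ≠ 2 ∧ M ≠ ⊥) ∨ r - 1 < Module.finrank F M) :
    ∃ U₁ N₂ : Submodule F V, U₁ ≤ M ∧ N₂ ≤ M ∧ U₁.map y ≤ U₁ ∧ N₂.map y ≤ N₂ ∧
      OrthU B U₁ U₁ ∧ OrthU B U₁ N₂ ∧ Disjoint U₁ N₂ ∧ NondegU B N₂ ∧
      Module.finrank F U₁ = orderOf ((Fintype.card F : ℕ) : ZMod r) ∧
      Module.finrank F N₂ + 2 * orderOf ((Fintype.card F : ℕ) : ZMod r) =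
        Module.finrank F M := by
  classical
  have hr : r.Prime := Fact.out
  have hy := h.pow
  have hinj : Function.Injective y := PAIRSTEPU.injective_of_pow y r hr.pos hy
  obtain ⟨hb0, -, -, -, -, -, -, -⟩ := Cfsg.Agent.S5961P.cc_arith (F := F) (p := p) r hr2 hrp
  obtain ⟨b, hb⟩ : ∃ b : ℕ, b = orderOf ((Fintype.card F : ℕ) : ZMod r) := ⟨_, rfl⟩
  have hfixle : ∀ U : Submodule F V, U ≤ M → U ⊓ LinearMap.ker (y - 1) = ⊥ := by
    intro U hU
    exact le_bot_iff.mp ((inf_le_inf_right _ hU).trans hMfix.le)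
  -- Step 1: a totally isotropic invariant subspace of dimension `b`
  have step1 : ∃ U₁ : Submodule F V, U₁ ≤ M ∧ U₁.map y ≤ U₁ ∧ OrthU B U₁ U₁ ∧
      Module.finrank F U₁ = orderOf ((Fintype.card F : ℕ) : ZMod r) := by
    rcases hcase with ⟨hnsd, hM0⟩ | hdim
    · obtain ⟨U, hUM, hU, hUfr, hUirr⟩ := exists_irr_sub (p := p) r hrp y hy M hM hM0 hMfix
      rcases irr_dichotomy_u B h.herm y h.isom hinj U hU hUirr with hti | hnd
      · exact ⟨U, hUM, hU, hti, hUfr⟩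
      · exfalso
        exact hnsd (selfdual_nt (p := p) r hr2 hrp B y h U hU hnd (hfixle U hUM) hUfr)
    · rcases exists_ti_irr_or_decomp_u (p := p) r hrp B y h M hM hMnd hMfix with
        ⟨U, hUM, hU, hti, hfr⟩ | ⟨D, E, hEM, hEinv, hEnd, hEfr, hEorth, hEind, hEsup⟩
      · exact ⟨U, hUM, hU, hti, hfr⟩
      · have hMD : Module.finrank F M = D * orderOf ((Fintype.card F : ℕ) : ZMod r) := by
          have h2' := Cfsg.Agent.Helper2.SympUnits.finrank_biSup E hEind Finset.univ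
          have h3 : (⨆ j ∈ (Finset.univ : Finset (Fin D)), E j) = ⨆ j, E j := by simp
          rw [h3, hEsup, Finset.sum_congr rfl (fun j _ => hEfr j), Finset.sum_const,
            Finset.card_univ, Fintype.card_fin, smul_eq_mul] at h2'
          exact h2'
        obtain ⟨j, j', hjj', g, hg, hgd, hgk⟩ := exists_common_poly (p := p) r hrp y hy E hEinv
          hEfr (fun j => hfixle (E j) (hEM j)) (by rw [← hMD]; exact hdim)
        have hirr := irr_of_finrank (p := p) r hrp y hy (E j) (hEinv j) (hfixle _ (hEM j)) (hEfr j)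
        have hirr' := irr_of_finrank (p := p) r hrp y hy (E j') (hEinv j') (hfixle _ (hEM j'))
          (hEfr j')
        have hE0 : E j ≠ ⊥ := by
          intro h0
          have := hEfr j
          rw [h0, finrank_bot] at this
          omega
        obtain ⟨φ, hφE, hφinj, hφy⟩ := exists_intertwiner y (E j) (E j') (hEinv j) (hEinv j')
          hirr hirr' (by rw [hEfr, hEfr]) hE0 g hg (by rw [hgd, hEfr]) hgk
        obtain ⟨ψ, hψE, hψB, hψy⟩ := exists_isometric_intertwiner B h.herm y h.isom (E j) (E j')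
          (hEinv j) (hEinv j') (hEnd j) (hEnd j') (by rw [hEfr, hEfr]) φ hφE hφinj hφy
        obtain ⟨U, hUle, hU, hti, hUfr⟩ := exists_ti_diag_u B h.herm y (E j) (E j') (hEinv j)
          (hEinv j') (hEnd j) (hEorth j j' hjj') ψ hψE hψB hψy
        exact ⟨U, hUle.trans (sup_le (hEM j) (hEM j')), hU, hti, by rw [hUfr, hEfr]⟩
  -- Step 2: split off the hyperbolic part
  obtain ⟨U₁, hU₁M, hU₁, hti, hU₁fr⟩ := step1
  obtain ⟨U', hU'M, hU', hU'fr, -, hX⟩ :=
    exists_dual_pair_u (p := p) r hrp B y h M U₁ hM hMnd hU₁M hU₁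
  obtain ⟨hdisj, hXnd⟩ := hX hti
  have hXM : U₁ ⊔ U' ≤ M := sup_le hU₁M hU'M
  have hXinv : (U₁ ⊔ U').map y ≤ U₁ ⊔ U' := by
    rw [Submodule.map_sup]
    exact sup_le_sup hU₁ hU'
  have hXdim : Module.finrank F ↥(U₁ ⊔ U') = 2 * orderOf ((Fintype.card F : ℕ) : ZMod r) := by
    have h5 := Submodule.finrank_sup_add_finrank_inf_eq U₁ U'
    rw [hdisj.eq_bot, finrank_bot, add_zero, hU'fr, hU₁fr] at h5
    omega
  obtain ⟨-, hdisjXN, hNnd, hfrsum, hXN, -, hNinv⟩ :=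
    orth_compl_u B h.herm M (U₁ ⊔ U') hXM hMnd hXnd
  refine ⟨U₁, M ⊓ perp B (U₁ ⊔ U'), hU₁M, inf_le_left, hU₁,
    hNinv y h.isom hinj hXinv hM, hti, ?_, ?_, hNnd, hU₁fr, ?_⟩
  · intro u hu v hv
    exact hXN u (Submodule.mem_sup_left hu) v hv
  · exact hdisjXN.mono_left le_sup_left
  · omega

end Cfsg.Agent.S5953P
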