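import Mathlib
import Cfsg.Prelude.Def_Classical
import Cfsg.Agent.Helper23.S5953Defs
import Cfsg.Agent.Helper22.S5953PAIRSTEPU

/-!
# S5953 piece ODDSUMU (helper22)
-/

set_option autoImplicit false
open scoped MatrixGroups Matrix

universe u

namespace Cfsg.Agent.S5953P

open Polynomial Cfsg.Agent.S5955P Cfsg.Agent.Helper28.HW Cfsg.Agent.Helper28.HermFrame

/-- ODDSUMU -/
theorem exists_ti_nsd_u {F V : Type*} [Field F] [Fintype F] [AddCommGroup V]
    [Module F V] [FiniteDimensional F V] {p : ℕ} [Fact p.Prime] [CharP F p] {q : ℕ} (r : ℕ)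
    [Fact r.Prime] (hr2 : r ≠ 2) (hrp : r ≠ p) {σ : F →+* F} (B : V →ₛₗ[σ] V →ₗ[F] F)
    (y : Module.End F V) (h : IsYU q B y r) (hnsd : orderOf (q : ZMod r) % 4 ≠ 2)
    (M : Submodule F V) (hM : M.map y ≤ M)
    (hMnd : NondegU B M) (hMfix : M ⊓ LinearMap.ker (y - 1) = ⊥) :
    2 * orderOf ((Fintype.card F : ℕ) : ZMod r) ∣ Module.finrank F M ∧
    ∀ s : ℕ, 2 * orderOf ((Fintype.card F : ℕ) : ZMod r) * s ≤ Module.finrank F M →
      ∃ U : Submodule F V, U ≤ M ∧ U.map y ≤ U ∧ OrthU B U U ∧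
        Module.finrank F U = orderOf ((Fintype.card F : ℕ) : ZMod r) * s := by
  classical
  have hr : r.Prime := Fact.out
  obtain ⟨hb0, -, -, -, -, -, -, -⟩ := Cfsg.Agent.S5961P.cc_arith (F := F) (p := p) r hr2 hrp
  obtain ⟨n, hn⟩ : ∃ n : ℕ, Module.finrank F M = n := ⟨_, rfl⟩
  induction n using Nat.strong_induction_on generalizing M with
  | _ n ih =>
    by_cases hM0 : M = ⊥
    · subst hM0
      rw [finrank_bot] at hn
      subst hn
      rw [finrank_bot]
      refine ⟨dvd_zero _, ?_⟩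
      intro s hs
      have hs0 : s = 0 := by
        rcases Nat.eq_zero_or_pos s with h0 | h0
        · exact h0
        · exfalso
          have : 0 < 2 * orderOf ((Fintype.card F : ℕ) : ZMod r) * s := by positivity
          omega
      subst hs0
      refine ⟨⊥, le_rfl, by simp, ?_, by simp⟩
      intro u hu v _
      rw [(Submodule.mem_bot F).mp hu]
      simp
    · obtain ⟨U₁, N₂, hU₁M, hN₂M, hU₁, hN₂, hti, horth, hdisj, hNnd, hU₁fr, hfr⟩ :=
        exists_ti_pair_step_u (p := p) r hr2 hrp B y h M hM hMnd hMfix (Or.inl ⟨hnsd, hM0⟩)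
      have hN₂fix : N₂ ⊓ LinearMap.ker (y - 1) = ⊥ :=
        le_bot_iff.mp ((inf_le_inf_right _ hN₂M).trans hMfix.le)
      obtain ⟨hdvd, hex⟩ := ih (Module.finrank F N₂) (by omega) N₂ hN₂ hNnd hN₂fix rfl
      refine ⟨?_, ?_⟩
      · rw [← hfr]
        exact (Nat.dvd_add_right hdvd).mpr dvd_rfl
      · intro s hs
        rcases Nat.eq_zero_or_pos s with h0 | h0
        · subst h0
          refine ⟨⊥, bot_le, by simp, ?_, by simp⟩
          intro u hu v _
          rw [(Submodule.mem_bot F).mp hu]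
          simp
        · obtain ⟨s', rfl⟩ : ∃ s', s = s' + 1 := ⟨s - 1, by omega⟩
          have hs' : 2 * orderOf ((Fintype.card F : ℕ) : ZMod r) * s' ≤ Module.finrank F N₂ := by
            have : 2 * orderOf ((Fintype.card F : ℕ) : ZMod r) * (s' + 1) =
              2 * orderOf ((Fintype.card F : ℕ) : ZMod r) * s' +
                2 * orderOf ((Fintype.card F : ℕ) : ZMod r) := by ring
            omega
          obtain ⟨U₂, hU₂N, hU₂, hti₂, hU₂fr⟩ := hex s' hs'
          have horth12 : OrthU B U₁ U₂ := fun u hu v hv => horth u hu v (hU₂N hv)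
          have horth21 : OrthU B U₂ U₁ := OrthU.symm h.herm horth12
          refine ⟨U₁ ⊔ U₂, sup_le hU₁M (hU₂N.trans hN₂M), ?_, ?_, ?_⟩
          · rw [Submodule.map_sup]
            exact sup_le_sup hU₁ hU₂
          · intro u hu v hv
            obtain ⟨u₁, hu₁, u₂, hu₂, rfl⟩ := Submodule.mem_sup.mp hu
            obtain ⟨v₁, hv₁, v₂, hv₂, rfl⟩ := Submodule.mem_sup.mp hv
            simp only [map_add, LinearMap.add_apply]
            rw [hti u₁ hu₁ v₁ hv₁, horth12 u₁ hu₁ v₂ hv₂, horth21 u₂ hu₂ v₁ hv₁,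
              hti₂ u₂ hu₂ v₂ hv₂]
            simp
          · have hd : Disjoint U₁ U₂ := hdisj.mono_right hU₂N
            have h5 := Submodule.finrank_sup_add_finrank_inf_eq U₁ U₂
            rw [hd.eq_bot, finrank_bot, add_zero, hU₁fr, hU₂fr] at h5
            rw [h5]
            ring

end Cfsg.Agent.S5953P
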