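import Mathlib
import Cfsg.Prelude.Def_Classical
import Cfsg.Agent.Helper23.S5953Defs
import Cfsg.Agent.Helper8.S5955INVSPLIT
import Cfsg.Agent.Helper18.S5953ARITHU
import Cfsg.Agent.Helper22.S5953ODDSUMU

/-!
# S5953 piece CUDVD (helper22)
-/

set_option autoImplicit false
open scoped MatrixGroups Matrix

universe u

namespace Cfsg.Agent.S5953P

open Polynomial Cfsg.Agent.S5955P Cfsg.Agent.Helper28.HW Cfsg.Agent.Helper28.HermFrame

/-- CUDVD: `cu q r` divides the dimension of a nondegenerate invariant fixed-point-free subspace -/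
theorem cu_dvd_u {F V : Type*} [Field F] [Fintype F] [AddCommGroup V]
    [Module F V] [FiniteDimensional F V] {p : ℕ} [Fact p.Prime] [CharP F p] {q : ℕ} (r : ℕ)
    [Fact r.Prime] (hr2 : r ≠ 2) (hrp : r ≠ p) {σ : F →+* F} (B : V →ₛₗ[σ] V →ₗ[F] F)
    (y : Module.End F V) (h : IsYU q B y r) (M : Submodule F V) (hM : M.map y ≤ M)
    (hMnd : NondegU B M) (hMfix : M ⊓ LinearMap.ker (y - 1) = ⊥) :
    cu q r ∣ Module.finrank F M := by
  classical
  obtain ⟨-, -, -, -, hcu, -, -⟩ := cu_arith (F := F) (p := p) (q := q) h.herm.card r hr2 hrp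
  rw [hcu]
  by_cases hsd : orderOf (q : ZMod r) % 4 = 2
  · rw [if_pos hsd]
    obtain ⟨-, hsum, hdvd⟩ := inv_split (p := p) r hrp y h.pow M hM
    rw [hMfix, finrank_bot, zero_add] at hsum
    rw [← hsum]
    exact hdvd
  · rw [if_neg hsd]
    exact (exists_ti_nsd_u (p := p) r hr2 hrp B y h hsd M hM hMnd hMfix).1

end Cfsg.Agent.S5953P
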