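import Mathlib
import Cfsg.Prelude.Def_ClassicalGeometry
import Cfsg.Agent.Helper1.S5956Defs

set_option autoImplicit false
open scoped MatrixGroups

/-! S5956 piece FRND (helper22). -/

universe u

namespace Cfsg.Agent.S5956P

open Polynomial Cfsg.Agent.Helper2.SympInvol Cfsg.Agent.Helper2.SympUnits Cfsg.Agent.S5961P
  Cfsg.Agent.S5955P Cfsg.Agent.Helper2.InvolComb

namespace FRND

variable {F V : Type*} [Field F] [AddCommGroup V] [Module F V]

/-- the vectors of a frame as one family -/
def fam {s : ℕ} (g : Fin s → V × V) : Fin s ⊕ Fin s → V :=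
  Sum.elim (fun i => (g i).1) (fun i => (g i).2)

theorem frSpan_eq {s : ℕ} (g : Fin s → V × V) :
    frSpan F g = Submodule.span F (Set.range (fam g)) := by
  unfold frSpan fam
  rw [Set.Sum.elim_range]

theorem pair_inr {B : LinearMap.BilinForm F V} (halt : ∀ v, B v v = 0) {s : ℕ} (g : HFr B s)
    (a : Fin s ⊕ Fin s → F) (j : Fin s) :
    B (∑ k, a k • fam g.1 k) (g.1 j).2 = a (Sum.inl j) := by
  classical
  rw [map_sum, LinearMap.sum_apply, Fintype.sum_sum_type]
  simp only [fam, Sum.elim_inl, Sum.elim_inr, map_smul, LinearMap.smul_apply, smul_eq_mul,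
    (g.2 _ j).2.1, (g.2 _ j).2.2, mul_zero, Finset.sum_const_zero, add_zero, mul_ite, mul_one,
    Finset.sum_ite_eq', Finset.mem_univ, if_true]

theorem pair_inl {B : LinearMap.BilinForm F V} (halt : ∀ v, B v v = 0) {s : ℕ} (g : HFr B s)
    (a : Fin s ⊕ Fin s → F) (j : Fin s) :
    B (∑ k, a k • fam g.1 k) (g.1 j).1 = -a (Sum.inr j) := by
  classical
  rw [map_sum, LinearMap.sum_apply, Fintype.sum_sum_type]
  have h1 : ∀ i, B (g.1 i).2 (g.1 j).1 = if i = j then -1 else 0 := by
    intro i
    rw [skew B halt, (g.2 j i).2.2]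
    by_cases h : i = j
    · rw [if_pos h, if_pos h.symm]
    · rw [if_neg h, if_neg (fun h' => h h'.symm), neg_zero]
  simp only [fam, Sum.elim_inl, Sum.elim_inr, map_smul, LinearMap.smul_apply, smul_eq_mul,
    (g.2 _ j).1, h1, mul_zero, Finset.sum_const_zero, zero_add, mul_ite, mul_neg, mul_one,
    Finset.sum_ite_eq', Finset.mem_univ, if_true]

theorem fam_mem {s : ℕ} (g : Fin s → V × V) (k : Fin s ⊕ Fin s) : fam g k ∈ frSpan F g := by
  rw [frSpan_eq]
  exact Submodule.subset_span ⟨k, rfl⟩

end FRND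

/-- FRND: the span of a hyperbolic frame is nondegenerate of dimension `2 s` -/
theorem frSpan_nondeg {F V : Type*} [Field F] [AddCommGroup V] [Module F V]
    [FiniteDimensional F V] (B : LinearMap.BilinForm F V) (halt : ∀ v, B v v = 0) (s : ℕ)
    (g : HFr B s) :
    Nondeg B (frSpan F g.1) ∧ Module.finrank F ↥(frSpan F g.1) = 2 * s := by
  classical
  refine ⟨?_, ?_⟩
  · intro m hm hm0
    rw [FRND.frSpan_eq, Submodule.mem_span_range_iff_exists_fun] at hm
    obtain ⟨a, rfl⟩ := hm
    have hex : ∃ k, a k ≠ 0 := by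
      by_contra hcon
      push Not at hcon
      apply hm0
      apply Finset.sum_eq_zero
      intro k _
      rw [hcon k, zero_smul]
    obtain ⟨k, hk⟩ := hex
    rcases k with j | j
    · refine ⟨(g.1 j).2, FRND.fam_mem g.1 (Sum.inr j), ?_⟩
      rw [FRND.pair_inr halt]
      exact hk
    · refine ⟨(g.1 j).1, FRND.fam_mem g.1 (Sum.inl j), ?_⟩
      rw [FRND.pair_inl halt]
      exact neg_ne_zero.mpr hk
  · have hli : LinearIndependent F (FRND.fam g.1) := by
      rw [Fintype.linearIndependent_iff]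
      intro a ha k
      rcases k with j | j
      · rw [← FRND.pair_inr halt g a j, ha, map_zero, LinearMap.zero_apply]
      · have := FRND.pair_inl halt g a j
        rw [ha, map_zero, LinearMap.zero_apply] at this
        exact neg_eq_zero.mp this.symm
    rw [FRND.frSpan_eq, finrank_span_eq_card hli, Fintype.card_sum, Fintype.card_fin]
    ring

end Cfsg.Agent.S5956P
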