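import Mathlib
import Cfsg.Prelude.Def_ClassicalGeometry
import Cfsg.Agent.Helper1.S5956Defs
import Cfsg.Agent.Helper18.S5961ISOM
import Cfsg.Agent.Helper2.SpCard

set_option autoImplicit false
open scoped MatrixGroups

/-! S5956 piece PAIRS (helper22). -/

universe u

namespace Cfsg.Agent.S5956P

open Polynomial Cfsg.Agent.Helper2.SympInvol Cfsg.Agent.Helper2.SympUnits Cfsg.Agent.S5961P
  Cfsg.Agent.S5955P Cfsg.Agent.Helper2.InvolComb

/-- PAIRS: the number of hyperbolic pairs of a nondegenerate alternating space -/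
theorem card_hyp_pairs {F V : Type*} [Field F] [Fintype F] [AddCommGroup V] [Module F V]
    [FiniteDimensional F V] (B : LinearMap.BilinForm F V) (halt : ∀ v, B v v = 0)
    (hnd : Nondeg B ⊤) (d : ℕ) (hV : Module.finrank F V = 2 * d) :
    Nat.card {p : V × V // B p.1 p.2 = 1} =
      (Fintype.card F ^ (2 * d) - 1) * Fintype.card F ^ (2 * d - 1) := by
  have hV' : Module.finrank F V = Module.finrank F (Fin d ⊕ Fin d → F) := by
    rw [hV, Module.finrank_fintype_fun_eq_card, Fintype.card_sum, Fintype.card_fin, two_mul]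
  obtain ⟨e, he⟩ := exists_isometry B (sB d F) halt (sB_alt d F) hnd (sB_nondeg d F) hV'
  have e' : {p : V × V // B p.1 p.2 = 1} ≃
      {p : Cfsg.Agent.Helper2.Sp.Pair (Fin d) F // Cfsg.Agent.Helper2.Sp.om p.1 p.2 = 1} :=
    Equiv.subtypeEquiv (Equiv.prodCongr e.toEquiv e.toEquiv) (fun p => by
      show B p.1 p.2 = 1 ↔ sB d F (e p.1) (e p.2) = 1
      rw [he])
  rw [Nat.card_congr e', Cfsg.Agent.Helper2.Sp.card_hyperbolic_pairs, Fintype.card_fin]

end Cfsg.Agent.S5956P
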