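import Mathlib
import Cfsg.Agent.Helper2.S2096.Defs
import Cfsg.Agent.Helper2.SLCard

/-! # S2096 pieces ARITH1, ARITH2 (helper22): the parameter group `Zpar n F` of the centre is cyclic
of order `gcd(4, qⁿ-1)` for odd `n`, and `(Z/g)²`, `g = gcd(2, qⁿ-1)`, for even `n > 0` -/

set_option autoImplicit false
set_option linter.unusedSectionVars false
set_option linter.unusedVariables false

namespace Cfsg.Agent.S2096P

open Matrix Cfsg.Agent.S3352P Cfsg.Agent.S3351P Cfsg.Agent.S2086P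

namespace ARITH

/-- `gcd(4, m)` only depends on `m mod 4` -/
theorem gcd_four_mod (m : ℕ) : Nat.gcd 4 m = Nat.gcd (m % 4) 4 := Nat.gcd_rec 4 m

theorem gcd_two_mod (m : ℕ) : Nat.gcd 2 m = Nat.gcd (m % 2) 2 := Nat.gcd_rec 2 m

theorem pow_mod_two (q n : ℕ) (hn : 0 < n) : q ^ n % 2 = q % 2 := by
  rw [Nat.pow_mod]
  rcases Nat.mod_two_eq_zero_or_one q with h | h
  · rw [h, zero_pow hn.ne']
    rfl
  · rw [h, one_pow]
    rfl

theorem pow_even_eq_one {G : Type*} [Monoid G] {x : G} (h : x ^ 2 = 1) {n : ℕ} (hn : Even n) :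
    x ^ n = 1 := by
  obtain ⟨m, rfl⟩ := hn
  rw [← two_mul, pow_mul, h, one_pow]

theorem pow_odd_eq_self {G : Type*} [Monoid G] {x : G} (h : x ^ 2 = 1) {n : ℕ} (hn : Odd n) :
    x ^ n = x := by
  obtain ⟨m, rfl⟩ := hn
  rw [pow_succ, pow_mul, h, one_pow, one_mul]

theorem gcd_two_pow (q n : ℕ) (hq : 1 ≤ q) (hn : 0 < n) :
    Nat.gcd 2 (q ^ n - 1) = Nat.gcd 2 (q - 1) := by
  rw [gcd_two_mod, gcd_two_mod (q - 1)]
  have h1 := pow_mod_two q n hn
  have h2 : 1 ≤ q ^ n := Nat.one_le_pow _ _ hq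
  have h3 : (q ^ n - 1) % 2 = (q - 1) % 2 := by omega
  rw [h3]

theorem nine_pow_mod (m : ℕ) : 9 ^ m % 4 = 1 := by
  rw [Nat.pow_mod]
  norm_num

theorem gcd_four_pow (q n : ℕ) (hq : 1 ≤ q) (hn : Odd n) :
    Nat.gcd 4 (q ^ n - 1) = Nat.gcd 4 (q - 1) := by
  have hn0 : 0 < n := hn.pos
  have h2 : 1 ≤ q ^ n := Nat.one_le_pow _ _ hq
  have hpar := pow_mod_two q n hn0
  rcases Nat.mod_two_eq_zero_or_one q with he | ho
  · -- `q` even: both numbers are odd
    have key : ∀ m : ℕ, m % 2 = 1 → Nat.gcd 4 m = 1 := by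
      intro m hm
      have h4 : Nat.Coprime 2 m := (Nat.coprime_two_left).mpr (Nat.odd_iff.mpr hm)
      exact Nat.Coprime.pow_left 2 h4
    rw [key _ (by omega), key _ (by omega)]
  · -- `q` odd
    obtain ⟨m, rfl⟩ := hn
    have h5 : q ^ (2 * m + 1) % 4 = q % 4 := by
      have hq4 : q % 4 = 1 ∨ q % 4 = 3 := by omega
      rw [Nat.pow_mod]
      rcases hq4 with h | h
      · rw [h, one_pow]
        rfl
      · rw [h, pow_succ, pow_mul]
        norm_num
        rw [Nat.mul_mod, nine_pow_mod]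
    rw [gcd_four_mod, gcd_four_mod (q - 1)]
    have h6 : (q ^ (2 * m + 1) - 1) % 4 = (q - 1) % 4 := by omega
    rw [h6]

theorem card_units' {F : Type*} [Field F] [Fintype F] : Nat.card Fˣ = Fintype.card F - 1 :=
  Cfsg.Agent.Helper2.card_units_field

theorem one_le_card {F : Type*} [Field F] [Fintype F] : 1 ≤ Fintype.card F :=
  Fintype.card_pos

/-- the multiplicative group of `ZMod (gcd(k, q-1))` is the group of `k`-th roots of unity -/
theorem nonempty_zmod_equiv_roots {F : Type*} [Field F] [Fintype F] (k : ℕ) :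
    Nonempty (Multiplicative (ZMod (Nat.gcd k (Fintype.card F - 1))) ≃* ↥(rootsOfUnity k F)) := by
  have hcyc : IsCyclic (rootsOfUnity k F) := Subgroup.isCyclic _
  have e := zmodCyclicMulEquiv hcyc
  have hcard : Nat.card (rootsOfUnity k F) = Nat.gcd k (Fintype.card F - 1) := by
    rw [Cfsg.Agent.Helper2.card_rootsOfUnity_field, card_units', Nat.gcd_comm]
  rw [hcard] at e
  exact ⟨e⟩

/-- for odd `n`: `Zpar n F` is the group of fourth roots of unity -/
def equivOdd {F : Type*} [Field F] (n : ℕ) (hodd : Odd n) : ↥(rootsOfUnity 4 F) ≃* ↥(Zpar n F) where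
  toFun s := ⟨(s.1 ^ 2, s.1), by
    have hs : s.1 ^ 4 = 1 := (mem_rootsOfUnity 4 s.1).mp s.2
    have hs2 : (s.1 ^ 2) ^ 2 = 1 := by rw [← pow_mul]; exact hs
    refine mem_Zpar.mpr ⟨hs2, ?_⟩
    show s.1 ^ 2 = (s.1 ^ 2) ^ n
    rw [pow_odd_eq_self hs2 hodd]⟩
  invFun p := ⟨p.1.2, by
    obtain ⟨h1, h2⟩ := mem_Zpar.mp p.2
    rw [mem_rootsOfUnity]
    rw [pow_odd_eq_self h1 hodd] at h2
    rw [show 4 = 2 * 2 from rfl, pow_mul, h2, h1]⟩
  left_inv s := by
    apply Subtype.ext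
    rfl
  right_inv p := by
    obtain ⟨h1, h2⟩ := mem_Zpar.mp p.2
    rw [pow_odd_eq_self h1 hodd] at h2
    apply Subtype.ext
    apply Prod.ext
    · exact h2
    · rfl
  map_mul' s t := by
    apply Subtype.ext
    apply Prod.ext
    · show (s.1 * t.1) ^ 2 = s.1 ^ 2 * t.1 ^ 2
      rw [mul_pow]
    · rfl

/-- for even `n`: `Zpar n F` is the square of the group of square roots of unity -/
def equivEven {F : Type*} [Field F] (n : ℕ) (heven : Even n) :
    (↥(rootsOfUnity 2 F) × ↥(rootsOfUnity 2 F)) ≃* ↥(Zpar n F) where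
  toFun s := ⟨(s.1.1, s.2.1), by
    have hs1 : s.1.1 ^ 2 = 1 := (mem_rootsOfUnity 2 s.1.1).mp s.1.2
    have hs2 : s.2.1 ^ 2 = 1 := (mem_rootsOfUnity 2 s.2.1).mp s.2.2
    refine mem_Zpar.mpr ⟨hs1, ?_⟩
    show s.2.1 ^ 2 = s.1.1 ^ n
    rw [hs2, pow_even_eq_one hs1 heven]⟩
  invFun p := (⟨p.1.1, by
      rw [mem_rootsOfUnity]
      exact (mem_Zpar.mp p.2).1⟩, ⟨p.1.2, by
      obtain ⟨h1, h2⟩ := mem_Zpar.mp p.2
      rw [mem_rootsOfUnity, h2, pow_even_eq_one h1 heven]⟩)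
  left_inv s := rfl
  right_inv p := rfl
  map_mul' s t := rfl

end ARITH

open ARITH in
/-- ARITH1 -/
theorem zpar_equiv_odd {F : Type*} [Field F] [Fintype F] (n : ℕ) (hodd : Odd n) :
    Nonempty (Multiplicative (ZMod (Nat.gcd 4 (Fintype.card F ^ n - 1))) ≃* ↥(Zpar n F)) := by
  rw [gcd_four_pow _ n one_le_card hodd]
  obtain ⟨e⟩ := nonempty_zmod_equiv_roots (F := F) 4
  exact ⟨e.trans (equivOdd n hodd)⟩

open ARITH in
/-- ARITH2 -/
theorem zpar_equiv_even {F : Type*} [Field F] [Fintype F] (n : ℕ) (hn : 0 < n) (heven : Even n) :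
    Nonempty (Multiplicative (ZMod (Nat.gcd 2 (Fintype.card F ^ n - 1)) ×
      ZMod (Nat.gcd 2 (Fintype.card F ^ n - 1))) ≃* ↥(Zpar n F)) := by
  rw [gcd_two_pow _ n one_le_card hn]
  obtain ⟨e⟩ := nonempty_zmod_equiv_roots (F := F) 2
  exact ⟨((MulEquiv.prodMultiplicative _ _).trans (MulEquiv.prodCongr e e)).trans (equivEven n heven)⟩

end Cfsg.Agent.S2096P
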