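import Mathlib
import Cfsg.Agent.Helper2.S2099.DefsA
import Cfsg.Agent.Helper2.S2099.DefsZ
import Cfsg.Agent.Helper16.S2099CONJSLQ
import Cfsg.Agent.Helper18.S2099CLYXQ

set_option autoImplicit false
set_option linter.unusedSectionVars false
set_option linter.unusedVariables false

/-! S2099 chapter A, piece LNGQ (helper22; driver helper2): changing the sign of the middle index of
a canonical commutator of lifts of long root elements (via a lift of `wY k w`). -/

namespace Cfsg.Agent.S2099P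

open Matrix Cfsg.Agent.S3352P Cfsg.Agent.S3351P Cfsg.Agent.S2096P Cfsg.Agent.S2086P
open Cfsg.Agent.S2094P (LongOK isRoot_ng_right' isRoot_ng_left')
open scoped commutatorElement

section general

variable {n : ℕ} {F : Type*} [Field F] [Fintype F] {P : Type*} [AddCommGroup P] [Module F P]
  {G : Type*} [Group G] {E : Type*} [Group E] {Q0 : QuadraticForm F P}
  {X : J n → J n → F → G} {Ys : J n → P → G} {h₀ : G} {R D : P →ₗ[F] P}

/-- LNGQ: changing the sign of the middle index -/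
theorem cl_ng (hn : 3 ≤ n) (hB : QRel Q0 X Ys) (hR : Rot Q0 X Ys h₀ R D) (ψ : E →* G)
    (hψ : Function.Surjective ψ) (hc : ψ.ker ≤ Subgroup.center E) {a k c : J n}
    (hak : IsRoot a k) (hkc : IsRoot k c) (hac : IsRoot a c) {w : P} (hw : Q0 w ≠ 0) (s t : F) :
    cl ψ hψ (X a k s) (X k c t) =
      cl ψ hψ (X a (ng k) (-(Q0 w * s))) (X (ng k) c (-((Q0 w)⁻¹ * t))) := by
  -- lifts of the three factors of `wY Q0 Ys k w`
  obtain ⟨y₁, hy₁⟩ := hψ (Ys k w)
  obtain ⟨y₂, hy₂⟩ := hψ (Ys (ng k) ((Q0 w)⁻¹ • w))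
  set ŵ : E := y₁ * y₂ * y₁ with hŵ
  have hmapW : ψ ŵ = wY Q0 Ys k w := by
    rw [hŵ, map_mul, map_mul, hy₁, hy₂]
    rfl
  -- `cl (X a k s) (X k c t)` is a lift of `X a c (s * t)`
  have hmapC : ψ (cl ψ hψ (X a k s) (X k c t)) = X a c (s * t) := by
    rw [map_cl ψ hψ, commutatorElement_def, ← cm_def, hB.dX.mul a k c hak hkc hac s t]
  -- the factors commute with this lift
  have hck : c ≠ k := hkc.1.symm
  have hcnk : c ≠ ng k := fun h => hkc.2 (by rw [h, ng_ng])
  have hank : a ≠ ng k := hak.2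
  have hak' : a ≠ k := hak.1
  have c1 : Commute y₁ (cl ψ hψ (X a k s) (X k c t)) :=
    cl_Ys_X hn hB hR ψ hψ hc (a := k) hac hck hank w (s * t) y₁ _ hy₁ hmapC
  have c2 : Commute y₂ (cl ψ hψ (X a k s) (X k c t)) :=
    cl_Ys_X hn hB hR ψ hψ hc (a := ng k) hac hcnk (by rw [ng_ng]; exact hak')
      ((Q0 w)⁻¹ • w) (s * t) y₂ _ hy₂ hmapC
  have c3 : Commute ŵ (cl ψ hψ (X a k s) (X k c t)) := (c1.mul_left c2).mul_left c1
  have key := Cfsg.Agent.S2094P.conj_cl ψ hψ hc ŵ (X a k s) (X k c t)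
  rw [hmapW, wY_conj_X_snd hB hak hw s, wY_conj_X_fst hB hkc hw t] at key
  rw [← key, c3.eq, mul_inv_cancel_right]

end general

end Cfsg.Agent.S2099P
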