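import Mathlib
import Cfsg.Agent.Helper2.S2099.DefsA
import Cfsg.Agent.Helper2.S2099.DefsZ
import Cfsg.Agent.Helper2.S3352.WConj
import Cfsg.Agent.Helper22.S2099LNGQ

set_option autoImplicit false
set_option linter.unusedSectionVars false
set_option linter.unusedVariables false

/-! S2099 chapter A, piece LBALQ (helper22; driver helper2): balancing the canonical commutator of
lifts of long root elements (LNGQ twice). -/

namespace Cfsg.Agent.S2099P

open Matrix Cfsg.Agent.S3352P Cfsg.Agent.S3351P Cfsg.Agent.S2096P Cfsg.Agent.S2086P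
open Cfsg.Agent.S2094P (LongOK isRoot_ng_right' isRoot_ng_left')
open scoped commutatorElement

section general

variable {n : ℕ} {F : Type*} [Field F] [Fintype F] {P : Type*} [AddCommGroup P] [Module F P]
  {G : Type*} [Group G] {E : Type*} [Group E] {Q0 : QuadraticForm F P}
  {X : J n → J n → F → G} {Ys : J n → P → G} {h₀ : G} {R D : P →ₗ[F] P}

namespace LBALQ

/-- the canonical commutator with `1` on the right is trivial -/
theorem cl_one_right (ψ : E →* G) (hψ : Function.Surjective ψ) (hc : ψ.ker ≤ Subgroup.center E)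
    (x : G) : cl ψ hψ x 1 = 1 := by
  obtain ⟨e, he⟩ := hψ x
  rw [← cl_eq ψ hψ hc he (map_one ψ), commutatorElement_def]
  group

/-- the canonical commutator with `1` on the left is trivial -/
theorem cl_one_left (ψ : E →* G) (hψ : Function.Surjective ψ) (hc : ψ.ker ≤ Subgroup.center E)
    (x : G) : cl ψ hψ 1 x = 1 := by
  obtain ⟨e, he⟩ := hψ x
  rw [← cl_eq ψ hψ hc (map_one ψ) he, commutatorElement_def]
  group

end LBALQ

/-- LBALQ: balancing the canonical commutator -/
theorem cl_bal (hn : 3 ≤ n) (hB : QRel Q0 X Ys) (hR : Rot Q0 X Ys h₀ R D)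
    (hsurj : ∀ μ : F, μ ≠ 0 → ∃ w : P, Q0 w = μ) (ψ : E →* G)
    (hψ : Function.Surjective ψ) (hc : ψ.ker ≤ Subgroup.center E) {a k c : J n}
    (hak : IsRoot a k) (hkc : IsRoot k c) (hac : IsRoot a c) (s u : F) :
    cl ψ hψ (X a k s) (X k c u) = cl ψ hψ (X a k (s * u)) (X k c 1) := by
  by_cases hu : u = 0
  · subst hu
    rw [mul_zero, WCONJ.X_zero hB.dX hkc, WCONJ.X_zero hB.dX hak, LBALQ.cl_one_right ψ hψ hc,
      LBALQ.cl_one_left ψ hψ hc]
  · obtain ⟨w, hw⟩ := hsurj u hu
    obtain ⟨w', hw'⟩ := hsurj 1 one_ne_zero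
    have hw0 : Q0 w ≠ 0 := by rw [hw]; exact hu
    have hw0' : Q0 w' ≠ 0 := by rw [hw']; exact one_ne_zero
    have hank : IsRoot a (ng k) := ⟨hak.2, by rw [ng_ng]; exact hak.1⟩
    have hnkc : IsRoot (ng k) c := by
      refine ⟨fun h => hkc.2 (by rw [← h, ng_ng]), fun h => hkc.1 ?_⟩
      have := congrArg ng h
      rw [ng_ng, ng_ng] at this
      exact this
    rw [cl_ng hn hB hR ψ hψ hc hak hkc hac hw0 s u,
      cl_ng hn hB hR ψ hψ hc hank hnkc hac hw0' _ _, ng_ng, hw, hw']
    congr 2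
    · ring
    · field_simp

end general

end Cfsg.Agent.S2099P
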