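import Mathlib
import Cfsg.Agent.Helper2.S2099.DefsR
import Cfsg.Agent.Helper2.S2099.DefsN
import Cfsg.Agent.Helper18.S2099NACONJQ

set_option autoImplicit false
set_option linter.unusedSectionVars false
set_option linter.unusedVariables false

/-! S2099 chapter N, piece NGENQ (helper22; driver helper2): every element of `N̂` is a product of an
element of `NA X` and an element of `CSQ ⊔ HhQ`. Port of S2094 NGENB. -/

namespace Cfsg.Agent.S2099P

open Matrix Cfsg.Agent.S3352P Cfsg.Agent.S3351P Cfsg.Agent.S2096P Cfsg.Agent.S2086P Cfsg.Agent.RGD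
open Cfsg.Agent.S2094P (RB RootB sc NgEquivariant mapB reflB MD XD XD_coe isRoot_ng_right'
  isRoot_ng_left' sw_ngEquivariant sc_ngEquivariant)

section pi

variable {n : ℕ} {F : Type*} [Field F] {κ : Type} [Fintype κ] [DecidableEq κ]
  {M : Type*} [Group M] {Q0 : QuadraticForm F (κ → F)} {X : J n → J n → F → M}
  {Ys : J n → (κ → F) → M}

/-- NGENQ -/
theorem exists_of_mem_NhQ [Fintype F] (π : M →* Matrix (IQ n κ) (IQ n κ) F)
    (hπX : ∀ a b, IsRoot a b → ∀ t : F, π (X a b t) = xmQ a b t) (hn : 3 ≤ n)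
    (hQ : QuadraticMap.Anisotropic Q0) (hB : QRel Q0 X Ys) {e₁ : κ → F} (he₁ : Q0 e₁ = 1)
    {m : M} (hm : m ∈ (datumQ Q0 X Ys).Nh) :
    ∃ ν ∈ NA X, ∃ y ∈ CSQ Q0 Ys e₁ ⊔ HhQ Q0 X Ys, m = ν * y := by
  have he₁0 : e₁ ≠ 0 := by
    rintro rfl
    rw [map_zero] at he₁
    exact zero_ne_one he₁
  unfold Datum.Nh at hm
  induction hm using Subgroup.closure_induction with
  | mem g hg =>
    rcases hg with hg | ⟨s, hs, hg⟩
    · exact ⟨1, one_mem _, g, Subgroup.mem_sup_right hg, (one_mul g).symm⟩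
    · obtain ⟨r, hr⟩ := s
      cases r with
      | lg a b =>
        obtain ⟨i, j, hij, rfl, rfl⟩ := hs
        obtain ⟨t, ht, rfl⟩ := hg
        refine ⟨_, Subgroup.subset_closure ⟨i, j, t, ?_, ht, rfl⟩, 1, one_mem _, (mul_one _).symm⟩
        intro h
        rw [h] at hij
        omega
      | sh a =>
        obtain ⟨j, hj, rfl⟩ := hs
        obtain ⟨w, hw, rfl⟩ := hg
        refine ⟨1, one_mem _, _, ?_, (one_mul _).symm⟩
        show wY Q0 Ys (Sum.inl j) w ∈ _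
        have e : wY Q0 Ys (Sum.inl j) w =
            (wY Q0 Ys (Sum.inl j) w * (wY Q0 Ys (Sum.inl j) e₁)⁻¹) * cQ Q0 Ys e₁ j := by
          unfold cQ
          rw [inv_mul_cancel_right]
        rw [e]
        apply mul_mem
        · apply Subgroup.mem_sup_right
          exact Subgroup.subset_closure (Or.inr ⟨_, w, e₁, hw, he₁0, rfl⟩)
        · apply Subgroup.mem_sup_left
          exact Subgroup.subset_closure ⟨j, rfl⟩
  | one => exact ⟨1, one_mem _, 1, one_mem _, (one_mul 1).symm⟩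
  | mul g k _ _ hg hk =>
    obtain ⟨ν₁, hν₁, y₁, hy₁, rfl⟩ := hg
    obtain ⟨ν₂, hν₂, y₂, hy₂, rfl⟩ := hk
    have hc := NA_conj_mem_Q π hπX hn hQ hB he₁ (inv_mem hν₂) hy₁
    rw [inv_inv] at hc
    refine ⟨ν₁ * ν₂, mul_mem hν₁ hν₂, ν₂⁻¹ * y₁ * ν₂ * y₂, mul_mem hc hy₂, ?_⟩
    group
  | inv g _ hg =>
    obtain ⟨ν, hν, y, hy, rfl⟩ := hg
    have hc := NA_conj_mem_Q π hπX hn hQ hB he₁ hν (inv_mem hy)
    refine ⟨ν⁻¹, inv_mem hν, ν * y⁻¹ * ν⁻¹, hc, ?_⟩
    group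

end pi

end Cfsg.Agent.S2099P
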