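import Mathlib
import Cfsg.Prelude.Def_GeometricClasses
import Cfsg.Agent.Helper2.S5886.Defs
import Cfsg.Agent.Helper22.S5886YADD

/-! S5886 piece C5 (helper22): the case `|F| = 2`, `r = 2`, `dim_K V = 2`. -/

set_option autoImplicit false

namespace Cfsg.Agent.S5886P

variable {F K V : Type*} [Field F] [Field K] [Algebra F K]
  [AddCommGroup V] [Module F V] [Module K V] [IsScalarTower F K V]

namespace C5

/-! ### the fields with 2 and 4 elements -/

theorem F_cases [Finite F] (hF : Nat.card F = 2) (c : F) : c = 0 ∨ c = 1 := by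
  classical
  haveI := Fintype.ofFinite F
  have hcard : Fintype.card F = 2 := by rw [← Nat.card_eq_fintype_card]; exact hF
  have huniv : ({0, 1} : Finset F) = Finset.univ := by
    apply Finset.eq_univ_of_card
    rw [Finset.card_pair zero_ne_one, hcard]
  have hc : c ∈ ({0, 1} : Finset F) := by rw [huniv]; exact Finset.mem_univ c
  simpa [Finset.mem_insert, Finset.mem_singleton] using hc

theorem two_eq_zero_K [Finite F] (hF : Nat.card F = 2) : (2 : K) = 0 := by
  have h1 : (1 : F) + 1 = 0 := by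
    rcases F_cases hF ((1 : F) + 1) with h | h
    · exact h
    · exfalso
      have : (1 : F) = 0 := by
        have := congrArg (fun t => t - 1) h
        simpa using this
      exact one_ne_zero this
  have h2 := congrArg (algebraMap F K) h1
  rw [map_add, map_one, map_zero] at h2
  rw [← h2]
  norm_num

theorem card_K [Finite F] [Finite K] (hF : Nat.card F = 2) (hr2 : Module.finrank F K = 2) :
    Nat.card K = 4 := by
  rw [Module.natCard_eq_pow_finrank (K := F) (V := K), hF, hr2]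
  norm_num

theorem omega_props [Finite F] [Finite K] (hF : Nat.card F = 2) (hr2 : Module.finrank F K = 2)
    (ω : K) (hω0 : ω ≠ 0) (hω1 : ω ≠ 1) :
    ω ^ 2 = ω + 1 ∧ (∀ c : K, c ^ 4 = c) ∧ ∀ x : K, x = 0 ∨ x = 1 ∨ x = ω ∨ x = ω + 1 := by
  classical
  haveI := Fintype.ofFinite K
  have hK : Fintype.card K = 4 := by rw [← Nat.card_eq_fintype_card]; exact card_K hF hr2
  have h2 : (2 : K) = 0 := two_eq_zero_K (F := F) hF
  have hneg : ∀ x : K, -x = x := by
    intro x
    have : x + x = 0 := by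
      have : x + x = 2 * x := by ring
      rw [this, h2, zero_mul]
    exact neg_eq_of_add_eq_zero_left this
  have hcube : ω ^ 3 = 1 := by
    have := FiniteField.pow_card_sub_one_eq_one ω hω0
    rw [hK] at this
    simpa using this
  have hquad : ω ^ 2 = ω + 1 := by
    have h1 : (ω - 1) * (ω ^ 2 + ω + 1) = 0 := by
      have : (ω - 1) * (ω ^ 2 + ω + 1) = ω ^ 3 - 1 := by ring
      rw [this, hcube, sub_self]
    rcases mul_eq_zero.1 h1 with hh | hh
    · exact absurd (sub_eq_zero.1 hh) hω1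
    · have : ω ^ 2 = -(ω + 1) := by
        rw [eq_neg_iff_add_eq_zero]
        rw [← hh]; ring
      rw [this, hneg]
  have hω1' : ω + 1 ≠ 0 := by
    intro hh
    apply hω1
    have : ω = -1 := eq_neg_of_add_eq_zero_left hh
    rw [this, hneg]
  refine ⟨hquad, ?_, ?_⟩
  · intro c
    have := FiniteField.pow_card c
    rw [hK] at this
    exact this
  have hdist : ({0, 1, ω, ω + 1} : Finset K).card = 4 := by
    rw [Finset.card_insert_of_notMem, Finset.card_insert_of_notMem, Finset.card_insert_of_notMem,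
      Finset.card_singleton]
    · rw [Finset.mem_singleton]
      intro hh
      have : (1 : K) = 0 := by
        have := congrArg (fun t => t - ω) hh
        simpa using this.symm
      exact one_ne_zero this
    · rw [Finset.mem_insert, Finset.mem_singleton, not_or]
      refine ⟨fun hh => hω1 hh.symm, ?_⟩
      intro hh
      apply hω0
      have := congrArg (fun t => t - 1) hh
      simpa using this.symm
    · rw [Finset.mem_insert, Finset.mem_insert, Finset.mem_singleton, not_or, not_or]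
      exact ⟨zero_ne_one, fun hh => hω0 hh.symm, fun hh => hω1' hh.symm⟩
  have huniv : ({0, 1, ω, ω + 1} : Finset K) = Finset.univ := by
    apply Finset.eq_univ_of_card
    rw [hdist, hK]
  intro x
  have hx : x ∈ ({0, 1, ω, ω + 1} : Finset K) := by rw [huniv]; exact Finset.mem_univ x
  simpa [Finset.mem_insert, Finset.mem_singleton] using hx

/-! ### coordinates with respect to a `K`-basis `(B 0, B 1)` -/

theorem decomp (B : Module.Basis (Fin 2) K V) (x : V) :
    x = B.repr x 0 • B 0 + B.repr x 1 • B 1 := by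
  conv_lhs => rw [← B.sum_repr x]
  rw [Fin.sum_univ_two]

theorem coord0 (B : Module.Basis (Fin 2) K V) (a b : K) :
    B.repr (a • B 0 + b • B 1) 0 = a := by
  simp [Finsupp.single_apply]

theorem coord1 (B : Module.Basis (Fin 2) K V) (a b : K) :
    B.repr (a • B 0 + b • B 1) 1 = b := by
  simp [Finsupp.single_apply]

theorem eq_of_comb (B : Module.Basis (Fin 2) K V) {a b a' b' : K}
    (h : a • B 0 + b • B 1 = a' • B 0 + b' • B 1) : a = a' ∧ b = b' := by
  have h0 := congrArg (fun x => B.repr x 0) h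
  have h1 := congrArg (fun x => B.repr x 1) h
  simp only [coord0, coord1] at h0 h1
  exact ⟨h0, h1⟩

/-- the `K`-linear automorphism with matrix `P` in the basis `B`, as an `F`-linear equivalence -/
noncomputable def klin (B : Module.Basis (Fin 2) K V) (P : Matrix (Fin 2) (Fin 2) K)
    (hP : IsUnit P.det) : V ≃ₗ[F] V :=
  (Matrix.toLinearEquiv B P hP).restrictScalars F

theorem klin_smul (B : Module.Basis (Fin 2) K V) (P : Matrix (Fin 2) (Fin 2) K)
    (hP : IsUnit P.det) (c : K) (x : V) :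
    klin (F := F) B P hP (c • x) = c • klin (F := F) B P hP x := by
  show (Matrix.toLinearEquiv B P hP) (c • x) = c • (Matrix.toLinearEquiv B P hP) x
  exact map_smul _ c x

theorem klin_mem (B : Module.Basis (Fin 2) K V) (P : Matrix (Fin 2) (Fin 2) K)
    (hP : IsUnit P.det) : klin (F := F) B P hP ∈ Nrm F K V := by
  refine ⟨AlgEquiv.refl, fun k x => ?_⟩
  simp only [LinearEquiv.coe_coe, AlgEquiv.coe_refl, id_eq]
  exact klin_smul B P hP k x

theorem klin_B0 (B : Module.Basis (Fin 2) K V) (P : Matrix (Fin 2) (Fin 2) K)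
    (hP : IsUnit P.det) : klin (F := F) B P hP (B 0) = P 0 0 • B 0 + P 1 0 • B 1 := by
  show (Matrix.toLinearEquiv B P hP) (B 0) = _
  rw [Matrix.toLinearEquiv_apply, Matrix.toLin_self, Fin.sum_univ_two]

theorem klin_B1 (B : Module.Basis (Fin 2) K V) (P : Matrix (Fin 2) (Fin 2) K)
    (hP : IsUnit P.det) : klin (F := F) B P hP (B 1) = P 0 1 • B 0 + P 1 1 • B 1 := by
  show (Matrix.toLinearEquiv B P hP) (B 1) = _
  rw [Matrix.toLinearEquiv_apply, Matrix.toLin_self, Fin.sum_univ_two]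

theorem klin_comb (B : Module.Basis (Fin 2) K V) (P : Matrix (Fin 2) (Fin 2) K)
    (hP : IsUnit P.det) (a b : K) :
    klin (F := F) B P hP (a • B 0 + b • B 1) =
      (P 0 0 * a + P 0 1 * b) • B 0 + (P 1 0 * a + P 1 1 * b) • B 1 := by
  rw [map_add, klin_smul, klin_smul, klin_B0, klin_B1]
  module

/-- the coordinatewise `σ`-twist in the basis `B` -/
noncomputable def frobLin (B : Module.Basis (Fin 2) K V) (σ : K ≃ₐ[F] K) : V →ₗ[F] V :=
  ((σ.toLinearMap ∘ₗ (B.coord 0).restrictScalars F).smulRight (B 0)) +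
    ((σ.toLinearMap ∘ₗ (B.coord 1).restrictScalars F).smulRight (B 1))

theorem frobLin_apply (B : Module.Basis (Fin 2) K V) (σ : K ≃ₐ[F] K) (x : V) :
    frobLin B σ x = σ (B.repr x 0) • B 0 + σ (B.repr x 1) • B 1 := by
  simp [frobLin, Module.Basis.coord_apply]

theorem frobLin_comb (B : Module.Basis (Fin 2) K V) (σ : K ≃ₐ[F] K) (a b : K) :
    frobLin B σ (a • B 0 + b • B 1) = σ a • B 0 + σ b • B 1 := by
  rw [frobLin_apply, coord0, coord1]

/-- the coordinatewise `σ`-twist as an equivalence -/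
noncomputable def frobEquiv (B : Module.Basis (Fin 2) K V) (σ : K ≃ₐ[F] K) : V ≃ₗ[F] V :=
  LinearEquiv.ofLinear (frobLin B σ) (frobLin B σ.symm)
    (by
      ext x
      rw [LinearMap.comp_apply, LinearMap.id_apply, frobLin_apply B σ.symm, frobLin_comb]
      simp only [AlgEquiv.apply_symm_apply]
      exact (decomp B x).symm)
    (by
      ext x
      rw [LinearMap.comp_apply, LinearMap.id_apply, frobLin_apply B σ, frobLin_comb]
      simp only [AlgEquiv.symm_apply_apply]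
      exact (decomp B x).symm)

theorem frobEquiv_comb (B : Module.Basis (Fin 2) K V) (σ : K ≃ₐ[F] K) (a b : K) :
    frobEquiv B σ (a • B 0 + b • B 1) = σ a • B 0 + σ b • B 1 :=
  frobLin_comb B σ a b

theorem frobEquiv_mem (B : Module.Basis (Fin 2) K V) (σ : K ≃ₐ[F] K) :
    frobEquiv B σ ∈ Nrm F K V := by
  refine ⟨σ, fun k x => ?_⟩
  simp only [LinearEquiv.coe_coe]
  rw [decomp B x, smul_add, smul_smul, smul_smul, frobEquiv_comb, frobEquiv_comb, map_mul, map_mul]
  module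


theorem comb_eq (B : Module.Basis (Fin 2) K V) {a b a' b' : K} (ha : a = a') (hb : b = b') :
    a • B 0 + b • B 1 = a' • B 0 + b' • B 1 := by rw [ha, hb]

/-- squaring as an `F`-algebra automorphism of `K` -/
noncomputable def sqEquiv (h2 : (2 : K) = 0) (hF : ∀ c : F, c = 0 ∨ c = 1)
    (h4 : ∀ c : K, c ^ 4 = c) : K ≃ₐ[F] K where
  toFun c := c ^ 2
  invFun c := c ^ 2
  left_inv c := by
    show (c ^ 2) ^ 2 = c
    rw [← pow_mul]
    exact h4 c
  right_inv c := by
    show (c ^ 2) ^ 2 = c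
    rw [← pow_mul]
    exact h4 c
  map_mul' a b := mul_pow a b 2
  map_add' a b := by
    show (a + b) ^ 2 = a ^ 2 + b ^ 2
    linear_combination (a * b) * h2
  commutes' c := by
    show (algebraMap F K c) ^ 2 = algebraMap F K c
    rcases hF c with rfl | rfl <;> simp

theorem sqEquiv_apply (h2 : (2 : K) = 0) (hF : ∀ c : F, c = 0 ∨ c = 1)
    (h4 : ∀ c : K, c ^ 4 = c) (c : K) : sqEquiv h2 hF h4 c = c ^ 2 := rfl

/-- two `F`-linear maps agreeing on `B 0, ω • B 0, B 1, ω • B 1` are equal -/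
theorem ext4 (B : Module.Basis (Fin 2) K V) (ω : K)
    (hK : ∀ x : K, x = 0 ∨ x = 1 ∨ x = ω ∨ x = ω + 1) (f g : V →ₗ[F] V)
    (h0 : f (B 0) = g (B 0)) (h1 : f (ω • B 0) = g (ω • B 0))
    (h2 : f (B 1) = g (B 1)) (h3 : f (ω • B 1) = g (ω • B 1)) : f = g := by
  have key : ∀ (c : K) (y : V), f y = g y → f (ω • y) = g (ω • y) → f (c • y) = g (c • y) := by
    intro c y hy hωy
    rcases hK c with rfl | rfl | rfl | rfl
    · rw [zero_smul, map_zero, map_zero]
    · rw [one_smul, hy]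
    · exact hωy
    · rw [add_smul, one_smul, map_add, map_add, hy, hωy]
  ext x
  rw [decomp B x, map_add, map_add, key _ _ h0 h1, key _ _ h2 h3]

theorem mem_Kline (v x : V) : x ∈ Kline (F := F) (K := K) v ↔ ∃ c : K, c • v = x := by
  unfold Kline
  rw [Submodule.restrictScalars_mem, Submodule.mem_span_singleton]

/-- conjugation of linear maps by an equivalence -/
noncomputable def cj (g : V ≃ₗ[F] V) (A : V →ₗ[F] V) : V →ₗ[F] V :=
  (g : V →ₗ[F] V) ∘ₗ A ∘ₗ (g.symm : V →ₗ[F] V)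

theorem cj_apply (g : V ≃ₗ[F] V) (A : V →ₗ[F] V) (x : V) : cj g A x = g (A (g.symm x)) := rfl

theorem cj_mul (g g' : V ≃ₗ[F] V) (A : V →ₗ[F] V) : cj (g * g') A = cj g (cj g' A) := by
  ext x
  simp only [cj_apply]
  rfl

theorem cj_one (A : V →ₗ[F] V) : cj (1 : V ≃ₗ[F] V) A = A := by
  ext x
  rfl

theorem cj_add (g : V ≃ₗ[F] V) (A A' : V →ₗ[F] V) : cj g (A + A') = cj g A + cj g A' := by
  ext x
  simp only [cj_apply, LinearMap.add_apply, map_add]

theorem cj_injective (g : V ≃ₗ[F] V) {A A' : V →ₗ[F] V} (hAA : cj g A = cj g A') : A = A' := by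
  ext x
  have := congrArg (fun T : V →ₗ[F] V => T (g x)) hAA
  simp only [cj_apply, LinearEquiv.symm_apply_apply] at this
  exact g.injective this

theorem cj_comm (g : V ≃ₗ[F] V) {A : V →ₗ[F] V} (hA : cj g A = A) (x : V) : g (A x) = A (g x) := by
  have := congrArg (fun T : V →ₗ[F] V => T (g x)) hA
  simp only [cj_apply, LinearEquiv.symm_apply_apply] at this
  exact this

/-- conjugation transports `yset` -/
theorem conj_yset (M : Subgroup (V ≃ₗ[F] V)) (L L' : Submodule F V) (g : V ≃ₗ[F] V) (hg : g ∈ M)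
    (hLL' : ∀ x, x ∈ L' ↔ g.symm x ∈ L) (A : V →ₗ[F] V) (hA : A ∈ yset M L) :
    cj g A ∈ yset M L' := by
  obtain ⟨hAu, gA, hgA, hgA'⟩ := hA
  refine ⟨⟨fun x => ?_, fun x hx => ?_⟩, g * gA * g⁻¹, M.mul_mem (M.mul_mem hg hgA) (M.inv_mem hg),
    fun x => ?_⟩
  · rw [hLL', cj_apply, LinearEquiv.symm_apply_apply]
    exact hAu.1 _
  · rw [cj_apply, hAu.2 _ ((hLL' x).mp hx), map_zero]
  · have h1 : g⁻¹ x = g.symm x := rfl
    rw [LinearEquiv.mul_apply, LinearEquiv.mul_apply, hgA', map_add, h1, LinearEquiv.apply_symm_apply,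
      cj_apply]

/-- the map `a • B 0 + b • B 1 ↦ (b + b²) • B 0 + ((a + b) + (a + b)²) • B 1` -/
noncomputable def Amap (B : Module.Basis (Fin 2) K V) (σ : K ≃ₐ[F] K) : V →ₗ[F] V :=
  (((LinearMap.id + σ.toLinearMap) ∘ₗ (B.coord 1).restrictScalars F).smulRight (B 0)) +
    (((LinearMap.id + σ.toLinearMap) ∘ₗ
      ((B.coord 0).restrictScalars F + (B.coord 1).restrictScalars F)).smulRight (B 1))

theorem Amap_comb (B : Module.Basis (Fin 2) K V) (σ : K ≃ₐ[F] K) (a b : K) :
    Amap B σ (a • B 0 + b • B 1) = (b + σ b) • B 0 + ((a + b) + σ (a + b)) • B 1 := by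
  have h0 := coord0 B a b
  have h1 := coord1 B a b
  simp only [Amap, LinearMap.add_apply, LinearMap.smulRight_apply, LinearMap.comp_apply,
    LinearMap.restrictScalars_apply, Module.Basis.coord_apply, h0, h1, LinearMap.id_apply,
    AlgEquiv.toLinearMap_apply]

/-- the `K`-linear map `a • B 0 + b • B 1 ↦ (c b) • B 0` -/
noncomputable def Bmap (B : Module.Basis (Fin 2) K V) (c : K) : V →ₗ[F] V :=
  ((LinearMap.lsmul K K c).restrictScalars F ∘ₗ (B.coord 1).restrictScalars F).smulRight (B 0)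

theorem Bmap_apply (B : Module.Basis (Fin 2) K V) (c : K) (x : V) :
    Bmap (F := F) B c x = (c * B.repr x 1) • B 0 := by
  simp [Bmap, Module.Basis.coord_apply]

theorem Bmap_comb (B : Module.Basis (Fin 2) K V) (c a b : K) :
    Bmap (F := F) B c (a • B 0 + b • B 1) = (c * b) • B 0 := by
  rw [Bmap_apply, coord1]

theorem Bmap_add (B : Module.Basis (Fin 2) K V) (c c' : K) :
    Bmap (F := F) B (c + c') = Bmap B c + Bmap B c' := by
  ext x
  rw [LinearMap.add_apply, Bmap_apply, Bmap_apply, Bmap_apply, add_mul, add_smul]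

theorem Bmap_inj (B : Module.Basis (Fin 2) K V) {c c' : K}
    (hc : Bmap (F := F) B c = Bmap (F := F) B c') : c = c' := by
  have h1 := congrArg (fun T : V →ₗ[F] V => T ((0 : K) • B 0 + (1 : K) • B 1)) hc
  simp only [Bmap_comb, mul_one] at h1
  have h2 : c • B 0 + (0 : K) • B 1 = c' • B 0 + (0 : K) • B 1 := by
    rw [h1]
  exact (eq_of_comb B h2).1

theorem Bmap_zero (B : Module.Basis (Fin 2) K V) : Bmap (F := F) B 0 = 0 := by
  ext x
  rw [Bmap_apply, zero_mul, zero_smul, LinearMap.zero_apply]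

theorem cj_zero (g : V ≃ₗ[F] V) : cj g (0 : V →ₗ[F] V) = 0 := by
  ext x
  rw [cj_apply, LinearMap.zero_apply, map_zero, LinearMap.zero_apply]

end C5

open C5 in
/-- C5 : the case `|F| = 2`, `r = 2`, `dim_K V = 2` (i.e. `ΓL₂(4) < GL₄(2)`, explicit). -/
theorem C5 [Finite F] [Finite K] [Finite V]
    (hF : Nat.card F = 2) (hr2 : Module.finrank F K = 2) (hm2 : Module.finrank K V = 2)
    (M : Subgroup (V ≃ₗ[F] V)) (hN : Nrm F K V ≤ M)
    (v : V) (k : K) (h : V ≃ₗ[F] V) (hv : v ≠ 0)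
    (hh : h ∈ M) (hhv : h v = v) (hhk : h (k • v) ∉ Kline (F := F) (K := K) v)
    (S2 : ∀ g ∈ StabPt M (Kline (F := F) (K := K) v), IsSemi (1 : K ≃ₐ[F] K) (g : V →ₗ[F] V))
    (S3 : ∀ A ∈ yset M (Kline (F := F) (K := K) v), IsSemi (1 : K ≃ₐ[F] K) A) : False := by
  classical
  have hFc : ∀ c : F, c = 0 ∨ c = 1 := F_cases hF
  have h2 : (2 : K) = 0 := two_eq_zero_K (F := F) hF
  have hk0 : k ≠ 0 := by
    intro hk
    apply hhk
    rw [hk, zero_smul, map_zero]
    exact Submodule.zero_mem _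
  have hk1 : k ≠ 1 := by
    intro hk
    apply hhk
    rw [hk, one_smul, hhv, mem_Kline]
    exact ⟨1, one_smul _ _⟩
  obtain ⟨hk2, h4, hK⟩ := omega_props hF hr2 k hk0 hk1
  have hVV : ∀ x : V, x + x = 0 := by
    intro x
    have : x + x = (2 : K) • x := by rw [two_smul]
    rw [this, h2, zero_smul]
  -- the basis `(v, w)`
  obtain ⟨w, hw⟩ : ∃ w, w = h (k • v) := ⟨_, rfl⟩
  rw [← hw] at hhk
  have hli : LinearIndependent K ![v, w] := by
    rw [LinearIndependent.pair_iff]
    intro s t hst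
    have ht : t = 0 := by
      by_contra ht
      apply hhk
      rw [mem_Kline]
      refine ⟨-(t⁻¹ * s), ?_⟩
      have h1 : t • w = -(s • v) := eq_neg_of_add_eq_zero_right hst
      calc (-(t⁻¹ * s)) • v = t⁻¹ • (-(s • v)) := by rw [neg_smul, mul_smul, smul_neg]
        _ = t⁻¹ • (t • w) := by rw [h1]
        _ = w := by rw [smul_smul, inv_mul_cancel₀ ht, one_smul]
    rw [ht, zero_smul, add_zero] at hst
    exact ⟨(smul_eq_zero.mp hst).resolve_right hv, ht⟩
  obtain ⟨B, hB0, hB1⟩ : ∃ B : Module.Basis (Fin 2) K V, B 0 = v ∧ B 1 = w := by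
    refine ⟨basisOfLinearIndependentOfCardEqFinrank hli (by rw [Fintype.card_fin, hm2]), ?_, ?_⟩
    · rw [coe_basisOfLinearIndependentOfCardEqFinrank]
      rfl
    · rw [coe_basisOfLinearIndependentOfCardEqFinrank]
      rfl
  subst hB0
  subst hB1
  -- handy rewritings
  have e10 : B 0 = (1 : K) • B 0 + (0 : K) • B 1 := by simp
  have e01 : B 1 = (0 : K) • B 0 + (1 : K) • B 1 := by simp
  have e11 : B 0 + B 1 = (1 : K) • B 0 + (1 : K) • B 1 := by simp
  have ek0 : k • B 0 = k • B 0 + (0 : K) • B 1 := by simp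
  have e0k : k • B 1 = (0 : K) • B 0 + k • B 1 := by simp
  have e00 : (0 : V) = (0 : K) • B 0 + (0 : K) • B 1 := by simp
  -- the line `L` and its image `L'`
  obtain ⟨L, hL⟩ : ∃ L : Submodule F V, L = Kline (F := F) (K := K) (B 0) := ⟨_, rfl⟩
  rw [← hL] at S2 S3 hhk
  have memL : ∀ x, x ∈ L ↔ ∃ c : K, c • B 0 = x := by
    intro x
    rw [hL]
    exact mem_Kline _ _
  obtain ⟨L', hL'⟩ : ∃ L' : Submodule F V, L' = Submodule.map (h : V →ₗ[F] V) L := ⟨_, rfl⟩
  have hLL' : ∀ x, x ∈ L' ↔ h.symm x ∈ L := by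
    intro x
    rw [hL', Submodule.mem_map]
    constructor
    · rintro ⟨y, hy, rfl⟩
      simpa using hy
    · intro hx
      exact ⟨h.symm x, hx, by simp⟩
  have hLL'2 : ∀ x, x ∈ L ↔ h x ∈ L' := by
    intro x
    rw [hLL', LinearEquiv.symm_apply_apply]
  have memL' : ∀ x, x ∈ L' ↔ x = 0 ∨ x = B 0 ∨ x = B 1 ∨ x = B 0 + B 1 := by
    intro x
    constructor
    · intro hx
      rw [hLL', memL] at hx
      obtain ⟨c, hc⟩ := hx
      have hx' : x = h (c • B 0) := by rw [hc]; simp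
      rcases hK c with rfl | rfl | rfl | rfl
      · left
        rw [hx', zero_smul, map_zero]
      · right; left
        rw [hx', one_smul, hhv]
      · right; right; left
        rw [hx', ← hw]
      · right; right; right
        rw [hx', add_smul, one_smul, map_add, ← hw, hhv, add_comm]
    · rintro (rfl | rfl | rfl | rfl)
      · exact Submodule.zero_mem _
      · rw [← hhv, ← hLL'2, memL]
        exact ⟨1, one_smul _ _⟩
      · rw [hw, ← hLL'2, memL]
        exact ⟨k, rfl⟩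
      · have : B 0 + B 1 = h ((1 + k) • B 0) := by
          rw [add_smul, one_smul, map_add, ← hw, hhv]
        rw [this, ← hLL'2, memL]
        exact ⟨1 + k, rfl⟩
  -- the structure of `yset M L`
  have hYL : ∀ A ∈ yset M L, ∃ c : K, A = Bmap (F := F) B c := by
    intro A hA
    have hsemi := S3 A hA
    have hA0 : A (B 0) = 0 := hA.1.2 _ ((memL _).mpr ⟨1, one_smul _ _⟩)
    obtain ⟨c, hc⟩ := (memL _).mp (hA.1.1 (B 1))
    refine ⟨c, ?_⟩
    ext x
    rw [Bmap_apply]
    conv_lhs => rw [decomp B x]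
    rw [map_add, hsemi, hsemi, hA0, ← hc, smul_zero, zero_add, AlgEquiv.one_apply, smul_smul, mul_comm]
  have hBy : ∀ c : K, Bmap (F := F) B c ∈ yset M L := by
    intro c
    have hdet : IsUnit (!![1, c; 0, 1] : Matrix (Fin 2) (Fin 2) K).det := by
      rw [Matrix.det_fin_two_of]
      simp
    refine ⟨⟨fun x => ?_, fun x hx => ?_⟩, klin B _ hdet, hN (klin_mem B _ hdet), fun x => ?_⟩
    · rw [Bmap_apply, memL]
      exact ⟨_, rfl⟩
    · obtain ⟨a, rfl⟩ := (memL _).mp hx
      rw [Bmap_apply]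
      simp
    · obtain ⟨a, b, hx⟩ : ∃ a b : K, x = a • B 0 + b • B 1 := ⟨_, _, decomp B x⟩
      rw [hx, klin_comb, Bmap_comb]
      simp only [Matrix.of_apply, Matrix.cons_val', Matrix.cons_val_zero, Matrix.cons_val_one,
        Matrix.cons_val_fin_one]
      module
  -- the structure of `yset M L'`
  have hY'form : ∀ A ∈ yset M L', ∃ c : K, A = cj h (Bmap (F := F) B c) := by
    intro A hA
    have h1 : cj h⁻¹ A ∈ yset M L := conj_yset M L' L h⁻¹ (M.inv_mem hh) (fun x => hLL'2 x) A hA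
    obtain ⟨c, hc⟩ := hYL _ h1
    refine ⟨c, ?_⟩
    rw [← hc, ← cj_mul, mul_inv_cancel, cj_one]
  have hY'mem : ∀ c : K, cj h (Bmap (F := F) B c) ∈ yset M L' :=
    fun c => conj_yset M L L' h hh hLL' _ (hBy c)
  have hAc_inj : ∀ c c' : K, cj h (Bmap (F := F) B c) = cj h (Bmap (F := F) B c') → c = c' :=
    fun c c' hcc => Bmap_inj B (cj_injective h hcc)
  -- the Frobenius element
  obtain ⟨σ, hσ⟩ : ∃ σ : K ≃ₐ[F] K, ∀ c, σ c = c ^ 2 := ⟨sqEquiv h2 hFc h4, fun c => rfl⟩
  obtain ⟨g0, hg0M, hg0⟩ : ∃ g0 : V ≃ₗ[F] V, g0 ∈ M ∧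
      ∀ a b : K, g0 (a • B 0 + b • B 1) = (a ^ 2) • B 0 + (b ^ 2) • B 1 := by
    refine ⟨frobEquiv B σ, hN (frobEquiv_mem B σ), fun a b => ?_⟩
    rw [frobEquiv_comb, hσ, hσ]
  have htr : ∀ a : K, a ^ 2 - a = 0 ∨ a ^ 2 - a = 1 := by
    intro a
    rcases hK a with rfl | rfl | rfl | rfl
    · left; ring
    · left; ring
    · right; linear_combination hk2
    · right; linear_combination hk2 + k * h2
  obtain ⟨A0, hA0def⟩ : ∃ A0 : V →ₗ[F] V, A0 = (g0 : V →ₗ[F] V) - LinearMap.id := ⟨_, rfl⟩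
  have hA0c : ∀ a b : K, A0 (a • B 0 + b • B 1) = (a ^ 2 - a) • B 0 + (b ^ 2 - b) • B 1 := by
    intro a b
    rw [hA0def, LinearMap.sub_apply, LinearMap.id_apply, LinearEquiv.coe_coe, hg0]
    module
  have hA0Y : A0 ∈ yset M L' := by
    refine ⟨⟨fun x => ?_, fun x hx => ?_⟩, g0, hg0M, fun x => ?_⟩
    · obtain ⟨a, b, hx⟩ : ∃ a b : K, x = a • B 0 + b • B 1 := ⟨_, _, decomp B x⟩
      rw [hx, hA0c, memL']
      rcases htr a with ha | ha <;> rcases htr b with hb | hb <;> rw [ha, hb]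
      · left; simp
      · right; right; left; simp
      · right; left; simp
      · right; right; right; simp
    · rw [memL'] at hx
      rcases hx with rfl | rfl | rfl | rfl
      · exact map_zero _
      · rw [e10, hA0c]; simp
      · rw [e01, hA0c]; simp
      · rw [e11, hA0c]; simp
    · rw [hA0def, LinearMap.sub_apply, LinearMap.id_apply, LinearEquiv.coe_coe]
      abel
  have hA0k : A0 (k • B 0) = B 0 := by
    rw [ek0, hA0c]
    have : k ^ 2 - k = 1 := by linear_combination hk2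
    rw [this]
    simp
  have hA0k' : A0 (k • B 1) = B 1 := by
    rw [e0k, hA0c]
    have : k ^ 2 - k = 1 := by linear_combination hk2
    rw [this]
    simp
  have hA0ne : A0 ≠ 0 := by
    intro h0
    rw [h0, LinearMap.zero_apply] at hA0k
    exact hv hA0k.symm
  have hLinAdd : ∀ A : V →ₗ[F] V, A + A = 0 := by
    intro A
    ext x
    rw [LinearMap.add_apply, LinearMap.zero_apply]
    exact hVV _
  obtain ⟨c₀, hc₀⟩ := hY'form A0 hA0Y
  have hc₀0 : c₀ ≠ 0 := by
    intro h0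
    apply hA0ne
    rw [hc₀, h0, Bmap_zero, cj_zero]
  -- the element `ζ` of order 3
  have hdetζ : IsUnit (!![0, 1; 1, 1] : Matrix (Fin 2) (Fin 2) K).det := by
    rw [Matrix.det_fin_two_of]
    simp
  obtain ⟨ζ, hζM, hζsmul, hζ⟩ : ∃ ζ : V ≃ₗ[F] V, ζ ∈ M ∧ (∀ (c : K) (x : V), ζ (c • x) = c • ζ x) ∧
      ∀ a b : K, ζ (a • B 0 + b • B 1) = b • B 0 + (a + b) • B 1 := by
    refine ⟨klin B _ hdetζ, hN (klin_mem B _ hdetζ), klin_smul B _ hdetζ, fun a b => ?_⟩
    rw [klin_comb]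
    simp only [Matrix.of_apply, Matrix.cons_val', Matrix.cons_val_zero, Matrix.cons_val_one,
      Matrix.cons_val_fin_one]
    module
  have hζ3 : ζ * ζ * ζ = 1 := by
    apply LinearEquiv.ext
    intro x
    obtain ⟨a, b, hx⟩ : ∃ a b : K, x = a • B 0 + b • B 1 := ⟨_, _, decomp B x⟩
    rw [hx, LinearEquiv.mul_apply, LinearEquiv.mul_apply, hζ, hζ, hζ]
    exact comb_eq B (by linear_combination b * h2) (by linear_combination (a + b) * h2)
  have hζB0 : ζ (B 0) = B 1 := by
    conv_lhs => rw [e10]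
    rw [hζ]
    simp
  have hζB1 : ζ (B 1) = B 0 + B 1 := by
    conv_lhs => rw [e01]
    rw [hζ]
    simp
  have hζB01 : ζ (B 0 + B 1) = B 0 := by
    rw [map_add, hζB0, hζB1, add_comm (B 0) (B 1), ← add_assoc, hVV, zero_add]
  have hζL' : ∀ x ∈ L', ζ x ∈ L' := by
    intro x hx
    rw [memL'] at hx
    rw [memL']
    rcases hx with rfl | rfl | rfl | rfl
    · left; exact map_zero _
    · right; right; left; exact hζB0
    · right; right; right; exact hζB1
    · right; left; exact hζB01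
  have hcjζ : ∀ A ∈ yset M L', cj ζ A ∈ yset M L' := fun A hA => YADD.conj M L' ζ hζM hζL' A hA
  have hζg0 : ∀ x, ζ (A0 x) = A0 (ζ x) := by
    intro x
    obtain ⟨a, b, hx⟩ : ∃ a b : K, x = a • B 0 + b • B 1 := ⟨_, _, decomp B x⟩
    rw [hx, hA0c, hζ, hζ, hA0c]
    exact comb_eq B rfl (by linear_combination (-(a * b)) * h2)
  have hcjζA0 : cj ζ A0 = A0 := by
    ext x
    rw [cj_apply, hζg0, LinearEquiv.apply_symm_apply]
  -- an element of `yset M L'` different from `0`, `A0` commuting with `ζ`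
  have hc₁0 : c₀ * k ≠ 0 := mul_ne_zero hc₀0 hk0
  have hc₁c₀ : c₀ * k ≠ c₀ := by
    intro hcc
    apply hk1
    have : c₀ * k = c₀ * 1 := by rw [hcc, mul_one]
    exact mul_left_cancel₀ hc₀0 this
  obtain ⟨A1, hA1def⟩ : ∃ A1 : V →ₗ[F] V, A1 = cj h (Bmap (F := F) B (c₀ * k)) := ⟨_, rfl⟩
  have hA1Y : A1 ∈ yset M L' := by rw [hA1def]; exact hY'mem _
  have hA1ne0 : A1 ≠ 0 := by
    intro h0
    apply hc₁0
    apply hAc_inj
    rw [← hA1def, h0, Bmap_zero, cj_zero]
  have hA1neA0 : A1 ≠ A0 := by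
    intro h0
    apply hc₁c₀
    apply hAc_inj
    rw [← hA1def, ← hc₀, h0]
  have hcjA1 : cj ζ A1 = A1 := by
    obtain ⟨c', hc'⟩ := hY'form _ (hcjζ A1 hA1Y)
    have hd : c' = c₀ * (c' / c₀) := by field_simp
    rcases hK (c' / c₀) with hq | hq | hq | hq
    · exfalso
      rw [hq, mul_zero] at hd
      rw [hd, Bmap_zero, cj_zero] at hc'
      apply hA1ne0
      apply cj_injective ζ
      rw [hc', cj_zero]
    · exfalso
      rw [hq, mul_one] at hd
      rw [hd, ← hc₀] at hc'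
      apply hA1neA0
      apply cj_injective ζ
      rw [hc', hcjζA0]
    · rw [hq] at hd
      rw [hc', hd, ← hA1def]
    · exfalso
      rw [hq, mul_add, mul_one] at hd
      rw [hd, Bmap_add, cj_add, ← hA1def, ← hc₀] at hc'
      -- `cj ζ A1 = A1 + A0`
      have h2' : cj ζ (cj ζ A1) = A1 := by
        rw [hc', cj_add, hc', hcjζA0, add_assoc, hLinAdd, add_zero]
      have h3' : cj ζ (cj ζ (cj ζ A1)) = A1 := by
        rw [← cj_mul, ← cj_mul, hζ3, cj_one]
      rw [h2', hc'] at h3'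
      apply hA0ne
      have : A1 + A0 = A1 + 0 := by rw [h3', add_zero]
      exact add_left_cancel this
  have hcomm : ∀ x, ζ (A1 x) = A1 (ζ x) := cj_comm ζ hcjA1
  -- classification: the values of `A1`
  have hA1B0 : A1 (B 0) = 0 := hA1Y.1.2 _ ((memL' _).mpr (Or.inr (Or.inl rfl)))
  have hA1B1 : A1 (B 1) = 0 := hA1Y.1.2 _ ((memL' _).mpr (Or.inr (Or.inr (Or.inl rfl))))
  have hA0B0 : A0 (B 0) = 0 := hA0Y.1.2 _ ((memL' _).mpr (Or.inr (Or.inl rfl)))
  have hA0B1 : A0 (B 1) = 0 := hA0Y.1.2 _ ((memL' _).mpr (Or.inr (Or.inr (Or.inl rfl))))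
  have hA1k' : A1 (k • B 1) = ζ (A1 (k • B 0)) := by
    rw [hcomm, hζsmul, hζB0]
  obtain ⟨A, hAY, hAB0, hAk0, hAB1, hAk1⟩ : ∃ A : V →ₗ[F] V, A ∈ yset M L' ∧ A (B 0) = 0 ∧
      A (k • B 0) = B 1 ∧ A (B 1) = 0 ∧ A (k • B 1) = B 0 + B 1 := by
    have hy := (memL' _).mp (hA1Y.1.1 (k • B 0))
    rcases hy with hy | hy | hy | hy
    · exfalso
      apply hA1ne0
      apply ext4 B k hK
      · rw [hA1B0, LinearMap.zero_apply]
      · rw [hy, LinearMap.zero_apply]
      · rw [hA1B1, LinearMap.zero_apply]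
      · rw [hA1k', hy, map_zero, LinearMap.zero_apply]
    · exfalso
      apply hA1neA0
      apply ext4 B k hK
      · rw [hA1B0, hA0B0]
      · rw [hy, hA0k]
      · rw [hA1B1, hA0B1]
      · rw [hA1k', hy, hζB0, hA0k']
    · refine ⟨A1, hA1Y, hA1B0, hy, hA1B1, ?_⟩
      rw [hA1k', hy, hζB1]
    · refine ⟨A0 + A1, YADD.add M L' A0 A1 hA0Y hA1Y, ?_, ?_, ?_, ?_⟩
      · rw [LinearMap.add_apply, hA0B0, hA1B0, add_zero]
      · rw [LinearMap.add_apply, hA0k, hy, ← add_assoc, hVV, zero_add]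
      · rw [LinearMap.add_apply, hA0B1, hA1B1, add_zero]
      · rw [LinearMap.add_apply, hA0k', hA1k', hy, hζB01, add_comm]
  -- `A` in coordinates
  have hAeq : A = Amap B σ := by
    apply ext4 B k hK
    · rw [hAB0, e10, Amap_comb, hσ, hσ]
      have c1 : (0 : K) + 0 ^ 2 = 0 := by ring
      have c2 : ((1 : K) + 0) + ((1 : K) + 0) ^ 2 = 0 := by linear_combination h2
      rw [c1, c2]
      simp
    · rw [hAk0, ek0, Amap_comb, hσ, hσ]
      have c1 : (0 : K) + 0 ^ 2 = 0 := by ring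
      have c2 : (k + 0) + (k + 0) ^ 2 = 1 := by linear_combination hk2 + k * h2
      rw [c1, c2]
      simp
    · rw [hAB1, e01, Amap_comb, hσ, hσ]
      have c1 : (1 : K) + 1 ^ 2 = 0 := by linear_combination h2
      have c2 : ((0 : K) + 1) + ((0 : K) + 1) ^ 2 = 0 := by linear_combination h2
      rw [c1, c2]
      simp
    · rw [hAk1, e0k, Amap_comb, hσ, hσ]
      have c1 : k + k ^ 2 = 1 := by linear_combination hk2 + k * h2
      have c2 : ((0 : K) + k) + ((0 : K) + k) ^ 2 = 1 := by linear_combination hk2 + k * h2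
      rw [c1, c2]
      simp
  obtain ⟨ρ, hρM, hρ⟩ := hAY.2
  have hρc : ∀ a b : K, ρ (a • B 0 + b • B 1) =
      (a + (b + b ^ 2)) • B 0 + (b + ((a + b) + (a + b) ^ 2)) • B 1 := by
    intro a b
    rw [hρ, hAeq, Amap_comb, hσ, hσ]
    module
  -- the two `K`-linear elements
  have hk1' : k + 1 ≠ 0 := by
    intro hh1
    apply hk1
    linear_combination hh1 - h2
  have hdet3 : IsUnit (!![k + 1, 0; 0, 1] : Matrix (Fin 2) (Fin 2) K).det := by
    rw [Matrix.det_fin_two_of]
    simpa using hk1'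
  have hdet2 : IsUnit (!![k, 0; 1, k + 1] : Matrix (Fin 2) (Fin 2) K).det := by
    rw [Matrix.det_fin_two_of]
    simpa using ⟨hk0, hk1'⟩
  obtain ⟨m3, hm3M, hm3⟩ : ∃ m3 : V ≃ₗ[F] V, m3 ∈ M ∧
      ∀ a b : K, m3 (a • B 0 + b • B 1) = ((k + 1) * a + 0 * b) • B 0 + (0 * a + 1 * b) • B 1 := by
    refine ⟨klin B _ hdet3, hN (klin_mem B _ hdet3), fun a b => ?_⟩
    rw [klin_comb]
    simp only [Matrix.of_apply, Matrix.cons_val', Matrix.cons_val_zero, Matrix.cons_val_one,
      Matrix.cons_val_fin_one]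
  obtain ⟨m2, hm2M, hm2⟩ : ∃ m2 : V ≃ₗ[F] V, m2 ∈ M ∧
      ∀ a b : K, m2 (a • B 0 + b • B 1) = (k * a + 0 * b) • B 0 + (1 * a + (k + 1) * b) • B 1 := by
    refine ⟨klin B _ hdet2, hN (klin_mem B _ hdet2), fun a b => ?_⟩
    rw [klin_comb]
    simp only [Matrix.of_apply, Matrix.cons_val', Matrix.cons_val_zero, Matrix.cons_val_one,
      Matrix.cons_val_fin_one]
  obtain ⟨T, hTdef⟩ : ∃ T : V ≃ₗ[F] V, T = ρ * m2 * ρ * m3 := ⟨_, rfl⟩
  have hTM : T ∈ M := by
    rw [hTdef]
    exact M.mul_mem (M.mul_mem (M.mul_mem hρM hm2M) hρM) hm3M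
  have hTc : ∀ a b : K, T (a • B 0 + b • B 1) = ρ (m2 (ρ (m3 (a • B 0 + b • B 1)))) := by
    intro a b
    rw [hTdef]
    rfl
  have hT10 : T ((1 : K) • B 0 + (0 : K) • B 1) = (1 : K) • B 0 + (0 : K) • B 1 := by
    rw [hTc, hm3, hρc, hm2, hρc]
    apply comb_eq B
    · linear_combination ((1)*k^4 + (9)*k^3 + (38)*k^2 + (102)*k + (205)) * hk2 + ((175)*k + (108)) * h2
    · linear_combination ((1)*k^4 + (11)*k^3 + (51)*k^2 + (140)*k + (279)) * hk2 + ((237)*k + (147)) * h2
  have hTk0 : T (k • B 0 + (0 : K) • B 1) = k • B 0 + (0 : K) • B 1 := by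
    rw [hTc, hm3, hρc, hm2, hρc]
    apply comb_eq B
    · linear_combination ((1)*k^8 + (7)*k^7 + (25)*k^6 + (64)*k^5 + (133)*k^4 + (242)*k^3 + (410)*k^2 + (673)*k + (1092)) * hk2 + ((883)*k + (546)) * h2
    · linear_combination ((1)*k^8 + (7)*k^7 + (27)*k^6 + (74)*k^5 + (160)*k^4 + (298)*k^3 + (509)*k^2 + (836)*k + (1358)) * hk2 + ((1099)*k + (679)) * h2
  have hT01 : T ((0 : K) • B 0 + (1 : K) • B 1) = (1 : K) • B 0 + k • B 1 := by
    rw [hTc, hm3, hρc, hm2, hρc]
    apply comb_eq B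
    · linear_combination ((9)) * hk2 + ((22)*k + (19)) * h2
    · linear_combination ((25)) * hk2 + ((41)*k + (30)) * h2
  have hT0k : T ((0 : K) • B 0 + k • B 1) = (k + 1) • B 0 + (k + 1) • B 1 := by
    rw [hTc, hm3, hρc, hm2, hρc]
    apply comb_eq B
    · linear_combination ((1)*k^4 + (9)*k^3 + (32)*k^2 + (67)*k + (113)) * hk2 + ((91)*k + (56)) * h2
    · linear_combination ((4)*k^4 + (24)*k^3 + (65)*k^2 + (122)*k + (205)) * hk2 + ((166)*k + (102)) * h2
  -- `T` fixes `L` pointwise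
  have hT1 : T (B 0) = B 0 := by
    conv_lhs => rw [e10]
    rw [hT10]
    exact e10.symm
  have hTk : T (k • B 0) = k • B 0 := by
    conv_lhs => rw [ek0]
    rw [hTk0]
    exact ek0.symm
  have hTL : T ∈ StabPt M L := by
    refine ⟨hTM, fun x hx => ?_⟩
    obtain ⟨c, rfl⟩ := (memL _).mp hx
    rcases hK c with rfl | rfl | rfl | rfl
    · rw [zero_smul, map_zero]
    · rw [one_smul, hT1]
    · exact hTk
    · rw [add_smul, one_smul, map_add, hTk, hT1]
  -- hence `T` is `K`-linear: contradiction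
  have hsemi := S2 T hTL k (B 1)
  rw [LinearEquiv.coe_coe, AlgEquiv.one_apply] at hsemi
  conv_lhs at hsemi => rw [e0k]
  conv_rhs at hsemi => rw [e01]
  rw [hT0k, hT01, smul_add, smul_smul, smul_smul] at hsemi
  have hfin := (eq_of_comb B hsemi).1
  apply one_ne_zero (α := K)
  linear_combination hfin

end Cfsg.Agent.S5886P
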