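import Cfsg.Agent.Helper22.GolayComb

/-!
Dodecads of the length-24 code: how octads and dodecads meet a given dodecad.
-/

set_option autoImplicit false

namespace Cfsg.Agent.Helper22.GolayComb

open Cfsg Cfsg.Agent.Helper27 Cfsg.Agent.Helper22.Design

/-- double count of `j`-subsets of `d` inside blocks -/
theorem sum_choose_inter {α : Type*} [DecidableEq α] (B : Finset (Finset α)) (d : Finset α) (j L : ℕ)
    (h : ∀ s ⊆ d, s.card = j → cnt B s = L) :
    ∑ b ∈ B, (b ∩ d).card.choose j = d.card.choose j * L := by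
  have key := Finset.sum_card_bipartiteAbove_eq_sum_card_bipartiteBelow (s := Finset.powersetCard j d) (t := B)
    (fun (s b : Finset α) => s ⊆ b)
  have hL : ∀ s ∈ Finset.powersetCard j d,
      (Finset.bipartiteAbove (fun (s b : Finset α) => s ⊆ b) B s).card = L := fun s hs => by
    obtain ⟨hsd, hsc⟩ := Finset.mem_powersetCard.mp hs
    exact h s hsd hsc
  have hR : ∀ b ∈ B, (Finset.bipartiteBelow (fun (s b : Finset α) => s ⊆ b) (Finset.powersetCard j d) b).card =
      (b ∩ d).card.choose j := fun b _ => by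
    have : Finset.bipartiteBelow (fun (s b : Finset α) => s ⊆ b) (Finset.powersetCard j d) b =
        Finset.powersetCard j (b ∩ d) := by
      ext s
      simp only [Finset.bipartiteBelow, Finset.mem_filter, Finset.mem_powersetCard, Finset.subset_inter_iff]
      tauto
    rw [this, Finset.card_powersetCard]
  rw [Finset.sum_congr rfl hL, Finset.sum_congr rfl hR, Finset.sum_const, Finset.card_powersetCard,
    smul_eq_mul] at key
  exact key.symm

theorem dodecads_ncard : dodecads.ncard = 2576 := by
  have h : countBelow (fun k => popc 24 (cw k) == 12) 4096 = 2576 := by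
    decide +kernel
  show (wordsOfWeight (golayCode : Set (GolayPt → ZMod 2)) 12).ncard = 2576
  rw [wordsOfWeight_ncard, h]

/-- the size relation for symmetric differences, in the form used below -/
theorem card_rel (a b : Finset GolayPt) : (symmDiff a b).card + 2 * (a ∩ b).card = a.card + b.card :=
  card_symmDiff_add a b

/-- an octad meets a dodecad in 2, 4 or 6 points -/
theorem octad_inter_dodecad {o d : Finset GolayPt} (ho : o ∈ octads) (hd : d ∈ dodecads) :
    (o ∩ d).card = 2 ∨ (o ∩ d).card = 4 ∨ (o ∩ d).card = 6 := by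
  have h1 := card_rel o d
  have h2 := supp_card (symmDiff_mem_supp ho.1 hd.1)
  have h3 : (o ∩ d).card ≤ 8 := ho.2 ▸ Finset.card_le_card Finset.inter_subset_left
  rw [ho.2, hd.2] at h1
  omega

/-- the number of octads meeting a dodecad in `i` points -/
noncomputable def octMeet (d : Finset GolayPt) (i : ℕ) : ℕ := (Oct.filter (fun o => (o ∩ d).card = i)).card

theorem sum_octads_split {d : Finset GolayPt} (hd : d ∈ dodecads) (f : ℕ → ℕ) :
    ∑ o ∈ Oct, f (o ∩ d).card = octMeet d 2 * f 2 + octMeet d 4 * f 4 + octMeet d 6 * f 6 := by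
  have hmaps : ∀ o ∈ Oct, (o ∩ d).card ∈ ({2, 4, 6} : Finset ℕ) := by
    intro o ho
    have := octad_inter_dodecad ((mem_Oct o).mp ho) hd
    simp only [Finset.mem_insert, Finset.mem_singleton]
    exact this
  rw [← Finset.sum_fiberwise_of_maps_to hmaps]
  have hin : ∀ i : ℕ, ∑ o ∈ Oct.filter (fun o => (o ∩ d).card = i), f (o ∩ d).card = octMeet d i * f i := by
    intro i
    rw [Finset.sum_congr rfl (fun o ho => by rw [(Finset.mem_filter.mp ho).2]), Finset.sum_const, smul_eq_mul]
    rfl
  rw [Finset.sum_insert (by decide), Finset.sum_insert (by decide), Finset.sum_singleton, hin, hin, hin]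
  ring

/-- 495 octads meet a dodecad in four points (and 132 in two, 132 in six) -/
theorem octMeet_values {d : Finset GolayPt} (hd : d ∈ dodecads) :
    octMeet d 2 = 132 ∧ octMeet d 4 = 495 ∧ octMeet d 6 = 132 := by
  have h0 := sum_choose_inter Oct d 0 759 (fun s _ hs => lam0_5824 card_golayPt octads_steiner s hs)
  have h1 := sum_choose_inter Oct d 1 253 (fun s _ hs => lam1_5824 card_golayPt octads_steiner s hs)
  have h2 := sum_choose_inter Oct d 2 77 (fun s _ hs => lam2_5824 card_golayPt octads_steiner s hs)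
  rw [sum_octads_split hd (fun i => i.choose 0), hd.2] at h0
  rw [sum_octads_split hd (fun i => i.choose 1), hd.2] at h1
  rw [sum_octads_split hd (fun i => i.choose 2), hd.2] at h2
  have e1 : Nat.choose 12 2 = 66 := by decide
  have e2 : Nat.choose 4 2 = 6 := by decide
  have e3 : Nat.choose 6 2 = 15 := by decide
  simp only [Nat.choose_zero_right, Nat.choose_one_right, Nat.choose_self, e1, e2, e3] at h0 h1 h2
  omega

/-! ### Dodecads meeting a dodecad -/

/-- the finset of dodecads -/
noncomputable abbrev Dod : Finset (Finset GolayPt) := toFin dodecads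

theorem mem_Dod (o : Finset GolayPt) : o ∈ Dod ↔ o ∈ dodecads := mem_toFin _ _

theorem dodecad_inter_card {d d' : Finset GolayPt} (hd : d ∈ dodecads) (hd' : d' ∈ dodecads) :
    (d ∩ d').card = 0 ∨ (d ∩ d').card = 4 ∨ (d ∩ d').card = 6 ∨ (d ∩ d').card = 8 ∨ (d ∩ d').card = 12 := by
  have h1 := card_rel d d'
  have h2 := supp_card (symmDiff_mem_supp hd.1 hd'.1)
  rw [hd.2, hd'.2] at h1
  omega

theorem eq_of_inter_card_twelve {d d' : Finset GolayPt} (hd : d ∈ dodecads) (hd' : d' ∈ dodecads)
    (h : (d ∩ d').card = 12) : d' = d := by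
  have h1 : d ∩ d' = d := Finset.eq_of_subset_of_card_le Finset.inter_subset_left (by rw [h, hd.2])
  have h2 : d ⊆ d' := Finset.inter_eq_left.mp h1
  exact (Finset.eq_of_subset_of_card_le h2 (by rw [hd.2, hd'.2])).symm

theorem compl_mem_dodecads {d : Finset GolayPt} (hd : d ∈ dodecads) : dᶜ ∈ dodecads :=
  ⟨compl_mem_supp hd.1, by rw [Finset.card_compl, hd.2, card_golayPt]⟩

theorem compl_inter_card (x d : Finset GolayPt) : (xᶜ ∩ d).card + (x ∩ d).card = d.card := by
  have h := Finset.card_sdiff_add_card_inter d x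
  have e : xᶜ ∩ d = d \ x := by
    ext p
    simp only [Finset.mem_inter, Finset.mem_compl, Finset.mem_sdiff]
    tauto
  rw [e, Finset.inter_comm x d]
  exact h

/-- dodecads meeting `d` in `i` points -/
noncomputable def dodMeet (d : Finset GolayPt) (i : ℕ) : Finset (Finset GolayPt) :=
  Dod.filter (fun d' => (d ∩ d').card = i)

theorem mem_dodMeet (d : Finset GolayPt) (i : ℕ) (d' : Finset GolayPt) :
    d' ∈ dodMeet d i ↔ d' ∈ dodecads ∧ (d ∩ d').card = i := by
  simp [dodMeet, mem_Dod]

theorem mem_octFilter (d : Finset GolayPt) (i : ℕ) (o : Finset GolayPt) :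
    o ∈ Oct.filter (fun o => (o ∩ d).card = i) ↔ o ∈ octads ∧ (o ∩ d).card = i := by
  simp [mem_Oct]

theorem card_dodMeet_eight {d : Finset GolayPt} (hd : d ∈ dodecads) : (dodMeet d 8).card = 495 := by
  rw [← (octMeet_values hd).2.1]
  unfold octMeet
  apply Finset.card_nbij' (fun d' => symmDiff d d') (fun o => symmDiff d o)
  · intro d' hd'
    obtain ⟨hd'd, hi⟩ := (mem_dodMeet d 8 d').mp (Finset.mem_coe.mp hd')
    rw [Finset.mem_coe, mem_octFilter]
    beta_reduce
    have hx := symmDiff_mem_supp hd.1 hd'd.1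
    have h1 := card_rel d d'
    have h2 := card_rel (symmDiff d d') d
    rw [symmDiff_comm (symmDiff d d') d, symmDiff_symmDiff_cancel_left] at h2
    rw [hd.2, hd'd.2, hi] at h1
    rw [hd.2, hd'd.2] at h2
    exact ⟨⟨hx, by omega⟩, by omega⟩
  · intro o ho
    obtain ⟨hoo, hi⟩ := (mem_octFilter d 4 o).mp (Finset.mem_coe.mp ho)
    rw [Finset.mem_coe, mem_dodMeet]
    beta_reduce
    have hx := symmDiff_mem_supp hd.1 hoo.1
    have h1 := card_rel d o
    have h2 := card_rel d (symmDiff d o)
    rw [symmDiff_symmDiff_cancel_left] at h2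
    rw [Finset.inter_comm] at hi
    rw [hd.2, hoo.2, hi] at h1
    rw [hd.2, hoo.2] at h2
    exact ⟨⟨hx, by omega⟩, by omega⟩
  · intro d' _
    exact symmDiff_symmDiff_cancel_left d d'
  · intro o _
    exact symmDiff_symmDiff_cancel_left d o

theorem card_dodMeet_four {d : Finset GolayPt} (hd : d ∈ dodecads) : (dodMeet d 4).card = 495 := by
  rw [← (octMeet_values hd).2.1]
  unfold octMeet
  apply Finset.card_nbij' (fun d' => (symmDiff d d')ᶜ) (fun o => symmDiff d oᶜ)
  · intro d' hd'
    obtain ⟨hd'd, hi⟩ := (mem_dodMeet d 4 d').mp (Finset.mem_coe.mp hd')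
    rw [Finset.mem_coe, mem_octFilter]
    beta_reduce
    have hx := symmDiff_mem_supp hd.1 hd'd.1
    have h1 := card_rel d d'
    have h2 := card_rel (symmDiff d d') d
    rw [symmDiff_comm (symmDiff d d') d, symmDiff_symmDiff_cancel_left] at h2
    have h3 := compl_inter_card (symmDiff d d') d
    rw [hd.2, hd'd.2, hi] at h1
    rw [hd.2, hd'd.2] at h2
    rw [hd.2] at h3
    refine ⟨⟨compl_mem_supp hx, ?_⟩, by omega⟩
    rw [Finset.card_compl, card_golayPt]; omega
  · intro o ho
    obtain ⟨hoo, hi⟩ := (mem_octFilter d 4 o).mp (Finset.mem_coe.mp ho)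
    rw [Finset.mem_coe, mem_dodMeet]
    beta_reduce
    have hoc := compl_mem_supp hoo.1
    have hocc : oᶜ.card = 16 := by rw [Finset.card_compl, card_golayPt, hoo.2]
    have hx := symmDiff_mem_supp hd.1 hoc
    have h1 := card_rel d oᶜ
    have h2 := card_rel d (symmDiff d oᶜ)
    rw [symmDiff_symmDiff_cancel_left] at h2
    have h3 := compl_inter_card o d
    rw [Finset.inter_comm oᶜ d] at h3
    rw [hd.2, hocc] at h1
    rw [hd.2, hocc] at h2
    rw [hd.2, hi] at h3
    exact ⟨⟨hx, by omega⟩, by omega⟩
  · intro d' _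
    simp only [compl_compl]
    exact symmDiff_symmDiff_cancel_left d d'
  · intro o _
    simp only [symmDiff_symmDiff_cancel_left, compl_compl]

theorem dodMeet_twelve {d : Finset GolayPt} (hd : d ∈ dodecads) : dodMeet d 12 = {d} := by
  ext d'
  rw [mem_dodMeet, Finset.mem_singleton]
  constructor
  · rintro ⟨hd', h⟩
    exact eq_of_inter_card_twelve hd hd' h
  · rintro rfl
    exact ⟨hd, by rw [Finset.inter_self, hd.2]⟩

theorem dodMeet_zero {d : Finset GolayPt} (hd : d ∈ dodecads) : dodMeet d 0 = {dᶜ} := by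
  ext d'
  rw [mem_dodMeet, Finset.mem_singleton]
  constructor
  · rintro ⟨hd', h⟩
    have h1 : Disjoint d d' := by
      rw [Finset.disjoint_iff_inter_eq_empty]; exact Finset.card_eq_zero.mp h
    have h2 : d' ⊆ dᶜ := by
      intro p hp
      rw [Finset.mem_compl]
      exact fun hpd => (Finset.disjoint_left.mp h1) hpd hp
    exact Finset.eq_of_subset_of_card_le h2 (by rw [(compl_mem_dodecads hd).2, hd'.2])
  · rintro rfl
    refine ⟨compl_mem_dodecads hd, ?_⟩
    rw [Finset.card_eq_zero, Finset.inter_compl]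

theorem card_dodMeet_six {d : Finset GolayPt} (hd : d ∈ dodecads) : (dodMeet d 6).card = 1584 := by
  have hmaps : ∀ d' ∈ Dod, (d ∩ d').card ∈ ({0, 4, 6, 8, 12} : Finset ℕ) := by
    intro d' hd'
    have := dodecad_inter_card hd ((mem_Dod d').mp hd')
    simp only [Finset.mem_insert, Finset.mem_singleton]
    exact this
  have h := Finset.card_eq_sum_card_fiberwise hmaps
  rw [Finset.sum_insert (by decide), Finset.sum_insert (by decide), Finset.sum_insert (by decide),
    Finset.sum_insert (by decide), Finset.sum_singleton] at h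
  have e0 : (Dod.filter (fun d' => (d ∩ d').card = 0)).card = 1 := by
    have := dodMeet_zero hd
    unfold dodMeet at this
    rw [this, Finset.card_singleton]
  have e12 : (Dod.filter (fun d' => (d ∩ d').card = 12)).card = 1 := by
    have := dodMeet_twelve hd
    unfold dodMeet at this
    rw [this, Finset.card_singleton]
  have e4 := card_dodMeet_four hd
  have e8 := card_dodMeet_eight hd
  unfold dodMeet at e4 e8 ⊢
  rw [e0, e12, e4, e8, ← ncard_eq_card, dodecads_ncard] at h
  omega

end Cfsg.Agent.Helper22.GolayComb
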