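import Cfsg.Agent.Helper27.M12
import Cfsg.Agent.Helper22.GolayDodecad

/-!
Orbits of the stabiliser of a dodecad on dodecads, by descent certificates.
-/

set_option autoImplicit false

namespace Cfsg.Agent.Helper22.OrbitDod

open Cfsg Cfsg.Agent.Helper27
open scoped Pointwise

/-- two masks with a property certified by descent lie in one orbit -/
theorem same_orbit_of_desc {H : Subgroup (Equiv.Perm GolayPt)} {cert : List ℕ → Bool} (hc : CertSound H cert)
    {gens : List (List ℕ)} {P : ℕ → Bool} {dmin : ℕ} (hdesc : descOKH cert gens P dmin = true)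
    {a a' : ℕ} (ha : cw (a % 4096) = a) (hPa : P a = true) (ha' : cw (a' % 4096) = a') (hPa' : P a' = true) :
    ∃ h ∈ H, h • maskSet a = maskSet a' := by
  obtain ⟨h1, hh1, e1⟩ := descent_soundH hc hdesc a ha hPa
  obtain ⟨h2, hh2, e2⟩ := descent_soundH hc hdesc a' ha' hPa'
  refine ⟨h2⁻¹ * h1, H.mul_mem (H.inv_mem hh2) hh1, ?_⟩
  rw [mul_smul, e1, ← e2, inv_smul_smul]

/-- dodecad masks meeting the standard dodecad in `i` points -/
def dodP (i : ℕ) (n : ℕ) : Bool := (popc 24 n == 12) && (popc 24 (n &&& dod0) == i)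

/-- descent elements for intersection size 0 -/
def dodGens0 : List (List ℕ) := [
]

theorem dodDesc0 : descOKH cert12 dodGens0 (dodP 0) 16748578 = true := by decide +kernel

/-- descent elements for intersection size 4 -/
def dodGens4 : List (List ℕ) := [
  [0,18,8,10,13,16,11,4,9,14,2,6,15,7,3,17,23,12,1,5,19,20,22,21],
  [13,12,3,8,10,20,2,9,6,0,4,14,17,7,11,5,16,21,15,19,18,1,22,23],
  [13,5,4,14,10,19,7,11,3,2,9,0,18,8,6,17,16,1,12,22,15,20,21,23],
  [7,1,13,14,6,12,4,3,11,10,2,8,16,9,0,5,15,20,19,17,18,21,22,23],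
  [0,16,10,7,6,18,14,3,13,2,11,8,19,9,4,15,21,5,17,1,12,20,23,22],
  [0,17,9,4,3,12,14,7,8,2,11,10,5,13,6,19,20,1,18,15,16,21,22,23],
  [11,16,7,13,10,18,0,4,6,14,2,9,17,8,3,15,20,5,1,12,19,23,22,21]]

theorem dodDesc4 : descOKH cert12 dodGens4 (dodP 4) 1038375 = true := by decide +kernel

/-- descent elements for intersection size 6 -/
def dodGens6 : List (List ℕ) := [
  [3,5,0,10,13,12,14,9,11,4,2,8,16,7,6,15,1,17,23,18,20,21,19,22],
  [8,5,2,9,0,16,7,11,3,4,14,10,15,13,6,22,19,1,12,17,18,21,20,23],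
  [6,12,10,7,14,15,4,3,13,11,8,9,20,2,0,17,1,18,5,19,16,21,22,23],
  [0,5,2,6,7,19,4,3,13,10,8,11,18,9,14,1,12,16,17,15,21,20,23,22],
  [13,19,0,10,11,16,9,2,3,4,14,7,1,6,8,20,12,17,5,15,18,21,23,22],
  [14,1,2,7,6,15,4,3,8,9,13,11,16,10,0,5,12,18,17,19,20,21,23,22],
  [8,18,14,7,0,17,11,9,10,2,4,13,12,3,6,5,15,1,19,21,22,16,20,23],
  [7,17,4,10,13,12,6,11,9,0,2,8,16,3,14,18,1,5,22,15,20,19,21,23],
  [2,5,8,4,3,19,7,11,0,9,13,10,1,14,6,12,16,15,22,17,18,23,20,21]]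

theorem dodDesc6 : descOKH cert12 dodGens6 (dodP 6) 236787 = true := by decide +kernel

/-- descent elements for intersection size 8 -/
def dodGens8 : List (List ℕ) := [
  [8,19,3,2,10,15,14,7,4,6,13,11,21,9,0,12,20,1,17,18,5,22,23,16],
  [8,16,14,0,3,18,10,6,11,7,9,2,17,4,13,20,12,5,22,19,15,21,23,1],
  [14,17,2,4,3,19,9,8,13,10,7,0,15,6,11,1,18,5,16,12,21,23,22,20],
  [9,20,3,0,4,16,14,6,8,2,10,7,18,13,11,12,5,15,17,1,22,23,19,21],
  [9,12,10,2,7,1,6,13,4,8,14,0,15,3,11,16,18,17,21,23,22,20,19,5],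
  [7,17,3,4,11,1,8,9,6,2,0,14,5,10,13,16,12,23,19,18,22,20,15,21],
  [9,5,13,10,0,12,4,3,8,14,2,11,16,7,6,1,15,23,17,19,22,21,18,20],
  [8,15,3,4,0,1,7,6,9,2,11,14,12,13,10,18,5,20,19,16,22,23,17,21],
  [14,5,2,0,9,16,4,11,3,7,8,13,15,10,6,1,23,22,18,17,12,20,21,19],
  [4,17,9,13,10,15,14,3,0,7,8,6,12,11,2,16,21,5,1,18,22,19,20,23],
  [11,1,13,8,2,17,14,4,0,6,3,9,5,7,10,15,22,18,23,20,19,16,12,21]]

theorem dodDesc8 : descOKH cert12 dodGens8 (dodP 8) 57274 = true := by decide +kernel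

/-- descent elements for intersection size 12 -/
def dodGens12 : List (List ℕ) := [
]

theorem dodDesc12 : descOKH cert12 dodGens12 (dodP 12) 28637 = true := by decide +kernel


theorem dod_same_orbit {a a' : ℕ} (ha : cw (a % 4096) = a) (ha' : cw (a' % 4096) = a') (hp : popc 24 a = 12)
    (hp' : popc 24 a' = 12) (hi : popc 24 (a &&& dod0) = popc 24 (a' &&& dod0))
    (hcases : popc 24 (a &&& dod0) = 0 ∨ popc 24 (a &&& dod0) = 4 ∨ popc 24 (a &&& dod0) = 6 ∨
      popc 24 (a &&& dod0) = 8 ∨ popc 24 (a &&& dod0) = 12) :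
    ∃ h ∈ stabP (maskSet dod0), h • maskSet a = maskSet a' := by
  rcases hcases with h | h | h | h | h
  · exact same_orbit_of_desc certSound12 dodDesc0 ha (by simp [dodP, hp, h]) ha' (by simp [dodP, hp', ← hi, h])
  · exact same_orbit_of_desc certSound12 dodDesc4 ha (by simp [dodP, hp, h]) ha' (by simp [dodP, hp', ← hi, h])
  · exact same_orbit_of_desc certSound12 dodDesc6 ha (by simp [dodP, hp, h]) ha' (by simp [dodP, hp', ← hi, h])
  · exact same_orbit_of_desc certSound12 dodDesc8 ha (by simp [dodP, hp, h]) ha' (by simp [dodP, hp', ← hi, h])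
  · exact same_orbit_of_desc certSound12 dodDesc12 ha (by simp [dodP, hp, h]) ha' (by simp [dodP, hp', ← hi, h])

/-- two dodecads meeting a dodecad in equally many points lie in one orbit of its stabiliser -/
theorem dodecad_stab_orbit {d d' d'' : Finset GolayPt} (hd : d ∈ dodecads) (hd' : d' ∈ dodecads)
    (hd'' : d'' ∈ dodecads) (h : (d ∩ d').card = (d ∩ d'').card) :
    ∃ g : Equiv.Perm GolayPt, g ∈ M24 ∧ g • d = d ∧ g • d' = d'' := by
  obtain ⟨g0, hg0, hg0d⟩ := exists_smul_eq_dod0 hd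
  have hd1 : g0 • d' ∈ dodecads := smul_wordsOfWeight_mem hg0 hd'
  have hd2 : g0 • d'' ∈ dodecads := smul_wordsOfWeight_mem hg0 hd''
  obtain ⟨m', hm', hpop', e'⟩ := exists_mask_of_mem_wordsOfWeight hd1
  obtain ⟨m'', hm'', hpop'', e''⟩ := exists_mask_of_mem_wordsOfWeight hd2
  have hi' : popc 24 (m' &&& dod0) = (d ∩ d').card := by
    rw [← card_maskSet, maskSet_and, ← e', ← hg0d, ← Finset.smul_finset_inter, Finset.card_smul_finset,
      Finset.inter_comm]
  have hi'' : popc 24 (m'' &&& dod0) = (d ∩ d'').card := by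
    rw [← card_maskSet, maskSet_and, ← e'', ← hg0d, ← Finset.smul_finset_inter, Finset.card_smul_finset,
      Finset.inter_comm]
  have hcases := Cfsg.Agent.Helper22.GolayComb.dodecad_inter_card hd hd'
  rw [← hi'] at hcases
  obtain ⟨k, hk, hkm⟩ := dod_same_orbit hm' hm'' hpop' hpop'' (by rw [hi', hi'', h]) hcases
  obtain ⟨hkM, hkd⟩ := (mem_stabP _ k).mp hk
  refine ⟨g0⁻¹ * k * g0, M24.mul_mem (M24.mul_mem (M24.inv_mem hg0) hkM) hg0, ?_, ?_⟩
  · rw [mul_smul, mul_smul, hg0d, hkd, ← hg0d, inv_smul_smul]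
  · rw [mul_smul, mul_smul, e', hkm, ← e'', inv_smul_smul]

end Cfsg.Agent.Helper22.OrbitDod
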