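import Cfsg.Agent.Helper27.M12Hexads
import Cfsg.Agent.Helper27.M24Trans
import Cfsg.Agent.Helper27.M12
import Cfsg.Agent.Helper22.OrbitDod

/-!
Tools for "rank" statements about `Cfsg.M24`: stabilisers of a set of points and some points (flags), membership
certificates for them, counting of codeword supports with a Boolean property, transport by group elements.
-/

set_option autoImplicit false

namespace Cfsg.Agent.Helper22.Flag

open Cfsg Cfsg.Agent.Helper27 Cfsg.Agent.Helper22.OrbitDod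
open scoped Pointwise

/-- the stabiliser in `M24` of the set `maskSet a` and of the points with indices in `fixed` -/
def flagH (a : ℕ) (fixed : List ℕ) : Subgroup (Equiv.Perm GolayPt) := fixH (stabP (maskSet a)) (ptsOf fixed)

theorem mem_flagH {a : ℕ} {fixed : List ℕ} (_hfix : ∀ f ∈ fixed, f < 24) (g : Equiv.Perm GolayPt) :
    g ∈ flagH a fixed ↔ g ∈ M24 ∧ g • maskSet a = maskSet a ∧ ∀ f ∈ fixed, g (pt f) = pt f := by
  rw [flagH, mem_fixH, mem_stabP]
  constructor
  · rintro ⟨⟨h1, h2⟩, h3⟩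
    exact ⟨h1, h2, fun f hf => h3 _ ((mem_ptsOf fixed _).mpr ⟨f, hf, rfl⟩)⟩
  · rintro ⟨h1, h2, h3⟩
    refine ⟨⟨h1, h2⟩, ?_⟩
    intro q hq
    obtain ⟨f, hf, rfl⟩ := (mem_ptsOf fixed q).mp hq
    exact h3 f hf

/-- membership test for `flagH a fixed` -/
def certF (a : ℕ) (fixed : List ℕ) (T : List ℕ) : Bool :=
  tblInCode T && (applyTbl T a == a) && fixed.all (fun f => T.getD f 0 == f)

theorem certSoundF (a : ℕ) {fixed : List ℕ} (hfix : ∀ f ∈ fixed, f < 24) : CertSound (flagH a fixed) (certF a fixed) := by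
  intro T hv h
  simp only [certF, Bool.and_eq_true, beq_iff_eq, List.all_eq_true] at h
  obtain ⟨⟨h1, h2⟩, h3⟩ := h
  rw [mem_flagH hfix]
  refine ⟨tblPerm_mem_M24 T hv h1, ?_, ?_⟩
  · have e1 := maskSet_applyTbl hv a
    rw [h2] at e1
    have e2 : tblPerm T hv • maskSet a = tblPerm T hv • ((tblPerm T hv)⁻¹ • maskSet a) :=
      congrArg (fun s => tblPerm T hv • s) e1
    rw [smul_inv_smul] at e2
    exact e2
  · intro f hf
    rw [tblPerm_pt T hv (hfix f hf), h3 f hf]

/-! ### Counting -/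

theorem wordsOfWeight_smul_iff {g : Equiv.Perm GolayPt} (hg : g ∈ M24) (w : ℕ) (b : Finset GolayPt) :
    g • b ∈ wordsOfWeight (golayCode : Set (GolayPt → ZMod 2)) w ↔
      b ∈ wordsOfWeight (golayCode : Set (GolayPt → ZMod 2)) w := by
  constructor
  · intro h
    have := smul_wordsOfWeight_mem (M24.inv_mem hg) h
    rwa [inv_smul_smul] at this
  · exact smul_wordsOfWeight_mem hg

theorem octads_smul_iff {g : Equiv.Perm GolayPt} (hg : g ∈ M24) (b : Finset GolayPt) :
    g • b ∈ octads ↔ b ∈ octads := wordsOfWeight_smul_iff hg 8 b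

theorem dodecads_smul_iff {g : Equiv.Perm GolayPt} (hg : g ∈ M24) (b : Finset GolayPt) :
    g • b ∈ dodecads ↔ b ∈ dodecads := wordsOfWeight_smul_iff hg 12 b

theorem card_inter_smul (g : Equiv.Perm GolayPt) (a b : Finset GolayPt) : (g • a ∩ g • b).card = (a ∩ b).card := by
  rw [← Finset.smul_finset_inter, Finset.card_smul_finset]

theorem mem_smul_iff (g : Equiv.Perm GolayPt) (x : GolayPt) (b : Finset GolayPt) : g x ∈ g • b ↔ x ∈ b :=
  mem_smul_finset_perm g b x

/-- transport of a family of sets of points by a permutation -/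
theorem ncard_smul_set (g : Equiv.Perm GolayPt) (A A' : Set (Finset GolayPt)) (h : ∀ b, b ∈ A ↔ g • b ∈ A') :
    A.ncard = A'.ncard := by
  have : A' = (fun b => g • b) '' A := by
    ext b'
    simp only [Set.mem_image]
    constructor
    · intro hb'
      refine ⟨g⁻¹ • b', ?_, smul_inv_smul g b'⟩
      rw [h, smul_inv_smul]
      exact hb'
    · rintro ⟨b, hb, rfl⟩
      exact (h b).mp hb
  rw [this, Set.ncard_image_of_injective _ (MulAction.injective g)]

/-- the number of codeword supports of weight `w` with a property computed on masks -/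
theorem ncard_std (w : ℕ) (R : Finset GolayPt → Prop) (P : ℕ → Bool) (h : ∀ n, R (maskSet n) ↔ P n = true) :
    {b : Finset GolayPt | b ∈ wordsOfWeight (golayCode : Set (GolayPt → ZMod 2)) w ∧ R b}.ncard =
      countBelow (fun k => (popc 24 (cw k) == w) && P (cw k)) 4096 := by
  rw [← ncard_codeword_masks (fun n => (popc 24 n == w) && P n)]
  congr 1
  ext b
  simp only [Set.mem_ofPred_eq, Bool.and_eq_true, beq_iff_eq]
  constructor
  · rintro ⟨hb, hR⟩
    obtain ⟨k, hk, hpop, rfl⟩ := (mem_wordsOfWeight_iff w b).mp hb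
    exact ⟨k, hk, ⟨hpop, (h _).mp hR⟩, rfl⟩
  · rintro ⟨k, hk, ⟨hpop, hP⟩, rfl⟩
    exact ⟨(mem_wordsOfWeight_iff w _).mpr ⟨k, hk, hpop, rfl⟩, (h _).mpr hP⟩

theorem pt_mem_maskSet {j : ℕ} (hj : j < 24) (n : ℕ) : pt j ∈ maskSet n ↔ n.testBit j = true := by
  rw [mem_maskSet, idx_pt hj]

theorem card_inter_maskSet (a n : ℕ) : (maskSet a ∩ maskSet n).card = popc 24 (a &&& n) := by
  rw [← maskSet_and, card_maskSet]

/-! ### Five points of a set, starting with prescribed ones -/

theorem exists_five_with_one {s : Finset GolayPt} (h : 5 ≤ s.card) {a : GolayPt} (ha : a ∈ s) :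
    ∃ x : Fin 5 → GolayPt, Function.Injective x ∧ (∀ i, x i ∈ s) ∧ x 0 = a := by
  classical
  have h4 : 4 ≤ (s.erase a).card := by rw [Finset.card_erase_of_mem ha]; omega
  obtain ⟨t, hts, htc⟩ := Finset.exists_subset_card_eq h4
  let e := (Finset.equivFinOfCardEq htc).symm
  refine ⟨Fin.cons a (fun i => (e i).1), ?_, ?_, by simp⟩
  · rw [Fin.cons_injective_iff]
    constructor
    · rintro ⟨i, hi⟩
      have : (e i).1 ∈ s.erase a := hts (e i).2
      have hi' : (e i).1 = a := hi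
      rw [hi'] at this
      exact (Finset.notMem_erase a s) this
    · intro i j hij
      exact e.injective (Subtype.ext hij)
  · intro i
    refine Fin.cases ?_ (fun j => ?_) i
    · simpa using ha
    · simp only [Fin.cons_succ]
      exact Finset.mem_of_mem_erase (hts (e j).2)

theorem exists_five_with_two {s : Finset GolayPt} (h : 5 ≤ s.card) {a b : GolayPt} (ha : a ∈ s) (hb : b ∈ s)
    (hab : a ≠ b) :
    ∃ x : Fin 5 → GolayPt, Function.Injective x ∧ (∀ i, x i ∈ s) ∧ x 0 = a ∧ x 1 = b := by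
  classical
  have hb' : b ∈ s.erase a := Finset.mem_erase.mpr ⟨hab.symm, hb⟩
  have h3 : 3 ≤ ((s.erase a).erase b).card := by
    rw [Finset.card_erase_of_mem hb', Finset.card_erase_of_mem ha]; omega
  obtain ⟨t, hts, htc⟩ := Finset.exists_subset_card_eq h3
  let e := (Finset.equivFinOfCardEq htc).symm
  have hmem : ∀ i, (e i).1 ∈ s ∧ (e i).1 ≠ a ∧ (e i).1 ≠ b := by
    intro i
    have h1 := hts (e i).2
    rw [Finset.mem_erase, Finset.mem_erase] at h1
    exact ⟨h1.2.2, h1.2.1, h1.1⟩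
  refine ⟨Fin.cons a (Fin.cons b (fun i => (e i).1)), ?_, ?_, by simp, by simp⟩
  · rw [Fin.cons_injective_iff]
    constructor
    · rintro ⟨i, hi⟩
      revert hi
      refine Fin.cases ?_ (fun j => ?_) i
      · simp only [Fin.cons_zero]
        exact fun h => hab h.symm
      · simp only [Fin.cons_succ]
        exact fun h => (hmem j).2.1 h
    · rw [Fin.cons_injective_iff]
      constructor
      · rintro ⟨i, hi⟩
        exact (hmem i).2.2 hi
      · intro i j hij
        exact e.injective (Subtype.ext hij)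
  · intro i
    refine Fin.cases ?_ (fun j => ?_) i
    · simpa using ha
    · simp only [Fin.cons_succ]
      refine Fin.cases ?_ (fun k => ?_) j
      · simpa using hb
      · simp only [Fin.cons_succ]
        exact (hmem k).1

/-- `M24` is transitive on pairs (octad, point of it) -/
theorem exists_M24_octad_pt {o o0 : Finset GolayPt} (ho : o ∈ octads) (ho0 : o0 ∈ octads) {x x0 : GolayPt}
    (hx : x ∈ o) (hx0 : x0 ∈ o0) : ∃ g ∈ M24, g • o = o0 ∧ g x = x0 := by
  obtain ⟨u, hu, huo, hu0⟩ := exists_five_with_one (by rw [ho.2]; norm_num) hx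
  obtain ⟨v, hv, hvo, hv0⟩ := exists_five_with_one (by rw [ho0.2]; norm_num) hx0
  obtain ⟨g, hg, hgx⟩ := exists_M24_map_five u v hu hv
  refine ⟨g, hg, smul_octad_eq hg ho ho0 u hu huo (fun i => by rw [hgx]; exact hvo i), ?_⟩
  rw [← hu0, hgx, hv0]

/-- `M24` is transitive on triples (octad, two points of it) -/
theorem exists_M24_octad_two {o o0 : Finset GolayPt} (ho : o ∈ octads) (ho0 : o0 ∈ octads) {x y x0 y0 : GolayPt}
    (hx : x ∈ o) (hy : y ∈ o) (hxy : x ≠ y) (hx0 : x0 ∈ o0) (hy0 : y0 ∈ o0) (hxy0 : x0 ≠ y0) :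
    ∃ g ∈ M24, g • o = o0 ∧ g x = x0 ∧ g y = y0 := by
  obtain ⟨u, hu, huo, hu0, hu1⟩ := exists_five_with_two (by rw [ho.2]; norm_num) hx hy hxy
  obtain ⟨v, hv, hvo, hv0, hv1⟩ := exists_five_with_two (by rw [ho0.2]; norm_num) hx0 hy0 hxy0
  obtain ⟨g, hg, hgx⟩ := exists_M24_map_five u v hu hv
  refine ⟨g, hg, smul_octad_eq hg ho ho0 u hu huo (fun i => by rw [hgx]; exact hvo i), ?_, ?_⟩
  · rw [← hu0, hgx, hv0]
  · rw [← hu1, hgx, hv1]

/-! ### Conjugating back from the standard flag -/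

theorem conj_flag {a : ℕ} {fixed : List ℕ} (hfix : ∀ f ∈ fixed, f < 24) {g0 k : Equiv.Perm GolayPt} (hg0 : g0 ∈ M24)
    (hk : k ∈ flagH a fixed) :
    (g0⁻¹ * k * g0) ∈ M24 ∧ (∀ o : Finset GolayPt, g0 • o = maskSet a → (g0⁻¹ * k * g0) • o = o) ∧
      (∀ f ∈ fixed, ∀ x, g0 x = pt f → (g0⁻¹ * k * g0) x = x) ∧
      (∀ b b' : Finset GolayPt, k • (g0 • b) = g0 • b' → (g0⁻¹ * k * g0) • b = b') := by
  obtain ⟨hkM, hka, hkf⟩ := (mem_flagH hfix k).mp hk
  refine ⟨M24.mul_mem (M24.mul_mem (M24.inv_mem hg0) hkM) hg0, ?_, ?_, ?_⟩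
  · intro o ho
    rw [mul_smul, mul_smul, ho, hka, ← ho, inv_smul_smul]
  · intro f hf x hx
    rw [Equiv.Perm.mul_apply, Equiv.Perm.mul_apply, hx, hkf f hf, ← hx]
    simp
  · intro b b' h
    rw [mul_smul, mul_smul, h, inv_smul_smul]

/-- an octad meets an octad in 0, 2, 4 or 8 points -/
theorem octad_inter_cases {o o' : Finset GolayPt} (ho : o ∈ octads) (ho' : o' ∈ octads) :
    (o ∩ o').card = 0 ∨ (o ∩ o').card = 2 ∨ (o ∩ o').card = 4 ∨ (o ∩ o').card = 8 := by
  have h1 := Cfsg.Agent.Helper22.GolayComb.card_rel o o'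
  have h2 := Cfsg.Agent.Helper22.GolayComb.supp_card
    (Cfsg.Agent.Helper22.GolayComb.symmDiff_mem_supp ho.1 ho'.1)
  have h3 : (o ∩ o').card ≤ 8 := ho.2 ▸ Finset.card_le_card Finset.inter_subset_left
  rw [ho.2, ho'.2] at h1
  omega

theorem maskSet_oct5_mem : maskSet oct5 ∈ octads := maskSet_mem_octads isOct_oct5

end Cfsg.Agent.Helper22.Flag
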