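import Cfsg.Agent.Helper21.S2287DEFS
import Cfsg.Agent.Helper21.S2286FIN

/-! # S2287 piece MAT3 (helper22): matrix lemmas in `SL(3,F)` -/

set_option autoImplicit false

namespace Cfsg.Agent.Helper21.S2287
open Multiplicative Cfsg.Agent.Helper21.S2286

section mat
variable {F : Type*} [Field F]
namespace MAT3

theorem xm_val (k l : Fin 3) (a : F) (i j : Fin 3) :
    (xm k l a).1 i j = (if i = j then 1 else 0) + (if k ≠ l ∧ i = k ∧ j = l then a else 0) := by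
  unfold xm
  by_cases hkl : k = l
  · subst hkl
    simp [Matrix.one_apply]
  · rw [dif_pos hkl]
    simp only [Matrix.SpecialLinearGroup.transvection, Matrix.transvection, Matrix.add_apply,
      Matrix.one_apply, Matrix.single_apply]
    congr 1
    have h1 : (k = i ∧ l = j) ↔ (i = k ∧ j = l) :=
      ⟨fun h => ⟨h.1.symm, h.2.symm⟩, fun h => ⟨h.1.symm, h.2.symm⟩⟩
    have h2 : (k ≠ l ∧ i = k ∧ j = l) ↔ (i = k ∧ j = l) := ⟨fun h => h.2, fun h => ⟨hkl, h⟩⟩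
    simp only [h1, h2]

theorem hm_val (s : Fˣ) : (hm s).1 = !![(s : F), 0, 0; 0, ((s⁻¹ : Fˣ) : F), 0; 0, 0, 1] := rfl
theorem tm_val : (tm : Matrix.SpecialLinearGroup (Fin 3) F).1 = !![0, 1, 0; -1, 0, 0; 0, 0, 1] := rfl
theorem cm_val : (cm : Matrix.SpecialLinearGroup (Fin 3) F).1 = !![0, 0, 1; 1, 0, 0; 0, 1, 0] := rfl

theorem sl3_ext {A B : Matrix.SpecialLinearGroup (Fin 3) F} (h : ∀ i j, A.1 i j = B.1 i j) : A = B := by
  apply Subtype.ext
  ext i j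
  exact h i j

theorem mul_val (A B : Matrix.SpecialLinearGroup (Fin 3) F) (i j : Fin 3) :
    (A * B).1 i j = A.1 i 0 * B.1 0 j + A.1 i 1 * B.1 1 j + A.1 i 2 * B.1 2 j := by
  rw [Matrix.SpecialLinearGroup.coe_mul, Matrix.mul_apply, Fin.sum_univ_three]

end MAT3

open MAT3 in
theorem cm_cube : (cm : Matrix.SpecialLinearGroup (Fin 3) F) * cm * cm = 1 := by
  apply sl3_ext
  intro i j
  simp only [mul_val, cm_val]
  fin_cases i <;> fin_cases j <;> simp

open MAT3 in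
theorem cm_xm (k l : Fin 3) (a : F) : cm * xm k l a * cm⁻¹ = xm (k + 1) (l + 1) a := by
  rw [mul_inv_eq_iff_eq_mul]
  apply sl3_ext
  intro i j
  simp only [mul_val, cm_val, xm_val]
  fin_cases k <;> fin_cases l <;> fin_cases i <;> fin_cases j <;> simp


open MAT3 in
theorem xm_add (k l : Fin 3) (a b : F) : xm k l (a + b) = xm k l a * xm k l b := by
  apply sl3_ext
  intro i j
  simp only [mul_val, xm_val]
  fin_cases k <;> fin_cases l <;> fin_cases i <;> fin_cases j <;> simp <;> ring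

open MAT3 in
theorem xm_zero (k l : Fin 3) : xm k l (0 : F) = 1 := by
  apply sl3_ext
  intro i j
  simp only [xm_val, Matrix.SpecialLinearGroup.coe_one, Matrix.one_apply]
  simp

open MAT3 in
theorem tm_xm01 (a : F) : tm * xm 0 1 (-a) * tm⁻¹ = xm 1 0 a := by
  rw [mul_inv_eq_iff_eq_mul]
  apply sl3_ext
  intro i j
  simp only [mul_val, tm_val, xm_val]
  fin_cases i <;> fin_cases j <;> simp

theorem MAT3.unit_mul_inv (s : Fˣ) : (s : F) * ((s⁻¹ : Fˣ) : F) = 1 := by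
  rw [← Units.val_mul, mul_inv_cancel, Units.val_one]

theorem MAT3.unit_inv_mul (s : Fˣ) : ((s⁻¹ : Fˣ) : F) * (s : F) = 1 := by
  rw [← Units.val_mul, inv_mul_cancel, Units.val_one]

open MAT3 in
theorem hm_conj (s : Fˣ) (a : F) : hm s * xm 0 1 a * (hm s)⁻¹ = xm 0 1 ((s : F) ^ 2 * a) := by
  rw [mul_inv_eq_iff_eq_mul]
  have h1 := unit_mul_inv s
  apply sl3_ext
  intro i j
  simp only [mul_val, hm_val, xm_val]
  have hs : (s : F) ≠ 0 := s.ne_zero
  fin_cases i <;> fin_cases j <;> simp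
  field_simp


namespace MAT3

/-- `dg s = diag(1, s, s⁻¹) = cm * hm s * cm⁻¹` -/
def dg (s : Fˣ) : Matrix.SpecialLinearGroup (Fin 3) F :=
  ⟨!![1, 0, 0; 0, (s : F), 0; 0, 0, ((s⁻¹ : Fˣ) : F)], by simp [Matrix.det_fin_three]⟩

/-- `dg2 s = diag(s⁻¹, 1, s) = cm² * hm s * cm⁻²` -/
def dg2 (s : Fˣ) : Matrix.SpecialLinearGroup (Fin 3) F :=
  ⟨!![((s⁻¹ : Fˣ) : F), 0, 0; 0, 1, 0; 0, 0, (s : F)], by simp [Matrix.det_fin_three]⟩

theorem dg_val (s : Fˣ) : (dg s).1 = !![1, 0, 0; 0, (s : F), 0; 0, 0, ((s⁻¹ : Fˣ) : F)] := rfl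
theorem dg2_val (s : Fˣ) : (dg2 s).1 = !![((s⁻¹ : Fˣ) : F), 0, 0; 0, 1, 0; 0, 0, (s : F)] := rfl

theorem cm_inv : (cm : Matrix.SpecialLinearGroup (Fin 3) F)⁻¹ = cm * cm := by
  apply inv_eq_of_mul_eq_one_right
  rw [← mul_assoc]
  exact cm_cube

theorem chc_eq (s : Fˣ) : cm * hm s * cm⁻¹ = dg s := by
  rw [mul_inv_eq_iff_eq_mul]
  apply sl3_ext
  intro i j
  simp only [mul_val, cm_val, hm_val, dg_val]
  fin_cases i <;> fin_cases j <;> simp

theorem cchcc_eq (s : Fˣ) : cm * cm * hm s * cm⁻¹ * cm⁻¹ = dg2 s := by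
  rw [mul_inv_eq_iff_eq_mul, mul_inv_eq_iff_eq_mul]
  apply sl3_ext
  intro i j
  simp only [mul_val, cm_val, hm_val, dg2_val]
  fin_cases i <;> fin_cases j <;> simp

theorem hm_mul (s r : Fˣ) : hm (s * r) = hm s * hm r := by
  apply sl3_ext
  intro i j
  simp only [mul_val, hm_val]
  fin_cases i <;> fin_cases j <;> simp [mul_comm]

theorem dg_mul (s r : Fˣ) : dg (s * r) = dg s * dg r := by
  apply sl3_ext
  intro i j
  simp only [mul_val, dg_val]
  fin_cases i <;> fin_cases j <;> simp [mul_comm]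

theorem dg_one : dg (1 : Fˣ) = (1 : Matrix.SpecialLinearGroup (Fin 3) F) := by
  apply sl3_ext
  intro i j
  simp only [dg_val, Matrix.SpecialLinearGroup.coe_one, Matrix.one_apply]
  fin_cases i <;> fin_cases j <;> simp

end MAT3

open MAT3 in
theorem hm_one : hm (1 : Fˣ) = (1 : Matrix.SpecialLinearGroup (Fin 3) F) := by
  apply sl3_ext
  intro i j
  simp only [hm_val, Matrix.SpecialLinearGroup.coe_one, Matrix.one_apply]
  fin_cases i <;> fin_cases j <;> simp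

/-- `hm` as a monoid hom -/
def MAT3.hmHom : Fˣ →* Matrix.SpecialLinearGroup (Fin 3) F where
  toFun := hm
  map_one' := hm_one
  map_mul' := MAT3.hm_mul

/-- `dg` as a monoid hom -/
def MAT3.dgHom : Fˣ →* Matrix.SpecialLinearGroup (Fin 3) F where
  toFun := MAT3.dg
  map_one' := MAT3.dg_one
  map_mul' := MAT3.dg_mul

theorem hm_zpow (s : Fˣ) (j : ℤ) : hm s ^ j = hm (s ^ j) :=
  (map_zpow (MAT3.hmHom (F := F)) s j).symm

theorem MAT3.dg_zpow (s : Fˣ) (j : ℤ) : MAT3.dg s ^ j = MAT3.dg (s ^ j) :=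
  (map_zpow (MAT3.dgHom (F := F)) s j).symm

theorem MAT3.hm_inv (s : Fˣ) : (hm s)⁻¹ = hm s⁻¹ :=
  (map_inv (MAT3.hmHom (F := F)) s).symm

theorem MAT3.dg_inv (s : Fˣ) : (MAT3.dg s)⁻¹ = MAT3.dg s⁻¹ :=
  (map_inv (MAT3.dgHom (F := F)) s).symm

open MAT3 in
theorem MAT3.dg_conj (r : Fˣ) (a : F) :
    dg r * xm 0 1 a * (dg r)⁻¹ = xm 0 1 (((r⁻¹ : Fˣ) : F) * a) := by
  rw [mul_inv_eq_iff_eq_mul]
  have hr : (r : F) ≠ 0 := r.ne_zero
  apply sl3_ext
  intro i j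
  simp only [mul_val, dg_val, xm_val]
  fin_cases i <;> fin_cases j <;> simp
  field_simp

open MAT3 in
theorem sm_conj (s : Fˣ) (a : F) :
    (cm * hm s * cm⁻¹)⁻¹ * xm 0 1 a * (cm * hm s * cm⁻¹) = xm 0 1 ((s : F) * a) := by
  rw [chc_eq, dg_inv]
  have h := dg_conj (s⁻¹) a
  rw [dg_inv, inv_inv] at h
  exact h

open MAT3 in
theorem hm_comm (s : Fˣ) : Commute (hm s) (cm * hm s * cm⁻¹) := by
  rw [chc_eq]
  show hm s * dg s = dg s * hm s
  apply sl3_ext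
  intro i j
  simp only [mul_val, hm_val, dg_val]
  fin_cases i <;> fin_cases j <;> simp [mul_comm]

open MAT3 in
theorem hm_prod (s : Fˣ) : hm s * (cm * hm s * cm⁻¹) * (cm * cm * hm s * cm⁻¹ * cm⁻¹) = 1 := by
  rw [chc_eq, cchcc_eq]
  have hs : (s : F) ≠ 0 := s.ne_zero
  apply sl3_ext
  intro i j
  simp only [mul_val, hm_val, dg_val, dg2_val, Matrix.SpecialLinearGroup.coe_one, Matrix.one_apply]
  fin_cases i <;> fin_cases j <;> simp [hs]

open MAT3 in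
theorem tm_hm (s : Fˣ) : tm * hm s * tm⁻¹ = (hm s)⁻¹ := by
  rw [mul_inv_eq_iff_eq_mul, hm_inv]
  apply sl3_ext
  intro i j
  simp only [mul_val, hm_val, tm_val]
  fin_cases i <;> fin_cases j <;> simp

open MAT3 in
theorem tm_hmc (s : Fˣ) : tm * (cm * hm s * cm⁻¹) * tm⁻¹ = hm s * (cm * hm s * cm⁻¹) := by
  rw [chc_eq, mul_inv_eq_iff_eq_mul]
  have hs : (s : F) ≠ 0 := s.ne_zero
  apply sl3_ext
  intro i j
  simp only [mul_val, hm_val, tm_val, dg_val]
  fin_cases i <;> fin_cases j <;> simp [hs]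

open MAT3 in
theorem tm_cm : (tm : Matrix.SpecialLinearGroup (Fin 3) F) * cm⁻¹ * tm * cm⁻¹ = 1 := by
  rw [cm_inv]
  apply sl3_ext
  intro i j
  simp only [mul_val, cm_val, tm_val, Matrix.SpecialLinearGroup.coe_one, Matrix.one_apply]
  fin_cases i <;> fin_cases j <;> simp

open MAT3 in
theorem weyl_mat3 : (tm : Matrix.SpecialLinearGroup (Fin 3) F) * xm 0 1 1 * tm⁻¹ =
    xm 0 1 (-1) * tm * xm 0 1 (-1) := by
  rw [mul_inv_eq_iff_eq_mul]
  apply sl3_ext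
  intro i j
  simp only [mul_val, tm_val, xm_val]
  fin_cases i <;> fin_cases j <;> simp

theorem MAT3.xm_inv (k l : Fin 3) (a : F) : (xm k l a)⁻¹ = xm k l (-a) := by
  apply inv_eq_of_mul_eq_one_right
  rw [← xm_add, add_neg_cancel, xm_zero]

open MAT3 in
theorem comm_mat (a b : F) :
    xm 0 1 a * xm 1 2 b * (xm 0 1 a)⁻¹ * (xm 1 2 b)⁻¹ = xm 0 2 (a * b) := by
  rw [mul_inv_eq_iff_eq_mul, mul_inv_eq_iff_eq_mul]
  apply sl3_ext
  intro i j
  simp only [mul_val, xm_val]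
  fin_cases i <;> fin_cases j <;> simp

open MAT3 in
theorem comm13_mat (a b : F) : Commute (xm 0 1 a) (xm 0 2 b) := by
  show xm 0 1 a * xm 0 2 b = xm 0 2 b * xm 0 1 a
  apply sl3_ext
  intro i j
  simp only [mul_val, xm_val]
  fin_cases i <;> fin_cases j <;> simp

open MAT3 in
/-- `cj`/`prodA` with the shift `(cm hm cm⁻¹)⁻¹` -/
theorem cj_mat3 (s : Fˣ) (a : F) (i : ℤ) :
    cj ((cm * hm s * cm⁻¹)⁻¹) (xm 0 1 a) i = xm 0 1 ((s : F) ^ i * a) := by
  unfold cj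
  rw [chc_eq, dg_inv, dg_zpow, dg_conj]
  congr 2
  rw [← zpow_neg_one, ← zpow_mul, ← zpow_neg_one, ← zpow_mul, Units.val_zpow_eq_zpow_val]
  congr 1
  ring

theorem MAT3.xm_pow (k l : Fin 3) (a : F) (n : ℕ) : xm k l a ^ n = xm k l ((n : F) * a) := by
  induction n with
  | zero => simp [xm_zero]
  | succ m ih => rw [pow_succ, ih, ← xm_add]; congr 1; push_cast; ring

theorem prodA_mat3 (s : Fˣ) (c : ℕ → ℕ) (n : ℕ) :
    prodA ((cm * hm s * cm⁻¹)⁻¹) (xm 0 1 (1 : F)) c n = xm 0 1 (ev (s : F) c n) := by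
  unfold prodA ev
  induction n with
  | zero => simp [xm_zero]
  | succ k ih =>
    rw [List.range_succ, List.map_append, List.prod_append, ih, Finset.sum_range_succ, xm_add]
    congr 1
    rw [List.map_singleton, List.prod_singleton, cj_mat3, MAT3.xm_pow, zpow_natCast, mul_one]

end mat
end Cfsg.Agent.Helper21.S2287
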