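import Mathlib
import Cfsg.Agent.Helper7.S2862Defs
import Cfsg.Agent.Helper22.S2862CP5
import Cfsg.Agent.Helper6.S2862CP6

/-! Board `s2862pieces`, row B7a. -/

set_option autoImplicit false
set_option linter.unusedVariables false

namespace Cfsg.Agent.S2862P

open Cfsg
open Cfsg.Agent.Helper14 (cj)
open Subgroup
open scoped commutatorElement

variable {G : Type*} [Group G] [Finite G] {p : ℕ} [Fact p.Prime]
variable {H Y D L L0 Vt Vb : Subgroup G}

/-- B7a -/
theorem B7a (K : KHyp p H Y D L L0) (C : ChiefPair p H Vt Vb) {h : G} (hh : h ∈ L) (hh0 : h ∉ L0) :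
    fixP Vt Vb L = fixP Vt Vb Y ⊓ fixP Vt Vb (cjs h Y) ∧
      commP Vt Vb L = commP Vt Vb Y ⊔ commP Vt Vb (cjs h Y) := by
  have hgen := K.hgenL h hh hh0
  have hYH : Y ≤ H := K.hYD.trans K.hDH
  have hYhH : cjs h Y ≤ H := by
    have : cjs h Y ≤ L := by rw [← hgen]; exact le_sup_right
    exact this.trans K.hLH
  constructor
  · rw [← hgen]; exact fixP_sup C hYH hYhH
  · rw [← hgen]; exact commP_sup C hYH hYhH

end Cfsg.Agent.S2862P
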