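import Mathlib
import Cfsg.Prelude.Def_Classical
import Cfsg.Agent.Helper23.S5953Defs
import Cfsg.Agent.Helper20.S5954Defs
import Cfsg.Agent.Helper2.UnitaryCount

set_option autoImplicit false
open scoped MatrixGroups Matrix

/-! # S5954 piece NDSUMU (helper22) -/

universe u

namespace Cfsg.Agent.S5954P

open Polynomial Cfsg.Agent.S5953P Cfsg.Agent.Helper28.HW Cfsg.Agent.Helper28.HermFrame
open Cfsg.Agent.S2644 Cfsg.Agent.Helper2.SUGen Cfsg.Agent.Helper28.UPair Cfsg.Agent.S5984P

/-- NDSUMU: the orthogonal sum of two non-degenerate subspaces -/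
theorem nd_sup_u {F V : Type*} [Field F] [Fintype F] [AddCommGroup V] [Module F V]
    [FiniteDimensional F V] {q : ℕ} {σ : F →+* F} (B : V →ₛₗ[σ] V →ₗ[F] F) (hB : IsHerm q B)
    (U W : Submodule F V) (hU : NondegU B U) (hW : NondegU B W) (hUW : OrthU B U W) :
    NondegU B (U ⊔ W) ∧ Disjoint U W ∧
      Module.finrank F ↥(U ⊔ W) = Module.finrank F U + Module.finrank F W := by
  have hWU : OrthU B W U := OrthU.symm hB hUW
  have hdisj : Disjoint U W := by
    rw [Submodule.disjoint_def]
    intro x hxU hxW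
    by_contra hx0
    obtain ⟨v, hv, hne⟩ := hU x hxU hx0
    exact hne (hWU x hxW v hv)
  refine ⟨?_, hdisj, ?_⟩
  · intro x hx hx0
    obtain ⟨u, hu, w, hw, rfl⟩ := Submodule.mem_sup.mp hx
    by_cases hu0 : u = 0
    · subst hu0
      rw [zero_add] at hx0
      obtain ⟨v, hv, hne⟩ := hW w hw hx0
      refine ⟨v, Submodule.mem_sup_right hv, ?_⟩
      rwa [zero_add]
    · obtain ⟨v, hv, hne⟩ := hU u hu hu0
      refine ⟨v, Submodule.mem_sup_left hv, ?_⟩
      rw [map_add, LinearMap.add_apply, hWU w hw v hv, add_zero]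
      exact hne
  · have h5 := Submodule.finrank_sup_add_finrank_inf_eq U W
    rw [hdisj.eq_bot, finrank_bot, add_zero] at h5
    exact h5

end Cfsg.Agent.S5954P
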