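import Mathlib
import Cfsg.Prelude.Def_Classical
import Cfsg.Agent.Helper23.S5953Defs
import Cfsg.Agent.Helper20.S5954Defs
import Cfsg.Agent.Helper2.UnitaryCount
import Cfsg.Agent.Helper26.S5955IRRSUB
import Cfsg.Agent.Helper26.S5955IRRDIV
import Cfsg.Agent.Helper26.S5955UNIQ
import Cfsg.Agent.Helper8.S5955INVSPLIT
import Cfsg.Agent.Helper18.S5953ARITHU
import Cfsg.Agent.Helper7.S5953IRRNDU
import Cfsg.Agent.Helper18.S5953DUALPAIRU
import Cfsg.Agent.Helper25.S5953EVENAGU
import Cfsg.Agent.Helper22.S5954ANISOU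
import Cfsg.Agent.Helper23.S5953SDNT

set_option autoImplicit false
open scoped MatrixGroups Matrix

/-! # S5954 piece MINBLOCKU (helper22) -/

universe u

namespace Cfsg.Agent.S5954P

open Polynomial Cfsg.Agent.S5953P Cfsg.Agent.Helper28.HW Cfsg.Agent.Helper28.HermFrame
open Cfsg.Agent.S2644 Cfsg.Agent.Helper2.SUGen Cfsg.Agent.Helper28.UPair Cfsg.Agent.S5984P
open Cfsg.Agent.S5955P

namespace MINBLOCKU

theorem injective_of_pow {F V : Type*} [Field F] [AddCommGroup V] [Module F V]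
    (y : Module.End F V) (r : ℕ) (hr : 0 < r) (hy : y ^ r = 1) : Function.Injective y := by
  intro a b hab
  obtain ⟨r0, hr0⟩ : ∃ r0, r = r0 + 1 := ⟨r - 1, by omega⟩
  have h4 : (y ^ r) a = (y ^ r) b := by
    rw [hr0, pow_succ, Module.End.mul_apply, Module.End.mul_apply, hab]
  rwa [hy, Module.End.one_apply, Module.End.one_apply] at h4

end MINBLOCKU

/-- MINBLOCKU (uses S5953 IRRNDU, SDNT, DUALPAIRU, EVENAGU, ARITHU1; S5955 IRRSUB, IRRDIV, UNIQ, INVSPLIT; ANISOU):
a non-degenerate invariant block of dimension `cu q r` -/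
theorem exists_min_block_u {F V : Type*} [Field F] [Fintype F] [AddCommGroup V]
    [Module F V] [FiniteDimensional F V] {p : ℕ} [Fact p.Prime] [CharP F p] {q : ℕ} (r : ℕ)
    [Fact r.Prime] (hr2 : r ≠ 2) (hrp : r ≠ p) {σ : F →+* F} (B : V →ₛₗ[σ] V →ₗ[F] F)
    (y : Module.End F V) (h : IsYU q B y r) (M : Submodule F V) (hM : M.map y ≤ M)
    (hMnd : NondegU B M) (hMfix : M ⊓ LinearMap.ker (y - 1) = ⊥) (hne : M ≠ ⊥) :
    ∃ E : Submodule F V, E ≤ M ∧ E.map y ≤ E ∧ NondegU B E ∧
      Module.finrank F E = cu q r := by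
  classical
  have hr : r.Prime := Fact.out
  have hy := h.pow
  have hinj : Function.Injective y := MINBLOCKU.injective_of_pow y r hr.pos hy
  obtain ⟨-, -, hb0, -, hcu, -, -⟩ := cu_arith (F := F) (p := p) (q := q) h.herm.card r hr2 hrp
  have hfixle : ∀ U : Submodule F V, U ≤ M → U ⊓ LinearMap.ker (y - 1) = ⊥ := by
    intro U hU
    exact le_bot_iff.mp ((inf_le_inf_right _ hU).trans hMfix.le)
  obtain ⟨U, hUM, hU, hUfr, hUirr⟩ := exists_irr_sub (p := p) r hrp y hy M hM hne hMfix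
  rcases irr_dichotomy_u B h.herm y h.isom hinj U hU hUirr with hti | hnd
  · obtain ⟨U', hU'M, hU', hU'fr, hpair, hX⟩ :=
      exists_dual_pair_u (p := p) r hrp B y h M U hM hMnd hUM hU
    obtain ⟨hdisj, hXnd⟩ := hX hti
    have hXM : U ⊔ U' ≤ M := sup_le hUM hU'M
    have hXinv : (U ⊔ U').map y ≤ U ⊔ U' := by
      rw [Submodule.map_sup]
      exact sup_le_sup hU hU'
    have hXdim : Module.finrank F ↥(U ⊔ U') = 2 * orderOf ((Fintype.card F : ℕ) : ZMod r) := by
      have h5 := Submodule.finrank_sup_add_finrank_inf_eq U U'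
      rw [hdisj.eq_bot, finrank_bot, add_zero, hU'fr, hUfr] at h5
      omega
    by_cases hsd : orderOf (q : ZMod r) % 4 = 2
    · rw [hcu, if_pos hsd]
      obtain ⟨-, -, h3, -⟩ := monic_unique_of_irr y U hU hUirr
      have hU0 : U ≠ ⊥ := by
        intro h0
        rw [h0, finrank_bot] at hUfr
        omega
      obtain ⟨g, hg, hgd, hgk⟩ := h3 hU0
      have hgk' := poly_kills_dual_u (p := p) r hr2 hrp B y h hsd U U' hU hU' hpair g hgk
      have hgX : ∀ x ∈ U ⊔ U', aeval y g x = 0 := by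
        intro x hx
        obtain ⟨u, hu, u', hu', rfl⟩ := Submodule.mem_sup.mp hx
        rw [map_add, hgk u hu, hgk' u' hu', add_zero]
      have hX0 : U ⊔ U' ≠ ⊥ := by
        intro h0
        apply hU0
        exact le_bot_iff.mp (le_sup_left.trans h0.le)
      obtain ⟨v, hvX, hvv⟩ := exists_aniso_u B h.herm (U ⊔ U') hXnd hX0
      have hZinv := UNIQ.range_invariant y v
      have hZX : LinearMap.range (UNIQ.evalAt y v) ≤ U ⊔ U' := UNIQ.range_le y _ hXinv v hvX
      have hvZ : v ∈ LinearMap.range (UNIQ.evalAt y v) := UNIQ.self_mem_range y v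
      have hZle : Module.finrank F (LinearMap.range (UNIQ.evalAt y v)) ≤
          orderOf ((Fintype.card F : ℕ) : ZMod r) := by
        have := UNIQ.finrank_range_le y v g hg.ne_zero (hgX v hvX)
        rwa [hgd, hUfr] at this
      have hZfix : LinearMap.range (UNIQ.evalAt y v) ⊓ LinearMap.ker (y - 1) = ⊥ :=
        hfixle _ (hZX.trans hXM)
      obtain ⟨-, hsum, hdvd⟩ := inv_split (p := p) r hrp y hy _ hZinv
      rw [hZfix, finrank_bot, zero_add] at hsum
      rw [hsum] at hdvd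
      have hv0 : v ≠ 0 := by
        intro h0
        apply hvv
        rw [h0]
        simp
      have hZpos : 0 < Module.finrank F (LinearMap.range (UNIQ.evalAt y v)) := by
        rw [Module.finrank_pos_iff_exists_ne_zero]
        exact ⟨⟨v, hvZ⟩, fun h0 => hv0 (by simpa using congrArg Subtype.val h0)⟩
      have hZfr : Module.finrank F (LinearMap.range (UNIQ.evalAt y v)) =
          orderOf ((Fintype.card F : ℕ) : ZMod r) :=
        le_antisymm hZle (Nat.le_of_dvd hZpos hdvd)
      have hZirr := irr_of_finrank (p := p) r hrp y hy _ hZinv hZfix hZfr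
      rcases irr_dichotomy_u B h.herm y h.isom hinj _ hZinv hZirr with hti' | hnd'
      · exact absurd (hti' v hvZ v hvZ) hvv
      · exact ⟨_, hZX.trans hXM, hZinv, hnd', hZfr⟩
    · rw [hcu, if_neg hsd]
      exact ⟨U ⊔ U', hXM, hXinv, hXnd, hXdim⟩
  · have hsd := selfdual_nt (p := p) r hr2 hrp B y h U hU hnd (hfixle U hUM) hUfr
    rw [hcu, if_pos hsd]
    exact ⟨U, hUM, hU, hnd, hUfr⟩

end Cfsg.Agent.S5954P
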