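import Mathlib
import Cfsg.Prelude.Def_Classical
import Cfsg.Agent.Helper23.S5953Defs
import Cfsg.Agent.Helper20.S5954Defs
import Cfsg.Agent.Helper2.UnitaryCount
import Cfsg.Agent.Helper7.S5953ORTHCU
import Cfsg.Agent.Helper22.S5954NDSUMU
import Cfsg.Agent.Helper22.S5954MINBLOCKU

set_option autoImplicit false
open scoped MatrixGroups Matrix

/-! # S5954 piece STRUCTU (helper22) -/

universe u

namespace Cfsg.Agent.S5954P

open Polynomial Cfsg.Agent.S5953P Cfsg.Agent.Helper28.HW Cfsg.Agent.Helper28.HermFrame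
open Cfsg.Agent.S2644 Cfsg.Agent.Helper2.SUGen Cfsg.Agent.Helper28.UPair Cfsg.Agent.S5984P

/-- STRUCTU (uses MINBLOCKU, ORTHCU, NDSUMU): `cu q r` divides `dim M`, and `M` has non-degenerate invariant
subspaces of every dimension `cu q r * k` -/
theorem exists_nd_inv_sub_u {F V : Type*} [Field F] [Fintype F] [AddCommGroup V]
    [Module F V] [FiniteDimensional F V] {p : ℕ} [Fact p.Prime] [CharP F p] {q : ℕ} (r : ℕ)
    [Fact r.Prime] (hr2 : r ≠ 2) (hrp : r ≠ p) {σ : F →+* F} (B : V →ₛₗ[σ] V →ₗ[F] F)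
    (y : Module.End F V) (h : IsYU q B y r) (M : Submodule F V) (hM : M.map y ≤ M)
    (hMnd : NondegU B M) (hMfix : M ⊓ LinearMap.ker (y - 1) = ⊥) :
    cu q r ∣ Module.finrank F M ∧
      ∀ k : ℕ, cu q r * k ≤ Module.finrank F M →
        ∃ W : Submodule F V, W ≤ M ∧ W.map y ≤ W ∧ NondegU B W ∧
          Module.finrank F W = cu q r * k := by
  classical
  have hr : r.Prime := Fact.out
  have hinj : Function.Injective y := MINBLOCKU.injective_of_pow y r hr.pos h.pow
  have hbot : ∀ (M : Submodule F V) (k : ℕ), cu q r * k = 0 → ∃ W : Submodule F V, W ≤ M ∧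
      W.map y ≤ W ∧ NondegU B W ∧ Module.finrank F W = cu q r * k := by
    intro M k hk
    refine ⟨⊥, bot_le, by simp, ?_, by rw [finrank_bot, hk]⟩
    intro m hm hm0
    exact absurd ((Submodule.mem_bot F).mp hm) hm0
  obtain ⟨n, hn⟩ : ∃ n : ℕ, Module.finrank F M = n := ⟨_, rfl⟩
  induction n using Nat.strong_induction_on generalizing M with
  | _ n ih =>
    by_cases hM0 : M = ⊥
    · subst hM0
      rw [finrank_bot] at hn
      subst hn
      rw [finrank_bot]
      refine ⟨dvd_zero _, ?_⟩
      intro k hk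
      exact hbot _ k (by omega)
    · obtain ⟨E, hEM, hE, hEnd, hEfr⟩ :=
        exists_min_block_u (p := p) r hr2 hrp B y h M hM hMnd hMfix hM0
      obtain ⟨-, hdisj, hNnd, hfrsum, horth, -, hNinv⟩ := orth_compl_u B h.herm M E hEM hMnd hEnd
      have hN₂ := hNinv y h.isom hinj hE hM
      have hN₂M : M ⊓ perp B E ≤ M := inf_le_left
      have hN₂fix : (M ⊓ perp B E) ⊓ LinearMap.ker (y - 1) = ⊥ :=
        le_bot_iff.mp ((inf_le_inf_right _ hN₂M).trans hMfix.le)
      have hcpos : 0 < cu q r := by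
        rw [← hEfr]
        rw [Module.finrank_pos_iff_exists_ne_zero]
        by_contra hcon
        push Not at hcon
        -- `E = ⊥` would make `M` ... use that `exists_min_block_u` gives `finrank E = cu q r`;
        -- positivity of `cu q r` from the arithmetic
        obtain ⟨-, -, hb0, -, hcu, -, -⟩ :=
          cu_arith (F := F) (p := p) (q := q) h.herm.card r hr2 hrp
        have hE0 : Module.finrank F E = 0 := by
          rw [Module.finrank_zero_iff]
          exact ⟨fun a b => by rw [hcon a, hcon b]⟩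
        rw [hEfr, hcu] at hE0
        split_ifs at hE0 <;> omega
      obtain ⟨hdvd, hex⟩ := ih (Module.finrank F ↥(M ⊓ perp B E)) (by omega) (M ⊓ perp B E) hN₂
        hNnd hN₂fix rfl
      refine ⟨?_, ?_⟩
      · rw [← hfrsum, hEfr]
        exact (Nat.dvd_add_right dvd_rfl).mpr hdvd
      · intro k hk
        rcases Nat.eq_zero_or_pos k with h0 | h0
        · subst h0
          exact hbot _ 0 (by simp)
        · obtain ⟨k', rfl⟩ : ∃ k', k = k' + 1 := ⟨k - 1, by omega⟩
          have hk' : cu q r * k' ≤ Module.finrank F ↥(M ⊓ perp B E) := by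
            have : cu q r * (k' + 1) = cu q r * k' + cu q r := by ring
            omega
          obtain ⟨W₂, hW₂N, hW₂, hW₂nd, hW₂fr⟩ := hex k' hk'
          have horth2 : OrthU B E W₂ := fun u hu v hv => horth u hu v (hW₂N hv)
          obtain ⟨hnd, -, hfr⟩ := nd_sup_u B h.herm E W₂ hEnd hW₂nd horth2
          refine ⟨E ⊔ W₂, sup_le hEM (hW₂N.trans hN₂M), ?_, hnd, ?_⟩
          · rw [Submodule.map_sup]
            exact sup_le_sup hE hW₂
          · rw [hfr, hEfr, hW₂fr]
            ring

end Cfsg.Agent.S5954P
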