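import Mathlib
import Cfsg.Prelude.Def_Classical
import Cfsg.Agent.Helper23.S5953Defs
import Cfsg.Agent.Helper20.S5954Defs
import Cfsg.Agent.Helper2.UnitaryCount
import Cfsg.Agent.Helper7.S5953ORTHCU
import Cfsg.Agent.Helper28.S5954WALLSTEPU

set_option autoImplicit false
open scoped MatrixGroups Matrix

/-! # S5954 piece WALLU (helper22) -/

universe u

namespace Cfsg.Agent.S5954P

open Polynomial Cfsg.Agent.S5953P Cfsg.Agent.Helper28.HW Cfsg.Agent.Helper28.HermFrame
open Cfsg.Agent.S2644 Cfsg.Agent.Helper2.SUGen Cfsg.Agent.Helper28.UPair Cfsg.Agent.S5984P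

namespace WALLU

variable {F V : Type*} [Field F] [AddCommGroup V] [Module F V]

theorem iSup_cons' {m : ℕ} (U : Submodule F V) (g : Fin m → Submodule F V) :
    (⨆ j, (Fin.cons U g : Fin (m + 1) → Submodule F V) j) = U ⊔ ⨆ j, g j := by
  apply le_antisymm
  · refine iSup_le fun j => ?_
    refine Fin.cases ?_ (fun j' => ?_) j
    · rw [Fin.cons_zero]; exact le_sup_left
    · rw [Fin.cons_succ]; exact le_sup_of_le_right (le_iSup g j')
  · refine sup_le ?_ (iSup_le fun j => ?_)
    · have := le_iSup (Fin.cons U g : Fin (m + 1) → Submodule F V) 0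
      rwa [Fin.cons_zero] at this
    · have := le_iSup (Fin.cons U g : Fin (m + 1) → Submodule F V) j.succ
      rwa [Fin.cons_succ] at this

theorem injective_of_unipotent (y : Module.End F V) (k : ℕ) (hk : (y - 1) ^ k = 0) :
    Function.Injective y := by
  have hnil : IsNilpotent (y - 1) := ⟨k, hk⟩
  have hu : IsUnit ((y - 1) + 1) := hnil.isUnit_add_one
  rw [sub_add_cancel] at hu
  exact ((Module.End.isUnit_iff y).mp hu).1

end WALLU

/-- WALLU (uses WALLSTEPU, ORTHCU): the orthogonal decomposition of a unipotent isometry into cyclic blocks -/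
theorem exists_wall_u {F V : Type*} [Field F] [Fintype F] [AddCommGroup V] [Module F V]
    [FiniteDimensional F V] {q : ℕ} {σ : F →+* F} (B : V →ₛₗ[σ] V →ₗ[F] F) (hB : IsHerm q B)
    (y : Module.End F V) (hyB : ∀ u v, B (y u) (y v) = B u v) (k : ℕ) (hk : (y - 1) ^ k = 0)
    (M : Submodule F V) (hM : M.map y ≤ M) (hMnd : NondegU B M) :
    ∃ (t : ℕ) (E : Fin t → Submodule F V),
      (∀ j, E j ≤ M ∧ E j ≠ ⊥ ∧ NondegU B (E j) ∧ (E j).map y ≤ E j ∧ IsCyc (y - 1) (E j)) ∧
      (∀ j j', j ≠ j' → OrthU B (E j) (E j')) ∧ ⨆ j, E j = M := by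
  classical
  have hinj : Function.Injective y := WALLU.injective_of_unipotent y k hk
  obtain ⟨n, hn⟩ : ∃ n : ℕ, Module.finrank F M = n := ⟨_, rfl⟩
  induction n using Nat.strong_induction_on generalizing M with
  | _ n ih =>
    by_cases hM0 : M = ⊥
    · subst hM0
      refine ⟨0, Fin.elim0, fun j => j.elim0, fun j => j.elim0, ?_⟩
      simp
    · obtain ⟨E, hEM, hE0, hEnd, hE, hEcyc⟩ := exists_cyc_nd_u B hB y hyB k hk M hM hMnd hM0
      obtain ⟨hsup, hdisj, hNnd, hfrsum, horth, horth', hNinv⟩ :=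
        orth_compl_u B hB M E hEM hMnd hEnd
      have hN₂ := hNinv y hyB hinj hE hM
      have hN₂M : M ⊓ perp B E ≤ M := inf_le_left
      have hEpos : 0 < Module.finrank F E := by
        rw [Module.finrank_pos_iff_exists_ne_zero]
        obtain ⟨x, hx, hx0⟩ := (Submodule.ne_bot_iff E).mp hE0
        exact ⟨⟨x, hx⟩, fun h0 => hx0 (by simpa using congrArg Subtype.val h0)⟩
      obtain ⟨t, E', hE', horthE', hsupE'⟩ :=
        ih (Module.finrank F ↥(M ⊓ perp B E)) (by omega) (M ⊓ perp B E) hN₂ hNnd rfl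
      refine ⟨t + 1, Fin.cons E E', ?_, ?_, ?_⟩
      · intro j
        refine Fin.cases ?_ (fun j' => ?_) j
        · rw [Fin.cons_zero]
          exact ⟨hEM, hE0, hEnd, hE, hEcyc⟩
        · rw [Fin.cons_succ]
          obtain ⟨h1, h2, h3, h4, h5⟩ := hE' j'
          exact ⟨h1.trans hN₂M, h2, h3, h4, h5⟩
      · intro j j'
        refine Fin.cases ?_ (fun i => ?_) j <;> refine Fin.cases ?_ (fun i' => ?_) j'
        · intro hne
          exact absurd rfl hne
        · intro _
          rw [Fin.cons_zero, Fin.cons_succ]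
          exact fun u hu v hv => horth u hu v ((hE' i').1 hv)
        · intro _
          rw [Fin.cons_zero, Fin.cons_succ]
          exact fun u hu v hv => horth' u ((hE' i).1 hu) v hv
        · intro hne
          rw [Fin.cons_succ, Fin.cons_succ]
          exact horthE' i i' (fun h => hne (by rw [h]))
      · rw [WALLU.iSup_cons', hsupE', hsup]

end Cfsg.Agent.S5954P
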