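import Mathlib
import Cfsg.Prelude.Def_Classical
import Cfsg.Agent.Helper23.S5953Defs
import Cfsg.Agent.Helper20.S5954Defs
import Cfsg.Agent.Helper2.UnitaryCount
import Cfsg.Agent.Helper28.HermWitt

set_option autoImplicit false
open scoped MatrixGroups Matrix

/-! # S5954 piece ANISOU (helper22) -/

universe u

namespace Cfsg.Agent.S5954P

open Polynomial Cfsg.Agent.S5953P Cfsg.Agent.Helper28.HW Cfsg.Agent.Helper28.HermFrame
open Cfsg.Agent.S2644 Cfsg.Agent.Helper2.SUGen Cfsg.Agent.Helper28.UPair Cfsg.Agent.S5984P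

/-- ANISOU: a non-zero non-degenerate subspace contains an anisotropic vector -/
theorem exists_aniso_u {F V : Type*} [Field F] [Fintype F] [AddCommGroup V] [Module F V]
    [FiniteDimensional F V] {q : ℕ} {σ : F →+* F} (B : V →ₛₗ[σ] V →ₗ[F] F) (hB : IsHerm q B)
    (M : Submodule F V) (hM : NondegU B M) (hne : M ≠ ⊥) : ∃ v ∈ M, B v v ≠ 0 := by
  obtain ⟨m, hm, hm0⟩ := (Submodule.ne_bot_iff M).mp hne
  obtain ⟨v, hv, hmv⟩ := hM m hm hm0
  obtain ⟨z, hz, hz1⟩ := exists_norm_one_mem hB.ne_id hB.invol hB.isSymm M ⟨m, hm, v, hv, hmv⟩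
  exact ⟨z, hz, by rw [hz1]; exact one_ne_zero⟩

end Cfsg.Agent.S5954P
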