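import Mathlib
import Cfsg.Prelude.Def_Classical
import Cfsg.Agent.Helper23.S5953Defs
import Cfsg.Agent.Helper20.S5954Defs
import Cfsg.Agent.Helper2.UnitaryCount
import Cfsg.Agent.Helper22.S5954ANISOU

set_option autoImplicit false
open scoped MatrixGroups Matrix

/-! # S5954 piece DIAGAU (helper22) -/

universe u

namespace Cfsg.Agent.S5954P

open Polynomial Cfsg.Agent.S5953P Cfsg.Agent.Helper28.HW Cfsg.Agent.Helper28.HermFrame
open Cfsg.Agent.S2644 Cfsg.Agent.Helper2.SUGen Cfsg.Agent.Helper28.UPair Cfsg.Agent.S5984P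

namespace DIAGAU

variable {F V : Type*} [Field F] [AddCommGroup V] [Module F V]

theorem aeval_mem (y : Module.End F V) (M : Submodule F V) (hM : M.map y ≤ M) (P : F[X])
    (v : V) (hv : v ∈ M) : aeval y P v ∈ M := by
  induction P using Polynomial.induction_on' with
  | add p q hp hq =>
    rw [map_add, LinearMap.add_apply]
    exact M.add_mem hp hq
  | monomial n a =>
    rw [← C_mul_X_pow_eq_monomial, map_mul, aeval_C, map_pow, aeval_X, Module.End.mul_apply,
      Module.algebraMap_end_apply]
    apply M.smul_mem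
    induction n with
    | zero => simpa using hv
    | succ n ih =>
      rw [pow_succ', Module.End.mul_apply]
      exact hM ⟨_, ih, rfl⟩

/-- eigen-decomposition of a vector killed by a product of distinct linear factors -/
theorem eigen_decomp [DecidableEq F] (y : Module.End F V) (M : Submodule F V) (hM : M.map y ≤ M)
    (T : Finset F) :
    ∀ v ∈ M, aeval y (∏ l ∈ T, (X - C l)) v = 0 →
      ∃ w : F → V, (∀ l, w l ∈ M) ∧ (∀ l ∈ T, y (w l) = l • w l) ∧ v = ∑ l ∈ T, w l := by
  induction T using Finset.induction_on with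
  | empty =>
    intro v hv hv0
    refine ⟨fun _ => 0, fun _ => M.zero_mem, by simp, ?_⟩
    simpa using hv0
  | insert l T hl ih =>
    intro v hv hv0
    rw [Finset.prod_insert hl] at hv0
    have hcop : IsCoprime (X - C l) (∏ l' ∈ T, (X - C l')) := by
      apply IsCoprime.prod_right
      intro l' hl'
      apply isCoprime_X_sub_C_of_isUnit_sub
      have : l - l' ≠ 0 := sub_ne_zero.mpr (fun h => hl (h ▸ hl'))
      exact this.isUnit
    obtain ⟨a, b, hab⟩ := hcop
    set Q := ∏ l' ∈ T, (X - C l') with hQ
    have hv₂M : aeval y (a * (X - C l)) v ∈ M := aeval_mem y M hM _ v hv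
    have hv₁M : aeval y (b * Q) v ∈ M := aeval_mem y M hM _ v hv
    have hv₂0 : aeval y Q (aeval y (a * (X - C l)) v) = 0 := by
      rw [← Module.End.mul_apply, ← map_mul]
      have : Q * (a * (X - C l)) = a * ((X - C l) * Q) := by ring
      rw [this, map_mul, Module.End.mul_apply, hv0, map_zero]
    have hv₁0 : aeval y (X - C l) (aeval y (b * Q) v) = 0 := by
      rw [← Module.End.mul_apply, ← map_mul]
      have : (X - C l) * (b * Q) = b * ((X - C l) * Q) := by ring
      rw [this, map_mul, Module.End.mul_apply, hv0, map_zero]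
    obtain ⟨w', hw'M, hw'e, hw's⟩ := ih _ hv₂M hv₂0
    refine ⟨Function.update w' l (aeval y (b * Q) v), ?_, ?_, ?_⟩
    · intro l'
      by_cases hll : l' = l
      · subst hll
        rw [Function.update_self]
        exact hv₁M
      · rw [Function.update_of_ne hll]
        exact hw'M l'
    · intro l' hl'
      by_cases hll : l' = l
      · subst hll
        rw [Function.update_self]
        rw [map_sub, aeval_X, aeval_C, LinearMap.sub_apply, Module.algebraMap_end_apply,
          sub_eq_zero] at hv₁0
        exact hv₁0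
      · rw [Function.update_of_ne hll]
        exact hw'e l' ((Finset.mem_insert.mp hl').resolve_left hll)
    · rw [Finset.sum_insert hl, Function.update_self]
      have h1 : ∑ x ∈ T, Function.update w' l (aeval y (b * Q) v) x = ∑ x ∈ T, w' x := by
        apply Finset.sum_congr rfl
        intro x hx
        rw [Function.update_of_ne (by rintro rfl; exact hl hx)]
      rw [h1, ← hw's, ← LinearMap.add_apply, ← map_add, add_comm, hab, map_one,
        Module.End.one_apply]

end DIAGAU

/-- DIAGAU: an anisotropic eigenvector in a non-zero non-degenerate invariant subspace -/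
theorem exists_aniso_eigen_u {F V : Type*} [Field F] [Fintype F] [AddCommGroup V] [Module F V]
    [FiniteDimensional F V] {q : ℕ} (r : ℕ) [Fact r.Prime] (hr : r ∣ q + 1) {σ : F →+* F}
    (B : V →ₛₗ[σ] V →ₗ[F] F) (y : Module.End F V) (h : IsYU q B y r) (M : Submodule F V)
    (hM : M.map y ≤ M) (hMnd : NondegU B M) (hne : M ≠ ⊥) :
    ∃ v ∈ M, ∃ l : F, y v = l • v ∧ B v v ≠ 0 := by
  classical
  have hrp : r.Prime := Fact.out
  have hcard := h.herm.card
  have hq1 : 1 ≤ q := by
    rcases Nat.eq_zero_or_pos q with h0 | h0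
    · exfalso
      have := Fintype.one_lt_card (α := F)
      rw [hcard, h0] at this
      simp at this
    · exact h0
  -- a primitive `r`-th root of unity
  have hdvd : r ∣ Fintype.card Fˣ := by
    rw [Fintype.card_units, hcard]
    have : q ^ 2 - 1 = (q + 1) * (q - 1) := by
      obtain ⟨q', rfl⟩ : ∃ q', q = q' + 1 := ⟨q - 1, by omega⟩
      simp only [Nat.add_sub_cancel]
      have : (q' + 1) ^ 2 = (q' + 1 + 1) * q' + 1 := by ring
      omega
    rw [this]
    exact dvd_mul_of_dvd_left hr _
  obtain ⟨ζ, hζ⟩ := exists_prime_orderOf_dvd_card r hdvd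
  have hprim : IsPrimitiveRoot (ζ : F) r := by
    rw [IsPrimitiveRoot.coe_units_iff, ← hζ]
    exact IsPrimitiveRoot.orderOf ζ
  have hprod := X_pow_sub_one_eq_prod hrp.pos hprim
  have hkill : aeval y (∏ l ∈ nthRootsFinset r (1 : F), (X - C l)) = 0 := by
    rw [← hprod, map_sub, map_pow, aeval_X, map_one, h.pow, sub_self]
  obtain ⟨v, hvM, hvv⟩ := exists_aniso_u B h.herm M hMnd hne
  obtain ⟨w, hwM, hwe, hws⟩ := DIAGAU.eigen_decomp y M hM (nthRootsFinset r (1 : F)) v hvM
    (by rw [hkill]; rfl)
  have horth : ∀ l ∈ nthRootsFinset r (1 : F), ∀ l' ∈ nthRootsFinset r (1 : F), l ≠ l' →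
      B (w l) (w l') = 0 := by
    intro l hl l' hl' hll
    have hlr : l ^ r = 1 := (mem_nthRootsFinset hrp.pos 1).mp hl
    have hlq : l ^ (q + 1) = 1 := by
      obtain ⟨c, hc⟩ := hr
      rw [hc, pow_mul, hlr, one_pow]
    have h1 : B (w l) (w l') = σ l * l' * B (w l) (w l') := by
      conv_lhs => rw [← h.isom, hwe l hl, hwe l' hl']
      rw [map_smul, smul_eq_mul, B_smul_left]
      ring
    rw [h.herm.frob] at h1
    by_contra hne0
    have h2 : l ^ q * l' = 1 := by
      have h3 : (l ^ q * l' - 1) * B (w l) (w l') = 0 := by linear_combination -h1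
      rcases mul_eq_zero.mp h3 with h4 | h4
      · exact sub_eq_zero.mp h4
      · exact absurd h4 hne0
    apply hll
    have h5 : l * (l ^ q * l') = l := by rw [h2, mul_one]
    rw [← mul_assoc, ← pow_succ', hlq, one_mul] at h5
    exact h5.symm
  by_contra hcon
  push Not at hcon
  apply hvv
  have hexp : B v v = ∑ l' ∈ nthRootsFinset r (1 : F), ∑ l ∈ nthRootsFinset r (1 : F),
      B (w l) (w l') := by
    conv_lhs => rw [hws]
    simp only [map_sum, LinearMap.sum_apply]
  rw [hexp]
  apply Finset.sum_eq_zero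
  intro l' hl'
  apply Finset.sum_eq_zero
  intro l hl
  by_cases hll : l = l'
  · subst hll
    by_contra hne0
    exact hne0 (hcon (w l) (hwM l) l (hwe l hl))
  · exact horth l hl l' hl' hll

end Cfsg.Agent.S5954P
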