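import Mathlib
import Cfsg.Prelude.Def_Classical
import Cfsg.Agent.Helper23.S5953Defs
import Cfsg.Agent.Helper20.S5954Defs
import Cfsg.Agent.Helper2.UnitaryCount
import Cfsg.Agent.Helper7.S5953ORTHCU
import Cfsg.Agent.Helper22.S5954NDSUMU
import Cfsg.Agent.Helper22.S5954DIAGAU

set_option autoImplicit false
open scoped MatrixGroups Matrix

/-! # S5954 piece DIAGBU (helper22) -/

universe u

namespace Cfsg.Agent.S5954P

open Polynomial Cfsg.Agent.S5953P Cfsg.Agent.Helper28.HW Cfsg.Agent.Helper28.HermFrame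
open Cfsg.Agent.S2644 Cfsg.Agent.Helper2.SUGen Cfsg.Agent.Helper28.UPair Cfsg.Agent.S5984P

namespace DIAGBU

theorem injective_of_pow {F V : Type*} [Field F] [AddCommGroup V] [Module F V]
    (y : Module.End F V) (r : ℕ) (hr : 0 < r) (hy : y ^ r = 1) : Function.Injective y := by
  intro a b hab
  obtain ⟨r0, hr0⟩ : ∃ r0, r = r0 + 1 := ⟨r - 1, by omega⟩
  have h4 : (y ^ r) a = (y ^ r) b := by
    rw [hr0, pow_succ, Module.End.mul_apply, Module.End.mul_apply, hab]
  rwa [hy, Module.End.one_apply, Module.End.one_apply] at h4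

end DIAGBU

/-- DIAGBU (uses DIAGAU, ORTHCU, NDSUMU): a split isometry fixes non-degenerate subspaces of every dimension -/
theorem exists_nd_inv_of_split_u {F V : Type*} [Field F] [Fintype F] [AddCommGroup V] [Module F V]
    [FiniteDimensional F V] {q : ℕ} (r : ℕ) [Fact r.Prime] (hr : r ∣ q + 1) {σ : F →+* F}
    (B : V →ₛₗ[σ] V →ₗ[F] F) (y : Module.End F V) (h : IsYU q B y r) (M : Submodule F V)
    (hM : M.map y ≤ M) (hMnd : NondegU B M) (m : ℕ) (hm : m ≤ Module.finrank F M) :
    ∃ W : Submodule F V, W ≤ M ∧ Module.finrank F W = m ∧ NondegU B W ∧ W.map y ≤ W := by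
  classical
  have hrp : r.Prime := Fact.out
  have hinj : Function.Injective y := DIAGBU.injective_of_pow y r hrp.pos h.pow
  induction m generalizing M with
  | zero =>
    refine ⟨⊥, bot_le, finrank_bot F V, ?_, by simp⟩
    intro x hx hx0
    exact absurd ((Submodule.mem_bot F).mp hx) hx0
  | succ m ih =>
    have hM0 : M ≠ ⊥ := by
      intro h0
      rw [h0, finrank_bot] at hm
      omega
    obtain ⟨v, hvM, l, hvl, hvv⟩ := exists_aniso_eigen_u r hr B y h M hM hMnd hM0
    have hv0 : v ≠ 0 := by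
      intro h0
      apply hvv
      rw [h0]
      simp
    have hLM : Submodule.span F {v} ≤ M := by
      rw [Submodule.span_le, Set.singleton_subset_iff]
      exact hvM
    have hLnd : NondegU B (Submodule.span F {v}) := by
      intro x hx hx0
      obtain ⟨a, rfl⟩ := Submodule.mem_span_singleton.mp hx
      refine ⟨v, Submodule.mem_span_singleton_self v, ?_⟩
      rw [B_smul_left]
      apply mul_ne_zero _ hvv
      intro ha
      apply hx0
      have : a = 0 := by
        have := congrArg σ ha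
        rwa [h.herm.invol, map_zero] at this
      rw [this, zero_smul]
    have hLinv : (Submodule.span F {v}).map y ≤ Submodule.span F {v} := by
      rintro _ ⟨x, hx, rfl⟩
      obtain ⟨a, rfl⟩ := Submodule.mem_span_singleton.mp hx
      rw [map_smul, hvl, smul_comm]
      exact Submodule.smul_mem _ _ (Submodule.smul_mem _ _ (Submodule.mem_span_singleton_self v))
    have hLfr : Module.finrank F (Submodule.span F {v}) = 1 := finrank_span_singleton hv0
    obtain ⟨-, hdisj, hNnd, hfrsum, horth, -, hNinv⟩ :=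
      orth_compl_u B h.herm M _ hLM hMnd hLnd
    have hN₂ := hNinv y h.isom hinj hLinv hM
    have hN₂M : M ⊓ perp B (Submodule.span F {v}) ≤ M := inf_le_left
    obtain ⟨W₂, hW₂N, hW₂fr, hW₂nd, hW₂⟩ := ih _ hN₂ hNnd (by omega)
    have horth2 : OrthU B (Submodule.span F {v}) W₂ :=
      fun u hu x hx => horth u hu x (hW₂N hx)
    obtain ⟨hnd, -, hfr⟩ := nd_sup_u B h.herm _ W₂ hLnd hW₂nd horth2
    refine ⟨Submodule.span F {v} ⊔ W₂, sup_le hLM (hW₂N.trans hN₂M), ?_, hnd, ?_⟩
    · rw [hfr, hLfr, hW₂fr]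
      ring
    · rw [Submodule.map_sup]
      exact sup_le_sup hLinv hW₂

end Cfsg.Agent.S5954P
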