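import Mathlib
import Cfsg.Prelude.Def_Classical
import Cfsg.Agent.Helper23.S5953Defs
import Cfsg.Agent.Helper20.S5954Defs
import Cfsg.Agent.Helper2.UnitaryCount
import Cfsg.Agent.Helper26.S5955UNIQ
import Cfsg.Agent.Helper7.S5953IRRNDU
import Cfsg.Agent.Helper7.S5953ORTHCU
import Cfsg.Agent.Helper22.S5954ANISOU
import Cfsg.Agent.Helper22.S5954NDSUMU

set_option autoImplicit false
open scoped MatrixGroups Matrix

/-! # S5954 piece IRRBLOCKSU (helper22) -/

universe u

namespace Cfsg.Agent.S5954P

open Polynomial Cfsg.Agent.S5953P Cfsg.Agent.Helper28.HW Cfsg.Agent.Helper28.HermFrame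
open Cfsg.Agent.S2644 Cfsg.Agent.Helper2.SUGen Cfsg.Agent.Helper28.UPair Cfsg.Agent.S5984P
open Cfsg.Agent.S5955P

namespace IRRBLOCKSU

/-- the cyclic subspace of a non-zero vector killed by an irreducible polynomial `g`
has dimension `deg g` -/
theorem finrank_cyc {F V : Type*} [Field F] [AddCommGroup V] [Module F V]
    [FiniteDimensional F V] (y : Module.End F V) (g : F[X]) (hg : Irreducible g) (w : V)
    (hw0 : w ≠ 0) (hw : aeval y g w = 0) :
    Module.finrank F (LinearMap.range (UNIQ.evalAt y w)) = g.natDegree := by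
  apply le_antisymm (UNIQ.finrank_range_le y w g hg.ne_zero hw)
  set d := g.natDegree with hd
  set φ : (degreeLT F d) →ₗ[F] V := (UNIQ.evalAt y w) ∘ₗ (degreeLT F d).subtype with hφ
  have hinj : Function.Injective φ := by
    rw [injective_iff_map_eq_zero]
    intro h hh
    by_contra hne
    have hh0 : (h : F[X]) ≠ 0 := fun h0 => hne (Subtype.ext h0)
    have hdeg : (h : F[X]).degree < d := mem_degreeLT.mp h.2
    have hndvd : ¬ g ∣ (h : F[X]) := by
      intro hdvd
      have h1 := Polynomial.degree_le_of_dvd hdvd hh0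
      rw [degree_eq_natDegree hg.ne_zero] at h1
      exact absurd (lt_of_le_of_lt h1 hdeg) (lt_irrefl _)
    obtain ⟨a, b, hab⟩ := (hg.coprime_iff_not_dvd.mpr hndvd)
    have hval : aeval y (h : F[X]) w = 0 := hh
    have h2 : aeval y (a * g + b * (h : F[X])) w = 0 := by
      rw [map_add, map_mul, map_mul, LinearMap.add_apply, Module.End.mul_apply,
        Module.End.mul_apply, hw, hval, map_zero, map_zero, add_zero]
    rw [hab, map_one, Module.End.one_apply] at h2
    exact hw0 h2
  have h1 : Module.finrank F (degreeLT F d) = d := by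
    rw [LinearEquiv.finrank_eq (degreeLTEquiv F d), Module.finrank_fin_fun]
  have hfin : Module.Finite F (degreeLT F d) :=
    Module.Finite.equiv (degreeLTEquiv F d).symm
  have h2 : Module.finrank F (LinearMap.range φ) = d := by
    rw [LinearMap.finrank_range_of_inj hinj, h1]
  have hle : LinearMap.range φ ≤ LinearMap.range (UNIQ.evalAt y w) := by
    rintro _ ⟨x, rfl⟩
    exact ⟨(x : F[X]), rfl⟩
  calc d = Module.finrank F (LinearMap.range φ) := h2.symm
    _ ≤ _ := Submodule.finrank_mono hle

end IRRBLOCKSU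

/-- IRRBLOCKSU (uses ANISOU, ORTHCU, NDSUMU): an isometry killed on `M` by an irreducible polynomial of degree `d`
fixes non-degenerate subspaces of `M` of every dimension divisible by `d` -/
theorem exists_nd_inv_of_irr_u {F V : Type*} [Field F] [Fintype F] [AddCommGroup V] [Module F V]
    [FiniteDimensional F V] {q : ℕ} {σ : F →+* F} (B : V →ₛₗ[σ] V →ₗ[F] F) (hB : IsHerm q B)
    (y : Module.End F V) (hyB : ∀ u v, B (y u) (y v) = B u v) (hyinj : Function.Injective y)
    (g : F[X]) (hg : Irreducible g) (M : Submodule F V) (hM : M.map y ≤ M) (hMnd : NondegU B M)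
    (hgM : ∀ v ∈ M, aeval y g v = 0) (k : ℕ) (hk : g.natDegree * k ≤ Module.finrank F M) :
    ∃ W : Submodule F V, W ≤ M ∧ NondegU B W ∧ W.map y ≤ W ∧
      Module.finrank F W = g.natDegree * k := by
  classical
  have hbot : ∀ (M : Submodule F V) (k : ℕ), g.natDegree * k = 0 → ∃ W : Submodule F V, W ≤ M ∧
      NondegU B W ∧ W.map y ≤ W ∧ Module.finrank F W = g.natDegree * k := by
    intro M k hk
    refine ⟨⊥, bot_le, ?_, by simp, by rw [finrank_bot, hk]⟩
    intro m hm hm0
    exact absurd ((Submodule.mem_bot F).mp hm) hm0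
  induction k generalizing M with
  | zero => exact hbot M 0 (by simp)
  | succ k ih =>
    by_cases hM0 : M = ⊥
    · subst hM0
      rw [finrank_bot] at hk
      exact hbot _ _ (by omega)
    · obtain ⟨v, hvM, hvv⟩ := exists_aniso_u B hB M hMnd hM0
      have hv0 : v ≠ 0 := by
        intro h0
        apply hvv
        rw [h0]
        simp
      have hZinv := UNIQ.range_invariant y v
      have hZM : LinearMap.range (UNIQ.evalAt y v) ≤ M := UNIQ.range_le y _ hM v hvM
      have hvZ : v ∈ LinearMap.range (UNIQ.evalAt y v) := UNIQ.self_mem_range y v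
      have hZfr := IRRBLOCKSU.finrank_cyc y g hg v hv0 (hgM v hvM)
      have hZirr : ∀ U₁ : Submodule F V, U₁ ≤ LinearMap.range (UNIQ.evalAt y v) →
          U₁.map y ≤ U₁ → U₁ = ⊥ ∨ U₁ = LinearMap.range (UNIQ.evalAt y v) := by
        intro U₁ hU₁Z hU₁
        by_cases hU₁0 : U₁ = ⊥
        · exact Or.inl hU₁0
        · right
          obtain ⟨w, hw, hw0⟩ := (Submodule.ne_bot_iff U₁).mp hU₁0
          have h1 := IRRBLOCKSU.finrank_cyc y g hg w hw0 (hgM w (hZM (hU₁Z hw)))
          have h2 : LinearMap.range (UNIQ.evalAt y w) ≤ U₁ := UNIQ.range_le y _ hU₁ w hw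
          have h3 := Submodule.finrank_mono h2
          apply Submodule.eq_of_le_of_finrank_le hU₁Z
          rw [hZfr, ← h1]
          exact h3
      have hZnd : NondegU B (LinearMap.range (UNIQ.evalAt y v)) := by
        rcases irr_dichotomy_u B hB y hyB hyinj _ hZinv hZirr with hti | hnd
        · exact absurd (hti v hvZ v hvZ) hvv
        · exact hnd
      obtain ⟨-, hdisj, hNnd, hfrsum, horth, -, hNinv⟩ :=
        orth_compl_u B hB M _ hZM hMnd hZnd
      have hN₂ := hNinv y hyB hyinj hZinv hM
      have hN₂M : M ⊓ perp B (LinearMap.range (UNIQ.evalAt y v)) ≤ M := inf_le_left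
      have hk' : g.natDegree * k ≤
          Module.finrank F ↥(M ⊓ perp B (LinearMap.range (UNIQ.evalAt y v))) := by
        have : g.natDegree * (k + 1) = g.natDegree * k + g.natDegree := by ring
        omega
      obtain ⟨W₂, hW₂N, hW₂nd, hW₂, hW₂fr⟩ := ih _ hN₂ hNnd
        (fun v hv => hgM v (hN₂M hv)) hk'
      have horth2 : OrthU B (LinearMap.range (UNIQ.evalAt y v)) W₂ :=
        fun u hu v hv => horth u hu v (hW₂N hv)
      obtain ⟨hnd, -, hfr⟩ := nd_sup_u B hB _ W₂ hZnd hW₂nd horth2
      refine ⟨LinearMap.range (UNIQ.evalAt y v) ⊔ W₂, sup_le hZM (hW₂N.trans hN₂M), hnd, ?_, ?_⟩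
      · rw [Submodule.map_sup]
        exact sup_le_sup hZinv hW₂
      · rw [hfr, hZfr, hW₂fr]
        ring

end Cfsg.Agent.S5954P
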