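import Mathlib
import Cfsg.Agent.Helper27.S4150Defs
import Cfsg.Agent.Helper4.MultiTrans

/-! S4150 piece TRANSK (helper22). -/

set_option autoImplicit false

namespace Cfsg.Agent.S4150P

open Equiv Equiv.Perm MulAction

section
variable {α : Type*} [Fintype α] [DecidableEq α]

/-- TRANSK [M]: `k`-transitive + the stabiliser of ONE `k`-set is transitive on the rest
⇒ `(k+1)`-transitive (conjugate, then `Helper4.isMultiplyPretransitive_of_fixing_transitive`). -/
theorem TRANSK.main (H : Subgroup (Perm α)) {k : ℕ} (hk : IsMultiplyPretransitive H α k)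
    (hkn : k + 2 ≤ Fintype.card α) (S : Finset α) (hS : S.card = k)
    (h : ∀ d e, d ∉ S → e ∉ S → ∃ g ∈ ptStab H S, g d = e) :
    IsMultiplyPretransitive H α (k + 1) := by
  apply Cfsg.Agent.Helper4.isMultiplyPretransitive_of_fixing_transitive k hkn
  intro T hT u v hu hv
  -- an element `a` of `H` with `a • S = T` (pointwise along enumerations)
  let e₀ : Fin k ↪ α := (S.equivFinOfCardEq hS).symm.toEmbedding.trans (Function.Embedding.subtype _)
  let e : Fin k ↪ α := (T.equivFinOfCardEq hT).symm.toEmbedding.trans (Function.Embedding.subtype _)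
  obtain ⟨a, ha⟩ := hk.exists_smul_eq e₀ e
  have hae : ∀ i : Fin k, a • e₀ i = e i := by
    intro i
    have := DFunLike.congr_fun ha i
    simpa [Function.Embedding.smul_apply] using this
  have he₀mem : ∀ x ∈ S, ∃ i, e₀ i = x := by
    intro x hx
    refine ⟨S.equivFinOfCardEq hS ⟨x, hx⟩, ?_⟩
    simp [e₀]
  have hemem : ∀ x ∈ T, ∃ i, e i = x := by
    intro x hx
    refine ⟨T.equivFinOfCardEq hT ⟨x, hx⟩, ?_⟩
    simp [e]
  have he₀in : ∀ i, e₀ i ∈ S := by
    intro i
    simp [e₀]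
  have hein : ∀ i, e i ∈ T := by
    intro i
    simp [e]
  have hmem : ∀ x, x ∈ S ↔ a • x ∈ T := by
    intro x
    constructor
    · intro hx
      obtain ⟨i, rfl⟩ := he₀mem x hx
      rw [hae]
      exact hein i
    · intro hx
      obtain ⟨i, hi⟩ := hemem _ hx
      rw [← hae] at hi
      have := smul_left_cancel a hi
      rw [← this]
      exact he₀in i
  have hu' : a⁻¹ • u ∉ S := by
    rw [hmem, smul_inv_smul]
    exact hu
  have hv' : a⁻¹ • v ∉ S := by
    rw [hmem, smul_inv_smul]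
    exact hv
  obtain ⟨g, hgS, hguv⟩ := h _ _ hu' hv'
  obtain ⟨hgH, hgfix⟩ := hgS
  refine ⟨a * ⟨g, hgH⟩ * a⁻¹, ?_, ?_⟩
  · intro x hx
    have hx' : a⁻¹ • x ∈ S := by
      rw [hmem, smul_inv_smul]
      exact hx
    rw [mul_smul, mul_smul]
    have : (⟨g, hgH⟩ : H) • (a⁻¹ • x) = a⁻¹ • x := hgfix _ hx'
    rw [this, smul_inv_smul]
  · rw [mul_smul, mul_smul]
    have : (⟨g, hgH⟩ : H) • (a⁻¹ • u) = a⁻¹ • v := hguv
    rw [this, smul_inv_smul]

end

end Cfsg.Agent.S4150P
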