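import Cfsg.Agent.Helper22.BigGraph
import Cfsg.Agent.Helper17.SchreierSims

/-!
# Verified stabiliser chains on 4060 points

A level of a chain has a base point, a range of tables whose first members generate the group of the level, a
packed table of words (the transversal), and a packed table of paths through the lower levels, one for each
Schreier generator.  The Schreier generators are compared with the products along the paths on a determining
set of points only; both sides being automorphisms of a graph, they are equal.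
-/

set_option autoImplicit false

namespace Cfsg.Agent.Helper22.BigChain

open Cfsg.Agent.Helper22.BigPerm Cfsg.Agent.Helper22.BigGraph Cfsg.Agent.Helper17.SchreierSims

/-- a level of a chain -/
structure Lvl where
  /-- the base point -/
  b : ℕ
  /-- the first table of the level; the generators are the tables `lo, …, lo + m - 1` -/
  lo : ℕ
  /-- the number of generators -/
  m : ℕ
  /-- the end of the range of tables of the level -/
  hi : ℕ
  /-- the words of the transversal, 63 bits per point -/
  W : ℕ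
  /-- the paths of the Schreier generators, `pw` bits per point and generator -/
  C : ℕ
  /-- the width of a path -/
  pw : ℕ

section

variable (tabs : List ℕ)

/-- the packed word of a point -/
def wc (L : Lvl) (x : ℕ) : ℕ := Nat.land (Nat.shiftRight L.W (Nat.mul 63 x)) 9223372036854775807

/-- the transversal element of a point, as a function -/
def trApply (L : Lvl) (β x : ℕ) : ℕ := applyC tabs 9 (wc L β) x

/-- the transversal element of a point -/
noncomputable def trPerm (L : Lvl) (β : ℕ) : Pm := permW tabs (lettersC 9 (wc L β))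

/-- the orbit of the base point, as a Boolean -/
def inO (L : Lvl) (x : ℕ) : Bool := Nat.beq (trApply tabs L x L.b) x

/-- the path of a Schreier generator -/
def pathOf (L : Lvl) (x j : ℕ) : ℕ :=
  Nat.land (Nat.shiftRight L.C (Nat.mul L.pw (Nat.add (Nat.mul L.m x) j))) (Nat.sub (Nat.shiftLeft 1 L.pw) 1)

/-- the product of the transversal elements along a path, as a function -/
def pathApply : List Lvl → ℕ → ℕ → ℕ
  | [], _, x => x
  | L :: ls, p, x =>
    strict (fun γ => trApply tabs L γ (pathApply ls (Nat.shiftRight p 12) x)) (Nat.land p 4095)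

theorem pathApply_cons (L : Lvl) (ls : List Lvl) (p x : ℕ) :
    pathApply tabs (L :: ls) p x =
      trApply tabs L (Nat.land p 4095) (pathApply tabs ls (Nat.shiftRight p 12) x) := strict_eq _ _

/-- the product of the transversal elements along a path -/
noncomputable def pathPerm : List Lvl → ℕ → Pm
  | [], _ => 1
  | L :: ls, p => trPerm tabs L (Nat.land p 4095) * pathPerm ls (Nat.shiftRight p 12)

/-- the letters of the words of a level lie in its range -/
def lettersB (L : Lvl) : Bool := allBelow (fun x => rangeB L.lo L.hi (lettersC 9 (wc L x))) 4096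

/-- the check of the Schreier generators at a point -/
def stepB (D : List ℕ) (L : Lvl) (ls : List Lvl) (x : ℕ) : Bool :=
  cond (inO tabs L x)
    (allBelow (fun j => strict (fun β' => strict (fun p =>
      inO tabs L β' &&
      D.all fun d => Nat.beq (lookS tabs (Nat.add L.lo j) (trApply tabs L x d))
        (trApply tabs L β' (pathApply tabs ls p d))) (pathOf L x j))
      (lookS tabs (Nat.add L.lo j) x)) L.m)
    true

/-- the check of a level, without the Schreier generators -/
def levelB (L : Lvl) : Bool :=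
  Nat.beq (wc L L.b) 0 && Nat.blt L.b 4060 && lettersB L

/-- the check of the Schreier generators at the points of a range -/
def stepsB (D : List ℕ) (L : Lvl) (ls : List Lvl) (lo hi : ℕ) : Bool :=
  allBelow (fun x => cond (Nat.ble lo x) (stepB tabs D L ls x) true) hi

theorem stepsB_spec {D : List ℕ} {L : Lvl} {ls : List Lvl} {lo hi : ℕ} (h : stepsB tabs D L ls lo hi = true)
    (x : ℕ) (h1 : lo ≤ x) (h2 : x < hi) : stepB tabs D L ls x = true := by
  have := allBelow_spec h x h2
  rw [Nat.ble_eq_true_of_le h1] at this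
  exact this

/-- the group of a level -/
noncomputable def GrpL (L : Lvl) : Subgroup Pm :=
  Subgroup.closure {g | ∃ j < L.m, g = P (tab tabs (L.lo + j))}

/-- the orbit of a level -/
noncomputable def orbL (L : Lvl) : Finset (Fin 4060) := Finset.univ.filter fun x => inO tabs L x.1 = true

theorem lettersB_of_levelB {L : Lvl} (h : levelB L = true) : lettersB L = true := by
  unfold levelB at h
  rw [Bool.and_eq_true] at h
  exact h.2

theorem letters_of_lettersB {L : Lvl} (h : lettersB L = true) (x : ℕ) (hx : x < 4096) :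
    ∀ k ∈ lettersC 9 (wc L x), L.lo ≤ k ∧ k < L.hi := by
  intro k hk
  have h1 := allBelow_spec h x hx
  have := List.all_eq_true.mp h1 k hk
  rw [Bool.and_eq_true] at this
  exact ⟨Nat.le_of_ble_eq_true this.1, by simpa [Nat.blt] using this.2⟩

theorem land_4095_lt (p : ℕ) : Nat.land p 4095 < 4096 := by
  show p &&& 4095 < 4096
  have : p &&& 4095 = p % 4096 := Nat.and_two_pow_sub_one_eq_mod p 12
  rw [this]
  exact Nat.mod_lt _ (by norm_num)

/-- the functions of the paths describe their permutations -/
theorem rep_path (ls : List Lvl)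
    (hlow : ∀ l ∈ ls, ∀ x, x < 4096 → ∀ k ∈ lettersC 9 (wc l x), ∃ g : Pm, Rep (look (tab tabs k)) g) (p : ℕ) :
    Rep (pathApply tabs ls p) (pathPerm tabs ls p) := by
  induction ls generalizing p with
  | nil => exact rep_one
  | cons L ls ih =>
    have h1 : Rep (trApply tabs L (Nat.land p 4095)) (trPerm tabs L (Nat.land p 4095)) := by
      have := rep_permW tabs (w := lettersC 9 (wc L (Nat.land p 4095)))
        (hlow L (List.mem_cons_self ..) _ (land_4095_lt p))
      apply rep_congr this
      intro i _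
      exact applyC_eq tabs 9 _ i
    show Rep (pathApply tabs (L :: ls) p)
      (trPerm tabs L (Nat.land p 4095) * pathPerm tabs ls (Nat.shiftRight p 12))
    apply rep_congr (rep_mul h1 (ih (fun l hl => hlow l (List.mem_cons_of_mem _ hl)) _))
    intro i _
    exact pathApply_cons tabs L ls p i

theorem pathPerm_mem (ls : List Lvl) (S : Subgroup Pm)
    (hlow : ∀ l ∈ ls, ∀ x, x < 4096 → ∀ k ∈ lettersC 9 (wc l x), P (tab tabs k) ∈ S) (p : ℕ) :
    pathPerm tabs ls p ∈ S := by
  induction ls generalizing p with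
  | nil => exact S.one_mem
  | cons L ls ih =>
    exact S.mul_mem (permW_mem tabs (hlow L (List.mem_cons_self ..) _ (land_4095_lt p)))
      (ih (fun l hl => hlow l (List.mem_cons_of_mem _ hl)) _)

variable (rows : List (List ℕ))

/-- the soundness of the check of a level -/
theorem level_sound (D : List ℕ) (hD : ∀ d ∈ D, d < 4060)
    (hdet : ∀ g ∈ autG rows, (∀ d (hd : d ∈ D), g ⟨d, hD d hd⟩ = ⟨d, hD d hd⟩) → g = 1)
    (L : Lvl) (ls : List Lvl) (H' : Subgroup Pm)
    (hgood : ∀ k, L.lo ≤ k → k < L.hi →
      (∃ g : Pm, Rep (look (tab tabs k)) g) ∧ P (tab tabs k) ∈ GrpL tabs L ∧ P (tab tabs k) ∈ autG rows)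
    (hlow : ∀ l ∈ ls, ∀ x, x < 4096 → ∀ k ∈ lettersC 9 (wc l x),
      (∃ g : Pm, Rep (look (tab tabs k)) g) ∧ P (tab tabs k) ∈ H' ∧ P (tab tabs k) ∈ autG rows)
    (hm : L.lo + L.m ≤ L.hi) (hb : L.b < 4060)
    (hH'fix : ∀ h ∈ H', h ⟨L.b, hb⟩ = ⟨L.b, hb⟩) (hH'le : H' ≤ GrpL tabs L)
    (h : levelB L = true) (h4 : ∀ x < 4060, stepB tabs D L ls x = true) :
    Nat.card (GrpL tabs L) = (orbL tabs L).card * Nat.card H' ∧
      GrpL tabs L ⊓ MulAction.stabilizer Pm (⟨L.b, hb⟩ : Fin 4060) = H' ∧
      (∀ β ∈ orbL tabs L, trPerm tabs L β.1 ∈ GrpL tabs L ∧ trPerm tabs L β.1 ⟨L.b, hb⟩ = β) ∧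
      ∀ g ∈ GrpL tabs L, g ⟨L.b, hb⟩ ∈ orbL tabs L := by
  unfold levelB at h
  rw [Bool.and_eq_true, Bool.and_eq_true] at h
  obtain ⟨⟨h1, _⟩, h3⟩ := h
  have hwb : wc L L.b = 0 := Nat.eq_of_beq_eq_true h1
  -- the words of the level
  have hlet : ∀ x, x < 4096 → ∀ k ∈ lettersC 9 (wc L x),
      (∃ g : Pm, Rep (look (tab tabs k)) g) ∧ P (tab tabs k) ∈ GrpL tabs L ∧ P (tab tabs k) ∈ autG rows := by
    intro x hx k hk
    obtain ⟨e1, e2⟩ := letters_of_lettersB h3 x hx k hk
    exact hgood k e1 e2
  have hrepT : ∀ x, x < 4096 → Rep (trApply tabs L x) (trPerm tabs L x) := by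
    intro x hx
    have := rep_permW tabs (w := lettersC 9 (wc L x)) fun k hk => (hlet x hx k hk).1
    apply rep_congr this
    intro i _
    exact applyC_eq tabs 9 _ i
  have hTmem : ∀ x, x < 4096 → trPerm tabs L x ∈ GrpL tabs L := fun x hx =>
    permW_mem tabs fun k hk => (hlet x hx k hk).2.1
  have hTaut : ∀ x, x < 4096 → trPerm tabs L x ∈ autG rows := fun x hx =>
    permW_mem tabs fun k hk => (hlet x hx k hk).2.2
  have hlt96 : ∀ x : Fin 4060, x.1 < 4096 := fun x => lt_trans x.2 (by norm_num)
  -- the transversal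
  let T : Fin 4060 → Pm := fun β => trPerm tabs L β.1
  have hbO : (⟨L.b, hb⟩ : Fin 4060) ∈ orbL tabs L := by
    unfold orbL
    rw [Finset.mem_filter]
    refine ⟨Finset.mem_univ _, ?_⟩
    show Nat.beq (applyC tabs 9 (wc L L.b) L.b) L.b = true
    rw [hwb, applyC_eq, lettersC_zero]
    exact Nat.beq_refl _
  have hT1 : T ⟨L.b, hb⟩ = 1 := by
    show permW tabs (lettersC 9 (wc L L.b)) = 1
    rw [hwb, lettersC_zero]
    rfl
  have hTb : ∀ β ∈ orbL tabs L, T β ⟨L.b, hb⟩ = β := by
    intro β hβ
    have hβ' : Nat.beq (trApply tabs L β.1 L.b) β.1 = true := (Finset.mem_filter.mp hβ).2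
    apply Fin.ext
    rw [hrepT β.1 (hlt96 β)]
    exact Nat.eq_of_beq_eq_true hβ'
  let Y : Set Pm := {g | ∃ j < L.m, g = P (tab tabs (L.lo + j))}
  have hS : ∀ β ∈ orbL tabs L, ∀ y ∈ Y, y β ∈ orbL tabs L ∧ (T (y β))⁻¹ * y * T β ∈ H' := by
    intro β hβ y hy
    obtain ⟨j, hj, hyj⟩ := hy
    have hβ' : inO tabs L β.1 = true := (Finset.mem_filter.mp hβ).2
    have hstep := h4 β.1 β.2
    unfold stepB at hstep
    rw [hβ'] at hstep
    have hj' := allBelow_spec hstep j hj
    rw [strict_eq, strict_eq, lookS_eq, Bool.and_eq_true] at hj'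
    obtain ⟨c1, c2⟩ := hj'
    obtain ⟨⟨gy, hgy⟩, -, hyaut⟩ := hgood (L.lo + j) (Nat.le_add_right _ _) (lt_of_lt_of_le (by omega) hm)
    have hrepy : Rep (look (tab tabs (L.lo + j))) y := by rw [hyj]; exact rep_P hgy
    have hyaut : y ∈ autG rows := by rw [hyj]; exact hyaut
    have hyβ : (y β).1 = look (tab tabs (L.lo + j)) β.1 := hrepy β
    have hmem : y β ∈ orbL tabs L := by
      unfold orbL
      rw [Finset.mem_filter]
      refine ⟨Finset.mem_univ _, ?_⟩
      rw [hyβ]
      exact c1
    refine ⟨hmem, ?_⟩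
    -- both sides as automorphisms
    set p := pathOf L β.1 j with hp
    have hrepPath := rep_path tabs ls (fun l hl x hx k hk => (hlow l hl x hx k hk).1) p
    have hpathH : pathPerm tabs ls p ∈ H' :=
      pathPerm_mem tabs ls H' (fun l hl x hx k hk => (hlow l hl x hx k hk).2.1) p
    have hpathA : pathPerm tabs ls p ∈ autG rows :=
      pathPerm_mem tabs ls (autG rows) (fun l hl x hx k hk => (hlow l hl x hx k hk).2.2) p
    have hg1 : Rep (fun i => look (tab tabs (L.lo + j)) (trApply tabs L β.1 i)) (y * T β) :=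
      rep_mul hrepy (hrepT β.1 (hlt96 β))
    have hg2 : Rep (fun i => trApply tabs L (y β).1 (pathApply tabs ls p i)) (T (y β) * pathPerm tabs ls p) :=
      rep_mul (hrepT (y β).1 (hlt96 _)) hrepPath
    have haut1 : y * T β ∈ autG rows := (autG rows).mul_mem hyaut (hTaut β.1 (hlt96 β))
    have haut2 : T (y β) * pathPerm tabs ls p ∈ autG rows :=
      (autG rows).mul_mem (hTaut (y β).1 (hlt96 _)) hpathA
    have heq : (T (y β) * pathPerm tabs ls p)⁻¹ * (y * T β) = 1 := by
      apply hdet _ ((autG rows).mul_mem ((autG rows).inv_mem haut2) haut1)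
      intro d hd
      have e : (y * T β) ⟨d, hD d hd⟩ = (T (y β) * pathPerm tabs ls p) ⟨d, hD d hd⟩ := by
        apply Fin.ext
        rw [hg1, hg2, hyβ]
        have := Nat.eq_of_beq_eq_true (List.all_eq_true.mp c2 d hd)
        rw [lookS_eq] at this
        exact this
      show (T (y β) * pathPerm tabs ls p)⁻¹ ((y * T β) ⟨d, hD d hd⟩) = _
      rw [e]
      exact Equiv.symm_apply_apply _ _
    have heq' : y * T β = T (y β) * pathPerm tabs ls p := by
      have := congrArg (fun z => (T (y β) * pathPerm tabs ls p) * z) heq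
      simpa [mul_assoc] using this
    have : (T (y β))⁻¹ * y * T β = pathPerm tabs ls p := by
      rw [mul_assoc, heq']
      group
    rw [this]
    exact hpathH
  have hcl : GrpL tabs L = Subgroup.closure Y := rfl
  refine ⟨?_, ?_, ?_, ?_⟩
  · rw [hcl]
    exact card_eq Y H' ⟨L.b, hb⟩ (orbL tabs L) T hbO hT1 hTb (fun β _ => hTmem β.1 (hlt96 β)) hS hH'fix hH'le
  · rw [hcl]
    exact stabilizer_eq Y H' ⟨L.b, hb⟩ (orbL tabs L) T hbO hT1 hTb hS hH'fix hH'le
  · intro β hβ
    exact ⟨hTmem β.1 (hlt96 β), hTb β hβ⟩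
  · intro g hg
    exact (chain_step Y H' ⟨L.b, hb⟩ (orbL tabs L) T hbO hT1 hTb hS hH'fix g hg).1

end

end Cfsg.Agent.Helper22.BigChain
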