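import Cfsg.Agent.Helper22.BigChain

/-!
# Further facts on words in tables of permutations of 4060 points, and on subgroups of subgroups
-/

set_option autoImplicit false

namespace Cfsg.Agent.Helper22.BigChain

open Cfsg.Agent.Helper22.BigPerm Cfsg.Agent.Helper22.BigGraph

section

variable (tabs : List ℕ)

/-- the transversal element of a point of the orbit lies in the group and maps the base point to it -/
theorem tr_facts (L : Lvl) (S : Subgroup Pm) (hl : lettersB L = true)
    (hgood : ∀ k, L.lo ≤ k → k < L.hi → (∃ g : Pm, Rep (look (tab tabs k)) g) ∧ P (tab tabs k) ∈ S)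
    (hb : L.b < 4060) (x : Fin 4060) (hx : inO tabs L x.1 = true) :
    trPerm tabs L x.1 ∈ S ∧ trPerm tabs L x.1 ⟨L.b, hb⟩ = x := by
  have hx96 : x.1 < 4096 := lt_trans x.2 (by norm_num)
  have hlet := fun k hk => letters_of_lettersB hl x.1 hx96 k hk
  have hrep : Rep (trApply tabs L x.1) (trPerm tabs L x.1) := by
    have := rep_permW tabs (w := lettersC 9 (wc L x.1)) fun k hk => (hgood k (hlet k hk).1 (hlet k hk).2).1
    apply rep_congr this
    intro i _
    exact applyC_eq tabs 9 _ i
  refine ⟨permW_mem tabs fun k hk => (hgood k (hlet k hk).1 (hlet k hk).2).2, ?_⟩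
  apply Fin.ext
  rw [hrep]
  exact Nat.eq_of_beq_eq_true hx

theorem permW_replicate (k n : ℕ) : permW tabs (List.replicate n k) = P (tab tabs k) ^ n := by
  induction n with
  | zero => rfl
  | succ n ih =>
    rw [List.replicate_succ, pow_succ', ← ih]
    rfl

theorem permW_replicate_flatten (w : List ℕ) (n : ℕ) :
    permW tabs (List.replicate n w).flatten = permW tabs w ^ n := by
  induction n with
  | zero => rfl
  | succ n ih => rw [List.replicate_succ, List.flatten_cons, permW_append, ih, pow_succ']

/-- a word acting trivially is trivial -/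
theorem permW_eq_one {w : List ℕ} (hw : GoodW tabs w) (h : ∀ i < 4060, applyW tabs w i = i) : permW tabs w = 1 :=
  rep_unique (rep_permW tabs hw) (rep_congr rep_one h)

end

/-- a subgroup of a subgroup as a subgroup of a subgroup of the latter -/
theorem exists_subgroup_equiv {G : Type*} [Group G] (H : Subgroup G) (S : Subgroup ↥H) (K : Subgroup G) (hKH : K ≤ H)
    (hKS : K.subgroupOf H ≤ S) : ∃ T : Subgroup ↥S, Nonempty (↥T ≃* ↥K) :=
  ⟨(K.subgroupOf H).subgroupOf S,
    ⟨(Subgroup.subgroupOfEquivOfLe hKS).trans (Subgroup.subgroupOfEquivOfLe hKH)⟩⟩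

/-- the image of a pair of elements of a subgroup -/
theorem image_pair_subtype {G : Type*} [Group G] (H : Subgroup G) (a b : G) (ha : a ∈ H) (hb : b ∈ H) :
    H.subtype '' ({⟨a, ha⟩, ⟨b, hb⟩} : Set ↥H) = {a, b} := by
  rw [Set.image_pair]
  rfl

/-- two elements generate the same subgroup as their product and one of them -/
theorem closure_pair_mul {G : Type*} [Group G] (a y : G) :
    Subgroup.closure ({y, a * y} : Set G) = Subgroup.closure ({y, a} : Set G) := by
  apply le_antisymm
  · rw [Subgroup.closure_le]
    intro g hg
    rcases hg with rfl | hg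
    · exact Subgroup.subset_closure (Set.mem_insert _ _)
    · rw [Set.mem_singleton_iff] at hg
      rw [hg]
      exact Subgroup.mul_mem _ (Subgroup.subset_closure (Set.mem_insert_of_mem _ rfl))
        (Subgroup.subset_closure (Set.mem_insert _ _))
  · rw [Subgroup.closure_le]
    intro g hg
    rcases hg with rfl | hg
    · exact Subgroup.subset_closure (Set.mem_insert _ _)
    · rw [Set.mem_singleton_iff] at hg
      rw [hg]
      have h1 : a * y ∈ Subgroup.closure ({y, a * y} : Set G) :=
        Subgroup.subset_closure (Set.mem_insert_of_mem _ rfl)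
      have h2 : y ∈ Subgroup.closure ({y, a * y} : Set G) := Subgroup.subset_closure (Set.mem_insert _ _)
      have := Subgroup.mul_mem _ h1 (Subgroup.inv_mem _ h2)
      rwa [mul_inv_cancel_right] at this

/-- a set of elements of a subgroup whose images generate the subgroup generates it -/
theorem closure_eq_top_of_map {G : Type*} [Group G] (H : Subgroup G) (S : Set ↥H)
    (h : Subgroup.closure (H.subtype '' S) = H) : Subgroup.closure S = ⊤ := by
  apply Subgroup.map_injective H.subtype_injective
  rw [MonoidHom.map_closure, h, ← MonoidHom.range_eq_map, Subgroup.range_subtype]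

end Cfsg.Agent.Helper22.BigChain
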