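import Cfsg.Agent.Helper22.BigChain2

/-!
# Verified stabiliser chains on 4060 points inside a subgroup with a determining set

The soundness of the check of a level, for the permutations of a subgroup `A` in which a permutation fixing the
points of a list `D` is trivial; and the bookkeeping for tables that are given by certificates.
-/

set_option autoImplicit false

namespace Cfsg.Agent.Helper22.BigChain

open Cfsg.Agent.Helper22.BigPerm Cfsg.Agent.Helper17.SchreierSims

section

variable (tabs : List ℕ) (A : Subgroup Pm)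

/-- the facts about a table: it has a permutation, which lies in a subgroup and in the ambient subgroup -/
def FactA (S : Subgroup Pm) (k : ℕ) : Prop :=
  (∃ g : Pm, Rep (look (tab tabs k)) g) ∧ P (tab tabs k) ∈ S ∧ P (tab tabs k) ∈ A

/-- the letters of the words of a list of levels are tables with permutations in a subgroup -/
def LowOK (ls : List Lvl) (H' : Subgroup Pm) : Prop :=
  ∀ l ∈ ls, ∀ x, x < 4096 → ∀ k ∈ lettersC 9 (wc l x), FactA tabs A H' k

theorem lowOK_nil (H' : Subgroup Pm) : LowOK tabs A [] H' := fun _ hl => absurd hl List.not_mem_nil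

theorem lowOK_mono {ls : List Lvl} {H' H'' : Subgroup Pm} (h : LowOK tabs A ls H') (hle : H' ≤ H'') :
    LowOK tabs A ls H'' := fun l hl x hx k hk => ⟨(h l hl x hx k hk).1, hle (h l hl x hx k hk).2.1, (h l hl x hx k hk).2.2⟩

theorem lowOK_cons {l : Lvl} {ls : List Lvl} {H' : Subgroup Pm} (hl : lettersB l = true)
    (hg : ∀ k, l.lo ≤ k → k < l.hi → FactA tabs A (GrpL tabs l) k) (h : LowOK tabs A ls H')
    (hle : H' ≤ GrpL tabs l) : LowOK tabs A (l :: ls) (GrpL tabs l) := by
  intro l' hl' x hx k hk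
  rw [List.mem_cons] at hl'
  rcases hl' with e | hl'
  · rw [e] at hk
    obtain ⟨e1, e2⟩ := letters_of_lettersB hl x hx k hk
    exact hg k e1 e2
  · exact lowOK_mono tabs A h hle l' hl' x hx k hk

/-- the soundness of the check of a level -/
theorem level_soundA (D : List ℕ) (hD : ∀ d ∈ D, d < 4060)
    (hdet : ∀ g ∈ A, (∀ d (hd : d ∈ D), g ⟨d, hD d hd⟩ = ⟨d, hD d hd⟩) → g = 1)
    (L : Lvl) (ls : List Lvl) (H' : Subgroup Pm)
    (hgood : ∀ k, L.lo ≤ k → k < L.hi → FactA tabs A (GrpL tabs L) k)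
    (hlow : LowOK tabs A ls H')
    (hm : L.lo + L.m ≤ L.hi) (hb : L.b < 4060)
    (hH'fix : ∀ h ∈ H', h ⟨L.b, hb⟩ = ⟨L.b, hb⟩) (hH'le : H' ≤ GrpL tabs L)
    (h : levelB L = true) (h4 : ∀ x < 4060, stepB tabs D L ls x = true) :
    Nat.card (GrpL tabs L) = (orbL tabs L).card * Nat.card H' ∧
      GrpL tabs L ⊓ MulAction.stabilizer Pm (⟨L.b, hb⟩ : Fin 4060) = H' ∧
      (∀ β ∈ orbL tabs L, trPerm tabs L β.1 ∈ GrpL tabs L ∧ trPerm tabs L β.1 ⟨L.b, hb⟩ = β) ∧
      ∀ g ∈ GrpL tabs L, g ⟨L.b, hb⟩ ∈ orbL tabs L := by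
  unfold levelB at h
  rw [Bool.and_eq_true, Bool.and_eq_true] at h
  obtain ⟨⟨h1, _⟩, h3⟩ := h
  have hwb : wc L L.b = 0 := Nat.eq_of_beq_eq_true h1
  -- the words of the level
  have hlet : ∀ x, x < 4096 → ∀ k ∈ lettersC 9 (wc L x), FactA tabs A (GrpL tabs L) k := by
    intro x hx k hk
    obtain ⟨e1, e2⟩ := letters_of_lettersB h3 x hx k hk
    exact hgood k e1 e2
  have hrepT : ∀ x, x < 4096 → Rep (trApply tabs L x) (trPerm tabs L x) := by
    intro x hx
    have := rep_permW tabs (w := lettersC 9 (wc L x)) fun k hk => (hlet x hx k hk).1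
    apply rep_congr this
    intro i _
    exact applyC_eq tabs 9 _ i
  have hTmem : ∀ x, x < 4096 → trPerm tabs L x ∈ GrpL tabs L := fun x hx =>
    permW_mem tabs fun k hk => (hlet x hx k hk).2.1
  have hTaut : ∀ x, x < 4096 → trPerm tabs L x ∈ A := fun x hx =>
    permW_mem tabs fun k hk => (hlet x hx k hk).2.2
  have hlt96 : ∀ x : Fin 4060, x.1 < 4096 := fun x => lt_trans x.2 (by norm_num)
  -- the transversal
  let T : Fin 4060 → Pm := fun β => trPerm tabs L β.1
  have hbO : (⟨L.b, hb⟩ : Fin 4060) ∈ orbL tabs L := by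
    unfold orbL
    rw [Finset.mem_filter]
    refine ⟨Finset.mem_univ _, ?_⟩
    show Nat.beq (applyC tabs 9 (wc L L.b) L.b) L.b = true
    rw [hwb, applyC_eq, lettersC_zero]
    exact Nat.beq_refl _
  have hT1 : T ⟨L.b, hb⟩ = 1 := by
    show permW tabs (lettersC 9 (wc L L.b)) = 1
    rw [hwb, lettersC_zero]
    rfl
  have hTb : ∀ β ∈ orbL tabs L, T β ⟨L.b, hb⟩ = β := by
    intro β hβ
    have hβ' : Nat.beq (trApply tabs L β.1 L.b) β.1 = true := (Finset.mem_filter.mp hβ).2
    apply Fin.ext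
    rw [hrepT β.1 (hlt96 β)]
    exact Nat.eq_of_beq_eq_true hβ'
  let Y : Set Pm := {g | ∃ j < L.m, g = P (tab tabs (L.lo + j))}
  have hS : ∀ β ∈ orbL tabs L, ∀ y ∈ Y, y β ∈ orbL tabs L ∧ (T (y β))⁻¹ * y * T β ∈ H' := by
    intro β hβ y hy
    obtain ⟨j, hj, hyj⟩ := hy
    have hβ' : inO tabs L β.1 = true := (Finset.mem_filter.mp hβ).2
    have hstep := h4 β.1 β.2
    unfold stepB at hstep
    rw [hβ'] at hstep
    have hj' := allBelow_spec hstep j hj
    rw [strict_eq, strict_eq, lookS_eq, Bool.and_eq_true] at hj'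
    obtain ⟨c1, c2⟩ := hj'
    obtain ⟨⟨gy, hgy⟩, -, hyaut⟩ := hgood (L.lo + j) (Nat.le_add_right _ _) (lt_of_lt_of_le (by omega) hm)
    have hrepy : Rep (look (tab tabs (L.lo + j))) y := by rw [hyj]; exact rep_P hgy
    have hyaut : y ∈ A := by rw [hyj]; exact hyaut
    have hyβ : (y β).1 = look (tab tabs (L.lo + j)) β.1 := hrepy β
    have hmem : y β ∈ orbL tabs L := by
      unfold orbL
      rw [Finset.mem_filter]
      refine ⟨Finset.mem_univ _, ?_⟩
      rw [hyβ]
      exact c1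
    refine ⟨hmem, ?_⟩
    -- both sides as elements of the ambient subgroup
    set p := pathOf L β.1 j with hp
    have hrepPath := rep_path tabs ls (fun l hl x hx k hk => (hlow l hl x hx k hk).1) p
    have hpathH : pathPerm tabs ls p ∈ H' :=
      pathPerm_mem tabs ls H' (fun l hl x hx k hk => (hlow l hl x hx k hk).2.1) p
    have hpathA : pathPerm tabs ls p ∈ A :=
      pathPerm_mem tabs ls A (fun l hl x hx k hk => (hlow l hl x hx k hk).2.2) p
    have hg1 : Rep (fun i => look (tab tabs (L.lo + j)) (trApply tabs L β.1 i)) (y * T β) :=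
      rep_mul hrepy (hrepT β.1 (hlt96 β))
    have hg2 : Rep (fun i => trApply tabs L (y β).1 (pathApply tabs ls p i)) (T (y β) * pathPerm tabs ls p) :=
      rep_mul (hrepT (y β).1 (hlt96 _)) hrepPath
    have haut1 : y * T β ∈ A := A.mul_mem hyaut (hTaut β.1 (hlt96 β))
    have haut2 : T (y β) * pathPerm tabs ls p ∈ A :=
      A.mul_mem (hTaut (y β).1 (hlt96 _)) hpathA
    have heq : (T (y β) * pathPerm tabs ls p)⁻¹ * (y * T β) = 1 := by
      apply hdet _ (A.mul_mem (A.inv_mem haut2) haut1)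
      intro d hd
      have e : (y * T β) ⟨d, hD d hd⟩ = (T (y β) * pathPerm tabs ls p) ⟨d, hD d hd⟩ := by
        apply Fin.ext
        rw [hg1, hg2, hyβ]
        have := Nat.eq_of_beq_eq_true (List.all_eq_true.mp c2 d hd)
        rw [lookS_eq] at this
        exact this
      show (T (y β) * pathPerm tabs ls p)⁻¹ ((y * T β) ⟨d, hD d hd⟩) = _
      rw [e]
      exact Equiv.symm_apply_apply _ _
    have heq' : y * T β = T (y β) * pathPerm tabs ls p := by
      have := congrArg (fun z => (T (y β) * pathPerm tabs ls p) * z) heq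
      simpa [mul_assoc] using this
    have : (T (y β))⁻¹ * y * T β = pathPerm tabs ls p := by
      rw [mul_assoc, heq']
      group
    rw [this]
    exact hpathH
  have hcl : GrpL tabs L = Subgroup.closure Y := rfl
  refine ⟨?_, ?_, ?_, ?_⟩
  · rw [hcl]
    exact card_eq Y H' ⟨L.b, hb⟩ (orbL tabs L) T hbO hT1 hTb (fun β _ => hTmem β.1 (hlt96 β)) hS hH'fix hH'le
  · rw [hcl]
    exact stabilizer_eq Y H' ⟨L.b, hb⟩ (orbL tabs L) T hbO hT1 hTb hS hH'fix hH'le
  · intro β hβ
    exact ⟨hTmem β.1 (hlt96 β), hTb β hβ⟩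
  · intro g hg
    exact (chain_step Y H' ⟨L.b, hb⟩ (orbL tabs L) T hbO hT1 hTb hS hH'fix g hg).1

/-- the facts on a level that its check yields -/
def SoundL (L : Lvl) (H' : Subgroup Pm) (hb : L.b < 4060) : Prop :=
  Nat.card (GrpL tabs L) = (orbL tabs L).card * Nat.card H' ∧
    GrpL tabs L ⊓ MulAction.stabilizer Pm (⟨L.b, hb⟩ : Fin 4060) = H' ∧
    (∀ β ∈ orbL tabs L, trPerm tabs L β.1 ∈ GrpL tabs L ∧ trPerm tabs L β.1 ⟨L.b, hb⟩ = β) ∧
    ∀ g ∈ GrpL tabs L, g ⟨L.b, hb⟩ ∈ orbL tabs L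

variable (certL : List (List ℕ)) (loL : List ℕ)

/-- the check of the certificates of the tables from `n0` on below `nr` -/
def certAllB (n0 nr : ℕ) : Bool :=
  allBelow (fun k => cond (Nat.blt k n0) true
    (rangeB (loL.getD k 0) k (certL.getD k []) && certB tabs k (certL.getD k []))) nr

/-- the generators of a level fix a point -/
def fixGB (lo m b : ℕ) : Bool := allBelow (fun j => Nat.beq (look (tab tabs (Nat.add lo j)) b) b) m

/-- the certificates of the tables of a level only use tables of the level -/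
def loGB (L : Lvl) : Bool :=
  allBelow (fun k => cond (Nat.ble (L.lo + L.m) k) (Nat.ble L.lo (loL.getD k 0)) true) L.hi

theorem cert_of_certAllB {n0 nr : ℕ} (hc : certAllB tabs certL loL n0 nr = true) (k : ℕ) (h3 : n0 ≤ k) (h65 : k < nr) :
    rangeB (loL.getD k 0) k (certL.getD k []) = true ∧ certB tabs k (certL.getD k []) = true := by
  have h := allBelow_spec hc k h65
  have hk : Nat.blt k n0 = false := by
    rw [← Bool.not_eq_true]
    intro hcon
    have : k < n0 := by simpa [Nat.blt] using hcon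
    omega
  rw [hk] at h
  have h' : (rangeB (loL.getD k 0) k (certL.getD k []) && certB tabs k (certL.getD k [])) = true := h
  rwa [Bool.and_eq_true] at h'

theorem rangeB_mono' {lo lo' hi : ℕ} {w : List ℕ} (h : lo ≤ lo') (hr : rangeB lo' hi w = true) :
    rangeB lo hi w = true := by
  unfold rangeB at hr ⊢
  rw [List.all_eq_true] at hr ⊢
  intro j hj
  have := hr j hj
  rw [Bool.and_eq_true] at this ⊢
  exact ⟨Nat.ble_eq_true_of_le (le_trans h (Nat.le_of_ble_eq_true this.1)), this.2⟩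

/-- the tables of a level have the three facts, if its generators have permutations in the ambient subgroup -/
theorem factA_of {n0 nr : ℕ} (hc : certAllB tabs certL loL n0 nr = true) (L : Lvl) (hhi : L.hi ≤ nr)
    (h3 : n0 ≤ L.lo + L.m) (hlo : loGB loL L = true)
    (hbase : ∀ k, L.lo ≤ k → k < L.lo + L.m →
      (∃ g : Pm, Rep (look (tab tabs k)) g) ∧ P (tab tabs k) ∈ A) :
    ∀ k, L.lo ≤ k → k < L.hi → FactA tabs A (GrpL tabs L) k := by
  have key := range_mem tabs (GrpL tabs L ⊓ A) L.lo L.m L.hi (fun k => certL.getD k []) ?_ ?_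
  · intro k h1 h2
    obtain ⟨a, b⟩ := key k h1 h2
    exact ⟨a, b.1, b.2⟩
  · intro k h1 h2
    obtain ⟨a, b⟩ := hbase k h1 h2
    refine ⟨a, ⟨?_, b⟩⟩
    apply Subgroup.subset_closure
    refine ⟨k - L.lo, by omega, ?_⟩
    have : L.lo + (k - L.lo) = k := by omega
    rw [this]
  · intro k h1 h2
    obtain ⟨c1, c2⟩ := cert_of_certAllB tabs certL loL hc k (by omega) (by omega)
    refine ⟨rangeB_mono' ?_ c1, c2⟩
    have h := allBelow_spec hlo k h2
    rw [Nat.ble_eq_true_of_le h1] at h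
    exact Nat.le_of_ble_eq_true h

theorem grpL_le (l : Lvl) (S : Subgroup Pm) (h : ∀ j < l.m, P (tab tabs (l.lo + j)) ∈ S) :
    GrpL tabs l ≤ S := by
  unfold GrpL
  rw [Subgroup.closure_le]
  rintro g ⟨j, hj, hg⟩
  rw [hg]
  exact h j hj

theorem stab_of_rep' {f : ℕ → ℕ} {g : Pm} (h : Rep f g) (b : ℕ) (hb : b < 4060) (hf : f b = b) :
    g ∈ MulAction.stabilizer Pm (⟨b, hb⟩ : Fin 4060) := by
  rw [MulAction.mem_stabilizer_iff, Equiv.Perm.smul_def]
  apply Fin.ext
  rw [h]
  exact hf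

theorem fix_of_fixGB (l : Lvl) (b : ℕ) (hb : b < 4060) (hf : fixGB tabs l.lo l.m b = true)
    (hgood : ∀ j < l.m, ∃ g : Pm, Rep (look (tab tabs (l.lo + j))) g) :
    ∀ h ∈ GrpL tabs l, h ⟨b, hb⟩ = ⟨b, hb⟩ := by
  have hle : GrpL tabs l ≤ MulAction.stabilizer Pm (⟨b, hb⟩ : Fin 4060) := by
    apply grpL_le
    intro j hj
    exact stab_of_rep' (rep_P (hgood j hj).choose_spec) b hb (Nat.eq_of_beq_eq_true (allBelow_spec hf j hj))
  intro h hh
  have := MulAction.mem_stabilizer_iff.mp (hle hh)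
  rwa [Equiv.Perm.smul_def] at this

theorem orbL_card' (L : Lvl) : (orbL tabs L).card = countB (inO tabs L) 4060 := card_filter_fin _ _

end

end Cfsg.Agent.Helper22.BigChain
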