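import Cfsg.Agent.Helper22.BigPerm

/-!
# A graph on 4060 points given by bit rows, its automorphisms, and a determining set

The rows of the adjacency matrix are natural numbers (bit `k` of row `j` says whether `j` is joined to `k`).
A permutation given by a table is shown to preserve the graph by sending every row through a network of
delta swaps that realises the permutation on the bits.  A set `D` of points such that the rows restricted to `D`
are pairwise different is determining: an automorphism fixing `D` pointwise is trivial.
-/

set_option autoImplicit false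

namespace Cfsg.Agent.Helper22.BigGraph

open Cfsg.Agent.Helper22.BigPerm

/-! ### delta swaps -/

/-- exchange the bits `k` and `k + d` of `x` for every bit `k` of the mask `m` -/
def dswap (x m d : ℕ) : ℕ := (x ^^^ (((x >>> d) ^^^ x) &&& m)) ^^^ ((((x >>> d) ^^^ x) &&& m) <<< d)

/-- where bit `k` of the result of a delta swap comes from -/
def sig (m d k : ℕ) : ℕ :=
  if m.testBit k then k + d else if d ≤ k ∧ m.testBit (k - d) then k - d else k

theorem dswap_testBit (x m d k : ℕ) (hdisj : m &&& (m <<< d) = 0) :
    (dswap x m d).testBit k = x.testBit (sig m d k) := by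
  have hd : ∀ j, m.testBit j = true → m.testBit (j + d) = false := by
    intro j hj
    by_contra hcon
    rw [Bool.not_eq_false] at hcon
    have : (m &&& (m <<< d)).testBit (j + d) = true := by
      rw [Nat.testBit_and, Nat.testBit_shiftLeft, hcon]
      simp [hj]
    rw [hdisj] at this
    simp at this
  unfold dswap sig
  rw [Nat.testBit_xor, Nat.testBit_xor, Nat.testBit_and, Nat.testBit_xor, Nat.testBit_shiftRight,
    Nat.testBit_shiftLeft, Nat.testBit_and, Nat.testBit_xor, Nat.testBit_shiftRight]
  by_cases h1 : m.testBit k = true
  · rw [if_pos h1]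
    by_cases h2 : d ≤ k
    · have h3 : m.testBit (k - d) = false := by
        by_contra hcon
        rw [Bool.not_eq_false] at hcon
        have := hd (k - d) hcon
        rw [Nat.sub_add_cancel h2] at this
        rw [this] at h1
        exact absurd h1 (by simp)
      rw [h1, h3, add_comm d k]
      cases x.testBit k <;> cases x.testBit (k + d) <;> simp
    · rw [h1, add_comm d k]
      cases x.testBit k <;> cases x.testBit (k + d) <;> simp [h2]
  · rw [Bool.not_eq_true] at h1
    rw [if_neg (by simp [h1])]
    by_cases h2 : d ≤ k ∧ m.testBit (k - d) = true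
    · rw [if_pos h2, h1, h2.2]
      have : d + (k - d) = k := by omega
      rw [this]
      simp [h2.1]
    · rw [if_neg h2, h1]
      rw [not_and_or] at h2
      rcases h2 with h2 | h2
      · simp [h2]
      · rw [Bool.not_eq_true] at h2
        simp [h2]

/-- a network of delta swaps -/
def runNet (x : ℕ) : List (ℕ × ℕ) → ℕ
  | [] => x
  | (m, d) :: net => runNet (dswap x m d) net

/-- where bit `k` of the result of a network comes from -/
def idxNet : List (ℕ × ℕ) → ℕ → ℕ
  | [], k => k
  | (m, d) :: net, k => sig m d (idxNet net k)

/-- the masks of the network are admissible -/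
def netOK (net : List (ℕ × ℕ)) : Bool := net.all fun md => Nat.beq (md.1 &&& (md.1 <<< md.2)) 0

theorem runNet_testBit (net : List (ℕ × ℕ)) (h : netOK net = true) (x k : ℕ) :
    (runNet x net).testBit k = x.testBit (idxNet net k) := by
  induction net generalizing x with
  | nil => rfl
  | cons md net ih =>
    obtain ⟨m, d⟩ := md
    have h' : Nat.beq (m &&& (m <<< d)) 0 = true ∧ netOK net = true := by
      simpa [netOK, List.all_cons, Bool.and_eq_true] using h
    show (runNet (dswap x m d) net).testBit k = x.testBit (sig m d (idxNet net k))
    rw [ih h'.2, dswap_testBit _ _ _ _ (Nat.eq_of_beq_eq_true h'.1)]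

/-! ### the graph -/

section graph

variable (rows : List (List ℕ))

/-- the row of a point -/
def rowOf (j : ℕ) : ℕ := (rows.getD (Nat.shiftRight j 6) []).getD (Nat.land j 63) 0

/-- the adjacency relation -/
def adjB (j k : ℕ) : Bool := (rowOf rows j).testBit k

/-- the automorphisms of the graph -/
def autG : Subgroup Pm where
  carrier := {g | ∀ j k : Fin 4060, adjB rows (g j).1 (g k).1 = adjB rows j.1 k.1}
  one_mem' := fun _ _ => rfl
  mul_mem' := by
    intro f g hf hg j k
    show adjB rows (f (g j)).1 (f (g k)).1 = _
    rw [hf, hg]
  inv_mem' := by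
    intro g hg j k
    have := hg (g⁻¹ j) (g⁻¹ k)
    have e1 : g (g⁻¹ j) = j := Equiv.apply_symm_apply g j
    have e2 : g (g⁻¹ k) = k := Equiv.apply_symm_apply g k
    rw [e1, e2] at this
    exact this.symm

variable (tabs : List ℕ)

/-- the check that the table of index `t` preserves the graph, with a network for its action on the bits -/
def autB (t : ℕ) (net : List (ℕ × ℕ)) : Bool :=
  netOK net && allBelow (fun k => Nat.beq (idxNet net (look (tab tabs t) k)) k) 4060 &&
    allBelow (fun j => Nat.beq (runNet (rowOf rows j) net) (rowOf rows (look (tab tabs t) j))) 4060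

theorem aut_sound {t : ℕ} {net : List (ℕ × ℕ)} {g : Pm} (hg : Rep (look (tab tabs t)) g)
    (h : autB rows tabs t net = true) : g ∈ autG rows := by
  unfold autB at h
  rw [Bool.and_eq_true, Bool.and_eq_true] at h
  obtain ⟨⟨h1, h2⟩, h3⟩ := h
  intro j k
  have e2 := Nat.eq_of_beq_eq_true (allBelow_spec h2 k.1 k.2)
  have e3 := Nat.eq_of_beq_eq_true (allBelow_spec h3 j.1 j.2)
  unfold adjB
  rw [hg j, hg k, ← e3, runNet_testBit net h1, e2]

/-! ### determining sets -/

/-- the mask of a list of points -/
def maskOf : List ℕ → ℕ
  | [] => 0
  | d :: D => maskOf D ||| (1 <<< d)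

theorem testBit_maskOf (D : List ℕ) (k : ℕ) : (maskOf D).testBit k = true → k ∈ D := by
  induction D with
  | nil => simp [maskOf]
  | cons d D ih =>
    intro h
    unfold maskOf at h
    rw [Nat.testBit_or, Bool.or_eq_true] at h
    rcases h with h | h
    · exact List.mem_cons_of_mem _ (ih h)
    · rw [Nat.one_shiftLeft, Nat.testBit_two_pow] at h
      have : d = k := by simpa using h
      rw [this]
      exact List.mem_cons_self ..

/-- strictly increasing lists, as a Boolean -/
def incrB : List ℕ → Bool
  | [] => true
  | [_] => true
  | a :: b :: l => Nat.blt a b && incrB (b :: l)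

theorem incrB_pairwise : ∀ l : List ℕ, incrB l = true → l.Pairwise (· < ·)
  | [], _ => List.Pairwise.nil
  | [_], _ => List.pairwise_singleton _ _
  | a :: b :: l, h => by
    have h' : Nat.blt a b = true ∧ incrB (b :: l) = true := by
      simpa [incrB, Bool.and_eq_true] using h
    have hab : a < b := by simpa [Nat.blt] using h'.1
    have ih := incrB_pairwise (b :: l) h'.2
    rw [List.pairwise_cons]
    refine ⟨?_, ih⟩
    intro c hc
    rcases List.mem_cons.mp hc with rfl | hc
    · exact hab
    · exact lt_trans hab ((List.pairwise_cons.mp ih).1 c hc)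

/-- the check that `D` is determining: `ord` lists all points, with strictly increasing restricted rows -/
def detB (D ord : List ℕ) : Bool :=
  Nat.beq ord.length 4060 && (ord.all fun x => Nat.blt x 4060) &&
    incrB (ord.map fun x => rowOf rows x &&& maskOf D)

theorem det_sound {D ord : List ℕ} (h : detB rows D ord = true) (hD : ∀ d ∈ D, d < 4060) (g : Pm)
    (hg : g ∈ autG rows) (hfix : ∀ d (hd : d ∈ D), g ⟨d, hD d hd⟩ = ⟨d, hD d hd⟩) : g = 1 := by
  unfold detB at h
  rw [Bool.and_eq_true, Bool.and_eq_true] at h
  obtain ⟨⟨h1, h2⟩, h3⟩ := h
  have hlen : ord.length = 4060 := Nat.eq_of_beq_eq_true h1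
  have hlt : ∀ x ∈ ord, x < 4060 := fun x hx => by
    simpa [Nat.blt] using List.all_eq_true.mp h2 x hx
  have hpw := incrB_pairwise _ h3
  -- the restricted rows are pairwise different along `ord`
  have hnd : (ord.map fun x => rowOf rows x &&& maskOf D).Nodup :=
    hpw.imp (fun hab => ne_of_lt hab)
  have hnd' : ord.Nodup := List.Nodup.of_map _ hnd
  -- `ord` lists every point
  have hall : ∀ x : Fin 4060, x.1 ∈ ord := by
    classical
    let s : Finset (Fin 4060) := Finset.univ.filter fun x => x.1 ∈ ord
    have hs : s.card = 4060 := by
      have e : s.image Fin.val = ord.toFinset := by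
        ext x
        simp only [Finset.mem_image, Finset.mem_filter, Finset.mem_univ, true_and, List.mem_toFinset, s]
        constructor
        · rintro ⟨y, hy, rfl⟩; exact hy
        · intro hx; exact ⟨⟨x, hlt x hx⟩, hx, rfl⟩
      rw [← Finset.card_image_of_injective _ Fin.val_injective, e, List.toFinset_card_of_nodup hnd', hlen]
    have hs' : s = Finset.univ := by
      apply Finset.eq_univ_of_card
      rw [hs, Fintype.card_fin]
    intro x
    have : x ∈ s := by rw [hs']; exact Finset.mem_univ x
    exact (Finset.mem_filter.mp this).2
  -- the restricted rows of `x` and `g x` agree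
  apply Equiv.ext
  intro x
  have hrow : rowOf rows (g x).1 &&& maskOf D = rowOf rows x.1 &&& maskOf D := by
    apply Nat.eq_of_testBit_eq
    intro k
    rw [Nat.testBit_and, Nat.testBit_and]
    by_cases hk : (maskOf D).testBit k = true
    · have hkD := testBit_maskOf D k hk
      have := hg x ⟨k, hD k hkD⟩
      rw [hfix k hkD] at this
      unfold adjB at this
      rw [this]
    · rw [Bool.not_eq_true] at hk
      rw [hk]
      simp
  have := List.inj_on_of_nodup_map hnd (hall (g x)) (hall x) hrow
  exact Fin.ext this

end graph

end Cfsg.Agent.Helper22.BigGraph
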