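import Mathlib

/-!
# Permutations of 4060 points described by packed tables

A table is a natural number holding 4060 entries of twelve bits.  A list of tables is fixed; words in the
tables are given either as lists of indices or packed into a natural number, seven bits per letter.  The Boolean
checks of this file are meant to be evaluated by the kernel.
-/

set_option autoImplicit false

namespace Cfsg.Agent.Helper22.BigPerm

/-- the permutations of 4060 points -/
abbrev Pm : Type := Equiv.Perm (Fin 4060)

/-- an entry of a table packed into a natural number, twelve bits per entry -/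
def look (t i : ℕ) : ℕ := Nat.land (Nat.shiftRight t (Nat.mul 12 i)) 4095

/-- a function on the natural numbers describing a permutation -/
def Rep (f : ℕ → ℕ) (g : Pm) : Prop := ∀ i : Fin 4060, (g i).1 = f i.1

theorem rep_one : Rep (fun i => i) 1 := fun _ => rfl

theorem rep_mul {f f' : ℕ → ℕ} {g g' : Pm} (h : Rep f g) (h' : Rep f' g') :
    Rep (fun i => f (f' i)) (g * g') := by
  intro i
  show (g (g' i)).1 = f (f' i.1)
  rw [h, h']

theorem rep_congr {f f' : ℕ → ℕ} {g : Pm} (h : Rep f g) (hff : ∀ i < 4060, f' i = f i) : Rep f' g :=
  fun i => by rw [h, hff i.1 i.2]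

theorem rep_unique {f : ℕ → ℕ} {g g' : Pm} (h : Rep f g) (h' : Rep f g') : g = g' := by
  apply Equiv.ext
  intro i
  apply Fin.ext
  rw [h, h']

theorem rep_lt {f : ℕ → ℕ} {g : Pm} (h : Rep f g) (i : ℕ) (hi : i < 4060) : f i < 4060 := by
  have := h ⟨i, hi⟩
  rw [← this]
  exact (g ⟨i, hi⟩).2

theorem rep_apply {f : ℕ → ℕ} {g : Pm} (h : Rep f g) (i : ℕ) (hi : i < 4060) :
    g ⟨i, hi⟩ = ⟨f i, rep_lt h i hi⟩ := Fin.ext (h ⟨i, hi⟩)

/-- the permutation of a table, if there is one -/
noncomputable def P (t : ℕ) : Pm := by
  classical
  exact if h : ∃ g : Pm, Rep (look t) g then h.choose else 1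

theorem P_eq {t : ℕ} {g : Pm} (h : Rep (look t) g) : P t = g := by
  classical
  have hex : ∃ g : Pm, Rep (look t) g := ⟨g, h⟩
  unfold P
  rw [dif_pos hex]
  exact rep_unique hex.choose_spec h

theorem rep_P {t : ℕ} {g : Pm} (h : Rep (look t) g) : Rep (look t) (P t) := by
  rw [P_eq h]
  exact h

/-- a Boolean function holds below a bound -/
def allBelow (f : ℕ → Bool) (n : ℕ) : Bool := Nat.rec true (fun k ih => cond (f k) ih false) n

theorem allBelow_spec {f : ℕ → Bool} : ∀ {n : ℕ}, allBelow f n = true → ∀ i < n, f i = true := by
  intro n
  induction n with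
  | zero => intro _ i hi; omega
  | succ n ih =>
    intro h i hi
    have h' : cond (f n) (allBelow f n) false = true := h
    cases hfn : f n with
    | false => rw [hfn] at h'; exact absurd h' (by simp)
    | true =>
      rw [hfn] at h'
      rcases Nat.lt_succ_iff_lt_or_eq.mp hi with h1 | h1
      · exact ih h' i h1
      · rw [h1]; exact hfn

/-- a table with a left inverse defines a permutation -/
theorem good_of_inv (t t' : ℕ)
    (h : allBelow (fun i => Nat.blt (look t i) 4060 && Nat.beq (look t' (look t i)) i) 4060 = true) :
    ∃ g : Pm, Rep (look t) g := by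
  have h1 : ∀ i < 4060, look t i < 4060 ∧ look t' (look t i) = i := by
    intro i hi
    have := allBelow_spec h i hi
    rw [Bool.and_eq_true] at this
    exact ⟨by simpa [Nat.blt] using this.1, Nat.eq_of_beq_eq_true this.2⟩
  let f : Fin 4060 → Fin 4060 := fun i => ⟨look t i.1, (h1 i.1 i.2).1⟩
  have hinj : Function.Injective f := by
    intro i j hij
    have e : look t i.1 = look t j.1 := congrArg Fin.val hij
    apply Fin.ext
    rw [← (h1 i.1 i.2).2, ← (h1 j.1 j.2).2, e]
  have hbij : Function.Bijective f := Finite.injective_iff_bijective.mp hinj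
  exact ⟨Equiv.ofBijective f hbij, fun i => rfl⟩

/-- the number of values below a bound at which a Boolean function holds -/
def countB (f : ℕ → Bool) (n : ℕ) : ℕ := Nat.rec 0 (fun k ih => cond (f k) (Nat.succ ih) ih) n

theorem card_filter_range (f : ℕ → Bool) (n : ℕ) :
    ((Finset.range n).filter fun i => f i = true).card = countB f n := by
  induction n with
  | zero => rfl
  | succ n ih =>
    rw [Finset.range_add_one, Finset.filter_insert]
    show _ = cond (f n) (Nat.succ (countB f n)) (countB f n)
    cases hfn : f n with
    | true =>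
      rw [if_pos rfl, Finset.card_insert_of_notMem (by simp), ih]
      rfl
    | false =>
      rw [if_neg (by simp), ih]
      rfl

theorem card_filter_fin (f : ℕ → Bool) (n : ℕ) :
    ((Finset.univ : Finset (Fin n)).filter fun x => f x.1 = true).card = countB f n := by
  rw [← card_filter_range, ← Finset.card_map Fin.valEmbedding]
  congr 1
  ext i
  simp only [Finset.mem_map, Finset.mem_filter, Finset.mem_univ, true_and, Fin.valEmbedding_apply,
    Finset.mem_range]
  constructor
  · rintro ⟨x, hx, rfl⟩
    exact ⟨x.2, hx⟩
  · rintro ⟨h1, h2⟩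
    exact ⟨⟨i, h1⟩, h2, rfl⟩

/-- evaluate the argument first: the kernel then meets the same terms again and again -/
def strict {α : Type} (g : ℕ → α) (a : ℕ) : α := Nat.rec (g 0) (fun k _ => g (Nat.succ k)) a

theorem strict_eq {α : Type} (g : ℕ → α) (a : ℕ) : strict g a = g a := by
  cases a <;> rfl

section tabs

variable (tabs : List ℕ)

/-- the table of an index; the index is evaluated first, so that the kernel meets the same term again -/
def tab (k : ℕ) : ℕ := Nat.rec (tabs.getD 0 0) (fun j _ => tabs.getD (Nat.succ j) 0) k

/-- the function of a word in the tables -/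
def applyW : List ℕ → ℕ → ℕ
  | [], x => x
  | k :: w, x => strict (fun i => look (tab tabs k) i) (applyW w x)

theorem applyW_cons (k : ℕ) (w : List ℕ) (x : ℕ) :
    applyW tabs (k :: w) x = look (tab tabs k) (applyW tabs w x) := strict_eq _ _

/-- an entry of the table of an index; both the index and the point are evaluated first -/
def lookS (l i : ℕ) : ℕ := strict (fun l' => strict (fun i' => look (tab tabs l') i') i) l

theorem lookS_eq (l i : ℕ) : lookS tabs l i = look (tab tabs l) i := by
  unfold lookS
  rw [strict_eq, strict_eq]

/-- the permutation of a word in the tables -/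
noncomputable def permW : List ℕ → Pm
  | [] => 1
  | k :: w => P (tab tabs k) * permW w

/-- the function of a packed word, seven bits per letter, with fuel; the letter `0` is skipped -/
def applyC : ℕ → ℕ → ℕ → ℕ
  | 0, _, x => x
  | f + 1, c, x =>
    cond (Nat.beq (Nat.land c 127) 0) (applyC f (Nat.shiftRight c 7) x)
      (lookS tabs (Nat.land c 127) (applyC f (Nat.shiftRight c 7) x))

/-- the letters of a packed word; the letter `0` is skipped -/
def lettersC : ℕ → ℕ → List ℕ
  | 0, _ => []
  | f + 1, c =>
    cond (Nat.beq (Nat.land c 127) 0) (lettersC f (Nat.shiftRight c 7))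
      (Nat.land c 127 :: lettersC f (Nat.shiftRight c 7))

theorem applyC_eq (f c x : ℕ) : applyC tabs f c x = applyW tabs (lettersC f c) x := by
  induction f generalizing c with
  | zero => rfl
  | succ f ih =>
    unfold applyC lettersC
    cases Nat.beq (Nat.land c 127) 0 with
    | true => exact ih _
    | false =>
      show lookS tabs _ (applyC tabs f _ x) = applyW tabs (_ :: lettersC f _) x
      rw [lookS_eq, applyW_cons, ih]

theorem lettersC_zero (f : ℕ) : lettersC f 0 = [] := by
  induction f with
  | zero => rfl
  | succ f ih =>
    unfold lettersC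
    have h1 : Nat.land 0 127 = 0 := by decide
    have h2 : Nat.shiftRight 0 7 = 0 := by decide
    rw [h1, h2, ih]
    rfl

/-- every table of the word has a permutation -/
def GoodW (w : List ℕ) : Prop := ∀ k ∈ w, ∃ g : Pm, Rep (look (tab tabs k)) g

theorem rep_permW {w : List ℕ} (h : GoodW tabs w) : Rep (applyW tabs w) (permW tabs w) := by
  induction w with
  | nil => exact rep_one
  | cons k w ih =>
    obtain ⟨g, hg⟩ := h k (List.mem_cons_self ..)
    have := rep_mul (rep_P hg) (ih fun j hj => h j (List.mem_cons_of_mem _ hj))
    apply rep_congr this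
    intro i _
    exact applyW_cons tabs k w i

theorem permW_append (w w' : List ℕ) : permW tabs (w ++ w') = permW tabs w * permW tabs w' := by
  induction w with
  | nil => simp [permW]
  | cons k w ih => simp [permW, ih, mul_assoc]

theorem permW_mem {S : Subgroup Pm} {w : List ℕ} (h : ∀ k ∈ w, P (tab tabs k) ∈ S) : permW tabs w ∈ S := by
  induction w with
  | nil => exact S.one_mem
  | cons k w ih =>
    exact S.mul_mem (h k (List.mem_cons_self ..)) (ih fun j hj => h j (List.mem_cons_of_mem _ hj))

/-- the check of a certificate: the table of index `k` is the product of the word -/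
def certB (k : ℕ) (w : List ℕ) : Bool :=
  allBelow (fun i => Nat.beq (look (tab tabs k) i) (applyW tabs w i)) 4060

theorem cert_sound {k : ℕ} {w : List ℕ} (hw : GoodW tabs w) (h : certB tabs k w = true) :
    Rep (look (tab tabs k)) (permW tabs w) := by
  apply rep_congr (rep_permW tabs hw)
  intro i hi
  exact Nat.eq_of_beq_eq_true (allBelow_spec h i hi)

/-- the letters of the word lie in a range -/
def rangeB (lo hi : ℕ) (w : List ℕ) : Bool := w.all fun j => Nat.ble lo j && Nat.blt j hi

/-- the tables of a range of indices lie in a subgroup and have permutations, if each of them either is known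
to or has a certificate over the earlier tables of the range -/
theorem range_mem (S : Subgroup Pm) (lo m hi : ℕ) (certs : ℕ → List ℕ)
    (hbase : ∀ k, lo ≤ k → k < lo + m → (∃ g : Pm, Rep (look (tab tabs k)) g) ∧ P (tab tabs k) ∈ S)
    (hcert : ∀ k, lo + m ≤ k → k < hi → rangeB lo k (certs k) = true ∧ certB tabs k (certs k) = true) :
    ∀ k, lo ≤ k → k < hi → (∃ g : Pm, Rep (look (tab tabs k)) g) ∧ P (tab tabs k) ∈ S := by
  intro k
  induction k using Nat.strong_induction_on with
  | _ k ih =>
    intro hlo hhi
    by_cases hk : k < lo + m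
    · exact hbase k hlo hk
    · push Not at hk
      obtain ⟨h1, h2⟩ := hcert k hk hhi
      have hletters : ∀ j ∈ certs k, lo ≤ j ∧ j < k := by
        intro j hj
        have := List.all_eq_true.mp h1 j hj
        rw [Bool.and_eq_true] at this
        exact ⟨Nat.le_of_ble_eq_true this.1, by simpa [Nat.blt] using this.2⟩
      have hgood : GoodW tabs (certs k) := fun j hj =>
        (ih j (hletters j hj).2 (hletters j hj).1 (lt_trans (hletters j hj).2 hhi)).1
      have hrep := cert_sound tabs hgood h2
      refine ⟨⟨_, hrep⟩, ?_⟩
      rw [P_eq hrep]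
      exact permW_mem tabs fun j hj =>
        (ih j (hletters j hj).2 (hletters j hj).1 (lt_trans (hletters j hj).2 hhi)).2

end tabs

end Cfsg.Agent.Helper22.BigPerm
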