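import Mathlib

set_option autoImplicit false

/-!
Finite subsets of a type `α` indexed by `e : α ≃ Fin n`, encoded as natural number bit masks.
All operations on masks used here (`&&&`, `^^^`, `|||`, `testBit`) are accelerated by the kernel
on literals, so statements about masks can be settled by kernel evaluation.
-/

namespace Cfsg.Agent.Helper22.Bitmask

variable {α : Type*} [Fintype α] [DecidableEq α] {n : ℕ} (e : α ≃ Fin n)

/-- The bit mask of a finite set. -/
def toMask (s : Finset α) : ℕ := ∑ a ∈ s, 2 ^ (e a : ℕ)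

/-- The finite set of a bit mask. -/
def ofMask (m : ℕ) : Finset α := Finset.univ.filter (fun a => m.testBit (e a) = true)

/-- Number of set bits among the lowest `n` bits. -/
def popc (n m : ℕ) : ℕ := ((List.range n).filter (fun k => m.testBit k)).length

omit [Fintype α] in
theorem testBit_toMask (s : Finset α) (k : ℕ) :
    (toMask e s).testBit k = true ↔ ∃ a ∈ s, (e a : ℕ) = k := by
  have hinj : Function.Injective (fun a : α => (e a : ℕ)) :=
    fun a b h => e.injective (Fin.ext h)
  have h1 : toMask e s = ∑ i ∈ s.map ⟨fun a : α => (e a : ℕ), hinj⟩, 2 ^ i := by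
    rw [Finset.sum_map]
    rfl
  rw [← Nat.mem_bitIndices, ← List.mem_toFinset, h1, Finset.toFinset_bitIndices_sum_two_pow]
  simp

omit [Fintype α] in
theorem testBit_toMask_apply (s : Finset α) (a : α) :
    (toMask e s).testBit (e a) = true ↔ a ∈ s := by
  rw [testBit_toMask]
  constructor
  · rintro ⟨b, hb, hba⟩
    have : b = a := e.injective (Fin.ext hba)
    rwa [← this]
  · intro ha
    exact ⟨a, ha, rfl⟩

theorem mem_ofMask (m : ℕ) (a : α) : a ∈ ofMask e m ↔ m.testBit (e a) = true := by
  simp [ofMask]

theorem ofMask_toMask (s : Finset α) : ofMask e (toMask e s) = s := by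
  ext a
  rw [mem_ofMask, testBit_toMask_apply]

omit [Fintype α] in
theorem toMask_lt (s : Finset α) : toMask e s < 2 ^ n := by
  apply Nat.lt_pow_two_of_testBit
  intro i hi
  by_contra h
  rw [Bool.not_eq_false] at h
  obtain ⟨a, _, ha⟩ := (testBit_toMask e s i).1 h
  have := (e a).2
  omega

theorem toMask_ofMask (m : ℕ) (hm : m < 2 ^ n) : toMask e (ofMask e m) = m := by
  apply Nat.eq_of_testBit_eq
  intro i
  by_cases hi : i < n
  · have h1 : i = ((e (e.symm ⟨i, hi⟩) : Fin n) : ℕ) := by simp
    rw [Bool.eq_iff_iff, h1, testBit_toMask_apply, mem_ofMask]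
  · have h1 : m.testBit i = false :=
      Nat.testBit_lt_two_pow (lt_of_lt_of_le hm (Nat.pow_le_pow_right (by norm_num) (by omega)))
    have h2 : (toMask e (ofMask e m)).testBit i = false :=
      Nat.testBit_lt_two_pow (lt_of_lt_of_le (toMask_lt e _)
        (Nat.pow_le_pow_right (by norm_num) (by omega)))
    rw [h1, h2]

omit [Fintype α] in
theorem toMask_injective : Function.Injective (toMask e : Finset α → ℕ) := by
  intro s t h
  ext a
  rw [← testBit_toMask_apply e s a, ← testBit_toMask_apply e t a, h]

theorem ofMask_injOn (m h : ℕ) (hm : m < 2 ^ n) (hh : h < 2 ^ n)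
    (heq : ofMask e m = ofMask e h) : m = h := by
  rw [← toMask_ofMask e m hm, ← toMask_ofMask e h hh, heq]

theorem exists_mask (s : Finset α) : ∃ m, m < 2 ^ n ∧ ofMask e m = s :=
  ⟨toMask e s, toMask_lt e s, ofMask_toMask e s⟩

theorem land_eq_self_iff (m h : ℕ) :
    m &&& h = m ↔ ∀ k, m.testBit k = true → h.testBit k = true := by
  constructor
  · intro hm k hk
    rw [← hm, Nat.testBit_and, Bool.and_eq_true] at hk
    exact hk.2
  · intro hall
    apply Nat.eq_of_testBit_eq
    intro i
    rw [Nat.testBit_and]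
    by_cases hi : m.testBit i = true
    · rw [hi, hall i hi]; rfl
    · rw [Bool.not_eq_true] at hi
      rw [hi]; rfl

theorem ofMask_subset_of_land (m h : ℕ) (hmh : m &&& h = m) : ofMask e m ⊆ ofMask e h := by
  intro a ha
  rw [mem_ofMask] at ha ⊢
  exact (land_eq_self_iff m h).1 hmh _ ha

theorem land_of_ofMask_subset (m h : ℕ) (hm : m < 2 ^ n) (hsub : ofMask e m ⊆ ofMask e h) :
    m &&& h = m := by
  rw [land_eq_self_iff]
  intro k hk
  have hkn : k < n := by
    by_contra hcon
    have : m.testBit k = false :=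
      Nat.testBit_lt_two_pow (lt_of_lt_of_le hm (Nat.pow_le_pow_right (by norm_num) (by omega)))
    rw [this] at hk
    exact Bool.false_ne_true hk
  have h1 : k = ((e (e.symm ⟨k, hkn⟩) : Fin n) : ℕ) := by simp
  have h2 : e.symm ⟨k, hkn⟩ ∈ ofMask e m := by
    rw [mem_ofMask, ← h1]; exact hk
  have h3 := hsub h2
  rw [mem_ofMask, ← h1] at h3
  exact h3

theorem ofMask_subset_iff (m h : ℕ) (hm : m < 2 ^ n) :
    ofMask e m ⊆ ofMask e h ↔ m &&& h = m :=
  ⟨land_of_ofMask_subset e m h hm, ofMask_subset_of_land e m h⟩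

theorem toMask_subset_iff (s t : Finset α) : s ⊆ t ↔ toMask e s &&& toMask e t = toMask e s := by
  rw [← ofMask_subset_iff e _ _ (toMask_lt e s), ofMask_toMask, ofMask_toMask]

theorem card_ofMask (m : ℕ) : (ofMask e m).card = popc n m := by
  unfold popc ofMask
  have h1 : ((List.range n).filter (fun k => m.testBit k)).length
      = ((Finset.range n).filter (fun k => m.testBit k = true)).card := by
    rw [← List.toFinset_card_of_nodup (List.Nodup.filter _ List.nodup_range)]
    congr 1
    ext k
    simp
  rw [h1]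
  apply Finset.card_bij (fun a _ => ((e a : Fin n) : ℕ))
  · intro a ha
    simp only [Finset.mem_filter, Finset.mem_univ, true_and] at ha
    simp only [Finset.mem_filter, Finset.mem_range]
    exact ⟨(e a).2, ha⟩
  · intro a _ b _ hab
    exact e.injective (Fin.ext hab)
  · intro k hk
    simp only [Finset.mem_filter, Finset.mem_range] at hk
    refine ⟨e.symm ⟨k, hk.1⟩, ?_, by simp⟩
    simp only [Finset.mem_filter, Finset.mem_univ, true_and, Equiv.apply_symm_apply]
    exact hk.2

theorem card_eq_popc (s : Finset α) : s.card = popc n (toMask e s) := by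
  rw [← card_ofMask e, ofMask_toMask]

theorem ofMask_inter (m h : ℕ) : ofMask e (m &&& h) = ofMask e m ∩ ofMask e h := by
  ext a
  simp [mem_ofMask, Nat.testBit_and]

theorem ofMask_union (m h : ℕ) : ofMask e (m ||| h) = ofMask e m ∪ ofMask e h := by
  ext a
  simp [mem_ofMask, Nat.testBit_or]

theorem ofMask_xor (m h : ℕ) : ofMask e (m ^^^ h) = symmDiff (ofMask e m) (ofMask e h) := by
  ext a
  simp only [mem_ofMask, Nat.testBit_xor, Finset.mem_symmDiff]
  cases m.testBit (e a) <;> cases h.testBit (e a) <;> simp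

theorem toMask_inter (s t : Finset α) : toMask e (s ∩ t) = toMask e s &&& toMask e t := by
  rw [← toMask_ofMask e (toMask e s &&& toMask e t) (Nat.and_lt_two_pow _ (toMask_lt e t)),
    ofMask_inter, ofMask_toMask, ofMask_toMask]

theorem toMask_union (s t : Finset α) : toMask e (s ∪ t) = toMask e s ||| toMask e t := by
  rw [← toMask_ofMask e (toMask e s ||| toMask e t) (Nat.or_lt_two_pow (toMask_lt e s) (toMask_lt e t)),
    ofMask_union, ofMask_toMask, ofMask_toMask]

theorem toMask_symmDiff (s t : Finset α) : toMask e (symmDiff s t) = toMask e s ^^^ toMask e t := by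
  rw [← toMask_ofMask e (toMask e s ^^^ toMask e t) (Nat.xor_lt_two_pow (toMask_lt e s) (toMask_lt e t)),
    ofMask_xor, ofMask_toMask, ofMask_toMask]

end Cfsg.Agent.Helper22.Bitmask
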