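import Cfsg.Agent.Helper22.Summands

/-!
# The census of the minimal vectors by their inner product with a fixed minimal vector
-/

set_option autoImplicit false

namespace Cfsg.Agent.Helper22.Census

open Cfsg Cfsg.Agent.Helper27 Cfsg.Agent.Helper22.Co0Mono Cfsg.Agent.Helper22.CrossStab
  Cfsg.Agent.Helper22.Co0Center Cfsg.Agent.Helper22.LeechShapes Cfsg.Agent.Helper22.Xi
  Cfsg.Agent.Helper22.MinTrans Cfsg.Agent.Helper22.Norm6Trans Cfsg.Agent.Helper22.Norm8Trans
  Cfsg.Agent.Helper22.Co2Trans Cfsg.Agent.Helper22.Co2Trans2 Cfsg.Agent.Helper22.Co0Order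
  Cfsg.Agent.Helper22.Summands
open scoped Pointwise

/-! ### Fibrewise counting -/

theorem ncard_fibered {α β : Type*} (A : Set α) (hA : A.Finite) (F : α → Set β) (c : ℕ)
    (hc : ∀ a ∈ A, (F a).ncard = c) (hfin : ∀ a ∈ A, (F a).Finite) :
    {p : α × β | p.1 ∈ A ∧ p.2 ∈ F p.1}.ncard = A.ncard * c := by
  classical
  have : Fintype ↥A := hA.fintype
  have : ∀ a : ↥A, Finite ↥(F a.1) := fun a => (hfin a.1 a.2).to_subtype
  let e : ↥{p : α × β | p.1 ∈ A ∧ p.2 ∈ F p.1} ≃ Σ a : ↥A, ↥(F a.1) :=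
    { toFun := fun p => ⟨⟨p.1.1, p.2.1⟩, ⟨p.1.2, p.2.2⟩⟩
      invFun := fun q => ⟨(q.1.1, q.2.1), q.1.2, q.2.2⟩
      left_inv := fun p => rfl
      right_inv := fun q => rfl }
  rw [← Nat.card_coe_set_eq, Nat.card_congr e, Nat.card_sigma]
  have : ∀ a : ↥A, Nat.card ↥(F a.1) = c := by
    intro a
    rw [Nat.card_coe_set_eq]
    exact hc a.1 a.2
  simp only [this]
  rw [Finset.sum_const, Finset.card_univ, smul_eq_mul, ← Nat.card_eq_fintype_card, Nat.card_coe_set_eq]

/-! ### The sets -/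

/-- lattice vectors with a given sum of squares -/
def L (n : ℤ) : Set ↥leechLattice := {v | sqNorm (v : GolayPt → ℤ) = n}

theorem ncard_L_of {n : ℤ} {c : ℕ} (h : {x : GolayPt → ℤ | x ∈ leechLattice ∧ sqNorm x = n}.ncard = c) :
    (L n).ncard = c := by
  rw [← h, ← Set.ncard_image_of_injective _ Subtype.val_injective]
  congr 1
  ext x
  constructor
  · rintro ⟨v, hv, rfl⟩
    exact ⟨v.2, hv⟩
  · rintro ⟨hx, hn⟩
    exact ⟨⟨x, hx⟩, hn, rfl⟩

theorem ncard_L32 : (L 32).ncard = 196560 := ncard_L_of leech_ncard_32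
theorem ncard_L48 : (L 48).ncard = 16773120 := ncard_L_of leech_ncard_48
theorem ncard_L64 : (L 64).ncard = 398034000 := ncard_L_of leech_ncard_64

theorem finite_L32 : (L 32).Finite := Set.finite_of_ncard_ne_zero (by rw [ncard_L32]; norm_num)
theorem finite_L48 : (L 48).Finite := Set.finite_of_ncard_ne_zero (by rw [ncard_L48]; norm_num)
theorem finite_L64 : (L 64).Finite := Set.finite_of_ncard_ne_zero (by rw [ncard_L64]; norm_num)

/-- minimal vectors with a given inner product with `v` -/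
def X (v : ↥leechLattice) (k : ℤ) : Set ↥leechLattice :=
  {w | sqNorm (w : GolayPt → ℤ) = 32 ∧ dotInt (v : GolayPt → ℤ) (w : GolayPt → ℤ) = k}

theorem X_sub (v : ↥leechLattice) (k : ℤ) : X v k ⊆ L 32 := fun _ hw => hw.1

theorem finite_X (v : ↥leechLattice) (k : ℤ) : (X v k).Finite := finite_L32.subset (X_sub v k)

theorem smul_mem_X (g : ↥Co0) {v w : ↥leechLattice} {k : ℤ} (hw : w ∈ X v k) : g • w ∈ X (g • v) k :=
  ⟨by rw [co0_norm, hw.1], by rw [co0_dot, hw.2]⟩

theorem ncard_X_smul (g : ↥Co0) (v : ↥leechLattice) (k : ℤ) : (X (g • v) k).ncard = (X v k).ncard := by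
  have himg : (fun w : ↥leechLattice => g • w) '' X v k = X (g • v) k := by
    ext w
    constructor
    · rintro ⟨w', hw', rfl⟩
      exact smul_mem_X g hw'
    · intro hw
      refine ⟨g⁻¹ • w, ?_, smul_inv_smul g w⟩
      have := smul_mem_X g⁻¹ hw
      rwa [inv_smul_smul] at this
  rw [← himg]
  exact Set.ncard_image_of_injective _ (MulAction.injective g)

theorem dot_neg_right (a b : GolayPt → ℤ) : dotInt a (-b) = -dotInt a b := by
  simp only [dotInt, Pi.neg_apply, mul_neg, Finset.sum_neg_distrib]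

theorem sqNorm_neg (a : GolayPt → ℤ) : sqNorm (-a) = sqNorm a := by
  simp [sqNorm]

theorem ncard_X_neg (v : ↥leechLattice) (k : ℤ) : (X v (-k)).ncard = (X v k).ncard := by
  have himg : (fun w : ↥leechLattice => -w) '' X v k = X v (-k) := by
    ext w
    constructor
    · rintro ⟨w', hw', rfl⟩
      refine ⟨?_, ?_⟩
      · show sqNorm (-(w' : GolayPt → ℤ)) = 32
        rw [sqNorm_neg, hw'.1]
      · show dotInt (v : GolayPt → ℤ) (-(w' : GolayPt → ℤ)) = -k
        rw [dot_neg_right, hw'.2]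
    · intro hw
      refine ⟨-w, ⟨?_, ?_⟩, neg_neg w⟩
      · show sqNorm (-(w : GolayPt → ℤ)) = 32
        rw [sqNorm_neg, hw.1]
      · show dotInt (v : GolayPt → ℤ) (-(w : GolayPt → ℤ)) = k
        rw [dot_neg_right, hw.2, neg_neg]
  rw [← himg]
  exact Set.ncard_image_of_injective _ neg_injective

/-- the number of minimal vectors with a given inner product does not depend on the minimal vector -/
theorem ncard_X_const (v v' : ↥leechLattice) (hv : v ∈ L 32) (hv' : v' ∈ L 32) (k : ℤ) :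
    (X v k).ncard = (X v' k).ncard := by
  obtain ⟨g, hg⟩ := min_transitive v v' hv hv'
  rw [← hg, ncard_X_smul]

/-! ### The double count -/

theorem finite_T (u : ↥leechLattice) : (T u).Finite := finite_L32.subset (fun _ hv => hv.1)

/-- pairs of minimal vectors with inner product `k` correspond to the decompositions of the vectors of sum
of squares `64 + 2 k` -/
theorem ncard_pairs (k : ℤ) :
    {p : ↥leechLattice × ↥leechLattice | p.1 ∈ L 32 ∧ p.2 ∈ X p.1 k}.ncard =
      {q : ↥leechLattice × ↥leechLattice | q.1 ∈ L (64 + 2 * k) ∧ q.2 ∈ T q.1}.ncard := by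
  apply Set.ncard_congr (fun p _ => (p.1 + p.2, p.1))
  · rintro ⟨v, w⟩ ⟨hv, hw1, hw2⟩
    simp only at hv hw1 hw2 ⊢
    refine ⟨?_, hv, ?_⟩
    · show sqNorm ((v : GolayPt → ℤ) + (w : GolayPt → ℤ)) = 64 + 2 * k
      rw [sqNorm_add, hv, hw1, hw2]
      ring
    · show sqNorm ((v : GolayPt → ℤ) + (w : GolayPt → ℤ) - (v : GolayPt → ℤ)) = 32
      rw [add_sub_cancel_left]
      exact hw1
  · rintro ⟨v, w⟩ ⟨v', w'⟩ _ _ h
    simp only [Prod.mk.injEq] at h
    obtain ⟨h1, h2⟩ := h
    subst h2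
    rw [add_right_inj] at h1
    rw [h1]
  · rintro ⟨u, v⟩ ⟨hu, hv1, hv2⟩
    simp only at hu hv1 hv2
    refine ⟨(v, u - v), ⟨hv1, hv2, ?_⟩, ?_⟩
    · show dotInt (v : GolayPt → ℤ) ((u : GolayPt → ℤ) - (v : GolayPt → ℤ)) = k
      have h1 := sqNorm_add (v : GolayPt → ℤ) ((u : GolayPt → ℤ) - (v : GolayPt → ℤ))
      rw [add_sub_cancel, hv1, hv2] at h1
      have hu' : sqNorm (u : GolayPt → ℤ) = 64 + 2 * k := hu
      rw [hu'] at h1
      linarith
    · simp

/-- the decompositions of a vector of sum of squares 64 -/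
theorem e_sub_norm (v : GolayPt → ℤ) : sqNorm ((e : GolayPt → ℤ) - v) = 64 + sqNorm v - 16 * v (pt 0) := by
  rw [sqNorm_sub, sqNorm_e, e_coe]
  have : dotInt (Pi.single (pt 0) 8) v = 8 * v (pt 0) := by
    classical
    unfold dotInt
    rw [Finset.sum_eq_single (pt 0)]
    · rw [Pi.single_eq_same]
    · intro b _ hb
      rw [Pi.single_eq_of_ne hb]
      ring
    · intro h
      exact absurd (Finset.mem_univ _) h
  rw [this]
  ring

/-- the vector `4 e_0 + s e_j` -/
def pairVec (j : GolayPt) (s : ℤ) : GolayPt → ℤ := Pi.single (pt 0) 4 + Pi.single j s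

theorem pairVec_mem {j : GolayPt} {s : ℤ} (hs : s = 4 ∨ s = -4) : pairVec j s ∈ leechLattice := by
  unfold pairVec
  rw [mem_leechLattice_iff]
  refine ⟨0, Pi.single (pt 0) 2 + Pi.single j (s / 2), ?_, ?_, ?_⟩
  · intro q
    simp only [Pi.add_apply, Pi.single_apply]
    rcases hs with rfl | rfl <;> split_ifs <;> norm_num
  · simp only [Pi.add_apply, Finset.sum_add_distrib, Finset.sum_pi_single', Finset.mem_univ, if_true]
    rcases hs with rfl | rfl <;> decide
  · have : redW (Pi.single (pt 0) 2 + Pi.single j (s / 2)) = 0 := by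
      funext q
      simp only [redW, Pi.add_apply, Pi.single_apply, Pi.zero_apply]
      rw [ZMod.intCast_zmod_eq_zero_iff_dvd]
      rcases hs with rfl | rfl <;> split_ifs <;> norm_num
    rw [this]
    exact golayCode.zero_mem

theorem sqNorm_pairVec {j : GolayPt} (hj : j ≠ pt 0) {s : ℤ} (hs : s = 4 ∨ s = -4) : sqNorm (pairVec j s) = 32 := by
  unfold pairVec
  rw [sqNorm_add, sqNorm_single, sqNorm_single, dot_single, Pi.single_eq_of_ne hj]
  rcases hs with rfl | rfl <;> norm_num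

theorem pairVec_zero {j : GolayPt} (hj : j ≠ pt 0) (s : ℤ) : pairVec j s (pt 0) = 4 := by
  unfold pairVec
  simp only [Pi.add_apply, Pi.single_eq_same, Pi.single_eq_of_ne (Ne.symm hj)]
  norm_num

theorem pairVec_self {j : GolayPt} (hj : j ≠ pt 0) (s : ℤ) : pairVec j s j = s := by
  unfold pairVec
  simp only [Pi.add_apply, Pi.single_eq_same, Pi.single_eq_of_ne hj]
  norm_num

/-- the summands of `(8, 0^23)` as a finite set of functions -/
noncomputable def TeF : Finset (GolayPt → ℤ) :=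
  ((Finset.univ.erase (pt 0)).image (fun j => pairVec j 4)) ∪ ((Finset.univ.erase (pt 0)).image (fun j => pairVec j (-4)))

theorem pairVec_inj (s : ℤ) (hs : s ≠ 0) : Set.InjOn (fun j => pairVec j s) ↑(Finset.univ.erase (pt 0)) := by
  intro j hj j' hj' h
  rw [Finset.mem_coe, Finset.mem_erase] at hj hj'
  by_contra hne
  have h1 := congrFun h j
  simp only at h1
  rw [pairVec_self hj.1] at h1
  unfold pairVec at h1
  simp only [Pi.add_apply, Pi.single_eq_of_ne hj.1, Pi.single_eq_of_ne hne] at h1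
  omega

theorem card_TeF : TeF.card = 46 := by
  classical
  unfold TeF
  rw [Finset.card_union_of_disjoint, Finset.card_image_of_injOn (pairVec_inj 4 (by norm_num)),
    Finset.card_image_of_injOn (pairVec_inj (-4) (by norm_num)), Finset.card_erase_of_mem (Finset.mem_univ _),
    Finset.card_univ, GolayComb.card_golayPt]
  rw [Finset.disjoint_left]
  intro x hx hx'
  rw [Finset.mem_image] at hx hx'
  obtain ⟨j, hj, rfl⟩ := hx
  obtain ⟨j', hj', h⟩ := hx'
  rw [Finset.mem_erase] at hj hj'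
  have h1 := congrFun h j'
  rw [pairVec_self hj'.1] at h1
  by_cases hjj : j' = j
  · subst hjj
    rw [pairVec_self hj.1] at h1
    omega
  · unfold pairVec at h1
    simp only [Pi.add_apply, Pi.single_eq_of_ne hj'.1, Pi.single_eq_of_ne hjj] at h1
    omega

theorem mem_TeF (x : GolayPt → ℤ) : x ∈ TeF ↔ x ∈ leechLattice ∧ sqNorm x = 32 ∧ x (pt 0) = 4 := by
  classical
  unfold TeF
  rw [Finset.mem_union, Finset.mem_image, Finset.mem_image]
  constructor
  · rintro (⟨j, hj, rfl⟩ | ⟨j, hj, rfl⟩)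
    · rw [Finset.mem_erase] at hj
      exact ⟨pairVec_mem (Or.inl rfl), sqNorm_pairVec hj.1 (Or.inl rfl), pairVec_zero hj.1 _⟩
    · rw [Finset.mem_erase] at hj
      exact ⟨pairVec_mem (Or.inr rfl), sqNorm_pairVec hj.1 (Or.inr rfl), pairVec_zero hj.1 _⟩
  · rintro ⟨hx, hn, h0⟩
    obtain ⟨i, j, hij, hi, hj, hrest⟩ := shapeA_of_four hx hn (p := pt 0) (Or.inl h0)
    have main : ∀ a b : GolayPt, a ≠ b → a = pt 0 → (x b = 4 ∨ x b = -4) → (∀ p, p ≠ a → p ≠ b → x p = 0) →
        (∃ j ∈ Finset.univ.erase (pt 0), pairVec j 4 = x) ∨ (∃ j ∈ Finset.univ.erase (pt 0), pairVec j (-4) = x) := by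
      intro a b hab ha0 hb hr
      subst ha0
      have hb0 : b ≠ pt 0 := Ne.symm hab
      have key : ∀ s : ℤ, x b = s → pairVec b s = x := by
        intro s hs
        funext p
        by_cases hp0 : p = pt 0
        · subst hp0
          rw [pairVec_zero hb0, h0]
        · by_cases hpb : p = b
          · subst hpb
            rw [pairVec_self hb0, hs]
          · unfold pairVec
            simp only [Pi.add_apply, Pi.single_eq_of_ne hp0, Pi.single_eq_of_ne hpb]
            rw [hr p hp0 hpb]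
            norm_num
      rcases hb with h | h
      · exact Or.inl ⟨b, Finset.mem_erase.mpr ⟨hb0, Finset.mem_univ _⟩, key 4 h⟩
      · exact Or.inr ⟨b, Finset.mem_erase.mpr ⟨hb0, Finset.mem_univ _⟩, key (-4) h⟩
    by_cases hi0 : i = pt 0
    · exact main i j hij hi0 hj hrest
    · by_cases hj0 : j = pt 0
      · exact main j i (Ne.symm hij) hj0 hi (fun p hpj hpi => hrest p hpi hpj)
      · exfalso
        have := hrest (pt 0) (Ne.symm hi0) (Ne.symm hj0)
        omega

theorem ncard_T_e : (T e).ncard = 46 := by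
  rw [← card_TeF, ← Set.ncard_coe_finset, ← Set.ncard_image_of_injective _ Subtype.val_injective]
  congr 1
  ext x
  rw [Finset.mem_coe, mem_TeF]
  constructor
  · rintro ⟨v, ⟨h1, h2⟩, rfl⟩
    refine ⟨v.2, h1, ?_⟩
    rw [e_sub_norm, h1] at h2
    linarith
  · rintro ⟨hx, h1, h2⟩
    refine ⟨⟨x, hx⟩, ⟨h1, ?_⟩, rfl⟩
    show sqNorm ((e : GolayPt → ℤ) - x) = 32
    rw [e_sub_norm, h1, h2]
    norm_num

theorem ncard_T64 (z : ↥leechLattice) (hz : sqNorm (z : GolayPt → ℤ) = 64) : (T z).ncard = 46 := by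
  obtain ⟨g, hg⟩ := norm8_to_e8 z hz
  have : g • z = e := Subtype.ext (by rw [hg, e_coe]; funext q; unfold e8; rw [Pi.single_apply])
  rw [← ncard_T_smul g z, this, ncard_T_e]

/-! ### The three numbers -/

theorem B_mem_L32 : B ∈ L 32 := sqNorm_B

theorem ncard_X8 (v : ↥leechLattice) (hv : v ∈ L 32) : (X v (-8)).ncard = 47104 := by
  have h1 := ncard_fibered (L 32) finite_L32 (fun v => X v (-8)) (X v (-8)).ncard
    (fun a ha => ncard_X_const a v ha hv (-8)) (fun a _ => finite_X a (-8))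
  have h2 := ncard_fibered (L 48) finite_L48 T 552 (fun u hu => ncard_T u hu) (fun u _ => finite_T u)
  have h3 := ncard_pairs (-8)
  rw [show (64 : ℤ) + 2 * (-8) = 48 from by norm_num] at h3
  rw [h1, h2, ncard_L32, ncard_L48] at h3
  omega

theorem ncard_X0 (v : ↥leechLattice) (hv : v ∈ L 32) : (X v 0).ncard = 93150 := by
  have h1 := ncard_fibered (L 32) finite_L32 (fun v => X v 0) (X v 0).ncard
    (fun a ha => ncard_X_const a v ha hv 0) (fun a _ => finite_X a 0)
  have h2 := ncard_fibered (L 64) finite_L64 T 46 (fun u hu => ncard_T64 u hu) (fun u _ => finite_T u)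
  have h3 := ncard_pairs 0
  rw [show (64 : ℤ) + 2 * 0 = 64 from by norm_num] at h3
  rw [h1, h2, ncard_L32, ncard_L64] at h3
  omega

/-- the possible inner products of two minimal vectors -/
theorem dot_cases {v w : ↥leechLattice} (hv : v ∈ L 32) (hw : w ∈ L 32) :
    dotInt (v : GolayPt → ℤ) (w : GolayPt → ℤ) ∈ ({-32, -16, -8, 0, 8, 16, 32} : Finset ℤ) := by
  have hv' : sqNorm (v : GolayPt → ℤ) = 32 := hv
  have hw' : sqNorm (w : GolayPt → ℤ) = 32 := hw
  have h1 := sqNorm_add (v : GolayPt → ℤ) (w : GolayPt → ℤ)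
  have h2 := Summands.sqNorm_sub (v : GolayPt → ℤ) (w : GolayPt → ℤ)
  rw [hv', hw'] at h1 h2
  have d1 : (16 : ℤ) ∣ sqNorm ((v : GolayPt → ℤ) + (w : GolayPt → ℤ)) := sqNorm_dvd (v + w).2
  have g1 : (v : GolayPt → ℤ) + (w : GolayPt → ℤ) = 0 ∨ 32 ≤ sqNorm ((v : GolayPt → ℤ) + (w : GolayPt → ℤ)) := by
    by_cases h0 : (v : GolayPt → ℤ) + (w : GolayPt → ℤ) = 0
    · exact Or.inl h0
    · exact Or.inr (sqNorm_ge (v + w).2 h0)
  have g2 : (v : GolayPt → ℤ) - (w : GolayPt → ℤ) = 0 ∨ 32 ≤ sqNorm ((v : GolayPt → ℤ) - (w : GolayPt → ℤ)) := by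
    by_cases h0 : (v : GolayPt → ℤ) - (w : GolayPt → ℤ) = 0
    · exact Or.inl h0
    · exact Or.inr (sqNorm_ge (v - w).2 h0)
  have z0 : sqNorm (0 : GolayPt → ℤ) = 0 := by simp [sqNorm]
  have b1 : sqNorm ((v : GolayPt → ℤ) + (w : GolayPt → ℤ)) = 0 ∨ 32 ≤ sqNorm ((v : GolayPt → ℤ) + (w : GolayPt → ℤ)) := by
    rcases g1 with h | h
    · left; rw [h, z0]
    · exact Or.inr h
  have b2 : sqNorm ((v : GolayPt → ℤ) - (w : GolayPt → ℤ)) = 0 ∨ 32 ≤ sqNorm ((v : GolayPt → ℤ) - (w : GolayPt → ℤ)) := by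
    rcases g2 with h | h
    · left; rw [h, z0]
    · exact Or.inr h
  obtain ⟨c, hc⟩ := d1
  simp only [Finset.mem_insert, Finset.mem_singleton]
  generalize dotInt (v : GolayPt → ℤ) (w : GolayPt → ℤ) = d at *
  omega

theorem X32 (v : ↥leechLattice) (hv : v ∈ L 32) : X v 32 = {v} := by
  ext w
  rw [Set.mem_singleton_iff]
  constructor
  · rintro ⟨h1, h2⟩
    have h3 := Summands.sqNorm_sub (v : GolayPt → ℤ) (w : GolayPt → ℤ)
    have hv' : sqNorm (v : GolayPt → ℤ) = 32 := hv
    rw [hv', h1, h2] at h3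
    by_contra hne
    have h0 : (v : GolayPt → ℤ) - (w : GolayPt → ℤ) ≠ 0 := by
      intro h
      apply hne
      exact (Subtype.ext (sub_eq_zero.mp h)).symm
    have := sqNorm_ge (v - w).2 h0
    have e : ((v - w : ↥leechLattice) : GolayPt → ℤ) = (v : GolayPt → ℤ) - (w : GolayPt → ℤ) := rfl
    rw [e, h3] at this
    norm_num at this
  · rintro rfl
    refine ⟨hv, ?_⟩
    have hv' : sqNorm (w : GolayPt → ℤ) = 32 := hv
    rw [← hv']
    simp only [dotInt, sqNorm]
    apply Finset.sum_congr rfl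
    intro i _
    ring

/-- the census -/
theorem ncard_X16 (v : ↥leechLattice) (hv : v ∈ L 32) : (X v (-16)).ncard = 4600 := by
  classical
  let S : Finset ↥leechLattice := finite_L32.toFinset
  have hS : ∀ w, w ∈ S ↔ w ∈ L 32 := fun w => Set.Finite.mem_toFinset _
  have hfib := Finset.card_eq_sum_card_fiberwise (s := S) (t := ({-32, -16, -8, 0, 8, 16, 32} : Finset ℤ))
    (f := fun w : ↥leechLattice => dotInt (v : GolayPt → ℤ) (w : GolayPt → ℤ))
    (fun w hw => dot_cases hv ((hS w).mp hw))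
  have hcard : S.card = 196560 := by
    rw [← ncard_L32, Set.ncard_eq_toFinset_card _ finite_L32]
  have hX : ∀ k : ℤ, (S.filter (fun w : ↥leechLattice => dotInt (v : GolayPt → ℤ) (w : GolayPt → ℤ) = k)).card =
      (X v k).ncard := by
    intro k
    rw [← Set.ncard_coe_finset]
    congr 1
    ext w
    rw [Finset.mem_coe, Finset.mem_filter, hS]
    rfl
  rw [hcard] at hfib
  simp only [hX] at hfib
  rw [Finset.sum_insert (by decide), Finset.sum_insert (by decide), Finset.sum_insert (by decide),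
    Finset.sum_insert (by decide), Finset.sum_insert (by decide), Finset.sum_insert (by decide),
    Finset.sum_singleton] at hfib
  have e32 : (X v 32).ncard = 1 := by rw [X32 v hv, Set.ncard_singleton]
  have e32' : (X v (-32)).ncard = 1 := by rw [ncard_X_neg, e32]
  have e16 : (X v 16).ncard = (X v (-16)).ncard := by rw [← ncard_X_neg v 16]
  have e8 : (X v 8).ncard = 47104 := by rw [← ncard_X_neg v 8, ncard_X8 v hv]
  rw [e32, e32', e16, e8, ncard_X8 v hv, ncard_X0 v hv] at hfib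
  omega

/-- the census of minimal vectors by inner product with a fixed minimal vector -/
theorem census (v : GolayPt → ℤ) (hv : v ∈ leechLattice) (k : ℤ) :
    {w : GolayPt → ℤ | w ∈ leechLattice ∧ sqNorm w = 32 ∧ dotInt v w = k}.ncard = (X ⟨v, hv⟩ k).ncard := by
  rw [← Set.ncard_image_of_injective _ Subtype.val_injective]
  congr 1
  ext x
  constructor
  · rintro ⟨hx, h1, h2⟩
    exact ⟨⟨x, hx⟩, ⟨h1, h2⟩, rfl⟩
  · rintro ⟨w, ⟨h1, h2⟩, rfl⟩
    exact ⟨w.2, h1, h2⟩

end Cfsg.Agent.Helper22.Census
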