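import Cfsg.Agent.Helper22.CrossStab
import Cfsg.Agent.Helper27.M24Trans

/-!
# The centre of the automorphism group of the rank-24 lattice
-/

set_option autoImplicit false

namespace Cfsg.Agent.Helper22.Co0Center

open Cfsg Cfsg.Agent.Helper27 Cfsg.Agent.Helper22.Co0Mono Cfsg.Agent.Helper22.CrossStab
open scoped Pointwise

/-! ### The code separates points -/

def sepOK : Bool :=
  (List.range 24).all (fun i => (List.range 24).all (fun j => i == j ||
    (List.range 4096).any (fun k => (cw k).testBit j && !(cw k).testBit i)))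

theorem sep_ok : sepOK = true := by decide +kernel

theorem exists_sep {i j : GolayPt} (h : i ≠ j) :
    ∃ u ∈ golayCode, j ∈ support₂ u ∧ i ∉ support₂ u := by
  have h1 := sep_ok
  simp only [sepOK, List.all_eq_true, List.mem_range, Bool.or_eq_true, beq_iff_eq, List.any_eq_true,
    Bool.and_eq_true, Bool.not_eq_true'] at h1
  rcases h1 (idx i) (idx_lt i) (idx j) (idx_lt j) with h2 | ⟨k, hk, hj, hi⟩
  · exact absurd (idx_injective h2) h
  · refine ⟨decW (cw k), (mem_golayCode_iff _).mpr ⟨k, hk, rfl⟩, ?_, ?_⟩
    · rw [mem_support_decW]; exact hj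
    · rw [mem_support_decW, hi]; simp

/-! ### Sign changes and coordinate permutations -/

theorem support₂_zero : support₂ (0 : GolayPt → ZMod 2) = ∅ := by
  simp [support₂]

theorem support₂_one : support₂ (1 : GolayPt → ZMod 2) = Finset.univ := by
  simp [support₂]

theorem empty_mem : (∅ : Finset GolayPt) ∈ supports (golayCode : Set (GolayPt → ZMod 2)) :=
  ⟨0, golayCode.zero_mem, support₂_zero⟩

theorem univ_mem : (Finset.univ : Finset GolayPt) ∈ supports (golayCode : Set (GolayPt → ZMod 2)) :=
  ⟨1, one_mem_golayCode, support₂_one⟩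

theorem supp_mem {u : GolayPt → ZMod 2} (hu : u ∈ golayCode) :
    support₂ u ∈ supports (golayCode : Set (GolayPt → ZMod 2)) := ⟨u, hu, rfl⟩

/-- the coordinate permutation of a member of the group of the code -/
def piCo (σ : Equiv.Perm GolayPt) (hσ : σ ∈ M24) : ↥Co0 := monoCo0 σ hσ ∅ empty_mem

/-- the sign change at the support of a codeword -/
def epsCo (u : GolayPt → ZMod 2) (hu : u ∈ golayCode) : ↥Co0 := monoCo0 1 M24.one_mem (support₂ u) (supp_mem hu)

/-- the negation -/
def negCo : ↥Co0 := monoCo0 1 M24.one_mem Finset.univ univ_mem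

theorem piCo_smul (σ : Equiv.Perm GolayPt) (hσ : σ ∈ M24) (v : ↥leechLattice) :
    ((piCo σ hσ • v : ↥leechLattice) : GolayPt → ℤ) = signedPerm σ ∅ v := rfl

theorem epsCo_smul (u : GolayPt → ZMod 2) (hu : u ∈ golayCode) (v : ↥leechLattice) :
    ((epsCo u hu • v : ↥leechLattice) : GolayPt → ℤ) = signedPerm 1 (support₂ u) v := rfl

theorem negCo_smul_coe (v : ↥leechLattice) :
    ((negCo • v : ↥leechLattice) : GolayPt → ℤ) = signedPerm 1 Finset.univ v := rfl

theorem negCo_smul (v : ↥leechLattice) : negCo • v = -v := by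
  apply Subtype.ext
  rw [negCo_smul_coe]
  funext i
  simp only [signedPerm, Finset.mem_univ, if_true]
  rfl

theorem co0_zero (g : ↥Co0) : g • (0 : ↥leechLattice) = 0 := by
  have := co0_add g 0 0
  rw [add_zero] at this
  exact left_eq_add.mp this

theorem co0_neg (g : ↥Co0) (v : ↥leechLattice) : g • (-v) = -(g • v) := by
  have := co0_add g v (-v)
  rw [add_neg_cancel, co0_zero] at this
  exact (neg_eq_of_add_eq_zero_right this.symm).symm

theorem negCo_mem_center : negCo ∈ Subgroup.center (↥Co0) := by
  rw [Subgroup.mem_center_iff]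
  intro g
  apply Subtype.ext
  apply Equiv.ext
  intro v
  show g • (negCo • v) = negCo • (g • v)
  rw [negCo_smul, negCo_smul, co0_neg]

theorem sqNorm_single (i : GolayPt) (a : ℤ) : sqNorm (Pi.single i a : GolayPt → ℤ) = a ^ 2 := by
  rw [sqNorm, Finset.sum_eq_single i]
  · rw [Pi.single_eq_same]
  · intro b _ hb
    rw [Pi.single_eq_of_ne hb]
    ring
  · intro h
    exact absurd (Finset.mem_univ i) h

/-- a central element is the identity or the negation -/
theorem center_cases {z : ↥Co0} (hz : z ∈ Subgroup.center (↥Co0)) : z = 1 ∨ z = negCo := by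
  rw [Subgroup.mem_center_iff] at hz
  -- the diagonal entries
  have hoff : ∀ i j, j ≠ i → ((z • E8 i : ↥leechLattice) : GolayPt → ℤ) j = 0 := by
    intro i j hji
    obtain ⟨u, hu, hj, hi⟩ := exists_sep (Ne.symm hji)
    have h1 : epsCo u hu • (z • E8 i) = z • (epsCo u hu • E8 i) := by
      rw [← mul_smul, ← mul_smul, hz]
    have h2 : epsCo u hu • E8 i = E8 i := by
      apply Subtype.ext
      rw [epsCo_smul]
      show signedPerm 1 (support₂ u) (Pi.single i 8) = Pi.single i 8
      rw [signedPerm_single]
      show Pi.single i (if i ∈ support₂ u then -8 else 8) = _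
      rw [if_neg hi]
    rw [h2] at h1
    have h3 := congrArg (fun w : ↥leechLattice => (w : GolayPt → ℤ) j) h1
    rw [epsCo_smul] at h3
    simp only [signedPerm, hj, if_true] at h3
    have h4 : (1 : Equiv.Perm GolayPt).symm j = j := rfl
    rw [h4] at h3
    omega
  have hdiag : ∀ i, ((z • E8 i : ↥leechLattice) : GolayPt → ℤ) =
      Pi.single i (((z • E8 i : ↥leechLattice) : GolayPt → ℤ) i) := by
    intro i
    funext j
    by_cases hj : j = i
    · subst hj
      rw [Pi.single_eq_same]
    · rw [Pi.single_eq_of_ne hj, hoff i j hj]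
  have hval : ∀ i, ((z • E8 i : ↥leechLattice) : GolayPt → ℤ) i = 8 ∨
      ((z • E8 i : ↥leechLattice) : GolayPt → ℤ) i = -8 := by
    intro i
    have h1 := co0_norm z (E8 i)
    rw [hdiag i, sqNorm_single] at h1
    have h2 : sqNorm ((E8 i : ↥leechLattice) : GolayPt → ℤ) = 8 ^ 2 := sqNorm_single i 8
    rw [h2] at h1
    have h3 : (((z • E8 i : ↥leechLattice) : GolayPt → ℤ) i - 8) *
        (((z • E8 i : ↥leechLattice) : GolayPt → ℤ) i + 8) = 0 := by linarith
    rcases mul_eq_zero.mp h3 with h | h
    · left; linarith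
    · right; linarith
  have key : ∀ (v : ↥leechLattice) (i : GolayPt),
      ((z • v : ↥leechLattice) : GolayPt → ℤ) i * ((z • E8 i : ↥leechLattice) : GolayPt → ℤ) i =
        (v : GolayPt → ℤ) i * 8 := by
    intro v i
    have := co0_dot z v (E8 i)
    rw [hdiag i, dot_single] at this
    rw [this]
    exact dot_single _ i 8
  -- the diagonal entries are constant
  have hconst : ∀ i, ((z • E8 i : ↥leechLattice) : GolayPt → ℤ) i =
      ((z • E8 none : ↥leechLattice) : GolayPt → ℤ) none := by
    intro i
    have := M24_isPretransitive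
    obtain ⟨τ, hτ⟩ := MulAction.exists_smul_eq (↥M24) (none : GolayPt) i
    have hτ' : τ.1 none = i := hτ
    have h1 : piCo τ.1 τ.2 • (z • E8 none) = z • (piCo τ.1 τ.2 • E8 none) := by
      rw [← mul_smul, ← mul_smul, hz]
    have h2 : piCo τ.1 τ.2 • E8 none = E8 i := by
      apply Subtype.ext
      rw [piCo_smul]
      show signedPerm τ.1 ∅ (Pi.single none 8) = Pi.single i 8
      rw [signedPerm_single, hτ']
      simp
    rw [h2] at h1
    have h3 := congrArg (fun w : ↥leechLattice => (w : GolayPt → ℤ) i) h1
    rw [piCo_smul, hdiag none, signedPerm_single, hτ'] at h3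
    simp only [Finset.notMem_empty, if_false, Pi.single_eq_same] at h3
    exact h3.symm
  rcases hval none with h8 | h8
  · left
    apply Subtype.ext
    apply Equiv.ext
    intro v
    apply Subtype.ext
    funext i
    have := key v i
    rw [hconst i, h8] at this
    show ((z • v : ↥leechLattice) : GolayPt → ℤ) i = (v : GolayPt → ℤ) i
    linarith
  · right
    apply Subtype.ext
    apply Equiv.ext
    intro v
    show z • v = negCo • v
    rw [negCo_smul]
    apply Subtype.ext
    funext i
    have := key v i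
    rw [hconst i, h8] at this
    show ((z • v : ↥leechLattice) : GolayPt → ℤ) i = -(v : GolayPt → ℤ) i
    linarith

theorem negCo_ne_one : negCo ≠ 1 := by
  intro h
  have h1 : negCo • E8 none = E8 none := by rw [h, one_smul]
  rw [negCo_smul] at h1
  have h2 := congrArg (fun w : ↥leechLattice => (w : GolayPt → ℤ) none) h1
  simp [E8] at h2

theorem card_center : Nat.card (Subgroup.center (↥Co0)) = 2 := by
  rw [Nat.card_eq_two_iff]
  refine ⟨⟨1, Subgroup.one_mem _⟩, ⟨negCo, negCo_mem_center⟩, ?_, ?_⟩
  · intro h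
    exact negCo_ne_one (congrArg Subtype.val h).symm
  · ext ⟨z, hz⟩
    simp only [Set.mem_insert_iff, Set.mem_singleton_iff, Set.mem_univ, iff_true, Subtype.mk.injEq]
    exact center_cases hz

end Cfsg.Agent.Helper22.Co0Center
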