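import Cfsg.Agent.Helper27.LeechIsotropic
import Cfsg.Agent.Helper27.M24Order
import Cfsg.Prelude.Def_SporadicCombinatorics

/-!
# The monomial subgroup of the automorphism group of the rank-24 lattice

Signed coordinate permutations attached to the length-24 code as elements of `Cfsg.Co0`; the elements of
`Cfsg.Co0` preserving the standard cross are exactly these.
-/

set_option autoImplicit false

namespace Cfsg.Agent.Helper22.Co0Mono

open Cfsg Cfsg.Agent.Helper27
open scoped Pointwise

/-! ### Polarisation -/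

theorem sqNorm_add (x y : GolayPt → ℤ) : sqNorm (x + y) = sqNorm x + sqNorm y + 2 * dotInt x y := by
  simp only [sqNorm, dotInt, Pi.add_apply, Finset.mul_sum, ← Finset.sum_add_distrib]
  apply Finset.sum_congr rfl
  intro i _
  ring

theorem co0_add (g : ↥Co0) (v w : ↥leechLattice) : g • (v + w) = g • v + g • w := g.2.1 v w

theorem co0_norm (g : ↥Co0) (v : ↥leechLattice) :
    sqNorm ((g • v : ↥leechLattice) : GolayPt → ℤ) = sqNorm (v : GolayPt → ℤ) := g.2.2 v

theorem co0_dot (g : ↥Co0) (v w : ↥leechLattice) :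
    dotInt ((g • v : ↥leechLattice) : GolayPt → ℤ) ((g • w : ↥leechLattice) : GolayPt → ℤ) =
      dotInt (v : GolayPt → ℤ) (w : GolayPt → ℤ) := by
  have h1 := co0_norm g (v + w)
  rw [co0_add, AddSubgroup.coe_add, AddSubgroup.coe_add, sqNorm_add, sqNorm_add, co0_norm, co0_norm] at h1
  linarith

/-! ### Multiples of coordinate vectors -/

theorem single_mem (i : GolayPt) {s : ℤ} (hs : (8 : ℤ) ∣ s) : Pi.single i s ∈ leechLattice := by
  rw [mem_leechLattice_iff]
  obtain ⟨a, rfl⟩ := hs
  refine ⟨0, Pi.single i (4 * a), ?_, ?_, ?_⟩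
  · intro j
    by_cases hj : j = i
    · subst hj
      rw [Pi.single_eq_same, Pi.single_eq_same]
      ring
    · rw [Pi.single_eq_of_ne hj, Pi.single_eq_of_ne hj]
      ring
  · rw [Finset.sum_pi_single' i (8 * a) Finset.univ, if_pos (Finset.mem_univ i), Int.ModEq]
    omega
  · have : redW (Pi.single i (4 * a)) = 0 := by
      funext j
      simp only [redW, Pi.zero_apply]
      by_cases hj : j = i
      · subst hj
        rw [Pi.single_eq_same, ZMod.intCast_zmod_eq_zero_iff_dvd]
        exact ⟨2 * a, by ring⟩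
      · rw [Pi.single_eq_of_ne hj, Int.cast_zero]
    rw [this]
    exact golayCode.zero_mem

theorem dot_single (x : GolayPt → ℤ) (j : GolayPt) (s : ℤ) : dotInt x (Pi.single j s) = x j * s := by
  rw [dotInt, Finset.sum_eq_single j]
  · rw [Pi.single_eq_same]
  · intro b _ hb
    rw [Pi.single_eq_of_ne hb, mul_zero]
  · intro h
    exact absurd (Finset.mem_univ j) h

/-! ### Signed permutations -/

theorem signedPerm_add (σ : Equiv.Perm GolayPt) (c : Finset GolayPt) (x y : GolayPt → ℤ) :
    signedPerm σ c (x + y) = signedPerm σ c x + signedPerm σ c y := by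
  funext i
  simp only [signedPerm, Pi.add_apply]
  split_ifs <;> ring

theorem sqNorm_signedPerm (σ : Equiv.Perm GolayPt) (c : Finset GolayPt) (x : GolayPt → ℤ) :
    sqNorm (signedPerm σ c x) = sqNorm x := by
  have h : ∀ i, signedPerm σ c x i ^ 2 = x (σ.symm i) ^ 2 := by
    intro i
    simp only [signedPerm]
    split_ifs <;> ring
  simp only [sqNorm, h]
  exact Equiv.sum_comp σ.symm (fun i => x i ^ 2)

theorem signedPerm_single (σ : Equiv.Perm GolayPt) (c : Finset GolayPt) (i : GolayPt) (s : ℤ) :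
    signedPerm σ c (Pi.single i s) = Pi.single (σ i) (if σ i ∈ c then -s else s) := by
  funext j
  simp only [signedPerm]
  by_cases hj : j = σ i
  · subst hj
    rw [Equiv.symm_apply_apply, Pi.single_eq_same, Pi.single_eq_same]
  · have hj' : σ.symm j ≠ i := fun h => hj (by rw [← h, Equiv.apply_symm_apply])
    rw [Pi.single_eq_of_ne hj', Pi.single_eq_of_ne hj]
    split_ifs <;> simp

theorem signedPerm_mem {σ : Equiv.Perm GolayPt} (hσ : σ ∈ M24) {c : Finset GolayPt}
    (hc : c ∈ supports (golayCode : Set (GolayPt → ZMod 2))) {x : GolayPt → ℤ} (hx : x ∈ leechLattice) :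
    signedPerm σ c x ∈ leechLattice := by
  rw [mem_leechLattice_iff] at hx ⊢
  have h1 := isLeechVec_perm (M24.inv_mem hσ) hx
  exact isLeechVec_signChange hc h1

/-- the preimage of a set of points -/
def pre (σ : Equiv.Perm GolayPt) (c : Finset GolayPt) : Finset GolayPt := Finset.univ.filter (fun p => σ p ∈ c)

theorem mem_pre (σ : Equiv.Perm GolayPt) (c : Finset GolayPt) (p : GolayPt) : p ∈ pre σ c ↔ σ p ∈ c := by
  simp [pre]

theorem signedPerm_left_inv (σ : Equiv.Perm GolayPt) (c : Finset GolayPt) (x : GolayPt → ℤ) :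
    signedPerm σ⁻¹ (pre σ c) (signedPerm σ c x) = x := by
  funext j
  have h1 : (σ⁻¹).symm j = σ j := rfl
  simp only [signedPerm, mem_pre, h1, Equiv.symm_apply_apply]
  split_ifs <;> ring

theorem signedPerm_right_inv (σ : Equiv.Perm GolayPt) (c : Finset GolayPt) (y : GolayPt → ℤ) :
    signedPerm σ c (signedPerm σ⁻¹ (pre σ c) y) = y := by
  funext j
  have h1 : ∀ k, (σ⁻¹).symm k = σ k := fun _ => rfl
  simp only [signedPerm, mem_pre, h1, Equiv.apply_symm_apply]
  split_ifs <;> ring

theorem pre_mem_supports {σ : Equiv.Perm GolayPt} (hσ : σ ∈ M24) {c : Finset GolayPt}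
    (hc : c ∈ supports (golayCode : Set (GolayPt → ZMod 2))) :
    pre σ c ∈ supports (golayCode : Set (GolayPt → ZMod 2)) := by
  obtain ⟨u, hu, rfl⟩ := hc
  refine ⟨fun p => u (σ p), comp_mem_of_mem_M24 hσ hu, ?_⟩
  ext p
  rw [mem_pre, mem_support₂_iff, mem_support₂_iff]

/-- the signed permutation as a permutation of the lattice -/
def monoPerm (σ : Equiv.Perm GolayPt) (hσ : σ ∈ M24) (c : Finset GolayPt)
    (hc : c ∈ supports (golayCode : Set (GolayPt → ZMod 2))) : Equiv.Perm ↥leechLattice where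
  toFun v := ⟨signedPerm σ c v, signedPerm_mem hσ hc v.2⟩
  invFun v := ⟨signedPerm σ⁻¹ (pre σ c) v, signedPerm_mem (M24.inv_mem hσ) (pre_mem_supports hσ hc) v.2⟩
  left_inv v := Subtype.ext (signedPerm_left_inv σ c v)
  right_inv v := Subtype.ext (signedPerm_right_inv σ c v)

theorem monoPerm_mem (σ : Equiv.Perm GolayPt) (hσ : σ ∈ M24) (c : Finset GolayPt)
    (hc : c ∈ supports (golayCode : Set (GolayPt → ZMod 2))) : monoPerm σ hσ c hc ∈ Co0 := by
  refine ⟨fun v w => Subtype.ext ?_, fun v => ?_⟩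
  · exact signedPerm_add σ c v w
  · exact sqNorm_signedPerm σ c v

/-- the signed permutation as an element of the automorphism group -/
def monoCo0 (σ : Equiv.Perm GolayPt) (hσ : σ ∈ M24) (c : Finset GolayPt)
    (hc : c ∈ supports (golayCode : Set (GolayPt → ZMod 2))) : ↥Co0 := ⟨monoPerm σ hσ c hc, monoPerm_mem σ hσ c hc⟩

theorem monoCo0_smul (σ : Equiv.Perm GolayPt) (hσ : σ ∈ M24) (c : Finset GolayPt)
    (hc : c ∈ supports (golayCode : Set (GolayPt → ZMod 2))) (v : ↥leechLattice) :
    ((monoCo0 σ hσ c hc • v : ↥leechLattice) : GolayPt → ℤ) = signedPerm σ c v := rfl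

end Cfsg.Agent.Helper22.Co0Mono
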