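import Cfsg.Agent.Helper22.Co0Center
import Cfsg.Agent.Helper27.M24Descent

/-!
# The automorphism group of the rank-24 lattice does not split over the negation
-/

set_option autoImplicit false

namespace Cfsg.Agent.Helper22.Co0NonSplit

open Cfsg Cfsg.Agent.Helper27 Cfsg.Agent.Helper22.Co0Mono Cfsg.Agent.Helper22.CrossStab
  Cfsg.Agent.Helper22.Co0Center
open scoped Pointwise

/-- a fixed-point-free involution of the group of the code exchanging the standard dodecad and its complement -/
def T0 : List ℕ := [21, 13, 18, 20, 17, 7, 19, 5, 22, 15, 23, 16, 14, 1, 12, 9, 11, 4, 2, 6, 3, 0, 8, 10]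

theorem T0_valid : validTbl T0 = true := by decide +kernel

theorem T0_code : tblInCode T0 = true := by decide +kernel

theorem T0_invol : (List.range 24).all (fun j => T0.getD (T0.getD j 0) 0 == j) = true := by decide +kernel

theorem T0_swap : (List.range 24).all (fun j => dod0.testBit (T0.getD j 0) == !dod0.testBit j) = true := by
  decide +kernel

noncomputable def σ0 : Equiv.Perm GolayPt := tblPerm T0 T0_valid

theorem σ0_mem : σ0 ∈ M24 := tblPerm_mem_M24 T0 T0_valid T0_code

theorem σ0_idx (p : GolayPt) : idx (σ0 p) = T0.getD (idx p) 0 := (tblPerm_represents T0 T0_valid).2 p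

theorem σ0_sq (p : GolayPt) : σ0 (σ0 p) = p := by
  apply idx_injective
  rw [σ0_idx, σ0_idx]
  have := List.all_eq_true.mp T0_invol (idx p) (List.mem_range.mpr (idx_lt p))
  exact beq_iff_eq.mp this

theorem σ0_symm (p : GolayPt) : σ0.symm p = σ0 p := by
  rw [Equiv.symm_apply_eq, σ0_sq]

theorem σ0_swap (p : GolayPt) : σ0 p ∈ maskSet dod0 ↔ p ∉ maskSet dod0 := by
  rw [mem_maskSet, mem_maskSet, σ0_idx]
  have := List.all_eq_true.mp T0_swap (idx p) (List.mem_range.mpr (idx_lt p))
  rw [beq_iff_eq] at this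
  rw [this]
  cases dod0.testBit (idx p) <;> simp

theorem dod0_mem_supports : maskSet dod0 ∈ supports (golayCode : Set (GolayPt → ZMod 2)) := maskSet_dod0_mem.1

/-- an automorphism whose square is the negation -/
noncomputable def g0 : ↥Co0 := monoCo0 σ0 σ0_mem (maskSet dod0) dod0_mem_supports

theorem g0_smul (v : ↥leechLattice) :
    ((g0 • v : ↥leechLattice) : GolayPt → ℤ) = signedPerm σ0 (maskSet dod0) v := rfl

theorem g0_sq : g0 * g0 = negCo := by
  apply Subtype.ext
  apply Equiv.ext
  intro v
  show g0 • (g0 • v) = negCo • v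
  rw [negCo_smul]
  apply Subtype.ext
  rw [g0_smul]
  funext i
  show signedPerm σ0 (maskSet dod0) ((g0 • v : ↥leechLattice) : GolayPt → ℤ) i = -(v : GolayPt → ℤ) i
  rw [g0_smul]
  simp only [signedPerm, σ0_symm, σ0_sq, σ0_swap]
  by_cases hi : i ∈ maskSet dod0
  · simp [hi]
  · simp [hi]

theorem negCo_sq : negCo * negCo = 1 := by
  apply Subtype.ext
  apply Equiv.ext
  intro v
  show negCo • (negCo • v) = v
  rw [negCo_smul, negCo_smul, neg_neg]

/-- the subgroup generated by the negation has no complement -/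
theorem no_complement (K : Subgroup ↥Co0) : ¬ (Subgroup.zpowers negCo).IsComplement' K := by
  intro hK
  obtain ⟨⟨⟨h, hh⟩, ⟨k, hk⟩⟩, hhk, -⟩ := (Subgroup.isComplement'_def.mp hK).existsUnique g0
  simp only at hhk
  have hcomm : ∀ x : ↥Co0, x * h = h * x := by
    intro x
    obtain ⟨j, rfl⟩ := Subgroup.mem_zpowers_iff.mp hh
    have hc : Commute x negCo := (Subgroup.mem_center_iff.mp negCo_mem_center x)
    exact (hc.zpow_right j).eq
  have hh2 : h * h = 1 := by
    obtain ⟨j, rfl⟩ := Subgroup.mem_zpowers_iff.mp hh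
    rw [← zpow_add, ← two_mul, zpow_mul, zpow_two, negCo_sq, one_zpow]
  have hsq : negCo = k * k := by
    rw [← g0_sq, ← hhk]
    calc h * k * (h * k) = h * (k * h) * k := by group
      _ = h * (h * k) * k := by rw [hcomm k]
      _ = (h * h) * (k * k) := by group
      _ = k * k := by rw [hh2, one_mul]
  have hmem : negCo ∈ (Subgroup.zpowers negCo) ⊓ K :=
    ⟨Subgroup.mem_zpowers negCo, hsq ▸ K.mul_mem hk hk⟩
  rw [hK.disjoint.eq_bot, Subgroup.mem_bot] at hmem
  exact negCo_ne_one hmem

end Cfsg.Agent.Helper22.Co0NonSplit
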