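import Cfsg.Agent.Helper22.Norm8Trans
import Cfsg.Agent.Helper27.M24Order
import Cfsg.Agent.Helper27.LeechCount

/-!
# The order of the automorphism group of the rank-24 lattice
-/

set_option autoImplicit false

namespace Cfsg.Agent.Helper22.Co0Order

open Cfsg Cfsg.Agent.Helper27 Cfsg.Agent.Helper22.Co0Mono Cfsg.Agent.Helper22.CrossStab
  Cfsg.Agent.Helper22.Co0Center Cfsg.Agent.Helper22.LeechShapes Cfsg.Agent.Helper22.Xi
  Cfsg.Agent.Helper22.MinTrans Cfsg.Agent.Helper22.Norm8Trans
open scoped Pointwise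

/-- the base vector `(8, 0^23)` -/
def e : ↥leechLattice := E8 (pt 0)

theorem e_coe : (e : GolayPt → ℤ) = Pi.single (pt 0) 8 := rfl

theorem sqNorm_e : sqNorm (e : GolayPt → ℤ) = 64 := by
  rw [e_coe, sqNorm_single]
  norm_num

theorem orbit_e : MulAction.orbit ↥Co0 e = {v : ↥leechLattice | sqNorm (v : GolayPt → ℤ) = 64} := by
  ext v
  constructor
  · rintro ⟨g, rfl⟩
    show sqNorm ((g • e : ↥leechLattice) : GolayPt → ℤ) = 64
    rw [co0_norm, sqNorm_e]
  · intro hv
    obtain ⟨g, hg⟩ := norm8_transitive e v sqNorm_e hv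
    exact ⟨g, hg⟩

theorem ncard_orbit : (MulAction.orbit ↥Co0 e).ncard = 398034000 := by
  rw [orbit_e, ← leech_ncard_64, ← Set.ncard_image_of_injective _ Subtype.val_injective]
  congr 1
  ext x
  constructor
  · rintro ⟨v, hv, rfl⟩
    exact ⟨v.2, hv⟩
  · rintro ⟨hx, hn⟩
    exact ⟨⟨x, hx⟩, hn, rfl⟩

/-! ### The stabiliser of the base vector preserves the standard cross -/

/-- the minimal vector `4 e_i + 4 e_0` -/
def U (i : GolayPt) : ↥leechLattice :=
  ⟨Pi.single i 4 + Pi.single (pt 0) 4, by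
    rw [mem_leechLattice_iff]
    refine ⟨0, Pi.single i 2 + Pi.single (pt 0) 2, ?_, ?_, ?_⟩
    · intro q
      simp only [Pi.add_apply, Pi.single_apply]
      split_ifs <;> norm_num
    · simp only [Pi.add_apply, Finset.sum_add_distrib, Finset.sum_pi_single', Finset.mem_univ, if_true]
      decide
    · have : redW (Pi.single i 2 + Pi.single (pt 0) 2) = 0 := by
        funext q
        simp only [redW, Pi.add_apply, Pi.single_apply, Pi.zero_apply]
        rw [ZMod.intCast_zmod_eq_zero_iff_dvd]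
        split_ifs <;> norm_num
      rw [this]
      exact golayCode.zero_mem⟩

theorem U_coe (i : GolayPt) : (U i : GolayPt → ℤ) = Pi.single i 4 + Pi.single (pt 0) 4 := rfl

theorem U_add (i : GolayPt) : U i + U i = E8 i + e := by
  apply Subtype.ext
  funext q
  show (Pi.single i 4 + Pi.single (pt 0) 4 : GolayPt → ℤ) q + (Pi.single i 4 + Pi.single (pt 0) 4 : GolayPt → ℤ) q =
    (Pi.single i 8 : GolayPt → ℤ) q + (Pi.single (pt 0) 8 : GolayPt → ℤ) q
  simp only [Pi.add_apply, Pi.single_apply]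
  split_ifs <;> norm_num

theorem sqNorm_U {i : GolayPt} (hi : i ≠ pt 0) : sqNorm (U i : GolayPt → ℤ) = 32 := by
  rw [U_coe, sqNorm_add, sqNorm_single, sqNorm_single, dot_single, Pi.single_eq_of_ne (Ne.symm hi)]
  norm_num

theorem stab_E8 {g : ↥Co0} (hg : g • e = e) {i : GolayPt} (hi : i ≠ pt 0) :
    ∃ j t, (t = 8 ∨ t = -8) ∧ ((g • E8 i : ↥leechLattice) : GolayPt → ℤ) = Pi.single j t := by
  have hn : sqNorm ((g • U i : ↥leechLattice) : GolayPt → ℤ) = 32 := by rw [co0_norm, sqNorm_U hi]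
  have h0 : ((g • U i : ↥leechLattice) : GolayPt → ℤ) (pt 0) = 4 := by
    have h1 := co0_dot g (U i) e
    rw [hg, e_coe, dot_single, dot_single, U_coe] at h1
    simp only [Pi.add_apply, Pi.single_eq_same, Pi.single_eq_of_ne (Ne.symm hi)] at h1
    linarith
  have key : g • E8 i + e = g • U i + g • U i := by
    rw [← co0_add, U_add, co0_add, hg]
  have hval : ∀ q, ((g • E8 i : ↥leechLattice) : GolayPt → ℤ) q =
      2 * ((g • U i : ↥leechLattice) : GolayPt → ℤ) q - (Pi.single (pt 0) 8 : GolayPt → ℤ) q := by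
    intro q
    have := congrFun (congrArg Subtype.val key) q
    change ((g • E8 i : ↥leechLattice) : GolayPt → ℤ) q + (Pi.single (pt 0) 8 : GolayPt → ℤ) q =
      ((g • U i : ↥leechLattice) : GolayPt → ℤ) q + ((g • U i : ↥leechLattice) : GolayPt → ℤ) q at this
    linarith
  obtain ⟨a, b, hab, ha, hb, hrest⟩ := shapeA_of_four (g • U i).2 hn (p := pt 0) (Or.inl h0)
  have main : ∀ a b : GolayPt, a ≠ b → a = pt 0 →
      (((g • U i : ↥leechLattice) : GolayPt → ℤ) b = 4 ∨ ((g • U i : ↥leechLattice) : GolayPt → ℤ) b = -4) →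
      (∀ p, p ≠ a → p ≠ b → ((g • U i : ↥leechLattice) : GolayPt → ℤ) p = 0) →
      ∃ j t, (t = 8 ∨ t = -8) ∧ ((g • E8 i : ↥leechLattice) : GolayPt → ℤ) = Pi.single j t := by
    intro a b hab ha0 hb hrest
    subst ha0
    refine ⟨b, 2 * ((g • U i : ↥leechLattice) : GolayPt → ℤ) b, by omega, ?_⟩
    funext q
    rw [hval q]
    by_cases hq0 : q = pt 0
    · subst hq0
      rw [h0, Pi.single_eq_same, Pi.single_eq_of_ne hab]
      norm_num
    · rw [Pi.single_eq_of_ne hq0]
      by_cases hqb : q = b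
      · subst hqb
        rw [Pi.single_eq_same]
        ring
      · rw [Pi.single_eq_of_ne hqb, hrest q hq0 hqb]
        norm_num
  by_cases ha0 : a = pt 0
  · exact main a b hab ha0 hb hrest
  · by_cases hb0 : b = pt 0
    · exact main b a (Ne.symm hab) hb0 ha (fun p hpb hpa => hrest p hpa hpb)
    · have := hrest (pt 0) (Ne.symm ha0) (Ne.symm hb0)
      rw [h0] at this
      norm_num at this

theorem presCross_of_stab {g : ↥Co0} (hg : g • e = e) : PresCross g := by
  have key : ∀ i, ((g • E8 i : ↥leechLattice) : GolayPt → ℤ) ∈ stdCross := by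
    intro i
    by_cases hi : i = pt 0
    · subst hi
      rw [show E8 (pt 0) = e from rfl, hg]
      exact ⟨pt 0, 8, Or.inl rfl, rfl⟩
    · obtain ⟨j, t, ht, h⟩ := stab_E8 hg hi
      exact ⟨j, t, ht, h⟩
  rintro v ⟨i, s, hs, hv⟩
  rcases hs with rfl | rfl
  · have : v = E8 i := Subtype.ext hv
    rw [this]
    exact key i
  · have : v = -E8 i := Subtype.ext (by
      rw [hv]
      show _ = -(Pi.single i 8 : GolayPt → ℤ)
      rw [← Pi.single_neg])
    rw [this, co0_neg]
    obtain ⟨j, t, ht, h⟩ := key i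
    refine ⟨j, -t, by omega, ?_⟩
    show -((g • E8 i : ↥leechLattice) : GolayPt → ℤ) = _
    rw [h, Pi.single_neg]

/-! ### The order of the stabiliser -/

theorem param_fix_iff (p : ↥M24 × ↥golayCode) :
    (param p).1 • e = e ↔ p.1.1 (pt 0) = pt 0 ∧ p.2.1 (pt 0) = 0 := by
  constructor
  · intro h
    have h1 : signedPerm p.1.1 (support₂ p.2.1) (Pi.single (pt 0) 8) = Pi.single (pt 0) 8 := by
      have := congrArg (fun v : ↥leechLattice => (v : GolayPt → ℤ)) h
      exact this
    rw [signedPerm_single] at h1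
    have hσ : p.1.1 (pt 0) = pt 0 := by
      by_contra hne
      have := congrFun h1 (pt 0)
      rw [Pi.single_eq_same, Pi.single_eq_of_ne (Ne.symm hne)] at this
      norm_num at this
    refine ⟨hσ, ?_⟩
    rw [hσ] at h1
    have := congrFun h1 (pt 0)
    rw [Pi.single_eq_same, Pi.single_eq_same] at this
    by_contra hne
    have hmem : pt 0 ∈ support₂ p.2.1 := by simp [support₂, hne]
    rw [if_pos hmem] at this
    norm_num at this
  · rintro ⟨h1, h2⟩
    apply Subtype.ext
    rw [param_smul]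
    show signedPerm _ _ (Pi.single (pt 0) 8) = Pi.single (pt 0) 8
    rw [signedPerm_single, h1, if_neg]
    simp [support₂, h2]

theorem card_stab : Nat.card (MulAction.stabilizer ↥Co0 e) =
    Nat.card {p : ↥M24 × ↥golayCode // p.1.1 (pt 0) = pt 0 ∧ p.2.1 (pt 0) = 0} := by
  symm
  apply Nat.card_eq_of_bijective
    (fun p : {p : ↥M24 × ↥golayCode // p.1.1 (pt 0) = pt 0 ∧ p.2.1 (pt 0) = 0} =>
      (⟨(param p.1).1, MulAction.mem_stabilizer_iff.mpr ((param_fix_iff p.1).mpr p.2)⟩ :
        MulAction.stabilizer ↥Co0 e))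
  constructor
  · intro p q h
    apply Subtype.ext
    apply param_injective
    apply Subtype.ext
    exact congrArg (fun x : MulAction.stabilizer ↥Co0 e => (x : ↥Co0)) h
  · rintro ⟨g, hg⟩
    have hg' : g • e = e := MulAction.mem_stabilizer_iff.mp hg
    obtain ⟨p, hp⟩ := param_surjective ⟨g, presCross_of_stab hg'⟩
    have hp1 : (param p).1 = g := congrArg Subtype.val hp
    refine ⟨⟨p, (param_fix_iff p).mp (by rw [hp1]; exact hg')⟩, ?_⟩
    apply Subtype.ext
    exact hp1

theorem card_M23 : Nat.card {σ : ↥M24 // σ.1 (pt 0) = pt 0} = 10200960 := by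
  have := M24_isPretransitive
  have h1 := Subgroup.card_mul_index (MulAction.stabilizer ↥M24 (pt 0))
  have h24 : Nat.card GolayPt = 24 := by
    rw [Nat.card_eq_fintype_card]
    decide
  rw [MulAction.index_stabilizer_of_transitive, card_M24, h24] at h1
  have h2 : Nat.card (MulAction.stabilizer ↥M24 (pt 0)) = Nat.card {σ : ↥M24 // σ.1 (pt 0) = pt 0} :=
    Nat.card_congr (Equiv.subtypeEquivRight (fun σ => MulAction.mem_stabilizer_iff))
  omega

/-- the value of a codeword at the first point -/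
def ev0 : ↥golayCode →+ ZMod 2 where
  toFun u := u.1 (pt 0)
  map_zero' := rfl
  map_add' _ _ := rfl

theorem card_half : Nat.card {u : ↥golayCode // u.1 (pt 0) = 0} = 2048 := by
  have h1 := AddSubgroup.card_mul_index ev0.ker
  rw [AddSubgroup.index_ker] at h1
  have hr : ev0.range = ⊤ := by
    rw [AddMonoidHom.range_eq_top]
    intro z
    have : ∀ z : ZMod 2, z = 0 ∨ z = 1 := by decide
    rcases this z with rfl | rfl
    · exact ⟨0, rfl⟩
    · exact ⟨⟨1, one_mem_golayCode⟩, rfl⟩
  have h2 : Nat.card (⊤ : AddSubgroup (ZMod 2)) = 2 := by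
    rw [AddSubgroup.card_top]
    simp
  rw [hr, golay_natCard, h2] at h1
  have h3 : Nat.card ev0.ker = Nat.card {u : ↥golayCode // u.1 (pt 0) = 0} :=
    Nat.card_congr (Equiv.subtypeEquivRight (fun u => AddMonoidHom.mem_ker))
  omega

/-- the order of the automorphism group of the lattice -/
theorem card_Co0 : Nat.card ↥Co0 = 8315553613086720000 := by
  have h1 := Subgroup.card_mul_index (MulAction.stabilizer ↥Co0 e)
  have h2 : Nat.card {p : ↥M24 × ↥golayCode // p.1.1 (pt 0) = pt 0 ∧ p.2.1 (pt 0) = 0} =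
      Nat.card ({σ : ↥M24 // σ.1 (pt 0) = pt 0} × {u : ↥golayCode // u.1 (pt 0) = 0}) :=
    Nat.card_congr (Equiv.subtypeProdEquivProd (p := fun σ : ↥M24 => σ.1 (pt 0) = pt 0)
      (q := fun u : ↥golayCode => u.1 (pt 0) = 0))
  rw [MulAction.index_stabilizer, ncard_orbit, card_stab, h2, Nat.card_prod, card_M23, card_half] at h1
  rw [← h1]

end Cfsg.Agent.Helper22.Co0Order
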