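import Cfsg.Agent.Helper22.Co2Simple

/-!
# The simplicity of the automorphism group of the lattice modulo its centre
-/

set_option autoImplicit false

namespace Cfsg.Agent.Helper22.Co1Simple

open Cfsg Cfsg.Agent.Helper27 Cfsg.Agent.Helper22.Co0Mono Cfsg.Agent.Helper22.CrossStab
  Cfsg.Agent.Helper22.Co0Center Cfsg.Agent.Helper22.MinTrans Cfsg.Agent.Helper22.Norm6Trans
  Cfsg.Agent.Helper22.Co0Order Cfsg.Agent.Helper22.Summands Cfsg.Agent.Helper22.Census
  Cfsg.Agent.Helper22.QuadForm Cfsg.Agent.Helper22.LeechMod2 Cfsg.Agent.Helper22.Co3Orbit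
  Cfsg.Agent.Helper22.GolayComb Cfsg.Agent.Helper22.Design Cfsg.Agent.Helper22.HS100
  Cfsg.Agent.Helper22.HS100b Cfsg.Agent.Helper22.McL2025 Cfsg.Agent.Helper22.McL2025b
  Cfsg.Agent.Helper22.Flag Cfsg.Agent.Helper22.Co2Trans Cfsg.Agent.Helper22.Co2Trans2
  Cfsg.Agent.Helper22.McL275 Cfsg.Agent.Helper22.McL275b Cfsg.Agent.Helper22.HSSimple
  Cfsg.Agent.Helper22.McLSimple Cfsg.Agent.Helper22.Co3Simple Cfsg.Agent.Helper22.Co2Std
  Cfsg.Agent.Helper22.Co2Simple
open scoped Pointwise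

/-! ### Some minimal vectors -/

/-- the vector `4 e_0 + 4 e_2` -/
def v16 : ↥leechLattice := pvL (pt 0) (pt 2) 4 (Or.inl rfl)

/-- the vector `4 e_0 + 4 e_3` -/
def v16' : ↥leechLattice := pvL (pt 0) (pt 3) 4 (Or.inl rfl)

theorem m1 : sqNorm (v16 : GolayPt → ℤ) = 32 := by
  show sqNorm (pv (pt 0) (pt 2) 4 4) = 32
  decide +kernel

theorem m2 : sqNorm (v16' : GolayPt → ℤ) = 32 := by
  show sqNorm (pv (pt 0) (pt 3) 4 4) = 32
  decide +kernel

theorem m3 : sqNorm (c12 : GolayPt → ℤ) = 32 := by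
  show sqNorm (pv (pt 1) (pt 2) (-4) 4) = 32
  decide +kernel

theorem m4 : sqNorm (yT : GolayPt → ℤ) = 32 := by
  show sqNorm (fB (maskSet 213833)) = 32
  decide +kernel

theorem m5 : sqNorm (yB8 : GolayPt → ℤ) = 32 := by
  show sqNorm (fB (maskSet 18147)) = 32
  decide +kernel

theorem sqNorm_neg' {x : ↥leechLattice} (hx : sqNorm (x : GolayPt → ℤ) = 32) :
    sqNorm ((-x : ↥leechLattice) : GolayPt → ℤ) = 32 := by
  rw [coe_neg', Census.sqNorm_neg, hx]

theorem dot_neg_r (a b : ↥leechLattice) :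
    dotInt (a : GolayPt → ℤ) ((-b : ↥leechLattice) : GolayPt → ℤ) = -dotInt (a : GolayPt → ℤ) (b : GolayPt → ℤ) := by
  rw [coe_neg', dot_neg_right']

theorem dot_neg_l (a b : ↥leechLattice) :
    dotInt ((-a : ↥leechLattice) : GolayPt → ℤ) (b : GolayPt → ℤ) = -dotInt (a : GolayPt → ℤ) (b : GolayPt → ℤ) := by
  rw [coe_neg', dot_neg_left]

theorem e1 : dotInt (a01 : GolayPt → ℤ) (v16 : GolayPt → ℤ) = 16 := by
  show dotInt (pv (pt 0) (pt 1) 4 4) (pv (pt 0) (pt 2) 4 4) = 16
  decide +kernel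

theorem e2 : dotInt (v16 : GolayPt → ℤ) (c12 : GolayPt → ℤ) = 16 := by
  show dotInt (pv (pt 0) (pt 2) 4 4) (pv (pt 1) (pt 2) (-4) 4) = 16
  decide +kernel

theorem e3 : dotInt (c12 : GolayPt → ℤ) (a01 : GolayPt → ℤ) = -16 := by
  show dotInt (pv (pt 1) (pt 2) (-4) 4) (pv (pt 0) (pt 1) 4 4) = -16
  decide +kernel

theorem e4 : dotInt (v16 : GolayPt → ℤ) (v16' : GolayPt → ℤ) = 16 := by
  show dotInt (pv (pt 0) (pt 2) 4 4) (pv (pt 0) (pt 3) 4 4) = 16
  decide +kernel

theorem e5 : dotInt (a01 : GolayPt → ℤ) (v16' : GolayPt → ℤ) = 16 := by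
  show dotInt (pv (pt 0) (pt 1) 4 4) (pv (pt 0) (pt 3) 4 4) = 16
  decide +kernel

theorem e6 : dotInt (a01 : GolayPt → ℤ) (yT : GolayPt → ℤ) = 8 := by
  show dotInt (pv (pt 0) (pt 1) 4 4) (fB (maskSet 213833)) = 8
  decide +kernel

theorem e7 : dotInt (yT : GolayPt → ℤ) (v16 : GolayPt → ℤ) = 8 := by
  show dotInt (fB (maskSet 213833)) (pv (pt 0) (pt 2) 4 4) = 8
  decide +kernel

theorem e8 : dotInt (d01 : GolayPt → ℤ) (yB8 : GolayPt → ℤ) = 0 := by
  show dotInt (pv (pt 0) (pt 1) 4 (-4)) (fB (maskSet 18147)) = 0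
  decide +kernel

theorem e9 : dotInt (a01 : GolayPt → ℤ) (yB8 : GolayPt → ℤ) = 16 := by
  show dotInt (pv (pt 0) (pt 1) 4 4) (fB (maskSet 18147)) = 16
  decide +kernel

theorem e10 : dotInt (v16' : GolayPt → ℤ) (yT : GolayPt → ℤ) = 16 := by
  show dotInt (pv (pt 0) (pt 3) 4 4) (fB (maskSet 213833)) = 16
  decide +kernel

theorem e11 : dotInt (v16 : GolayPt → ℤ) (d01 : GolayPt → ℤ) = 16 := by
  show dotInt (pv (pt 0) (pt 2) 4 4) (pv (pt 0) (pt 1) 4 (-4)) = 16
  decide +kernel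

/-! ### Vectors of inner product `±32` -/

theorem eq_of_dot32 {v w : ↥leechLattice} (hv : sqNorm (v : GolayPt → ℤ) = 32) (hw : sqNorm (w : GolayPt → ℤ) = 32)
    (hd : dotInt (v : GolayPt → ℤ) (w : GolayPt → ℤ) = 32) : w = v := by
  have h1 : w ∈ Census.X v 32 := ⟨hw, hd⟩
  rw [X32 v hv] at h1
  exact h1

theorem eq_neg_of_dot32 {v w : ↥leechLattice} (hv : sqNorm (v : GolayPt → ℤ) = 32)
    (hw : sqNorm (w : GolayPt → ℤ) = 32) (hd : dotInt (v : GolayPt → ℤ) (w : GolayPt → ℤ) = -32) : w = -v := by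
  have h1 : -w = v := eq_of_dot32 hv (sqNorm_neg' hw) (by rw [dot_neg_r, hd]; norm_num)
  rw [← h1, neg_neg]

/-! ### Transitivity on the vectors of a given inner product with a minimal vector -/

theorem ip_trans {k : ℤ} (hk : k = 16 ∨ k = -16 ∨ k = 8 ∨ k = -8) (v w w' : ↥leechLattice)
    (hv : sqNorm (v : GolayPt → ℤ) = 32) (hw : sqNorm (w : GolayPt → ℤ) = 32)
    (hw' : sqNorm (w' : GolayPt → ℤ) = 32) (hd : dotInt (v : GolayPt → ℤ) (w : GolayPt → ℤ) = k)
    (hd' : dotInt (v : GolayPt → ℤ) (w' : GolayPt → ℤ) = k) : ∃ g : ↥Co0, g • v = v ∧ g • w = w' := by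
  rcases hk with rfl | rfl | rfl | rfl
  · obtain ⟨g, h1, h2⟩ := ip16_transitive v (-w) (-w') hv (sqNorm_neg' hw) (sqNorm_neg' hw')
      (by rw [dot_neg_r, hd]) (by rw [dot_neg_r, hd'])
    refine ⟨g, h1, ?_⟩
    rw [co0_neg] at h2
    exact neg_injective h2
  · exact ip16_transitive v w w' hv hw hw' hd hd'
  · obtain ⟨g, h1, h2⟩ := ip8_transitive v (-w) (-w') hv (sqNorm_neg' hw) (sqNorm_neg' hw')
      (by rw [dot_neg_r, hd]) (by rw [dot_neg_r, hd'])
    refine ⟨g, h1, ?_⟩
    rw [co0_neg] at h2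
    exact neg_injective h2
  · exact ip8_transitive v w w' hv hw hw' hd hd'

/-! ### The orbits of a normal subgroup on the minimal vectors -/

section Orbits

variable (N : Subgroup ↥Co0)

/-- the orbit relation of a subgroup -/
def Rel (v w : ↥leechLattice) : Prop := ∃ n ∈ N, n • v = w

theorem rel_refl (v : ↥leechLattice) : Rel N v v := ⟨1, N.one_mem, one_smul _ _⟩

variable {N}

theorem rel_symm {v w : ↥leechLattice} (h : Rel N v w) : Rel N w v := by
  obtain ⟨n, hn, rfl⟩ := h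
  exact ⟨n⁻¹, N.inv_mem hn, inv_smul_smul _ _⟩

theorem rel_trans {u v w : ↥leechLattice} (h1 : Rel N u v) (h2 : Rel N v w) : Rel N u w := by
  obtain ⟨n, hn, rfl⟩ := h1
  obtain ⟨m, hm, rfl⟩ := h2
  exact ⟨m * n, N.mul_mem hm hn, mul_smul _ _ _⟩

theorem rel_neg {v w : ↥leechLattice} (h : Rel N v w) : Rel N (-v) (-w) := by
  obtain ⟨n, hn, rfl⟩ := h
  exact ⟨n, hn, co0_neg _ _⟩

theorem rel_smul (hNn : N.Normal) (g : ↥Co0) {v w : ↥leechLattice} (h : Rel N v w) : Rel N (g • v) (g • w) := by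
  obtain ⟨n, hn, rfl⟩ := h
  exact ⟨g * n * g⁻¹, hNn.conj_mem n hn g, by rw [mul_smul, mul_smul, inv_smul_smul]⟩

variable (N)

/-- all pairs of minimal vectors with inner product `k` are related -/
def P (k : ℤ) : Prop := ∀ v w : ↥leechLattice, sqNorm (v : GolayPt → ℤ) = 32 → sqNorm (w : GolayPt → ℤ) = 32 →
  dotInt (v : GolayPt → ℤ) (w : GolayPt → ℤ) = k → Rel N v w

variable {N}

theorem P_of_example (hNn : N.Normal) {k : ℤ} (hk : k = 16 ∨ k = -16 ∨ k = 8 ∨ k = -8) {v0 w0 : ↥leechLattice}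
    (hv0 : sqNorm (v0 : GolayPt → ℤ) = 32) (hw0 : sqNorm (w0 : GolayPt → ℤ) = 32)
    (hd0 : dotInt (v0 : GolayPt → ℤ) (w0 : GolayPt → ℤ) = k) (h0 : Rel N v0 w0) : P N k := by
  intro v w hv hw hd
  obtain ⟨g, hg⟩ := min_transitive v0 v hv0 hv
  have h1 := rel_smul hNn g h0
  rw [hg] at h1
  obtain ⟨h, hh1, hh2⟩ := ip_trans hk v (g • w0) w hv (by rw [co0_norm, hw0]) hw (by rw [← hg, co0_dot, hd0]) hd
  have h2 := rel_smul hNn h h1
  rwa [hh1, hh2] at h2

theorem P16_of_Pm16 (hNn : N.Normal) (h : P N (-16)) : P N 16 := by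
  have h1 : Rel N a01 (-v16) := h _ _ n3 (sqNorm_neg' m1) (by rw [dot_neg_r, e1])
  have h2 : Rel N (-v16) v16' := h _ _ (sqNorm_neg' m1) m2 (by rw [dot_neg_l, e4])
  exact P_of_example hNn (Or.inl rfl) n3 m2 e5 (rel_trans h1 h2)

theorem P16_of_P8 (hNn : N.Normal) (h : P N 8) : P N 16 := by
  have h1 : Rel N a01 yT := h _ _ n3 m4 e6
  have h2 : Rel N yT v16 := h _ _ m4 m1 e7
  exact P_of_example hNn (Or.inl rfl) n3 m1 e1 (rel_trans h1 h2)

theorem P16_of_Pm8 (hNn : N.Normal) (h : P N (-8)) : P N 16 := by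
  have h1 : Rel N a01 (-yT) := h _ _ n3 (sqNorm_neg' m4) (by rw [dot_neg_r, e6])
  have h2 : Rel N (-yT) v16 := h _ _ (sqNorm_neg' m4) m1 (by rw [dot_neg_l, e7])
  exact P_of_example hNn (Or.inl rfl) n3 m1 e1 (rel_trans h1 h2)

theorem P16_of_zero (hNn : N.Normal) {v0 w0 : ↥leechLattice} (hv0 : sqNorm (v0 : GolayPt → ℤ) = 32)
    (hw0 : sqNorm (w0 : GolayPt → ℤ) = 32) (hd0 : dotInt (v0 : GolayPt → ℤ) (w0 : GolayPt → ℤ) = 0)
    (h0 : Rel N v0 w0) : P N 16 := by
  have key : ∀ v w : ↥leechLattice, sqNorm (v : GolayPt → ℤ) = 32 → sqNorm (w : GolayPt → ℤ) = 32 →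
      dotInt (v : GolayPt → ℤ) (w : GolayPt → ℤ) = 0 → Rel N v w ∨ Rel N v (-w) := by
    intro v w hv hw hd
    obtain ⟨g, hg⟩ := min_transitive v0 v hv0 hv
    have h1 := rel_smul hNn g h0
    rw [hg] at h1
    obtain ⟨h, hh1, hh2⟩ := orth_transitive v (g • w0) w hv (by rw [co0_norm, hw0]) hw
      (by rw [← hg, co0_dot, hd0]) hd
    have h2 := rel_smul hNn h h1
    rw [hh1] at h2
    rcases hh2 with hh2 | hh2
    · left
      rwa [hh2] at h2
    · right
      rwa [hh2] at h2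
  have hfin : ∀ s : ↥leechLattice, sqNorm (s : GolayPt → ℤ) = 32 → dotInt (s : GolayPt → ℤ) (yB8 : GolayPt → ℤ) = 0 →
      Rel N a01 s → P N 16 := by
    intro s hs hsd hrel
    rcases key s yB8 hs m5 hsd with h2 | h2
    · exact P_of_example hNn (Or.inl rfl) n3 m5 e9 (rel_trans hrel h2)
    · exact P16_of_Pm16 hNn (P_of_example hNn (Or.inr (Or.inl rfl)) n3 (sqNorm_neg' m5)
        (by rw [dot_neg_r, e9]) (rel_trans hrel h2))
  rcases key a01 d01 n3 k2 d01_mem.2 with h1 | h1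
  · exact hfin d01 k2 e8 h1
  · exact hfin (-d01) (sqNorm_neg' k2) (by rw [dot_neg_l, e8]; norm_num) h1

theorem all_of_P16 (hNn : N.Normal) (h : P N 16) (w : ↥leechLattice) (hw : sqNorm (w : GolayPt → ℤ) = 32) :
    Rel N a01 w := by
  have hneg_a : Rel N a01 (-a01) := by
    have h1 : Rel N a01 v16 := h _ _ n3 m1 e1
    have h2 : Rel N v16 c12 := h _ _ m1 m3 e2
    have h3 : Rel N c12 (-a01) := h _ _ m3 (sqNorm_neg' n3) (by rw [dot_neg_r, e3]; norm_num)
    exact rel_trans (rel_trans h1 h2) h3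
  have hneg : ∀ v : ↥leechLattice, sqNorm (v : GolayPt → ℤ) = 32 → Rel N v (-v) := by
    intro v hv
    obtain ⟨g, hg⟩ := min_transitive a01 v n3 hv
    have h1 := rel_smul hNn g hneg_a
    rwa [co0_neg, hg] at h1
  have h8 : P N 8 := by
    have h1 : Rel N a01 v16' := h _ _ n3 m2 e5
    have h2 : Rel N v16' yT := h _ _ m2 m4 e10
    exact P_of_example hNn (Or.inr (Or.inr (Or.inl rfl))) n3 m4 e6 (rel_trans h1 h2)
  have hd01 : Rel N a01 d01 := by
    have h1 : Rel N a01 v16 := h _ _ n3 m1 e1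
    have h2 : Rel N v16 d01 := h _ _ m1 k2 e11
    exact rel_trans h1 h2
  have hk := dot_cases (v := a01) (w := w) n3 hw
  simp only [Finset.mem_insert, Finset.mem_singleton] at hk
  rcases hk with hk | hk | hk | hk | hk | hk | hk
  · rw [eq_neg_of_dot32 n3 hw hk]
    exact hneg_a
  · have h1 : Rel N a01 (-w) := h _ _ n3 (sqNorm_neg' hw) (by rw [dot_neg_r, hk]; norm_num)
    have h2 := hneg (-w) (sqNorm_neg' hw)
    rw [neg_neg] at h2
    exact rel_trans h1 h2
  · have h1 : Rel N a01 (-w) := h8 _ _ n3 (sqNorm_neg' hw) (by rw [dot_neg_r, hk]; norm_num)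
    have h2 := hneg (-w) (sqNorm_neg' hw)
    rw [neg_neg] at h2
    exact rel_trans h1 h2
  · obtain ⟨g, hg1, hg2⟩ := orth_transitive a01 d01 w n3 k2 hw d01_mem.2 hk
    have h1 := rel_smul hNn g hd01
    rw [hg1] at h1
    rcases hg2 with hg2 | hg2
    · rwa [hg2] at h1
    · rw [hg2] at h1
      have h2 := hneg (-w) (sqNorm_neg' hw)
      rw [neg_neg] at h2
      exact rel_trans h1 h2
  · exact h8 _ _ n3 hw hk
  · exact h _ _ n3 hw hk
  · rw [eq_of_dot32 n3 hw hk]
    exact rel_refl N a01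

/-- a normal subgroup with an element moving a minimal vector to a vector other than the opposite one is transitive on
the minimal vectors -/
theorem rel_all (hNn : N.Normal) {n : ↥Co0} (hn : n ∈ N) {v1 : ↥leechLattice}
    (hv1 : sqNorm (v1 : GolayPt → ℤ) = 32) (h1 : n • v1 ≠ v1) (h2 : n • v1 ≠ -v1) (w : ↥leechLattice)
    (hw : sqNorm (w : GolayPt → ℤ) = 32) : Rel N a01 w := by
  have hn1 : sqNorm ((n • v1 : ↥leechLattice) : GolayPt → ℤ) = 32 := by rw [co0_norm, hv1]
  have hrel : Rel N v1 (n • v1) := ⟨n, hn, rfl⟩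
  have h16 : P N 16 := by
    have hk := dot_cases (v := v1) (w := n • v1) hv1 hn1
    simp only [Finset.mem_insert, Finset.mem_singleton] at hk
    rcases hk with hk | hk | hk | hk | hk | hk | hk
    · exact absurd (eq_neg_of_dot32 hv1 hn1 hk) h2
    · exact P16_of_Pm16 hNn (P_of_example hNn (Or.inr (Or.inl rfl)) hv1 hn1 hk hrel)
    · exact P16_of_Pm8 hNn (P_of_example hNn (Or.inr (Or.inr (Or.inr rfl))) hv1 hn1 hk hrel)
    · exact P16_of_zero hNn hv1 hn1 hk hrel
    · exact P16_of_P8 hNn (P_of_example hNn (Or.inr (Or.inr (Or.inl rfl))) hv1 hn1 hk hrel)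
    · exact P_of_example hNn (Or.inl rfl) hv1 hn1 hk hrel
    · exact absurd (eq_of_dot32 hv1 hn1 hk) h1
  exact all_of_P16 hNn h16 w hw

end Orbits

/-! ### Elements preserving every pair of opposite minimal vectors -/

theorem negCo_mul_self : negCo * negCo = 1 := by
  apply eq_one_of_forall
  intro z
  rw [mul_smul, negCo_smul, negCo_smul, neg_neg]

theorem pm_all (g : ↥Co0) (h : ∀ v : ↥leechLattice, sqNorm (v : GolayPt → ℤ) = 32 → g • v = v ∨ g • v = -v) :
    g = 1 ∨ g = negCo := by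
  rcases h a01 n3 with h1 | h1
  · left
    exact eq_one_of_pm g h1 (fun x hx => h x hx.1)
  · right
    have h2 : (negCo * g) • a01 = a01 := by rw [mul_smul, h1, negCo_smul, neg_neg]
    have h3 : negCo * g = 1 := eq_one_of_pm _ h2 (fun x hx => by
      rw [mul_smul, negCo_smul]
      rcases h x hx.1 with h4 | h4
      · right
        rw [h4]
      · left
        rw [h4, neg_neg])
    calc g = negCo * (negCo * g) := by rw [← mul_assoc, negCo_mul_self, one_mul]
      _ = negCo := by rw [h3, mul_one]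

/-! ### The actions on the vectors of a given sum of squares -/

/-- the lattice vectors of a given sum of squares -/
def Lm (c : ℤ) : SubMulAction ↥Co0 ↥leechLattice where
  carrier := Census.L c
  smul_mem' := fun g x hx => by
    show sqNorm ((g • x : ↥leechLattice) : GolayPt → ℤ) = c
    rw [co0_norm]
    exact hx

set_option synthInstance.maxHeartbeats 400000 in
instance instLm (c : ℤ) : MulAction ↥Co0 ↥(Lm c) := inferInstance

/-- a normal subgroup is contained in the centre or is the whole group -/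
theorem normal_le_center_or_top (N : Subgroup ↥Co0) (hNn : N.Normal) : N ≤ Subgroup.center ↥Co0 ∨ N = ⊤ := by
  classical
  by_cases hcase : ∀ n ∈ N, ∀ v : ↥leechLattice, sqNorm (v : GolayPt → ℤ) = 32 → n • v = v ∨ n • v = -v
  · left
    intro n hn
    rcases pm_all n (hcase n hn) with rfl | rfl
    · exact Subgroup.one_mem _
    · exact negCo_mem_center
  · right
    push Not at hcase
    obtain ⟨n, hn, v1, hv1, h1, h2⟩ := hcase
    have htr := rel_all hNn hn hv1 h1 h2
    obtain ⟨hG2s, -⟩ := Co2_std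
    rcases hG2s.eq_bot_or_eq_top_of_normal (N.subgroupOf G2) inferInstance with h | h
    · exfalso
      have hfree2 : ∀ m ∈ N, m • a01 = a01 → m = 1 := by
        intro m hm hma
        have h3 : (⟨m, (mem_G2 m).mpr hma⟩ : ↥G2) ∈ N.subgroupOf G2 := Subgroup.mem_subgroupOf.mpr hm
        rw [h, Subgroup.mem_bot] at h3
        exact congrArg Subtype.val h3
      -- the action on the minimal vectors
      have hc2 : Nat.card ↥(Lm 32) = 196560 := by
        have h3 : Nat.card ↥(Lm 32) = (Census.L 32).ncard := Nat.card_coe_set_eq _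
        rw [h3, ncard_L32]
      have hfin2 : Finite ↥(Lm 32) := Nat.finite_of_card_ne_zero (by rw [hc2]; norm_num)
      have ht2 : MulAction.IsPretransitive ↥Co0 ↥(Lm 32) := by
        refine ⟨fun x y => ?_⟩
        obtain ⟨g, hg⟩ := min_transitive x.1 y.1 x.2 y.2
        exact ⟨g, Subtype.ext hg⟩
      have hd2 : Nat.card N ∣ 196560 := by
        rw [← hc2]
        apply Co2Crit.card_dvd_of_free N hNn (⟨a01, n3⟩ : ↥(Lm 32))
        intro m hm hma
        exact hfree2 m hm (congrArg Subtype.val hma)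
      have hge : 196560 ≤ Nat.card N := by
        rw [← hc2]
        apply Nat.card_le_card_of_surjective (fun m : N => (m.1 • (⟨a01, n3⟩ : ↥(Lm 32))))
        intro y
        obtain ⟨m, hm, hmy⟩ := htr y.1 y.2
        exact ⟨⟨m, hm⟩, Subtype.ext hmy⟩
      -- the action on the vectors of sum of squares 48
      obtain ⟨hG3s, -⟩ := Co3_simple D0 sqNorm_D0
      have hfree3 : ∀ m ∈ N, m • D0 = D0 → m = 1 := by
        rcases hG3s.eq_bot_or_eq_top_of_normal (N.subgroupOf (G3 D0)) inferInstance with h3 | h3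
        · intro m hm hmD
          have h4 : (⟨m, (mem_G3 D0 m).mpr hmD⟩ : ↥(G3 D0)) ∈ N.subgroupOf (G3 D0) := Subgroup.mem_subgroupOf.mpr hm
          rw [h3, Subgroup.mem_bot] at h4
          exact congrArg Subtype.val h4
        · exfalso
          have hG3N : G3 D0 ≤ N := Subgroup.subgroupOf_eq_top.mp h3
          obtain ⟨-, hMc⟩ := McL_simple a01 (D0 - a01) n3 w0_mem.1 w0_mem.2
          have hsub : Subsingleton ↥(GS a01 (D0 - a01)) := by
            refine ⟨fun a b => ?_⟩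
            have key : ∀ k : ↥(GS a01 (D0 - a01)), k = 1 := by
              intro k
              obtain ⟨k1, k2⟩ := (mem_GS _ _ _).mp k.2
              have hkD : k.1 • D0 = D0 := by
                have h5 : k.1 • (a01 + (D0 - a01)) = a01 + (D0 - a01) := by rw [co0_add, k1, k2]
                have h6 : a01 + (D0 - a01) = D0 := by abel
                rwa [h6] at h5
              exact Subtype.ext (hfree2 k.1 (hG3N ((mem_G3 D0 k.1).mpr hkD)) k1)
            rw [key a, key b]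
          have h7 := Finite.card_le_one_iff_subsingleton.mpr hsub
          rw [hMc] at h7
          omega
      have hc3 : Nat.card ↥(Lm 48) = 16773120 := by
        have h3 : Nat.card ↥(Lm 48) = (Census.L 48).ncard := Nat.card_coe_set_eq _
        rw [h3, ncard_L48]
      have hfin3 : Finite ↥(Lm 48) := Nat.finite_of_card_ne_zero (by rw [hc3]; norm_num)
      have ht3 : MulAction.IsPretransitive ↥Co0 ↥(Lm 48) := by
        refine ⟨fun x y => ?_⟩
        obtain ⟨g, hg⟩ := norm6_to_d0 x.1 x.2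
        obtain ⟨g', hg'⟩ := norm6_to_d0 y.1 y.2
        refine ⟨g'⁻¹ * g, Subtype.ext ?_⟩
        show (g'⁻¹ * g) • x.1 = y.1
        have e1 : g • x.1 = g' • y.1 := Subtype.ext (by rw [hg, hg'])
        rw [mul_smul, e1, inv_smul_smul]
      have hd3 : Nat.card N ∣ 16773120 := by
        rw [← hc3]
        apply Co2Crit.card_dvd_of_free N hNn (⟨D0, sqNorm_D0⟩ : ↥(Lm 48))
        intro m hm hmD
        exact hfree3 m hm (congrArg Subtype.val hmD)
      have hN : Nat.card N = 196560 := le_antisymm (Nat.le_of_dvd (by norm_num) hd2) hge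
      rw [hN] at hd3
      norm_num at hd3
    · have hG2N : G2 ≤ N := Subgroup.subgroupOf_eq_top.mp h
      rw [eq_top_iff]
      intro g _
      obtain ⟨m, hm, hmg⟩ := htr (g • a01) (by rw [co0_norm, n3])
      have h3 : m⁻¹ * g ∈ G2 := (mem_G2 _).mpr (by rw [mul_smul, ← hmg, inv_smul_smul])
      have h4 := N.mul_mem hm (hG2N h3)
      rwa [mul_inv_cancel_left] at h4

/-! ### The quotient by the centre -/

/-- a criterion for the simplicity of the quotient by the centre -/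
theorem simple_quotient_center {G : Type*} [Group G]
    (h : ∀ N : Subgroup G, N.Normal → N ≤ Subgroup.center G ∨ N = ⊤) (hne : Subgroup.center G ≠ ⊤) :
    IsSimpleGroup (G ⧸ Subgroup.center G) := by
  have hnt : Nontrivial (G ⧸ Subgroup.center G) := by
    obtain ⟨g, hg⟩ : ∃ g : G, g ∉ Subgroup.center G := by
      by_contra hcon
      push Not at hcon
      exact hne (eq_top_iff.mpr (fun g _ => hcon g))
    refine ⟨⟨(g : G ⧸ Subgroup.center G), 1, ?_⟩⟩
    intro h1
    exact hg ((QuotientGroup.eq_one_iff g).mp h1)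
  refine ⟨fun Nbar hNbar => ?_⟩
  have hcomap : (Nbar.comap (QuotientGroup.mk' (Subgroup.center G))).Normal := hNbar.comap _
  rcases h _ hcomap with h1 | h1
  · left
    rw [Subgroup.eq_bot_iff_forall]
    intro x hx
    obtain ⟨g, rfl⟩ := QuotientGroup.mk_surjective x
    have h2 : g ∈ Nbar.comap (QuotientGroup.mk' (Subgroup.center G)) := hx
    exact (QuotientGroup.eq_one_iff g).mpr (h1 h2)
  · right
    rw [eq_top_iff]
    intro x _
    obtain ⟨g, rfl⟩ := QuotientGroup.mk_surjective x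
    have h2 : g ∈ Nbar.comap (QuotientGroup.mk' (Subgroup.center G)) := by
      rw [h1]
      trivial
    exact h2

/-- the automorphism group of the lattice modulo its centre is simple of order 4157776806543360000 -/
theorem Co1_simple : IsSimpleGroup (↥Co0 ⧸ Subgroup.center ↥Co0) ∧
    Nat.card (↥Co0 ⧸ Subgroup.center ↥Co0) = 4157776806543360000 := by
  have hcard : Nat.card (↥Co0 ⧸ Subgroup.center ↥Co0) = 4157776806543360000 := by
    have h1 := Subgroup.card_eq_card_quotient_mul_card_subgroup (Subgroup.center ↥Co0)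
    rw [card_Co0, card_center] at h1
    omega
  refine ⟨simple_quotient_center normal_le_center_or_top ?_, hcard⟩
  intro htop
  have h1 := card_center
  rw [htop, Subgroup.card_top, card_Co0] at h1
  omega

end Cfsg.Agent.Helper22.Co1Simple
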