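import Mathlib
import Cfsg.Agent.Helper24.Burnside

/-!
# Abstract lemmas for the simplicity of the stabiliser of a minimal vector

* `exists_normal_pgroup`: a nontrivial solvable normal subgroup contains a nontrivial normal subgroup of prime exponent.
* `even_ncard_of_involution`: a finite set with a fixed point free involution has an even number of elements.
* `two_mul_ncard_pairs`: the number of pairs `{x, f x}`.
-/

set_option autoImplicit false

namespace Cfsg.Agent.Helper22.Co2Abs

open MulAction
open scoped Pointwise

/-- a nontrivial solvable normal subgroup contains a nontrivial normal subgroup of prime exponent -/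
theorem exists_normal_pgroup {G : Type*} [Group G] [Finite G] :
    ∀ n : ℕ, ∀ N : Subgroup G, N.Normal → N ≠ ⊥ → Group.IsSolvable N → Nat.card N = n →
      ∃ p : ℕ, p.Prime ∧ ∃ M : Subgroup G, M.Normal ∧ M ≠ ⊥ ∧ M ≤ N ∧ ∀ x ∈ M, x ^ p = 1 := by
  intro n
  induction n using Nat.strong_induction_on with
  | _ n ih =>
    intro N hNn hbot hsolv hcard
    by_cases hex : ∃ M : Subgroup G, M.Normal ∧ M ≠ ⊥ ∧ M < N
    · obtain ⟨M, hMn, hMbot, hMN⟩ := hex
      have hlt : Nat.card M < n := by
        rw [← hcard]
        by_contra hge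
        exact hMN.ne (Subgroup.eq_of_le_of_card_ge hMN.le (not_lt.mp hge))
      have hMs : Group.IsSolvable M :=
        Group.isSolvable_of_isSolvable_injective (Subgroup.inclusion_injective hMN.le)
      obtain ⟨p, hp, M', h1, h2, h3, h4⟩ := ih _ hlt M hMn hMbot hMs rfl
      exact ⟨p, hp, M', h1, h2, h3.trans hMN.le, h4⟩
    · have hmin : ∀ M : Subgroup G, M.Normal → M ≤ N → M ≠ ⊥ → M = N := by
        intro M hMn hMN hMbot
        by_contra hne
        exact hex ⟨M, hMn, hMbot, lt_of_le_of_ne hMN hne⟩
      have hNnt : Nontrivial N := by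
        rw [Subgroup.nontrivial_iff_ne_bot]
        exact hbot
      have hcomm : ⁅N, N⁆ = ⊥ := by
        by_contra hD
        have hDn : (⁅N, N⁆).Normal := Subgroup.commutator_normal N N
        have hDN : ⁅N, N⁆ = N := hmin _ hDn (Subgroup.commutator_le_right N N) hD
        have hlt := Group.IsSolvable.commutator_lt_top_of_nontrivial N
        have hmap := Subgroup.map_subtype_commutator N
        rw [hDN] at hmap
        have : commutator N = ⊤ := by
          apply Subgroup.map_injective N.subtype_injective
          rw [hmap, ← MonoidHom.range_eq_map, Subgroup.range_subtype]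
        rw [this] at hlt
        exact lt_irrefl _ hlt
      have hcomm' : ∀ x ∈ N, ∀ y ∈ N, x * y = y * x := by
        intro x hx y hy
        have := Subgroup.commutator_eq_bot_iff_le_centralizer.mp hcomm hx
        exact (this y hy).symm
      have hc1 : Nat.card N ≠ 1 := by
        intro h1
        exact hbot ((Subgroup.card_eq_one).mp h1)
      obtain ⟨p, hp, hpd⟩ := Nat.exists_prime_and_dvd hc1
      refine ⟨p, hp, N, hNn, hbot, le_refl _, ?_⟩
      let K : Subgroup G :=
        { carrier := {x | x ∈ N ∧ x ^ p = 1}
          one_mem' := ⟨N.one_mem, one_pow p⟩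
          mul_mem' := by
            rintro x y ⟨hx, hxp⟩ ⟨hy, hyp⟩
            refine ⟨N.mul_mem hx hy, ?_⟩
            have hc : Commute x y := hcomm' x hx y hy
            rw [hc.mul_pow, hxp, hyp, one_mul]
          inv_mem' := by
            rintro x ⟨hx, hxp⟩
            exact ⟨N.inv_mem hx, by rw [inv_pow, hxp, inv_one]⟩ }
      have hKn : K.Normal := by
        refine ⟨fun x hx g => ?_⟩
        obtain ⟨hxN, hxp⟩ := hx
        refine ⟨hNn.conj_mem x hxN g, ?_⟩
        rw [conj_pow, hxp, mul_one, mul_inv_cancel]
      have hKN : K ≤ N := fun x hx => hx.1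
      have : Fact p.Prime := ⟨hp⟩
      have hKbot : K ≠ ⊥ := by
        obtain ⟨x, hx⟩ := exists_prime_orderOf_dvd_card' (G := N) p hpd
        intro hK
        have hxK : (x : G) ∈ K := by
          refine ⟨x.2, ?_⟩
          have := pow_orderOf_eq_one x
          rw [hx] at this
          exact congrArg Subtype.val this
        rw [hK, Subgroup.mem_bot] at hxK
        have : x = 1 := Subtype.ext hxK
        rw [this, orderOf_one] at hx
        exact hp.one_lt.ne hx
      have hKeq : K = N := hmin K hKn hKN hKbot
      intro x hx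
      have : x ∈ K := by rw [hKeq]; exact hx
      exact this.2

/-- a finite set with a fixed point free involution has an even number of elements -/
theorem even_ncard_of_involution {α : Type*} (s : Set α) (hs : s.Finite) (f : α → α) (hf : ∀ x ∈ s, f x ∈ s)
    (hff : ∀ x ∈ s, f (f x) = x) (hne : ∀ x ∈ s, f x ≠ x) : Even s.ncard := by
  classical
  rw [Set.ncard_eq_toFinset_card s hs]
  have h2 : ∏ _x ∈ hs.toFinset, (-1 : ℤ) = 1 := by
    apply Finset.prod_involution (fun x _ => f x)
    · intro a _
      norm_num
    · intro a ha _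
      exact hne a (hs.mem_toFinset.mp ha)
    · intro a ha
      exact hs.mem_toFinset.mpr (hf a (hs.mem_toFinset.mp ha))
    · intro a ha
      exact hff a (hs.mem_toFinset.mp ha)
  rw [Finset.prod_const] at h2
  exact (neg_one_pow_eq_one_iff_even (by norm_num)).mp h2

/-- the number of pairs `{x, f x}` -/
theorem two_mul_ncard_pairs {α : Type*} (s : Set α) (hs : s.Finite) (f : α → α) (hf : ∀ x ∈ s, f x ∈ s)
    (hff : ∀ x ∈ s, f (f x) = x) (hne : ∀ x ∈ s, f x ≠ x) :
    2 * {t : Set α | ∃ x ∈ s, t = {x, f x}}.ncard = s.ncard := by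
  classical
  have himg : {t : Set α | ∃ x ∈ s, t = {x, f x}} = ↑(hs.toFinset.image (fun x => ({x, f x} : Set α))) := by
    ext t
    simp only [Set.mem_ofPred_eq, Finset.coe_image, Set.Finite.coe_toFinset, Set.mem_image]
    constructor
    · rintro ⟨x, hx, rfl⟩
      exact ⟨x, hx, rfl⟩
    · rintro ⟨x, hx, rfl⟩
      exact ⟨x, hx, rfl⟩
  rw [himg, Set.ncard_coe_finset, Set.ncard_eq_toFinset_card s hs,
    Finset.card_eq_sum_card_fiberwise (f := fun x => ({x, f x} : Set α))
      (t := hs.toFinset.image (fun x => ({x, f x} : Set α))) (fun x hx => Finset.mem_image_of_mem _ hx)]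
  rw [Finset.sum_const_nat (m := 2), mul_comm]
  intro t ht
  obtain ⟨x, hx, rfl⟩ := Finset.mem_image.mp ht
  have hxs : x ∈ s := hs.mem_toFinset.mp hx
  have : hs.toFinset.filter (fun y => ({y, f y} : Set α) = {x, f x}) = {x, f x} := by
    ext y
    simp only [Finset.mem_filter, Set.Finite.mem_toFinset, Finset.mem_insert, Finset.mem_singleton]
    constructor
    · rintro ⟨-, hy⟩
      have : y ∈ ({y, f y} : Set α) := Set.mem_insert _ _
      rw [hy] at this
      exact this
    · rintro (rfl | rfl)
      · exact ⟨hxs, rfl⟩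
      · refine ⟨hf x hxs, ?_⟩
        rw [hff x hxs, Set.pair_comm]
  rw [this, Finset.card_pair (hne x hxs).symm]

end Cfsg.Agent.Helper22.Co2Abs
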