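import Cfsg.Agent.Helper22.Co2Vec
import Cfsg.Agent.Helper22.Co2VData
import Cfsg.Agent.Helper22.Census

/-!
# The stabiliser of a minimal vector as a group of permutations of 4600 points

The 4600 minimal vectors `x` with `x · a = 16` for the standard minimal vector `a` are listed, the stabiliser of
`a` is mapped injectively to the group of the permutations of their indices, and the images of four elements of
the stabiliser are computed.
-/

set_option autoImplicit false
set_option Elab.async false

namespace Cfsg.Agent.Helper22.Co2Bridge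

open Cfsg Cfsg.Agent.Helper27 Cfsg.Agent.Helper22.Co0Mono Cfsg.Agent.Helper22.Co0Center
  Cfsg.Agent.Helper22.QuadForm Cfsg.Agent.Helper22.HS100b Cfsg.Agent.Helper22.Xi
  Cfsg.Agent.Helper22.Co2K Cfsg.Agent.Helper22.Co2Vec Cfsg.Agent.Helper22.Co2VData
  Cfsg.Agent.Helper22.Co2Simple Cfsg.Agent.Helper22.Summands
open Cfsg.Agent.Helper22.PermPack (slot allN allN_spec beq_iff blt_iff withNat withNat_eq withList withList_eq
  Pm Rep rep_mul exists_rep good_of_goodB goodB Good)
open Cfsg.Agent.Helper22.HSBridge (idx_eq_iff sumZ sumZ_succ sum_golayPt)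
open Cfsg.Agent.Helper22.GraphRefine (sumN sumN_succ)

/-- the packed value of a vector -/
def pk (i : ℕ) : ℕ := slot 96 vecP i

/-! ### The vectors are in the lattice -/

/-- the conditions on the vectors of a range -/
def leechR (lo n : ℕ) : Bool :=
  allN n fun i => leechB (slot 96 vecP (Nat.add lo i)) (slot 12 cwI (Nat.add lo i))

theorem leech_okK0 : leechR 0 1150 = true := by decide +kernel

theorem leech_okK1 : leechR 1150 1150 = true := by decide +kernel

theorem leech_okK2 : leechR 2300 1150 = true := by decide +kernel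

theorem leech_okK3 : leechR 3450 1150 = true := by decide +kernel

/-- a property of the first 4600 numbers follows from the property on four ranges -/
theorem four_ranges {f : ℕ → Bool} (h0 : (allN 1150 fun i => f (Nat.add 0 i)) = true)
    (h1 : (allN 1150 fun i => f (Nat.add 1150 i)) = true) (h2 : (allN 1150 fun i => f (Nat.add 2300 i)) = true)
    (h3 : (allN 1150 fun i => f (Nat.add 3450 i)) = true) (i : ℕ) (hi : i < 4600) : f i = true := by
  have hadd : ∀ a b : ℕ, Nat.add a b = a + b := fun _ _ => rfl
  rcases (by omega : i < 1150 ∨ (1150 ≤ i ∧ i < 2300) ∨ (2300 ≤ i ∧ i < 3450) ∨ (3450 ≤ i ∧ i < 4600)) with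
    h | h | h | h
  · have := allN_spec h0 i h
    rw [hadd, Nat.zero_add] at this
    exact this
  · have := allN_spec h1 (i - 1150) (by omega)
    rw [hadd, show 1150 + (i - 1150) = i by omega] at this
    exact this
  · have := allN_spec h2 (i - 2300) (by omega)
    rw [hadd, show 2300 + (i - 2300) = i by omega] at this
    exact this
  · have := allN_spec h3 (i - 3450) (by omega)
    rw [hadd, show 3450 + (i - 3450) = i by omega] at this
    exact this

theorem leech_spec (i : ℕ) (hi : i < 4600) : leechB (pk i) (slot 12 cwI i) = true :=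
  four_ranges (f := fun i => leechB (slot 96 vecP i) (slot 12 cwI i)) leech_okK0 leech_okK1 leech_okK2 leech_okK3 i hi

/-- the 4600 vectors -/
def vecF (i : ℕ) : GolayPt → ℤ := vz (pk i)

theorem vecF_mem {i : ℕ} (hi : i < 4600) : vecF i ∈ leechLattice :=
  (mem_leechLattice_iff _).mpr (leechB_spec (leech_spec i hi)).1

theorem ent_le {i : ℕ} (hi : i < 4600) : ∀ k < 24, slot 4 (pk i) k ≤ 8 := (leechB_spec (leech_spec i hi)).2.2.2

/-- the 4600 vectors, in the lattice -/
def F (i : Fin 4600) : ↥leechLattice := ⟨vecF i.1, vecF_mem i.2⟩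

theorem F_coe (i : Fin 4600) : (F i : GolayPt → ℤ) = vz (pk i.1) := rfl

theorem F_mem (i : Fin 4600) : F i ∈ Census.X a01 16 := by
  have h := leechB_spec (leech_spec i.1 i.2)
  refine ⟨h.2.1, ?_⟩
  rw [dot_a01]
  exact h.2.2.1

/-! ### The vectors are distinct -/

/-- the value of the entries of a packed vector -/
def keyV (x : ℕ) : ℕ := sumN 24 fun k => Nat.mul (slot 4 x k) (Nat.pow 16 k)

theorem srt_good : goodB 4600 13 srtT = true := by decide +kernel

theorem srt_okK : (allN 4599 fun r =>
    Nat.blt (keyV (pk (slot 13 srtT r))) (keyV (pk (slot 13 srtT (Nat.succ r))))) = true := by decide +kernel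

theorem key_strict : ∀ s r : ℕ, r < s → s < 4600 →
    keyV (pk (slot 13 srtT r)) < keyV (pk (slot 13 srtT s)) := by
  intro s
  induction s with
  | zero => intro r hr; omega
  | succ s ih =>
    intro r hr hs
    have h1 : keyV (pk (slot 13 srtT s)) < keyV (pk (slot 13 srtT (s + 1))) :=
      blt_iff.mp (allN_spec srt_okK s (by omega))
    rcases Nat.lt_succ_iff_lt_or_eq.mp hr with h | h
    · exact (ih r h (by omega)).trans h1
    · rw [h]
      exact h1

theorem F_injective : Function.Injective F := by
  intro i j h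
  have h1 : vzE (slot 4 (pk i.1)) = vzE (slot 4 (pk j.1)) := congrArg Subtype.val h
  have h2 : keyV (pk i.1) = keyV (pk j.1) := by
    unfold keyV
    apply sumN_congr'
    intro k hk
    rw [vzE_inj h1 k hk]
  obtain ⟨g, hg⟩ := exists_rep (good_of_goodB srt_good)
  have hi : slot 13 srtT (g⁻¹ i).1 = i.1 := by
    rw [← hg (g⁻¹ i)]
    show (g (g⁻¹ i)).1 = i.1
    rw [← Equiv.Perm.mul_apply, mul_inv_cancel, Equiv.Perm.one_apply]
  have hj : slot 13 srtT (g⁻¹ j).1 = j.1 := by
    rw [← hg (g⁻¹ j)]
    show (g (g⁻¹ j)).1 = j.1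
    rw [← Equiv.Perm.mul_apply, mul_inv_cancel, Equiv.Perm.one_apply]
  rw [← hi, ← hj] at h2
  have h3 : (g⁻¹ i).1 = (g⁻¹ j).1 := by
    rcases Nat.lt_trichotomy (g⁻¹ i).1 (g⁻¹ j).1 with hlt | heq | hgt
    · exact absurd h2 (Nat.ne_of_lt (key_strict _ _ hlt (g⁻¹ j).2))
    · exact heq
    · exact absurd h2.symm (Nat.ne_of_lt (key_strict _ _ hgt (g⁻¹ i).2))
  have h4 : g⁻¹ i = g⁻¹ j := Fin.ext h3
  exact (g⁻¹).injective h4

theorem sqNorm_a01' : a01 ∈ Census.L 32 := by
  show sqNorm (a01 : GolayPt → ℤ) = 32
  rw [← HS100.dot_self, dot_a01_self]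

theorem ncard_X : (Census.X a01 16).ncard = 4600 := by
  have := Census.ncard_X_neg a01 16
  rw [Census.ncard_X16 a01 sqNorm_a01'] at this
  exact this.symm

theorem range_F : Set.range F = Census.X a01 16 := by
  apply Set.eq_of_subset_of_ncard_le
  · rintro _ ⟨i, rfl⟩
    exact F_mem i
  · rw [ncard_X, ← Set.image_univ, Set.ncard_image_of_injective _ F_injective, Set.ncard_univ,
      Nat.card_eq_fintype_card, Fintype.card_fin]
  · exact Census.finite_X a01 16

/-! ### The action -/

theorem exists_index (g : ↥G2) (i : Fin 4600) : ∃ j : Fin 4600, F j = g.1 • F i := by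
  have hg : g.1 • a01 = a01 := (mem_G2 g.1).mp g.2
  have : g.1 • F i ∈ Census.X a01 16 := by
    have := Census.smul_mem_X g.1 (F_mem i)
    rwa [hg] at this
  rw [← range_F] at this
  exact this

/-- the permutation of the indices induced by an element of the stabiliser, as a function -/
noncomputable def actFun (g : ↥G2) (i : Fin 4600) : Fin 4600 := Classical.choose (exists_index g i)

theorem F_actFun (g : ↥G2) (i : Fin 4600) : F (actFun g i) = g.1 • F i :=
  Classical.choose_spec (exists_index g i)

theorem actFun_one (i : Fin 4600) : actFun 1 i = i := by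
  apply F_injective
  rw [F_actFun]
  exact one_smul _ _

theorem actFun_mul (g h : ↥G2) (i : Fin 4600) : actFun (g * h) i = actFun g (actFun h i) := by
  apply F_injective
  rw [F_actFun, F_actFun, F_actFun]
  exact mul_smul g.1 h.1 (F i)

/-- the permutation of the indices induced by an element of the stabiliser -/
noncomputable def actPerm (g : ↥G2) : Equiv.Perm (Fin 4600) where
  toFun := actFun g
  invFun := actFun g⁻¹
  left_inv i := by rw [← actFun_mul, inv_mul_cancel, actFun_one]
  right_inv i := by rw [← actFun_mul, mul_inv_cancel, actFun_one]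

/-- the action on the indices -/
noncomputable def rho : ↥G2 →* Equiv.Perm (Fin 4600) :=
  MonoidHom.mk' actPerm (fun g h => Equiv.ext fun i => actFun_mul g h i)

theorem F_rho (g : ↥G2) (i : Fin 4600) : F (rho g i) = g.1 • F i := F_actFun g i

/-- the image of an element is given by a table when the element maps the vectors as the table says -/
theorem rep_of_smul (g : ↥G2) (T : ℕ) (h : ∀ i : Fin 4600, ((g.1 • F i : ↥leechLattice) : GolayPt → ℤ) =
    vz (pk (slot 13 T i.1)) ∧ slot 13 T i.1 < 4600) : Rep (slot 13 T) (rho g) := by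
  intro i
  have h1 := h i
  have h2 : F (rho g i) = F ⟨slot 13 T i.1, h1.2⟩ := by
    rw [F_rho]
    apply Subtype.ext
    exact h1.1
  exact congrArg Fin.val (F_injective h2)

end Cfsg.Agent.Helper22.Co2Bridge
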