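import Cfsg.Agent.Helper22.Co2Bridge

/-!
# Four elements of the stabiliser of a minimal vector and their permutations of the 4600 points
-/

set_option autoImplicit false
set_option Elab.async false

namespace Cfsg.Agent.Helper22.Co2Bridge

open Cfsg Cfsg.Agent.Helper27 Cfsg.Agent.Helper22.Co0Mono Cfsg.Agent.Helper22.Co0Center
  Cfsg.Agent.Helper22.QuadForm Cfsg.Agent.Helper22.HS100b Cfsg.Agent.Helper22.Xi
  Cfsg.Agent.Helper22.Co2K Cfsg.Agent.Helper22.Co2Vec Cfsg.Agent.Helper22.Co2VData
  Cfsg.Agent.Helper22.Co2Simple Cfsg.Agent.Helper22.Summands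
open Cfsg.Agent.Helper22.PermPack (slot allN allN_spec beq_iff blt_iff withNat withNat_eq withList withList_eq
  Pm Rep rep_mul rep_congr exists_rep good_of_goodB goodB Good)
open Cfsg.Agent.Helper22.HSBridge (idx_eq_iff sumZ sumZ_succ sum_golayPt)
open Cfsg.Agent.Helper22.GraphRefine (sumN sumN_succ)

/-! ### Signed permutations given by tables -/

/-- the signed permutation given by a table and a mask -/
noncomputable def mono (T : List ℕ) (hv : validTbl T = true) (hc : tblInCode T = true) (mask : ℕ)
    (hm : mask < 2 ^ 24) (hw : cw (mask % 4096) = mask) : ↥Co0 :=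
  monoCo0 (tblPerm T hv) (tblPerm_mem_M24 T hv hc) (maskSet mask) ⟨decW mask, (decW_mem_iff hm).mpr hw, rfl⟩

theorem mono_smul (T : List ℕ) (hv : validTbl T = true) (hc : tblInCode T = true) (mask : ℕ)
    (hm : mask < 2 ^ 24) (hw : cw (mask % 4096) = mask) (v : ↥leechLattice) :
    ((mono T hv hc mask hm hw • v : ↥leechLattice) : GolayPt → ℤ) =
      signedPerm (tblPerm T hv) (maskSet mask) v := rfl

/-- the second table is the inverse of the first -/
def invB (T TI : List ℕ) : Bool :=
  allN 24 fun k => Nat.beq (T.getD (TI.getD k 0) 0) k && Nat.blt (TI.getD k 0) 24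

theorem invB_spec {T TI : List ℕ} (h : invB T TI = true) :
    ∀ k < 24, T.getD (TI.getD k 0) 0 = k ∧ TI.getD k 0 < 24 := by
  intro k hk
  have := allN_spec h k hk
  rw [Bool.and_eq_true, beq_iff, blt_iff] at this
  exact this

/-- the image of a packed vector under a signed permutation is another packed vector -/
def monoChk (TI : List ℕ) (mask x y : ℕ) : Bool :=
  allN 24 fun k => Nat.beq (slot 4 y k) (monoE TI mask (slot 4 x) k)

theorem monoChk_spec {T TI : List ℕ} (hv : validTbl T = true) (hI : invB T TI = true) {mask x y : ℕ}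
    (hx : ∀ k < 24, slot 4 x k ≤ 8) (h : monoChk TI mask x y = true) :
    signedPerm (tblPerm T hv) (maskSet mask) (vz x) = vz y := by
  unfold vz
  rw [signedPerm_vzE hv (invB_spec hI) mask _ hx]
  apply vzE_congr
  intro k hk
  exact (beq_iff.mp (allN_spec h k hk)).symm

/-- the image of a packed vector under the extra automorphism followed by a signed permutation -/
def hChk (x y : ℕ) : Bool :=
  withList (hsL (slot 4 x)) fun hs => xiOK' hs (slot 4 x) &&
    allN 24 fun k => Nat.beq (slot 4 y k) (monoE hTblI hMask (xiE' hs (slot 4 x)) k)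

theorem hChk_spec (hv : validTbl hTbl = true) (hI : invB hTbl hTblI = true) {x y : ℕ} (h : hChk x y = true) :
    signedPerm (tblPerm hTbl hv) (maskSet hMask) (xi (vz x)) = vz y := by
  unfold hChk at h
  rw [withList_eq, Bool.and_eq_true] at h
  unfold vz
  rw [xi_vzE _ h.1, signedPerm_vzE hv (invB_spec hI) hMask _ (xiE_le _ h.1)]
  apply vzE_congr
  intro k hk
  exact (beq_iff.mp (allN_spec h.2 k hk)).symm

/-! ### The tables of the four elements -/

theorem iTbl_valid : validTbl iTbl = true := by decide +kernel

theorem iTbl_code : tblInCode iTbl = true := by decide +kernel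

theorem iTbl_inv : invB iTbl iTbl = true := by decide +kernel

theorem bTbl_valid : validTbl bTbl = true := by decide +kernel

theorem bTbl_code : tblInCode bTbl = true := by decide +kernel

theorem bTbl_inv : invB bTbl bTblI = true := by decide +kernel

theorem sTbl_valid : validTbl sTbl = true := by decide +kernel

theorem sTbl_code : tblInCode sTbl = true := by decide +kernel

theorem sTbl_inv : invB sTbl sTblI = true := by decide +kernel

theorem hTbl_valid : validTbl hTbl = true := by decide +kernel

theorem hTbl_code : tblInCode hTbl = true := by decide +kernel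

theorem hTbl_inv : invB hTbl hTblI = true := by decide +kernel

theorem zMask_lt : zMask < 2 ^ 24 := by decide +kernel

theorem zMask_cw : cw (zMask % 4096) = zMask := by decide +kernel

theorem hMask_lt : hMask < 2 ^ 24 := by decide +kernel

theorem hMask_cw : cw (hMask % 4096) = hMask := by decide +kernel

theorem zero_lt' : 0 < 2 ^ 24 := by norm_num

theorem zero_cw : cw (0 % 4096) = 0 := by decide +kernel

/-- the sign changes on a set of sixteen coordinates -/
noncomputable def gz : ↥Co0 := mono iTbl iTbl_valid iTbl_code zMask zMask_lt zMask_cw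

/-- a permutation of the coordinates fixing the first two -/
noncomputable def gb : ↥Co0 := mono bTbl bTbl_valid bTbl_code 0 zero_lt' zero_cw

/-- a permutation of the coordinates exchanging the first two -/
noncomputable def gs : ↥Co0 := mono sTbl sTbl_valid sTbl_code 0 zero_lt' zero_cw

/-- the signed permutation in the fourth element -/
noncomputable def gh0 : ↥Co0 := mono hTbl hTbl_valid hTbl_code hMask hMask_lt hMask_cw

/-- the fourth element: the extra automorphism followed by a signed permutation -/
noncomputable def gh : ↥Co0 := gh0 * xiCo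

theorem gh_smul (v : ↥leechLattice) : ((gh • v : ↥leechLattice) : GolayPt → ℤ) =
    signedPerm (tblPerm hTbl hTbl_valid) (maskSet hMask) (xi v) := by
  show ((gh0 • (xiCo • v) : ↥leechLattice) : GolayPt → ℤ) = _
  unfold gh0
  rw [mono_smul, xiCo_smul]

/-! ### The four elements fix the standard minimal vector -/

/-- the standard minimal vector, packed -/
def a01P : ℕ := 0x444444444444444444444488

theorem a01_idx (p : GolayPt) : (a01 : GolayPt → ℤ) p = if idx p = 0 ∨ idx p = 1 then 4 else 0 := by
  rw [a01_coe]
  unfold fA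
  simp only [Pi.add_apply, Pi.single_apply]
  have hne : pt 1 ≠ pt 0 := by decide
  by_cases h0 : p = pt 0
  · subst h0
    rw [idx_pt (by norm_num), if_pos (Or.inl rfl), if_neg hne.symm, if_pos rfl]
    rfl
  · by_cases h1 : p = pt 1
    · subst h1
      rw [idx_pt (by norm_num), if_pos (Or.inr rfl), if_pos rfl, if_neg hne]
      rfl
    · have hi0 : idx p ≠ 0 := fun h => h0 ((idx_eq_iff p (by norm_num)).mp h)
      have hi1 : idx p ≠ 1 := fun h => h1 ((idx_eq_iff p (by norm_num)).mp h)
      rw [if_neg h1, if_neg h0, if_neg (by omega : ¬(idx p = 0 ∨ idx p = 1))]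
      rfl

theorem a01P_ent : ∀ k < 24, ((slot 4 a01P k : ℕ) : ℤ) - 4 = if k = 0 ∨ k = 1 then 4 else 0 := by decide +kernel

theorem a01P_le : ∀ k < 24, slot 4 a01P k ≤ 8 := by decide +kernel

theorem a01_vz : (a01 : GolayPt → ℤ) = vz a01P := by
  funext p
  rw [a01_idx]
  exact (a01P_ent _ (idx_lt p)).symm

theorem gz_a01 : gz • a01 = a01 := by
  apply Subtype.ext
  unfold gz
  rw [mono_smul, a01_vz]
  exact monoChk_spec iTbl_valid iTbl_inv a01P_le (by decide +kernel)

theorem gb_a01 : gb • a01 = a01 := by
  apply Subtype.ext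
  unfold gb
  rw [mono_smul, a01_vz]
  exact monoChk_spec bTbl_valid bTbl_inv a01P_le (by decide +kernel)

theorem gs_a01 : gs • a01 = a01 := by
  apply Subtype.ext
  unfold gs
  rw [mono_smul, a01_vz]
  exact monoChk_spec sTbl_valid sTbl_inv a01P_le (by decide +kernel)

theorem gh_a01 : gh • a01 = a01 := by
  apply Subtype.ext
  rw [gh_smul, a01_vz]
  exact hChk_spec hTbl_valid hTbl_inv (by decide +kernel)

/-- the four elements, in the stabiliser -/
noncomputable def gz' : ↥G2 := ⟨gz, (mem_G2 gz).mpr gz_a01⟩

noncomputable def gb' : ↥G2 := ⟨gb, (mem_G2 gb).mpr gb_a01⟩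

noncomputable def gs' : ↥G2 := ⟨gs, (mem_G2 gs).mpr gs_a01⟩

noncomputable def gh' : ↥G2 := ⟨gh, (mem_G2 gh).mpr gh_a01⟩

/-! ### The permutations of the four elements -/

/-- the image of the vector `i` under a signed permutation is the vector given by the table -/
def monoAt (TI : List ℕ) (mask T i : ℕ) : Bool :=
  withNat (slot 13 T i) fun j => Nat.blt j 4600 &&
    withNat (slot 96 vecP i) fun x => withNat (slot 96 vecP j) fun y => monoChk TI mask x y

/-- the image of the vector `i` under the fourth element is the vector given by the table -/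
def hAt (i : ℕ) : Bool :=
  withNat (slot 13 hT i) fun j => Nat.blt j 4600 &&
    withNat (slot 96 vecP i) fun x => withNat (slot 96 vecP j) fun y => hChk x y

theorem z_okK0 : (allN 1150 fun i => monoAt iTbl zMask zT (Nat.add 0 i)) = true := by decide +kernel

theorem z_okK1 : (allN 1150 fun i => monoAt iTbl zMask zT (Nat.add 1150 i)) = true := by decide +kernel

theorem z_okK2 : (allN 1150 fun i => monoAt iTbl zMask zT (Nat.add 2300 i)) = true := by decide +kernel

theorem z_okK3 : (allN 1150 fun i => monoAt iTbl zMask zT (Nat.add 3450 i)) = true := by decide +kernel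

theorem b_okK0 : (allN 1150 fun i => monoAt bTblI 0 bT (Nat.add 0 i)) = true := by decide +kernel

theorem b_okK1 : (allN 1150 fun i => monoAt bTblI 0 bT (Nat.add 1150 i)) = true := by decide +kernel

theorem b_okK2 : (allN 1150 fun i => monoAt bTblI 0 bT (Nat.add 2300 i)) = true := by decide +kernel

theorem b_okK3 : (allN 1150 fun i => monoAt bTblI 0 bT (Nat.add 3450 i)) = true := by decide +kernel

theorem s_okK0 : (allN 1150 fun i => monoAt sTblI 0 sT (Nat.add 0 i)) = true := by decide +kernel

theorem s_okK1 : (allN 1150 fun i => monoAt sTblI 0 sT (Nat.add 1150 i)) = true := by decide +kernel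

theorem s_okK2 : (allN 1150 fun i => monoAt sTblI 0 sT (Nat.add 2300 i)) = true := by decide +kernel

theorem s_okK3 : (allN 1150 fun i => monoAt sTblI 0 sT (Nat.add 3450 i)) = true := by decide +kernel

theorem h_okK0 : (allN 1150 fun i => hAt (Nat.add 0 i)) = true := by decide +kernel

theorem h_okK1 : (allN 1150 fun i => hAt (Nat.add 1150 i)) = true := by decide +kernel

theorem h_okK2 : (allN 1150 fun i => hAt (Nat.add 2300 i)) = true := by decide +kernel

theorem h_okK3 : (allN 1150 fun i => hAt (Nat.add 3450 i)) = true := by decide +kernel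

theorem mono_rep {T TI : List ℕ} (hv : validTbl T = true) (hc : tblInCode T = true) (hI : invB T TI = true)
    (mask : ℕ) (hm : mask < 2 ^ 24) (hw : cw (mask % 4096) = mask) (tbl : ℕ)
    (hmem : mono T hv hc mask hm hw ∈ G2) (hchk : ∀ i < 4600, monoAt TI mask tbl i = true) :
    Rep (slot 13 tbl) (rho ⟨mono T hv hc mask hm hw, hmem⟩) := by
  apply rep_of_smul
  intro i
  have h := hchk i.1 i.2
  unfold monoAt at h
  rw [withNat_eq, Bool.and_eq_true, withNat_eq, withNat_eq, blt_iff] at h
  refine ⟨?_, h.1⟩
  show ((mono T hv hc mask hm hw • F i : ↥leechLattice) : GolayPt → ℤ) = _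
  rw [mono_smul, F_coe]
  exact monoChk_spec hv hI (ent_le i.2) h.2

theorem rep_z : Rep (slot 13 zT) (rho gz') :=
  mono_rep iTbl_valid iTbl_code iTbl_inv zMask zMask_lt zMask_cw zT _
    (four_ranges (f := monoAt iTbl zMask zT) z_okK0 z_okK1 z_okK2 z_okK3)

theorem rep_b : Rep (slot 13 bT) (rho gb') :=
  mono_rep bTbl_valid bTbl_code bTbl_inv 0 zero_lt' zero_cw bT _
    (four_ranges (f := monoAt bTblI 0 bT) b_okK0 b_okK1 b_okK2 b_okK3)

theorem rep_s : Rep (slot 13 sT) (rho gs') :=
  mono_rep sTbl_valid sTbl_code sTbl_inv 0 zero_lt' zero_cw sT _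
    (four_ranges (f := monoAt sTblI 0 sT) s_okK0 s_okK1 s_okK2 s_okK3)

theorem rep_h : Rep (slot 13 hT) (rho gh') := by
  apply rep_of_smul
  intro i
  have h := four_ranges (f := hAt) h_okK0 h_okK1 h_okK2 h_okK3 i.1 i.2
  unfold hAt at h
  rw [withNat_eq, Bool.and_eq_true, withNat_eq, withNat_eq, blt_iff] at h
  refine ⟨?_, h.1⟩
  show ((gh • F i : ↥leechLattice) : GolayPt → ℤ) = _
  rw [gh_smul, F_coe]
  exact hChk_spec hTbl_valid hTbl_inv h.2

theorem u_okK : (allN 4600 fun i => Nat.beq (slot 13 uT i) (slot 13 bT (slot 13 hT (slot 13 sT i)))) = true := by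
  decide +kernel

theorem rep_u : Rep (slot 13 uT) (rho (gb' * gh' * gs')) := by
  rw [map_mul, map_mul]
  refine rep_congr (rep_mul (rep_mul rep_b rep_h) rep_s) ?_
  intro i hi
  exact beq_iff.mp (allN_spec u_okK i hi)

/-! ### The action is faithful -/

theorem rho_injective : Function.Injective rho := by
  have hs := Co2_std.1
  rw [← MonoidHom.ker_eq_bot_iff]
  rcases (MonoidHom.normal_ker rho).eq_bot_or_eq_top with h | h
  · exact h
  · exfalso
    have hk : gz' ∈ rho.ker := by rw [h]; exact Subgroup.mem_top _
    rw [MonoidHom.mem_ker] at hk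
    have h2 := rep_z ⟨0, by norm_num⟩
    rw [hk] at h2
    have h3 : slot 13 zT 0 = 43 := by decide +kernel
    rw [h3] at h2
    exact absurd h2 (by decide)

end Cfsg.Agent.Helper22.Co2Bridge
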