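import Cfsg.Agent.Helper22.PermPack2

/-!
# Verified stabiliser chains inside a group with a determining set

If the generators lie in a group `A` of permutations in which only the identity fixes the points of a list `D`,
then the comparison of the Schreier generators with the products of transversal elements is needed at the points
of `D` only: the cheap check implies the full check of `PermPack`.
-/

set_option autoImplicit false

namespace Cfsg.Agent.Helper22.PermPack

variable (n w : ℕ) (D : List ℕ)

/-- the comparison of two products of tables at the points of the determining set -/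
def rowCheckD (y a bq : ℕ) (ts : List ℕ) : Bool :=
  D.all fun i => Nat.beq (slot w y (slot w a i)) (slot w bq (compLook w ts i))

/-- the check of the Schreier generators of one point of the orbit, at the points of the determining set -/
def rowOKD (L : Lv) (ls : List Lv) (β a : ℕ) : List ℕ → ℕ → Bool
  | [], _ => true
  | y :: Y', idx =>
      (withNat (slot w y β) fun q => withNat (slot w L.pos q) fun kq =>
        Nat.blt kq L.m && Nat.beq (pt w L kq) q &&
          withList (decodePath w ls.length (slot (w * ls.length) L.cert idx)) fun p =>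
            pathValid ls p && withNat (tab n w L kq) fun bq => withList (pathTabs n w ls p) fun ts =>
              rowCheckD w D y a bq ts) &&
        rowOKD L ls β a Y' (idx + 1)

/-- the check of the Schreier generators, at the points of the determining set -/
def certOKD (Y : List ℕ) (L : Lv) (ls : List Lv) : Bool :=
  allN L.m fun k => withNat (pt w L k) fun β => withNat (tab n w L k) fun a =>
    rowOKD n w D L ls β a Y (k * Y.length)

/-- the check of a level, with the Schreier generators compared at the points of the determining set -/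
def levelOKD (Y : List ℕ) (L : Lv) (ls : List Lv) : Bool :=
  Nat.blt 0 L.m && Nat.beq (pt w L 0) L.b && Nat.blt L.b n &&
    (allN L.m fun k => withNat (pt w L k) fun β =>
      Nat.blt β n && Nat.beq (slot w L.pos β) k && Nat.beq (slot w (tab n w L k) L.b) β) &&
    (withNat (tab n w L 0) fun a => allN n fun i => Nat.beq (slot w a i) i) &&
      treeOK n w Y L && certOKD n w D Y L ls

/-- the check of a chain, with the Schreier generators compared at the points of the determining set -/
def chainOKD : List ℕ → List Lv → Bool
  | Y, [] => Y.isEmpty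
  | Y, L :: ls =>
    levelOKD n w D Y L ls && withList (Y.filter fun y => Nat.beq (slot w y L.b) L.b) fun Y' => chainOKD Y' ls

variable {n w D}

theorem allN_of_forall {m : ℕ} {f : ℕ → Bool} (h : ∀ i < m, f i = true) : allN m f = true := by
  induction m with
  | zero => rfl
  | succ m ih =>
    rw [allN_succ, h m (Nat.lt_succ_self m), ih (fun i hi => h i (Nat.lt_succ_of_lt hi))]
    rfl

theorem rowCheck_of_forall {y a bq : ℕ} {ts : List ℕ}
    (h : ∀ i < n, slot w y (slot w a i) = slot w bq (compLook w ts i)) : rowCheck n w y a bq ts = true := by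
  match ts, h with
  | [], h => exact allN_of_forall fun i hi => beq_iff.mpr (h i hi)
  | [t1], h => exact allN_of_forall fun i hi => beq_iff.mpr (h i hi)
  | [t1, t2], h => exact allN_of_forall fun i hi => beq_iff.mpr (h i hi)
  | [t1, t2, t3], h => exact allN_of_forall fun i hi => beq_iff.mpr (h i hi)
  | t1 :: t2 :: t3 :: t4 :: ts, h => exact allN_of_forall fun i hi => beq_iff.mpr (h i hi)

/-- the full check of a row follows from the check at the determining set, if the latter determines the products -/
theorem rowOK_of_D (L : Lv) (ls : List Lv) (β a : ℕ) : ∀ (Ys : List ℕ) (idx : ℕ),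
    (∀ y ∈ Ys, ∀ (kq : ℕ) (p : List ℕ), kq < L.m → pathValid ls p = true →
      (∀ d ∈ D, slot w y (slot w a d) = slot w (tab n w L kq) (pathLook n w ls p d)) →
      ∀ i < n, slot w y (slot w a i) = slot w (tab n w L kq) (pathLook n w ls p i)) →
    rowOKD n w D L ls β a Ys idx = true → rowOK n w L ls β a Ys idx = true
  | [], _, _, _ => rfl
  | y0 :: Y', idx, hext, h => by
    simp only [rowOKD, withNat_eq, withList_eq, Bool.and_eq_true, blt_iff, beq_iff] at h
    obtain ⟨⟨⟨h1, h2⟩, h3, h4⟩, h5⟩ := h
    simp only [rowOK, withNat_eq, withList_eq, Bool.and_eq_true, blt_iff, beq_iff]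
    refine ⟨⟨⟨h1, h2⟩, h3, ?_⟩, rowOK_of_D L ls β a Y' (idx + 1)
      (fun y hy => hext y (List.mem_cons_of_mem _ hy)) h5⟩
    apply rowCheck_of_forall
    apply hext y0 List.mem_cons_self _ _ h1 h3
    intro d hd
    exact beq_iff.mp (List.all_eq_true.mp h4 d hd)

/-- the cheap check implies the full check -/
theorem chainOK_of_D (A : Subgroup (Pm n))
    (hdet : ∀ g ∈ A, (∀ d ∈ D, ∀ hd : d < n, g ⟨d, hd⟩ = ⟨d, hd⟩) → g = 1) (hD : ∀ d ∈ D, d < n) :
    ∀ (ls : List Lv) (Y : List ℕ), (∀ y ∈ Y, Good n w y) → (∀ y ∈ Y, P n w y ∈ A) →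
      chainOKD n w D Y ls = true → chainOK n w Y ls = true := by
  intro ls
  induction ls with
  | nil =>
    intro Y _ _ h
    exact h
  | cons L ls ih =>
    intro Y hY hYA h
    simp only [chainOKD, withList_eq, Bool.and_eq_true] at h
    obtain ⟨hL, hrest⟩ := h
    set Y' := Y.filter (fun y => Nat.beq (slot w y L.b) L.b) with hY'def
    have hY'sub : ∀ y ∈ Y', y ∈ Y := fun y hy => (List.mem_filter.mp hy).1
    have hY'good : ∀ y ∈ Y', Good n w y := fun y hy => hY y (hY'sub y hy)
    have hrest' : chainOK n w Y' ls = true := ih Y' hY'good (fun y hy => hYA y (hY'sub y hy)) hrest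
    obtain ⟨_, ihpath⟩ := chain_sound ls Y' hY'good hrest'
    have hGA : Grp n w Y ≤ A := by
      unfold Grp
      rw [Subgroup.closure_le]
      rintro g ⟨y, hy, rfl⟩
      exact hYA y hy
    have hH'le : Grp n w Y' ≤ Grp n w Y := Grp_mono hY'sub
    simp only [levelOKD, withNat_eq, Bool.and_eq_true, blt_iff, beq_iff] at hL
    obtain ⟨⟨⟨⟨⟨⟨hm, hp0⟩, hblt⟩, hpts⟩, hid⟩, htree⟩, hcert⟩ := hL
    have hid' : ∀ i < n, slot w (tab n w L 0) i = i := fun i hi => beq_iff.mp (allN_spec hid i hi)
    have htr := tree_sound Y hY L hid' htree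
    have hcert' : certOK n w Y L ls = true := by
      apply allN_of_forall
      intro k hk
      rw [withNat_eq, withNat_eq]
      have hc := allN_spec hcert k hk
      rw [withNat_eq, withNat_eq] at hc
      obtain ⟨tk, htk, htkrep⟩ := htr k hk
      refine rowOK_of_D L ls _ _ Y _ ?_ hc
      intro y hyY kq p hkq hp hd
      obtain ⟨tq, htq, htqrep⟩ := htr kq hkq
      obtain ⟨gp, hgp, hgprep⟩ := ihpath p hp
      have h1 : Rep (fun i => slot w y (slot w (tab n w L k) i)) (P n w y * tk) :=
        rep_mul (rep_P (hY y hyY)) htkrep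
      have h2 : Rep (fun i => slot w (tab n w L kq) (pathLook n w ls p i)) (tq * gp) :=
        rep_mul htqrep hgprep
      have hmem1 : P n w y * tk ∈ A := A.mul_mem (hYA y hyY) (hGA htk)
      have hmem2 : tq * gp ∈ A := A.mul_mem (hGA htq) (hGA (hH'le hgp))
      have heq : (tq * gp)⁻¹ * (P n w y * tk) = 1 := by
        apply hdet _ (A.mul_mem (A.inv_mem hmem2) hmem1)
        intro d hdD hdn
        have e1 : (P n w y * tk) ⟨d, hdn⟩ = (tq * gp) ⟨d, hdn⟩ := by
          apply Fin.ext
          rw [h1, h2]
          exact hd d hdD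
        show (tq * gp)⁻¹ ((P n w y * tk) ⟨d, hdn⟩) = ⟨d, hdn⟩
        rw [e1]
        simp
      have heq' : P n w y * tk = tq * gp := by
        calc P n w y * tk = (tq * gp) * ((tq * gp)⁻¹ * (P n w y * tk)) := by group
          _ = tq * gp := by rw [heq, mul_one]
      intro i hi
      have e1 := h1 ⟨i, hi⟩
      have e2 := h2 ⟨i, hi⟩
      rw [heq'] at e1
      exact e1.symm.trans e2
    simp only [chainOK, withList_eq, Bool.and_eq_true]
    refine ⟨?_, hrest'⟩
    simp only [levelOK, withNat_eq, Bool.and_eq_true, blt_iff, beq_iff]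
    exact ⟨⟨⟨⟨⟨⟨hm, hp0⟩, hblt⟩, hpts⟩, hid⟩, htree⟩, hcert'⟩

end Cfsg.Agent.Helper22.PermPack
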