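import Cfsg.Agent.Helper22.Co2CenDefs
import Cfsg.Agent.Helper22.PermPack4

/-!
# The centraliser of an involution in the group on 4600 points: kernel facts

The checks run one after the other, to bound the memory.
-/

set_option autoImplicit false
set_option Elab.async false

namespace Cfsg.Agent.Helper22.Co2Cen

open Cfsg.Agent.Helper22.PermPack Cfsg.Agent.Helper22.Co2KData Cfsg.Agent.Helper22.Co2CenData
open Cfsg.Agent.Helper22.Co2K

theorem pts_ok : ptsB = true := by decide +kernel

theorem letters_ok : lettersB = true := by decide +kernel

theorem tvAll_ok : tvAllB = true := by decide +kernel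

theorem zfix_ok : fixB zT = true := by decide +kernel

theorem qgen_ok : (allN 9 fun a => qgenB a) = true := by decide +kernel

theorem qchain_ok : tchainOK 4600 13 6 7 [] [QL] = true := by decide +kernel

theorem kz_ok : (Nat.blt kz 512 && Nat.beq (tpt 13 QL kz) (slot 13 zT QL.b)) = true := by decide +kernel

theorem centre_ok : centreB = true := by decide +kernel

theorem sq_ok : sqB = true := by decide +kernel

theorem nc_ok : ncB = true := by decide +kernel

theorem gpair_ok : gpairB = true := by decide +kernel

theorem len_qY : qY.length = 9 := by decide +kernel

theorem zinv_ok : ((allN 4600 fun i => Nat.beq (slot 13 zT (slot 13 zT i)) i) && !Nat.beq (slot 13 zT QL.b) QL.b) = true := by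
  decide +kernel

end Cfsg.Agent.Helper22.Co2Cen
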