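import Cfsg.Agent.Helper22.Co2KData1
import Cfsg.Agent.Helper22.Co2KData2
import Cfsg.Agent.Helper22.Co2KData3

/-!
# The checks about the group of order 42305421312000 on 4600 points

The Boolean functions evaluated by the kernel, with their specifications.
-/

set_option autoImplicit false

namespace Cfsg.Agent.Helper22.Co2K

open Cfsg.Agent.Helper22.PermPack Cfsg.Agent.Helper22.Co2KData

/-- the involution -/
def zT : ℕ := tb0

/-- the element of order seven -/
def uT : ℕ := tb1

/-- the table with a given index -/
def tb (k : ℕ) : ℕ := allT.getD k 0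

/-- a table occurs in a list -/
def memT (y : ℕ) : List ℕ → Bool
  | [] => false
  | t :: ts => Nat.beq t y || memT y ts

theorem memT_spec {y : ℕ} : ∀ {l : List ℕ}, memT y l = true → y ∈ l
  | [], h => by simp [memT] at h
  | t :: ts, h => by
    unfold memT at h
    rw [Bool.or_eq_true, beq_iff] at h
    rcases h with h | h
    · rw [h]
      exact List.mem_cons_self
    · exact List.mem_cons_of_mem _ (memT_spec h)

/-! ### The straight line program -/

/-- the tables of a range define permutations -/
def goodR (lo n : ℕ) : Bool := allN n fun i => goodB 4600 13 (tb (Nat.add lo i))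

/-- a table is the product of earlier tables along its word -/
def lineB (k : ℕ) : Bool :=
  Nat.blt k 2 || withList (slpW.getD k []) fun wd => (wd.all fun a => Nat.blt a k) &&
    withNat (tb k) fun t => withList (wd.map fun a => tb a) fun ts =>
      allN 4600 fun i => Nat.beq (slot 13 t i) (compLook 13 ts i)

/-- the lines of a range -/
def linesR (lo n : ℕ) : Bool := allN n fun i => lineB (Nat.add lo i)

/-! ### Letters -/

/-- the letters of a level are tables of the list, and so are their inverses -/
def lettersB (L : TLv) : Bool :=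
  (L.Y.all fun y => memT y allT) && Nat.beq L.Yi.length L.Y.length &&
    allN L.Y.length fun a => withNat (L.Y.getD a 0) fun y => withNat (L.Yi.getD a 0) fun yi =>
      memT yi allT && allN 4600 fun i => Nat.beq (slot 13 y (slot 13 yi i)) i

/-- the tables of a range of a list are tables of the main list and commute with a table -/
def commR (x : ℕ) (Y : List ℕ) (lo n : ℕ) : Bool :=
  allN n fun a => withNat (Y.getD (Nat.add lo a) 0) fun y =>
    memT y allT && allN 4600 fun i => Nat.beq (slot 13 y (slot 13 x i)) (slot 13 x (slot 13 y i))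

/-- the letters of the levels lie in a list -/
def lettersIn (ls : List TLv) (Y : List ℕ) : Bool := ls.all fun L => L.Y.all fun y => memT y Y

/-! ### The element of order seven -/

/-- the table of a power -/
def upow (e : ℕ) : ℕ := upows.getD e 0

/-- the check of the powers -/
def upowsB : Bool :=
  Nat.beq (upow 1) uT &&
    (allN 5 fun e => withNat (upow (e + 1)) fun a => withNat (upow (e + 2)) fun b =>
      memT b allT && allN 4600 fun i => Nat.beq (slot 13 b i) (slot 13 uT (slot 13 a i))) &&
    (withNat (upow 6) fun a => allN 4600 fun i => Nat.beq (slot 13 uT (slot 13 a i)) i) &&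
    !(Nat.beq (slot 13 uT 0) 0)

/-- the check of the normalising element -/
def nB : Bool :=
  memT nT allT &&
    withNat (upow 3) fun u3 => allN 4600 fun i => Nat.beq (slot 13 nT (slot 13 uT i)) (slot 13 u3 (slot 13 nT i))

/-! ### Relations -/

/-- the value of a word in a function and the powers of the element of order seven -/
def relLookF (d : ℕ → ℕ) : List ℕ → ℕ → ℕ
  | [], i => i
  | e :: L, i => d (slot 13 (upow e) (relLookF d L i))

/-- a relation holds for the involution -/
def relB (r : ℕ) : Bool :=
  withList (rels.getD r []) fun L => (L.all fun e => Nat.blt 0 e && Nat.blt e 7) &&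
    allN 4600 fun i => Nat.beq (relLookF (slot 13 zT) L i) i

/-! ### The subgroup of order `2 ^ 18` -/

/-- the base of the chain of the group, a determining set -/
def kbase : List ℕ := klevels.map fun L => L.b

/-- a table agrees with the product along a path of a chain with tables -/
def isPath (ls : List Lv) (t : ℕ) (p : List ℕ) : Bool :=
  pathValid ls p && withNat t fun t' => withList (pathTabs 4600 13 ls p) fun ts =>
    allN 4600 fun i => Nat.beq (slot 13 t' i) (compLook 13 ts i)

/-- all the tables of a level -/
def levelTabs (L : Lv) : List ℕ := (List.range L.m).map fun k => tab 4600 13 L k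

/-- the element with the given tables is not central, or its path is the path of the identity or of the involution -/
def centreAt (p : List ℕ) (ts : List ℕ) : Bool :=
  (centreC.any fun c => withNat (sY.getD c.1 0) fun y => withNat c.2 fun i =>
    !(Nat.beq (slot 13 y (compLook 13 ts i)) (compLook 13 ts (slot 13 y i)))) ||
    p == [0, 0, 0, 0, 0, 0] || p == zSPath

/-- the check of the centre, for the elements with a given place in the fourth level -/
def centreR (k3 : ℕ) : Bool :=
  withList (levelTabs SL0) fun T0 => withList (levelTabs SL1) fun T1 => withList (levelTabs SL2) fun T2 =>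
    withNat (tab 4600 13 SL3 k3) fun t3 => withList (levelTabs SL4) fun T4 => withList (levelTabs SL5) fun T5 =>
      allN 8 fun k0 => withNat (T0.getD k0 0) fun t0 => allN 8 fun k1 => withNat (T1.getD k1 0) fun t1 =>
        allN 8 fun k2 => withNat (T2.getD k2 0) fun t2 => allN 8 fun k4 => withNat (T4.getD k4 0) fun t4 =>
          allN 2 fun k5 => withNat (T5.getD k5 0) fun t5 =>
            centreAt [k0, k1, k2, k3, k4, k5] [t0, t1, t2, t3, t4, t5]

/-! ### Fast evaluation

The kernel evaluates the functions defined by the recursors much faster than the functions compiled from structural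
recursion, so the checks of the many conjugates use the following versions.
-/

/-- the entry of a list at a place, by the recursors -/
def nthR {α : Type} (d : α) (l : List α) : ℕ → α :=
  List.rec (fun _ => d) (fun t _ acc k => Nat.rec t (fun k' _ => acc k') k) l

theorem nthR_eq {α : Type} (d : α) : ∀ (l : List α) (k : ℕ), nthR d l k = l.getD k d
  | [], _ => rfl
  | _ :: _, 0 => rfl
  | _ :: l, k + 1 => by
    show nthR d l k = _
    rw [nthR_eq d l k]
    rfl

/-- the composition of a list of tables, by the recursor -/
def compLookR (ts : List ℕ) : ℕ → ℕ := List.rec (fun i => i) (fun t _ acc i => slot 13 t (acc i)) ts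

theorem compLookR_eq : ∀ (ts : List ℕ) (i : ℕ), compLookR ts i = compLook 13 ts i
  | [], _ => rfl
  | t :: ts, i => by
    show slot 13 t (compLookR ts i) = slot 13 t (compLook 13 ts i)
    rw [compLookR_eq ts i]

/-- the tables of a word, put before a list -/
def wApp (Y : List ℕ) : ℕ → ℕ → List ℕ → List ℕ :=
  fun f => Nat.rec (fun _ rest => rest)
    (fun _ acc e rest =>
      cond (Nat.beq e 0) rest (nthR 0 Y (Nat.sub (Nat.mod e (Nat.pow 2 6)) 1) :: acc (Nat.shiftRight e 6) rest)) f

theorem wApp_eq (Y : List ℕ) : ∀ (f e : ℕ) (rest : List ℕ), wApp Y f e rest = wordTabs 6 Y f e ++ rest := by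
  intro f
  induction f with
  | zero => intro e rest; rfl
  | succ f ih =>
    intro e rest
    show cond (Nat.beq e 0) rest (nthR 0 Y (Nat.sub (Nat.mod e (Nat.pow 2 6)) 1) :: wApp Y f (Nat.shiftRight e 6) rest) = _
    unfold wordTabs
    cases Nat.beq e 0 with
    | true => rfl
    | false =>
      rw [ih, nthR_eq]
      rfl

/-- the tables of a word in the opposite order, put before a list -/
def wRev (Y : List ℕ) : ℕ → ℕ → List ℕ → List ℕ :=
  fun f => Nat.rec (fun _ acc => acc)
    (fun _ rc e acc =>
      cond (Nat.beq e 0) acc (rc (Nat.shiftRight e 6) (nthR 0 Y (Nat.sub (Nat.mod e (Nat.pow 2 6)) 1) :: acc))) f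

theorem wRev_eq (Y : List ℕ) : ∀ (f e : ℕ) (acc : List ℕ),
    wRev Y f e acc = (wordTabs 6 Y f e).reverse ++ acc := by
  intro f
  induction f with
  | zero => intro e acc; rfl
  | succ f ih =>
    intro e acc
    show cond (Nat.beq e 0) acc (wRev Y f (Nat.shiftRight e 6) (nthR 0 Y (Nat.sub (Nat.mod e (Nat.pow 2 6)) 1) :: acc)) = _
    unfold wordTabs
    cases Nat.beq e 0 with
    | true => rfl
    | false =>
      rw [ih, nthR_eq]
      simp

/-! ### The conjugates of the involution -/

/-- the packed path of the element conjugating the involution to a conjugate -/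
def repNum (j : ℕ) : ℕ :=
  slot 65 (nthR 0 (nthR [] reps (Nat.div j 8192)) (Nat.div (Nat.mod j 8192) 1024)) (Nat.mod j 1024)

/-- a place of a packed path -/
def plc (e l : ℕ) : ℕ := Nat.mod (Nat.shiftRight e (Nat.mul 13 l)) 8192

/-- the path of the element conjugating the involution to a conjugate -/
def repPath (j : ℕ) : List ℕ := [plc (repNum j) 0, plc (repNum j) 1, plc (repNum j) 2, plc (repNum j) 3, plc (repNum j) 4]

/-- for a conjugate a relation and a point where it fails -/
def wit (j : ℕ) : ℕ :=
  slot 17 (nthR 0 (nthR [] wits (Nat.div j 8192)) (Nat.div (Nat.mod j 8192) 1024)) (Nat.mod j 1024)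

/-- the conjugate of the involution by a product of tables, given the tables of the inverse -/
def cjF (ts is : List ℕ) (i : ℕ) : ℕ := compLookR ts (slot 13 zT (compLookR is i))

/-- the images of the base points under a function -/
def keyOf (f : ℕ → ℕ) : ℕ :=
  Nat.add (f 0) (Nat.add (Nat.shiftLeft (f 840) 13) (Nat.add (Nat.shiftLeft (f 2056) 26)
    (Nat.add (Nat.shiftLeft (f 1295) 39) (Nat.shiftLeft (f 3634) 52))))

/-- the value of a word in a function and the powers of the element of order seven, by the recursor -/
def relLookR (d : ℕ → ℕ) (L : List ℕ) : ℕ → ℕ :=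
  List.rec (fun i => i) (fun e _ acc i => d (slot 13 (nthR 0 upows e) (acc i))) L

theorem relLookR_eq (d : ℕ → ℕ) : ∀ (L : List ℕ) (i : ℕ), relLookR d L i = relLookF d L i
  | [], _ => rfl
  | e :: L, i => by
    show d (slot 13 (nthR 0 upows e) (relLookR d L i)) = d (slot 13 (upow e) (relLookF d L i))
    rw [relLookR_eq d L i, nthR_eq]
    rfl

/-- the conjugate is one of the fifty-six or violates a relation -/
def witB (j : ℕ) (ts is : List ℕ) : Bool :=
  withNat (wit j) fun e => withNat (Nat.shiftRight e 13) fun r => withNat (Nat.mod e 8192) fun i =>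
    cond (Nat.beq r 15) (memT j good56)
      (Nat.blt r rels.length && Nat.blt i 4600 && !(Nat.beq (relLookR (cjF ts is) (nthR [] rels r) i) i))

/-- the word of a place of a level of the chain of the group -/
def kwd (L : TLv) (k : ℕ) : ℕ := slot 30 L.wds k

/-- the tables of the product along a path -/
def tsOf (k0 k1 k2 k3 k4 : ℕ) : List ℕ :=
  wApp KL0.Y 5 (kwd KL0 k0) (wApp KL1.Y 5 (kwd KL1 k1) (wApp KL2.Y 5 (kwd KL2 k2) (wApp KL3.Y 5 (kwd KL3 k3)
    (wApp KL4.Y 5 (kwd KL4 k4) []))))

/-- the tables of the inverse of the product along a path -/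
def isOf (k0 k1 k2 k3 k4 : ℕ) : List ℕ :=
  wRev KL4.Yi 5 (kwd KL4 k4) (wRev KL3.Yi 5 (kwd KL3 k3) (wRev KL2.Yi 5 (kwd KL2 k2) (wRev KL1.Yi 5 (kwd KL1 k1)
    (wRev KL0.Yi 5 (kwd KL0 k0) []))))

theorem tsOf_eq (k0 k1 k2 k3 k4 : ℕ) : tsOf k0 k1 k2 k3 k4 = pathTabsT 6 dK klevels [k0, k1, k2, k3, k4] := by
  unfold tsOf
  rw [wApp_eq, wApp_eq, wApp_eq, wApp_eq, wApp_eq]
  rfl

theorem isOf_eq (k0 k1 k2 k3 k4 : ℕ) : isOf k0 k1 k2 k3 k4 = pathTabsTi 6 dK klevels [k0, k1, k2, k3, k4] := by
  unfold isOf
  rw [wRev_eq, wRev_eq, wRev_eq, wRev_eq, wRev_eq]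
  show _ = (wordTabs 6 KL0.Yi 5 (tword 6 5 KL0 k0) ++ (wordTabs 6 KL1.Yi 5 (tword 6 5 KL1 k1) ++
    (wordTabs 6 KL2.Yi 5 (tword 6 5 KL2 k2) ++ (wordTabs 6 KL3.Yi 5 (tword 6 5 KL3 k3) ++
      (wordTabs 6 KL4.Yi 5 (tword 6 5 KL4 k4) ++ []))))).reverse
  simp only [List.reverse_append, List.append_nil, List.append_assoc, List.reverse_nil, List.nil_append]
  rfl

/-- the tables of the element conjugating the involution to a conjugate -/
def cjTs (j : ℕ) : List ℕ :=
  tsOf (plc (repNum j) 0) (plc (repNum j) 1) (plc (repNum j) 2) (plc (repNum j) 3) (plc (repNum j) 4)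

/-- the tables of its inverse -/
def cjIs (j : ℕ) : List ℕ :=
  isOf (plc (repNum j) 0) (plc (repNum j) 1) (plc (repNum j) 2) (plc (repNum j) 3) (plc (repNum j) 4)

/-- the key of a conjugate -/
@[irreducible] def key (j : ℕ) : ℕ := keyOf (cjF (cjTs j) (cjIs j))

/-- the path of a conjugate is valid, and the conjugate is one of the fifty-six or violates a relation -/
@[irreducible] def okAt (j : ℕ) : Bool :=
  Nat.blt (plc (repNum j) 0) KL0.m && Nat.blt (plc (repNum j) 1) KL1.m && Nat.blt (plc (repNum j) 2) KL2.m &&
    Nat.blt (plc (repNum j) 3) KL3.m && Nat.blt (plc (repNum j) 4) KL4.m && witB j (cjTs j) (cjIs j)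

/-- the check of a conjugate, passing on its key -/
def clsB (j : ℕ) (k : ℕ → Bool) : Bool :=
  withNat (repNum j) fun e =>
  withNat (plc e 0) fun k0 => withNat (plc e 1) fun k1 => withNat (plc e 2) fun k2 => withNat (plc e 3) fun k3 =>
  withNat (plc e 4) fun k4 =>
  withList (tsOf k0 k1 k2 k3 k4) fun ts => withList (isOf k0 k1 k2 k3 k4) fun is =>
    Nat.blt k0 KL0.m && Nat.blt k1 KL1.m && Nat.blt k2 KL2.m && Nat.blt k3 KL3.m && Nat.blt k4 KL4.m &&
      witB j ts is && withNat (keyOf (cjF ts is)) k

theorem clsB_eq (j : ℕ) (k : ℕ → Bool) : clsB j k = (okAt j && k (key j)) := by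
  unfold clsB okAt key cjTs cjIs
  simp only [withList_eq, withNat_eq]

/-- the conjugates of a range are fine and their keys decrease from a bound -/
def clsDown (lo n : ℕ) : ℕ → Bool :=
  Nat.rec (fun _ => true) (fun i acc bound => clsB (Nat.add lo i) fun kj => Nat.blt kj bound && acc kj) n

theorem clsDown_succ (lo n bound : ℕ) :
    clsDown lo (n + 1) bound = clsB (Nat.add lo n) fun kj => Nat.blt kj bound && clsDown lo n kj := rfl

/-- the conjugates of a range are fine and their keys increase -/
def clsR (lo n : ℕ) : Bool := clsB (Nat.add lo n) fun b => clsDown lo n b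

theorem clsDown_spec (lo : ℕ) : ∀ n b : ℕ, clsDown lo n b = true →
    ∀ i < n, okAt (Nat.add lo i) = true ∧
      key (Nat.add lo i) < if i + 1 < n then key (Nat.add lo (i + 1)) else b := by
  intro n
  induction n with
  | zero => intro b _ i hi; omega
  | succ n ih =>
    intro b h i hi
    rw [clsDown_succ, clsB_eq, Bool.and_eq_true, Bool.and_eq_true, blt_iff] at h
    obtain ⟨h1, h2, h3⟩ := h
    rcases Nat.lt_succ_iff_lt_or_eq.mp hi with h' | h'
    · have := ih _ h3 i h'
      refine ⟨this.1, ?_⟩
      rw [if_pos (by omega : i + 1 < n + 1)]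
      by_cases h'' : i + 1 < n
      · have t := this.2
        rwa [if_pos h''] at t
      · have t := this.2
        rw [if_neg h''] at t
        have e : i + 1 = n := by omega
        rw [e]
        exact t
    · rw [if_neg (by omega : ¬ i + 1 < n + 1), h']
      exact ⟨h1, h2⟩

theorem clsR_spec {lo n : ℕ} (h : clsR lo n = true) :
    (∀ i ≤ n, okAt (Nat.add lo i) = true) ∧ ∀ i < n, key (Nat.add lo i) < key (Nat.add lo (i + 1)) := by
  unfold clsR at h
  rw [clsB_eq, Bool.and_eq_true] at h
  have hs := clsDown_spec lo n _ h.2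
  constructor
  · intro i hi
    rcases Nat.lt_or_eq_of_le hi with h' | h'
    · exact (hs i h').1
    · rw [h']
      exact h.1
  · intro i hi
    have := (hs i hi).2
    by_cases h'' : i + 1 < n
    · rwa [if_pos h''] at this
    · rw [if_neg h''] at this
      have e : i + 1 = n := by omega
      rw [e]
      exact this

end Cfsg.Agent.Helper22.Co2K
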