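import Cfsg.Agent.Helper22.Co2CenData
import Cfsg.Agent.Helper22.Co2KDefs

/-!
# The centraliser of an involution in the group on 4600 points: the functions of the checks

The fixed points of the involution carry labels, vectors with six coordinates over the field with two elements, such
that the elements of the centraliser act on the labels by affine maps whose linear parts preserve the standard
symplectic form.  The functions here compute with the labels as natural numbers below 64.
-/

set_option autoImplicit false

namespace Cfsg.Agent.Helper22.Co2Cen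

open Cfsg.Agent.Helper22.PermPack Cfsg.Agent.Helper22.Co2KData Cfsg.Agent.Helper22.Co2CenData
open Cfsg.Agent.Helper22.Co2K

/-- the label of a point -/
def lab (i : ℕ) : ℕ := slot 6 labT i

/-- the fixed points of the involution -/
def inF (i : ℕ) : Bool := Nat.beq (slot 1 inFT i) 1

/-- a bit of a number -/
def bit (x j : ℕ) : ℕ := Nat.mod (Nat.shiftRight x j) 2

/-- the sum of a list of vectors -/
def xorL (l : List ℕ) : ℕ := l.foldr Nat.xor 0

/-- a column of the linear part of a map -/
def colB (f : ℕ → ℕ) (j : ℕ) : ℕ := xorL ((sPts.getD j []).map fun r => Nat.xor (lab (f r)) (lab (f r0)))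

/-- the product of a matrix, given by its columns, and a vector -/
def mulB (c : ℕ → ℕ) (x : ℕ) : ℕ :=
  Nat.xor (Nat.mul (bit x 0) (c 0)) (Nat.xor (Nat.mul (bit x 1) (c 1)) (Nat.xor (Nat.mul (bit x 2) (c 2))
    (Nat.xor (Nat.mul (bit x 3) (c 3)) (Nat.xor (Nat.mul (bit x 4) (c 4)) (Nat.mul (bit x 5) (c 5))))))

/-- the standard symplectic form -/
def omB (x y : ℕ) : ℕ :=
  Nat.mod (Nat.add (Nat.add (Nat.add (Nat.mul (bit x 3) (bit y 0)) (Nat.mul (bit x 0) (bit y 3)))
    (Nat.add (Nat.mul (bit x 4) (bit y 1)) (Nat.mul (bit x 1) (bit y 4))))
    (Nat.add (Nat.mul (bit x 5) (bit y 2)) (Nat.mul (bit x 2) (bit y 5)))) 2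

/-- the map acts on the labels of the fixed points as an affine map -/
def affB (f : ℕ → ℕ) : Bool :=
  allN 4600 fun i => !inF i || (inF (f i) && Nat.beq (lab (f i)) (Nat.xor (mulB (colB f) (lab i)) (lab (f r0))))

/-- the linear part of a map preserves the symplectic form -/
def sympB (f : ℕ → ℕ) : Bool :=
  allN 6 fun i => allN 6 fun j => Nat.beq (omB (colB f i) (colB f j)) (omB (Nat.pow 2 i) (Nat.pow 2 j))

/-- the check of the tables of the centraliser -/
def lettersB : Bool :=
  allN 42 fun a => withNat (nthR 0 cTabs a) fun t => affB (slot 13 t) && sympB (slot 13 t)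

/-- the facts about the points used for the columns -/
def ptsB : Bool :=
  Nat.blt r0 4600 && inF r0 && Nat.beq (lab r0) 0 &&
    (allN 6 fun j => ((sPts.getD j []).all fun r => Nat.blt r 4600 && inF r) && Nat.beq (colB (fun i => i) j) (Nat.pow 2 j))

/-- the tables of a word in the tables of the centraliser -/
def cwTabs (w : List ℕ) : List ℕ := w.map fun a => nthR 0 cTabs a

/-- the word of a transvection gives the transvection -/
def tvB (v : ℕ) : Bool :=
  ((tvWords.getD v []).all fun a => Nat.blt a 42) &&
    withList (cwTabs (tvWords.getD v [])) fun ts =>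
      allN 6 fun j => Nat.beq (colB (compLookR ts) j) (Nat.xor (Nat.pow 2 j) (Nat.mul (omB v (Nat.pow 2 j)) v))

/-- the check of the words of the transvections -/
def tvAllB : Bool := allN 63 fun v => tvB (Nat.succ v)

/-- a table fixes the fixed points of the involution -/
def fixB (t : ℕ) : Bool := allN 4600 fun i => !inF i || Nat.beq (slot 13 t i) i

/-- a generator of the normal subgroup: a good table, the product of its word, fixing the fixed points of the
involution -/
def qgenB (a : ℕ) : Bool :=
  withNat (nthR 0 qY a) fun q =>
    goodB 4600 13 q && fixB q && ((qWords.getD a []).all fun a => Nat.blt a 42) &&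
      withList (cwTabs (qWords.getD a [])) fun ts => allN 4600 fun i => Nat.beq (slot 13 q i) (compLookR ts i)

/-- the word of a place of the orbit of the normal subgroup -/
def qwd (k : ℕ) : ℕ := slot 42 QL.wds k

/-- the tables of the word of a place -/
def qts (k : ℕ) : List ℕ := wApp qY 7 (qwd k) []

/-- the image of a point under the product of the word of a place -/
def qev (k x : ℕ) : ℕ := compLookR (qts k) x

/-- only two of the 512 elements commute with all generators -/
def centreB : Bool :=
  allN 512 fun k => Nat.beq k 0 || Nat.beq k kz ||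
    withList (qts k) fun tk => withNat (compLookR tk QL.b) fun xk =>
      qY.any fun y => !Nat.beq (compLookR tk (slot 13 y QL.b)) (slot 13 y xk)

/-- each of the 512 elements commutes with each generator up to the involution -/
def gpairB : Bool :=
  allN 512 fun k => withList (qts k) fun tk => withNat (compLookR tk QL.b) fun xk =>
    qY.all fun y => withNat (compLookR tk (slot 13 y QL.b)) fun a => withNat (slot 13 y xk) fun b =>
      Nat.beq a b || Nat.beq a (slot 13 zT b)

/-- the squares of the 512 elements are trivial or the involution -/
def sqB : Bool :=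
  allN 512 fun k => withList (qts k) fun tk => withNat (compLookR tk (tpt 13 QL k)) fun a =>
    Nat.beq a QL.b || Nat.beq a (slot 13 zT QL.b)

/-- two elements that do not commute -/
def ncB : Bool :=
  withNat (qev 1 (tpt 13 QL 7)) fun a => withNat (qev 7 (tpt 13 QL 1)) fun b =>
    !Nat.beq a b && Nat.beq a (slot 13 zT b)

end Cfsg.Agent.Helper22.Co2Cen
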