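import Cfsg.Agent.Helper22.Co2KDefs

/-!
# Kernel facts about the group of order 42305421312000 on 4600 points: the centre of the subgroup of order 2^18

Generated by a script.  The checks run one after the other, to bound the memory.
-/

set_option autoImplicit false
set_option Elab.async false

namespace Cfsg.Agent.Helper22.Co2K

open Cfsg.Agent.Helper22.PermPack Cfsg.Agent.Helper22.Co2KData

theorem centre_okK0 : centreR 0 = true := by decide +kernel

theorem centre_okK1 : centreR 1 = true := by decide +kernel

theorem centre_okK2 : centreR 2 = true := by decide +kernel

theorem centre_okK3 : centreR 3 = true := by decide +kernel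

theorem centre_okK4 : centreR 4 = true := by decide +kernel

theorem centre_okK5 : centreR 5 = true := by decide +kernel

theorem centre_okK6 : centreR 6 = true := by decide +kernel

theorem centre_okK7 : centreR 7 = true := by decide +kernel

theorem centre_okK8 : centreR 8 = true := by decide +kernel

theorem centre_okK9 : centreR 9 = true := by decide +kernel

theorem centre_okK10 : centreR 10 = true := by decide +kernel

theorem centre_okK11 : centreR 11 = true := by decide +kernel

theorem centre_okK12 : centreR 12 = true := by decide +kernel

theorem centre_okK13 : centreR 13 = true := by decide +kernel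

theorem centre_okK14 : centreR 14 = true := by decide +kernel

theorem centre_okK15 : centreR 15 = true := by decide +kernel

theorem centre_okK16 : centreR 16 = true := by decide +kernel

theorem centre_okK17 : centreR 17 = true := by decide +kernel

theorem centre_okK18 : centreR 18 = true := by decide +kernel

theorem centre_okK19 : centreR 19 = true := by decide +kernel

theorem centre_okK20 : centreR 20 = true := by decide +kernel

theorem centre_okK21 : centreR 21 = true := by decide +kernel

theorem centre_okK22 : centreR 22 = true := by decide +kernel

theorem centre_okK23 : centreR 23 = true := by decide +kernel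

theorem centre_okK24 : centreR 24 = true := by decide +kernel

theorem centre_okK25 : centreR 25 = true := by decide +kernel

theorem centre_okK26 : centreR 26 = true := by decide +kernel

theorem centre_okK27 : centreR 27 = true := by decide +kernel

theorem centre_okK28 : centreR 28 = true := by decide +kernel

theorem centre_okK29 : centreR 29 = true := by decide +kernel

theorem centre_okK30 : centreR 30 = true := by decide +kernel

theorem centre_okK31 : centreR 31 = true := by decide +kernel

theorem centre_all : ∀ r, r < 32 → centreR r = true
  | 0, _ => centre_okK0
  | 1, _ => centre_okK1
  | 2, _ => centre_okK2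
  | 3, _ => centre_okK3
  | 4, _ => centre_okK4
  | 5, _ => centre_okK5
  | 6, _ => centre_okK6
  | 7, _ => centre_okK7
  | 8, _ => centre_okK8
  | 9, _ => centre_okK9
  | 10, _ => centre_okK10
  | 11, _ => centre_okK11
  | 12, _ => centre_okK12
  | 13, _ => centre_okK13
  | 14, _ => centre_okK14
  | 15, _ => centre_okK15
  | 16, _ => centre_okK16
  | 17, _ => centre_okK17
  | 18, _ => centre_okK18
  | 19, _ => centre_okK19
  | 20, _ => centre_okK20
  | 21, _ => centre_okK21
  | 22, _ => centre_okK22
  | 23, _ => centre_okK23
  | 24, _ => centre_okK24
  | 25, _ => centre_okK25
  | 26, _ => centre_okK26
  | 27, _ => centre_okK27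
  | 28, _ => centre_okK28
  | 29, _ => centre_okK29
  | 30, _ => centre_okK30
  | 31, _ => centre_okK31
  | n + 32, h => absurd h (by omega)

end Cfsg.Agent.Helper22.Co2K
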