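import Cfsg.Agent.Helper22.Co2KDefs

/-!
# Kernel facts about the group of order 42305421312000 on 4600 points: the conjugates of the involution, part 2

Generated by a script.  The checks run one after the other, to bound the memory.
-/

set_option autoImplicit false
set_option Elab.async false

namespace Cfsg.Agent.Helper22.Co2K

open Cfsg.Agent.Helper22.PermPack Cfsg.Agent.Helper22.Co2KData

theorem cls_okK10 : clsR (10 * 1000) (min 1000 (56924 - 10 * 1000)) = true := by decide +kernel

theorem cls_okK11 : clsR (11 * 1000) (min 1000 (56924 - 11 * 1000)) = true := by decide +kernel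

theorem cls_okK12 : clsR (12 * 1000) (min 1000 (56924 - 12 * 1000)) = true := by decide +kernel

theorem cls_okK13 : clsR (13 * 1000) (min 1000 (56924 - 13 * 1000)) = true := by decide +kernel

theorem cls_okK14 : clsR (14 * 1000) (min 1000 (56924 - 14 * 1000)) = true := by decide +kernel

theorem cls_okK15 : clsR (15 * 1000) (min 1000 (56924 - 15 * 1000)) = true := by decide +kernel

theorem cls_okK16 : clsR (16 * 1000) (min 1000 (56924 - 16 * 1000)) = true := by decide +kernel

theorem cls_okK17 : clsR (17 * 1000) (min 1000 (56924 - 17 * 1000)) = true := by decide +kernel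

theorem cls_okK18 : clsR (18 * 1000) (min 1000 (56924 - 18 * 1000)) = true := by decide +kernel

theorem cls_okK19 : clsR (19 * 1000) (min 1000 (56924 - 19 * 1000)) = true := by decide +kernel

end Cfsg.Agent.Helper22.Co2K
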