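import Cfsg.Agent.Helper22.Co2KDefs

/-!
# Kernel facts about the group of order 42305421312000 on 4600 points: the conjugates of the involution, part 3

Generated by a script.  The checks run one after the other, to bound the memory.
-/

set_option autoImplicit false
set_option Elab.async false

namespace Cfsg.Agent.Helper22.Co2K

open Cfsg.Agent.Helper22.PermPack Cfsg.Agent.Helper22.Co2KData

theorem cls_okK20 : clsR (20 * 1000) (min 1000 (56924 - 20 * 1000)) = true := by decide +kernel

theorem cls_okK21 : clsR (21 * 1000) (min 1000 (56924 - 21 * 1000)) = true := by decide +kernel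

theorem cls_okK22 : clsR (22 * 1000) (min 1000 (56924 - 22 * 1000)) = true := by decide +kernel

theorem cls_okK23 : clsR (23 * 1000) (min 1000 (56924 - 23 * 1000)) = true := by decide +kernel

theorem cls_okK24 : clsR (24 * 1000) (min 1000 (56924 - 24 * 1000)) = true := by decide +kernel

theorem cls_okK25 : clsR (25 * 1000) (min 1000 (56924 - 25 * 1000)) = true := by decide +kernel

theorem cls_okK26 : clsR (26 * 1000) (min 1000 (56924 - 26 * 1000)) = true := by decide +kernel

theorem cls_okK27 : clsR (27 * 1000) (min 1000 (56924 - 27 * 1000)) = true := by decide +kernel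

theorem cls_okK28 : clsR (28 * 1000) (min 1000 (56924 - 28 * 1000)) = true := by decide +kernel

theorem cls_okK29 : clsR (29 * 1000) (min 1000 (56924 - 29 * 1000)) = true := by decide +kernel

end Cfsg.Agent.Helper22.Co2K
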