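import Cfsg.Agent.Helper22.Co2KDefs

/-!
# Kernel facts about the group of order 42305421312000 on 4600 points: the conjugates of the involution, part 4

Generated by a script.  The checks run one after the other, to bound the memory.
-/

set_option autoImplicit false
set_option Elab.async false

namespace Cfsg.Agent.Helper22.Co2K

open Cfsg.Agent.Helper22.PermPack Cfsg.Agent.Helper22.Co2KData

theorem cls_okK30 : clsR (30 * 1000) (min 1000 (56924 - 30 * 1000)) = true := by decide +kernel

theorem cls_okK31 : clsR (31 * 1000) (min 1000 (56924 - 31 * 1000)) = true := by decide +kernel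

theorem cls_okK32 : clsR (32 * 1000) (min 1000 (56924 - 32 * 1000)) = true := by decide +kernel

theorem cls_okK33 : clsR (33 * 1000) (min 1000 (56924 - 33 * 1000)) = true := by decide +kernel

theorem cls_okK34 : clsR (34 * 1000) (min 1000 (56924 - 34 * 1000)) = true := by decide +kernel

theorem cls_okK35 : clsR (35 * 1000) (min 1000 (56924 - 35 * 1000)) = true := by decide +kernel

theorem cls_okK36 : clsR (36 * 1000) (min 1000 (56924 - 36 * 1000)) = true := by decide +kernel

theorem cls_okK37 : clsR (37 * 1000) (min 1000 (56924 - 37 * 1000)) = true := by decide +kernel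

theorem cls_okK38 : clsR (38 * 1000) (min 1000 (56924 - 38 * 1000)) = true := by decide +kernel

theorem cls_okK39 : clsR (39 * 1000) (min 1000 (56924 - 39 * 1000)) = true := by decide +kernel

end Cfsg.Agent.Helper22.Co2K
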