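import Cfsg.Agent.Helper22.Co2KDefs

/-!
# Kernel facts about the group of order 42305421312000 on 4600 points: the conjugates of the involution, part 5

Generated by a script.  The checks run one after the other, to bound the memory.
-/

set_option autoImplicit false
set_option Elab.async false

namespace Cfsg.Agent.Helper22.Co2K

open Cfsg.Agent.Helper22.PermPack Cfsg.Agent.Helper22.Co2KData

theorem cls_okK40 : clsR (40 * 1000) (min 1000 (56924 - 40 * 1000)) = true := by decide +kernel

theorem cls_okK41 : clsR (41 * 1000) (min 1000 (56924 - 41 * 1000)) = true := by decide +kernel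

theorem cls_okK42 : clsR (42 * 1000) (min 1000 (56924 - 42 * 1000)) = true := by decide +kernel

theorem cls_okK43 : clsR (43 * 1000) (min 1000 (56924 - 43 * 1000)) = true := by decide +kernel

theorem cls_okK44 : clsR (44 * 1000) (min 1000 (56924 - 44 * 1000)) = true := by decide +kernel

theorem cls_okK45 : clsR (45 * 1000) (min 1000 (56924 - 45 * 1000)) = true := by decide +kernel

theorem cls_okK46 : clsR (46 * 1000) (min 1000 (56924 - 46 * 1000)) = true := by decide +kernel

theorem cls_okK47 : clsR (47 * 1000) (min 1000 (56924 - 47 * 1000)) = true := by decide +kernel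

theorem cls_okK48 : clsR (48 * 1000) (min 1000 (56924 - 48 * 1000)) = true := by decide +kernel

theorem cls_okK49 : clsR (49 * 1000) (min 1000 (56924 - 49 * 1000)) = true := by decide +kernel

end Cfsg.Agent.Helper22.Co2K
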