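import Cfsg.Agent.Helper22.Co2KDefs

/-!
# Kernel facts about the group of order 42305421312000 on 4600 points: the conjugates of the involution, part 6

Generated by a script.  The checks run one after the other, to bound the memory.
-/

set_option autoImplicit false
set_option Elab.async false

namespace Cfsg.Agent.Helper22.Co2K

open Cfsg.Agent.Helper22.PermPack Cfsg.Agent.Helper22.Co2KData

theorem cls_okK50 : clsR (50 * 1000) (min 1000 (56924 - 50 * 1000)) = true := by decide +kernel

theorem cls_okK51 : clsR (51 * 1000) (min 1000 (56924 - 51 * 1000)) = true := by decide +kernel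

theorem cls_okK52 : clsR (52 * 1000) (min 1000 (56924 - 52 * 1000)) = true := by decide +kernel

theorem cls_okK53 : clsR (53 * 1000) (min 1000 (56924 - 53 * 1000)) = true := by decide +kernel

theorem cls_okK54 : clsR (54 * 1000) (min 1000 (56924 - 54 * 1000)) = true := by decide +kernel

theorem cls_okK55 : clsR (55 * 1000) (min 1000 (56924 - 55 * 1000)) = true := by decide +kernel

theorem cls_okK56 : clsR (56 * 1000) (min 1000 (56924 - 56 * 1000)) = true := by decide +kernel

end Cfsg.Agent.Helper22.Co2K
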