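import Cfsg.Agent.Helper22.Co2KChkE1
import Cfsg.Agent.Helper22.Co2KChkE2
import Cfsg.Agent.Helper22.Co2KChkE3
import Cfsg.Agent.Helper22.Co2KChkE4
import Cfsg.Agent.Helper22.Co2KChkE5
import Cfsg.Agent.Helper22.Co2KChkE6

/-!
# Kernel facts about the group of order 42305421312000 on 4600 points: the checks of the ranges, collected

Generated by a script.  The checks run one after the other, to bound the memory.
-/

set_option autoImplicit false

namespace Cfsg.Agent.Helper22.Co2K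

open Cfsg.Agent.Helper22.PermPack Cfsg.Agent.Helper22.Co2KData

theorem cls_all : ∀ r, r < 57 → clsR (r * 1000) (min 1000 (56924 - r * 1000)) = true
  | 0, _ => cls_okK0
  | 1, _ => cls_okK1
  | 2, _ => cls_okK2
  | 3, _ => cls_okK3
  | 4, _ => cls_okK4
  | 5, _ => cls_okK5
  | 6, _ => cls_okK6
  | 7, _ => cls_okK7
  | 8, _ => cls_okK8
  | 9, _ => cls_okK9
  | 10, _ => cls_okK10
  | 11, _ => cls_okK11
  | 12, _ => cls_okK12
  | 13, _ => cls_okK13
  | 14, _ => cls_okK14
  | 15, _ => cls_okK15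
  | 16, _ => cls_okK16
  | 17, _ => cls_okK17
  | 18, _ => cls_okK18
  | 19, _ => cls_okK19
  | 20, _ => cls_okK20
  | 21, _ => cls_okK21
  | 22, _ => cls_okK22
  | 23, _ => cls_okK23
  | 24, _ => cls_okK24
  | 25, _ => cls_okK25
  | 26, _ => cls_okK26
  | 27, _ => cls_okK27
  | 28, _ => cls_okK28
  | 29, _ => cls_okK29
  | 30, _ => cls_okK30
  | 31, _ => cls_okK31
  | 32, _ => cls_okK32
  | 33, _ => cls_okK33
  | 34, _ => cls_okK34
  | 35, _ => cls_okK35
  | 36, _ => cls_okK36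
  | 37, _ => cls_okK37
  | 38, _ => cls_okK38
  | 39, _ => cls_okK39
  | 40, _ => cls_okK40
  | 41, _ => cls_okK41
  | 42, _ => cls_okK42
  | 43, _ => cls_okK43
  | 44, _ => cls_okK44
  | 45, _ => cls_okK45
  | 46, _ => cls_okK46
  | 47, _ => cls_okK47
  | 48, _ => cls_okK48
  | 49, _ => cls_okK49
  | 50, _ => cls_okK50
  | 51, _ => cls_okK51
  | 52, _ => cls_okK52
  | 53, _ => cls_okK53
  | 54, _ => cls_okK54
  | 55, _ => cls_okK55
  | 56, _ => cls_okK56
  | n + 57, h => absurd h (by omega)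

end Cfsg.Agent.Helper22.Co2K
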