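import Cfsg.Agent.Helper22.Co2KCard
import Cfsg.Agent.Helper22.Co2KChkD
import Cfsg.Agent.Helper22.Co2KChkF

/-!
# The group of order 42305421312000 on 4600 points: all its automorphisms are inner

The group `K` generated by an involution `z` and an element `u` of order seven.  The involution generates the
centre of a Sylow subgroup, so automorphisms map it to a conjugate; the conjugates are given by words of the chain,
and relations of `z` and `u` leave fifty-six possible images under the automorphisms fixing `u`, as many as the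
elements commuting with `u`.
-/

set_option autoImplicit false
set_option maxRecDepth 8000

namespace Cfsg.Agent.Helper22.Co2K

open Cfsg Cfsg.Agent.Helper22.PermPack Cfsg.Agent.Helper22.Co2KData Cfsg.Agent.Helper22.OutTwo
  Cfsg.Agent.Helper14.J3Out

/-! ### A determining set -/

theorem card_K_le : Nat.card ↥K ≤ (klevels.map fun L => L.m).prod := by rw [prod_klevels, card_K]

/-- an element of the group fixing the five base points is the identity -/
theorem hdet : ∀ g ∈ K, (∀ d ∈ [0, 840, 2056, 1295, 3634], ∀ hd : d < 4600, g ⟨d, hd⟩ = ⟨d, hd⟩) → g = 1 := by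
  intro g hg hfix
  apply eq_one_of_fix_tbase K klevels [] kletters kchain_okK card_K_le g hg
  intro L hL hb
  apply hfix
  rw [← kbase_eq]
  unfold kbase
  exact List.mem_map_of_mem hL

/-! ### The subgroup of order `2 ^ 18` -/

theorem sY_spec : ∀ y ∈ sY, Good 4600 13 y ∧ P 4600 13 y ∈ K :=
  fun y hy => memT_allT (List.all_eq_true.mp sY_inK y hy)

theorem schain_okK : chainOK 4600 13 sY slevels = true :=
  chainOK_of_D K hdet (by decide) slevels sY (fun y hy => (sY_spec y hy).1) (fun y hy => (sY_spec y hy).2)
    schainD_okK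

/-- the subgroup of order `2 ^ 18` -/
noncomputable def Sp : Subgroup (Pm 4600) := Grp 4600 13 sY

theorem card_Sp : Nat.card Sp = 262144 := by
  rw [← prod_slevels]
  exact (chain_sound slevels sY (fun y hy => (sY_spec y hy).1) schain_okK).1

theorem Sp_le : Sp ≤ K := by
  unfold Sp Grp
  rw [Subgroup.closure_le]
  intro g hg
  obtain ⟨y, hy, hgy⟩ := hg
  rw [hgy]
  exact (sY_spec y hy).2

/-- a table that is the product along a path is the table of this product -/
theorem eq_of_isPath {ls : List Lv} {t : ℕ} {p : List ℕ} (ht : Good 4600 13 t) (h : isPath ls t p = true)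
    {g : Pm 4600} (hg : Rep (pathLook 4600 13 ls p) g) : P 4600 13 t = g := by
  unfold isPath at h
  rw [Bool.and_eq_true, withNat_eq, withList_eq] at h
  exact eq_of_rep (rep_P ht) hg (fun i hi => beq_iff.mp (allN_spec h.2 i hi))

theorem isPath_valid {ls : List Lv} {t : ℕ} {p : List ℕ} (h : isPath ls t p = true) : pathValid ls p = true := by
  unfold isPath at h
  rw [Bool.and_eq_true] at h
  exact h.1

theorem zP_mem_Sp : zP ∈ Sp := by
  obtain ⟨g, hg, hrep⟩ := (chain_sound slevels sY (fun y hy => (sY_spec y hy).1) schain_okK).2 _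
    (isPath_valid zS_okK)
  have e : zP = g := eq_of_isPath z_good zS_okK hrep
  rw [e]
  exact hg

theorem sY_comm {y : ℕ} (hy : y ∈ sY) : P 4600 13 y * zP = zP * P 4600 13 y := by
  obtain ⟨a, ha, rfl⟩ := List.mem_iff_getElem.mp hy
  have ha' : a < 26 := by rw [← len_sY]; exact ha
  have hr : a / 13 < 2 := by omega
  have h := commR_spec (zcommS_all (a / 13) hr) (a % 13) (Nat.mod_lt _ (by norm_num))
  have e : a / 13 * 13 + a % 13 = a := by omega
  rw [e, List.getD_eq_getElem _ _ ha] at h
  exact comm_of_tables z_good (sY_spec _ hy).1 h.2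

theorem zP_comm_Sp : ∀ s ∈ Sp, s * zP = zP * s := by
  have hle : Sp ≤ Subgroup.centralizer ({zP} : Set (Pm 4600)) := by
    unfold Sp Grp
    rw [Subgroup.closure_le]
    intro g hg
    obtain ⟨y, hy, hgy⟩ := hg
    rw [hgy, SetLike.mem_coe, Subgroup.mem_centralizer_iff]
    intro x hx
    rw [Set.mem_singleton_iff] at hx
    rw [hx]
    exact (sY_comm hy).symm
  intro s hs
  have := Subgroup.mem_centralizer_iff.mp (hle hs) zP (Set.mem_singleton _)
  exact this.symm

theorem slevels_m : slevels.map (fun L => L.m) = [8, 8, 8, 32, 8, 2] := by decide +kernel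

theorem centreC_ok : (centreC.all fun c => Nat.blt c.1 26 && Nat.blt c.2 4600) = true := by decide +kernel

theorem levelTabs_getD (L : Lv) {k : ℕ} (hk : k < L.m) : (levelTabs L).getD k 0 = tab 4600 13 L k := by
  unfold levelTabs
  rw [List.getD_eq_getElem _ _ (by rw [List.length_map, List.length_range]; exact hk), List.getElem_map,
    List.getElem_range]

/-- an element of the subgroup commuting with the subgroup is the identity or the involution -/
theorem Sp_center (s : Pm 4600) (hs : s ∈ Sp) (hc : ∀ t ∈ Sp, t * s = s * t) : s = 1 ∨ s = zP := by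
  obtain ⟨p, hp, hrep⟩ := chain_complete slevels sY (fun y hy => (sY_spec y hy).1) schain_okK s hs
  have hm := slevels_m
  obtain ⟨k0, k1, k2, k3, k4, k5, rfl, h0, h1, h2, h3, h4, h5⟩ : ∃ k0 k1 k2 k3 k4 k5,
      p = [k0, k1, k2, k3, k4, k5] ∧ k0 < SL0.m ∧ k1 < SL1.m ∧ k2 < SL2.m ∧ k3 < SL3.m ∧ k4 < SL4.m ∧
        k5 < SL5.m := by
    unfold slevels at hp
    match p, hp with
    | [k0, k1, k2, k3, k4, k5], hp =>
      simp only [pathValid, Bool.and_eq_true, decide_eq_true_eq] at hp
      exact ⟨k0, k1, k2, k3, k4, k5, rfl, hp.1, hp.2.1, hp.2.2.1, hp.2.2.2.1, hp.2.2.2.2.1, hp.2.2.2.2.2.1⟩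
    | [], hp => simp [pathValid] at hp
    | [_], hp => simp [pathValid] at hp
    | [_, _], hp => simp [pathValid] at hp
    | [_, _, _], hp => simp [pathValid] at hp
    | [_, _, _, _], hp => simp [pathValid] at hp
    | [_, _, _, _, _], hp => simp [pathValid] at hp
    | _ :: _ :: _ :: _ :: _ :: _ :: _ :: _, hp => simp [pathValid] at hp
  unfold slevels at hm
  simp only [List.map_cons, List.map_nil, List.cons.injEq, and_true] at hm
  obtain ⟨m0, m1, m2, m3, m4, m5⟩ := hm
  have h := centre_all k3 (by rw [← m3]; exact h3)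
  unfold centreR at h
  rw [withList_eq, withList_eq, withList_eq, withNat_eq, withList_eq, withList_eq] at h
  have h := allN_spec h k0 (by rw [← m0]; exact h0)
  rw [withNat_eq] at h
  have h := allN_spec h k1 (by rw [← m1]; exact h1)
  rw [withNat_eq] at h
  have h := allN_spec h k2 (by rw [← m2]; exact h2)
  rw [withNat_eq] at h
  have h := allN_spec h k4 (by rw [← m4]; exact h4)
  rw [withNat_eq] at h
  have h := allN_spec h k5 (by rw [← m5]; exact h5)
  rw [withNat_eq, levelTabs_getD SL0 h0, levelTabs_getD SL1 h1, levelTabs_getD SL2 h2, levelTabs_getD SL4 h4,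
    levelTabs_getD SL5 h5] at h
  have hts : [tab 4600 13 SL0 k0, tab 4600 13 SL1 k1, tab 4600 13 SL2 k2, tab 4600 13 SL3 k3, tab 4600 13 SL4 k4,
      tab 4600 13 SL5 k5] = pathTabs 4600 13 slevels [k0, k1, k2, k3, k4, k5] := rfl
  rw [hts] at h
  unfold centreAt at h
  rw [Bool.or_eq_true, Bool.or_eq_true, List.any_eq_true] at h
  rcases h with (⟨c, hcm, hw⟩ | hid) | hz
  · exfalso
    have hcok := List.all_eq_true.mp centreC_ok c hcm
    rw [Bool.and_eq_true, blt_iff, blt_iff] at hcok
    rw [withNat_eq, withNat_eq, Bool.not_eq_true', ← Bool.not_eq_true, beq_iff] at hw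
    apply hw
    have hy : sY.getD c.1 0 ∈ sY := by
      rw [List.getD_eq_getElem _ _ (by rw [len_sY]; exact hcok.1)]
      exact List.getElem_mem _
    have e := hc (P 4600 13 (sY.getD c.1 0)) (P_mem_Grp hy)
    have e1 := rep_apply (rep_mul (rep_P (sY_spec _ hy).1) hrep) hcok.2
    have e2 := rep_apply (rep_mul hrep (rep_P (sY_spec _ hy).1)) hcok.2
    rw [e] at e1
    exact e1.symm.trans e2
  · left
    rw [beq_iff_eq] at hid
    have h' := sid_okK
    rw [withList_eq] at h'
    rw [hid] at hrep
    exact eq_one_of_rep hrep (fun i hi => beq_iff.mp (allN_spec h' i hi))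
  · right
    rw [beq_iff_eq] at hz
    rw [hz] at hrep
    exact (eq_of_isPath z_good zS_okK hrep).symm

theorem factorization_K : (Nat.card ↥K).factorization 2 = 18 := by
  rw [card_K, show 42305421312000 = 2 ^ 18 * 161382375 by norm_num,
    Nat.factorization_mul (by norm_num) (by norm_num), Finsupp.add_apply,
    Nat.Prime.factorization_pow Nat.prime_two,
    Nat.factorization_eq_zero_of_not_dvd (by norm_num : ¬ 2 ∣ 161382375)]
  simp

theorem card_SpK : Nat.card (Sp.subgroupOf K) = 2 ^ (Nat.card ↥K).factorization 2 := by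
  rw [factorization_K, Nat.card_congr (Subgroup.subgroupOfEquivOfLe Sp_le).toEquiv, card_Sp]
  norm_num

/-- an automorphism maps the involution to a conjugate -/
theorem aut_zK (φ : MulAut ↥K) : ∃ g : ↥K, φ zK = g * zK * g⁻¹ := by
  have : Fact (Nat.Prime 2) := ⟨Nat.prime_two⟩
  exact exists_conj_of_sylow_center 2 (Sp.subgroupOf K) card_SpK zK
    (by rw [Subgroup.mem_subgroupOf, zK_coe]; exact zP_mem_Sp)
    (by
      intro s hs
      rw [Subgroup.mem_subgroupOf] at hs
      apply Subtype.ext
      rw [Subgroup.coe_mul, Subgroup.coe_mul, zK_coe]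
      exact zP_comm_Sp s.1 hs)
    (by
      intro s hs hc
      rw [Subgroup.mem_subgroupOf] at hs
      have := Sp_center s.1 hs (by
        intro t ht
        have := hc ⟨t, Sp_le ht⟩ (by rw [Subgroup.mem_subgroupOf]; exact ht)
        have h' := congrArg Subtype.val this
        rw [Subgroup.coe_mul, Subgroup.coe_mul] at h'
        exact h')
      rcases this with h | h
      · left
        apply Subtype.ext
        rw [Subgroup.coe_one]
        exact h
      · right
        apply Subtype.ext
        rw [zK_coe]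
        exact h) φ

/-! ### The conjugates of the involution -/

theorem card_K_class : Nat.card ↥K = 743178240 * 56925 := by rw [card_K]

theorem card_class_zK : Nat.card (Set.range fun g : ↥K => g * zK * g⁻¹) ≤ 56925 :=
  card_class_le_of_le 743178240 56925 (by norm_num) card_K_class zK card_centralizer_zK

/-- the conjugate of the involution with a given index, as a function -/
def cj (j : ℕ) : ℕ → ℕ := cjF (cjTs j) (cjIs j)

theorem cls_range (j : ℕ) (hj : j ≤ 56924) :
    clsR (j / 1000 * 1000) (min 1000 (56924 - j / 1000 * 1000)) = true ∧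
      j % 1000 ≤ min 1000 (56924 - j / 1000 * 1000) ∧ Nat.add (j / 1000 * 1000) (j % 1000) = j := by
  have hr : j / 1000 < 57 := by omega
  refine ⟨cls_all (j / 1000) hr, ?_, ?_⟩
  · rw [le_min_iff]
    constructor <;> omega
  · show j / 1000 * 1000 + j % 1000 = j
    omega

theorem ok_spec (j : ℕ) (hj : j < 56925) : okAt j = true := by
  obtain ⟨h1, h2, h3⟩ := cls_range j (by omega)
  have := (clsR_spec h1).1 (j % 1000) h2
  rw [h3] at this
  exact this

theorem key_step (j : ℕ) (hj : j < 56924) : key j < key (j + 1) := by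
  obtain ⟨h1, _, h3⟩ := cls_range j (by omega)
  have hlt : j % 1000 < min 1000 (56924 - j / 1000 * 1000) := by
    rw [lt_min_iff]
    constructor <;> omega
  have := (clsR_spec h1).2 (j % 1000) hlt
  have e' : Nat.add (j / 1000 * 1000) (j % 1000 + 1) = j + 1 := by
    show j / 1000 * 1000 + (j % 1000 + 1) = j + 1
    omega
  rw [h3, e'] at this
  exact this

theorem key_lt : ∀ j' j : ℕ, j < j' → j' < 56925 → key j < key j' := by
  intro j'
  induction j' with
  | zero => intro j hj; omega
  | succ j' ih =>
    intro j hj hj'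
    have h1 := key_step j' (by omega)
    rcases Nat.lt_succ_iff_lt_or_eq.mp hj with h | h
    · exact lt_trans (ih j h (by omega)) h1
    · rw [h]
      exact h1

theorem key_eq_of_cj {j j' : ℕ} (h : ∀ i < 4600, cj j i = cj j' i) : key j = key j' := by
  unfold key keyOf
  have e : ∀ a < 4600, cjF (cjTs j) (cjIs j) a = cjF (cjTs j') (cjIs j') a := h
  rw [e 0 (by norm_num), e 840 (by norm_num), e 2056 (by norm_num), e 1295 (by norm_num), e 3634 (by norm_num)]

/-- the path of the element conjugating the involution to a conjugate is valid -/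
theorem valid_spec (j : ℕ) (hj : j < 56925) : pathValidT klevels (repPath j) = true ∧
    witB j (cjTs j) (cjIs j) = true := by
  have h := ok_spec j hj
  unfold okAt at h
  simp only [Bool.and_eq_true] at h
  obtain ⟨⟨⟨⟨⟨h0, h1⟩, h2⟩, h3⟩, h4⟩, h5⟩ := h
  refine ⟨?_, h5⟩
  unfold repPath klevels
  simp only [pathValidT, Bool.and_eq_true]
  exact ⟨h0, h1, h2, h3, h4, trivial⟩

theorem cj_eq (j i : ℕ) : cj j i = compLook 13 (pathTabsT 6 dK klevels (repPath j))
    (slot 13 zT (compLook 13 (pathTabsTi 6 dK klevels (repPath j)) i)) := by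
  unfold cj cjF cjTs cjIs
  rw [compLookR_eq, compLookR_eq, tsOf_eq, isOf_eq]
  rfl

theorem exists_conj (j : ℕ) (hj : j < 56925) : ∃ g : ↥K, Rep (cj j) (g * zK * g⁻¹).1 := by
  obtain ⟨g, hg, -, hrep⟩ := tconj_rep K klevels [] kletters kinv kchain_okK (repPath j) (valid_spec j hj).1
    (slot 13 zT) zP (rep_P z_good)
  refine ⟨⟨g, hg⟩, ?_⟩
  rw [Subgroup.coe_mul, Subgroup.coe_mul, Subgroup.coe_inv, zK_coe]
  exact rep_congr hrep (fun i _ => cj_eq j i)

/-- the conjugates, by index -/
noncomputable def conjEl (j : Fin 56925) : Set.range fun g : ↥K => g * zK * g⁻¹ :=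
  ⟨Classical.choose (exists_conj j.1 j.2) * zK * (Classical.choose (exists_conj j.1 j.2))⁻¹,
    ⟨Classical.choose (exists_conj j.1 j.2), rfl⟩⟩

theorem conjEl_rep (j : Fin 56925) : Rep (cj j.1) (conjEl j).1.1 := Classical.choose_spec (exists_conj j.1 j.2)

theorem conjEl_injective : Function.Injective conjEl := by
  intro j j' h
  have h1 := conjEl_rep j
  have h2 := conjEl_rep j'
  rw [h] at h1
  have hk : key j.1 = key j'.1 := by
    apply key_eq_of_cj
    intro i hi
    rw [← rep_apply h1 hi, ← rep_apply h2 hi]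
  apply Fin.ext
  rcases lt_trichotomy j.1 j'.1 with hl | hl | hl
  · exact absurd hk (ne_of_lt (key_lt _ _ hl j'.2))
  · exact hl
  · exact absurd hk.symm (ne_of_lt (key_lt _ _ hl j.2))

/-- the conjugates of the involution are listed -/
theorem conj_zK (g : ↥K) : ∃ j < 56925, Rep (cj j) (g * zK * g⁻¹).1 := by
  have hfin : Finite (Set.range fun g : ↥K => g * zK * g⁻¹) := Set.finite_range _
  have hb : Function.Bijective conjEl := by
    apply Function.Injective.bijective_of_nat_card_le conjEl_injective
    have e : Nat.card (Fin 56925) = 56925 := by simp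
    rw [e]
    exact card_class_zK
  obtain ⟨j, hj⟩ := hb.2 ⟨g * zK * g⁻¹, ⟨g, rfl⟩⟩
  refine ⟨j.1, j.2, ?_⟩
  have := conjEl_rep j
  rw [hj] at this
  exact this

/-! ### Relations -/

/-- the word `d u^e₁ d u^e₂ ⋯` in a monoid -/
def relW {M : Type*} [Monoid M] (d u : M) : List ℕ → M
  | [] => 1
  | e :: w => d * u ^ e * relW d u w

theorem map_relW {M N : Type*} [Monoid M] [Monoid N] (f : M →* N) (d u : M) (w : List ℕ) :
    f (relW d u w) = relW (f d) (f u) w := by
  induction w with
  | nil => simp [relW]
  | cons e w ih => simp [relW, ih]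

theorem rep_relW {d : ℕ → ℕ} {x : Pm 4600} (hx : Rep d x) :
    ∀ L : List ℕ, (L.all fun e => Nat.blt 0 e && Nat.blt e 7) = true → Rep (relLookF d L) (relW x uP L) := by
  intro L
  induction L with
  | nil =>
    intro _
    exact rep_one
  | cons e L ih =>
    intro h
    rw [List.all_cons, Bool.and_eq_true, Bool.and_eq_true, blt_iff, blt_iff] at h
    show Rep _ (x * uP ^ e * relW x uP L)
    rw [mul_assoc]
    exact rep_congr (rep_mul hx (rep_mul (rep_upow' h.1.1 h.1.2) (ih h.2))) (fun _ _ => rfl)

theorem rels_spec (r : ℕ) (hr : r < 7) : ((rels.getD r []).all fun e => Nat.blt 0 e && Nat.blt e 7) = true ∧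
    ∀ i < 4600, relLookF (slot 13 zT) (rels.getD r []) i = i := by
  have h := rel_all r hr
  unfold relB at h
  rw [withList_eq, Bool.and_eq_true] at h
  exact ⟨h.1, fun i hi => beq_iff.mp (allN_spec h.2 i hi)⟩

theorem relW_zP (r : ℕ) (hr : r < 7) : relW zP uP (rels.getD r []) = 1 :=
  eq_one_of_rep (rep_relW (rep_P z_good) _ (rels_spec r hr).1) (rels_spec r hr).2

theorem relW_zK (r : ℕ) (hr : r < 7) : relW zK uK (rels.getD r []) = 1 := by
  apply Subtype.ext
  have h1 := map_relW K.subtype zK uK (rels.getD r [])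
  rw [Subgroup.subtype_apply, Subgroup.subtype_apply, Subgroup.subtype_apply, zK_coe, uK_coe, relW_zP r hr] at h1
  rw [Subgroup.coe_one]
  exact h1

open Classical in
/-- the element of the group with a given table -/
noncomputable def clsK (j : ℕ) : ↥K :=
  if h : ∃ x : ↥K, Rep (cj j) x.1 then Classical.choose h else 1

theorem clsK_eq {j : ℕ} {x : ↥K} (hx : Rep (cj j) x.1) : clsK j = x := by
  have hex : ∃ x : ↥K, Rep (cj j) x.1 := ⟨x, hx⟩
  unfold clsK
  rw [dif_pos hex]
  exact Subtype.ext (rep_unique (Classical.choose_spec hex) hx)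

/-- the possible images of the involution under the automorphisms fixing the element of order seven -/
noncomputable def goodSet : Finset ↥K := good56.toFinset.image clsK

theorem card_goodSet : goodSet.card ≤ 56 := by
  calc goodSet.card ≤ good56.toFinset.card := Finset.card_image_le
    _ ≤ good56.length := List.toFinset_card_le _
    _ = 56 := len_good56

theorem stab_uK (φ : MulAut ↥K) (hφ : φ uK = uK) : φ zK ∈ goodSet := by
  obtain ⟨g, hg⟩ := aut_zK φ
  obtain ⟨j, hj, hrep⟩ := conj_zK g
  have hrep' : Rep (cj j) (φ zK).1 := by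
    rw [hg]
    exact hrep
  -- the relations
  have hrel : ∀ r < 7, ∀ i < 4600, relLookF (cj j) (rels.getD r []) i = i := by
    intro r hr i hi
    have h1 : φ (relW zK uK (rels.getD r [])) = 1 := by rw [relW_zK r hr, map_one]
    have h0 : φ (relW zK uK (rels.getD r [])) = relW (φ zK) (φ uK) (rels.getD r []) :=
      map_relW φ.toMonoidHom zK uK _
    rw [h0, hφ] at h1
    have h2 := map_relW K.subtype (φ zK) uK (rels.getD r [])
    rw [h1, map_one, Subgroup.subtype_apply, Subgroup.subtype_apply, uK_coe] at h2
    have h3 := rep_apply (rep_relW hrep' _ (rels_spec r hr).1) hi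
    rw [← h2] at h3
    exact h3.symm
  have hw := (valid_spec j hj).2
  unfold witB at hw
  rw [withNat_eq, withNat_eq, withNat_eq] at hw
  have hj56 : j ∈ good56 := by
    cases hb : Nat.beq (Nat.shiftRight (wit j) 13) 15 with
    | true =>
      rw [hb, cond_true] at hw
      exact memT_spec hw
    | false =>
      exfalso
      rw [hb, cond_false, Bool.and_eq_true, Bool.and_eq_true, blt_iff, blt_iff, Bool.not_eq_true',
        ← Bool.not_eq_true, beq_iff] at hw
      obtain ⟨⟨hr, hi⟩, hne⟩ := hw
      apply hne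
      rw [len_rels] at hr
      rw [relLookR_eq, nthR_eq]
      exact hrel _ hr _ hi
  unfold goodSet
  rw [Finset.mem_image]
  exact ⟨j, List.mem_toFinset.mpr hj56, clsK_eq hrep'⟩

theorem card_K' : Nat.card ↥K = 7 * 6043631616000 := by rw [card_K]

theorem card_K'' : Nat.card ↥K = 56 * 755453952000 := by rw [card_K]

/-- the group has at most as many automorphisms as elements -/
theorem card_mulAut_K : Nat.card (MulAut ↥K) ≤ Nat.card ↥K := by
  have : Fact (Nat.Prime 7) := ⟨by norm_num⟩
  exact card_mulAut_le_card_of_le 7 6043631616000 56 755453952000 card_K' (by norm_num) (by norm_num) card_K''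
    zK uK nK closure_zK_uK orderOf_uK card_centralizer_uK 3 nK_conj residues_7 goodSet card_goodSet stab_uK

end Cfsg.Agent.Helper22.Co2K
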