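import Cfsg.Agent.Helper22.TreeChain

/-!
# Stabiliser chains with words: induction over the letters

If the order of a group is the product of the lengths of the orbits of a chain whose letters lie in the group, every
element of the group is a product of letters, so a property holds for all elements if it holds for the identity and is
inherited by the product of a letter and an element.
-/

set_option autoImplicit false

namespace Cfsg.Agent.Helper22.PermPack

variable {n w wl d : ℕ}

/-- the tables along a valid path are letters -/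
theorem pathTabs_sub : ∀ (ls : List TLv) (B : List ℕ), tchainOK n w wl d B ls = true →
    ∀ p, pathValidT ls p = true → ∀ t ∈ pathTabsT wl d ls p, ∃ L ∈ ls, t ∈ L.Y := by
  intro ls
  induction ls with
  | nil =>
    intro B _ p _ t ht
    simp [pathTabsT, pathTabsG] at ht
  | cons L ls ih =>
    intro B h p hp t ht
    match p, hp with
    | [], hp => simp [pathValidT] at hp
    | k :: p, hp =>
      simp only [pathValidT, Bool.and_eq_true, blt_iff] at hp
      simp only [tchainOK, Bool.and_eq_true] at h
      obtain ⟨hL, hrest⟩ := h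
      obtain ⟨_, _, _, _, hpts⟩ := tlevel_spec hL
      have ht' : t ∈ wordTabs wl L.Y d (tword wl d L k) ++ pathTabsG wl d (fun L => L.Y) ls p := ht
      rcases List.mem_append.mp ht' with h1 | h1
      · exact ⟨L, List.mem_cons_self, wordTabs_sub L.Y d _ (hpts k hp.1).2.2.1 t h1⟩
      · obtain ⟨L', hL', hL'Y⟩ := ih (L.b :: B) hrest p hp.2 t h1
        exact ⟨L', List.mem_cons_of_mem _ hL', hL'Y⟩

/-- a property of the products of lists of good tables -/
theorem tabs_induction (Pr : Pm n → Prop) (h1 : Pr 1) (Y : ℕ → Prop)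
    (hY : ∀ y, Y y → Good n w y) (hmul : ∀ y, Y y → ∀ g, Pr g → Pr (P n w y * g)) :
    ∀ ts : List ℕ, (∀ t ∈ ts, Y t) → ∀ g : Pm n, Rep (compLook w ts) g → Pr g := by
  intro ts
  induction ts with
  | nil =>
    intro _ g hg
    have : g = 1 := rep_unique hg rep_one
    rw [this]
    exact h1
  | cons t ts ih =>
    intro h g hg
    have hts : ∀ t' ∈ ts, Good n w t' ∧ P n w t' ∈ (⊤ : Subgroup (Pm n)) :=
      fun t' ht' => ⟨hY t' (h t' (List.mem_cons_of_mem _ ht')), Subgroup.mem_top _⟩
    obtain ⟨g', _, hg'⟩ := tabs_rep (⊤ : Subgroup (Pm n)) ts hts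
    have ht := h t List.mem_cons_self
    have e : g = P n w t * g' :=
      rep_unique hg (rep_congr (rep_mul (rep_P (hY t ht)) hg') (fun _ _ => rfl))
    rw [e]
    exact hmul t ht g' (ih (fun t' ht' => h t' (List.mem_cons_of_mem _ ht')) g' hg')

/-- induction over the letters for a group of the order given by its chain -/
theorem letters_induction (G : Subgroup (Pm n)) (ls : List TLv) (B : List ℕ) (hlet : LettersIn (w := w) G ls)
    (h : tchainOK n w wl d B ls = true) (hG : Nat.card G ≤ (ls.map fun L => L.m).prod)
    (Pr : Pm n → Prop) (h1 : Pr 1)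
    (hmul : ∀ L ∈ ls, ∀ y ∈ L.Y, ∀ g, Pr g → Pr (P n w y * g)) : ∀ g ∈ G, Pr g := by
  intro g hg
  obtain ⟨p, hp, hrep⟩ := tchain_complete G ls B hlet h hG g hg
  apply tabs_induction Pr h1 (fun y => ∃ L ∈ ls, y ∈ L.Y)
    (fun y hy => by obtain ⟨L, hL, hyL⟩ := hy; exact (hlet L hL y hyL).1)
    (fun y hy g' hg' => by obtain ⟨L, hL, hyL⟩ := hy; exact hmul L hL y hyL g' hg')
    (pathTabsT wl d ls p) (pathTabs_sub ls B h p hp) g
  exact hrep

end Cfsg.Agent.Helper22.PermPack
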