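import Cfsg.Agent.Helper22.Co2Lin
import Cfsg.Agent.Helper22.Co2K2
import Cfsg.Agent.Helper22.TreeChain2

/-!
# The centraliser of an involution in the group on 4600 points: the map onto the symplectic group

The centraliser has order 743178240, its elements act on the labels of the fixed points of the involution by affine
maps, and the linear parts give a surjective homomorphism onto the symplectic group of degree six over the field with
two elements, with kernel of order 512.
-/

set_option autoImplicit false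

namespace Cfsg.Agent.Helper22.Co2Cen

open Matrix Cfsg.Agent.Helper2.Sp
open Cfsg.Agent.Helper22.PermPack Cfsg.Agent.Helper22.Co2KData Cfsg.Agent.Helper22.Co2CenData
open Cfsg.Agent.Helper22.Co2K

/-! ### The order of the centraliser -/

theorem card_class_le_quot {J : Type*} [Group J] [Finite J] (t : J) :
    Nat.card (Set.range fun g : J => g * t * g⁻¹) ≤ Nat.card (J ⧸ Subgroup.centralizer ({t} : Set J)) := by
  classical
  let C : Subgroup J := Subgroup.centralizer {t}
  let f : J ⧸ C → J := Quotient.lift (fun g : J => g * t * g⁻¹) (by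
    intro a b hab
    have hab' : a⁻¹ * b ∈ C := QuotientGroup.leftRel_apply.1 hab
    have h2 := (Subgroup.mem_centralizer_iff.1 hab') t (Set.mem_singleton t)
    show a * t * a⁻¹ = b * t * b⁻¹
    have e : b = a * (a⁻¹ * b) := by group
    rw [e]
    calc a * t * a⁻¹ = a * (t * (a⁻¹ * b)) * (a⁻¹ * b)⁻¹ * a⁻¹ := by group
      _ = a * ((a⁻¹ * b) * t) * (a⁻¹ * b)⁻¹ * a⁻¹ := by rw [h2]
      _ = a * (a⁻¹ * b) * t * (a * (a⁻¹ * b))⁻¹ := by group)
  have hsurj : Set.range (fun g : J => g * t * g⁻¹) ⊆ Set.range f := by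
    rintro _ ⟨g, rfl⟩
    exact ⟨Quotient.mk _ g, rfl⟩
  calc Nat.card (Set.range fun g : J => g * t * g⁻¹)
      ≤ Nat.card (Set.range f) := Nat.card_mono (Set.toFinite _) hsurj
    _ ≤ Nat.card (J ⧸ C) := Finite.card_range_le f

theorem card_centralizer_zK_eq : Nat.card (Subgroup.centralizer ({zK} : Set ↥K)) = 743178240 := by
  have h1 := card_class_le_quot zK
  have hfin : Finite (Set.range fun g : ↥K => g * zK * g⁻¹) := Set.finite_range _
  have h0 : 56925 ≤ Nat.card (Set.range fun g : ↥K => g * zK * g⁻¹) := by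
    have := Nat.card_le_card_of_injective conjEl conjEl_injective
    simpa using this
  have h2 := Subgroup.card_eq_card_quotient_mul_card_subgroup (Subgroup.centralizer ({zK} : Set ↥K))
  rw [card_K_class] at h2
  have h3 := card_centralizer_zK
  have h4 : 56925 ≤ Nat.card (↥K ⧸ Subgroup.centralizer ({zK} : Set ↥K)) := h0.trans h1
  generalize Nat.card (↥K ⧸ Subgroup.centralizer ({zK} : Set ↥K)) = a at h2 h4
  generalize Nat.card (Subgroup.centralizer ({zK} : Set ↥K)) = c at h2 h3 ⊢
  nlinarith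

theorem card_Cen_zP_eq : Nat.card (Cen zP) = 743178240 := by
  rw [← card_centralizer_eq zP zP_mem]
  exact card_centralizer_zK_eq

theorem card_Cen_le : Nat.card (Cen zP) ≤ (clevels.map fun L => L.m).prod := by
  rw [prod_clevels, card_Cen_zP_eq]

instance : Finite ↥(Cen zP) := Nat.finite_of_card_ne_zero (by rw [card_Cen_zP_eq]; norm_num)

/-! ### The functions of the permutations -/

/-- the function of a permutation -/
def fnOf (g : Pm 4600) (i : ℕ) : ℕ := if h : i < 4600 then (g ⟨i, h⟩).1 else i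

theorem rep_fnOf (g : Pm 4600) : Rep (fnOf g) g := by
  intro i
  unfold fnOf
  rw [dif_pos i.2]

theorem fnOf_of_rep {f : ℕ → ℕ} {g : Pm 4600} (h : Rep f g) {i : ℕ} (hi : i < 4600) : fnOf g i = f i := by
  unfold fnOf
  rw [dif_pos hi]
  exact h ⟨i, hi⟩

theorem fnOf_lt (g : Pm 4600) {i : ℕ} (hi : i < 4600) : fnOf g i < 4600 := by
  unfold fnOf
  rw [dif_pos hi]
  exact (g ⟨i, hi⟩).2

theorem fnOf_mul (g h : Pm 4600) {i : ℕ} (hi : i < 4600) : fnOf (g * h) i = fnOf g (fnOf h i) :=
  fnOf_of_rep (rep_mul (rep_fnOf g) (rep_fnOf h)) hi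

theorem fnOf_one {i : ℕ} (hi : i < 4600) : fnOf 1 i = i := fnOf_of_rep rep_one hi

/-! ### The elements of the centraliser act by affine maps -/

theorem letter_spec {y : ℕ} (hy : y ∈ cTabs) : affB (slot 13 y) = true ∧ sympB (slot 13 y) = true := by
  obtain ⟨a, ha, rfl⟩ := List.mem_iff_getElem.mp hy
  have ha' : a < 42 := by rw [← len_cTabs]; exact ha
  have h := allN_spec letters_ok a ha'
  rw [withNat_eq, nthR_eq, List.getD_eq_getElem _ _ ha, Bool.and_eq_true] at h
  exact h

theorem aff_of_mem : ∀ g ∈ Cen zP, ∃ M ∈ symplecticGroup (Fin 3) (ZMod 2), ∃ c, AffF (fnOf g) M c := by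
  apply letters_induction (Cen zP) clevels [] cletters cchain_okK card_Cen_le
  · exact ⟨1, Submonoid.one_mem _, 0, aff_congr (fun i hi => fnOf_one hi) aff_id⟩
  · intro L hL y hy g hg
    obtain ⟨M, hM, c, hMc⟩ := hg
    have hyc : y ∈ cTabs := by
      have h := cin_okK
      unfold lettersIn at h
      exact memT_spec (List.all_eq_true.mp (List.all_eq_true.mp h L hL) y hy)
    obtain ⟨hgood, _⟩ := cTabs_spec hyc
    obtain ⟨h1, h2⟩ := letter_spec hyc
    have haff := aff_of_affB hgood.1 h1
    refine ⟨matOf (colB (slot 13 y)) * M, Submonoid.mul_mem _ (symp_of_sympB h2) hM,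
      matOf (colB (slot 13 y)) *ᵥ c + vecOf (lab (slot 13 y r0)), ?_⟩
    apply aff_congr _ (aff_comp haff hMc)
    intro i hi
    exact fnOf_of_rep (rep_mul (rep_P hgood) (rep_fnOf g)) hi

/-- the matrix of a permutation -/
def matG (g : Pm 4600) : M6 := matOf (colB (fnOf g))

theorem aff_matG {g : Pm 4600} (hg : g ∈ Cen zP) :
    matG g ∈ symplecticGroup (Fin 3) (ZMod 2) ∧ AffF (fnOf g) (matG g) (vecOf (lab (fnOf g r0))) := by
  obtain ⟨M, hM, c, h⟩ := aff_of_mem g hg
  have e : matG g = M := matOf_of_aff h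
  rw [e, ← trans_of_aff h]
  exact ⟨hM, h⟩

theorem matG_mul {g h : Pm 4600} (hg : g ∈ Cen zP) (hh : h ∈ Cen zP) : matG (g * h) = matG g * matG h := by
  have h1 := aff_comp (aff_matG hg).2 (aff_matG hh).2
  exact matOf_of_aff (aff_congr (fun i hi => fnOf_mul g h hi) h1)

theorem matG_one : matG 1 = 1 :=
  matOf_of_aff (aff_congr (fun i hi => fnOf_one hi) aff_id)

/-- a permutation fixing the fixed points of the involution has trivial matrix -/
theorem matG_of_fix {g : Pm 4600} (h : ∀ i < 4600, inF i = true → fnOf g i = i) : matG g = 1 :=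
  matOf_of_aff (aff_of_fix h)

theorem matG_of_rep {f : ℕ → ℕ} {g : Pm 4600} (h : Rep f g) : matG g = matOf (colB f) := by
  apply matOf_congr
  intro j hj
  apply colB_congr _ j hj
  intro i hi
  exact fnOf_of_rep h hi

/-- the homomorphism onto the symplectic group -/
noncomputable def Phi : ↥(Cen zP) →* symplecticGroup (Fin 3) (ZMod 2) where
  toFun g := ⟨matG g.1, (aff_matG g.2).1⟩
  map_one' := Subtype.ext matG_one
  map_mul' g h := Subtype.ext (matG_mul g.2 h.2)

theorem Phi_val (g : ↥(Cen zP)) : ((Phi g : symplecticGroup (Fin 3) (ZMod 2)) : M6) = matG g.1 := rfl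

/-! ### The transvections -/

theorem omB_le (x y : ℕ) : omB x y ≤ 1 := by
  unfold omB
  show _ % 2 ≤ 1
  omega

theorem cwTabs_spec {w : List ℕ} (h : (w.all fun a => Nat.blt a 42) = true) :
    ∀ t ∈ cwTabs w, Good 4600 13 t ∧ P 4600 13 t ∈ Cen zP := by
  intro t ht
  unfold cwTabs at ht
  obtain ⟨a, ha, rfl⟩ := List.mem_map.mp ht
  have ha' : a < cTabs.length := by
    rw [len_cTabs]
    exact blt_iff.mp (List.all_eq_true.mp h a ha)
  rw [nthR_eq, List.getD_eq_getElem _ _ ha']
  exact cTabs_spec (List.getElem_mem ha')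

theorem tv_spec (v : ℕ) (hv0 : 0 < v) (hv : v < 64) : ∃ g : ↥(Cen zP), Phi g = Tg (vecOf v) 1 := by
  have h := allN_spec tvAll_ok (v - 1) (by omega)
  have e : Nat.succ (v - 1) = v := by omega
  rw [e] at h
  unfold tvB at h
  rw [Bool.and_eq_true, withList_eq] at h
  obtain ⟨h1, h2⟩ := h
  obtain ⟨g, hg, hrep⟩ := tabs_rep (Cen zP) (cwTabs (tvWords.getD v [])) (cwTabs_spec h1)
  refine ⟨⟨g, hg⟩, ?_⟩
  apply Subtype.ext
  show matG g = T (vecOf v) 1
  rw [matG_of_rep hrep]
  ext s t
  have h3 := beq_iff.mp (allN_spec h2 (idx t) (idx_lt t))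
  have hfun : (compLookR (cwTabs (tvWords.getD v []))) = compLook 13 (cwTabs (tvWords.getD v [])) := by
    funext i
    exact compLookR_eq _ i
  rw [hfun] at h3
  show vecOf (colB (compLook 13 (cwTabs (tvWords.getD v []))) (idx t)) s = T (vecOf v) 1 s t
  rw [h3, ← mulVec_single_apply (T (vecOf v) 1) s t, T_mulVec, vecOf_xor, vecOf_mul_bit _ _ (omB_le _ _),
    ← vecOf_two_pow, om_vecOf, one_mul]
  rfl

theorem T_zero (v : V6) : T v (0 : ZMod 2) = 1 := by
  unfold T
  rw [zero_smul, add_zero]

theorem T_vec_zero (c : ZMod 2) : T (0 : V6) c = 1 := by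
  unfold T
  rw [zero_vecMul, vecMulVec_zero, smul_zero, add_zero]

theorem Phi_surjective : Function.Surjective Phi := by
  rw [← MonoidHom.range_eq_top, ← top_le_iff, ← TV_eq_top (Fin 3) (ZMod 2)]
  unfold TV
  rw [Subgroup.closure_le]
  rintro _ ⟨⟨v, c⟩, rfl⟩
  show Tg v c ∈ Phi.range
  have hc : c = 0 ∨ c = 1 := by
    revert c
    decide
  rcases hc with rfl | rfl
  · have : Tg v (0 : ZMod 2) = 1 := Subtype.ext (T_zero v)
    rw [this]
    exact Subgroup.one_mem _
  · by_cases h0 : numOf v = 0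
    · have hv : v = 0 := numOf_eq_zero h0
      have : Tg v (1 : ZMod 2) = 1 := by
        apply Subtype.ext
        show T v 1 = 1
        rw [hv]
        exact T_vec_zero 1
      rw [this]
      exact Subgroup.one_mem _
    · obtain ⟨g, hg⟩ := tv_spec (numOf v) (Nat.pos_of_ne_zero h0) (numOf_lt v)
      rw [vecOf_numOf] at hg
      exact ⟨g, hg⟩

/-! ### The order of the kernel -/

theorem card_sp : Nat.card (symplecticGroup (Fin 3) (ZMod 2)) = 1451520 := by
  rw [card_symplectic_fin, ZMod.card]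
  simp [Finset.prod_range_succ]

theorem card_ker : Nat.card Phi.ker = 512 := by
  have h1 := Subgroup.card_mul_index Phi.ker
  rw [Subgroup.index_ker, MonoidHom.range_eq_top.mpr Phi_surjective, Subgroup.card_top, card_sp,
    card_Cen_zP_eq] at h1
  generalize Nat.card ↥Phi.ker = k at h1 ⊢
  omega

end Cfsg.Agent.Helper22.Co2Cen
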