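import Cfsg.Agent.Helper22.Co2CenQ
import Cfsg.Agent.Helper14.PCore
import Cfsg.Agent.Helper3.ExtraspecialEquiv

/-!
# The centraliser of an involution in the second Conway group

The symplectic group of degree six over the field with two elements has no normal 2-subgroup other than the trivial
one, so the kernel of the map of the centraliser onto it is the largest normal 2-subgroup of the centraliser.
-/

set_option autoImplicit false

namespace Cfsg.Agent.Helper22.Co2Cen

open Matrix Cfsg.Agent.Helper2.Sp Cfsg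
open Cfsg.Agent.Helper22.PermPack Cfsg.Agent.Helper22.Co2K

/-- the symplectic group -/
abbrev Sp6 : Type := symplecticGroup (Fin 3) (ZMod 2)

/-- the vectors other than zero -/
def NZ : Type := {v : V6 // v ≠ 0}

instance : Finite NZ := inferInstanceAs (Finite {v : V6 // v ≠ 0})

theorem coe_inv_mul (g : Sp6) : ((g⁻¹ : Sp6) : M6) * (g : M6) = 1 := by
  have h : g⁻¹ * g = 1 := inv_mul_cancel g
  have h' := congrArg Subtype.val h
  exact h'

theorem mulVec_ne_zero (g : Sp6) {v : V6} (hv : v ≠ 0) : (g : M6) *ᵥ v ≠ 0 := by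
  intro h
  apply hv
  have h1 : ((g⁻¹ : Sp6) : M6) *ᵥ ((g : M6) *ᵥ v) = v := by
    rw [mulVec_mulVec, coe_inv_mul, one_mulVec]
  rw [← h1, h, mulVec_zero]

instance : MulAction Sp6 NZ where
  smul g v := ⟨(g : M6) *ᵥ v.1, mulVec_ne_zero g v.2⟩
  one_smul v := by
    apply Subtype.ext
    show ((1 : Sp6) : M6) *ᵥ v.1 = v.1
    exact one_mulVec _
  mul_smul g h v := by
    apply Subtype.ext
    show ((g * h : Sp6) : M6) *ᵥ v.1 = (g : M6) *ᵥ ((h : M6) *ᵥ v.1)
    rw [mulVec_mulVec]
    rfl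

theorem smul_NZ_val (g : Sp6) (v : NZ) : (g • v).1 = (g : M6) *ᵥ v.1 := rfl

theorem card_NZ : Nat.card NZ = 63 := by
  classical
  show Nat.card {v : V6 // v ≠ 0} = 63
  rw [Nat.card_eq_fintype_card, Fintype.card_subtype_compl, Fintype.card_subtype_eq]
  simp

/-- the symplectic group has no normal 2-subgroup other than the trivial one -/
theorem sp_normal_two (N : Subgroup Sp6) (hN : N.Normal) (hp : IsPGroup 2 ↥N) : N = ⊥ := by
  have : Fact (Nat.Prime 2) := ⟨Nat.prime_two⟩
  obtain ⟨v0, hv0⟩ := hp.nonempty_fixed_point_of_prime_not_dvd_card NZ (by rw [card_NZ]; norm_num)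
  rw [MulAction.mem_fixedPoints] at hv0
  rw [Subgroup.eq_bot_iff_forall]
  intro n hn
  have hfix : ∀ w : V6, (n : M6) *ᵥ w = w := by
    intro w
    by_cases hw : w = 0
    · rw [hw, mulVec_zero]
    · obtain ⟨g, hg⟩ := exists_symplectic_mulVec_eq v0.1 w v0.2 hw
      have hmem : g⁻¹ * n * g ∈ N := by
        have := hN.conj_mem n hn g⁻¹
        rwa [inv_inv] at this
      have h1 := congrArg Subtype.val (hv0 ⟨g⁻¹ * n * g, hmem⟩)
      have h2 : ((g⁻¹ * n * g : Sp6) : M6) *ᵥ v0.1 = v0.1 := h1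
      have h3 : ((g⁻¹ * n * g : Sp6) : M6) = ((g⁻¹ : Sp6) : M6) * (n : M6) * (g : M6) := rfl
      rw [h3, ← mulVec_mulVec, ← mulVec_mulVec, hg] at h2
      have h4 : (g : M6) *ᵥ (((g⁻¹ : Sp6) : M6) *ᵥ ((n : M6) *ᵥ w)) = (g : M6) *ᵥ v0.1 := by rw [h2]
      rw [mulVec_mulVec, hg] at h4
      have h5 : (g : M6) * ((g⁻¹ : Sp6) : M6) = 1 := by
        have h : g * g⁻¹ = 1 := mul_inv_cancel g
        exact congrArg Subtype.val h
      rw [h5, one_mulVec] at h4
      exact h4
  apply Subtype.ext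
  show (n : M6) = 1
  ext s t
  rw [← mulVec_single_apply (n : M6) s t, hfix, Matrix.one_apply, Pi.single_apply]

/-- the largest normal 2-subgroup of a group with a map onto the symplectic group with kernel of order 512 -/
theorem pCore_eq_ker {C : Type*} [Group C] (f : C →* Sp6) (hs : Function.Surjective f)
    (hk : Nat.card f.ker = 2 ^ 9) : pCore 2 C = f.ker := by
  have : Fact (Nat.Prime 2) := ⟨Nat.prime_two⟩
  apply le_antisymm
  · unfold pCore
    apply sSup_le
    rintro N ⟨hN, hp⟩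
    have h1 : (N.map f).Normal := Subgroup.Normal.map hN f hs
    have h2 : IsPGroup 2 ↥(N.map f) := hp.map f
    have h3 := sp_normal_two (N.map f) h1 h2
    exact (Subgroup.map_eq_bot_iff N).mp h3
  · exact Cfsg.Agent.Helper14.le_pCore 2 inferInstance (IsPGroup.of_card hk)

theorem shape_of_hom {C : Type*} [Group C] (f : C →* Sp6) (hs : Function.Surjective f)
    (hk : Nat.card f.ker = 2 ^ 9) (hx : IsExtraspecial 2 ↥f.ker) :
    IsExtraspecial 2 ↥(pCore 2 C) ∧ Nat.card ↥(pCore 2 C) = 2 ^ 9 ∧ Nonempty (C ⧸ pCore 2 C ≃* Sp6) := by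
  have h := pCore_eq_ker f hs hk
  refine ⟨?_, ?_, ?_⟩
  · rw [h]; exact hx
  · rw [h]; exact hk
  · exact ⟨(QuotientGroup.quotientMulEquivOfEq h).trans (QuotientGroup.quotientKerEquivOfSurjective f hs)⟩

/-! ### The statement for a group isomorphic to the group of permutations -/

theorem orderOf_zK : orderOf zK = 2 := by
  have : Fact (Nat.Prime 2) := ⟨Nat.prime_two⟩
  apply orderOf_eq_prime
  · apply Subtype.ext
    rw [Subgroup.coe_pow, Subgroup.coe_one, zK_coe, pow_two, zP_sq]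
  · intro h
    have h' := congrArg Subtype.val h
    rw [zK_coe, Subgroup.coe_one] at h'
    exact zP_ne_one h'

theorem Cen_le_K : Cen zP ≤ K := fun _ hg => (mem_Cen.mp hg).2

theorem mem_Cen_of_comm {G : Type*} [Group G] (e : G ≃* ↥K) {x : G}
    (hx : x ∈ Subgroup.centralizer ({e.symm zK} : Set G)) : (e x).1 ∈ Cen zP := by
  have h := Subgroup.mem_centralizer_iff.mp hx (e.symm zK) rfl
  have h' := congrArg e h
  rw [map_mul, map_mul, MulEquiv.apply_symm_apply] at h'
  have h'' := congrArg Subtype.val h'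
  rw [Subgroup.coe_mul, Subgroup.coe_mul, zK_coe] at h''
  exact mem_Cen.mpr ⟨h''.symm, (e x).2⟩

theorem comm_of_mem_Cen {G : Type*} [Group G] (e : G ≃* ↥K) (c : ↥(Cen zP)) :
    e.symm ⟨c.1, Cen_le_K c.2⟩ ∈ Subgroup.centralizer ({e.symm zK} : Set G) := by
  rw [Subgroup.mem_centralizer_iff]
  intro y hy
  rw [Set.mem_singleton_iff] at hy
  subst hy
  have hmul : zK * (⟨c.1, Cen_le_K c.2⟩ : ↥K) = ⟨c.1, Cen_le_K c.2⟩ * zK := by
    apply Subtype.ext
    rw [Subgroup.coe_mul, Subgroup.coe_mul, zK_coe]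
    exact ((mem_Cen.mp c.2).1).symm
  rw [← map_mul, ← map_mul, hmul]

/-- the centraliser of the involution and the group of permutations -/
noncomputable def centEquiv {G : Type*} [Group G] (e : G ≃* ↥K) :
    ↥(Subgroup.centralizer ({e.symm zK} : Set G)) ≃* ↥(Cen zP) where
  toFun x := ⟨(e x.1).1, mem_Cen_of_comm e x.2⟩
  invFun c := ⟨e.symm ⟨c.1, Cen_le_K c.2⟩, comm_of_mem_Cen e c⟩
  left_inv x := by
    apply Subtype.ext
    show e.symm ⟨(e x.1).1, _⟩ = x.1
    have : (⟨(e x.1).1, Cen_le_K (mem_Cen_of_comm e x.2)⟩ : ↥K) = e x.1 := Subtype.ext rfl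
    rw [this, MulEquiv.symm_apply_apply]
  right_inv c := by
    apply Subtype.ext
    show (e (e.symm ⟨c.1, Cen_le_K c.2⟩)).1 = c.1
    rw [MulEquiv.apply_symm_apply]
  map_mul' x y := by
    apply Subtype.ext
    show (e (x.1 * y.1)).1 = (e x.1).1 * (e y.1).1
    rw [map_mul]
    rfl

/-- the kernels of a homomorphism and of its composition with an isomorphism -/
noncomputable def kerEquiv {A B S : Type*} [Group A] [Group B] [Group S] (f : B →* S) (c : A ≃* B) :
    ↥(f.comp c.toMonoidHom).ker ≃* ↥f.ker where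
  toFun x := ⟨c x.1, by
    have := x.2
    rw [MonoidHom.mem_ker] at this ⊢
    exact this⟩
  invFun y := ⟨c.symm y.1, by
    have := y.2
    rw [MonoidHom.mem_ker] at this ⊢
    show f (c (c.symm y.1)) = 1
    rw [MulEquiv.apply_symm_apply]
    exact this⟩
  left_inv x := Subtype.ext (c.symm_apply_apply x.1)
  right_inv y := Subtype.ext (c.apply_symm_apply y.1)
  map_mul' x y := Subtype.ext (map_mul c x.1 y.1)

theorem main {G : Type*} [Group G] (e : G ≃* ↥K) :
    ∃ t : G, orderOf t = 2 ∧ IsExtraspecial 2 ↥(pCore 2 ↥(Subgroup.centralizer ({t} : Set G))) ∧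
      Nat.card ↥(pCore 2 ↥(Subgroup.centralizer ({t} : Set G))) = 2 ^ 9 ∧
      Nonempty (↥(Subgroup.centralizer ({t} : Set G)) ⧸ pCore 2 ↥(Subgroup.centralizer ({t} : Set G)) ≃*
        symplecticGroup (Fin 3) (ZMod 2)) := by
  refine ⟨e.symm zK, by rw [MulEquiv.orderOf_eq, orderOf_zK], ?_⟩
  let f : ↥(Subgroup.centralizer ({e.symm zK} : Set G)) →* Sp6 := Phi.comp (centEquiv e).toMonoidHom
  have hs : Function.Surjective f := Phi_surjective.comp (centEquiv e).surjective
  let k1 : ↥f.ker ≃* ↥Phi.ker := kerEquiv Phi (centEquiv e)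
  let k2 : ↥Phi.ker ≃* ↥QP := Subgroup.equivMapOfInjective Phi.ker (Cen zP).subtype (Subgroup.subtype_injective _)
  have hk : Nat.card f.ker = 2 ^ 9 := by
    rw [Nat.card_congr (k1.trans k2).toEquiv, card_QP]
    norm_num
  have hx : IsExtraspecial 2 ↥f.ker :=
    Cfsg.Agent.Helper3.ExtraspecialEquiv.isExtraspecial_of_mulEquiv (k1.trans k2).symm isExtraspecial_QP
  exact shape_of_hom f hs hk hx

end Cfsg.Agent.Helper22.Co2Cen
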