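import Cfsg.Agent.Helper22.Co2CenHom
import Cfsg.Agent.Helper14.Frattini
import Cfsg.Agent.Helper1.PGroup

/-!
# The centraliser of an involution in the group on 4600 points: the kernel is extraspecial

The kernel of the map onto the symplectic group has order 512 and acts regularly on an orbit of 512 points, so its
elements are given by the images of the base point of the orbit.
-/

set_option autoImplicit false

namespace Cfsg.Agent.Helper22.Co2Cen

open Cfsg.Agent.Helper22.PermPack Cfsg.Agent.Helper22.Co2KData Cfsg.Agent.Helper22.Co2CenData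
open Cfsg.Agent.Helper22.Co2K
open scoped commutatorElement

/-- the kernel, as a group of permutations -/
noncomputable def QP : Subgroup (Pm 4600) := Phi.ker.map (Cen zP).subtype

theorem mem_QP {g : Pm 4600} : g ∈ QP ↔ g ∈ Cen zP ∧ matG g = 1 := by
  unfold QP
  rw [Subgroup.mem_map]
  constructor
  · rintro ⟨x, hx, rfl⟩
    refine ⟨x.2, ?_⟩
    have := congrArg Subtype.val (MonoidHom.mem_ker.mp hx)
    exact this
  · rintro ⟨h1, h2⟩
    refine ⟨⟨g, h1⟩, ?_, rfl⟩
    rw [MonoidHom.mem_ker]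
    exact Subtype.ext h2

theorem card_QP : Nat.card QP = 512 := by
  unfold QP
  rw [Subgroup.card_map_of_injective (Subgroup.subtype_injective _), card_ker]

instance : Finite ↥QP := Nat.finite_of_card_ne_zero (by rw [card_QP]; norm_num)

theorem QP_le : QP ≤ Cen zP := fun _ hg => (mem_QP.mp hg).1

theorem mem_QP_of_fix {g : Pm 4600} (hg : g ∈ Cen zP) (h : ∀ i < 4600, inF i = true → fnOf g i = i) : g ∈ QP :=
  mem_QP.mpr ⟨hg, matG_of_fix h⟩

theorem fix_of_fixB {t : ℕ} (ht : Good 4600 13 t) (h : fixB t = true) :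
    ∀ i < 4600, inF i = true → fnOf (P 4600 13 t) i = i := by
  intro i hi hiF
  rw [fnOf_of_rep (rep_P ht) hi]
  have h1 := allN_spec h i hi
  rw [hiF] at h1
  simp only [Bool.not_true, Bool.false_or, beq_iff] at h1
  exact h1

theorem zP_mem_Cen : zP ∈ Cen zP := mem_Cen.mpr ⟨rfl, zP_mem⟩

theorem zP_mem_QP : zP ∈ QP := mem_QP_of_fix zP_mem_Cen (fix_of_fixB z_good zfix_ok)

theorem zP_comm {g : Pm 4600} (hg : g ∈ QP) : g * zP = zP * g := (mem_Cen.mp (QP_le hg)).1

theorem hb : QL.b < 4600 := by decide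

theorem fnOf_zP {i : ℕ} (hi : i < 4600) : fnOf zP i = slot 13 zT i := fnOf_of_rep (rep_P z_good) hi

theorem zP_ne_one : zP ≠ 1 := by
  intro h
  have h1 := zinv_ok
  simp only [Bool.and_eq_true, Bool.not_eq_true', beq_eq_false_iff_ne] at h1
  have h2 : fnOf zP QL.b = QL.b := by rw [h]; exact fnOf_one hb
  rw [fnOf_zP hb] at h2
  have h3 := h1.2
  rw [h2] at h3
  simp at h3

theorem zP_sq : zP * zP = 1 := by
  apply eq_one_of_rep (rep_mul (rep_P z_good) (rep_P z_good))
  intro i hi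
  have h1 := zinv_ok
  rw [Bool.and_eq_true] at h1
  exact beq_iff.mp (allN_spec h1.1 i hi)

/-! ### The generators and the orbit -/

theorem qgen_spec {y : ℕ} (hy : y ∈ qY) : Good 4600 13 y ∧ P 4600 13 y ∈ QP := by
  obtain ⟨a, ha, rfl⟩ := List.mem_iff_getElem.mp hy
  have ha' : a < 9 := by rw [← len_qY]; exact ha
  have h := allN_spec qgen_ok a ha'
  unfold qgenB at h
  rw [withNat_eq, nthR_eq, List.getD_eq_getElem _ _ ha] at h
  simp only [Bool.and_eq_true, withList_eq] at h
  obtain ⟨⟨⟨h1, h2⟩, h3⟩, h4⟩ := h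
  have hgood := good_of_goodB h1
  refine ⟨hgood, ?_⟩
  obtain ⟨g, hg, hrep⟩ := tabs_rep (Cen zP) (cwTabs (qWords.getD a [])) (cwTabs_spec h3)
  have e : P 4600 13 qY[a] = g := by
    apply rep_unique (rep_P hgood)
    apply rep_congr hrep
    intro i hi
    rw [beq_iff.mp (allN_spec h4 i hi), compLookR_eq]
  have hmem : P 4600 13 qY[a] ∈ Cen zP := by rw [e]; exact hg
  exact mem_QP_of_fix hmem (fix_of_fixB hgood h2)

theorem qletters : LettersIn (n := 4600) (w := 13) QP [QL] := by
  intro L hL y hy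
  rw [List.mem_singleton] at hL
  subst hL
  exact qgen_spec hy

theorem card_QP_le : Nat.card QP ≤ ([QL].map fun L => L.m).prod := by
  rw [card_QP]
  decide

theorem QL_spec : 0 < QL.m ∧ tpt 13 QL 0 = QL.b ∧ QL.b < 4600 ∧ tword 6 7 QL 0 = 0 ∧
    ∀ k < QL.m, tpt 13 QL k < 4600 ∧ slot 13 QL.pos (tpt 13 QL k) = k ∧
      wordOK 6 QL.Y.length 7 (tword 6 7 QL k) = true ∧
      compLook 13 (wordTabs 6 QL.Y 7 (tword 6 7 QL k)) QL.b = tpt 13 QL k := by
  have h3 := qchain_ok
  simp only [tchainOK, Bool.and_eq_true] at h3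
  exact tlevel_spec h3.1

theorem qts_eq (k : ℕ) : qts k = wordTabs 6 QL.Y 7 (tword 6 7 QL k) := by
  unfold qts
  rw [wApp_eq, List.append_nil]
  rfl

/-- the function of the word of a place -/
def ev (k : ℕ) (i : ℕ) : ℕ := compLook 13 (qts k) i

theorem compLookR_qts (k i : ℕ) : compLookR (qts k) i = ev k i := compLookR_eq _ i

theorem ev_base {k : ℕ} (hk : k < 512) : ev k QL.b = tpt 13 QL k := by
  unfold ev
  rw [qts_eq]
  exact (QL_spec.2.2.2.2 k hk).2.2.2

theorem qts_spec {k : ℕ} (hk : k < 512) : ∀ t ∈ qts k, Good 4600 13 t ∧ P 4600 13 t ∈ QP := by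
  intro t ht
  rw [qts_eq] at ht
  exact qgen_spec (wordTabs_sub QL.Y 7 _ (QL_spec.2.2.2.2 k hk).2.2.1 t ht)

theorem exists_el {k : ℕ} (hk : k < 512) : ∃ g ∈ QP, Rep (ev k) g := tabs_rep QP (qts k) (qts_spec hk)

theorem exists_place {g : Pm 4600} (hg : g ∈ QP) : ∃ k < 512, Rep (ev k) g := by
  obtain ⟨p, hp, hrep⟩ := tchain_complete QP [QL] [] qletters qchain_ok card_QP_le g hg
  match p, hp with
  | [], hp => simp [pathValidT] at hp
  | k :: [], hp =>
    simp only [pathValidT, Bool.and_eq_true, blt_iff] at hp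
    refine ⟨k, hp.1, ?_⟩
    apply rep_congr hrep
    intro i _
    unfold ev
    rw [qts_eq]
    show _ = compLook 13 (wordTabs 6 QL.Y 7 (tword 6 7 QL k) ++ []) i
    rw [List.append_nil]
  | k :: k' :: p, hp => simp [pathValidT] at hp

/-- the elements of the kernel are given by the images of the base point -/
theorem eq_of_base {g h : Pm 4600} (hg : g ∈ QP) (hh : h ∈ QP) (e : fnOf g QL.b = fnOf h QL.b) : g = h := by
  have h1 : h⁻¹ * g = 1 := by
    apply eq_one_of_fix_tbase QP [QL] [] qletters qchain_ok card_QP_le _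
      (Subgroup.mul_mem _ (Subgroup.inv_mem _ hh) hg)
    intro L hL hb'
    rw [List.mem_singleton] at hL
    subst hL
    show h⁻¹ (g ⟨QL.b, hb'⟩) = ⟨QL.b, hb'⟩
    rw [Equiv.Perm.inv_eq_iff_eq]
    apply Fin.ext
    have e1 := rep_fnOf g ⟨QL.b, hb'⟩
    have e2 := rep_fnOf h ⟨QL.b, hb'⟩
    rw [e1, e2]
    exact e
  calc g = h * (h⁻¹ * g) := by group
    _ = h := by rw [h1, mul_one]

theorem fnOf_el {k : ℕ} {g : Pm 4600} (h : Rep (ev k) g) {i : ℕ} (hi : i < 4600) : fnOf g i = ev k i :=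
  fnOf_of_rep h hi

theorem fnOf_P {y : ℕ} (hy : y ∈ qY) {i : ℕ} (hi : i < 4600) : fnOf (P 4600 13 y) i = slot 13 y i :=
  fnOf_of_rep (rep_P (qgen_spec hy).1) hi

/-! ### The structure -/

theorem gen_comm {a : Pm 4600} (ha : a ∈ QP) {y : ℕ} (hy : y ∈ qY) :
    a * P 4600 13 y = P 4600 13 y * a ∨ a * P 4600 13 y = zP * (P 4600 13 y * a) := by
  obtain ⟨k, hk, hrep⟩ := exists_place ha
  have hyQ := (qgen_spec hy).2
  have h := allN_spec gpair_ok k hk
  rw [withList_eq, withNat_eq] at h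
  have h1 := List.all_eq_true.mp h y hy
  rw [withNat_eq, withNat_eq, Bool.or_eq_true, beq_iff, beq_iff, compLookR_qts, compLookR_qts] at h1
  have hlt : slot 13 y QL.b < 4600 := (qgen_spec hy).1.1 _ hb
  have hlt2 : ev k QL.b < 4600 := by rw [← fnOf_el hrep hb]; exact fnOf_lt a hb
  have e1 : fnOf (a * P 4600 13 y) QL.b = ev k (slot 13 y QL.b) := by
    rw [fnOf_mul _ _ hb, fnOf_P hy hb, fnOf_el hrep hlt]
  have e2 : fnOf (P 4600 13 y * a) QL.b = slot 13 y (ev k QL.b) := by
    rw [fnOf_mul _ _ hb, fnOf_el hrep hb, fnOf_P hy hlt2]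
  rcases h1 with h1 | h1
  · left
    apply eq_of_base (Subgroup.mul_mem _ ha hyQ) (Subgroup.mul_mem _ hyQ ha)
    rw [e1, e2, h1]
  · right
    apply eq_of_base (Subgroup.mul_mem _ ha hyQ) (Subgroup.mul_mem _ zP_mem_QP (Subgroup.mul_mem _ hyQ ha))
    have hlt3 : fnOf (P 4600 13 y * a) QL.b < 4600 := fnOf_lt _ hb
    rw [e1, fnOf_mul zP _ hb, fnOf_zP hlt3, e2, h1]

theorem comm_step {G : Type*} [Group G] {z a b y : G} (hzy : y * z = z * y) (hzz : z * z = 1)
    (h1 : a * y = y * a ∨ a * y = z * (y * a)) (h2 : a * b = b * a ∨ a * b = z * (b * a)) :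
    a * (y * b) = y * b * a ∨ a * (y * b) = z * (y * b * a) := by
  rcases h1 with h1 | h1 <;> rcases h2 with h2 | h2
  · left
    calc a * (y * b) = a * y * b := by group
      _ = y * (a * b) := by rw [h1]; group
      _ = y * b * a := by rw [h2]; group
  · right
    calc a * (y * b) = a * y * b := by group
      _ = y * (a * b) := by rw [h1]; group
      _ = y * z * (b * a) := by rw [h2]; group
      _ = z * (y * b * a) := by rw [hzy]; group
  · right
    calc a * (y * b) = a * y * b := by group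
      _ = z * (y * (a * b)) := by rw [h1]; group
      _ = z * (y * b * a) := by rw [h2]; group
  · left
    calc a * (y * b) = a * y * b := by group
      _ = z * (y * (a * b)) := by rw [h1]; group
      _ = z * (y * z) * (b * a) := by rw [h2]; group
      _ = z * z * (y * b * a) := by rw [hzy]; group
      _ = y * b * a := by rw [hzz, one_mul]

theorem pair_comm : ∀ b ∈ QP, ∀ a ∈ QP, a * b = b * a ∨ a * b = zP * (b * a) := by
  apply letters_induction QP [QL] [] qletters qchain_ok card_QP_le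
  · intro a _
    left
    rw [mul_one, one_mul]
  · intro L hL y hy b hb' a ha
    rw [List.mem_singleton] at hL
    subst hL
    exact comm_step (zP_comm (qgen_spec hy).2) zP_sq (gen_comm ha hy) (hb' a ha)

theorem sq_mem {a : Pm 4600} (ha : a ∈ QP) : a * a = 1 ∨ a * a = zP := by
  obtain ⟨k, hk, hrep⟩ := exists_place ha
  have h := allN_spec sq_ok k hk
  rw [withList_eq, withNat_eq, Bool.or_eq_true, beq_iff, beq_iff, compLookR_qts] at h
  have hlt : fnOf a QL.b < 4600 := fnOf_lt a hb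
  have e1 : fnOf (a * a) QL.b = ev k (tpt 13 QL k) := by
    rw [fnOf_mul _ _ hb, fnOf_el hrep hlt, fnOf_el hrep hb, ev_base hk]
  rcases h with h | h
  · left
    apply eq_of_base (Subgroup.mul_mem _ ha ha) (Subgroup.one_mem _)
    rw [e1, h, fnOf_one hb]
  · right
    apply eq_of_base (Subgroup.mul_mem _ ha ha) zP_mem_QP
    rw [e1, h, fnOf_zP hb]

theorem centre_mem {a : Pm 4600} (ha : a ∈ QP) (hc : ∀ b ∈ QP, b * a = a * b) : a = 1 ∨ a = zP := by
  obtain ⟨k, hk, hrep⟩ := exists_place ha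
  have h := allN_spec centre_ok k hk
  rw [Bool.or_eq_true, Bool.or_eq_true, beq_iff, beq_iff, withList_eq, withNat_eq] at h
  rcases h with (h | h) | h
  · left
    apply eq_of_base ha (Subgroup.one_mem _)
    rw [fnOf_el hrep hb, ev_base hk, h, QL_spec.2.1, fnOf_one hb]
  · right
    apply eq_of_base ha zP_mem_QP
    have h1 := kz_ok
    simp only [Bool.and_eq_true, blt_iff, beq_iff] at h1
    rw [fnOf_el hrep hb, ev_base hk, h, h1.2, fnOf_zP hb]
  · exfalso
    obtain ⟨y, hy, hne⟩ := List.any_eq_true.mp h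
    rw [compLookR_qts, compLookR_qts] at hne
    have hlt : slot 13 y QL.b < 4600 := (qgen_spec hy).1.1 _ hb
    have hlt2 : ev k QL.b < 4600 := by rw [← fnOf_el hrep hb]; exact fnOf_lt a hb
    have e1 : fnOf (a * P 4600 13 y) QL.b = ev k (slot 13 y QL.b) := by
      rw [fnOf_mul _ _ hb, fnOf_P hy hb, fnOf_el hrep hlt]
    have e2 : fnOf (P 4600 13 y * a) QL.b = slot 13 y (ev k QL.b) := by
      rw [fnOf_mul _ _ hb, fnOf_el hrep hb, fnOf_P hy hlt2]
    have hcy := hc _ (qgen_spec hy).2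
    rw [hcy, e1] at e2
    rw [e2] at hne
    simp at hne

theorem exists_noncomm : ∃ a ∈ QP, ∃ b ∈ QP, a * b = zP * (b * a) ∧ a * b ≠ b * a := by
  obtain ⟨a, ha, hra⟩ := exists_el (k := 1) (by norm_num)
  obtain ⟨b, hb', hrb⟩ := exists_el (k := 7) (by norm_num)
  have h := nc_ok
  unfold ncB qev at h
  rw [withNat_eq, withNat_eq, compLookR_qts, compLookR_qts, Bool.and_eq_true, beq_iff] at h
  have hlta : fnOf a QL.b < 4600 := fnOf_lt a hb
  have hltb : fnOf b QL.b < 4600 := fnOf_lt b hb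
  have e1 : fnOf (a * b) QL.b = ev 1 (tpt 13 QL 7) := by
    rw [fnOf_mul _ _ hb, fnOf_el hra hltb, fnOf_el hrb hb, ev_base (by norm_num)]
  have e2 : fnOf (b * a) QL.b = ev 7 (tpt 13 QL 1) := by
    rw [fnOf_mul _ _ hb, fnOf_el hrb hlta, fnOf_el hra hb, ev_base (by norm_num)]
  refine ⟨a, ha, b, hb', ?_, ?_⟩
  · apply eq_of_base (Subgroup.mul_mem _ ha hb') (Subgroup.mul_mem _ zP_mem_QP (Subgroup.mul_mem _ hb' ha))
    have hlt3 : fnOf (b * a) QL.b < 4600 := fnOf_lt _ hb
    rw [e1, fnOf_mul zP _ hb, fnOf_zP hlt3, e2, h.2]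
  · intro hab
    rw [hab, e2] at e1
    rw [e1] at h
    simp at h

/-- the involution, as an element of the kernel -/
noncomputable def zQ : ↥QP := ⟨zP, zP_mem_QP⟩

theorem zQ_coe : (zQ : Pm 4600) = zP := Subtype.coe_mk zP zP_mem_QP

theorem orderOf_zQ : orderOf zQ = 2 := by
  have : Fact (Nat.Prime 2) := ⟨Nat.prime_two⟩
  apply orderOf_eq_prime
  · apply Subtype.ext
    rw [Subgroup.coe_pow, Subgroup.coe_one, zQ_coe, pow_two, zP_sq]
  · intro h
    have h' := congrArg Subtype.val h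
    rw [zQ_coe, Subgroup.coe_one] at h'
    exact zP_ne_one h'

theorem mem_center_QP (g : ↥QP) : g ∈ Subgroup.center ↥QP ↔ (g : Pm 4600) = 1 ∨ (g : Pm 4600) = zP := by
  rw [Subgroup.mem_center_iff]
  constructor
  · intro hg
    apply centre_mem g.2
    intro b hb'
    have := congrArg Subtype.val (hg ⟨b, hb'⟩)
    rw [Subgroup.coe_mul, Subgroup.coe_mul] at this
    exact this
  · rintro (hg | hg) q
    · apply Subtype.ext
      rw [Subgroup.coe_mul, Subgroup.coe_mul, hg, mul_one, one_mul]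
    · apply Subtype.ext
      rw [Subgroup.coe_mul, Subgroup.coe_mul, hg]
      exact zP_comm q.2

theorem center_QP : Subgroup.center ↥QP = Subgroup.zpowers zQ := by
  apply le_antisymm
  · intro g hg
    rcases (mem_center_QP g).1 hg with h | h
    · have : g = 1 := Subtype.ext (h.trans (Subgroup.coe_one QP).symm)
      rw [this]; exact Subgroup.one_mem _
    · have : g = zQ := Subtype.ext (h.trans zQ_coe.symm)
      rw [this]; exact Subgroup.mem_zpowers _
  · rw [Subgroup.zpowers_le]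
    exact (mem_center_QP zQ).2 (Or.inr zQ_coe)

theorem comm_mem_center (a b : ↥QP) : ⁅a, b⁆ ∈ Subgroup.center ↥QP := by
  rw [mem_center_QP, commutatorElement_def, Subgroup.coe_mul, Subgroup.coe_mul, Subgroup.coe_mul,
    Subgroup.coe_inv, Subgroup.coe_inv]
  rcases pair_comm b.1 b.2 a.1 a.2 with h | h
  · left
    rw [h]
    group
  · right
    rw [h]
    group

theorem sq_mem_center (a : ↥QP) : a ^ 2 ∈ Subgroup.center ↥QP := by
  rw [mem_center_QP, Subgroup.coe_pow, pow_two]
  exact sq_mem a.2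

theorem zQ_mem_commutator : zQ ∈ commutator ↥QP := by
  obtain ⟨a, ha, b, hb', hab, -⟩ := exists_noncomm
  have e2 : zQ = ⁅(⟨a, ha⟩ : ↥QP), ⟨b, hb'⟩⁆ := by
    apply Subtype.ext
    rw [zQ_coe, commutatorElement_def, Subgroup.coe_mul, Subgroup.coe_mul, Subgroup.coe_mul,
      Subgroup.coe_inv, Subgroup.coe_inv]
    show zP = a * b * a⁻¹ * b⁻¹
    rw [hab]
    group
  rw [e2, commutator_def]
  exact Subgroup.commutator_mem_commutator (Subgroup.mem_top _) (Subgroup.mem_top _)

/-- the kernel is extraspecial -/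
theorem isExtraspecial_QP : IsExtraspecial 2 ↥QP := by
  have : Fact (Nat.Prime 2) := ⟨Nat.prime_two⟩
  have hP : IsPGroup 2 ↥QP := IsPGroup.of_card (n := 9) (by rw [card_QP]; norm_num)
  have hcle : commutator ↥QP ≤ Subgroup.center ↥QP := by
    rw [commutator_def, Subgroup.commutator_le]
    intro a _ b _
    exact comm_mem_center a b
  have hcge : Subgroup.center ↥QP ≤ commutator ↥QP := by
    rw [center_QP, Subgroup.zpowers_le]
    exact zQ_mem_commutator
  have hceq : commutator ↥QP = Subgroup.center ↥QP := le_antisymm hcle hcge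
  refine ⟨⟨hP, ?_, hceq⟩, ?_⟩
  · apply le_antisymm
    · exact Cfsg.Agent.Helper14.frattini_le_of_elemAb 2 _ comm_mem_center sq_mem_center
    · rw [← hceq]
      exact Cfsg.Agent.Helper1.IsPGroup.commutator_le_frattini hP
  · rw [center_QP, Nat.card_zpowers, orderOf_zQ]

end Cfsg.Agent.Helper22.Co2Cen
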