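import Cfsg.Agent.Helper22.Co2Abs

/-!
# A simplicity criterion for the stabiliser of a minimal vector

An abstract criterion: a finite group acting transitively on a set of `47104` points with a simple point
stabiliser of order `898128000`, and on a set of `93150` points with a fixed point free involution commuting with
the action, is simple of order `42305421312000` under a few more hypotheses.
-/

set_option autoImplicit false

namespace Cfsg.Agent.Helper22.Co2Crit

open MulAction
open scoped Pointwise

variable {G W X : Type*} [Group G] [MulAction G W] [MulAction G X]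

/-- a normal subgroup meeting one point stabiliser trivially acts freely -/
theorem free_of_inf_eq_bot [IsPretransitive G W] (N : Subgroup G) (hNn : N.Normal) (w0 : W)
    (h : ∀ n ∈ N, n • w0 = w0 → n = 1) : ∀ n ∈ N, ∀ w : W, n • w = w → n = 1 := by
  intro n hn w hw
  obtain ⟨g, rfl⟩ := exists_smul_eq G w0 w
  have h1 : g⁻¹ * n * g ∈ N := by
    have := hNn.conj_mem n hn g⁻¹
    simpa using this
  have h2 : (g⁻¹ * n * g) • w0 = w0 := by
    rw [mul_smul, mul_smul, hw, inv_smul_smul]
  have h3 := h _ h1 h2
  have h4 : n = g * (g⁻¹ * n * g) * g⁻¹ := by group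
  rw [h4, h3]
  group

/-- the order of a normal subgroup acting freely divides the number of points -/
theorem card_dvd_of_free [IsPretransitive G W] [Finite W] (N : Subgroup G) (hNn : N.Normal) (w0 : W)
    (h : ∀ n ∈ N, n • w0 = w0 → n = 1) : Nat.card N ∣ Nat.card W := by
  have := hNn
  have hB : IsBlock G (orbit N w0) := IsBlock.orbit_of_normal w0
  have h1 := hB.ncard_dvd_card (nonempty_orbit w0)
  have hinj : Function.Injective (fun n : N => n • w0) := by
    intro a b hab
    have hab' : a • w0 = b • w0 := hab
    have h2 : ((a⁻¹ * b : N) : G) • w0 = w0 := by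
      show (a⁻¹ * b) • w0 = w0
      rw [mul_smul, ← hab', inv_smul_smul]
    have h3 := h _ (a⁻¹ * b).2 h2
    have h4 : a⁻¹ * b = 1 := Subtype.ext h3
    exact inv_mul_eq_one.mp h4
  have h2 : (orbit N w0).ncard = Nat.card N := by
    rw [← Nat.card_coe_set_eq]
    exact Nat.card_range_of_injective hinj
  rwa [h2] at h1

/-- the criterion -/
theorem simple_of_data [Finite G] [IsPretransitive G W] [IsPretransitive G X]
    (hW : Nat.card W = 47104) (hX : Nat.card X = 93150)
    (neg : X → X) (hneg : ∀ (g : G) x, neg (g • x) = g • neg x) (hneg2 : ∀ x, neg (neg x) = x)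
    (hneg1 : ∀ x, neg x ≠ x)
    (w0 : W) (hS : IsSimpleGroup (stabilizer G w0)) (hScard : Nat.card (stabilizer G w0) = 898128000)
    (H2 : ∀ w : W, (∀ s ∈ stabilizer G w0, s • w = w) → w = w0)
    (H3 : ∀ g : G, (∀ x : X, g • x = x ∨ g • x = neg x) → g = 1)
    (x0 : X)
    (H4 : ∀ N : Subgroup G, N.Normal → (∀ w : W, stabilizer G w ≤ N) →
      stabilizer G x0 ≤ N ∧ ∃ t ∈ N, t • x0 = neg x0)
    (Q : Subgroup G) (hQ : IsSimpleGroup Q) (hQcard : Nat.card Q = 10200960) :
    IsSimpleGroup G ∧ Nat.card G = 42305421312000 := by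
  classical
  have hWfin : Finite W := Nat.finite_of_card_ne_zero (by rw [hW]; norm_num)
  have hXfin : Finite X := Nat.finite_of_card_ne_zero (by rw [hX]; norm_num)
  have hSidx : (stabilizer G w0).index = 47104 := by rw [index_stabilizer_of_transitive, hW]
  have hGcard : Nat.card G = 42305421312000 := by
    rw [← Subgroup.card_mul_index (stabilizer G w0), hScard, hSidx]
  refine ⟨?_, hGcard⟩
  have hnt : Nontrivial G := by
    obtain ⟨a, b, hab⟩ := hS.toNontrivial.exists_pair_ne
    exact ⟨⟨a.1, b.1, fun h => hab (Subtype.ext h)⟩⟩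
  refine ⟨fun N hNn => ?_⟩
  by_cases hbot : N = ⊥
  · exact Or.inl hbot
  right
  rcases hS.eq_bot_or_eq_top_of_normal (N.subgroupOf (stabilizer G w0)) inferInstance with h | h
  · -- the normal subgroup acts freely
    exfalso
    have hfree0 : ∀ n ∈ N, n • w0 = w0 → n = 1 := by
      intro n hn hw
      have h1 : (⟨n, mem_stabilizer_iff.mpr hw⟩ : stabilizer G w0) ∈ N.subgroupOf (stabilizer G w0) :=
        Subgroup.mem_subgroupOf.mpr hn
      rw [h, Subgroup.mem_bot] at h1
      exact congrArg Subtype.val h1
    have hfree := free_of_inf_eq_bot N hNn w0 hfree0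
    have hdvd : Nat.card N ∣ 47104 := hW ▸ card_dvd_of_free N hNn w0 hfree0
    obtain ⟨a, b, hab⟩ : ∃ a b, Nat.card N = 2 ^ a * 23 ^ b := by
      have hdvd' := hdvd
      rw [show (47104 : ℕ) = 2 ^ 11 * 23 ^ 1 by norm_num] at hdvd'
      obtain ⟨d1, d2, h1, h2, h3⟩ := (Nat.dvd_mul).mp hdvd'
      obtain ⟨i, -, rfl⟩ := (Nat.dvd_prime_pow Nat.prime_two).mp h1
      obtain ⟨j, -, rfl⟩ := (Nat.dvd_prime_pow (by norm_num : Nat.Prime 23)).mp h2
      exact ⟨i, j, h3.symm⟩
    have hsolv : Group.IsSolvable N :=
      Cfsg.Agent.Helper24.isSolvable_of_card_eq_prime_pow_mul 2 23 a b Nat.prime_two (by norm_num) hab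
    obtain ⟨p, hp, M, hMn, hMbot, hMN, hMp⟩ := Co2Abs.exists_normal_pgroup _ N hNn hbot hsolv rfl
    have hMfree : ∀ m ∈ M, ∀ w : W, m • w = w → m = 1 := fun m hm => hfree m (hMN hm)
    have hMpg : IsPGroup p M := by
      intro x
      refine ⟨1, ?_⟩
      rw [pow_one]
      exact Subtype.ext (hMp x.1 x.2)
    have hMcard_dvd : Nat.card M ∣ 47104 := (Subgroup.card_dvd_of_le hMN).trans hdvd
    obtain ⟨x1, hx1M, hx1⟩ : ∃ x ∈ M, x ≠ 1 := by
      by_contra hcon
      push Not at hcon
      exact hMbot ((Subgroup.eq_bot_iff_forall M).mpr hcon)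
    have hp_dvd : p ∣ 47104 := by
      have : Fact p.Prime := ⟨hp⟩
      have h1 : orderOf x1 = p := orderOf_eq_prime (hMp x1 hx1M) hx1
      have h2 : orderOf x1 ∣ Nat.card M := Subgroup.orderOf_dvd_natCard M hx1M
      rw [h1] at h2
      exact h2.trans hMcard_dvd
    have hp2 : p = 2 ∨ p = 23 := by
      rw [show (47104 : ℕ) = 2 ^ 11 * 23 by norm_num] at hp_dvd
      rcases (Nat.Prime.dvd_mul hp).mp hp_dvd with h1 | h1
      · left
        exact (Nat.prime_dvd_prime_iff_eq hp Nat.prime_two).mp (hp.dvd_of_dvd_pow h1)
      · right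
        exact (Nat.prime_dvd_prime_iff_eq hp (by norm_num)).mp h1
    rcases hp2 with rfl | rfl
    · -- a `2`-group fixes a pair
      let PP : SubMulAction G (Set X) :=
        { carrier := {t | ∃ x ∈ (Set.univ : Set X), t = {x, neg x}}
          smul_mem' := by
            rintro g t ⟨x, -, rfl⟩
            refine ⟨g • x, Set.mem_univ _, ?_⟩
            rw [Set.smul_set_insert, Set.smul_set_singleton, hneg] }
      have hPPcard : 2 * Nat.card PP = 93150 := by
        have h1 := Co2Abs.two_mul_ncard_pairs (Set.univ : Set X) Set.finite_univ neg (fun _ _ => Set.mem_univ _)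
          (fun x _ => hneg2 x) (fun x _ => hneg1 x)
        rw [Set.ncard_univ, hX] at h1
        rw [← h1]
        congr 1
      have hodd : ¬ 2 ∣ Nat.card PP := by omega
      obtain ⟨P0, hfix⟩ := hMpg.nonempty_fixed_point_of_prime_not_dvd_card PP hodd
      obtain ⟨x, -, hxP⟩ : ∃ x ∈ (Set.univ : Set X), P0.1 = {x, neg x} := P0.2
      have hpair : ∀ m ∈ M, m • x = x ∨ m • x = neg x := by
        intro m hm
        have h1 := hfix ⟨m, hm⟩
        have h2 : m • ({x, neg x} : Set X) = {x, neg x} := by
          rw [← hxP]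
          exact congrArg Subtype.val h1
        have h3 : m • x ∈ m • ({x, neg x} : Set X) := Set.smul_mem_smul_set (Set.mem_insert _ _)
        rw [h2] at h3
        simpa using h3
      have hall : ∀ m ∈ M, ∀ y : X, m • y = y ∨ m • y = neg y := by
        intro m hm y
        obtain ⟨g, rfl⟩ := exists_smul_eq G x y
        have hc : g⁻¹ * m * g ∈ M := by simpa using hMn.conj_mem m hm g⁻¹
        have h0 : m • g • x = g • ((g⁻¹ * m * g) • x) := by simp [mul_smul]
        rcases hpair _ hc with h1 | h1
        · left
          rw [h0, h1]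
        · right
          rw [h0, h1, hneg]
      exact hx1 (H3 x1 (hall x1 hx1M))
    · -- a group of order `23`
      have : Fact (Nat.Prime 23) := ⟨by norm_num⟩
      have hM23 : Nat.card M = 23 := by
        obtain ⟨k, hk⟩ := (IsPGroup.iff_card).mp hMpg
        rw [hk] at hMcard_dvd
        have hk1 : k ≠ 0 := by
          rintro rfl
          rw [pow_zero] at hk
          exact hMbot (Subgroup.card_eq_one.mp hk)
        have hk2 : k < 2 := by
          by_contra hge
          push Not at hge
          have : 23 ^ 2 ∣ 47104 := (pow_dvd_pow 23 hge).trans hMcard_dvd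
          norm_num at this
        have : k = 1 := by omega
        rw [hk, this, pow_one]
      have hzp : ∀ y ∈ M, ∃ k : ℤ, x1 ^ k = y := by
        intro y hy
        have h1 : (⟨x1, hx1M⟩ : M) ≠ 1 := fun h => hx1 (congrArg Subtype.val h)
        have h2 := zpowers_eq_top_of_prime_card hM23 h1
        have h3 : (⟨y, hy⟩ : M) ∈ Subgroup.zpowers (⟨x1, hx1M⟩ : M) := by
          rw [h2]
          trivial
        obtain ⟨k, hk⟩ := Subgroup.mem_zpowers_iff.mp h3
        exact ⟨k, by simpa using congrArg Subtype.val hk⟩
      have hCn : (Subgroup.centralizer (M : Set G)).Normal := by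
        have := hMn
        exact Subgroup.normal_centralizer
      rcases hS.eq_bot_or_eq_top_of_normal ((Subgroup.centralizer (M : Set G)).subgroupOf (stabilizer G w0))
        inferInstance with hc | hc
      · have hinj : Function.Injective
            (fun s : stabilizer G w0 => (⟨s.1 * x1 * s.1⁻¹, hMn.conj_mem x1 hx1M s.1⟩ : M)) := by
          intro s s' hss
          have h1 : s.1 * x1 * s.1⁻¹ = s'.1 * x1 * s'.1⁻¹ := congrArg Subtype.val hss
          have h2 : (s'.1⁻¹ * s.1) * x1 = x1 * (s'.1⁻¹ * s.1) := by
            have e1 : (s'.1⁻¹ * s.1) * x1 = s'.1⁻¹ * (s.1 * x1 * s.1⁻¹) * s.1 := by group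
            rw [e1, h1]
            group
          have h3 : (s'⁻¹ * s) ∈ (Subgroup.centralizer (M : Set G)).subgroupOf (stabilizer G w0) := by
            rw [Subgroup.mem_subgroupOf, Subgroup.mem_centralizer_iff]
            intro y hy
            obtain ⟨k, rfl⟩ := hzp y hy
            have hcomm : Commute (s'.1⁻¹ * s.1) x1 := h2
            exact (hcomm.zpow_right k).symm.eq
          rw [hc, Subgroup.mem_bot] at h3
          exact (inv_mul_eq_one.mp h3).symm
        have := Nat.card_le_card_of_injective _ hinj
        rw [hScard, hM23] at this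
        omega
      · have hSC : ∀ s ∈ stabilizer G w0, s * x1 = x1 * s := by
          intro s hs
          have h1 : (⟨s, hs⟩ : stabilizer G w0) ∈
              (Subgroup.centralizer (M : Set G)).subgroupOf (stabilizer G w0) := by
            rw [hc]
            trivial
          rw [Subgroup.mem_subgroupOf, Subgroup.mem_centralizer_iff] at h1
          exact (h1 x1 hx1M).symm
        have h1 : x1 • w0 = w0 := by
          apply H2
          intro s hs
          rw [← mul_smul, hSC s hs, mul_smul, mem_stabilizer_iff.mp hs]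
        exact hx1 (hMfree x1 hx1M w0 h1)
  · -- the normal subgroup contains the point stabilisers
    have hSN : stabilizer G w0 ≤ N := Subgroup.subgroupOf_eq_top.mp h
    have hall : ∀ w : W, stabilizer G w ≤ N := by
      intro w k hk
      obtain ⟨g, rfl⟩ := exists_smul_eq G w0 w
      have h1 : g⁻¹ * k * g ∈ stabilizer G w0 := by
        rw [mem_stabilizer_iff, mul_smul, mul_smul, mem_stabilizer_iff.mp hk, inv_smul_smul]
      have h2 := hNn.conj_mem _ (hSN h1) g
      have h3 : g * (g⁻¹ * k * g) * g⁻¹ = k := by group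
      rwa [h3] at h2
    obtain ⟨hSx, t, htN, ht⟩ := H4 N hNn hall
    have hm1 : N.index ∣ 47104 := hSidx ▸ Subgroup.index_dvd_of_le hSN
    have hSxidx : (stabilizer G x0).index = 93150 := by rw [index_stabilizer_of_transitive, hX]
    have hrel := Subgroup.relIndex_mul_index hSx
    have heven : Even ((stabilizer G x0).relIndex N) := by
      have e1 : (stabilizer G x0).subgroupOf N = stabilizer N x0 := by
        ext n
        rw [Subgroup.mem_subgroupOf, mem_stabilizer_iff, mem_stabilizer_iff]
        rfl
      unfold Subgroup.relIndex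
      rw [e1, index_stabilizer]
      apply Co2Abs.even_ncard_of_involution _ (Set.toFinite _) neg
      · rintro _ ⟨n, rfl⟩
        refine ⟨n * ⟨t, htN⟩, ?_⟩
        show (n.1 * t) • x0 = neg (n.1 • x0)
        rw [mul_smul, ht, hneg]
      · intro x _
        exact hneg2 x
      · intro x _
        exact hneg1 x
    have hm2 : N.index ∣ 46575 := by
      obtain ⟨r, hr⟩ := heven
      rw [hSxidx, hr] at hrel
      exact ⟨r, by nlinarith⟩
    have hm3 : N.index ∣ 23 := by
      have h1 := Nat.dvd_gcd hm1 hm2
      norm_num at h1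
      exact h1
    have hQN : Q ≤ N := by
      rcases hQ.eq_bot_or_eq_top_of_normal (N.subgroupOf Q) inferInstance with hq | hq
      · exfalso
        have h1 : N.relIndex Q = Nat.card Q := by
          unfold Subgroup.relIndex
          rw [hq, Subgroup.index_bot]
        have h2 : N.relIndex Q ∣ N.index := Subgroup.relIndex_dvd_index_of_normal N Q
        rw [h1, hQcard] at h2
        have := Nat.le_of_dvd (by norm_num) (h2.trans hm3)
        omega
      · exact Subgroup.subgroupOf_eq_top.mp hq
    have hm4 : N.index ∣ 4147200 := by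
      have h1 := Subgroup.index_dvd_of_le hQN
      have h2 := Subgroup.card_mul_index Q
      rw [hQcard, hGcard] at h2
      have h3 : Q.index = 4147200 := by omega
      rwa [h3] at h1
    have h2 := Nat.dvd_gcd hm3 hm4
    have h3 : Nat.gcd 23 4147200 = 1 := by norm_num
    rw [h3, Nat.dvd_one] at h2
    exact Subgroup.index_eq_one.mp h2

end Cfsg.Agent.Helper22.Co2Crit
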