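import Cfsg.Agent.Helper22.Co2K2
import Cfsg.Prelude.Def_Spor_Conway

/-!
# All the automorphisms of the second Conway group are inner

The second Conway group of the definitions is isomorphic to the stabiliser of the standard minimal vector, which is
the group of order 42305421312000 on 4600 points.
-/

set_option autoImplicit false

namespace Cfsg.Agent.Helper22.Co2Iso

open Cfsg Cfsg.Agent.Helper27 Cfsg.Agent.Helper22.Co0Mono Cfsg.Agent.Helper22.Co0Center
  Cfsg.Agent.Helper22.QuadForm Cfsg.Agent.Helper22.MinTrans Cfsg.Agent.Helper22.HS100b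
  Cfsg.Agent.Helper22.Co2K Cfsg.Agent.Helper22.OutTwo Cfsg.Agent.Helper22.Co2Simple

theorem center_K : Subgroup.center ↥K = ⊥ := by
  have := K_simple
  apply center_eq_bot_of_simple
  rw [card_K]
  norm_num

theorem card_out_K : Nat.card (Cfsg.Out ↥K) = 1 := card_out_eq_one_of_le center_K card_mulAut_K

theorem card_out_G2 : Nat.card (Cfsg.Out ↥G2) = 1 := by
  rw [card_out_congr' equivK]
  exact card_out_K

theorem sqNorm_U : sqNorm (Spor.leechU : GolayPt → ℤ) = 32 := by
  show sqNorm Spor.vecU = 32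
  decide +kernel

theorem mem_Co2 (σ : Equiv.Perm ↥leechLattice) :
    σ ∈ Spor.Co2 ↔ σ ∈ Co0 ∧ σ Spor.leechU = Spor.leechU := by
  unfold Spor.Co2
  rw [Subgroup.mem_inf, MulAction.mem_stabilizer_iff, Equiv.Perm.smul_def]

theorem exists_g0 : ∃ g : ↥Co0, g • Spor.leechU = a01 := min_transitive Spor.leechU a01 sqNorm_U n3

/-- the second Conway group is isomorphic to the stabiliser of the standard minimal vector -/
theorem nonempty_equiv : Nonempty (↥Spor.Co2 ≃* ↥G2) := by
  obtain ⟨g0, hV⟩ := exists_g0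
  have hV' : g0⁻¹ • a01 = Spor.leechU := by rw [inv_smul_eq_iff, hV]
  let toC : ↥Spor.Co2 → ↥Co0 := fun σ => ⟨σ.1, ((mem_Co2 σ.1).mp σ.2).1⟩
  have toC_V : ∀ σ, toC σ • Spor.leechU = Spor.leechU := fun σ => ((mem_Co2 σ.1).mp σ.2).2
  have hmem : ∀ σ, g0 * toC σ * g0⁻¹ ∈ G2 := by
    intro σ
    rw [mem_G2, mul_smul, mul_smul, hV', toC_V, hV]
  let f : ↥Spor.Co2 →* ↥G2 :=
    { toFun := fun σ => ⟨g0 * toC σ * g0⁻¹, hmem σ⟩
      map_one' := by
        apply Subtype.ext
        show g0 * toC 1 * g0⁻¹ = 1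
        have : toC 1 = 1 := rfl
        rw [this]
        group
      map_mul' := by
        intro σ τ
        apply Subtype.ext
        show g0 * toC (σ * τ) * g0⁻¹ = (g0 * toC σ * g0⁻¹) * (g0 * toC τ * g0⁻¹)
        have : toC (σ * τ) = toC σ * toC τ := rfl
        rw [this]
        group }
  have hinj : Function.Injective f := by
    intro σ τ h
    have h1 : g0 * toC σ * g0⁻¹ = g0 * toC τ * g0⁻¹ := congrArg Subtype.val h
    have h2 : toC σ = toC τ := mul_left_cancel (mul_right_cancel h1)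
    have h3 : (toC σ).1 = (toC τ).1 := congrArg Subtype.val h2
    exact Subtype.ext h3
  have hsurj : Function.Surjective f := by
    intro k
    have hk : k.1 • a01 = a01 := (mem_G2 k.1).mp k.2
    set s : ↥Co0 := g0⁻¹ * k.1 * g0 with hs
    have sV : s • Spor.leechU = Spor.leechU := by
      rw [hs, mul_smul, mul_smul, hV, hk, hV']
    have hsmem : s.1 ∈ Spor.Co2 := (mem_Co2 s.1).mpr ⟨s.2, sV⟩
    refine ⟨⟨s.1, hsmem⟩, ?_⟩
    apply Subtype.ext
    show g0 * toC ⟨s.1, hsmem⟩ * g0⁻¹ = k.1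
    have : toC ⟨s.1, hsmem⟩ = s := rfl
    rw [this, hs]
    group
  exact ⟨MulEquiv.ofBijective f ⟨hinj, hsurj⟩⟩

/-- all the automorphisms of the second Conway group are inner -/
theorem card_out_Co2 : Nat.card (Cfsg.Out ↥Spor.Co2) = 1 := by
  obtain ⟨e⟩ := nonempty_equiv
  rw [card_out_congr' e]
  exact card_out_G2

end Cfsg.Agent.Helper22.Co2Iso
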