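import Cfsg.Agent.Helper22.Co2KDefs
import Cfsg.Agent.Helper22.PermPack4

/-!
# Kernel facts about the group of order 42305421312000 on 4600 points: the chain of the subgroup of order 2^18

Generated by a script.  The checks run one after the other, to bound the memory.
-/

set_option autoImplicit false
set_option Elab.async false

namespace Cfsg.Agent.Helper22.Co2K

open Cfsg.Agent.Helper22.PermPack Cfsg.Agent.Helper22.Co2KData

theorem schainD_okK : chainOKD 4600 13 [0, 840, 2056, 1295, 3634] sY slevels = true := by decide +kernel

end Cfsg.Agent.Helper22.Co2K
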