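import Cfsg.Agent.Helper22.Co2KDefs

/-!
# Kernel facts about the group of order 42305421312000 on 4600 points: the tables

Generated by a script.  The checks run one after the other, to bound the memory.
-/

set_option autoImplicit false
set_option Elab.async false

namespace Cfsg.Agent.Helper22.Co2K

open Cfsg.Agent.Helper22.PermPack Cfsg.Agent.Helper22.Co2KData

theorem good_okK0 : goodR (0 * 27) 27 = true := by decide +kernel

theorem good_okK1 : goodR (1 * 27) 27 = true := by decide +kernel

theorem good_okK2 : goodR (2 * 27) 27 = true := by decide +kernel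

theorem good_okK3 : goodR (3 * 27) 27 = true := by decide +kernel

theorem good_all : ∀ r, r < 4 → goodR (r * 27) 27 = true
  | 0, _ => good_okK0
  | 1, _ => good_okK1
  | 2, _ => good_okK2
  | 3, _ => good_okK3
  | n + 4, h => absurd h (by omega)

theorem lines_okK0 : linesR (0 * 4) 4 = true := by decide +kernel

theorem lines_okK1 : linesR (1 * 4) 4 = true := by decide +kernel

theorem lines_okK2 : linesR (2 * 4) 4 = true := by decide +kernel

theorem lines_okK3 : linesR (3 * 4) 4 = true := by decide +kernel

theorem lines_okK4 : linesR (4 * 4) 4 = true := by decide +kernel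

theorem lines_okK5 : linesR (5 * 4) 4 = true := by decide +kernel

theorem lines_okK6 : linesR (6 * 4) 4 = true := by decide +kernel

theorem lines_okK7 : linesR (7 * 4) 4 = true := by decide +kernel

theorem lines_okK8 : linesR (8 * 4) 4 = true := by decide +kernel

theorem lines_okK9 : linesR (9 * 4) 4 = true := by decide +kernel

theorem lines_okK10 : linesR (10 * 4) 4 = true := by decide +kernel

theorem lines_okK11 : linesR (11 * 4) 4 = true := by decide +kernel

theorem lines_okK12 : linesR (12 * 4) 4 = true := by decide +kernel

theorem lines_okK13 : linesR (13 * 4) 4 = true := by decide +kernel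

theorem lines_okK14 : linesR (14 * 4) 4 = true := by decide +kernel

theorem lines_okK15 : linesR (15 * 4) 4 = true := by decide +kernel

theorem lines_okK16 : linesR (16 * 4) 4 = true := by decide +kernel

theorem lines_okK17 : linesR (17 * 4) 4 = true := by decide +kernel

theorem lines_okK18 : linesR (18 * 4) 4 = true := by decide +kernel

theorem lines_okK19 : linesR (19 * 4) 4 = true := by decide +kernel

theorem lines_okK20 : linesR (20 * 4) 4 = true := by decide +kernel

theorem lines_okK21 : linesR (21 * 4) 4 = true := by decide +kernel

theorem lines_okK22 : linesR (22 * 4) 4 = true := by decide +kernel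

theorem lines_okK23 : linesR (23 * 4) 4 = true := by decide +kernel

theorem lines_okK24 : linesR (24 * 4) 4 = true := by decide +kernel

theorem lines_okK25 : linesR (25 * 4) 4 = true := by decide +kernel

theorem lines_okK26 : linesR (26 * 4) 4 = true := by decide +kernel

theorem lines_all : ∀ r, r < 27 → linesR (r * 4) 4 = true
  | 0, _ => lines_okK0
  | 1, _ => lines_okK1
  | 2, _ => lines_okK2
  | 3, _ => lines_okK3
  | 4, _ => lines_okK4
  | 5, _ => lines_okK5
  | 6, _ => lines_okK6
  | 7, _ => lines_okK7
  | 8, _ => lines_okK8
  | 9, _ => lines_okK9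
  | 10, _ => lines_okK10
  | 11, _ => lines_okK11
  | 12, _ => lines_okK12
  | 13, _ => lines_okK13
  | 14, _ => lines_okK14
  | 15, _ => lines_okK15
  | 16, _ => lines_okK16
  | 17, _ => lines_okK17
  | 18, _ => lines_okK18
  | 19, _ => lines_okK19
  | 20, _ => lines_okK20
  | 21, _ => lines_okK21
  | 22, _ => lines_okK22
  | 23, _ => lines_okK23
  | 24, _ => lines_okK24
  | 25, _ => lines_okK25
  | 26, _ => lines_okK26
  | n + 27, h => absurd h (by omega)

end Cfsg.Agent.Helper22.Co2K
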