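import Cfsg.Agent.Helper22.Co2KDefs

/-!
# Kernel facts about the group of order 42305421312000 on 4600 points: letters, commuting tables, relations

Generated by a script.  The checks run one after the other, to bound the memory.
-/

set_option autoImplicit false
set_option Elab.async false

namespace Cfsg.Agent.Helper22.Co2K

open Cfsg.Agent.Helper22.PermPack Cfsg.Agent.Helper22.Co2KData

theorem kletters_okK0 : lettersB KL0 = true := by decide +kernel

theorem kletters_okK1 : lettersB KL1 = true := by decide +kernel

theorem kletters_okK2 : lettersB KL2 = true := by decide +kernel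

theorem kletters_okK3 : lettersB KL3 = true := by decide +kernel

theorem kletters_okK4 : lettersB KL4 = true := by decide +kernel

theorem zcommC_okK0 : commR zT cTabs (0 * 14) 14 = true := by decide +kernel

theorem zcommC_okK1 : commR zT cTabs (1 * 14) 14 = true := by decide +kernel

theorem zcommC_okK2 : commR zT cTabs (2 * 14) 14 = true := by decide +kernel

theorem zcommC_all : ∀ r, r < 3 → commR zT cTabs (r * 14) 14 = true
  | 0, _ => zcommC_okK0
  | 1, _ => zcommC_okK1
  | 2, _ => zcommC_okK2
  | n + 3, h => absurd h (by omega)

theorem zcommS_okK0 : commR zT sY (0 * 13) 13 = true := by decide +kernel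

theorem zcommS_okK1 : commR zT sY (1 * 13) 13 = true := by decide +kernel

theorem zcommS_all : ∀ r, r < 2 → commR zT sY (r * 13) 13 = true
  | 0, _ => zcommS_okK0
  | 1, _ => zcommS_okK1
  | n + 2, h => absurd h (by omega)

theorem rel_okK0 : relB 0 = true := by decide +kernel

theorem rel_okK1 : relB 1 = true := by decide +kernel

theorem rel_okK2 : relB 2 = true := by decide +kernel

theorem rel_okK3 : relB 3 = true := by decide +kernel

theorem rel_okK4 : relB 4 = true := by decide +kernel

theorem rel_okK5 : relB 5 = true := by decide +kernel

theorem rel_okK6 : relB 6 = true := by decide +kernel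

theorem rel_all : ∀ r, r < 7 → relB r = true
  | 0, _ => rel_okK0
  | 1, _ => rel_okK1
  | 2, _ => rel_okK2
  | 3, _ => rel_okK3
  | 4, _ => rel_okK4
  | 5, _ => rel_okK5
  | 6, _ => rel_okK6
  | n + 7, h => absurd h (by omega)

end Cfsg.Agent.Helper22.Co2K
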