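import Cfsg.Agent.Helper22.OutOne

/-!
# Groups generated by two elements all of whose automorphisms are inner: a variant

As `OutOne`, with a lower bound for the order of the centraliser of `u` instead of a subgroup of given order.
-/

set_option autoImplicit false

namespace Cfsg.Agent.Helper22.OutTwo

open Cfsg.Agent.Helper14.J3Out

/-- the size of a conjugacy class of an element whose centraliser has at least `c` elements -/
theorem card_class_le_of_le {J : Type*} [Group J] [Finite J] (c mc : ℕ) (hc : 0 < c)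
    (hcard : Nat.card J = c * mc) (t : J) (hC : c ≤ Nat.card (Subgroup.centralizer ({t} : Set J))) :
    Nat.card (Set.range fun g : J => g * t * g⁻¹) ≤ mc := by
  classical
  let C : Subgroup J := Subgroup.centralizer {t}
  let f : J ⧸ C → J := Quotient.lift (fun g : J => g * t * g⁻¹) (by
    intro a b hab
    have hab' : a⁻¹ * b ∈ C := QuotientGroup.leftRel_apply.1 hab
    have h2 := (Subgroup.mem_centralizer_iff.1 hab') t (Set.mem_singleton t)
    show a * t * a⁻¹ = b * t * b⁻¹
    have e : b = a * (a⁻¹ * b) := by group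
    rw [e]
    calc a * t * a⁻¹ = a * (t * (a⁻¹ * b)) * (a⁻¹ * b)⁻¹ * a⁻¹ := by group
      _ = a * ((a⁻¹ * b) * t) * (a⁻¹ * b)⁻¹ * a⁻¹ := by rw [h2]
      _ = a * (a⁻¹ * b) * t * (a * (a⁻¹ * b))⁻¹ := by group)
  have hsurj : Set.range (fun g : J => g * t * g⁻¹) ⊆ Set.range f := by
    rintro _ ⟨g, rfl⟩
    exact ⟨Quotient.mk _ g, rfl⟩
  have h1 : Nat.card (Set.range fun g : J => g * t * g⁻¹) ≤ Nat.card (J ⧸ C) := by
    calc Nat.card (Set.range fun g : J => g * t * g⁻¹)
        ≤ Nat.card (Set.range f) := Nat.card_mono (Set.toFinite _) hsurj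
      _ ≤ Nat.card (J ⧸ C) := Finite.card_range_le f
  have h2 := Subgroup.card_eq_card_quotient_mul_card_subgroup C
  rw [hcard] at h2
  have h3 : Nat.card (J ⧸ C) * c ≤ c * mc := by
    rw [h2]
    exact Nat.mul_le_mul_left _ hC
  have h4 : Nat.card (J ⧸ C) ≤ mc := by
    rw [Nat.mul_comm] at h3
    exact Nat.le_of_mul_le_mul_left h3 hc
  exact h1.trans h4

theorem card_mulAut_le_card_of_le {J : Type*} [Group J] [Finite J] (p m c mc : ℕ) [hp : Fact p.Prime]
    (hcard : Nat.card J = p * m) (hpm : ¬ p ∣ m) (hc : 0 < c) (hcard' : Nat.card J = c * mc)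
    (x u n : J) (hgen : Subgroup.closure {x, u} = ⊤) (hu : orderOf u = p)
    (hV : c ≤ Nat.card (Subgroup.centralizer ({u} : Set J)))
    (r : ℕ) (hn : n * u * n⁻¹ = u ^ r)
    (hr : ∀ k, 0 < k → k < p → ∃ j, k % p = r ^ j % p)
    (S : Finset J) (hS : S.card ≤ c)
    (hstab : ∀ φ : MulAut J, φ u = u → φ x ∈ S) :
    Nat.card (MulAut J) ≤ Nat.card J := by
  classical
  have hO : ∀ w : J, orderOf w = p → w ∈ Set.range fun g : J => g * u * g⁻¹ := by
    intro w hw
    obtain ⟨g, k, hk0, hkp, rfl⟩ := exists_conj_pow p m hcard hpm u w hu hw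
    obtain ⟨j, hj⟩ := hr k hk0 hkp
    refine ⟨g * n ^ j, ?_⟩
    have e : u ^ k = u ^ (r ^ j) := by
      calc u ^ k = u ^ (k % orderOf u) := (pow_mod_orderOf u k).symm
        _ = u ^ (r ^ j % orderOf u) := by rw [hu, hj]
        _ = u ^ (r ^ j) := pow_mod_orderOf u _
    show g * n ^ j * u * (g * n ^ j)⁻¹ = g * u ^ k * g⁻¹
    rw [e, ← conj_pow_eq u hn j]
    group
  have hc1 : Nat.card (Set.range fun g : J => g * u * g⁻¹) ≤ mc :=
    card_class_le_of_le c mc hc hcard' u hV
  have horb : Nat.card (MulAction.orbit (MulAut J) u) ≤ mc := by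
    have hsub : MulAction.orbit (MulAut J) u ⊆ Set.range fun g : J => g * u * g⁻¹ := by
      rintro _ ⟨φ, rfl⟩
      apply hO
      show orderOf (φ u) = p
      rw [MulEquiv.orderOf_eq, hu]
    exact (Nat.card_mono (Set.toFinite _) hsub).trans hc1
  have hst : Nat.card (MulAction.stabilizer (MulAut J) u) ≤ c := by
    let f : MulAction.stabilizer (MulAut J) u → S := fun φ =>
      ⟨φ.1 x, hstab φ.1 (MulAction.mem_stabilizer_iff.1 φ.2)⟩
    have hf : Function.Injective f := by
      intro φ ψ h
      have h1 : φ.1 x = ψ.1 x := congrArg Subtype.val h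
      have h2 : φ.1 u = u := MulAction.mem_stabilizer_iff.1 φ.2
      have h3 : ψ.1 u = u := MulAction.mem_stabilizer_iff.1 ψ.2
      apply Subtype.ext
      apply MulEquiv.toMonoidHom_injective
      apply MonoidHom.eq_of_eqOn_dense hgen
      intro y hy
      rcases hy with rfl | hy
      · exact h1
      · rw [Set.mem_singleton_iff] at hy
        subst hy
        show φ.1 y = ψ.1 y
        rw [h2, h3]
    calc Nat.card (MulAction.stabilizer (MulAut J) u) ≤ Nat.card S :=
          Nat.card_le_card_of_injective f hf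
      _ = S.card := by rw [Nat.card_eq_fintype_card, Fintype.card_coe]
      _ ≤ c := hS
  have hprod : Nat.card (MulAut J) = Nat.card (MulAction.orbit (MulAut J) u) *
      Nat.card (MulAction.stabilizer (MulAut J) u) := by
    rw [← Nat.card_prod]
    exact (Nat.card_congr (MulAction.orbitProdStabilizerEquivGroup (MulAut J) u)).symm
  rw [hprod, hcard']
  calc Nat.card (MulAction.orbit (MulAut J) u) * Nat.card (MulAction.stabilizer (MulAut J) u)
      ≤ mc * c := Nat.mul_le_mul horb hst
    _ = c * mc := Nat.mul_comm _ _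

end Cfsg.Agent.Helper22.OutTwo
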