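import Cfsg.Agent.Helper22.Co2KChkA
import Cfsg.Agent.Helper22.Co2KChkA2
import Cfsg.Agent.Helper22.Co2KChkB
import Cfsg.Agent.Helper22.Co2KChkC
import Cfsg.Agent.Helper22.OutOne2

/-!
# The group of order 42305421312000 on 4600 points: generalities

The group `K` generated by an involution `z` and an element `u` of order seven.  All the tables of the data are
products of earlier tables, so they lie in `K`; the chain of words shows that `K` has at least 42305421312000
elements, and given the opposite inequality the paths of the chain give all the elements.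
-/

set_option autoImplicit false
set_option maxRecDepth 8000

namespace Cfsg.Agent.Helper22.Co2K

open Cfsg Cfsg.Agent.Helper22.PermPack Cfsg.Agent.Helper22.Co2KData Cfsg.Agent.Helper22.OutTwo
  Cfsg.Agent.Helper14.J3Out

/-! ### Generalities on tables -/

theorem eq_of_rep {n : ℕ} {f f' : ℕ → ℕ} {g g' : Pm n} (h : Rep f g) (h' : Rep f' g')
    (hff : ∀ i < n, f i = f' i) : g = g' :=
  rep_unique h (rep_congr h' hff)

theorem eq_one_of_rep {n : ℕ} {f : ℕ → ℕ} {g : Pm n} (h : Rep f g) (hf : ∀ i < n, f i = i) : g = 1 :=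
  eq_of_rep h rep_one hf

theorem rep_apply {n : ℕ} {f : ℕ → ℕ} {g : Pm n} (h : Rep f g) {i : ℕ} (hi : i < n) : (g ⟨i, hi⟩).1 = f i :=
  h ⟨i, hi⟩

/-! ### The group and the tables -/

/-- the group -/
noncomputable def K : Subgroup (Pm 4600) := Grp 4600 13 [zT, uT]

theorem tb_zero : tb 0 = zT := rfl

theorem tb_one : tb 1 = uT := rfl

theorem good_spec (k : ℕ) (hk : k < 108) : Good 4600 13 (tb k) := by
  have hr : k / 27 < 4 := by omega
  have h := allN_spec (good_all (k / 27) hr) (k % 27) (Nat.mod_lt _ (by norm_num))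
  have e : Nat.add (k / 27 * 27) (k % 27) = k := by
    show k / 27 * 27 + k % 27 = k
    omega
  rw [e] at h
  exact good_of_goodB h

theorem line_spec (k : ℕ) (hk : k < 108) : lineB k = true := by
  have hr : k / 4 < 27 := by omega
  have h := allN_spec (lines_all (k / 4) hr) (k % 4) (Nat.mod_lt _ (by norm_num))
  have e : Nat.add (k / 4 * 4) (k % 4) = k := by
    show k / 4 * 4 + k % 4 = k
    omega
  rw [e] at h
  exact h

/-- the tables lie in the group -/
theorem tb_mem : ∀ k, k < 108 → P 4600 13 (tb k) ∈ K := by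
  intro k
  induction k using Nat.strong_induction_on with
  | _ k ih =>
    intro hk
    have h := line_spec k hk
    unfold lineB at h
    rw [Bool.or_eq_true, blt_iff] at h
    rcases h with h | h
    · have : k = 0 ∨ k = 1 := by omega
      rcases this with rfl | rfl
      · rw [tb_zero]
        exact P_mem_Grp (by simp)
      · rw [tb_one]
        exact P_mem_Grp (by simp)
    · rw [withList_eq, Bool.and_eq_true, withNat_eq, withList_eq] at h
      obtain ⟨h1, h2⟩ := h
      have hts : ∀ t ∈ (slpW.getD k []).map (fun a => tb a), Good 4600 13 t ∧ P 4600 13 t ∈ K := by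
        intro t ht
        obtain ⟨a, ha, rfl⟩ := List.mem_map.mp ht
        have hak : a < k := blt_iff.mp (List.all_eq_true.mp h1 a ha)
        exact ⟨good_spec a (by omega), ih a hak (by omega)⟩
      obtain ⟨g, hg, hrep⟩ := tabs_rep K _ hts
      have : P 4600 13 (tb k) = g :=
        eq_of_rep (rep_P (good_spec k hk)) hrep (fun i hi => beq_iff.mp (allN_spec h2 i hi))
      rw [this]
      exact hg

theorem allT_spec {y : ℕ} (hy : y ∈ allT) : Good 4600 13 y ∧ P 4600 13 y ∈ K := by
  obtain ⟨k, hk, hky⟩ := List.mem_iff_getElem.mp hy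
  have hk' : k < 108 := by rw [← len_allT]; exact hk
  have e : tb k = y := by
    rw [← hky]
    exact List.getD_eq_getElem _ _ hk
  rw [← e]
  exact ⟨good_spec k hk', tb_mem k hk'⟩

theorem memT_allT {y : ℕ} (h : memT y allT = true) : Good 4600 13 y ∧ P 4600 13 y ∈ K :=
  allT_spec (memT_spec h)

/-! ### The chain of the group -/

theorem lettersB_spec {L : TLv} (h : lettersB L = true) :
    (∀ y ∈ L.Y, Good 4600 13 y ∧ P 4600 13 y ∈ K) ∧ L.Yi.length = L.Y.length ∧
      ∀ a < L.Y.length, Good 4600 13 (L.Yi.getD a 0) ∧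
        ∀ i < 4600, slot 13 (L.Y.getD a 0) (slot 13 (L.Yi.getD a 0) i) = i := by
  unfold lettersB at h
  rw [Bool.and_eq_true, Bool.and_eq_true, beq_iff] at h
  obtain ⟨⟨h1, h2⟩, h3⟩ := h
  refine ⟨fun y hy => memT_allT (List.all_eq_true.mp h1 y hy), h2, ?_⟩
  intro a ha
  have := allN_spec h3 a ha
  rw [withNat_eq, withNat_eq, Bool.and_eq_true] at this
  exact ⟨(memT_allT this.1).1, fun i hi => beq_iff.mp (allN_spec this.2 i hi)⟩

theorem klevels_mem {L : TLv} (hL : L ∈ klevels) : lettersB L = true := by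
  unfold klevels at hL
  simp only [List.mem_cons, List.not_mem_nil, or_false] at hL
  rcases hL with rfl | rfl | rfl | rfl | rfl
  · exact kletters_okK0
  · exact kletters_okK1
  · exact kletters_okK2
  · exact kletters_okK3
  · exact kletters_okK4

theorem kletters : LettersIn (n := 4600) (w := 13) K klevels :=
  fun _ hL => (lettersB_spec (klevels_mem hL)).1

theorem kinv : InvLetters (n := 4600) (w := 13) klevels :=
  fun _ hL => (lettersB_spec (klevels_mem hL)).2

theorem card_K_ge : 42305421312000 ≤ Nat.card ↥K := by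
  rw [← prod_klevels]
  exact tchain_card_le K klevels [] kletters kchain_okK

theorem z_good : Good 4600 13 zT := good_spec 0 (by norm_num)

theorem u_good : Good 4600 13 uT := good_spec 1 (by norm_num)

/-- the involution -/
noncomputable def zP : Pm 4600 := P 4600 13 zT

/-- the element of order seven -/
noncomputable def uP : Pm 4600 := P 4600 13 uT

theorem zP_mem : zP ∈ K := P_mem_Grp (by simp)

theorem uP_mem : uP ∈ K := P_mem_Grp (by simp)

/-! ### The element of order seven -/

theorem upows_spec : upow 1 = uT ∧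
    (∀ e < 5, Good 4600 13 (upow (e + 2)) ∧ P 4600 13 (upow (e + 2)) ∈ K ∧
      ∀ i < 4600, slot 13 (upow (e + 2)) i = slot 13 uT (slot 13 (upow (e + 1)) i)) ∧
    (∀ i < 4600, slot 13 uT (slot 13 (upow 6) i) = i) ∧ slot 13 uT 0 ≠ 0 := by
  have h := upows_okK
  unfold upowsB at h
  simp only [Bool.and_eq_true, withNat_eq] at h
  obtain ⟨⟨⟨h1, h2⟩, h3⟩, h4⟩ := h
  refine ⟨beq_iff.mp h1, ?_, fun i hi => beq_iff.mp (allN_spec h3 i hi), ?_⟩
  · intro e he
    have := allN_spec h2 e he
    rw [Bool.and_eq_true] at this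
    exact ⟨(memT_allT this.1).1, (memT_allT this.1).2, fun i hi => beq_iff.mp (allN_spec this.2 i hi)⟩
  · intro h0
    rw [Bool.not_eq_true', ← Bool.not_eq_true, beq_iff] at h4
    exact h4 h0

theorem rep_upow : ∀ e, e < 6 → Rep (slot 13 (upow (e + 1))) (uP ^ (e + 1)) := by
  intro e
  induction e with
  | zero =>
    intro _
    rw [zero_add, pow_one, upows_spec.1]
    exact rep_P u_good
  | succ e ih =>
    intro he
    rw [pow_succ']
    exact rep_congr (rep_mul (rep_P u_good) (ih (by omega))) (upows_spec.2.1 e (by omega)).2.2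

theorem rep_upow' {e : ℕ} (h0 : 0 < e) (h7 : e < 7) : Rep (slot 13 (upow e)) (uP ^ e) := by
  obtain ⟨e', rfl⟩ : ∃ e', e = e' + 1 := ⟨e - 1, by omega⟩
  exact rep_upow e' (by omega)

theorem uP_pow : uP ^ 7 = 1 := by
  rw [pow_succ']
  exact eq_one_of_rep (rep_mul (rep_P u_good) (rep_upow 5 (by norm_num))) upows_spec.2.2.1

theorem uP_ne : uP ≠ 1 := by
  intro h
  have e := rep_apply (rep_P u_good) (i := 0) (by norm_num)
  rw [show P 4600 13 uT = uP from rfl, h] at e
  exact upows_spec.2.2.2 e.symm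

/-- the involution, in the group -/
noncomputable def zK : ↥K := ⟨zP, zP_mem⟩

/-- the element of order seven, in the group -/
noncomputable def uK : ↥K := ⟨uP, uP_mem⟩

theorem zK_coe : (zK : Pm 4600) = zP := Subtype.coe_mk zP zP_mem

theorem uK_coe : (uK : Pm 4600) = uP := Subtype.coe_mk uP uP_mem

theorem zK_coe' : (zK : Pm 4600) = P 4600 13 zT := Subtype.coe_mk (P 4600 13 zT) zP_mem

theorem uK_coe' : (uK : Pm 4600) = P 4600 13 uT := Subtype.coe_mk (P 4600 13 uT) uP_mem

theorem orderOf_uK : orderOf uK = 7 := by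
  have : Fact (Nat.Prime 7) := ⟨by norm_num⟩
  apply orderOf_eq_prime
  · apply Subtype.ext
    rw [Subgroup.coe_pow, Subgroup.coe_one, uK_coe]
    exact uP_pow
  · intro h
    have h' := congrArg Subtype.val h
    rw [Subgroup.coe_one, uK_coe] at h'
    exact uP_ne h'

/-! ### The normalising element -/

theorem n_spec : Good 4600 13 nT ∧ P 4600 13 nT ∈ K ∧
    ∀ i < 4600, slot 13 nT (slot 13 uT i) = slot 13 (upow 3) (slot 13 nT i) := by
  have h := n_okK
  unfold nB at h
  rw [Bool.and_eq_true, withNat_eq] at h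
  exact ⟨(memT_allT h.1).1, (memT_allT h.1).2, fun i hi => beq_iff.mp (allN_spec h.2 i hi)⟩

/-- the normalising element -/
noncomputable def nP : Pm 4600 := P 4600 13 nT

/-- the normalising element, in the group -/
noncomputable def nK : ↥K := ⟨nP, n_spec.2.1⟩

theorem nK_coe : (nK : Pm 4600) = nP := Subtype.coe_mk nP n_spec.2.1

theorem nK_conj : nK * uK * nK⁻¹ = uK ^ 3 := by
  have h : nP * uP = uP ^ 3 * nP :=
    eq_of_rep (rep_mul (rep_P n_spec.1) (rep_P u_good))
      (rep_mul (rep_upow' (by norm_num) (by norm_num)) (rep_P n_spec.1)) n_spec.2.2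
  apply Subtype.ext
  rw [Subgroup.coe_mul, Subgroup.coe_mul, Subgroup.coe_inv, Subgroup.coe_pow, nK_coe, uK_coe, h]
  group

theorem closure_zK_uK : Subgroup.closure ({zK, uK} : Set ↥K) = ⊤ := by
  have h := Subgroup.closure_closure_coe_preimage (k := {g : Pm 4600 | ∃ y ∈ [zT, uT], g = P 4600 13 y})
  have e : ((↑) ⁻¹' {g : Pm 4600 | ∃ y ∈ [zT, uT], g = P 4600 13 y} :
      Set (Subgroup.closure {g : Pm 4600 | ∃ y ∈ [zT, uT], g = P 4600 13 y})) = ({zK, uK} : Set ↥K) := by
    ext x
    simp only [Set.mem_preimage, Set.mem_ofPred_eq, List.mem_cons, List.not_mem_nil, or_false,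
      exists_eq_or_imp, exists_eq_left, Set.mem_insert_iff, Set.mem_singleton_iff]
    constructor
    · rintro (h | h)
      · left; exact Subtype.ext (h.trans zK_coe'.symm)
      · right; exact Subtype.ext (h.trans uK_coe'.symm)
    · rintro (h | h)
      · left; rw [h]; exact zK_coe'
      · right; rw [h]; exact uK_coe'
  rw [e] at h
  exact h

theorem residues_7 : ∀ k, 0 < k → k < 7 → ∃ j, k % 7 = 3 ^ j % 7 := by
  intro k h0 h7
  interval_cases k
  · exact ⟨0, rfl⟩
  · exact ⟨2, rfl⟩
  · exact ⟨1, rfl⟩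
  · exact ⟨4, rfl⟩
  · exact ⟨5, rfl⟩
  · exact ⟨3, rfl⟩

/-! ### Centralisers -/

theorem commR_spec {x : ℕ} {Y : List ℕ} {lo n : ℕ} (h : commR x Y lo n = true) (a : ℕ) (ha : a < n) :
    memT (Y.getD (lo + a) 0) allT = true ∧
      ∀ i < 4600, slot 13 (Y.getD (lo + a) 0) (slot 13 x i) = slot 13 x (slot 13 (Y.getD (lo + a) 0) i) := by
  have := allN_spec h a ha
  rw [withNat_eq, Bool.and_eq_true] at this
  exact ⟨this.1, fun i hi => beq_iff.mp (allN_spec this.2 i hi)⟩

/-- a good table commuting with a good table, as permutations -/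
theorem comm_of_tables {x y : ℕ} (hx : Good 4600 13 x) (hy : Good 4600 13 y)
    (h : ∀ i < 4600, slot 13 y (slot 13 x i) = slot 13 x (slot 13 y i)) :
    P 4600 13 y * P 4600 13 x = P 4600 13 x * P 4600 13 y :=
  eq_of_rep (rep_mul (rep_P hy) (rep_P hx)) (rep_mul (rep_P hx) (rep_P hy)) h

/-- the elements of the group commuting with a permutation -/
noncomputable def Cen (x : Pm 4600) : Subgroup (Pm 4600) := Subgroup.centralizer {x} ⊓ K

theorem mem_Cen {x g : Pm 4600} : g ∈ Cen x ↔ g * x = x * g ∧ g ∈ K := by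
  unfold Cen
  rw [Subgroup.mem_inf, Subgroup.mem_centralizer_iff]
  constructor
  · rintro ⟨h1, h2⟩
    exact ⟨(h1 x (Set.mem_singleton x)).symm, h2⟩
  · rintro ⟨h1, h2⟩
    refine ⟨?_, h2⟩
    intro y hy
    rw [Set.mem_singleton_iff] at hy
    subst hy
    exact h1.symm

/-- the centraliser in the group, as a subgroup of the group, has the same order -/
theorem card_centralizer_eq (x : Pm 4600) (hx : x ∈ K) :
    Nat.card (Subgroup.centralizer ({(⟨x, hx⟩ : ↥K)} : Set ↥K)) = Nat.card (Cen x) := by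
  have hle : Cen x ≤ K := inf_le_right
  have e : Subgroup.centralizer ({(⟨x, hx⟩ : ↥K)} : Set ↥K) = (Cen x).subgroupOf K := by
    ext g
    rw [Subgroup.mem_subgroupOf, mem_Cen, Subgroup.mem_centralizer_iff]
    constructor
    · intro h
      refine ⟨?_, g.2⟩
      have := h ⟨x, hx⟩ (Set.mem_singleton _)
      exact (congrArg Subtype.val this).symm
    · rintro ⟨h, _⟩ y hy
      rw [Set.mem_singleton_iff] at hy
      subst hy
      apply Subtype.ext
      exact h.symm
  rw [e]
  exact Nat.card_congr (Subgroup.subgroupOfEquivOfLe hle).toEquiv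

/-- the letters of the chain of the centraliser of the element of order seven -/
theorem vletters : LettersIn (n := 4600) (w := 13) (Cen uP) vlevels := by
  intro L hL y hy
  unfold vlevels at hL
  rw [List.mem_singleton] at hL
  subst hL
  obtain ⟨a, ha, rfl⟩ := List.mem_iff_getElem.mp hy
  have ha' : a < 5 := by rw [← len_VL0]; exact ha
  have h := commR_spec ucommV_okK a ha'
  rw [Nat.zero_add, List.getD_eq_getElem _ _ ha] at h
  obtain ⟨hg, hm⟩ := memT_allT h.1
  exact ⟨hg, mem_Cen.mpr ⟨comm_of_tables u_good hg h.2, hm⟩⟩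

theorem card_Cen_uP : 56 ≤ Nat.card (Cen uP) := by
  rw [← prod_vlevels]
  exact tchain_card_le (Cen uP) vlevels [] vletters vchain_okK

theorem card_centralizer_uK : 56 ≤ Nat.card (Subgroup.centralizer ({uK} : Set ↥K)) := by
  rw [show uK = ⟨uP, uP_mem⟩ from rfl, card_centralizer_eq uP uP_mem]
  exact card_Cen_uP

theorem cTabs_spec {y : ℕ} (hy : y ∈ cTabs) : Good 4600 13 y ∧ P 4600 13 y ∈ Cen zP := by
  obtain ⟨a, ha, rfl⟩ := List.mem_iff_getElem.mp hy
  have ha' : a < 42 := by rw [← len_cTabs]; exact ha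
  have hr : a / 14 < 3 := by omega
  have h := commR_spec (zcommC_all (a / 14) hr) (a % 14) (Nat.mod_lt _ (by norm_num))
  have e : a / 14 * 14 + a % 14 = a := by omega
  rw [e, List.getD_eq_getElem _ _ ha] at h
  obtain ⟨hg, hm⟩ := memT_allT h.1
  exact ⟨hg, mem_Cen.mpr ⟨comm_of_tables z_good hg h.2, hm⟩⟩

theorem cletters : LettersIn (n := 4600) (w := 13) (Cen zP) clevels := by
  intro L hL y hy
  have h := cin_okK
  unfold lettersIn at h
  exact cTabs_spec (memT_spec (List.all_eq_true.mp (List.all_eq_true.mp h L hL) y hy))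

theorem card_Cen_zP : 743178240 ≤ Nat.card (Cen zP) := by
  rw [← prod_clevels]
  exact tchain_card_le (Cen zP) clevels [] cletters cchain_okK

theorem card_centralizer_zK : 743178240 ≤ Nat.card (Subgroup.centralizer ({zK} : Set ↥K)) := by
  rw [show zK = ⟨zP, zP_mem⟩ from rfl, card_centralizer_eq zP zP_mem]
  exact card_Cen_zP

end Cfsg.Agent.Helper22.Co2K
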