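import Cfsg.Agent.Helper22.Co2K
import Cfsg.Agent.Helper22.Co2Bridge2

/-!
# The stabiliser of a minimal vector is the group generated by two permutations of 4600 points

The two permutations are images of elements of the stabiliser, and the chain of words gives as many elements as the
stabiliser has.
-/

set_option autoImplicit false

namespace Cfsg.Agent.Helper22.Co2K

open Cfsg Cfsg.Agent.Helper22.PermPack Cfsg.Agent.Helper22.Co2KData Cfsg.Agent.Helper22.Co2Bridge
  Cfsg.Agent.Helper22.Co2Simple

theorem zP_mem_range : zP ∈ rho.range := ⟨gz', rep_unique rep_z (rep_P z_good)⟩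

theorem uP_mem_range : uP ∈ rho.range := ⟨gb' * gh' * gs', rep_unique rep_u (rep_P u_good)⟩

theorem K_le_range : K ≤ rho.range := by
  unfold K Grp
  rw [Subgroup.closure_le]
  intro g hg
  obtain ⟨y, hy, hgy⟩ := hg
  rw [hgy]
  rw [List.mem_cons, List.mem_singleton] at hy
  rcases hy with h | h
  · rw [h]
    exact zP_mem_range
  · rw [h]
    exact uP_mem_range

theorem card_G2 : Nat.card ↥G2 = 42305421312000 := Co2_std.2

/-- the stabiliser of the standard minimal vector and its image -/
noncomputable def rhoEquiv : ↥G2 ≃* ↥rho.range := MonoidHom.ofInjective rho_injective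

theorem card_range : Nat.card ↥rho.range = 42305421312000 := by
  rw [← card_G2]
  exact (Nat.card_congr rhoEquiv.toEquiv).symm

instance : Finite ↥rho.range := Nat.finite_of_card_ne_zero (by rw [card_range]; norm_num)

theorem card_K : Nat.card ↥K = 42305421312000 := by
  apply le_antisymm _ card_K_ge
  rw [← card_range]
  exact Subgroup.card_le_of_le K_le_range

instance : Finite ↥K := Nat.finite_of_card_ne_zero (by rw [card_K]; norm_num)

theorem range_eq_K : rho.range = K := by
  symm
  apply Subgroup.eq_of_le_of_card_ge K_le_range
  rw [card_range, card_K]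

/-- the stabiliser of the standard minimal vector is the group on 4600 points -/
noncomputable def equivK : ↥G2 ≃* ↥K := rhoEquiv.trans (MulEquiv.subgroupCongr range_eq_K)

theorem K_simple : IsSimpleGroup ↥K := by
  have := Co2_std.1
  exact equivK.symm.isSimpleGroup

end Cfsg.Agent.Helper22.Co2K
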