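import Cfsg.Agent.Helper22.Co2KDefs
import Cfsg.Agent.Helper22.PermPack4

/-!
# Kernel facts about the group of order 42305421312000 on 4600 points: the chains

Generated by a script.  The checks run one after the other, to bound the memory.
-/

set_option autoImplicit false
set_option Elab.async false

namespace Cfsg.Agent.Helper22.Co2K

open Cfsg.Agent.Helper22.PermPack Cfsg.Agent.Helper22.Co2KData

theorem prod_klevels : (klevels.map fun L => L.m).prod = 42305421312000 := by decide +kernel

theorem prod_clevels : (clevels.map fun L => L.m).prod = 743178240 := by decide +kernel

theorem prod_vlevels : (vlevels.map fun L => L.m).prod = 56 := by decide +kernel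

theorem prod_slevels : (slevels.map fun L => L.m).prod = 262144 := by decide +kernel

theorem kchain_okK : tchainOK 4600 13 6 dK [] klevels = true := by decide +kernel

theorem cchain_okK : tchainOK 4600 13 6 dC [] clevels = true := by decide +kernel

theorem vchain_okK : tchainOK 4600 13 6 dV [] vlevels = true := by decide +kernel

theorem cin_okK : lettersIn clevels cTabs = true := by decide +kernel

theorem upows_okK : upowsB = true := by decide +kernel

theorem n_okK : nB = true := by decide +kernel

theorem zS_okK : isPath slevels zT zSPath = true := by decide +kernel

theorem sid_okK : (withList (pathTabs 4600 13 slevels [0, 0, 0, 0, 0, 0]) fun ts => allN 4600 fun i => Nat.beq (compLook 13 ts i) i) = true := by decide +kernel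

theorem sY_inK : (sY.all fun y => memT y allT) = true := by decide +kernel

theorem kbase_eq : kbase = [0, 840, 2056, 1295, 3634] := by decide +kernel

theorem ucommV_okK : commR uT VL0.Y 0 5 = true := by decide +kernel

theorem len_VL0 : VL0.Y.length = 5 := by decide +kernel

theorem len_cTabs : cTabs.length = 42 := by decide +kernel

theorem len_sY : sY.length = 26 := by decide +kernel

theorem len_allT : allT.length = 108 := by decide +kernel

theorem len_rels : rels.length = 7 := by decide +kernel

theorem len_good56 : good56.length = 56 := by decide +kernel

end Cfsg.Agent.Helper22.Co2K
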