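import Cfsg.Agent.Helper22.Co2KDefs

/-!
# Kernel facts about the group of order 42305421312000 on 4600 points: the conjugates of the involution, part 1

Generated by a script.  The checks run one after the other, to bound the memory.
-/

set_option autoImplicit false
set_option Elab.async false

namespace Cfsg.Agent.Helper22.Co2K

open Cfsg.Agent.Helper22.PermPack Cfsg.Agent.Helper22.Co2KData

theorem cls_okK0 : clsR (0 * 1000) (min 1000 (56924 - 0 * 1000)) = true := by decide +kernel

theorem cls_okK1 : clsR (1 * 1000) (min 1000 (56924 - 1 * 1000)) = true := by decide +kernel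

theorem cls_okK2 : clsR (2 * 1000) (min 1000 (56924 - 2 * 1000)) = true := by decide +kernel

theorem cls_okK3 : clsR (3 * 1000) (min 1000 (56924 - 3 * 1000)) = true := by decide +kernel

theorem cls_okK4 : clsR (4 * 1000) (min 1000 (56924 - 4 * 1000)) = true := by decide +kernel

theorem cls_okK5 : clsR (5 * 1000) (min 1000 (56924 - 5 * 1000)) = true := by decide +kernel

theorem cls_okK6 : clsR (6 * 1000) (min 1000 (56924 - 6 * 1000)) = true := by decide +kernel

theorem cls_okK7 : clsR (7 * 1000) (min 1000 (56924 - 7 * 1000)) = true := by decide +kernel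

theorem cls_okK8 : clsR (8 * 1000) (min 1000 (56924 - 8 * 1000)) = true := by decide +kernel

theorem cls_okK9 : clsR (9 * 1000) (min 1000 (56924 - 9 * 1000)) = true := by decide +kernel

end Cfsg.Agent.Helper22.Co2K
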