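import Cfsg.Agent.Helper22.Co2CenChk
import Cfsg.Agent.Helper2.SpGen

/-!
# The centraliser of an involution in the group on 4600 points: labels and matrices

The bridge between the labels as natural numbers below 64 and vectors with six coordinates over the field with two
elements, and the matrices of the maps acting on the labels by affine maps.
-/

set_option autoImplicit false

namespace Cfsg.Agent.Helper22.Co2Cen

open Matrix Cfsg.Agent.Helper2.Sp
open Cfsg.Agent.Helper22.PermPack Cfsg.Agent.Helper22.Co2KData Cfsg.Agent.Helper22.Co2CenData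
open Cfsg.Agent.Helper22.Co2K

/-- the index type of the coordinates -/
abbrev I6 : Type := Fin 3 ⊕ Fin 3

/-- the vectors -/
abbrev V6 : Type := I6 → ZMod 2

/-- the matrices -/
abbrev M6 : Type := Matrix I6 I6 (ZMod 2)

/-- the number of a coordinate -/
def idx : I6 → ℕ := Sum.elim (fun i => i.1) (fun i => i.1 + 3)

/-- the vector of a number -/
def vecOf (n : ℕ) : V6 := fun s => ((bit n (idx s) : ℕ) : ZMod 2)

/-- the matrix with given columns -/
def matOf (c : ℕ → ℕ) : M6 := Matrix.of fun s t => vecOf (c (idx t)) s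

theorem idx_lt (t : I6) : idx t < 6 := by
  rcases t with i | i <;> simp only [idx, Sum.elim_inl, Sum.elim_inr] <;> omega

theorem bit_eq (x j : ℕ) : bit x j = (x.testBit j).toNat := by
  show (x >>> j) % 2 = _
  rw [Nat.shiftRight_eq_div_pow, Nat.toNat_testBit]

theorem bit_le (x j : ℕ) : bit x j ≤ 1 := by
  show (x >>> j) % 2 ≤ 1
  omega

theorem bit_xor (a b j : ℕ) : ((bit (Nat.xor a b) j : ℕ) : ZMod 2) = (bit a j : ℕ) + (bit b j : ℕ) := by
  rw [bit_eq, bit_eq, bit_eq]
  show (((a ^^^ b).testBit j).toNat : ZMod 2) = _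
  rw [Nat.testBit_xor]
  cases a.testBit j <;> cases b.testBit j <;> decide

theorem vecOf_xor (a b : ℕ) : vecOf (Nat.xor a b) = vecOf a + vecOf b := by
  funext s
  exact bit_xor a b (idx s)

theorem vecOf_zero : vecOf 0 = 0 := by
  funext s
  show ((bit 0 (idx s) : ℕ) : ZMod 2) = 0
  rw [bit_eq, Nat.zero_testBit]
  rfl

theorem vecOf_mul_bit (b n : ℕ) (hb : b ≤ 1) : vecOf (Nat.mul b n) = (b : ZMod 2) • vecOf n := by
  have : b = 0 ∨ b = 1 := by omega
  rcases this with rfl | rfl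
  · show vecOf (0 * n) = _
    rw [Nat.zero_mul, vecOf_zero, Nat.cast_zero, zero_smul]
  · show vecOf (1 * n) = _
    rw [Nat.one_mul, Nat.cast_one, one_smul]

theorem vecOf_xorL (l : List ℕ) : vecOf (xorL l) = (l.map vecOf).sum := by
  induction l with
  | nil => exact vecOf_zero
  | cons a l ih =>
    show vecOf (Nat.xor a (xorL l)) = _
    rw [vecOf_xor, ih, List.map_cons, List.sum_cons]

theorem sum_I6 (f : I6 → ZMod 2) :
    ∑ t, f t = f (Sum.inl 0) + f (Sum.inl 1) + f (Sum.inl 2) + (f (Sum.inr 0) + f (Sum.inr 1) + f (Sum.inr 2)) := by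
  rw [Fintype.sum_sum_type, Fin.sum_univ_three, Fin.sum_univ_three]

theorem vecOf_mulB (c : ℕ → ℕ) (x : ℕ) : vecOf (mulB c x) = matOf c *ᵥ vecOf x := by
  unfold mulB
  rw [vecOf_xor, vecOf_xor, vecOf_xor, vecOf_xor, vecOf_xor, vecOf_mul_bit _ _ (bit_le _ _),
    vecOf_mul_bit _ _ (bit_le _ _), vecOf_mul_bit _ _ (bit_le _ _), vecOf_mul_bit _ _ (bit_le _ _),
    vecOf_mul_bit _ _ (bit_le _ _), vecOf_mul_bit _ _ (bit_le _ _)]
  funext s
  rw [mulVec, dotProduct, sum_I6]
  simp only [Pi.add_apply, Pi.smul_apply, smul_eq_mul, matOf, Matrix.of_apply, vecOf, idx, Sum.elim_inl,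
    Sum.elim_inr, Fin.val_zero, Fin.val_one, Fin.val_two]
  ring

theorem om_vecOf (x y : ℕ) : om (vecOf x) (vecOf y) = ((omB x y : ℕ) : ZMod 2) := by
  rw [om_eq_sum, Fin.sum_univ_three]
  unfold omB
  show _ = (((bit x 3 * bit y 0 + bit x 0 * bit y 3 + (bit x 4 * bit y 1 + bit x 1 * bit y 4) +
    (bit x 5 * bit y 2 + bit x 2 * bit y 5)) % 2 : ℕ) : ZMod 2)
  rw [ZMod.natCast_mod]
  simp only [vecOf, idx, Sum.elim_inl, Sum.elim_inr, Fin.val_zero, Fin.val_one, Fin.val_two, Nat.cast_add,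
    Nat.cast_mul]
  have h2 : ∀ a b : ZMod 2, a - b = a + b := by decide
  simp only [h2]

theorem vecOf_two_pow (t : I6) : vecOf (2 ^ idx t) = Pi.single t 1 := by
  have h : ∀ s t : I6, vecOf (2 ^ idx t) s = if s = t then 1 else 0 := by decide
  funext s
  rw [h, Pi.single_apply]

/-- the number of a vector -/
def numOf (x : V6) : ℕ :=
  (x (Sum.inl 0)).val + 2 * (x (Sum.inl 1)).val + 4 * (x (Sum.inl 2)).val + 8 * (x (Sum.inr 0)).val +
    16 * (x (Sum.inr 1)).val + 32 * (x (Sum.inr 2)).val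

theorem vecOf_numOf (x : V6) : vecOf (numOf x) = x := by
  have h : ∀ a0 a1 a2 a3 a4 a5 : ZMod 2, ∀ s : I6,
      ((bit (a0.val + 2 * a1.val + 4 * a2.val + 8 * a3.val + 16 * a4.val + 32 * a5.val) (idx s) : ℕ) : ZMod 2) =
        Sum.elim ![a0, a1, a2] ![a3, a4, a5] s := by decide
  funext s
  show ((bit (numOf x) (idx s) : ℕ) : ZMod 2) = x s
  unfold numOf
  rw [h]
  rcases s with i | i <;> fin_cases i <;> rfl

theorem numOf_lt (x : V6) : numOf x < 64 := by
  unfold numOf
  have h : ∀ a : ZMod 2, a.val < 2 := fun a => ZMod.val_lt a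
  have h0 := h (x (Sum.inl 0)); have h1 := h (x (Sum.inl 1)); have h2 := h (x (Sum.inl 2))
  have h3 := h (x (Sum.inr 0)); have h4 := h (x (Sum.inr 1)); have h5 := h (x (Sum.inr 2))
  omega

theorem numOf_eq_zero {x : V6} (h : numOf x = 0) : x = 0 := by
  rw [← vecOf_numOf x, h, vecOf_zero]

/-! ### Affine maps on the labels -/

/-- the map acts on the labels of the fixed points of the involution by an affine map -/
def AffF (f : ℕ → ℕ) (M : M6) (c : V6) : Prop :=
  ∀ i < 4600, inF i = true → f i < 4600 ∧ inF (f i) = true ∧ vecOf (lab (f i)) = M *ᵥ vecOf (lab i) + c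

theorem r0_spec : r0 < 4600 ∧ inF r0 = true ∧ lab r0 = 0 := by
  have h := pts_ok
  unfold ptsB at h
  simp only [Bool.and_eq_true, blt_iff, beq_iff] at h
  exact ⟨h.1.1.1, h.1.1.2, h.1.2⟩

theorem sPts_spec (j : ℕ) (hj : j < 6) :
    (∀ r ∈ sPts.getD j [], r < 4600 ∧ inF r = true) ∧ colB (fun i => i) j = 2 ^ j := by
  have h := pts_ok
  unfold ptsB at h
  rw [Bool.and_eq_true] at h
  have h2 := allN_spec h.2 j hj
  simp only [Bool.and_eq_true, List.all_eq_true, blt_iff, beq_iff] at h2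
  exact ⟨h2.1, h2.2⟩

theorem add_self_V6 (c : V6) : c + c = 0 := by
  funext s
  exact CharTwo.add_self_eq_zero (c s)

theorem mulVec_list_sum {α : Type*} (M : M6) (v : α → V6) (l : List α) :
    (l.map fun r => M *ᵥ v r).sum = M *ᵥ (l.map v).sum := by
  induction l with
  | nil => simp
  | cons a l ih => rw [List.map_cons, List.sum_cons, ih, List.map_cons, List.sum_cons, mulVec_add]

/-- the columns of the linear part of an affine map -/
theorem col_of_aff {f : ℕ → ℕ} {M : M6} {c : V6} (h : AffF f M c) (t : I6) :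
    vecOf (colB f (idx t)) = M *ᵥ Pi.single t 1 := by
  obtain ⟨hS, hcol⟩ := sPts_spec (idx t) (idx_lt t)
  obtain ⟨h0, h0F, _⟩ := r0_spec
  have key : ∀ r ∈ sPts.getD (idx t) [], vecOf (Nat.xor (lab (f r)) (lab (f r0))) =
      M *ᵥ vecOf (Nat.xor (lab r) (lab r0)) := by
    intro r hr
    obtain ⟨hr1, hr2⟩ := hS r hr
    rw [vecOf_xor, vecOf_xor, (h r hr1 hr2).2.2, (h r0 h0 h0F).2.2, mulVec_add]
    have : M *ᵥ vecOf (lab r) + c + (M *ᵥ vecOf (lab r0) + c) =
        M *ᵥ vecOf (lab r) + M *ᵥ vecOf (lab r0) + (c + c) := by abel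
    rw [this, add_self_V6, add_zero]
  have e1 : vecOf (colB f (idx t)) =
      ((sPts.getD (idx t) []).map fun r => M *ᵥ vecOf (Nat.xor (lab r) (lab r0))).sum := by
    unfold colB
    rw [vecOf_xorL, List.map_map]
    congr 1
    apply List.map_congr_left
    intro r hr
    exact key r hr
  have e2 : ((sPts.getD (idx t) []).map fun r => vecOf (Nat.xor (lab r) (lab r0))).sum =
      vecOf (colB (fun i => i) (idx t)) := by
    unfold colB
    rw [vecOf_xorL, List.map_map]
    rfl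
  rw [e1, mulVec_list_sum M (fun r => vecOf (Nat.xor (lab r) (lab r0))), e2, hcol, vecOf_two_pow]

theorem mulVec_single_apply (M : M6) (s t : I6) : (M *ᵥ Pi.single t 1) s = M s t := by
  simp [mulVec, dotProduct, Pi.single_apply]

/-- the matrix of the linear part of an affine map -/
theorem matOf_of_aff {f : ℕ → ℕ} {M : M6} {c : V6} (h : AffF f M c) : matOf (colB f) = M := by
  ext s t
  show vecOf (colB f (idx t)) s = M s t
  rw [col_of_aff h t, mulVec_single_apply]

theorem trans_of_aff {f : ℕ → ℕ} {M : M6} {c : V6} (h : AffF f M c) : c = vecOf (lab (f r0)) := by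
  obtain ⟨h0, h0F, h0l⟩ := r0_spec
  rw [(h r0 h0 h0F).2.2, h0l, vecOf_zero, mulVec_zero, zero_add]

theorem aff_comp {f f' : ℕ → ℕ} {M M' : M6} {c c' : V6} (h : AffF f M c) (h' : AffF f' M' c') :
    AffF (fun i => f (f' i)) (M * M') (M *ᵥ c' + c) := by
  intro i hi hiF
  obtain ⟨h1, h2, h3⟩ := h' i hi hiF
  obtain ⟨h4, h5, h6⟩ := h (f' i) h1 h2
  refine ⟨h4, h5, ?_⟩
  rw [h6, h3, mulVec_add, mulVec_mulVec, add_assoc]

theorem aff_id : AffF (fun i => i) 1 0 := by
  intro i hi hiF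
  refine ⟨hi, hiF, ?_⟩
  rw [one_mulVec, add_zero]

theorem aff_congr {f f' : ℕ → ℕ} {M : M6} {c : V6} (hff : ∀ i < 4600, f' i = f i) (h : AffF f M c) :
    AffF f' M c := by
  intro i hi hiF
  rw [hff i hi]
  exact h i hi hiF

theorem aff_of_affB {f : ℕ → ℕ} (hf : ∀ i < 4600, f i < 4600) (h : affB f = true) :
    AffF f (matOf (colB f)) (vecOf (lab (f r0))) := by
  intro i hi hiF
  have h1 := allN_spec h i hi
  rw [hiF] at h1
  simp only [Bool.not_true, Bool.false_or, Bool.and_eq_true, beq_iff] at h1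
  refine ⟨hf i hi, h1.1, ?_⟩
  rw [h1.2, vecOf_xor, vecOf_mulB]

/-- a map fixing the fixed points of the involution -/
theorem aff_of_fix {f : ℕ → ℕ} (h : ∀ i < 4600, inF i = true → f i = i) : AffF f 1 0 := by
  intro i hi hiF
  rw [h i hi hiF]
  exact aff_id i hi hiF

theorem symp_of_cols {c : ℕ → ℕ} (h : ∀ i < 6, ∀ j < 6, omB (c i) (c j) = omB (2 ^ i) (2 ^ j)) :
    matOf c ∈ symplecticGroup (Fin 3) (ZMod 2) := by
  rw [SymplecticGroup.mem_iff']
  have hcol : ∀ t : I6, matOf c *ᵥ Pi.single t 1 = vecOf (c (idx t)) := by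
    intro t
    funext s
    rw [mulVec_single_apply]
    rfl
  have key : ∀ (A : M6) (s t : I6), (Aᵀ * J (Fin 3) (ZMod 2) * A) s t =
      om (A *ᵥ Pi.single s 1) (A *ᵥ Pi.single t 1) := by
    intro A s t
    rw [om_mulVec, ← mulVec_single_apply (Aᵀ * J (Fin 3) (ZMod 2) * A) s t]
    simp [dotProduct, Pi.single_apply]
  ext s t
  rw [key, hcol, hcol, om_vecOf, h _ (idx_lt s) _ (idx_lt t), ← om_vecOf, vecOf_two_pow, vecOf_two_pow]
  have := key 1 s t
  rw [transpose_one, one_mul, mul_one, one_mulVec, one_mulVec] at this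
  exact this.symm

theorem symp_of_sympB {f : ℕ → ℕ} (h : sympB f = true) : matOf (colB f) ∈ symplecticGroup (Fin 3) (ZMod 2) := by
  apply symp_of_cols
  intro i hi j hj
  exact beq_iff.mp (allN_spec (allN_spec h i hi) j hj)

theorem colB_congr {f f' : ℕ → ℕ} (hff : ∀ i < 4600, f' i = f i) (j : ℕ) (hj : j < 6) : colB f' j = colB f j := by
  obtain ⟨hS, _⟩ := sPts_spec j hj
  unfold colB
  congr 1
  apply List.map_congr_left
  intro r hr
  rw [hff r (hS r hr).1, hff r0 r0_spec.1]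

theorem matOf_congr {c c' : ℕ → ℕ} (h : ∀ j < 6, c' j = c j) : matOf c' = matOf c := by
  ext s t
  show vecOf (c' (idx t)) s = vecOf (c (idx t)) s
  rw [h _ (idx_lt t)]

end Cfsg.Agent.Helper22.Co2Cen
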