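import Cfsg.Agent.Helper22.Co2Std
import Cfsg.Agent.Helper22.Co2Crit

/-!
# The simplicity of the stabiliser of a minimal lattice vector
-/

set_option autoImplicit false

namespace Cfsg.Agent.Helper22.Co2Simple

open Cfsg Cfsg.Agent.Helper27 Cfsg.Agent.Helper22.Co0Mono Cfsg.Agent.Helper22.CrossStab
  Cfsg.Agent.Helper22.Co0Center Cfsg.Agent.Helper22.MinTrans Cfsg.Agent.Helper22.Norm6Trans
  Cfsg.Agent.Helper22.Co0Order Cfsg.Agent.Helper22.Summands Cfsg.Agent.Helper22.Census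
  Cfsg.Agent.Helper22.QuadForm Cfsg.Agent.Helper22.LeechMod2 Cfsg.Agent.Helper22.Co3Orbit
  Cfsg.Agent.Helper22.GolayComb Cfsg.Agent.Helper22.Design Cfsg.Agent.Helper22.HS100
  Cfsg.Agent.Helper22.HS100b Cfsg.Agent.Helper22.McL2025 Cfsg.Agent.Helper22.McL2025b
  Cfsg.Agent.Helper22.Flag Cfsg.Agent.Helper22.Co2Trans Cfsg.Agent.Helper22.Co2Trans2
  Cfsg.Agent.Helper22.McL275 Cfsg.Agent.Helper22.McL275b Cfsg.Agent.Helper22.HSSimple
  Cfsg.Agent.Helper22.McLSimple Cfsg.Agent.Helper22.Co3Simple Cfsg.Agent.Helper22.Co2Std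
open scoped Pointwise

/-! ### Two special elements -/

/-- the vector with one coordinate `-3` and the others `1` -/
def X0v : ↥leechLattice := ⟨x0, x0_mem⟩

theorem sqNorm_X0v : sqNorm (X0v : GolayPt → ℤ) = 32 := by
  show sqNorm x0 = 32
  decide +kernel

theorem negX0v_mem : -X0v ∈ Census.X a01 (-8) := by
  refine ⟨?_, ?_⟩
  · rw [coe_neg', Census.sqNorm_neg, sqNorm_X0v]
  · rw [dot_a01]
    decide +kernel

/-- a coordinate permutation fixing the last point fixes the vector `X0v` -/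
theorem piCo_X0v {σ : Equiv.Perm GolayPt} (hσ : σ ∈ M24) (h : σ none = none) : piCo σ hσ • X0v = X0v := by
  apply Subtype.ext
  rw [piCo_smul]
  funext i
  rw [sp_apply]
  show x0 (σ.symm i) = x0 i
  unfold x0
  have : σ.symm i = none ↔ i = none := by
    rw [symm_eq_iff, h]
  simp only [this]

/-- a coordinate permutation exchanging the first two points -/
theorem piCo_swap {σ : Equiv.Perm GolayPt} (hσ : σ ∈ M24) (h0 : σ (pt 0) = pt 1) (h1 : σ (pt 1) = pt 0) :
    piCo σ hσ • a01 = a01 ∧ piCo σ hσ • d01 = -d01 := by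
  have e0 : ∀ i, σ.symm i = pt 0 ↔ i = pt 1 := fun i => by rw [symm_eq_iff, h0]
  have e1 : ∀ i, σ.symm i = pt 1 ↔ i = pt 0 := fun i => by rw [symm_eq_iff, h1]
  have h01 : pt 0 ≠ pt 1 := by decide
  constructor
  · apply Subtype.ext
    rw [piCo_smul]
    funext i
    rw [sp_apply]
    show pv (pt 0) (pt 1) 4 4 (σ.symm i) = pv (pt 0) (pt 1) 4 4 i
    rw [pv_apply, pv_apply]
    simp only [e0, e1]
    ring
  · apply Subtype.ext
    rw [piCo_smul, coe_neg']
    funext i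
    rw [sp_apply, Pi.neg_apply]
    show pv (pt 0) (pt 1) 4 (-4) (σ.symm i) = -pv (pt 0) (pt 1) 4 (-4) i
    rw [pv_apply, pv_apply]
    simp only [e0, e1]
    by_cases hi0 : i = pt 0
    · subst hi0
      simp [h01]
    · by_cases hi1 : i = pt 1
      · subst hi1
        simp [h01.symm]
      · simp [hi0, hi1]

/-- an element fixing the first coordinate vector and a vector of inner product `-8` with it, and negating the
second coordinate vector -/
theorem exists_swap : ∃ t : ↥Co0, t • a01 = a01 ∧ t • d01 = -d01 ∧ t • (-X0v) = -X0v := by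
  have hx : Function.Injective ![pt 0, pt 1, (none : GolayPt), pt 2, pt 3] := by decide
  have hy : Function.Injective ![pt 1, pt 0, (none : GolayPt), pt 2, pt 3] := by decide
  obtain ⟨σ, hσ, hmap⟩ := exists_M24_map_five ![pt 0, pt 1, (none : GolayPt), pt 2, pt 3]
    ![pt 1, pt 0, (none : GolayPt), pt 2, pt 3] hx hy
  have h0 : σ (pt 0) = pt 1 := hmap 0
  have h1 : σ (pt 1) = pt 0 := hmap 1
  have h2 : σ none = none := hmap 2
  obtain ⟨f1, f2⟩ := piCo_swap hσ h0 h1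
  exact ⟨piCo σ hσ, f1, f2, by rw [co0_neg, piCo_X0v hσ h2]⟩

/-! ### The group and its actions -/

/-- the group -/
def G2 : Subgroup ↥Co0 := MulAction.stabilizer ↥Co0 a01

theorem mem_G2 (k : ↥Co0) : k ∈ G2 ↔ k • a01 = a01 := MulAction.mem_stabilizer_iff

/-- the minimal vectors with a given inner product with the first coordinate vector -/
def Xm (c : ℤ) : SubMulAction ↥G2 ↥leechLattice where
  carrier := Census.X a01 c
  smul_mem' := fun g x hx => by
    refine ⟨?_, ?_⟩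
    · show sqNorm ((g.1 • x : ↥leechLattice) : GolayPt → ℤ) = 32
      rw [co0_norm]
      exact hx.1
    · show dotInt (a01 : GolayPt → ℤ) ((g.1 • x : ↥leechLattice) : GolayPt → ℤ) = c
      have h1 := co0_dot g.1 a01 x
      rw [(mem_G2 g.1).mp g.2] at h1
      rw [h1]
      exact hx.2

set_option synthInstance.maxHeartbeats 400000 in
instance instXm (c : ℤ) : MulAction ↥G2 ↥(Xm c) := inferInstance

/-- the opposite vector -/
def negX (x : ↥(Xm 0)) : ↥(Xm 0) := ⟨-x.1, by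
  refine ⟨?_, ?_⟩
  · show sqNorm ((-x.1 : ↥leechLattice) : GolayPt → ℤ) = 32
    rw [coe_neg', Census.sqNorm_neg]
    exact x.2.1
  · show dotInt (a01 : GolayPt → ℤ) ((-x.1 : ↥leechLattice) : GolayPt → ℤ) = 0
    rw [coe_neg', dot_neg_right', x.2.2]
    rfl⟩

/-- the stabiliser of the first coordinate vector is simple of order 42305421312000 -/
theorem Co2_std : IsSimpleGroup ↥G2 ∧ Nat.card ↥G2 = 42305421312000 := by
  classical
  have ha : a01 ∈ Census.L 32 := n3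
  have hW : Nat.card ↥(Xm (-8)) = 47104 := by
    have h1 : Nat.card ↥(Xm (-8)) = (Census.X a01 (-8)).ncard := Nat.card_coe_set_eq _
    rw [h1, ncard_X8 a01 ha]
  have hX : Nat.card ↥(Xm 0) = 93150 := by
    have h1 : Nat.card ↥(Xm 0) = (Census.X a01 0).ncard := Nat.card_coe_set_eq _
    rw [h1, ncard_X0 a01 ha]
  have htW : MulAction.IsPretransitive ↥G2 ↥(Xm (-8)) := by
    refine ⟨fun x y => ?_⟩
    obtain ⟨g, h1, h2⟩ := ip8_transitive a01 x.1 y.1 n3 x.2.1 y.2.1 x.2.2 y.2.2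
    exact ⟨⟨g, (mem_G2 g).mpr h1⟩, Subtype.ext h2⟩
  obtain ⟨t, ht1, ht2, ht3⟩ := exists_swap
  let x₀ : ↥(Xm 0) := ⟨d01, d01_mem⟩
  have htX : MulAction.IsPretransitive ↥G2 ↥(Xm 0) := by
    have key : ∀ y : ↥(Xm 0), ∃ g : ↥G2, g • x₀ = y := by
      intro y
      obtain ⟨g, h1, h2⟩ := orth_transitive a01 d01 y.1 n3 d01_mem.1 y.2.1 d01_mem.2 y.2.2
      rcases h2 with h2 | h2
      · exact ⟨⟨g, (mem_G2 g).mpr h1⟩, Subtype.ext h2⟩
      · refine ⟨⟨g * t, (mem_G2 _).mpr (by rw [mul_smul, ht1, h1])⟩, Subtype.ext ?_⟩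
        show (g * t) • d01 = y.1
        rw [mul_smul, ht2, co0_neg, h2, neg_neg]
    refine ⟨fun x y => ?_⟩
    obtain ⟨g, hg⟩ := key x
    obtain ⟨g', hg'⟩ := key y
    exact ⟨g' * g⁻¹, by rw [mul_smul, ← hg, inv_smul_smul, hg']⟩
  have hneg : ∀ (g : ↥G2) (x : ↥(Xm 0)), negX (g • x) = g • negX x := by
    intro g x
    apply Subtype.ext
    show -(g.1 • x.1) = g.1 • (-x.1)
    rw [co0_neg]
  have hneg2 : ∀ x : ↥(Xm 0), negX (negX x) = x := by
    intro x
    apply Subtype.ext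
    show - -x.1 = x.1
    rw [neg_neg]
  have hneg1 : ∀ x : ↥(Xm 0), negX x ≠ x := by
    intro x h
    have h1 : -x.1 = x.1 := congrArg Subtype.val h
    exact ne_neg_self x.2.1 h1.symm
  let w₀ : ↥(Xm (-8)) := ⟨D0 - a01, w0_mem⟩
  obtain ⟨hMs, hMc⟩ := McL_simple a01 (D0 - a01) n3 w0_mem.1 w0_mem.2
  let eqv : ↥(MulAction.stabilizer ↥G2 w₀) ≃* ↥(GS a01 (D0 - a01)) :=
    { toFun := fun h => ⟨h.1.1, (mem_GS _ _ _).mpr ⟨(mem_G2 _).mp h.1.2,
        congrArg Subtype.val (MulAction.mem_stabilizer_iff.mp h.2)⟩⟩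
      invFun := fun k => ⟨⟨k.1, (mem_G2 _).mpr ((mem_GS _ _ _).mp k.2).1⟩,
        MulAction.mem_stabilizer_iff.mpr (Subtype.ext ((mem_GS _ _ _).mp k.2).2)⟩
      left_inv := fun h => rfl
      right_inv := fun k => rfl
      map_mul' := fun a b => rfl }
  have hsimp : IsSimpleGroup ↥(MulAction.stabilizer ↥G2 w₀) := eqv.isSimpleGroup
  have hstabcard : Nat.card ↥(MulAction.stabilizer ↥G2 w₀) = 898128000 := by
    rw [Nat.card_congr eqv.toEquiv, hMc]
  have H2 : ∀ w : ↥(Xm (-8)), (∀ s ∈ MulAction.stabilizer ↥G2 w₀, s • w = w) → w = w₀ := by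
    intro w hw
    apply Subtype.ext
    apply fix_unique w.1 w.2
    intro k hk1 hk2
    have h1 := hw ⟨k, (mem_G2 k).mpr hk1⟩ (MulAction.mem_stabilizer_iff.mpr (Subtype.ext hk2))
    exact congrArg Subtype.val h1
  have H3 : ∀ g : ↥G2, (∀ x : ↥(Xm 0), g • x = x ∨ g • x = negX x) → g = 1 := by
    intro g hg
    apply Subtype.ext
    apply eq_one_of_pm g.1 ((mem_G2 _).mp g.2)
    intro x hx
    rcases hg ⟨x, hx⟩ with h | h
    · exact Or.inl (congrArg Subtype.val h)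
    · exact Or.inr (congrArg Subtype.val h)
  have H4 : ∀ N : Subgroup ↥G2, N.Normal → (∀ w : ↥(Xm (-8)), MulAction.stabilizer ↥G2 w ≤ N) →
      MulAction.stabilizer ↥G2 x₀ ≤ N ∧ ∃ t ∈ N, t • x₀ = negX x₀ := by
    intro N _ hall
    have hstab : ∀ w ∈ Census.X a01 (-8), ∀ k : ↥Co0, k • a01 = a01 → k • w = w → k ∈ N.map G2.subtype := by
      intro w hw k hk hkw
      exact ⟨⟨k, (mem_G2 k).mpr hk⟩, hall ⟨w, hw⟩ (MulAction.mem_stabilizer_iff.mpr (Subtype.ext hkw)), rfl⟩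
    have memN : ∀ g : ↥G2, g.1 ∈ N.map G2.subtype → g ∈ N := by
      rintro g ⟨n, hn, hng⟩
      have h1 : n = g := Subtype.ext hng
      rwa [← h1]
    constructor
    · intro g hg
      apply memN
      exact stab_pair_mem _ hstab g.1 ((mem_G2 _).mp g.2) (congrArg Subtype.val (MulAction.mem_stabilizer_iff.mp hg))
    · exact ⟨⟨t, (mem_G2 t).mpr ht1⟩, memN _ (hstab _ negX0v_mem t ht1 ht3), Subtype.ext ht2⟩
  -- a subgroup isomorphic to the point stabiliser of `M24`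
  obtain ⟨g0, hg0⟩ := min_transitive a01 X0v n3 sqNorm_X0v
  let f : ↥(MulAction.stabilizer ↥M24 (none : GolayPt)) → ↥G2 := fun σ =>
    ⟨g0⁻¹ * piCo σ.1.1 σ.1.2 * g0, (mem_G2 _).mpr (by
      rw [mul_smul, mul_smul, hg0, piCo_X0v σ.1.2 (MulAction.mem_stabilizer_iff.mp σ.2), ← hg0, inv_smul_smul])⟩
  have hmul : ∀ a b, f (a * b) = f a * f b := by
    intro a b
    apply Subtype.ext
    show g0⁻¹ * piCo (a.1.1 * b.1.1) (a * b).1.2 * g0 =
      (g0⁻¹ * piCo a.1.1 a.1.2 * g0) * (g0⁻¹ * piCo b.1.1 b.1.2 * g0)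
    rw [piCo_mul a.1.2 b.1.2]
    group
  have hinj : Function.Injective (MonoidHom.mk' f hmul) := by
    intro a b hab
    have h1 : g0⁻¹ * piCo a.1.1 a.1.2 * g0 = g0⁻¹ * piCo b.1.1 b.1.2 * g0 := congrArg Subtype.val hab
    have h2 : piCo a.1.1 a.1.2 = piCo b.1.1 b.1.2 := by
      have := congrArg (fun z => g0 * z * g0⁻¹) h1
      simpa [mul_assoc] using this
    apply Subtype.ext
    apply Subtype.ext
    exact piCo_injective a.1.2 b.1.2 h2
  have e := MonoidHom.ofInjective hinj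
  have hQs : IsSimpleGroup ↥(MonoidHom.mk' f hmul).range := by
    have := stabilizer_pt_simple (none : GolayPt)
    exact e.symm.isSimpleGroup
  have hQc : Nat.card ↥(MonoidHom.mk' f hmul).range = 10200960 := by
    rw [← Nat.card_congr e.toEquiv, card_stabilizer_M24]
  exact Co2Crit.simple_of_data hW hX negX hneg hneg2 hneg1 w₀ hsimp hstabcard H2 H3 x₀ H4 _ hQs hQc

/-- the stabiliser of a minimal vector is simple of order 42305421312000 -/
theorem Co2_simple (v : ↥leechLattice) (hv : sqNorm (v : GolayPt → ℤ) = 32) :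
    IsSimpleGroup ↥(MulAction.stabilizer ↥Co0 v) ∧ Nat.card ↥(MulAction.stabilizer ↥Co0 v) = 42305421312000 := by
  obtain ⟨g, hg⟩ := min_transitive a01 v n3 hv
  have e : ↥G2 ≃* ↥(MulAction.stabilizer ↥Co0 v) := MulAction.stabilizerEquivStabilizer hg.symm
  obtain ⟨h1, h2⟩ := Co2_std
  exact ⟨e.symm.isSimpleGroup, by rw [← Nat.card_congr e.toEquiv, h2]⟩

end Cfsg.Agent.Helper22.Co2Simple
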