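import Cfsg.Agent.Helper22.Co3Simple

/-!
# Computations in the standard frame for the stabiliser of a minimal vector
-/

set_option autoImplicit false

namespace Cfsg.Agent.Helper22.Co2Std

open Cfsg Cfsg.Agent.Helper27 Cfsg.Agent.Helper22.Co0Mono Cfsg.Agent.Helper22.CrossStab
  Cfsg.Agent.Helper22.Co0Center Cfsg.Agent.Helper22.MinTrans Cfsg.Agent.Helper22.Norm6Trans
  Cfsg.Agent.Helper22.Co0Order Cfsg.Agent.Helper22.Summands Cfsg.Agent.Helper22.Census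
  Cfsg.Agent.Helper22.QuadForm Cfsg.Agent.Helper22.LeechMod2 Cfsg.Agent.Helper22.Co3Orbit
  Cfsg.Agent.Helper22.GolayComb Cfsg.Agent.Helper22.Design Cfsg.Agent.Helper22.HS100
  Cfsg.Agent.Helper22.HS100b Cfsg.Agent.Helper22.McL2025 Cfsg.Agent.Helper22.McL2025b
  Cfsg.Agent.Helper22.Flag Cfsg.Agent.Helper22.Co2Trans Cfsg.Agent.Helper22.Co2Trans2
  Cfsg.Agent.Helper22.McL275 Cfsg.Agent.Helper22.McL275b Cfsg.Agent.Helper22.HSSimple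
  Cfsg.Agent.Helper22.McLSimple Cfsg.Agent.Helper22.Co3Simple
open scoped Pointwise

/-! ### Basic vectors -/

theorem w0_mem : D0 - a01 ∈ Census.X a01 (-8) := by
  obtain ⟨-, hb, hab, -⟩ := (mem_TM a01 (D0 - a01) d01).mp t1_mem
  exact ⟨hb, hab⟩

theorem d01_mem : d01 ∈ Census.X a01 0 := by
  obtain ⟨-, -, -, hx⟩ := (mem_TM a01 (D0 - a01) d01).mp t1_mem
  exact ⟨hx.1, hx.2.1⟩

theorem coe_neg' (a : ↥leechLattice) : ((-a : ↥leechLattice) : GolayPt → ℤ) = -(a : GolayPt → ℤ) := rfl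

theorem e_eq' : e = a01 + d01 := by
  apply Subtype.ext
  show (Pi.single (pt 0) 8 : GolayPt → ℤ) = pv (pt 0) (pt 1) 4 4 + pv (pt 0) (pt 1) 4 (-4)
  decide +kernel

theorem E81_eq : E8 (pt 1) = a01 - d01 := by
  apply Subtype.ext
  show (Pi.single (pt 1) 8 : GolayPt → ℤ) = pv (pt 0) (pt 1) 4 4 - pv (pt 0) (pt 1) 4 (-4)
  decide +kernel

theorem E8_coe (i : GolayPt) : (E8 i : GolayPt → ℤ) = Pi.single i 8 := rfl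

/-- the effect on coordinates of an automorphism permuting the coordinate vectors -/
theorem coord_of_E8 (k : ↥Co0) (z : ↥leechLattice) {m m' : GolayPt} (h : k • E8 m = E8 m') :
    ((k • z : ↥leechLattice) : GolayPt → ℤ) m' = (z : GolayPt → ℤ) m := by
  have h1 := co0_dot k z (E8 m)
  rw [h, E8_coe, E8_coe, dot_single, dot_single] at h1
  omega

theorem coord_of_E8_neg (k : ↥Co0) (z : ↥leechLattice) {m m' : GolayPt} (h : k • E8 m = -E8 m') :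
    ((k • z : ↥leechLattice) : GolayPt → ℤ) m' = -(z : GolayPt → ℤ) m := by
  have h1 := co0_dot k z (E8 m)
  rw [h, coe_neg', dot_neg_right', E8_coe, E8_coe, dot_single, dot_single] at h1
  omega

theorem eq_one_of_forall {k : ↥Co0} (h : ∀ z : ↥leechLattice, k • z = z) : k = 1 := by
  apply Subtype.ext
  apply Equiv.ext
  intro z
  exact h z

/-! ### An automorphism mapping every orthogonal minimal vector to itself or its negative -/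

theorem dot_pv (i j : GolayPt) (a b : ℤ) (y : GolayPt → ℤ) : dotInt (pv i j a b) y = a * y i + b * y j := by
  unfold pv
  rw [dot_add_left, dot_comm', dot_single, dot_comm' (Pi.single j b), dot_single]
  ring

theorem pv_apply (i j : GolayPt) (a b : ℤ) (q : GolayPt) :
    pv i j a b q = (if q = i then a else 0) + (if q = j then b else 0) := by
  unfold pv
  simp only [Pi.add_apply, Pi.single_apply]

/-- the lattice vector `4 e_i + s e_j` -/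
def pvL (i j : GolayPt) (s : ℤ) (hs : s = 4 ∨ s = -4) : ↥leechLattice := ⟨pv i j 4 s, pv_mem i j (Or.inl rfl) hs⟩

theorem pvL_mem {i j : GolayPt} (hij : i ≠ j) (hi0 : i ≠ pt 0) (hi1 : i ≠ pt 1) (hj0 : j ≠ pt 0) (hj1 : j ≠ pt 1)
    (s : ℤ) (hs : s = 4 ∨ s = -4) : pvL i j s hs ∈ Census.X a01 0 := by
  constructor
  · show sqNorm (pv i j 4 s) = 32
    rw [← dot_self, dot_pv, pv_apply, pv_apply, if_pos rfl, if_neg hij, if_neg hij.symm, if_pos rfl]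
    rcases hs with rfl | rfl <;> norm_num
  · show dotInt (a01 : GolayPt → ℤ) (pv i j 4 s) = 0
    rw [dot_a01, pv_apply, pv_apply, if_neg hi0.symm, if_neg hj0.symm, if_neg hi1.symm, if_neg hj1.symm]
    norm_num

theorem same_sign {k : ↥Co0} (h : ∀ x ∈ Census.X a01 0, k • x = x ∨ k • x = -x) {x x' : ↥leechLattice}
    (hx : x ∈ Census.X a01 0) (hx' : x' ∈ Census.X a01 0)
    (hd : dotInt (x : GolayPt → ℤ) (x' : GolayPt → ℤ) ≠ 0) :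
    (k • x = x ∧ k • x' = x') ∨ (k • x = -x ∧ k • x' = -x') := by
  have hdot := co0_dot k x x'
  rcases h x hx with h1 | h1 <;> rcases h x' hx' with h2 | h2
  · exact Or.inl ⟨h1, h2⟩
  · exfalso
    rw [h1, h2, coe_neg', dot_neg_right'] at hdot
    omega
  · exfalso
    rw [h1, h2, coe_neg', dot_neg_left] at hdot
    omega
  · exact Or.inr ⟨h1, h2⟩

theorem p2 : pt 2 ≠ pt 0 ∧ pt 2 ≠ pt 1 := by decide

/-- `4 e_i + 4 e_2` -/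
def yP (i : GolayPt) : ↥leechLattice := pvL i (pt 2) 4 (Or.inl rfl)

/-- `4 e_i - 4 e_2` -/
def yM (i : GolayPt) : ↥leechLattice := pvL i (pt 2) (-4) (Or.inr rfl)

theorem yP_mem {i : GolayPt} (h0 : i ≠ pt 0) (h1 : i ≠ pt 1) (h2 : i ≠ pt 2) : yP i ∈ Census.X a01 0 :=
  pvL_mem h2 h0 h1 p2.1 p2.2 _ _

theorem yM_mem {i : GolayPt} (h0 : i ≠ pt 0) (h1 : i ≠ pt 1) (h2 : i ≠ pt 2) : yM i ∈ Census.X a01 0 :=
  pvL_mem h2 h0 h1 p2.1 p2.2 _ _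

theorem dot_yP_yP {i j : GolayPt} (hi : i ≠ pt 2) (hj : j ≠ pt 2) :
    dotInt (yP i : GolayPt → ℤ) (yP j : GolayPt → ℤ) ≠ 0 := by
  show dotInt (pv i (pt 2) 4 4) (pv j (pt 2) 4 4) ≠ 0
  rw [dot_pv, pv_apply, pv_apply]
  simp only [hi, hj.symm, if_true, if_false]
  split_ifs <;> norm_num

theorem dot_yP_yM {i j : GolayPt} (hi : i ≠ pt 2) (hj : j ≠ pt 2) (hij : i ≠ j) :
    dotInt (yP i : GolayPt → ℤ) (yM j : GolayPt → ℤ) ≠ 0 := by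
  show dotInt (pv i (pt 2) 4 4) (pv j (pt 2) 4 (-4)) ≠ 0
  rw [dot_pv, pv_apply, pv_apply]
  simp only [hi, hj.symm, hij, if_true, if_false]
  norm_num

theorem E8_eq_add (i : GolayPt) : E8 i = yP i + yM i := by
  apply Subtype.ext
  show (Pi.single i 8 : GolayPt → ℤ) = pv i (pt 2) 4 4 + pv i (pt 2) 4 (-4)
  funext q
  rw [Pi.add_apply, pv_apply, pv_apply, Pi.single_apply]
  split_ifs <;> norm_num

theorem E82_eq_sub (i : GolayPt) : E8 (pt 2) = yP i - yM i := by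
  apply Subtype.ext
  show (Pi.single (pt 2) 8 : GolayPt → ℤ) = pv i (pt 2) 4 4 - pv i (pt 2) 4 (-4)
  funext q
  rw [Pi.sub_apply, pv_apply, pv_apply, Pi.single_apply]
  split_ifs <;> norm_num

theorem p3 : pt 3 ≠ pt 0 ∧ pt 3 ≠ pt 1 ∧ pt 3 ≠ pt 2 := by decide

theorem p4 : pt 4 ≠ pt 0 ∧ pt 4 ≠ pt 1 ∧ pt 4 ≠ pt 2 ∧ pt 4 ≠ pt 3 := by decide

theorem ne_neg_self {x : ↥leechLattice} (hx : sqNorm (x : GolayPt → ℤ) = 32) : x ≠ -x := by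
  intro h
  have h0 : (x : GolayPt → ℤ) = 0 := by
    funext q
    have := congrArg (fun z : ↥leechLattice => (z : GolayPt → ℤ) q) h
    simp only [coe_neg', Pi.neg_apply] at this
    show (x : GolayPt → ℤ) q = 0
    omega
  rw [h0] at hx
  revert hx
  decide +kernel

theorem sign_pos {k : ↥Co0} {x x' : ↥leechLattice} (hss : (k • x = x ∧ k • x' = x') ∨ (k • x = -x ∧ k • x' = -x'))
    (hx : sqNorm (x : GolayPt → ℤ) = 32) (hpos : k • x = x) : k • x' = x' := by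
  rcases hss with ⟨-, h2⟩ | ⟨h1, -⟩
  · exact h2
  · exfalso
    rw [hpos] at h1
    exact ne_neg_self hx h1

theorem sign_neg {k : ↥Co0} {x x' : ↥leechLattice} (hss : (k • x = x ∧ k • x' = x') ∨ (k • x = -x ∧ k • x' = -x'))
    (hx : sqNorm (x : GolayPt → ℤ) = 32) (hneg : k • x = -x) : k • x' = -x' := by
  rcases hss with ⟨h1, -⟩ | ⟨-, h2⟩
  · exfalso
    rw [hneg] at h1
    exact ne_neg_self hx h1.symm
  · exact h2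

/-- the signs on the coordinate vectors outside the first two points agree -/
theorem signs_E8 {k : ↥Co0} (h : ∀ x ∈ Census.X a01 0, k • x = x ∨ k • x = -x) :
    (∀ i, i ≠ pt 0 → i ≠ pt 1 → k • E8 i = E8 i) ∨ (∀ i, i ≠ pt 0 → i ≠ pt 1 → k • E8 i = -E8 i) := by
  have m3 := yP_mem p3.1 p3.2.1 p3.2.2
  have m4 := yP_mem p4.1 p4.2.1 p4.2.2.1
  have m3' := yM_mem p3.1 p3.2.1 p3.2.2
  have s34 := same_sign h m3 m4 (dot_yP_yP p3.2.2 p4.2.2.1)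
  have s43 := same_sign h m4 m3' (dot_yP_yM p4.2.2.1 p3.2.2 p4.2.2.2)
  rcases h _ m3 with hpos | hneg
  · left
    have h4 : k • yP (pt 4) = yP (pt 4) := sign_pos s34 m3.1 hpos
    have hP : ∀ i, i ≠ pt 0 → i ≠ pt 1 → i ≠ pt 2 → k • yP i = yP i := by
      intro i h0 h1 h2
      exact sign_pos (same_sign h m3 (yP_mem h0 h1 h2) (dot_yP_yP p3.2.2 h2)) m3.1 hpos
    have hM : ∀ i, i ≠ pt 0 → i ≠ pt 1 → i ≠ pt 2 → k • yM i = yM i := by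
      intro i h0 h1 h2
      by_cases h3 : i = pt 3
      · rw [h3]
        exact sign_pos s43 m4.1 h4
      · exact sign_pos (same_sign h m3 (yM_mem h0 h1 h2) (dot_yP_yM p3.2.2 h2 (Ne.symm h3))) m3.1 hpos
    intro i h0 h1
    by_cases h2 : i = pt 2
    · rw [h2, E82_eq_sub (pt 3), co0_sub, hpos, hM _ p3.1 p3.2.1 p3.2.2]
    · rw [E8_eq_add i, co0_add, hP i h0 h1 h2, hM i h0 h1 h2]
  · right
    have h4 : k • yP (pt 4) = -yP (pt 4) := sign_neg s34 m3.1 hneg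
    have hP : ∀ i, i ≠ pt 0 → i ≠ pt 1 → i ≠ pt 2 → k • yP i = -yP i := by
      intro i h0 h1 h2
      exact sign_neg (same_sign h m3 (yP_mem h0 h1 h2) (dot_yP_yP p3.2.2 h2)) m3.1 hneg
    have hM : ∀ i, i ≠ pt 0 → i ≠ pt 1 → i ≠ pt 2 → k • yM i = -yM i := by
      intro i h0 h1 h2
      by_cases h3 : i = pt 3
      · rw [h3]
        exact sign_neg s43 m4.1 h4
      · exact sign_neg (same_sign h m3 (yM_mem h0 h1 h2) (dot_yP_yM p3.2.2 h2 (Ne.symm h3))) m3.1 hneg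
    intro i h0 h1
    by_cases h2 : i = pt 2
    · rw [h2, E82_eq_sub (pt 3), co0_sub, hneg, hM _ p3.1 p3.2.1 p3.2.2]
      abel
    · rw [E8_eq_add i, co0_add, hP i h0 h1 h2, hM i h0 h1 h2]
      abel

/-- the test octad: it contains the first point and not the second -/
theorem octT : maskSet 213833 ∈ octads := maskSet_mem_octads (by decide +kernel)

def yT : ↥leechLattice := ⟨fB (maskSet 213833), fB_mem octT⟩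

theorem eq_one_of_pm (k : ↥Co0) (hk : k • a01 = a01) (h : ∀ x ∈ Census.X a01 0, k • x = x ∨ k • x = -x) :
    k = 1 := by
  have hd := h d01 d01_mem
  rcases signs_E8 h with hs | hs <;> rcases hd with hd | hd
  · -- all coordinate vectors are fixed
    have h0 : k • E8 (pt 0) = E8 (pt 0) := by
      show k • e = e
      rw [e_eq', co0_add, hk, hd]
    have h1 : k • E8 (pt 1) = E8 (pt 1) := by rw [E81_eq, co0_sub, hk, hd]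
    have hall : ∀ i, k • E8 i = E8 i := by
      intro i
      by_cases hi0 : i = pt 0
      · rw [hi0]; exact h0
      by_cases hi1 : i = pt 1
      · rw [hi1]; exact h1
      exact hs i hi0 hi1
    apply eq_one_of_forall
    intro z
    apply Subtype.ext
    funext q
    exact coord_of_E8 k z (hall q)
  · -- the first two coordinates are exchanged
    exfalso
    have h0 : k • E8 (pt 0) = E8 (pt 1) := by
      show k • e = E8 (pt 1)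
      rw [e_eq', co0_add, hk, hd, E81_eq, sub_eq_add_neg]
    have h1 : k • E8 (pt 1) = E8 (pt 0) := by
      show k • E8 (pt 1) = e
      rw [E81_eq, co0_sub, hk, hd, e_eq', sub_neg_eq_add]
    have hf : ((k • yT : ↥leechLattice) : GolayPt → ℤ) =
        fun q => if q = pt 0 then 0 else if q = pt 1 then 2 else fB (maskSet 213833) q := by
      funext q
      by_cases hq0 : q = pt 0
      · rw [hq0, coord_of_E8 k yT h1]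
        show fB (maskSet 213833) (pt 1) = _
        decide +kernel
      by_cases hq1 : q = pt 1
      · rw [hq1, coord_of_E8 k yT h0]
        show fB (maskSet 213833) (pt 0) = _
        decide +kernel
      · rw [coord_of_E8 k yT (hs q hq0 hq1)]
        simp only [hq0, hq1, if_false]
        rfl
    have hdvd := dot_dvd (k • yT) yT
    rw [hf] at hdvd
    have : dotInt (fun q => if q = pt 0 then 0 else if q = pt 1 then 2 else fB (maskSet 213833) q)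
        (yT : GolayPt → ℤ) = 28 := by
      show dotInt (fun q => if q = pt 0 then 0 else if q = pt 1 then 2 else fB (maskSet 213833) q)
        (fB (maskSet 213833)) = 28
      decide +kernel
    rw [this] at hdvd
    omega
  · -- the coordinates outside the first two change sign
    exfalso
    have h0 : k • E8 (pt 0) = E8 (pt 0) := by
      show k • e = e
      rw [e_eq', co0_add, hk, hd]
    have h1 : k • E8 (pt 1) = E8 (pt 1) := by rw [E81_eq, co0_sub, hk, hd]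
    have hf : ((k • D0 : ↥leechLattice) : GolayPt → ℤ) =
        fun q => if q = pt 0 then 5 else if q = pt 1 then 1 else -1 := by
      funext q
      by_cases hq0 : q = pt 0
      · rw [hq0, coord_of_E8 k D0 h0]
        rfl
      by_cases hq1 : q = pt 1
      · rw [hq1, coord_of_E8 k D0 h1]
        rfl
      · rw [coord_of_E8_neg k D0 (hs q hq0 hq1)]
        simp only [hq0, hq1, if_false]
        show -d0 q = -1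
        unfold d0
        rw [if_neg hq0]
    have hdvd := dot_dvd (k • D0) D0
    rw [hf] at hdvd
    have : dotInt (fun q => if q = pt 0 then 5 else if q = pt 1 then 1 else -1) (D0 : GolayPt → ℤ) = 4 := by
      show dotInt (fun q => if q = pt 0 then 5 else if q = pt 1 then 1 else -1) d0 = 4
      decide +kernel
    rw [this] at hdvd
    omega
  · -- both
    exfalso
    have h0 : k • E8 (pt 0) = E8 (pt 1) := by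
      show k • e = E8 (pt 1)
      rw [e_eq', co0_add, hk, hd, E81_eq, sub_eq_add_neg]
    have h1 : k • E8 (pt 1) = E8 (pt 0) := by
      show k • E8 (pt 1) = e
      rw [E81_eq, co0_sub, hk, hd, e_eq', sub_neg_eq_add]
    have hf : ((k • D0 : ↥leechLattice) : GolayPt → ℤ) =
        fun q => if q = pt 0 then 1 else if q = pt 1 then 5 else -1 := by
      funext q
      by_cases hq0 : q = pt 0
      · rw [hq0, coord_of_E8 k D0 h1]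
        rfl
      by_cases hq1 : q = pt 1
      · rw [hq1, coord_of_E8 k D0 h0]
        rfl
      · rw [coord_of_E8_neg k D0 (hs q hq0 hq1)]
        simp only [hq0, hq1, if_false]
        show -d0 q = -1
        unfold d0
        rw [if_neg hq0]
    have hdvd := dot_dvd (k • D0) D0
    rw [hf] at hdvd
    have : dotInt (fun q => if q = pt 0 then 1 else if q = pt 1 then 5 else -1) (D0 : GolayPt → ℤ) = -12 := by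
      show dotInt (fun q => if q = pt 0 then 1 else if q = pt 1 then 5 else -1) d0 = -12
      decide +kernel
    rw [this] at hdvd
    omega

/-! ### The fixed points of the stabiliser of the standard pair -/

theorem sum_three (A B C : ℤ) :
    ∑ i : GolayPt, (if i = pt 0 then A else if i = pt 1 then B else C) = A + B + 22 * C := by
  have h01 : pt 0 ≠ pt 1 := by decide
  have : ∀ i : GolayPt, (if i = pt 0 then A else if i = pt 1 then B else C) =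
      C + (if i = pt 0 then A - C else 0) + (if i = pt 1 then B - C else 0) := by
    intro i
    by_cases h0 : i = pt 0
    · rw [h0, if_pos rfl, if_pos rfl, if_neg h01]
      ring
    · by_cases h1 : i = pt 1
      · rw [if_neg h0, if_pos h1, if_neg h0, if_pos h1]
        ring
      · rw [if_neg h0, if_neg h1, if_neg h0, if_neg h1]
        ring
  simp only [this, Finset.sum_add_distrib, Finset.sum_const, Finset.sum_ite_eq', Finset.mem_univ, if_true]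
  have hc : (Finset.univ : Finset GolayPt).card = 24 := by decide
  rw [hc]
  simp only [nsmul_eq_mul]
  push_cast
  ring

theorem solve_abc (a c : ℤ) (h1 : a ^ 2 + (-2 - a) ^ 2 + 22 * c ^ 2 = 32) (h2 : (8 : ℤ) ∣ 5 * a + (-2 - a) + 22 * c) :
    (a = 1 ∧ c = 1) ∨ (a = -3 ∧ c = 1) := by
  have hcl : -1 ≤ c := by nlinarith [sq_nonneg a, sq_nonneg (-2 - a)]
  have hcu : c ≤ 1 := by nlinarith [sq_nonneg a, sq_nonneg (-2 - a)]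
  have hal : -5 ≤ a := by nlinarith [sq_nonneg c, sq_nonneg (-2 - a)]
  have hau : a ≤ 5 := by nlinarith [sq_nonneg c, sq_nonneg (-2 - a)]
  obtain ⟨t, ht⟩ := h2
  interval_cases c <;> interval_cases a <;>
    first
    | (exfalso; norm_num at h1; done)
    | (exfalso; omega)
    | (left; exact ⟨rfl, rfl⟩)
    | (right; exact ⟨rfl, rfl⟩)

theorem fix_unique (w : ↥leechLattice) (hw : w ∈ Census.X a01 (-8))
    (hfix : ∀ k : ↥Co0, k • a01 = a01 → k • (D0 - a01) = D0 - a01 → k • w = w) : w = D0 - a01 := by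
  have hc : ∀ j, j ≠ pt 0 → j ≠ pt 1 → (w : GolayPt → ℤ) j = (w : GolayPt → ℤ) (pt 2) := by
    intro j hj0 hj1
    obtain ⟨σ, hσ, h0, h1, hσj⟩ := exists_move_point (j := pt 2) (j' := j) (by decide) (by decide) hj0 hj1
    obtain ⟨f1, f2, -⟩ := piCo_t1 hσ h0 h1
    have h2 := congrArg (fun z : ↥leechLattice => (z : GolayPt → ℤ) j) (hfix (piCo σ hσ) f1 f2)
    simp only [piCo_smul, sp_apply] at h2
    have e : σ.symm j = pt 2 := by rw [symm_eq_iff, hσj]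
    rw [e] at h2
    exact h2.symm
  obtain ⟨a, ha⟩ : ∃ a : ℤ, (w : GolayPt → ℤ) (pt 0) = a := ⟨_, rfl⟩
  obtain ⟨b, hb⟩ : ∃ b : ℤ, (w : GolayPt → ℤ) (pt 1) = b := ⟨_, rfl⟩
  obtain ⟨c, hcc⟩ : ∃ c : ℤ, (w : GolayPt → ℤ) (pt 2) = c := ⟨_, rfl⟩
  have hwf : (w : GolayPt → ℤ) = fun i => if i = pt 0 then a else if i = pt 1 then b else c := by
    funext i
    by_cases h0 : i = pt 0
    · rw [h0, if_pos rfl, ha]
    by_cases h1 : i = pt 1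
    · rw [h1, if_neg (by decide), if_pos rfl, hb]
    · rw [if_neg h0, if_neg h1, hc i h0 h1, hcc]
  have e1 : a + b = -2 := by
    have := hw.2
    rw [dot_a01, ha, hb] at this
    omega
  have e2 : a ^ 2 + b ^ 2 + 22 * c ^ 2 = 32 := by
    have := hw.1
    rw [hwf] at this
    unfold sqNorm at this
    have h3 : ∀ i : GolayPt, (if i = pt 0 then a else if i = pt 1 then b else c) ^ 2 =
        (if i = pt 0 then a ^ 2 else if i = pt 1 then b ^ 2 else c ^ 2) := by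
      intro i
      split_ifs <;> rfl
    simp only [h3] at this
    rw [sum_three] at this
    exact this
  have e3 : (8 : ℤ) ∣ 5 * a + b + 22 * c := by
    have := dot_dvd D0 w
    have h4 : dotInt (D0 : GolayPt → ℤ) (w : GolayPt → ℤ) = 5 * a + b + 22 * c := by
      show dotInt d0 (w : GolayPt → ℤ) = _
      rw [dot_d0, ha]
      rw [hwf, sum_three]
      ring
    rwa [h4] at this
  have hb' : b = -2 - a := by omega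
  subst hb'
  have hcases := solve_abc a c e2 e3
  rcases hcases with ⟨rfl, rfl⟩ | ⟨rfl, rfl⟩
  · apply Subtype.ext
    rw [hwf]
    show _ = d0 - pv (pt 0) (pt 1) 4 4
    decide +kernel
  · exfalso
    -- `w = (D0 - a01) - d01`, and `d01` is moved by the stabiliser
    have hw' : w = (D0 - a01) - d01 := by
      apply Subtype.ext
      rw [hwf]
      show _ = d0 - pv (pt 0) (pt 1) 4 4 - pv (pt 0) (pt 1) 4 (-4)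
      decide +kernel
    obtain ⟨g, g1, g2, -, g4⟩ := McL275b.exists_link
    have g3 : g • (D0 - a01) = D0 - a01 := by rw [co0_sub, g1, g2]
    have hgw := hfix g g2 g3
    rw [hw', co0_sub, g3] at hgw
    have hgd : g • d01 = d01 := by
      have := congrArg (fun z : ↥leechLattice => (D0 - a01) - z) hgw
      simpa using this
    have hne : xL ≠ d01 := by
      intro hx
      have h5 := dot_xL_yA3
      rw [hx, dot_d01', ipd_yA3] at h5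
      omega
    apply hne
    apply MulAction.injective g
    show g • xL = g • d01
    rw [g4, hgd]

/-! ### The sign changes -/

/-- for every codeword avoiding the first two points, a word `i` such that `cw i` and `cw (k ^^^ i)` are octads
avoiding the first two points or zero -/
def spanTbl : List ℕ := [
  0, 0, 0, 0, 0, 0, 0, 0, 0, 0, 0, 0, 0, 0, 0, 0, 0, 0, 0, 0, 0, 0, 0, 0, 0, 0, 0, 0, 0, 0, 0, 0,
  0, 0, 0, 0, 0, 0, 0, 0, 0, 0, 0, 0, 0, 0, 0, 0, 0, 0, 0, 0, 4, 0, 0, 0, 0, 0, 0, 0, 4, 0, 0, 0,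
  0, 0, 0, 0, 0, 0, 0, 0, 0, 0, 0, 0, 0, 0, 0, 0, 4, 0, 0, 0, 0, 0, 0, 0, 0, 0, 0, 0, 4, 0, 0, 0,
  0, 0, 0, 0, 0, 0, 0, 0, 0, 0, 0, 0, 0, 0, 0, 0, 0, 0, 0, 0, 0, 0, 0, 0, 8, 0, 0, 0, 8, 0, 0, 0,
  0, 0, 0, 0, 0, 0, 0, 0, 0, 0, 0, 0, 0, 0, 0, 0, 0, 0, 0, 0, 0, 0, 0, 0, 8, 0, 0, 0, 8, 0, 0, 0,
  0, 0, 0, 0, 0, 0, 0, 0, 0, 0, 0, 0, 0, 0, 0, 0, 0, 0, 0, 0, 4, 0, 0, 0, 4, 0, 0, 0, 0, 0, 0, 0,
  0, 0, 0, 0, 0, 0, 0, 0, 0, 0, 0, 0, 0, 0, 0, 0, 0, 0, 0, 0, 4, 0, 0, 0, 0, 0, 0, 0, 4, 0, 0, 0,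
  0, 0, 0, 0, 0, 0, 0, 0, 0, 0, 0, 0, 4, 0, 0, 0, 16, 0, 0, 0, 16, 0, 0, 0, 16, 0, 0, 0, 20, 0, 0, 0,
  0, 0, 0, 0, 0, 0, 0, 0, 0, 0, 0, 0, 0, 0, 0, 0, 0, 0, 0, 0, 0, 0, 0, 0, 0, 0, 0, 0, 0, 0, 0, 0,
  0, 0, 0, 0, 4, 0, 0, 0, 4, 0, 0, 0, 0, 0, 0, 0, 0, 0, 0, 0, 0, 0, 0, 0, 8, 0, 0, 0, 8, 0, 0, 0,
  0, 0, 0, 0, 0, 0, 0, 0, 8, 0, 0, 0, 8, 0, 0, 0, 0, 0, 0, 0, 4, 0, 0, 0, 0, 0, 0, 0, 4, 0, 0, 0,
  0, 0, 0, 0, 4, 0, 0, 0, 0, 0, 0, 0, 4, 0, 0, 0, 4, 0, 0, 0, 0, 0, 0, 0, 0, 0, 0, 0, 4, 0, 0, 0,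
  0, 0, 0, 0, 4, 0, 0, 0, 0, 0, 0, 0, 4, 0, 0, 0, 0, 0, 0, 0, 4, 0, 0, 0, 4, 0, 0, 0, 0, 0, 0, 0,
  0, 0, 0, 0, 0, 0, 0, 0, 8, 0, 0, 0, 8, 0, 0, 0, 0, 0, 0, 0, 4, 0, 0, 0, 0, 0, 0, 0, 4, 0, 0, 0,
  4, 0, 0, 0, 0, 0, 0, 0, 0, 0, 0, 0, 4, 0, 0, 0, 0, 0, 0, 0, 0, 0, 0, 0, 8, 0, 0, 0, 8, 0, 0, 0,
  36, 0, 0, 0, 32, 0, 0, 0, 32, 0, 0, 0, 36, 0, 0, 0, 32, 0, 0, 0, 32, 0, 0, 0, 40, 0, 0, 0, 40, 0, 0, 0,
  0, 0, 0, 0, 4, 0, 0, 0, 0, 0, 0, 0, 0, 0, 0, 0, 0, 0, 0, 0, 0, 0, 0, 0, 0, 0, 0, 0, 4, 0, 0, 0,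
  0, 0, 0, 0, 0, 0, 0, 0, 0, 0, 0, 0, 4, 0, 0, 0, 0, 0, 0, 0, 0, 0, 0, 0, 0, 0, 0, 0, 4, 0, 0, 0,
  0, 0, 0, 0, 0, 0, 0, 0, 4, 0, 0, 0, 0, 0, 0, 0, 0, 0, 0, 0, 0, 0, 0, 0, 0, 0, 0, 0, 4, 0, 0, 0,
  0, 0, 0, 0, 4, 0, 0, 0, 8, 0, 0, 0, 12, 0, 0, 0, 12, 0, 0, 0, 8, 0, 0, 0, 4, 0, 0, 0, 0, 0, 0, 0,
  0, 0, 0, 0, 0, 0, 0, 0, 0, 0, 0, 0, 4, 0, 0, 0, 4, 0, 0, 0, 0, 0, 0, 0, 0, 0, 0, 0, 0, 0, 0, 0,
  4, 0, 0, 0, 0, 0, 0, 0, 12, 0, 0, 0, 8, 0, 0, 0, 0, 0, 0, 0, 4, 0, 0, 0, 8, 0, 0, 0, 12, 0, 0, 0,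
  0, 0, 0, 0, 4, 0, 0, 0, 8, 0, 0, 0, 12, 0, 0, 0, 0, 0, 0, 0, 4, 0, 0, 0, 8, 0, 0, 0, 12, 0, 0, 0,
  8, 0, 0, 0, 12, 0, 0, 0, 0, 0, 0, 0, 4, 0, 0, 0, 0, 0, 0, 0, 4, 0, 0, 0, 8, 0, 0, 0, 12, 0, 0, 0,
  0, 0, 0, 0, 0, 0, 0, 0, 0, 0, 0, 0, 4, 0, 0, 0, 4, 0, 0, 0, 0, 0, 0, 0, 12, 0, 0, 0, 8, 0, 0, 0,
  0, 0, 0, 0, 0, 0, 0, 0, 4, 0, 0, 0, 0, 0, 0, 0, 8, 0, 0, 0, 12, 0, 0, 0, 0, 0, 0, 0, 4, 0, 0, 0,
  0, 0, 0, 0, 4, 0, 0, 0, 0, 0, 0, 0, 0, 0, 0, 0, 0, 0, 0, 0, 4, 0, 0, 0, 8, 0, 0, 0, 12, 0, 0, 0,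
  0, 0, 0, 0, 4, 0, 0, 0, 8, 0, 0, 0, 12, 0, 0, 0, 16, 0, 0, 0, 20, 0, 0, 0, 24, 0, 0, 0, 28, 0, 0, 0,
  0, 0, 0, 0, 0, 0, 0, 0, 0, 0, 0, 0, 4, 0, 0, 0, 0, 0, 0, 0, 4, 0, 0, 0, 8, 0, 0, 0, 12, 0, 0, 0,
  8, 0, 0, 0, 12, 0, 0, 0, 0, 0, 0, 0, 4, 0, 0, 0, 24, 0, 0, 0, 28, 0, 0, 0, 16, 0, 0, 0, 20, 0, 0, 0,
  4, 0, 0, 0, 0, 0, 0, 0, 12, 0, 0, 0, 8, 0, 0, 0, 20, 0, 0, 0, 16, 0, 0, 0, 28, 0, 0, 0, 24, 0, 0, 0,
  0, 0, 0, 0, 4, 0, 0, 0, 8, 0, 0, 0, 12, 0, 0, 0, 16, 0, 0, 0, 20, 0, 0, 0, 24, 0, 0, 0, 28, 0, 0, 0,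
  0, 0, 0, 0, 0, 0, 0, 0, 4, 0, 0, 0, 0, 0, 0, 0, 0, 0, 0, 0, 4, 0, 0, 0, 0, 0, 0, 0, 0, 0, 0, 0,
  0, 0, 0, 0, 0, 0, 0, 0, 0, 0, 0, 0, 4, 0, 0, 0, 0, 0, 0, 0, 0, 0, 0, 0, 4, 0, 0, 0, 0, 0, 0, 0,
  0, 0, 0, 0, 0, 0, 0, 0, 0, 0, 0, 0, 4, 0, 0, 0, 0, 0, 0, 0, 0, 0, 0, 0, 0, 0, 0, 0, 4, 0, 0, 0,
  8, 0, 0, 0, 12, 0, 0, 0, 0, 0, 0, 0, 4, 0, 0, 0, 0, 0, 0, 0, 4, 0, 0, 0, 8, 0, 0, 0, 12, 0, 0, 0,
  0, 0, 0, 0, 4, 0, 0, 0, 0, 0, 0, 0, 0, 0, 0, 0, 0, 0, 0, 0, 0, 0, 0, 0, 0, 0, 0, 0, 4, 0, 0, 0,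
  0, 0, 0, 0, 4, 0, 0, 0, 8, 0, 0, 0, 12, 0, 0, 0, 0, 0, 0, 0, 4, 0, 0, 0, 8, 0, 0, 0, 12, 0, 0, 0,
  0, 0, 0, 0, 4, 0, 0, 0, 8, 0, 0, 0, 12, 0, 0, 0, 4, 0, 0, 0, 0, 0, 0, 0, 12, 0, 0, 0, 8, 0, 0, 0,
  4, 0, 0, 0, 0, 0, 0, 0, 12, 0, 0, 0, 8, 0, 0, 0, 8, 0, 0, 0, 12, 0, 0, 0, 0, 0, 0, 0, 4, 0, 0, 0,
  0, 0, 0, 0, 0, 0, 0, 0, 0, 0, 0, 0, 4, 0, 0, 0, 0, 0, 0, 0, 4, 0, 0, 0, 8, 0, 0, 0, 12, 0, 0, 0,
  0, 0, 0, 0, 4, 0, 0, 0, 0, 0, 0, 0, 0, 0, 0, 0, 0, 0, 0, 0, 4, 0, 0, 0, 8, 0, 0, 0, 12, 0, 0, 0,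
  0, 0, 0, 0, 0, 0, 0, 0, 0, 0, 0, 0, 4, 0, 0, 0, 12, 0, 0, 0, 8, 0, 0, 0, 4, 0, 0, 0, 0, 0, 0, 0,
  4, 0, 0, 0, 0, 0, 0, 0, 12, 0, 0, 0, 8, 0, 0, 0, 20, 0, 0, 0, 16, 0, 0, 0, 28, 0, 0, 0, 24, 0, 0, 0,
  0, 0, 0, 0, 0, 0, 0, 0, 4, 0, 0, 0, 0, 0, 0, 0, 0, 0, 0, 0, 4, 0, 0, 0, 8, 0, 0, 0, 12, 0, 0, 0,
  0, 0, 0, 0, 4, 0, 0, 0, 8, 0, 0, 0, 12, 0, 0, 0, 16, 0, 0, 0, 20, 0, 0, 0, 24, 0, 0, 0, 28, 0, 0, 0,
  8, 0, 0, 0, 12, 0, 0, 0, 0, 0, 0, 0, 4, 0, 0, 0, 24, 0, 0, 0, 28, 0, 0, 0, 16, 0, 0, 0, 20, 0, 0, 0,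
  0, 0, 0, 0, 4, 0, 0, 0, 8, 0, 0, 0, 12, 0, 0, 0, 16, 0, 0, 0, 20, 0, 0, 0, 24, 0, 0, 0, 28, 0, 0, 0,
  0, 0, 0, 0, 0, 0, 0, 0, 0, 0, 0, 0, 0, 0, 0, 0, 0, 0, 0, 0, 0, 0, 0, 0, 8, 0, 0, 0, 8, 0, 0, 0,
  4, 0, 0, 0, 0, 0, 0, 0, 0, 0, 0, 0, 4, 0, 0, 0, 20, 0, 0, 0, 16, 0, 0, 0, 16, 0, 0, 0, 20, 0, 0, 0,
  0, 0, 0, 0, 4, 0, 0, 0, 0, 0, 0, 0, 4, 0, 0, 0, 16, 0, 0, 0, 20, 0, 0, 0, 16, 0, 0, 0, 20, 0, 0, 0,
  0, 0, 0, 0, 0, 0, 0, 0, 8, 0, 0, 0, 8, 0, 0, 0, 0, 0, 0, 0, 4, 0, 0, 0, 8, 0, 0, 0, 12, 0, 0, 0,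
  0, 0, 0, 0, 0, 0, 0, 0, 8, 0, 0, 0, 8, 0, 0, 0, 8, 0, 0, 0, 12, 0, 0, 0, 0, 0, 0, 0, 4, 0, 0, 0,
  0, 0, 0, 0, 4, 0, 0, 0, 0, 0, 0, 0, 4, 0, 0, 0, 16, 0, 0, 0, 20, 0, 0, 0, 16, 0, 0, 0, 20, 0, 0, 0,
  0, 0, 0, 0, 4, 0, 0, 0, 4, 0, 0, 0, 0, 0, 0, 0, 16, 0, 0, 0, 20, 0, 0, 0, 20, 0, 0, 0, 16, 0, 0, 0,
  32, 0, 0, 0, 36, 0, 0, 0, 36, 0, 0, 0, 32, 0, 0, 0, 48, 0, 0, 0, 56, 0, 0, 0, 56, 0, 0, 0, 48, 0, 0, 0,
  4, 0, 0, 0, 0, 0, 0, 0, 0, 0, 0, 0, 4, 0, 0, 0, 0, 0, 0, 0, 4, 0, 0, 0, 0, 0, 0, 0, 4, 0, 0, 0,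
  0, 0, 0, 0, 4, 0, 0, 0, 8, 0, 0, 0, 12, 0, 0, 0, 16, 0, 0, 0, 20, 0, 0, 0, 24, 0, 0, 0, 28, 0, 0, 0,
  16, 0, 0, 0, 20, 0, 0, 0, 24, 0, 0, 0, 28, 0, 0, 0, 0, 0, 0, 0, 4, 0, 0, 0, 8, 0, 0, 0, 12, 0, 0, 0,
  48, 0, 0, 0, 68, 0, 0, 0, 56, 0, 0, 0, 76, 0, 0, 0, 32, 0, 0, 0, 36, 0, 0, 0, 40, 0, 0, 0, 44, 0, 0, 0,
  64, 0, 0, 0, 48, 0, 0, 0, 72, 0, 0, 0, 56, 0, 0, 0, 36, 0, 0, 0, 32, 0, 0, 0, 44, 0, 0, 0, 40, 0, 0, 0,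
  20, 0, 0, 0, 16, 0, 0, 0, 28, 0, 0, 0, 24, 0, 0, 0, 4, 0, 0, 0, 0, 0, 0, 0, 12, 0, 0, 0, 8, 0, 0, 0,
  0, 0, 0, 0, 4, 0, 0, 0, 8, 0, 0, 0, 12, 0, 0, 0, 16, 0, 0, 0, 20, 0, 0, 0, 24, 0, 0, 0, 28, 0, 0, 0,
  32, 0, 0, 0, 36, 0, 0, 0, 40, 0, 0, 0, 44, 0, 0, 0, 48, 0, 0, 0, 64, 0, 0, 0, 56, 0, 0, 0, 72, 0, 0, 0,
  0, 0, 0, 0, 0, 0, 0, 0, 0, 0, 0, 0, 0, 0, 0, 0, 0, 0, 0, 0, 0, 0, 0, 0, 0, 0, 0, 0, 0, 0, 0, 0,
  0, 0, 0, 0, 0, 0, 0, 0, 8, 0, 0, 0, 8, 0, 0, 0, 4, 0, 0, 0, 0, 0, 0, 0, 0, 0, 0, 0, 4, 0, 0, 0,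
  0, 0, 0, 0, 4, 0, 0, 0, 0, 0, 0, 0, 4, 0, 0, 0, 0, 0, 0, 0, 0, 0, 0, 0, 8, 0, 0, 0, 8, 0, 0, 0,
  0, 0, 0, 0, 4, 0, 0, 0, 4, 0, 0, 0, 0, 0, 0, 0, 0, 0, 0, 0, 4, 0, 0, 0, 0, 0, 0, 0, 4, 0, 0, 0,
  4, 0, 0, 0, 0, 0, 0, 0, 0, 0, 0, 0, 4, 0, 0, 0, 0, 0, 0, 0, 4, 0, 0, 0, 0, 0, 0, 0, 4, 0, 0, 0,
  0, 0, 0, 0, 4, 0, 0, 0, 0, 0, 0, 0, 4, 0, 0, 0, 0, 0, 0, 0, 0, 0, 0, 0, 8, 0, 0, 0, 8, 0, 0, 0,
  0, 0, 0, 0, 0, 0, 0, 0, 8, 0, 0, 0, 8, 0, 0, 0, 0, 0, 0, 0, 4, 0, 0, 0, 4, 0, 0, 0, 0, 0, 0, 0,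
  32, 0, 0, 0, 32, 0, 0, 0, 40, 0, 0, 0, 40, 0, 0, 0, 32, 0, 0, 0, 36, 0, 0, 0, 36, 0, 0, 0, 32, 0, 0, 0,
  0, 0, 0, 0, 0, 0, 0, 0, 0, 0, 0, 0, 0, 0, 0, 0, 0, 0, 0, 0, 0, 0, 0, 0, 0, 0, 0, 0, 4, 0, 0, 0,
  0, 0, 0, 0, 4, 0, 0, 0, 0, 0, 0, 0, 4, 0, 0, 0, 16, 0, 0, 0, 20, 0, 0, 0, 16, 0, 0, 0, 20, 0, 0, 0,
  0, 0, 0, 0, 4, 0, 0, 0, 4, 0, 0, 0, 0, 0, 0, 0, 16, 0, 0, 0, 20, 0, 0, 0, 20, 0, 0, 0, 16, 0, 0, 0,
  0, 0, 0, 0, 0, 0, 0, 0, 8, 0, 0, 0, 8, 0, 0, 0, 16, 0, 0, 0, 16, 0, 0, 0, 24, 0, 0, 0, 24, 0, 0, 0,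
  0, 0, 0, 0, 0, 0, 0, 0, 8, 0, 0, 0, 8, 0, 0, 0, 16, 0, 0, 0, 16, 0, 0, 0, 24, 0, 0, 0, 24, 0, 0, 0,
  4, 0, 0, 0, 0, 0, 0, 0, 0, 0, 0, 0, 4, 0, 0, 0, 20, 0, 0, 0, 16, 0, 0, 0, 16, 0, 0, 0, 20, 0, 0, 0,
  0, 0, 0, 0, 4, 0, 0, 0, 0, 0, 0, 0, 4, 0, 0, 0, 16, 0, 0, 0, 20, 0, 0, 0, 16, 0, 0, 0, 20, 0, 0, 0,
  16, 0, 0, 0, 20, 0, 0, 0, 24, 0, 0, 0, 28, 0, 0, 0, 0, 0, 0, 0, 4, 0, 0, 0, 8, 0, 0, 0, 12, 0, 0, 0,
  0, 0, 0, 0, 0, 0, 0, 0, 4, 0, 0, 0, 0, 0, 0, 0, 0, 0, 0, 0, 4, 0, 0, 0, 8, 0, 0, 0, 12, 0, 0, 0,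
  0, 0, 0, 0, 4, 0, 0, 0, 0, 0, 0, 0, 0, 0, 0, 0, 4, 0, 0, 0, 0, 0, 0, 0, 12, 0, 0, 0, 8, 0, 0, 0,
  0, 0, 0, 0, 0, 0, 0, 0, 0, 0, 0, 0, 4, 0, 0, 0, 8, 0, 0, 0, 12, 0, 0, 0, 0, 0, 0, 0, 4, 0, 0, 0,
  0, 0, 0, 0, 4, 0, 0, 0, 8, 0, 0, 0, 12, 0, 0, 0, 16, 0, 0, 0, 20, 0, 0, 0, 24, 0, 0, 0, 28, 0, 0, 0,
  0, 0, 0, 0, 0, 0, 0, 0, 0, 0, 0, 0, 4, 0, 0, 0, 0, 0, 0, 0, 4, 0, 0, 0, 8, 0, 0, 0, 12, 0, 0, 0,
  0, 0, 0, 0, 4, 0, 0, 0, 8, 0, 0, 0, 12, 0, 0, 0, 16, 0, 0, 0, 20, 0, 0, 0, 24, 0, 0, 0, 28, 0, 0, 0,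
  8, 0, 0, 0, 12, 0, 0, 0, 0, 0, 0, 0, 4, 0, 0, 0, 24, 0, 0, 0, 28, 0, 0, 0, 16, 0, 0, 0, 20, 0, 0, 0,
  4, 0, 0, 0, 0, 0, 0, 0, 12, 0, 0, 0, 8, 0, 0, 0, 20, 0, 0, 0, 16, 0, 0, 0, 28, 0, 0, 0, 24, 0, 0, 0,
  0, 0, 0, 0, 4, 0, 0, 0, 8, 0, 0, 0, 12, 0, 0, 0, 8, 0, 0, 0, 12, 0, 0, 0, 0, 0, 0, 0, 4, 0, 0, 0,
  0, 0, 0, 0, 4, 0, 0, 0, 8, 0, 0, 0, 12, 0, 0, 0, 0, 0, 0, 0, 4, 0, 0, 0, 8, 0, 0, 0, 12, 0, 0, 0,
  0, 0, 0, 0, 4, 0, 0, 0, 8, 0, 0, 0, 12, 0, 0, 0, 4, 0, 0, 0, 0, 0, 0, 0, 12, 0, 0, 0, 8, 0, 0, 0,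
  32, 0, 0, 0, 36, 0, 0, 0, 40, 0, 0, 0, 44, 0, 0, 0, 36, 0, 0, 0, 32, 0, 0, 0, 44, 0, 0, 0, 40, 0, 0, 0,
  12, 0, 0, 0, 8, 0, 0, 0, 4, 0, 0, 0, 0, 0, 0, 0, 0, 0, 0, 0, 4, 0, 0, 0, 8, 0, 0, 0, 12, 0, 0, 0,
  44, 0, 0, 0, 40, 0, 0, 0, 36, 0, 0, 0, 32, 0, 0, 0, 32, 0, 0, 0, 36, 0, 0, 0, 40, 0, 0, 0, 44, 0, 0, 0,
  76, 0, 0, 0, 72, 0, 0, 0, 68, 0, 0, 0, 64, 0, 0, 0, 64, 0, 0, 0, 68, 0, 0, 0, 72, 0, 0, 0, 76, 0, 0, 0,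
  108, 0, 0, 0, 104, 0, 0, 0, 100, 0, 0, 0, 96, 0, 0, 0, 96, 0, 0, 0, 100, 0, 0, 0, 104, 0, 0, 0, 108, 0, 0, 0,
  0, 0, 0, 0, 0, 0, 0, 0, 0, 0, 0, 0, 4, 0, 0, 0, 0, 0, 0, 0, 4, 0, 0, 0, 8, 0, 0, 0, 12, 0, 0, 0,
  0, 0, 0, 0, 0, 0, 0, 0, 0, 0, 0, 0, 4, 0, 0, 0, 8, 0, 0, 0, 12, 0, 0, 0, 0, 0, 0, 0, 4, 0, 0, 0,
  4, 0, 0, 0, 0, 0, 0, 0, 0, 0, 0, 0, 0, 0, 0, 0, 0, 0, 0, 0, 4, 0, 0, 0, 8, 0, 0, 0, 12, 0, 0, 0,
  0, 0, 0, 0, 4, 0, 0, 0, 8, 0, 0, 0, 12, 0, 0, 0, 16, 0, 0, 0, 20, 0, 0, 0, 24, 0, 0, 0, 28, 0, 0, 0,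
  0, 0, 0, 0, 0, 0, 0, 0, 0, 0, 0, 0, 4, 0, 0, 0, 4, 0, 0, 0, 0, 0, 0, 0, 12, 0, 0, 0, 8, 0, 0, 0,
  12, 0, 0, 0, 8, 0, 0, 0, 4, 0, 0, 0, 0, 0, 0, 0, 28, 0, 0, 0, 24, 0, 0, 0, 20, 0, 0, 0, 16, 0, 0, 0,
  0, 0, 0, 0, 4, 0, 0, 0, 8, 0, 0, 0, 12, 0, 0, 0, 16, 0, 0, 0, 20, 0, 0, 0, 24, 0, 0, 0, 28, 0, 0, 0,
  0, 0, 0, 0, 4, 0, 0, 0, 8, 0, 0, 0, 12, 0, 0, 0, 16, 0, 0, 0, 20, 0, 0, 0, 24, 0, 0, 0, 28, 0, 0, 0,
  8, 0, 0, 0, 12, 0, 0, 0, 0, 0, 0, 0, 4, 0, 0, 0, 4, 0, 0, 0, 0, 0, 0, 0, 12, 0, 0, 0, 8, 0, 0, 0,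
  4, 0, 0, 0, 0, 0, 0, 0, 12, 0, 0, 0, 8, 0, 0, 0, 0, 0, 0, 0, 4, 0, 0, 0, 8, 0, 0, 0, 12, 0, 0, 0,
  0, 0, 0, 0, 4, 0, 0, 0, 8, 0, 0, 0, 12, 0, 0, 0, 0, 0, 0, 0, 4, 0, 0, 0, 8, 0, 0, 0, 12, 0, 0, 0,
  32, 0, 0, 0, 36, 0, 0, 0, 40, 0, 0, 0, 44, 0, 0, 0, 32, 0, 0, 0, 36, 0, 0, 0, 40, 0, 0, 0, 44, 0, 0, 0,
  0, 0, 0, 0, 4, 0, 0, 0, 8, 0, 0, 0, 12, 0, 0, 0, 8, 0, 0, 0, 12, 0, 0, 0, 0, 0, 0, 0, 4, 0, 0, 0,
  32, 0, 0, 0, 36, 0, 0, 0, 40, 0, 0, 0, 44, 0, 0, 0, 40, 0, 0, 0, 44, 0, 0, 0, 32, 0, 0, 0, 36, 0, 0, 0,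
  64, 0, 0, 0, 68, 0, 0, 0, 72, 0, 0, 0, 76, 0, 0, 0, 72, 0, 0, 0, 76, 0, 0, 0, 64, 0, 0, 0, 68, 0, 0, 0,
  96, 0, 0, 0, 100, 0, 0, 0, 104, 0, 0, 0, 108, 0, 0, 0, 104, 0, 0, 0, 108, 0, 0, 0, 96, 0, 0, 0, 100, 0, 0, 0,
  0, 0, 0, 0, 4, 0, 0, 0, 0, 0, 0, 0, 4, 0, 0, 0, 0, 0, 0, 0, 4, 0, 0, 0, 4, 0, 0, 0, 0, 0, 0, 0,
  16, 0, 0, 0, 20, 0, 0, 0, 24, 0, 0, 0, 28, 0, 0, 0, 0, 0, 0, 0, 4, 0, 0, 0, 8, 0, 0, 0, 12, 0, 0, 0,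
  4, 0, 0, 0, 0, 0, 0, 0, 12, 0, 0, 0, 8, 0, 0, 0, 20, 0, 0, 0, 16, 0, 0, 0, 28, 0, 0, 0, 24, 0, 0, 0,
  36, 0, 0, 0, 32, 0, 0, 0, 44, 0, 0, 0, 40, 0, 0, 0, 64, 0, 0, 0, 48, 0, 0, 0, 72, 0, 0, 0, 56, 0, 0, 0,
  32, 0, 0, 0, 36, 0, 0, 0, 40, 0, 0, 0, 44, 0, 0, 0, 48, 0, 0, 0, 68, 0, 0, 0, 56, 0, 0, 0, 76, 0, 0, 0,
  0, 0, 0, 0, 4, 0, 0, 0, 8, 0, 0, 0, 12, 0, 0, 0, 16, 0, 0, 0, 20, 0, 0, 0, 24, 0, 0, 0, 28, 0, 0, 0,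
  16, 0, 0, 0, 20, 0, 0, 0, 24, 0, 0, 0, 28, 0, 0, 0, 0, 0, 0, 0, 4, 0, 0, 0, 8, 0, 0, 0, 12, 0, 0, 0,
  48, 0, 0, 0, 68, 0, 0, 0, 56, 0, 0, 0, 76, 0, 0, 0, 32, 0, 0, 0, 36, 0, 0, 0, 40, 0, 0, 0, 44, 0, 0, 0,
  0, 0, 0, 0, 0, 0, 0, 0, 8, 0, 0, 0, 8, 0, 0, 0, 16, 0, 0, 0, 16, 0, 0, 0, 24, 0, 0, 0, 24, 0, 0, 0,
  32, 0, 0, 0, 32, 0, 0, 0, 40, 0, 0, 0, 40, 0, 0, 0, 48, 0, 0, 0, 48, 0, 0, 0, 56, 0, 0, 0, 56, 0, 0, 0,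
  40, 0, 0, 0, 44, 0, 0, 0, 32, 0, 0, 0, 36, 0, 0, 0, 56, 0, 0, 0, 84, 0, 0, 0, 48, 0, 0, 0, 88, 0, 0, 0,
  8, 0, 0, 0, 12, 0, 0, 0, 0, 0, 0, 0, 4, 0, 0, 0, 24, 0, 0, 0, 28, 0, 0, 0, 16, 0, 0, 0, 20, 0, 0, 0,
  0, 0, 0, 0, 4, 0, 0, 0, 8, 0, 0, 0, 12, 0, 0, 0, 16, 0, 0, 0, 20, 0, 0, 0, 24, 0, 0, 0, 28, 0, 0, 0,
  32, 0, 0, 0, 36, 0, 0, 0, 40, 0, 0, 0, 44, 0, 0, 0, 48, 0, 0, 0, 176, 0, 0, 0, 56, 0, 0, 0, 188, 0, 0, 0,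
  64, 0, 0, 0, 68, 0, 0, 0, 72, 0, 0, 0, 76, 0, 0, 0, 208, 0, 0, 0, 84, 0, 0, 0, 88, 0, 0, 0, 216, 0, 0, 0,
  96, 0, 0, 0, 100, 0, 0, 0, 104, 0, 0, 0, 108, 0, 0, 0, 112, 0, 0, 0, 116, 0, 0, 0, 144, 0, 0, 0, 148, 0, 0, 0]

def goodW (m : ℕ) : Bool := m == 0 || OctAvoid2.famP m

def spanOK (k i : ℕ) : Bool :=
  !(OctAvoid2.fam (cw k)) || (goodW (cw i) && goodW (cw (k ^^^ i)))

def checkL : ℕ → List ℕ → Bool
  | _, [] => true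
  | k, i :: t => spanOK k i && checkL (k + 1) t

theorem checkL_spec : ∀ (L : List ℕ) (k0 : ℕ), checkL k0 L = true → ∀ n, n < L.length →
    spanOK (k0 + n) (L.getD n 0) = true := by
  intro L
  induction L with
  | nil => intro k0 _ n hn; simp at hn
  | cons i t ih =>
    intro k0 h n hn
    simp only [checkL, Bool.and_eq_true] at h
    cases n with
    | zero => simpa using h.1
    | succ m =>
      have := ih (k0 + 1) h.2 m (by simpa using hn)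
      rw [show k0 + (m + 1) = k0 + 1 + m from by omega]
      simpa using this

theorem span_len : spanTbl.length = 4096 := by decide +kernel

theorem span_ok : checkL 0 spanTbl = true := by decide +kernel

theorem span_spec {k : ℕ} (hk : k < 4096) : spanOK k (spanTbl.getD k 0) = true := by
  have := checkL_spec spanTbl 0 span_ok k (by rw [span_len]; exact hk)
  rwa [zero_add] at this

theorem sp1_apply (c : Finset GolayPt) (x : GolayPt → ℤ) (i : GolayPt) :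
    signedPerm 1 c x i = if i ∈ c then -x i else x i := rfl

theorem epsCo_zero : epsCo 0 golayCode.zero_mem = 1 := by
  apply eq_one_of_forall
  intro z
  apply Subtype.ext
  rw [epsCo_smul, support₂_zero]
  funext i
  rw [sp1_apply, if_neg (Finset.notMem_empty i)]

theorem epsCo_add {u u' : GolayPt → ZMod 2} (hu : u ∈ golayCode) (hu' : u' ∈ golayCode) :
    epsCo (u + u') (golayCode.add_mem hu hu') = epsCo u hu * epsCo u' hu' := by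
  apply Subtype.ext
  apply Equiv.ext
  intro z
  apply Subtype.ext
  show ((epsCo (u + u') (golayCode.add_mem hu hu') • z : ↥leechLattice) : GolayPt → ℤ) =
    ((epsCo u hu • (epsCo u' hu' • z) : ↥leechLattice) : GolayPt → ℤ)
  rw [epsCo_smul, epsCo_smul, epsCo_smul]
  funext i
  rw [sp1_apply, sp1_apply, sp1_apply]
  have := mem_support₂_add u u' i
  by_cases h1 : i ∈ support₂ u <;> by_cases h2 : i ∈ support₂ u' <;> simp_all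

/-! ### The stabiliser of the two coordinate vectors -/

theorem cT_facts : maskSet 13938692 ∈ octads ∧ pt 0 ∉ maskSet 13938692 ∧ pt 1 ∉ maskSet 13938692 := by
  refine ⟨maskSet_mem_octads (by decide +kernel), ?_, ?_⟩
  · decide +kernel
  · decide +kernel

theorem oT_facts : pt 0 ∈ maskSet 213833 ∧ pt 1 ∉ maskSet 213833 ∧
    ∀ q, q ∈ maskSet 213833 → q ∉ maskSet 13938692 := by
  refine ⟨by decide +kernel, by decide +kernel, ?_⟩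
  decide +kernel

/-- the negative of an octad vector through the first point and not the second -/
theorem negB_mem {O : Finset GolayPt} (hO : O ∈ octads) (h0 : pt 0 ∈ O) (h1 : pt 1 ∉ O) :
    -(⟨fB O, fB_mem hO⟩ : ↥leechLattice) ∈ Census.X a01 (-8) := by
  constructor
  · show sqNorm (-(fB O)) = 32
    rw [Census.sqNorm_neg, sqNorm_fB, hO.2]
    norm_num
  · show dotInt (a01 : GolayPt → ℤ) (-(fB O)) = -8
    rw [dot_neg_right', dot_a01]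
    unfold fB
    rw [if_pos h0, if_neg h1]
    norm_num

section StabPair

variable (N' : Subgroup ↥Co0)
  (hstab : ∀ w ∈ Census.X a01 (-8), ∀ k : ↥Co0, k • a01 = a01 → k • w = w → k ∈ N')

include hstab

/-- the sign change on an octad avoiding the first two points -/
theorem epsCo_oct_mem {u : GolayPt → ZMod 2} (hu : u ∈ golayCode) (ho : support₂ u ∈ octads)
    (h0 : pt 0 ∉ support₂ u) (h1 : pt 1 ∉ support₂ u) : epsCo u hu ∈ N' := by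
  obtain ⟨σ, hσ, s0, s1, hσc⟩ := OctAvoid2.trans_fam cT_facts ⟨ho, h0, h1⟩
  have hO : σ • maskSet 213833 ∈ octads := (octads_smul_iff hσ _).mpr octT
  have m0 : pt 0 ∈ σ • maskSet 213833 := by
    rw [← s0, mem_smul_finset_perm]
    exact oT_facts.1
  have m1 : pt 1 ∉ σ • maskSet 213833 := by
    rw [← s1, mem_smul_finset_perm]
    exact oT_facts.2.1
  have hdisj : ∀ q, q ∈ σ • maskSet 213833 → q ∉ support₂ u := by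
    intro q hq hq'
    rw [← hσc] at hq'
    have e : q = σ (σ.symm q) := (Equiv.apply_symm_apply σ q).symm
    rw [e, mem_smul_finset_perm] at hq hq'
    exact oT_facts.2.2 _ hq hq'
  apply hstab _ (negB_mem hO m0 m1)
  · apply Subtype.ext
    rw [epsCo_smul]
    funext i
    rw [sp1_apply]
    split_ifs with hi
    · have hi0 : i ≠ pt 0 := fun h => h0 (h ▸ hi)
      have hi1 : i ≠ pt 1 := fun h => h1 (h ▸ hi)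
      show -pv (pt 0) (pt 1) 4 4 i = pv (pt 0) (pt 1) 4 4 i
      rw [pv_out 4 4 hi0 hi1]
      norm_num
    · rfl
  · apply Subtype.ext
    rw [epsCo_smul]
    funext i
    rw [sp1_apply]
    split_ifs with hi
    · have hiO : i ∉ σ • maskSet 213833 := fun h => hdisj i h hi
      show - -(fB (σ • maskSet 213833)) i = (-(fB (σ • maskSet 213833))) i
      simp only [Pi.neg_apply, fB, if_neg hiO]
      norm_num
    · rfl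

/-- the sign changes avoiding the first two points -/
theorem epsCo_mem {u : GolayPt → ZMod 2} (hu : u ∈ golayCode) (h0 : pt 0 ∉ support₂ u) (h1 : pt 1 ∉ support₂ u) :
    epsCo u hu ∈ N' := by
  obtain ⟨k, hk, rfl⟩ := (mem_golayCode_iff u).mp hu
  have hfam : OctAvoid2.fam (cw k) = true := (OctAvoid2.fam_iff (cw k)).mp ⟨h0, h1⟩
  have hs := span_spec hk
  unfold spanOK at hs
  rw [hfam] at hs
  simp only [Bool.not_true, Bool.false_or, Bool.and_eq_true] at hs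
  obtain ⟨g1, g2⟩ := hs
  -- each good word gives an element of `N'`
  have key : ∀ m : ℕ, goodW (cw m) = true → ∀ h : decW (cw m) ∈ golayCode, epsCo (decW (cw m)) h ∈ N' := by
    intro m hm h
    unfold goodW at hm
    rw [Bool.or_eq_true] at hm
    rcases hm with hm | hm
    · have e : cw m = 0 := by simpa using hm
      have e' : decW (cw m) = 0 := by rw [e, decW_zero]
      have : epsCo (decW (cw m)) h = 1 := by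
        have h2 : ∀ (v : GolayPt → ZMod 2) (hv : v ∈ golayCode), v = 0 → epsCo v hv = 1 := by
          intro v hv hv0
          subst hv0
          exact epsCo_zero
        exact h2 _ h e'
      rw [this]
      exact N'.one_mem
    · unfold OctAvoid2.famP at hm
      rw [Bool.and_eq_true] at hm
      obtain ⟨hp, hf⟩ := hm
      have hp' : popc 24 (cw m) = 8 := by simpa using hp
      obtain ⟨f0, f1⟩ := (OctAvoid2.fam_iff (cw m)).mpr hf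
      have hoct : support₂ (decW (cw m)) ∈ octads := by
        refine ⟨⟨decW (cw m), h, rfl⟩, ?_⟩
        rw [card_support_decW, hp']
      exact epsCo_oct_mem N' hstab h hoct f0 f1
  have hx : cw k = cw (spanTbl.getD k 0) ^^^ cw (k ^^^ spanTbl.getD k 0) := by
    rw [cw_xor]
    congr 1
    rw [Nat.xor_comm k, ← Nat.xor_assoc, Nat.xor_self, Nat.zero_xor]
  have hsum : decW (cw k) = decW (cw (spanTbl.getD k 0)) + decW (cw (k ^^^ spanTbl.getD k 0)) := by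
    rw [← decW_xor, ← hx]
  have h3 : ∀ (v : GolayPt → ZMod 2) (hv : v ∈ golayCode) (a b : GolayPt → ZMod 2) (ha : a ∈ golayCode)
      (hb : b ∈ golayCode), v = a + b → epsCo a ha ∈ N' → epsCo b hb ∈ N' → epsCo v hv ∈ N' := by
    intro v hv a b ha hb hvab hA hB
    subst hvab
    rw [epsCo_add ha hb]
    exact N'.mul_mem hA hB
  exact h3 _ hu _ _ (decW_cw_mem _) (decW_cw_mem _) hsum (key _ g1 _) (key _ g2 _)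

/-- the stabiliser of the two coordinate vectors lies in the subgroup -/
theorem stab_pair_mem (k : ↥Co0) (hk : k • a01 = a01) (hd : k • d01 = d01) : k ∈ N' := by
  have he : k • e = e := by rw [e_eq', co0_add, hk, hd]
  have h1 : k • E8 (pt 1) = E8 (pt 1) := by rw [E81_eq, co0_sub, hk, hd]
  obtain ⟨σ, hσ, c, hc, hkv⟩ := cross_mono (presCross_of_stab he)
  -- the permutation fixes the first two points and the signs avoid them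
  have e0 := hkv (E8 (pt 0))
  have he' : k • E8 (pt 0) = E8 (pt 0) := he
  rw [he', E8_coe, signedPerm_single] at e0
  have e1 := hkv (E8 (pt 1))
  rw [h1, E8_coe, signedPerm_single] at e1
  have s0 : σ (pt 0) = pt 0 := by
    by_contra hne
    have := congrFun e0 (pt 0)
    rw [Pi.single_eq_same, Pi.single_eq_of_ne (Ne.symm hne)] at this
    omega
  have s1 : σ (pt 1) = pt 1 := by
    by_contra hne
    have := congrFun e1 (pt 1)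
    rw [Pi.single_eq_same, Pi.single_eq_of_ne (Ne.symm hne)] at this
    omega
  have c0 : pt 0 ∉ c := by
    intro hin
    have := congrFun e0 (pt 0)
    rw [s0, if_pos hin, Pi.single_eq_same, Pi.single_eq_same] at this
    omega
  have c1 : pt 1 ∉ c := by
    intro hin
    have := congrFun e1 (pt 1)
    rw [s1, if_pos hin, Pi.single_eq_same, Pi.single_eq_same] at this
    omega
  obtain ⟨u, hu, rfl⟩ := hc
  have hprod : k = epsCo u hu * piCo σ hσ := by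
    apply Subtype.ext
    apply Equiv.ext
    intro z
    apply Subtype.ext
    show ((k • z : ↥leechLattice) : GolayPt → ℤ) = ((epsCo u hu • (piCo σ hσ • z) : ↥leechLattice) : GolayPt → ℤ)
    rw [hkv, epsCo_smul, piCo_smul]
    funext i
    rw [sp1_apply, sp_apply]
    rfl
  rw [hprod]
  apply N'.mul_mem (epsCo_mem N' hstab hu c0 c1)
  obtain ⟨f1, f2, -⟩ := piCo_t1 hσ s0 s1
  exact hstab _ w0_mem _ f1 f2

end StabPair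

end Cfsg.Agent.Helper22.Co2Std
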