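import Cfsg.Agent.Helper22.Norm8Trans

/-!
# The stabiliser of a minimal vector of the rank-24 lattice: transitivity on the minimal vectors with a
given inner product
-/

set_option autoImplicit false

namespace Cfsg.Agent.Helper22.Co2Trans

open Cfsg Cfsg.Agent.Helper27 Cfsg.Agent.Helper22.Co0Mono Cfsg.Agent.Helper22.CrossStab
  Cfsg.Agent.Helper22.Co0Center Cfsg.Agent.Helper22.LeechShapes Cfsg.Agent.Helper22.Xi
  Cfsg.Agent.Helper22.MinTrans Cfsg.Agent.Helper22.Norm6Trans Cfsg.Agent.Helper22.Norm8Trans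
open scoped Pointwise

/-! ### The base vector -/

/-- the base vector `(4, -4, 0^22)` -/
def B : ↥leechLattice :=
  ⟨Pi.single (pt 0) 4 + Pi.single (pt 1) (-4), by
    rw [mem_leechLattice_iff]
    refine ⟨0, Pi.single (pt 0) 2 + Pi.single (pt 1) (-2), ?_, ?_, ?_⟩
    · intro q
      simp only [Pi.add_apply, Pi.single_apply]
      split_ifs <;> norm_num
    · simp only [Pi.add_apply, Finset.sum_add_distrib, Finset.sum_pi_single', Finset.mem_univ, if_true]
      decide
    · have : redW (Pi.single (pt 0) 2 + Pi.single (pt 1) (-2)) = 0 := by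
        funext q
        simp only [redW, Pi.add_apply, Pi.single_apply, Pi.zero_apply]
        rw [ZMod.intCast_zmod_eq_zero_iff_dvd]
        split_ifs <;> norm_num
      rw [this]
      exact golayCode.zero_mem⟩

theorem B_apply (q : GolayPt) :
    (B : GolayPt → ℤ) q = if q = pt 0 then 4 else if q = pt 1 then -4 else 0 := by
  show (Pi.single (pt 0) (4 : ℤ) + Pi.single (pt 1) (-4 : ℤ) : GolayPt → ℤ) q = _
  simp only [Pi.add_apply, Pi.single_apply]
  have h01 : pt 0 ≠ pt 1 := by decide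
  by_cases h0 : q = pt 0
  · subst h0
    simp [h01]
  · by_cases h1 : q = pt 1
    · subst h1
      simp [Ne.symm h01]
    · simp [h0, h1]

theorem sqNorm_B : sqNorm (B : GolayPt → ℤ) = 32 := by
  show sqNorm (Pi.single (pt 0) (4 : ℤ) + Pi.single (pt 1) (-4 : ℤ) : GolayPt → ℤ) = 32
  rw [sqNorm_add, sqNorm_single, sqNorm_single, dot_single, Pi.single_eq_of_ne (by decide)]
  norm_num

theorem dot_B (w : GolayPt → ℤ) : dotInt (B : GolayPt → ℤ) w = 4 * w (pt 0) - 4 * w (pt 1) := by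
  classical
  unfold dotInt
  simp only [B_apply]
  rw [Finset.sum_eq_add_of_mem (pt 0) (pt 1) (Finset.mem_univ _) (Finset.mem_univ _) (by decide)]
  · rw [if_pos rfl, if_neg (show pt 1 ≠ pt 0 by decide), if_pos rfl]
    ring
  · intro c _ hc
    rw [if_neg hc.1, if_neg hc.2]
    ring

theorem piCo_B {π : Equiv.Perm GolayPt} (hπ : π ∈ M24) (h0 : π (pt 0) = pt 0) (h1 : π (pt 1) = pt 1) :
    piCo π hπ • B = B := by
  apply Subtype.ext
  funext q
  rw [piCo_apply, B_apply, B_apply]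
  have e0 : π.symm q = pt 0 ↔ q = pt 0 := by rw [Equiv.symm_apply_eq, h0]
  have e1 : π.symm q = pt 1 ↔ q = pt 1 := by rw [Equiv.symm_apply_eq, h1]
  simp only [e0, e1]

theorem epsCo_B {u : GolayPt → ZMod 2} (hu : u ∈ golayCode) (h0 : pt 0 ∉ support₂ u) (h1 : pt 1 ∉ support₂ u) :
    epsCo u hu • B = B := by
  apply Subtype.ext
  funext q
  rw [epsCo_apply, B_apply]
  by_cases hq : q ∈ support₂ u
  · rw [if_pos hq]
    have hq0 : q ≠ pt 0 := fun h => h0 (h ▸ hq)
    have hq1 : q ≠ pt 1 := fun h => h1 (h ▸ hq)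
    rw [if_neg hq0, if_neg hq1]
    norm_num
  · rw [if_neg hq]

theorem xi_B : xi (B : GolayPt → ℤ) = (B : GolayPt → ℤ) := by
  have hS : ∀ a ∈ Finset.range 6, S (fun q => if q = pt 0 then (4 : ℤ) else if q = pt 1 then -4 else 0) a = 0 := by
    decide +kernel
  have hB : (B : GolayPt → ℤ) = fun q => if q = pt 0 then (4 : ℤ) else if q = pt 1 then -4 else 0 := by
    funext q
    exact B_apply q
  funext q
  unfold xi hf
  rw [hB, hS _ (Finset.mem_range.mpr (tet_lt q))]
  by_cases h0 : q = pt 0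
  · subst h0
    rw [show tet (pt 0) = 0 from by decide]
    simp [sg]
  · by_cases h1 : q = pt 1
    · subst h1
      rw [show tet (pt 1) = 0 from by decide]
      simp [sg, h0]
    · simp [h0, h1]

theorem xiCo_B : xiCo • B = B := Subtype.ext (by rw [xiCo_smul, xi_B])

/-! ### The basic move fixing the base vector -/

/-- the basic move: two further points are sent to the last two points of the first tetrad, their signs are
changed, and `ξ` is applied; the base vector is fixed -/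
theorem b_move (v : ↥leechLattice) {c d : GolayPt} (hc0 : c ≠ pt 0) (hc1 : c ≠ pt 1) (hd0 : d ≠ pt 0)
    (hd1 : d ≠ pt 1) (hcd : c ≠ d) {ec ed : ℤ} (hec : ec = 1 ∨ ec = -1) (hed : ed = 1 ∨ ed = -1) :
    ∃ g : ↥Co0, g • B = B ∧
      ((g • v : ↥leechLattice) : GolayPt → ℤ) (pt 0) = (v : GolayPt → ℤ) (pt 0) -
        ((v : GolayPt → ℤ) (pt 0) + (v : GolayPt → ℤ) (pt 1) + ec * (v : GolayPt → ℤ) c +
          ed * (v : GolayPt → ℤ) d) / 2 ∧
      ((g • v : ↥leechLattice) : GolayPt → ℤ) (pt 1) = (v : GolayPt → ℤ) (pt 1) -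
        ((v : GolayPt → ℤ) (pt 0) + (v : GolayPt → ℤ) (pt 1) + ec * (v : GolayPt → ℤ) c +
          ed * (v : GolayPt → ℤ) d) / 2 ∧
      ((g • v : ↥leechLattice) : GolayPt → ℤ) (pt 2) = ec * (v : GolayPt → ℤ) c -
        ((v : GolayPt → ℤ) (pt 0) + (v : GolayPt → ℤ) (pt 1) + ec * (v : GolayPt → ℤ) c +
          ed * (v : GolayPt → ℤ) d) / 2 ∧
      ((g • v : ↥leechLattice) : GolayPt → ℤ) (pt 3) = ed * (v : GolayPt → ℤ) d -
        ((v : GolayPt → ℤ) (pt 0) + (v : GolayPt → ℤ) (pt 1) + ec * (v : GolayPt → ℤ) c +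
          ed * (v : GolayPt → ℤ) d) / 2 := by
  classical
  obtain ⟨r, -, hr⟩ := Finset.exists_mem_notMem_of_card_lt_card
    (s := ({pt 0, pt 1, c, d} : Finset GolayPt)) (t := Finset.univ) (by
      rw [Finset.card_univ, show Fintype.card GolayPt = 24 from by decide]
      exact lt_of_le_of_lt Finset.card_le_four (by norm_num))
  simp only [Finset.mem_insert, Finset.mem_singleton, not_or] at hr
  obtain ⟨hr0, hr1, hr2, hr3⟩ := hr
  have hxinj : Function.Injective ![pt 0, pt 1, c, d, r] :=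
    inj5 (pt 0) (pt 1) c d r (by decide) (Ne.symm hc0) (Ne.symm hd0) (Ne.symm hr0) (Ne.symm hc1) (Ne.symm hd1)
      (Ne.symm hr1) hcd (Ne.symm hr2) (Ne.symm hr3)
  have hyinj : Function.Injective ![pt 0, pt 1, pt 2, pt 3, pt 4] := by decide
  obtain ⟨π, hπ, hπx⟩ := exists_M24_map_five _ _ hxinj hyinj
  have p0 : π (pt 0) = pt 0 := hπx 0
  have p1 : π (pt 1) = pt 1 := hπx 1
  have f0 : π.symm (pt 0) = pt 0 := by rw [Equiv.symm_apply_eq]; exact (hπx 0).symm
  have f1 : π.symm (pt 1) = pt 1 := by rw [Equiv.symm_apply_eq]; exact (hπx 1).symm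
  have f2 : π.symm (pt 2) = c := by rw [Equiv.symm_apply_eq]; exact (hπx 2).symm
  have f3 : π.symm (pt 3) = d := by rw [Equiv.symm_apply_eq]; exact (hπx 3).symm
  obtain ⟨u, hu, h0, h1, h2, h3⟩ := exists_signs4 False False (ec = -1) (ed = -1)
  have key : ∀ (i : ℕ) (t : GolayPt) (e : ℤ), π.symm (pt i) = t → (e = 1 ∨ e = -1) →
      (pt i ∈ support₂ u ↔ e = -1) →
      ((epsCo u hu • (piCo π hπ • v) : ↥leechLattice) : GolayPt → ℤ) (pt i) = e * (v : GolayPt → ℤ) t := by
    intro i t e ht he hm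
    rw [epsCo_apply, piCo_apply, ht]
    rcases he with rfl | rfl
    · rw [if_neg (fun hc => by have := hm.mp hc; norm_num at this)]; ring
    · rw [if_pos (hm.mpr rfl)]; ring
  have k0 := key 0 (pt 0) 1 f0 (Or.inl rfl) (by rw [h0]; norm_num)
  have k1 := key 1 (pt 1) 1 f1 (Or.inl rfl) (by rw [h1]; norm_num)
  rw [one_mul] at k0 k1
  refine ⟨xiCo * epsCo u hu * piCo π hπ, ?_, ?_⟩
  · rw [mul_smul, mul_smul, piCo_B hπ p0 p1, epsCo_B hu (fun h => h0.mp h) (fun h => h1.mp h), xiCo_B]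
  · rw [mul_smul, mul_smul, xiCo_smul]
    refine ⟨?_, ?_, ?_, ?_⟩ <;>
      rw [xi_tet0 _ _ (by decide), k0, k1, key 2 c ec f2 hec h2, key 3 d ed f3 hed h3]

/-- the sum of two words -/
theorem mem_support₂_add (a b : GolayPt → ZMod 2) (p : GolayPt) :
    p ∈ support₂ (a + b) ↔ ¬ (p ∈ support₂ a ↔ p ∈ support₂ b) := by
  simp only [support₂, Finset.mem_filter, Finset.mem_univ, true_and, Pi.add_apply]
  have : ∀ x y : ZMod 2, x + y ≠ 0 ↔ ¬ (x ≠ 0 ↔ y ≠ 0) := by decide
  exact this (a p) (b p)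

/-- two odd minimal vectors with the same absolute values and the same first two coordinates are exchanged
by a sign change fixing the base vector -/
theorem odd_sign_equiv (w w' : ↥leechLattice) (hodd : (w : GolayPt → ℤ) (pt 0) % 2 = 1)
    (hodd' : (w' : GolayPt → ℤ) (pt 0) % 2 = 1)
    (habs : ∀ p, (w : GolayPt → ℤ) p = (w' : GolayPt → ℤ) p ∨ (w : GolayPt → ℤ) p = -(w' : GolayPt → ℤ) p)
    (h0 : (w : GolayPt → ℤ) (pt 0) = (w' : GolayPt → ℤ) (pt 0))
    (h1 : (w : GolayPt → ℤ) (pt 1) = (w' : GolayPt → ℤ) (pt 1)) :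
    ∃ g : ↥Co0, g • B = B ∧ g • w = w' := by
  obtain ⟨u, hu, hmem⟩ := odd_signs w.2 hodd
  obtain ⟨u', hu', hmem'⟩ := odd_signs w'.2 hodd'
  have huu : u + u' ∈ golayCode := golayCode.add_mem hu hu'
  have hs : ∀ p, p ∈ support₂ (u + u') ↔ ¬ ((w : GolayPt → ℤ) p % 4 = 3 ↔ (w' : GolayPt → ℤ) p % 4 = 3) := by
    intro p
    rw [mem_support₂_add, hmem, hmem']
  refine ⟨epsCo (u + u') huu, ?_, ?_⟩
  · apply epsCo_B
    · rw [hs, h0]
      simp
    · rw [hs, h1]
      simp
  · apply Subtype.ext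
    funext p
    rw [epsCo_apply]
    have hw := odd_of_mem (mem_oddSet (n := (sqNorm (w : GolayPt → ℤ)).toNat) w.2 (by
      rw [Int.toNat_of_nonneg]
      exact Finset.sum_nonneg (fun i _ => sq_nonneg _)) hodd) p
    by_cases hp : p ∈ support₂ (u + u')
    · rw [if_pos hp]
      have := (hs p).mp hp
      rcases habs p with h | h
      · rw [h] at this
        exact absurd Iff.rfl this
      · rw [h]
        ring
    · rw [if_neg hp]
      have := (hs p).not.mp hp
      rw [not_not] at this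
      rcases habs p with h | h
      · exact h
      · exfalso
        rw [h] at this hw
        omega

/-! ### Shapes of minimal vectors from one coordinate -/

theorem shapeA_entry {w : GolayPt → ℤ} (h : ShapeA w) (p : GolayPt) : w p = 0 ∨ w p = 4 ∨ w p = -4 := by
  obtain ⟨i, j, -, hi, hj, hrest⟩ := h
  by_cases hpi : p = i
  · subst hpi
    rcases hi with h | h
    · exact Or.inr (Or.inl h)
    · exact Or.inr (Or.inr h)
  · by_cases hpj : p = j
    · subst hpj
      rcases hj with h | h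
      · exact Or.inr (Or.inl h)
      · exact Or.inr (Or.inr h)
    · exact Or.inl (hrest p hpi hpj)

theorem shapeB_entry {w : GolayPt → ℤ} (h : ShapeB w) (p : GolayPt) : w p = 0 ∨ w p = 2 ∨ w p = -2 := by
  obtain ⟨O, -, h1, h2⟩ := h
  by_cases hp : p ∈ O
  · exact Or.inr (h1 p hp)
  · exact Or.inl (h2 p hp)

theorem shapeC_entry {w : GolayPt → ℤ} (h : ShapeC w) (p : GolayPt) : w p % 2 = 1 := by
  obtain ⟨i, hi, hrest, -⟩ := h
  by_cases hpi : p = i
  · subst hpi
    rcases hi with h | h <;> rw [h] <;> norm_num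
  · rcases hrest p hpi with h | h <;> rw [h] <;> norm_num

/-- a minimal vector with a coordinate `±2` has shape `(±2^8, 0^16)` -/
theorem shapeB_of_two {w : GolayPt → ℤ} (hw : w ∈ leechLattice) (hn : sqNorm w = 32) {p : GolayPt}
    (hp : w p = 2 ∨ w p = -2) : ShapeB w := by
  rcases min_shapes hw hn with h | h | h
  · exfalso
    rcases shapeA_entry h p with h' | h' | h' <;> rcases hp with h'' | h'' <;> omega
  · exact h
  · exfalso
    have := shapeC_entry h p
    rcases hp with h'' | h'' <;> omega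

/-- a minimal vector with an odd coordinate has shape `(∓3, ±1^23)` -/
theorem shapeC_of_odd {w : GolayPt → ℤ} (hw : w ∈ leechLattice) (hn : sqNorm w = 32) {p : GolayPt}
    (hp : w p % 2 = 1) : ShapeC w := by
  rcases min_shapes hw hn with h | h | h
  · exfalso
    rcases shapeA_entry h p with h' | h' | h' <;> omega
  · exfalso
    rcases shapeB_entry h p with h' | h' | h' <;> omega
  · exact h

/-- two points outside a set of at most three points -/
theorem exists_two_outside (s : Finset GolayPt) (hs : s.card ≤ 3) :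
    ∃ c d, c ∉ s ∧ d ∉ s ∧ c ≠ d := by
  classical
  have h1 : 1 < (Finset.univ \ s).card := by
    rw [Finset.card_sdiff_of_subset (Finset.subset_univ _), Finset.card_univ,
      show Fintype.card GolayPt = 24 from by decide]
    omega
  obtain ⟨c, hc, d, hd, hcd⟩ := Finset.one_lt_card.mp h1
  rw [Finset.mem_sdiff] at hc hd
  exact ⟨c, d, hc.2, hd.2, hcd⟩

/-! ### Orthogonal minimal vectors -/

/-- a minimal vector with first two coordinates `4` is the reference vector `(4, 4, 0^22)` -/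
theorem eq_v0_of (y : ↥leechLattice) (hn : sqNorm (y : GolayPt → ℤ) = 32) (h0 : (y : GolayPt → ℤ) (pt 0) = 4)
    (h1 : (y : GolayPt → ℤ) (pt 1) = 4) : y = v0 := by
  classical
  apply Subtype.ext
  funext q
  rw [v0_apply]
  by_cases hq0 : q = pt 0
  · rw [if_pos (Or.inl hq0), hq0, h0]
  · by_cases hq1 : q = pt 1
    · rw [if_pos (Or.inr hq1), hq1, h1]
    · rw [if_neg (by tauto)]
      have hsub := sum_subset_le (y : GolayPt → ℤ) {pt 0, pt 1, q}
      rw [Finset.sum_insert (by simp [Ne.symm hq0, show pt 0 ≠ pt 1 from by decide]),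
        Finset.sum_pair (Ne.symm hq1), h0, h1, hn] at hsub
      have : (y : GolayPt → ℤ) q ^ 2 ≤ 0 := by linarith
      exact pow_eq_zero_iff (two_ne_zero) |>.mp (le_antisymm this (sq_nonneg _))

/-- the vector can be moved to the reference vector `(4, 4, 0^22)` or its negative, fixing the base vector -/
def RO (w : ↥leechLattice) : Prop := ∃ g : ↥Co0, g • B = B ∧ (g • w = v0 ∨ g • w = -v0)

theorem RO_of_smul {w : ↥leechLattice} (g : ↥Co0) (hg : g • B = B) (h : RO (g • w)) : RO w := by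
  obtain ⟨g2, hg2, h2⟩ := h
  refine ⟨g2 * g, by rw [mul_smul, hg, hg2], ?_⟩
  rw [mul_smul]
  exact h2

theorem RO_A0 (w : ↥leechLattice) (hn : sqNorm (w : GolayPt → ℤ) = 32) (h0 : (w : GolayPt → ℤ) (pt 0) = 0)
    (h1 : (w : GolayPt → ℤ) (pt 1) = 0) {p : GolayPt} (hp : (w : GolayPt → ℤ) p = 4 ∨ (w : GolayPt → ℤ) p = -4) :
    RO w := by
  obtain ⟨i, j, hij, hi, hj, -⟩ := shapeA_of_four w.2 hn hp
  have hi0 : i ≠ pt 0 := by rintro rfl; rcases hi with h | h <;> omega
  have hi1 : i ≠ pt 1 := by rintro rfl; rcases hi with h | h <;> omega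
  have hj0 : j ≠ pt 0 := by rintro rfl; rcases hj with h | h <;> omega
  have hj1 : j ≠ pt 1 := by rintro rfl; rcases hj with h | h <;> omega
  obtain ⟨ec, hec, hc'⟩ := exists_sign' hi
  obtain ⟨ed, hed, hd'⟩ := exists_sign' hj
  obtain ⟨g, hgB, y0, y1, -, -⟩ := b_move w hi0 hi1 hj0 hj1 hij hec hed
  rw [h0, h1, hc', hd'] at y0 y1
  norm_num at y0 y1
  exact ⟨g, hgB, Or.inl (eq_v0_of (g • w) (by rw [co0_norm, hn]) y0 y1)⟩

theorem RO_B2 (w : ↥leechLattice) (hn : sqNorm (w : GolayPt → ℤ) = 32) {t : ℤ} (ht : t = 2 ∨ t = -2)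
    (h0 : (w : GolayPt → ℤ) (pt 0) = t) (h1 : (w : GolayPt → ℤ) (pt 1) = t) : RO w := by
  classical
  obtain ⟨O, hO, hval, hzero⟩ := shapeB_of_two w.2 hn (p := pt 0) (by rw [h0]; exact ht)
  have m0 : pt 0 ∈ O := by
    by_contra hc
    have := hzero _ hc
    rcases ht with rfl | rfl <;> omega
  have m1 : pt 1 ∈ O := by
    by_contra hc
    have := hzero _ hc
    rcases ht with rfl | rfl <;> omega
  have hcard : 1 < ((O.erase (pt 0)).erase (pt 1)).card := by
    rw [Finset.card_erase_of_mem (Finset.mem_erase.mpr ⟨by decide, m1⟩), Finset.card_erase_of_mem m0, hO.2]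
    norm_num
  obtain ⟨c, hc, d, hd, hcd⟩ := Finset.one_lt_card.mp hcard
  rw [Finset.mem_erase, Finset.mem_erase] at hc hd
  obtain ⟨hc1, hc0, hcO⟩ := hc
  obtain ⟨hd1, hd0, hdO⟩ := hd
  rcases ht with rfl | rfl
  · obtain ⟨ec, hec, hc'⟩ := exists_sign' (hval c hcO)
    obtain ⟨ed, hed, hd'⟩ := exists_sign (hval d hdO)
    obtain ⟨g, hgB, y0, y1, y2, -⟩ := b_move w hc0 hc1 hd0 hd1 hcd hec hed
    rw [h0, h1, hc', hd'] at y0 y1 y2
    norm_num at y0 y1 y2
    exact RO_of_smul g hgB (RO_A0 (g • w) (by rw [co0_norm, hn]) y0 y1 (Or.inr y2))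
  · obtain ⟨ec, hec, hc'⟩ := exists_sign (hval c hcO)
    obtain ⟨ed, hed, hd'⟩ := exists_sign' (hval d hdO)
    obtain ⟨g, hgB, y0, y1, y2, -⟩ := b_move w hc0 hc1 hd0 hd1 hcd hec hed
    rw [h0, h1, hc', hd'] at y0 y1 y2
    norm_num at y0 y1 y2
    exact RO_of_smul g hgB (RO_A0 (g • w) (by rw [co0_norm, hn]) y0 y1 (Or.inl y2))

theorem RO_E0 (w : ↥leechLattice) (hn : sqNorm (w : GolayPt → ℤ) = 32) (h0 : (w : GolayPt → ℤ) (pt 0) = 0)
    (h1 : (w : GolayPt → ℤ) (pt 1) = 0) : RO w := by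
  classical
  rcases min_shapes w.2 hn with h | h | h
  · obtain ⟨i, j, hij, hi, hj, -⟩ := h
    exact RO_A0 w hn h0 h1 hi
  · obtain ⟨O, hO, hval, hzero⟩ := h
    have m0 : pt 0 ∉ O := by
      intro hc
      rcases hval _ hc with h | h <;> omega
    have m1 : pt 1 ∉ O := by
      intro hc
      rcases hval _ hc with h | h <;> omega
    obtain ⟨c, hc, d, hd, hcd⟩ := Finset.one_lt_card.mp (show 1 < O.card by rw [hO.2]; norm_num)
    have hc0 : c ≠ pt 0 := fun h => m0 (h ▸ hc)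
    have hc1 : c ≠ pt 1 := fun h => m1 (h ▸ hc)
    have hd0 : d ≠ pt 0 := fun h => m0 (h ▸ hd)
    have hd1 : d ≠ pt 1 := fun h => m1 (h ▸ hd)
    obtain ⟨ec, hec, hc'⟩ := exists_sign (hval c hc)
    obtain ⟨ed, hed, hd'⟩ := exists_sign (hval d hd)
    obtain ⟨g, hgB, y0, y1, -, -⟩ := b_move w hc0 hc1 hd0 hd1 hcd hec hed
    rw [h0, h1, hc', hd'] at y0 y1
    norm_num at y0 y1
    exact RO_of_smul g hgB (RO_B2 (g • w) (by rw [co0_norm, hn]) (Or.inr rfl) y0 y1)
  · exfalso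
    have := shapeC_entry h (pt 0)
    omega

theorem RO_C (w : ↥leechLattice) (hn : sqNorm (w : GolayPt → ℤ) = 32) (hodd : (w : GolayPt → ℤ) (pt 0) % 2 = 1)
    (h01 : (w : GolayPt → ℤ) (pt 0) = (w : GolayPt → ℤ) (pt 1)) : RO w := by
  classical
  obtain ⟨i, hi, hrest, -⟩ := shapeC_of_odd w.2 hn hodd
  obtain ⟨c, d, hc, hd, hcd⟩ := exists_two_outside {pt 0, pt 1, i} Finset.card_le_three
  simp only [Finset.mem_insert, Finset.mem_singleton, not_or] at hc hd
  obtain ⟨ec, hec, hc'⟩ := exists_sign (hrest c hc.2.2)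
  obtain ⟨ed, hed, hd'⟩ := exists_sign' (hrest d hd.2.2)
  obtain ⟨g, hgB, y0, y1, -, -⟩ := b_move w hc.1 hc.2.1 hd.1 hd.2.1 hcd hec hed
  rw [hc', hd', ← h01] at y0 y1
  have e : ((w : GolayPt → ℤ) (pt 0) + (w : GolayPt → ℤ) (pt 0) + 1 + -1) / 2 = (w : GolayPt → ℤ) (pt 0) := by
    omega
  rw [e, sub_self] at y0 y1
  exact RO_of_smul g hgB (RO_E0 (g • w) (by rw [co0_norm, hn]) y0 y1)

/-- every minimal vector orthogonal to the base vector can be moved to `± (4, 4, 0^22)` -/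
theorem RO_all (w : ↥leechLattice) (hn : sqNorm (w : GolayPt → ℤ) = 32)
    (hd : dotInt (B : GolayPt → ℤ) (w : GolayPt → ℤ) = 0) : RO w := by
  rw [dot_B] at hd
  have h01 : (w : GolayPt → ℤ) (pt 0) = (w : GolayPt → ℤ) (pt 1) := by linarith
  have hb := pair_le (w : GolayPt → ℤ) (show pt 0 ≠ pt 1 by decide)
  rw [hn, ← h01] at hb
  have hbd : -4 ≤ (w : GolayPt → ℤ) (pt 0) ∧ (w : GolayPt → ℤ) (pt 0) ≤ 4 := by
    constructor <;> nlinarith
  obtain ⟨hl, hu⟩ := hbd
  have h1 : (w : GolayPt → ℤ) (pt 1) = (w : GolayPt → ℤ) (pt 0) := h01.symm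
  generalize hx : (w : GolayPt → ℤ) (pt 0) = x at *
  interval_cases x
  · refine ⟨1, one_smul _ _, Or.inr ?_⟩
    rw [one_smul]
    have : -w = v0 := by
      apply eq_v0_of (-w)
      · show sqNorm (-(w : GolayPt → ℤ)) = 32
        rw [← hn]
        simp [sqNorm]
      · show -(w : GolayPt → ℤ) (pt 0) = 4
        rw [hx]; norm_num
      · show -(w : GolayPt → ℤ) (pt 1) = 4
        rw [h1]; norm_num
    rw [← this, neg_neg]
  · exact RO_C w hn (by rw [hx]; norm_num) (by rw [hx, h1])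
  · exact RO_B2 w hn (Or.inr rfl) hx h1
  · exact RO_C w hn (by rw [hx]; norm_num) (by rw [hx, h1])
  · exact RO_E0 w hn hx h1
  · exact RO_C w hn (by rw [hx]; norm_num) (by rw [hx, h1])
  · exact RO_B2 w hn (Or.inl rfl) hx h1
  · exact RO_C w hn (by rw [hx]; norm_num) (by rw [hx, h1])
  · exact ⟨1, one_smul _ _, Or.inl (by rw [one_smul]; exact eq_v0_of w hn hx h1)⟩

/-- the stabiliser of a minimal vector is transitive on the pairs of opposite minimal vectors orthogonal
to it -/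
theorem orth_transitive (v w w' : ↥leechLattice) (hv : sqNorm (v : GolayPt → ℤ) = 32)
    (hw : sqNorm (w : GolayPt → ℤ) = 32) (hw' : sqNorm (w' : GolayPt → ℤ) = 32)
    (hd : dotInt (v : GolayPt → ℤ) (w : GolayPt → ℤ) = 0) (hd' : dotInt (v : GolayPt → ℤ) (w' : GolayPt → ℤ) = 0) :
    ∃ g : ↥Co0, g • v = v ∧ (g • w = w' ∨ g • w = -w') := by
  obtain ⟨g0, hg0⟩ := min_transitive v B hv sqNorm_B
  obtain ⟨g1, hg1B, hg1⟩ := RO_all (g0 • w) (by rw [co0_norm, hw]) (by rw [← hg0, co0_dot, hd])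
  obtain ⟨g2, hg2B, hg2⟩ := RO_all (g0 • w') (by rw [co0_norm, hw']) (by rw [← hg0, co0_dot, hd'])
  have hg2B' : g2⁻¹ • B = B := by rw [inv_smul_eq_iff, hg2B]
  refine ⟨g0⁻¹ * g2⁻¹ * g1 * g0, ?_, ?_⟩
  · rw [mul_smul, mul_smul, mul_smul, hg0, hg1B, hg2B', inv_smul_eq_iff, hg0]
  · have e1 : g2⁻¹ • v0 = g0 • w' ∨ g2⁻¹ • v0 = -(g0 • w') := by
      rcases hg2 with h | h
      · left
        rw [inv_smul_eq_iff, h]
      · right
        rw [inv_smul_eq_iff, co0_neg, h, neg_neg]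
    have e2 : ∀ x : ↥leechLattice, (x = g0 • w' → g0⁻¹ • x = w') ∧ (x = -(g0 • w') → g0⁻¹ • x = -w') := by
      intro x
      constructor
      · intro h
        rw [h, inv_smul_smul]
      · intro h
        rw [h, co0_neg, inv_smul_smul]
    rw [mul_smul, mul_smul, mul_smul]
    rcases hg1 with h | h
    · rw [h]
      rcases e1 with h' | h'
      · exact Or.inl ((e2 _).1 h')
      · exact Or.inr ((e2 _).2 h')
    · rw [h, co0_neg, co0_neg]
      rcases e1 with h' | h'
      · right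
        rw [(e2 _).1 h']
      · left
        rw [(e2 _).2 h', neg_neg]

end Cfsg.Agent.Helper22.Co2Trans
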