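import Cfsg.Agent.Helper22.Co2Trans2

/-!
# The stabiliser of a minimal vector: transitivity on the vectors of sum of squares 48 with inner
product `-16`
-/

set_option autoImplicit false

namespace Cfsg.Agent.Helper22.Co2Trans3

open Cfsg Cfsg.Agent.Helper27 Cfsg.Agent.Helper22.Co0Mono Cfsg.Agent.Helper22.CrossStab
  Cfsg.Agent.Helper22.Co0Center Cfsg.Agent.Helper22.LeechShapes Cfsg.Agent.Helper22.Xi
  Cfsg.Agent.Helper22.MinTrans Cfsg.Agent.Helper22.Norm6Trans Cfsg.Agent.Helper22.Norm8Trans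
  Cfsg.Agent.Helper22.Co2Trans Cfsg.Agent.Helper22.Co2Trans2
open scoped Pointwise

/-- two coordinates `±3` outside the first two points -/
theorem RT48_threes (v : ↥leechLattice) (h01 : (v : GolayPt → ℤ) (pt 1) = (v : GolayPt → ℤ) (pt 0) + 4)
    {c d : GolayPt} (hc0 : c ≠ pt 0) (hc1 : c ≠ pt 1) (hd0 : d ≠ pt 0) (hd1 : d ≠ pt 1) (hcd : c ≠ d)
    (hc : (v : GolayPt → ℤ) c = 3 ∨ (v : GolayPt → ℤ) c = -3)
    (hd : (v : GolayPt → ℤ) d = 3 ∨ (v : GolayPt → ℤ) d = -3) : RT (-5) (-1) v := by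
  obtain ⟨ec, hec, hc'⟩ := exists_sign hc
  obtain ⟨ed, hed, hd'⟩ := exists_sign hd
  obtain ⟨g, hgB, y0, y1, -, -⟩ := b_move v hc0 hc1 hd0 hd1 hcd hec hed
  rw [hc', hd', h01] at y0 y1
  refine ⟨g, hgB, ?_, ?_⟩
  · rw [y0]; omega
  · rw [y1]; omega

/-- odd vectors with three coordinates `±3` -/
theorem RT48_setB (v : ↥leechLattice) (h01 : (v : GolayPt → ℤ) (pt 1) = (v : GolayPt → ℤ) (pt 0) + 4)
    (h : (v : GolayPt → ℤ) ∈ setB) : RT (-5) (-1) v := by
  obtain ⟨-, -, i, j, k, hij, hjk, hik, hi, hj, hk⟩ := h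
  have hi' := abs_three hi
  have hj' := abs_three hj
  have hk' := abs_three hk
  -- at most one of the three points is among the first two
  have key : ∀ a b : GolayPt, a ≠ b → ((v : GolayPt → ℤ) a = 3 ∨ (v : GolayPt → ℤ) a = -3) →
      ((v : GolayPt → ℤ) b = 3 ∨ (v : GolayPt → ℤ) b = -3) → ¬ ((a = pt 0 ∨ a = pt 1) ∧ (b = pt 0 ∨ b = pt 1)) := by
    rintro a b hab ha hb ⟨ha', hb'⟩
    rcases ha' with rfl | rfl <;> rcases hb' with rfl | rfl
    · exact hab rfl
    · rcases ha with h | h <;> rcases hb with h' | h' <;> omega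
    · rcases ha with h | h <;> rcases hb with h' | h' <;> omega
    · exact hab rfl
  have out : ∀ a : GolayPt, ¬ (a = pt 0 ∨ a = pt 1) → a ≠ pt 0 ∧ a ≠ pt 1 := by
    intro a ha
    exact ⟨fun h => ha (Or.inl h), fun h => ha (Or.inr h)⟩
  by_cases hi01 : i = pt 0 ∨ i = pt 1
  · have hj01 : ¬ (j = pt 0 ∨ j = pt 1) := fun h => key i j hij hi' hj' ⟨hi01, h⟩
    have hk01 : ¬ (k = pt 0 ∨ k = pt 1) := fun h => key i k hik hi' hk' ⟨hi01, h⟩
    exact RT48_threes v h01 (out j hj01).1 (out j hj01).2 (out k hk01).1 (out k hk01).2 hjk hj' hk'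
  · by_cases hj01 : j = pt 0 ∨ j = pt 1
    · have hk01 : ¬ (k = pt 0 ∨ k = pt 1) := fun h => key j k hjk hj' hk' ⟨hj01, h⟩
      exact RT48_threes v h01 (out i hi01).1 (out i hi01).2 (out k hk01).1 (out k hk01).2 hik hi' hk'
    · exact RT48_threes v h01 (out i hi01).1 (out i hi01).2 (out j hj01).1 (out j hj01).2 hij hi' hj'

/-- odd vectors -/
theorem RT48_odd (v : ↥leechLattice) (hn : sqNorm (v : GolayPt → ℤ) = 48)
    (h01 : (v : GolayPt → ℤ) (pt 1) = (v : GolayPt → ℤ) (pt 0) + 4) (hodd : (v : GolayPt → ℤ) (pt 0) % 2 = 1) :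
    RT (-5) (-1) v := by
  classical
  have hmem : (v : GolayPt → ℤ) ∈ oddSet 48 := mem_oddSet v.2 (by rw [hn]; rfl) hodd
  rw [← union_eq] at hmem
  rcases hmem with hD | hB
  · obtain ⟨i, hi, hrest⟩ := shapeD hD
    by_cases hi0 : i = pt 0
    · subst hi0
      have h1 : (v : GolayPt → ℤ) (pt 1) = 1 ∨ (v : GolayPt → ℤ) (pt 1) = -1 := hrest _ (by decide)
      have e0 : (v : GolayPt → ℤ) (pt 0) = -5 := by rcases hi with h | h <;> rcases h1 with h' | h' <;> omega
      exact RT_refl e0 (by rw [h01, e0]; norm_num)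
    · by_cases hi1 : i = pt 1
      · subst hi1
        have h0 : (v : GolayPt → ℤ) (pt 0) = 1 ∨ (v : GolayPt → ℤ) (pt 0) = -1 := hrest _ (by decide)
        have e0 : (v : GolayPt → ℤ) (pt 0) = 1 := by rcases hi with h | h <;> rcases h0 with h' | h' <;> omega
        obtain ⟨c, d, hc, hd, hcd⟩ := exists_two_outside {pt 0, pt 1} (le_trans Finset.card_le_two (by norm_num))
        simp only [Finset.mem_insert, Finset.mem_singleton, not_or] at hc hd
        obtain ⟨ec, hec, hc'⟩ := exists_sign (hrest c hc.2)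
        obtain ⟨ed, hed, hd'⟩ := exists_sign (hrest d hd.2)
        obtain ⟨g, hgB, y0, y1, -, -⟩ := b_move v hc.1 hc.2 hd.1 hd.2 hcd hec hed
        rw [hc', hd', h01, e0] at y0 y1
        norm_num at y0 y1
        apply RT_of_smul g hgB
        have hn' : sqNorm ((g • v : ↥leechLattice) : GolayPt → ℤ) = 48 := by rw [co0_norm, hn]
        have hmem' : ((g • v : ↥leechLattice) : GolayPt → ℤ) ∈ oddSet 48 :=
          mem_oddSet (g • v).2 (by rw [hn']; rfl) (i := pt 0) (by rw [y0]; norm_num)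
        rw [← union_eq] at hmem'
        rcases hmem' with hD' | hB'
        · exfalso
          obtain ⟨i', hi', hrest'⟩ := shapeD hD'
          by_cases h : pt 0 = i'
          · subst h
            rcases hi' with h' | h' <;> omega
          · rcases hrest' _ h with h' | h' <;> omega
        · exact RT48_setB (g • v) (by rw [y0, y1]; norm_num) hB'
      · exfalso
        have h0 := hrest _ (Ne.symm hi0)
        have h1 := hrest _ (Ne.symm hi1)
        rcases h0 with h | h <;> rcases h1 with h' | h' <;> omega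
  · exact RT48_setB v h01 hB

/-- the coordinates of an even vector of sum of squares 48 at the points of its codeword are `±2` -/
theorem twos_on_bset {x : GolayPt → ℤ} (hn : sqNorm x = 48) {k : ℕ} (hk : k < 4096) (hres : InClass x 0 k)
    (hsum : (∑ p, x p) % 8 = 0) :
    (∃ p, bitZ (cw k) (idx p) = 1) ∧ ∀ p, bitZ (cw k) (idx p) = 1 → x p = 2 ∨ x p = -2 := by
  obtain ⟨hd1, hd2⟩ := even_defect hres
  rw [hn] at hd2
  have hex : ∃ p, bitZ (cw k) (idx p) = 1 := by
    by_contra hne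
    rw [not_exists] at hne
    have hb0 : ∀ p, bitZ (cw k) (idx p) = 0 := by
      intro p
      rcases bitZ_cases (cw k) (idx p) with h | h
      · exact h
      · exact absurd h (hne p)
    have hdvd : (32 : ℤ) ∣ ∑ p, (x p ^ 2 - 4 * x p) := by
      apply Finset.dvd_sum
      intro p _
      apply L7
      have := hres p
      rw [hb0 p] at this
      omega
    rw [Finset.sum_sub_distrib, ← Finset.mul_sum] at hdvd
    have hn2 : ∑ p, x p ^ 2 = 48 := hn
    rw [hn2] at hdvd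
    omega
  refine ⟨hex, ?_⟩
  obtain ⟨p0, hp0⟩ := hex
  have hcard := card_bset_ge hk hp0
  have hcb := card_bset (cw k)
  intro p hp
  have h1 := Finset.single_le_sum (f := fun p => x p ^ 2 - 4 * bitZ (cw k) (idx p)) (fun p _ => hd1 p)
    (Finset.mem_univ p)
  rw [hd2] at h1
  simp only [hp] at h1
  have h2 := hres p
  rw [hp] at h2
  have hle : x p ^ 2 ≤ 20 := by
    have : (8 : ℤ) ≤ ((bset (cw k)).card : ℤ) := by exact_mod_cast hcard
    linarith
  have hbd : -6 ≤ x p ∧ x p ≤ 6 := int_bound hle (by norm_num)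
  obtain ⟨h3, h4⟩ := hbd
  generalize x p = a at *
  interval_cases a <;> omega

/-- even vectors -/
theorem RT48_even (v : ↥leechLattice) (hn : sqNorm (v : GolayPt → ℤ) = 48)
    (h01 : (v : GolayPt → ℤ) (pt 1) = (v : GolayPt → ℤ) (pt 0) + 4) {k : ℕ} (hk : k < 4096)
    (hres : InClass (v : GolayPt → ℤ) 0 k) (hsum : (∑ p, (v : GolayPt → ℤ) p) % 8 = 0) : RT (-5) (-1) v := by
  classical
  obtain ⟨⟨p0, hp0⟩, htwo⟩ := twos_on_bset hn hk hres hsum
  have hcard := card_bset_ge hk hp0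
  have hcard' : 0 < (((bset (cw k)).erase (pt 0)).erase (pt 1)).card := by
    have h1 := Finset.pred_card_le_card_erase (s := (bset (cw k)).erase (pt 0)) (a := pt 1)
    have h2 := Finset.pred_card_le_card_erase (s := bset (cw k)) (a := pt 0)
    omega
  obtain ⟨c, hc⟩ := Finset.card_pos.mp hcard'
  rw [Finset.mem_erase, Finset.mem_erase, mem_bset] at hc
  obtain ⟨hc1, hc0, hcB⟩ := hc
  have heven : ∀ p, (v : GolayPt → ℤ) p % 2 = 0 := by
    intro p
    have h1 := hres p
    have hb := bitZ_cases (cw k) (idx p)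
    omega
  obtain ⟨z1, z2, z3, h12, h13, h23, hz1, hz2, hz3⟩ := exists_zeros hn heven
  -- a zero coordinate outside the first two points
  have hzero : ∃ d, d ≠ pt 0 ∧ d ≠ pt 1 ∧ (v : GolayPt → ℤ) d = 0 := by
    by_cases a1 : z1 ≠ pt 0 ∧ z1 ≠ pt 1
    · exact ⟨z1, a1.1, a1.2, hz1⟩
    · by_cases a2 : z2 ≠ pt 0 ∧ z2 ≠ pt 1
      · exact ⟨z2, a2.1, a2.2, hz2⟩
      · refine ⟨z3, ?_, ?_, hz3⟩
        · rintro rfl
          have b1 : z1 = pt 1 := by
            by_contra hne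
            exact a1 ⟨h13, hne⟩
          have b2 : z2 = pt 1 := by
            by_contra hne
            exact a2 ⟨h23, hne⟩
          exact h12 (b1.trans b2.symm)
        · rintro rfl
          have b1 : z1 = pt 0 := by
            by_contra hne
            exact a1 ⟨hne, h13⟩
          have b2 : z2 = pt 0 := by
            by_contra hne
            exact a2 ⟨hne, h23⟩
          exact h12 (b1.trans b2.symm)
  obtain ⟨d, hd0, hd1, hdz⟩ := hzero
  have hcd : c ≠ d := by
    rintro rfl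
    rcases htwo c hcB with h | h <;> omega
  obtain ⟨ec, hec, hc'⟩ := exists_sign (htwo c hcB)
  obtain ⟨g, hgB, y0, y1, -, -⟩ := b_move v hc0 hc1 hd0 hd1 hcd hec (Or.inl rfl)
  rw [hc', hdz, h01] at y0 y1
  have e0 : ((g • v : ↥leechLattice) : GolayPt → ℤ) (pt 0) = -3 := by rw [y0]; omega
  have e1 : ((g • v : ↥leechLattice) : GolayPt → ℤ) (pt 1) = 1 := by rw [y1]; omega
  apply RT_of_smul g hgB
  exact RT48_odd (g • v) (by rw [co0_norm, hn]) (by rw [e0, e1]; norm_num) (by rw [e0]; norm_num)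

theorem RT48_all (v : ↥leechLattice) (hn : sqNorm (v : GolayPt → ℤ) = 48)
    (hd : dotInt (B : GolayPt → ℤ) (v : GolayPt → ℤ) = -16) : RT (-5) (-1) v := by
  rw [dot_B] at hd
  have h01 : (v : GolayPt → ℤ) (pt 1) = (v : GolayPt → ℤ) (pt 0) + 4 := by linarith
  obtain ⟨m, hm, k, hk, hres, hsum⟩ := (mem_leech_iff_res (v : GolayPt → ℤ)).mp v.2
  have hm' : m = 0 ∨ m = 1 := by simpa using hm
  have hk' := Finset.mem_range.mp hk
  rcases hm' with rfl | rfl
  · exact RT48_even v hn h01 hk' hres (by simpa using hsum)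
  · apply RT48_odd v hn h01
    have h1 := hres (pt 0)
    have hb := bitZ_cases (cw k) (idx (pt 0))
    omega

/-- two vectors of sum of squares 48 with first coordinate `-5` and second coordinate `-1` are exchanged by a
sign change fixing the base vector -/
theorem equiv_of_five (y y' : ↥leechLattice) (hn : sqNorm (y : GolayPt → ℤ) = 48)
    (hn' : sqNorm (y' : GolayPt → ℤ) = 48) (h0 : (y : GolayPt → ℤ) (pt 0) = -5)
    (h0' : (y' : GolayPt → ℤ) (pt 0) = -5) (h1 : (y : GolayPt → ℤ) (pt 1) = (y' : GolayPt → ℤ) (pt 1)) :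
    ∃ g : ↥Co0, g • B = B ∧ g • y = y' := by
  have hodd : (y : GolayPt → ℤ) (pt 0) % 2 = 1 := by rw [h0]; norm_num
  have hodd' : (y' : GolayPt → ℤ) (pt 0) % 2 = 1 := by rw [h0']; norm_num
  have hD : (y : GolayPt → ℤ) ∈ setD := ⟨y.2, hn, pt 0, by rw [h0]; norm_num⟩
  have hD' : (y' : GolayPt → ℤ) ∈ setD := ⟨y'.2, hn', pt 0, by rw [h0']; norm_num⟩
  obtain ⟨i, hi, hrest⟩ := shapeD hD
  obtain ⟨i', hi', hrest'⟩ := shapeD hD'
  have e : i = pt 0 := by
    by_contra hne
    rcases hrest (pt 0) (Ne.symm hne) with h | h <;> omega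
  have e' : i' = pt 0 := by
    by_contra hne
    rcases hrest' (pt 0) (Ne.symm hne) with h | h <;> omega
  subst e
  subst e'
  apply odd_sign_equiv y y' hodd hodd' _ (by rw [h0, h0']) h1
  intro p
  by_cases hp : p = pt 0
  · subst hp
    left
    rw [h0, h0']
  · rcases hrest p hp with h | h <;> rcases hrest' p hp with h' | h' <;> rw [h, h'] <;> norm_num

/-- the stabiliser of a minimal vector is transitive on the vectors of sum of squares 48 of inner product
`-16` with it -/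
theorem ip16_transitive48 (x v v' : ↥leechLattice) (hx : sqNorm (x : GolayPt → ℤ) = 32)
    (hv : sqNorm (v : GolayPt → ℤ) = 48) (hv' : sqNorm (v' : GolayPt → ℤ) = 48)
    (hd : dotInt (x : GolayPt → ℤ) (v : GolayPt → ℤ) = -16) (hd' : dotInt (x : GolayPt → ℤ) (v' : GolayPt → ℤ) = -16) :
    ∃ g : ↥Co0, g • x = x ∧ g • v = v' := by
  obtain ⟨g0, hg0⟩ := min_transitive x B hx sqNorm_B
  obtain ⟨g1, hg1B, y0, y1⟩ := RT48_all (g0 • v) (by rw [co0_norm, hv]) (by rw [← hg0, co0_dot, hd])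
  obtain ⟨g2, hg2B, y0', y1'⟩ := RT48_all (g0 • v') (by rw [co0_norm, hv']) (by rw [← hg0, co0_dot, hd'])
  obtain ⟨g3, hg3B, hg3⟩ := equiv_of_five (g1 • (g0 • v)) (g2 • (g0 • v')) (by rw [co0_norm, co0_norm, hv])
    (by rw [co0_norm, co0_norm, hv']) y0 y0' (by rw [y1, y1'])
  have hg2B' : g2⁻¹ • B = B := by rw [inv_smul_eq_iff, hg2B]
  refine ⟨g0⁻¹ * g2⁻¹ * g3 * g1 * g0, ?_, ?_⟩
  · rw [mul_smul, mul_smul, mul_smul, mul_smul, hg0, hg1B, hg3B, hg2B', inv_smul_eq_iff, hg0]
  · rw [mul_smul, mul_smul, mul_smul, mul_smul, hg3, inv_smul_smul, inv_smul_smul]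

end Cfsg.Agent.Helper22.Co2Trans3
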