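import Cfsg.Agent.Helper22.GraphRefine

/-!
# The graph on a hundred points of the two vectors of type three in the Leech lattice: the bound for its automorphisms (data and check)

Generated by a script.
-/

set_option autoImplicit false

namespace Cfsg.Agent.Helper22.HSGraph

open Cfsg.Agent.Helper22.PermPack Cfsg.Agent.Helper22.GraphRefine

/-- the adjacency matrix, packed: a hundred rows of a hundred bits -/
def adjHS : ℕ := 0x739ce997048040000000000ce800b87cea003000000000032d0f005c2e4218000000000065328f22066106400000000005b0d46512160900a0000000d98000031987d9808000000032d0001a4036c54006200000054680025470525222080000006b20004caa420d0151000000181e03600006334c040c000003063061802c2c04843020000028a48990016508483840000004a0390381c0009c75000000005130a189480094448a10000001d8154802848224281440000052c44852608005420c8200000618a1546801088412016000002b50604c102b00410928000004c682e04250010c0e420000003608b823020c404040d800000641542a19190004012a4000da80000000026f623801480030d800000006c0037b684000067100000004953108b13020005a600000003c290c4300292018238000015800038d2d0802028950000078001509228a2040306c00000a30038401a85480049380000222914025024422805216000011a188042824105402b420000506210180323008c04c4480001c122440482260420640b0000409858e000221b00035108000340c0a0880a1c11001e88000068812109042088e0062a080002946402410202c18051c100004644a0822020052618034802a8000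0004d89c6010300470087000000d0291a1006280a90074000001a214180e2048113011300009802821503045022a02148001500501141888286028380800208280c13085018548064100003088409241a060160824a000606020111440a6041c042180010f400010d2405048181e0000460418010a902303900518000500183010803c482c4048c0002a104021024c48880e100580b00000460e02c091019083102880001208c91208a04188c204500020028b250032808984088080048110ac8082985028090420010a08094064a203220128128023000091218a108490a80d00020024088452908e0204c0a400011400820aa1b082309000c0008c800809941ca01490400c0300018062824941029302104840006006011ac0a108908b10004010205a04889320421820608000048504b0519045009120120008104c0864d0089a202010280600044d40c402540260310c40000043602a0d0141414408041004038222926044480988040100082b0902e10454020422088010024614a42480e0448200420200214686320148904104090001019c044ac206040a012110080016a80c1442228150108201000111c2c218814506200420002008788560502c02120410440000710c354206220080d0080080058328c490252024808020400023706488231044103004200000a4efffff80000000000000000001f80007fff80000000000000018780078007ff80000000000014470047007007fc0000000001224c024c04c0603f800000001410b0203823058307800000011408c14240a8160c4700000010c0622206007290a64800000180283019441c0c031260000012110a121140290a8a250000010898091482442200ad600000180154040b162086106280000110c12210190891059c8000001112408a881844200d2980000120a24400c892305101d000001240118922050c0c6238000001121214052024c50909180000142006908291124a448300000140849084542103543030000010940540a10490a9808c800001804288260a8184621448000010a2180c10a0a0192c1280000100000000000000000007ffffe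

/-- the base points, each with the number of points of its colour and the number of rounds after it -/
def refLevels : List (ℕ × ℕ × ℕ) := [(0, 100, 3), (1, 22, 3), (2, 21, 3), (3, 20, 4), (4, 16, 4), (5, 3, 4), (6, 2, 4)]

theorem bound_okK : boundOK 100 adjHS refLevels 0 = true := by decide +kernel

theorem prod_refLevels : (refLevels.map fun l => l.2.1).prod = 88704000 := by decide +kernel

/-- the group of the automorphisms of the graph has order at most twice 44352000 -/
theorem card_AutG_le : Nat.card (AutG 100 adjHS) ≤ 88704000 := by
  rw [← prod_refLevels]
  exact GraphRefine.card_AutG_le refLevels bound_okK

end Cfsg.Agent.Helper22.HSGraph
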