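import Cfsg.Agent.Helper22.HSSimple
import Cfsg.Agent.Helper22.HSGraph

/-!
# The stabiliser of two vectors of type three as a group of automorphisms of a graph on a hundred points

The hundred minimal vectors attached to the standard pair are listed, their inner products are computed, and the
stabiliser of the standard pair is mapped injectively to the group of the automorphisms of the graph whose edges
are the pairs with inner product eight.
-/

set_option autoImplicit false

namespace Cfsg.Agent.Helper22.HSBridge

open Cfsg Cfsg.Agent.Helper27 Cfsg.Agent.Helper22.Co0Mono Cfsg.Agent.Helper22.Co0Center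
  Cfsg.Agent.Helper22.Norm6Trans Cfsg.Agent.Helper22.Summands Cfsg.Agent.Helper22.QuadForm
  Cfsg.Agent.Helper22.HS100 Cfsg.Agent.Helper22.HS100b Cfsg.Agent.Helper22.HSSimple
  Cfsg.Agent.Helper22.GolayComb Cfsg.Agent.Helper22.GraphRefine
  Cfsg.Agent.Helper22.HSGraph
open Cfsg.Agent.Helper22.PermPack (slot allN allN_spec beq_iff)

/-- the masks of the 77 octads through the first two points, packed -/
def o77 : ℕ := 0xe0900bd40063c84303c20c83c12017b30103a800c7a44413a02a2398081b9086079070838ea00389142385028b84190782402f82125381c8438081b380254b7002936d08036260436005275a100751440b50a9034884534820ab46011b44c0874436034382234111c3405833400a4f38c02334200f301c432a060b2831132610a324834322881721a48321520721007b20498b1c0583192243164a031590131280cb1224331108a710415710132b0c504b0c02370b40930a096309810f089a83086c07070447056123048c2b0428d303380b02d503022387010f1300e21b00b0670046e300149f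

/-- the mask of an octad -/
def oct (k : ℕ) : ℕ := slot 24 o77 k

/-- the coordinates of the hundred vectors -/
def vecN (i k : ℕ) : ℤ :=
  if i = 0 then (if k < 2 then 4 else 0)
  else if i ≤ 22 then (if k = i + 1 then -3 else 1)
  else (if (oct (i - 23)).testBit k then 2 else 0)

/-- the hundred vectors -/
def vecF (i : ℕ) : GolayPt → ℤ := fun p => vecN i (idx p)

theorem octs_okK : (allN 77 fun k => isOct (oct k) && (oct k).testBit 0 && (oct k).testBit 1) = true := by
  decide +kernel

theorem idx_eq_iff (p : GolayPt) {k : ℕ} (hk : k < 24) : idx p = k ↔ p = pt k := by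
  constructor
  · intro h
    rw [← pt_idx p, h]
  · rintro rfl
    exact idx_pt hk

theorem vecF_zero : vecF 0 = fA (pt 1) := by
  funext p
  show vecN 0 (idx p) = fA (pt 1) p
  unfold vecN fA
  rw [if_pos rfl]
  simp only [Pi.add_apply, Pi.single_apply]
  have h01 : pt 0 ≠ pt 1 := by decide
  by_cases h0 : p = pt 0
  · subst h0
    rw [idx_pt (by norm_num), if_pos (by norm_num), if_neg h01, if_pos rfl]
    rfl
  · by_cases h1 : p = pt 1
    · subst h1
      rw [idx_pt (by norm_num), if_pos (by norm_num), if_pos rfl, if_neg h01.symm]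
      rfl
    · have hi0 : idx p ≠ 0 := fun h => h0 ((idx_eq_iff p (by norm_num)).mp h)
      have hi1 : idx p ≠ 1 := fun h => h1 ((idx_eq_iff p (by norm_num)).mp h)
      rw [if_neg (by omega), if_neg h1, if_neg h0]
      rfl

theorem vecF_mid {i : ℕ} (h1 : 1 ≤ i) (h2 : i ≤ 22) : vecF i = d0 - fA (pt (i + 1)) := by
  funext p
  show vecN i (idx p) = d0 p - fA (pt (i + 1)) p
  unfold vecN fA d0
  rw [if_neg (by omega), if_pos h2]
  simp only [Pi.add_apply, Pi.single_apply]
  have hne : pt (i + 1) ≠ pt 0 := by
    intro h
    have := congrArg idx h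
    rw [idx_pt (by omega), idx_pt (by norm_num)] at this
    omega
  by_cases h0 : p = pt 0
  · subst h0
    rw [idx_pt (by norm_num), if_neg (by omega), if_pos rfl, if_neg hne.symm, if_pos rfl]
    norm_num
  · rw [if_neg h0, if_neg h0]
    by_cases hp : p = pt (i + 1)
    · rw [if_pos ((idx_eq_iff p (by omega)).mpr hp), if_pos hp]
      norm_num
    · rw [if_neg (fun h => hp ((idx_eq_iff p (by omega)).mp h)), if_neg hp]
      norm_num

theorem vecF_oct {i : ℕ} (h : 23 ≤ i) : vecF i = fB (maskSet (oct (i - 23))) := by
  funext p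
  show vecN i (idx p) = fB (maskSet (oct (i - 23))) p
  unfold vecN fB
  rw [if_neg (by omega), if_neg (by omega)]
  by_cases hp : p ∈ maskSet (oct (i - 23))
  · rw [if_pos hp, if_pos ((mem_maskSet _ _).mp hp)]
  · rw [if_neg hp, if_neg (fun h => hp ((mem_maskSet _ _).mpr h))]

theorem vecF_mem {i : ℕ} (hi : i < 100) : vecF i ∈ S0 := by
  classical
  rw [mem_S0_iff]
  rcases Nat.eq_zero_or_pos i with h0 | h0
  · left
    rw [h0]
    exact vecF_zero
  · by_cases h22 : i ≤ 22
    · right; right
      rw [vecF_mid h0 h22]
      unfold FC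
      rw [Finset.mem_image]
      refine ⟨pt (i + 1), ?_, rfl⟩
      rw [Finset.mem_erase, Finset.mem_erase]
      refine ⟨?_, ?_, Finset.mem_univ _⟩
      · intro h
        have := congrArg idx h
        rw [idx_pt (by omega), idx_pt (by norm_num)] at this
        omega
      · intro h
        have := congrArg idx h
        rw [idx_pt (by omega), idx_pt (by norm_num)] at this
        omega
    · right; left
      rw [vecF_oct (by omega)]
      unfold FB
      rw [Finset.mem_image]
      refine ⟨_, ?_, rfl⟩
      rw [mem_octThrough]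
      have hk := allN_spec octs_okK (i - 23) (by omega)
      rw [Bool.and_eq_true, Bool.and_eq_true] at hk
      refine ⟨maskSet_mem_octads hk.1.1, ?_⟩
      intro p hp
      rw [Finset.mem_insert, Finset.mem_singleton] at hp
      rw [mem_maskSet]
      rcases hp with rfl | rfl
      · rw [idx_pt (by norm_num)]
        exact hk.1.2
      · rw [idx_pt (by norm_num)]
        exact hk.2

/-! ### Inner products -/

/-- the sum of an integer function over the first `n` numbers -/
def sumZ (n : ℕ) (f : ℕ → ℤ) : ℤ := Nat.rec 0 (fun i acc => f i + acc) n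

theorem sumZ_succ (n : ℕ) (f : ℕ → ℤ) : sumZ (n + 1) f = f n + sumZ n f := rfl

theorem sumZ_eq (n : ℕ) (f : ℕ → ℤ) : sumZ n f = ∑ i : Fin n, f i.1 := by
  induction n with
  | zero => rfl
  | succ n ih =>
    rw [sumZ_succ, ih, Fin.sum_univ_castSucc]
    simp only [Fin.val_castSucc, Fin.val_last]
    exact add_comm _ _

/-- the points and the first 24 numbers -/
def ptEquiv : Fin 24 ≃ GolayPt where
  toFun k := pt k.1
  invFun p := ⟨idx p, idx_lt p⟩
  left_inv k := Fin.ext (idx_pt k.2)
  right_inv p := pt_idx p

theorem sum_golayPt (f : GolayPt → ℤ) : ∑ p, f p = sumZ 24 fun k => f (pt k) := by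
  rw [sumZ_eq, ← Equiv.sum_comp ptEquiv f]
  rfl

/-- the inner product of two of the hundred vectors -/
def dotN (i j : ℕ) : ℤ := sumZ 24 fun k => vecN i k * vecN j k

theorem dot_vecF (i j : ℕ) : dotInt (vecF i) (vecF j) = dotN i j := by
  unfold dotInt dotN
  rw [sum_golayPt]
  have : ∀ n, ∀ f g : ℕ → ℤ, (∀ k < n, f k = g k) → sumZ n f = sumZ n g := by
    intro n
    induction n with
    | zero => intro _ _ _; rfl
    | succ n ih =>
      intro f g h
      rw [sumZ_succ, sumZ_succ, h n (Nat.lt_succ_self n), ih f g (fun k hk => h k (Nat.lt_succ_of_lt hk))]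
  apply this
  intro k hk
  show vecN i (idx (pt k)) * vecN j (idx (pt k)) = _
  rw [idx_pt hk]

/-- the table of the inner products: eight on the edges, thirty-two on the diagonal -/
def tableB : Bool :=
  allN 100 fun i => allN 100 fun j =>
    (decide (dotN i j = 8) == adjB 100 adjHS i j) && (decide (dotN i j = 32) == Nat.beq i j)

theorem table_okK : tableB = true := by decide +kernel

theorem dotN_eight {i j : ℕ} (hi : i < 100) (hj : j < 100) : dotN i j = 8 ↔ adjB 100 adjHS i j = true := by
  have h := allN_spec (allN_spec table_okK i hi) j hj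
  rw [Bool.and_eq_true, beq_iff_eq] at h
  rw [← h.1, decide_eq_true_eq]

theorem dotN_diag {i j : ℕ} (hi : i < 100) (hj : j < 100) : dotN i j = 32 ↔ i = j := by
  have h := allN_spec (allN_spec table_okK i hi) j hj
  rw [Bool.and_eq_true, beq_iff_eq, beq_iff_eq] at h
  rw [← beq_iff, ← h.2, decide_eq_true_eq]

/-! ### The hundred vectors in the lattice -/

/-- the hundred vectors, in the lattice -/
def F (i : Fin 100) : ↥leechLattice := ⟨vecF i.1, (vecF_mem i.2).1.1⟩

theorem F_mem (i : Fin 100) : F i ∈ S D0 (-D1) := (mem_S_std _).mpr (vecF_mem i.2)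

theorem dot_F (i j : Fin 100) : dotInt (F i : GolayPt → ℤ) (F j : GolayPt → ℤ) = dotN i.1 j.1 :=
  dot_vecF i.1 j.1

theorem F_injective : Function.Injective F := by
  intro i j h
  have h1 := dot_F i i
  rw [(dotN_diag i.2 i.2).mpr rfl] at h1
  have h2 := dot_F i j
  rw [← h, h1] at h2
  exact Fin.ext ((dotN_diag i.2 j.2).mp h2.symm)

theorem range_F : Set.range F = S D0 (-D1) := by
  apply Set.eq_of_subset_of_ncard_le
  · rintro _ ⟨i, rfl⟩
    exact F_mem i
  · rw [ncard_S_std, ← Set.image_univ, Set.ncard_image_of_injective _ F_injective, Set.ncard_univ,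
      Nat.card_eq_fintype_card, Fintype.card_fin]
  · exact finite_S _ _

/-! ### The action -/

/-- the stabiliser of the standard pair -/
abbrev G0 : Subgroup ↥Co0 := GS D0 (-D1)

theorem exists_index (g : ↥G0) (i : Fin 100) : ∃ j : Fin 100, F j = g.1 • F i := by
  have hg := (mem_GS _ _ g.1).mp g.2
  have : g.1 • F i ∈ S D0 (-D1) := S_invariant D0 (-D1) g.1 hg.1 hg.2 _ (F_mem i)
  rw [← range_F] at this
  exact this

/-- the permutation of the indices induced by an element of the stabiliser, as a function -/
noncomputable def actFun (g : ↥G0) (i : Fin 100) : Fin 100 := Classical.choose (exists_index g i)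

theorem F_actFun (g : ↥G0) (i : Fin 100) : F (actFun g i) = g.1 • F i := Classical.choose_spec (exists_index g i)

theorem actFun_one (i : Fin 100) : actFun 1 i = i := by
  apply F_injective
  rw [F_actFun]
  exact one_smul _ _

theorem actFun_mul (g h : ↥G0) (i : Fin 100) : actFun (g * h) i = actFun g (actFun h i) := by
  apply F_injective
  rw [F_actFun, F_actFun, F_actFun]
  exact mul_smul g.1 h.1 (F i)

/-- the permutation of the indices induced by an element of the stabiliser -/
noncomputable def actPerm (g : ↥G0) : Equiv.Perm (Fin 100) where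
  toFun := actFun g
  invFun := actFun g⁻¹
  left_inv i := by rw [← actFun_mul, inv_mul_cancel, actFun_one]
  right_inv i := by rw [← actFun_mul, mul_inv_cancel, actFun_one]

/-- the action on the indices -/
noncomputable def rho : ↥G0 →* Equiv.Perm (Fin 100) :=
  MonoidHom.mk' actPerm (fun g h => Equiv.ext fun i => actFun_mul g h i)

theorem F_rho (g : ↥G0) (i : Fin 100) : F (rho g i) = g.1 • F i := F_actFun g i

theorem rho_injective : Function.Injective rho := by
  rw [injective_iff_map_eq_one]
  intro g hg
  have hfix : ∀ y ∈ S D0 (-D1), g.1 • y = y := by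
    intro y hy
    rw [← range_F] at hy
    obtain ⟨i, rfl⟩ := hy
    rw [← F_rho, hg]
    rfl
  have hgs := (mem_GS _ _ g.1).mp g.2
  have hD1 : g.1 • D1 = D1 := by
    have := hgs.2
    rw [co0_neg, neg_inj] at this
    exact this
  have ht : g.1 • t0 = t0 := (smul_t0_iff g.1).mpr ⟨hgs.1, hD1, hfix _ a01_mem⟩
  exact Subtype.ext (faithful_std ht hfix)

theorem rho_mem (g : ↥G0) : rho g ∈ AutG 100 adjHS := by
  intro i j
  have h1 : dotN (rho g i).1 (rho g j).1 = dotN i.1 j.1 := by
    rw [← dot_F, ← dot_F, F_rho, F_rho, co0_dot]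
  rw [Bool.eq_iff_iff, ← dotN_eight (rho g i).2 (rho g j).2, ← dotN_eight i.2 j.2, h1]

end Cfsg.Agent.Helper22.HSBridge
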