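import Cfsg.Agent.Helper22.Co0Mono
import Cfsg.Agent.Helper27.GolayFacts

/-!
# A non-monomial automorphism of the rank-24 lattice

For the standard sextet with tetrads `T₀, …, T₅`, the map `ξ` replaces the coordinate `x_p`, `p ∈ T_a`, by
`± (½ ∑_{q ∈ T_a} x_q - x_p)`, with the sign `-` exactly for `a = 0`.
-/

set_option autoImplicit false

namespace Cfsg.Agent.Helper22.Xi

open Cfsg Cfsg.Agent.Helper27 Cfsg.Agent.Helper22.Co0Mono

/-- the number of the tetrad of the standard sextet containing the point with a given index -/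
def tetTbl : List ℕ := [0, 0, 0, 0, 1, 5, 4, 1, 2, 4, 1, 4, 1, 3, 5, 2, 2, 5, 3, 2, 3, 3, 4, 5]

/-- the number of the tetrad containing a point -/
def tet (p : GolayPt) : ℕ := tetTbl.getD (idx p) 0

/-- the points of a tetrad -/
def fib (a : ℕ) : Finset GolayPt := Finset.univ.filter (fun p => tet p = a)

theorem mem_fib (a : ℕ) (p : GolayPt) : p ∈ fib a ↔ tet p = a := by simp [fib]

theorem tet_lt (p : GolayPt) : tet p < 6 := by
  have : ∀ p : GolayPt, tet p < 6 := by decide
  exact this p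

theorem card_fib {a : ℕ} (ha : a < 6) : (fib a).card = 4 := by
  have : ∀ a ∈ Finset.range 6, (fib a).card = 4 := by decide
  exact this a (Finset.mem_range.mpr ha)

theorem fib_empty {a : ℕ} (ha : ¬ a < 6) : fib a = ∅ := by
  ext p
  rw [mem_fib]
  simp only [Finset.notMem_empty, iff_false]
  intro h
  exact ha (h ▸ tet_lt p)

/-- the sum of the coordinates over a tetrad -/
def S (x : GolayPt → ℤ) (a : ℕ) : ℤ := ∑ p ∈ fib a, x p

/-- half the sum of the coordinates over a tetrad -/
def hf (x : GolayPt → ℤ) (a : ℕ) : ℤ := S x a / 2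

/-- the sign attached to a tetrad -/
def sg (a : ℕ) : ℤ := if a = 0 then -1 else 1

theorem sg_sq (a : ℕ) : sg a * sg a = 1 := by
  unfold sg
  split_ifs <;> norm_num

/-- the map `ξ` -/
def xi (x : GolayPt → ℤ) : GolayPt → ℤ := fun p => sg (tet p) * (hf x (tet p) - x p)

/-- all tetrad sums are even -/
def Even4 (x : GolayPt → ℤ) : Prop := ∀ a, (2 : ℤ) ∣ S x a

theorem two_hf {x : GolayPt → ℤ} (hx : Even4 x) (a : ℕ) : 2 * hf x a = S x a := by
  unfold hf
  exact Int.mul_ediv_cancel' (hx a)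

theorem sum_fiberwise (F : GolayPt → ℤ) : ∑ p, F p = ∑ a ∈ Finset.range 6, ∑ p ∈ fib a, F p := by
  symm
  exact Finset.sum_fiberwise_of_maps_to (fun p _ => Finset.mem_range.mpr (tet_lt p)) F

theorem S_xi {x : GolayPt → ℤ} (hx : Even4 x) (a : ℕ) : S (xi x) a = sg a * S x a := by
  by_cases ha : a < 6
  · unfold S xi
    have h1 : ∑ p ∈ fib a, sg (tet p) * (hf x (tet p) - x p) = ∑ p ∈ fib a, (sg a * hf x a - sg a * x p) := by
      apply Finset.sum_congr rfl
      intro p hp
      rw [(mem_fib a p).mp hp]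
      ring
    rw [h1, Finset.sum_sub_distrib, Finset.sum_const, card_fib ha, ← Finset.mul_sum]
    have := two_hf hx a
    unfold S at this
    rw [← this]
    simp only [nsmul_eq_mul, Nat.cast_ofNat]
    ring
  · unfold S
    rw [fib_empty ha]
    simp

theorem even4_xi {x : GolayPt → ℤ} (hx : Even4 x) : Even4 (xi x) := by
  intro a
  rw [S_xi hx]
  exact Dvd.dvd.mul_left (hx a) _

theorem hf_xi {x : GolayPt → ℤ} (hx : Even4 x) (a : ℕ) : hf (xi x) a = sg a * hf x a := by
  have h1 := two_hf (even4_xi hx) a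
  rw [S_xi hx, ← two_hf hx a] at h1
  linarith

theorem xi_xi {x : GolayPt → ℤ} (hx : Even4 x) : xi (xi x) = x := by
  funext p
  show sg (tet p) * (hf (xi x) (tet p) - xi x p) = x p
  rw [hf_xi hx]
  show sg (tet p) * (sg (tet p) * hf x (tet p) - sg (tet p) * (hf x (tet p) - x p)) = x p
  have := sg_sq (tet p)
  calc sg (tet p) * (sg (tet p) * hf x (tet p) - sg (tet p) * (hf x (tet p) - x p))
      = (sg (tet p) * sg (tet p)) * x p := by ring
    _ = x p := by rw [this, one_mul]

theorem sqNorm_xi {x : GolayPt → ℤ} (hx : Even4 x) : sqNorm (xi x) = sqNorm x := by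
  unfold sqNorm
  rw [sum_fiberwise, sum_fiberwise (fun p => x p ^ 2)]
  apply Finset.sum_congr rfl
  intro a ha
  have ha' := Finset.mem_range.mp ha
  have h1 : ∑ p ∈ fib a, xi x p ^ 2 =
      ∑ p ∈ fib a, (hf x a ^ 2 - 2 * hf x a * x p + x p ^ 2) := by
    apply Finset.sum_congr rfl
    intro p hp
    unfold xi
    rw [(mem_fib a p).mp hp]
    have := sg_sq a
    calc (sg a * (hf x a - x p)) ^ 2 = (sg a * sg a) * (hf x a - x p) ^ 2 := by ring
      _ = hf x a ^ 2 - 2 * hf x a * x p + x p ^ 2 := by rw [this]; ring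
  rw [h1, Finset.sum_add_distrib, Finset.sum_sub_distrib, Finset.sum_const, card_fib ha', ← Finset.mul_sum]
  have h2 := two_hf hx a
  unfold S at h2
  rw [← h2]
  simp only [nsmul_eq_mul, Nat.cast_ofNat]
  ring

theorem S_add (x y : GolayPt → ℤ) (a : ℕ) : S (x + y) a = S x a + S y a := by
  unfold S
  simp only [Pi.add_apply, Finset.sum_add_distrib]

theorem even4_add {x y : GolayPt → ℤ} (hx : Even4 x) (hy : Even4 y) : Even4 (x + y) := by
  intro a
  rw [S_add]
  exact dvd_add (hx a) (hy a)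

theorem xi_add {x y : GolayPt → ℤ} (hx : Even4 x) (hy : Even4 y) : xi (x + y) = xi x + xi y := by
  funext p
  have h1 : hf (x + y) (tet p) = hf x (tet p) + hf y (tet p) := by
    unfold hf
    rw [S_add, Int.add_ediv_of_dvd_left (hx _)]
  show sg (tet p) * (hf (x + y) (tet p) - (x p + y p)) =
    sg (tet p) * (hf x (tet p) - x p) + sg (tet p) * (hf y (tet p) - y p)
  rw [h1]
  ring

theorem zmod2_neg (z : ZMod 2) : -z = z := by
  have : ∀ z : ZMod 2, -z = z := by decide
  exact this z

/-- the sum over a tetrad in terms of the decomposition `x = m + 2 t` -/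
theorem S_of_decomp {x t : GolayPt → ℤ} {m : ℤ} (ht : ∀ i, x i = m + 2 * t i) {a : ℕ} (ha : a < 6) :
    S x a = 4 * m + 2 * S t a := by
  unfold S
  simp only [ht, Finset.sum_add_distrib, Finset.sum_const, card_fib ha, ← Finset.mul_sum]
  simp only [nsmul_eq_mul, Nat.cast_ofNat]

theorem even4_of_mem {x : GolayPt → ℤ} (hx : x ∈ leechLattice) : Even4 x := by
  obtain ⟨m, t, ht, -, -⟩ := (mem_leechLattice_iff x).mp hx
  intro a
  by_cases ha : a < 6
  · rw [S_of_decomp ht ha]
    exact ⟨2 * m + S t a, by ring⟩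
  · unfold S
    rw [fib_empty ha]
    simp

/-- the octad `T₀ ∪ T_a` as a word -/
def uw (a : ℕ) : GolayPt → ZMod 2 := fun p => if tet p = a ∨ tet p = 0 then 1 else 0

def umask (a : ℕ) : ℕ := [15, 5279, 622863, 3416079, 4196943, 8536111].getD a 0

theorem uw_eq : ∀ a ∈ Finset.range 6, ∀ p : GolayPt, (tet p = a ∨ tet p = 0) ↔ (umask a).testBit (idx p) = true := by
  decide

theorem umask_ok : ∀ a ∈ [1, 2, 3, 4, 5], cw (umask a % 4096) = umask a ∧ umask a < 2 ^ 24 := by decide +kernel

theorem uw_mem {a : ℕ} (ha : a ∈ [1, 2, 3, 4, 5]) : uw a ∈ golayCode := by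
  have h6 : a ∈ Finset.range 6 := by
    rw [Finset.mem_range]
    simp only [List.mem_cons, List.not_mem_nil, or_false] at ha
    omega
  have : uw a = decW (umask a) := by
    funext p
    unfold uw
    rw [decW_apply]
    by_cases h : tet p = a ∨ tet p = 0
    · rw [if_pos h, if_pos ((uw_eq a h6 p).mp h)]
    · rw [if_neg h, if_neg (fun h' => h ((uw_eq a h6 p).mpr h'))]
  rw [this, decW_mem_iff (umask_ok a ha).2]
  exact (umask_ok a ha).1


theorem S_parity {t : GolayPt → ℤ} (hc : redW t ∈ golayCode) {a : ℕ} (ha : a ∈ [1, 2, 3, 4, 5]) :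
    (2 : ℤ) ∣ S t a + S t 0 := by
  have h := golay_orth (uw_mem ha) hc
  have ha0 : a ≠ 0 := by
    simp only [List.mem_cons, List.not_mem_nil, or_false] at ha
    omega
  have h2 : ∑ i, uw a i * redW t i = (((S t a + S t 0 : ℤ)) : ZMod 2) := by
    unfold S fib
    push_cast
    rw [Finset.sum_filter, Finset.sum_filter, ← Finset.sum_add_distrib]
    apply Finset.sum_congr rfl
    intro p _
    unfold uw redW
    by_cases h1 : tet p = a
    · have : tet p ≠ 0 := h1 ▸ ha0
      simp [h1, ha0]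
    · by_cases h0 : tet p = 0
      · simp [h0, Ne.symm ha0]
      · simp [h1, h0]
  rw [h2] at h
  exact (ZMod.intCast_zmod_eq_zero_iff_dvd _ 2).mp h

theorem sum_eq_S (x : GolayPt → ℤ) : ∑ p, x p = S x 0 + S x 1 + S x 2 + S x 3 + S x 4 + S x 5 := by
  rw [sum_fiberwise]
  simp [Finset.sum_range_succ, S]

theorem zmod2_cast_eq {a b : ℤ} (h : (2 : ℤ) ∣ a - b) : ((a : ℤ) : ZMod 2) = ((b : ℤ) : ZMod 2) := by
  have := (ZMod.intCast_zmod_eq_zero_iff_dvd (a - b) 2).mpr h
  rw [Int.cast_sub, sub_eq_zero] at this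
  exact this

/-- `ξ` maps the lattice into itself -/
theorem xi_mem {x : GolayPt → ℤ} (hx : x ∈ leechLattice) : xi x ∈ leechLattice := by
  have hE := even4_of_mem hx
  rw [mem_leechLattice_iff] at hx ⊢
  obtain ⟨m, t, ht, hsum, hcode⟩ := hx
  -- the differences of the tetrad sums of `t` are even
  have hk : ∀ a ∈ [1, 2, 3, 4, 5], ∃ k : ℤ, 2 * k = S t a - S t 0 := by
    intro a ha
    obtain ⟨c, hc⟩ := S_parity hcode ha
    exact ⟨c - S t 0, by linarith⟩
  obtain ⟨k1, hk1⟩ := hk 1 (by simp)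
  obtain ⟨k2, hk2⟩ := hk 2 (by simp)
  obtain ⟨k3, hk3⟩ := hk 3 (by simp)
  obtain ⟨k4, hk4⟩ := hk 4 (by simp)
  obtain ⟨k5, hk5⟩ := hk 5 (by simp)
  have hhf : ∀ a, a < 6 → hf x a = 2 * m + S t a := by
    intro a ha
    have h1 := two_hf hE a
    rw [S_of_decomp ht ha] at h1
    linarith
  -- the sum of `t`
  have hst := sum_eq_S t
  have hsx : ∑ p, x p = 24 * m + 2 * ∑ p, t p := by
    simp only [ht, Finset.sum_add_distrib, Finset.sum_const, Finset.card_univ, ← Finset.mul_sum]
    rw [show Fintype.card GolayPt = 24 from by decide]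
    simp
  let kk : ℕ → ℤ := fun a => [0, k1, k2, k3, k4, k5].getD a 0
  refine ⟨m + S t 0, fun p => if tet p = 0 then t p - m - S t 0 else kk (tet p) - t p, ?_, ?_, ?_⟩
  · intro p
    have hp := tet_lt p
    show sg (tet p) * (hf x (tet p) - x p) =
      (m + S t 0) + 2 * (if tet p = 0 then t p - m - S t 0 else kk (tet p) - t p)
    rw [hhf _ hp, ht p]
    generalize tet p = b at hp ⊢
    interval_cases b <;> simp [sg, kk] <;> linarith
  · have h1 := sum_eq_S (xi x)
    simp only [S_xi hE] at h1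
    have h2 := sum_eq_S x
    rw [h1]
    have h3 : S x 0 = 4 * m + 2 * S t 0 := S_of_decomp ht (by norm_num)
    simp only [sg]
    simp only [one_ne_zero, if_false, if_true, OfNat.ofNat_ne_zero]
    rw [Int.ModEq] at hsum ⊢
    omega
  · have hred : redW (fun p => if tet p = 0 then t p - m - S t 0 else kk (tet p) - t p) =
        redW t + ((k1 : ZMod 2) • uw 1 + (k2 : ZMod 2) • uw 2 + (k3 : ZMod 2) • uw 3 + (k4 : ZMod 2) • uw 4 +
          (k5 : ZMod 2) • uw 5) := by
      funext p
      have hp := tet_lt p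
      simp only [redW, Pi.add_apply, Pi.smul_apply, smul_eq_mul, uw]
      have hK : ((k1 + k2 + k3 + k4 + k5 : ℤ) : ZMod 2) = ((m + S t 0 : ℤ) : ZMod 2) := by
        apply zmod2_cast_eq
        rw [Int.ModEq] at hsum
        omega
      push_cast at hK
      generalize htp : tet p = b at hp ⊢
      interval_cases b <;> simp [kk] <;> push_cast <;> simp only [sub_eq_add_neg, zmod2_neg] <;>
        first | ring1 | linear_combination -hK
    rw [hred]
    refine golayCode.add_mem hcode ?_
    refine golayCode.add_mem (golayCode.add_mem (golayCode.add_mem (golayCode.add_mem ?_ ?_) ?_) ?_) ?_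
    · exact golayCode.smul_mem _ (uw_mem (by simp))
    · exact golayCode.smul_mem _ (uw_mem (by simp))
    · exact golayCode.smul_mem _ (uw_mem (by simp))
    · exact golayCode.smul_mem _ (uw_mem (by simp))
    · exact golayCode.smul_mem _ (uw_mem (by simp))


/-- `ξ` as a permutation of the lattice -/
def xiPerm : Equiv.Perm ↥leechLattice where
  toFun v := ⟨xi v, xi_mem v.2⟩
  invFun v := ⟨xi v, xi_mem v.2⟩
  left_inv v := Subtype.ext (xi_xi (even4_of_mem v.2))
  right_inv v := Subtype.ext (xi_xi (even4_of_mem v.2))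

theorem xiPerm_mem : xiPerm ∈ Co0 := by
  refine ⟨fun v w => Subtype.ext ?_, fun v => ?_⟩
  · exact xi_add (even4_of_mem v.2) (even4_of_mem w.2)
  · exact sqNorm_xi (even4_of_mem v.2)

/-- `ξ` as an element of the automorphism group -/
def xiCo : ↥Co0 := ⟨xiPerm, xiPerm_mem⟩

theorem xiCo_smul (v : ↥leechLattice) : ((xiCo • v : ↥leechLattice) : GolayPt → ℤ) = xi v := rfl

end Cfsg.Agent.Helper22.Xi
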