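import Cfsg.Agent.Helper22.Co2Simple
import Cfsg.Agent.Helper22.Xi
import Cfsg.Agent.Helper22.HSBridge
import Cfsg.Agent.Helper22.Co2KDefs

/-!
# Packed vectors of the rank-24 lattice and the action of signed permutations and of the extra automorphism on them

A vector with entries between `-4` and `4` is packed into a natural number, four bits for each entry increased by
four.  Boolean checks on the packed values give the membership in the lattice, the norm, and the images under
the signed permutations and the extra automorphism.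
-/

set_option autoImplicit false

namespace Cfsg.Agent.Helper22.Co2Vec

open Cfsg Cfsg.Agent.Helper27 Cfsg.Agent.Helper22.Co0Mono Cfsg.Agent.Helper22.Xi
  Cfsg.Agent.Helper22.Co2K
open Cfsg.Agent.Helper22.PermPack (slot allN allN_spec beq_iff blt_iff withNat withNat_eq withList withList_eq)
open Cfsg.Agent.Helper22.HSBridge (idx_eq_iff sumZ sumZ_succ sum_golayPt)
open Cfsg.Agent.Helper22.GraphRefine (sumN sumN_succ)

/-- the vector with the given entries increased by four -/
def vzE (E : ℕ → ℕ) : GolayPt → ℤ := fun p => (E (idx p) : ℤ) - 4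

/-- the vector of a packed value -/
def vz (x : ℕ) : GolayPt → ℤ := vzE (slot 4 x)

theorem vzE_congr {E E' : ℕ → ℕ} (h : ∀ k < 24, E k = E' k) : vzE E = vzE E' := by
  funext p
  show (E (idx p) : ℤ) - 4 = (E' (idx p) : ℤ) - 4
  rw [h _ (idx_lt p)]

theorem vzE_inj {E E' : ℕ → ℕ} (h : vzE E = vzE E') : ∀ k < 24, E k = E' k := by
  intro k hk
  have := congrFun h (pt k)
  simp only [vzE, idx_pt hk] at this
  omega

/-! ### Sums -/

theorem sumZ_congr' : ∀ n, ∀ f g : ℕ → ℤ, (∀ k < n, f k = g k) → sumZ n f = sumZ n g := by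
  intro n
  induction n with
  | zero => intro _ _ _; rfl
  | succ n ih =>
    intro f g h
    rw [sumZ_succ, sumZ_succ, h n (Nat.lt_succ_self n), ih f g (fun k hk => h k (Nat.lt_succ_of_lt hk))]

theorem sumN_congr' : ∀ n, ∀ f g : ℕ → ℕ, (∀ k < n, f k = g k) → sumN n f = sumN n g := by
  intro n
  induction n with
  | zero => intro _ _ _; rfl
  | succ n ih =>
    intro f g h
    rw [sumN_succ, sumN_succ, h n (Nat.lt_succ_self n), ih f g (fun k hk => h k (Nat.lt_succ_of_lt hk))]

theorem sum_vzE (E : ℕ → ℕ) (f : ℤ → ℤ) : ∑ p, f (vzE E p) = sumZ 24 fun k => f ((E k : ℤ) - 4) := by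
  rw [sum_golayPt]
  apply sumZ_congr'
  intro k hk
  show f ((E (idx (pt k)) : ℤ) - 4) = _
  rw [idx_pt hk]

theorem sumZ_lin (E : ℕ → ℕ) : ∀ n : ℕ, sumZ n (fun k => (E k : ℤ) - 4) = ((sumN n E : ℕ) : ℤ) - 4 * n := by
  intro n
  induction n with
  | zero => simp [sumZ, sumN]
  | succ n ih =>
    rw [sumZ_succ, ih, sumN_succ]
    push_cast
    ring

theorem sumZ_sq (E : ℕ → ℕ) : ∀ n : ℕ, sumZ n (fun k => ((E k : ℤ) - 4) ^ 2) =
    ((sumN n fun k => Nat.mul (E k) (E k) : ℕ) : ℤ) - 8 * ((sumN n E : ℕ) : ℤ) + 16 * n := by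
  intro n
  induction n with
  | zero => simp [sumZ, sumN]
  | succ n ih =>
    rw [sumZ_succ, ih, sumN_succ, sumN_succ]
    have : Nat.mul (E n) (E n) = E n * E n := rfl
    rw [this]
    push_cast
    ring

theorem sumZ_cond (c : ℕ → Bool) (E : ℕ → ℕ) : ∀ n : ℕ,
    sumZ n (fun k => bif c k then (E k : ℤ) - 4 else 0) =
      ((sumN n fun k => bif c k then E k else 0 : ℕ) : ℤ) - 4 * ((sumN n fun k => bif c k then 1 else 0 : ℕ) : ℤ) := by
  intro n
  induction n with
  | zero => simp [sumZ, sumN]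
  | succ n ih =>
    rw [sumZ_succ, ih, sumN_succ, sumN_succ]
    cases c n
    · simp only [cond_false]
      push_cast
      ring
    · simp only [cond_true]
      push_cast
      ring

/-! ### The membership in the lattice -/

/-- the conditions for a packed vector to be in the lattice, of norm 32, and of inner product sixteen with the
standard minimal vector; the second argument is the index of the codeword of the residues -/
def leechB (x c : ℕ) : Bool :=
  withNat (Nat.mod x 2) fun m => withNat (cw c) fun w =>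
    (allN 24 fun k => withNat (slot 4 x k) fun e =>
      Nat.beq (Nat.mod e 2) m && Nat.ble e 8 &&
        (Nat.beq (Nat.mod (Nat.div (Nat.sub (Nat.add e 4) m) 2) 2) 1 == Nat.testBit w k)) &&
    withNat (sumN 24 fun k => slot 4 x k) fun s =>
      Nat.beq (Nat.mod s 8) (Nat.mul 4 m) &&
      Nat.beq (Nat.add (sumN 24 fun k => Nat.mul (slot 4 x k) (slot 4 x k)) 352) (Nat.mul 8 s) &&
      Nat.beq (Nat.add (slot 4 x 0) (slot 4 x 1)) 12

theorem leechB_spec {x c : ℕ} (h : leechB x c = true) :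
    IsLeechVec (vz x) ∧ sqNorm (vz x) = 32 ∧ 4 * vz x (pt 0) + 4 * vz x (pt 1) = 16 ∧ ∀ k < 24, slot 4 x k ≤ 8 := by
  unfold leechB at h
  simp only [withNat_eq, Bool.and_eq_true, beq_iff] at h
  obtain ⟨h1, ⟨hs, hn⟩, h01⟩ := h
  have hadd : ∀ a b : ℕ, Nat.add a b = a + b := fun _ _ => rfl
  have hmul : ∀ a b : ℕ, Nat.mul a b = a * b := fun _ _ => rfl
  have hsub : ∀ a b : ℕ, Nat.sub a b = a - b := fun _ _ => rfl
  have hdiv : ∀ a b : ℕ, Nat.div a b = a / b := fun _ _ => rfl
  have hmod : ∀ a b : ℕ, Nat.mod a b = a % b := fun _ _ => rfl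
  simp only [hadd, hmul, hsub, hdiv, hmod] at h1 hs hn h01
  have hm : x % 2 < 2 := Nat.mod_lt _ (by norm_num)
  have hk : ∀ k < 24, slot 4 x k % 2 = x % 2 ∧ slot 4 x k ≤ 8 ∧
      (((slot 4 x k + 4 - x % 2) / 2 % 2 = 1) ↔ (cw c).testBit k = true) := by
    intro k hk
    have := allN_spec h1 k hk
    simp only [Bool.and_eq_true, beq_iff, Nat.ble_eq, beq_iff_eq] at this
    refine ⟨this.1.1, this.1.2, ?_⟩
    rw [← this.2]
    exact beq_iff.symm
  refine ⟨⟨(x % 2 : ℕ), fun p => (((slot 4 x (idx p) + 4 - x % 2) / 2 : ℕ) : ℤ) - 4, ?_, ?_, ?_⟩, ?_, ?_,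
    fun k hk' => (hk k hk').2.1⟩
  · intro p
    have := (hk _ (idx_lt p)).1
    show (slot 4 x (idx p) : ℤ) - 4 = ((x % 2 : ℕ) : ℤ) + 2 * ((((slot 4 x (idx p) + 4 - x % 2) / 2 : ℕ) : ℤ) - 4)
    omega
  · have e1 := sum_vzE (slot 4 x) (fun z => z)
    have e2 := sumZ_lin (slot 4 x) 24
    have hs' : sumN 24 (slot 4 x) % 8 = 4 * (x % 2) := hs
    show ∑ p, vzE (slot 4 x) p ≡ _ [ZMOD 8]
    rw [e1, e2, Int.ModEq]
    generalize sumN 24 (slot 4 x) = S at hs' ⊢
    push_cast
    omega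
  · have : redW (fun p => (((slot 4 x (idx p) + 4 - x % 2) / 2 : ℕ) : ℤ) - 4) = decW (cw c) := by
      funext p
      rw [decW_apply]
      have h3 := (hk _ (idx_lt p)).2.2
      by_cases hb : (cw c).testBit (idx p) = true
      · rw [if_pos hb]
        have h4 := h3.mpr hb
        have h5 : redW (fun p => (((slot 4 x (idx p) + 4 - x % 2) / 2 : ℕ) : ℤ) - 4) p ≠ 0 := by
          rw [redW_ne_zero_iff]
          show ((((slot 4 x (idx p) + 4 - x % 2) / 2 : ℕ) : ℤ) - 4) % 2 = 1
          omega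
        revert h5
        generalize redW _ p = z
        revert z
        decide
      · rw [if_neg hb]
        have h4 : ¬ ((slot 4 x (idx p) + 4 - x % 2) / 2 % 2 = 1) := fun h => hb (h3.mp h)
        by_contra h5
        rw [← ne_eq, redW_ne_zero_iff] at h5
        have h6 : ((((slot 4 x (idx p) + 4 - x % 2) / 2 : ℕ) : ℤ) - 4) % 2 = 1 := h5
        omega
    rw [this]
    exact decW_cw_mem c
  · have e1 := sum_vzE (slot 4 x) (fun z => z ^ 2)
    have e2 := sumZ_sq (slot 4 x) 24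
    have hn' : (sumN 24 fun k => Nat.mul (slot 4 x k) (slot 4 x k)) + 352 = 8 * sumN 24 (slot 4 x) := hn
    show ∑ p, vzE (slot 4 x) p ^ 2 = 32
    rw [e1, e2]
    generalize sumN 24 (slot 4 x) = S at hn' ⊢
    generalize (sumN 24 fun k => Nat.mul (slot 4 x k) (slot 4 x k)) = Q at hn' ⊢
    push_cast
    omega
  · show 4 * ((slot 4 x (idx (pt 0)) : ℤ) - 4) + 4 * ((slot 4 x (idx (pt 1)) : ℤ) - 4) = 16
    rw [idx_pt (by norm_num), idx_pt (by norm_num)]
    omega

/-! ### Signed permutations -/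

/-- the entries of the image under a signed permutation, given the table of the inverse permutation -/
def monoE (TI : List ℕ) (mask : ℕ) (E : ℕ → ℕ) (k : ℕ) : ℕ :=
  bif Nat.testBit mask k then Nat.sub 8 (E (nthR 0 TI k)) else E (nthR 0 TI k)

theorem tblPerm_symm_idx {T TI : List ℕ} (hv : validTbl T = true)
    (hI : ∀ k < 24, T.getD (TI.getD k 0) 0 = k ∧ TI.getD k 0 < 24) (p : GolayPt) :
    idx ((tblPerm T hv).symm p) = TI.getD (idx p) 0 := by
  have h := hI _ (idx_lt p)
  have : (tblPerm T hv).symm p = pt (TI.getD (idx p) 0) := by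
    rw [Equiv.symm_apply_eq, tblPerm_pt T hv h.2, h.1, pt_idx]
  rw [this, idx_pt h.2]

theorem signedPerm_vzE {T TI : List ℕ} (hv : validTbl T = true)
    (hI : ∀ k < 24, T.getD (TI.getD k 0) 0 = k ∧ TI.getD k 0 < 24) (mask : ℕ) (E : ℕ → ℕ)
    (hE : ∀ k < 24, E k ≤ 8) :
    signedPerm (tblPerm T hv) (maskSet mask) (vzE E) = vzE (monoE TI mask E) := by
  funext p
  have h := hI _ (idx_lt p)
  have h8 := hE _ h.2
  show (if p ∈ maskSet mask then -vzE E ((tblPerm T hv).symm p) else vzE E ((tblPerm T hv).symm p)) =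
    ((monoE TI mask E (idx p) : ℕ) : ℤ) - 4
  unfold monoE
  rw [nthR_eq]
  have hvz : vzE E ((tblPerm T hv).symm p) = (E (TI.getD (idx p) 0) : ℤ) - 4 := by
    show (E (idx ((tblPerm T hv).symm p)) : ℤ) - 4 = _
    rw [tblPerm_symm_idx hv hI]
  rw [hvz]
  cases hb : mask.testBit (idx p)
  · have : p ∉ maskSet mask := by
      rw [mem_maskSet, hb]
      simp
    rw [if_neg this, cond_false]
  · have : p ∈ maskSet mask := by
      rw [mem_maskSet, hb]
    rw [if_pos this, cond_true]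
    show _ = ((8 - E (TI.getD (idx p) 0) : ℕ) : ℤ) - 4
    rw [Nat.cast_sub h8]
    push_cast
    ring

/-! ### The extra automorphism -/

/-- the sum of the entries over a tetrad -/
def tsum (E : ℕ → ℕ) (a : ℕ) : ℕ := sumN 24 fun j => bif Nat.beq (nthR 0 tetTbl j) a then E j else 0

/-- the halves of the sums of the entries over the six tetrads -/
def hsL (E : ℕ → ℕ) : List ℕ :=
  [Nat.div (tsum E 0) 2, Nat.div (tsum E 1) 2, Nat.div (tsum E 2) 2, Nat.div (tsum E 3) 2, Nat.div (tsum E 4) 2,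
    Nat.div (tsum E 5) 2]

/-- an entry of the image under the extra automorphism, given the halves of the sums -/
def xiE' (hs : List ℕ) (E : ℕ → ℕ) (k : ℕ) : ℕ :=
  bif Nat.beq (nthR 0 tetTbl k) 0 then Nat.sub (Nat.add (E k) 8) (nthR 0 hs 0)
  else Nat.sub (nthR 0 hs (nthR 0 tetTbl k)) (E k)

/-- an entry of the image under the extra automorphism -/
def xiE (E : ℕ → ℕ) (k : ℕ) : ℕ := xiE' (hsL E) E k

/-- the conditions for the computation of the image under the extra automorphism -/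
def xiOK' (hs : List ℕ) (E : ℕ → ℕ) : Bool :=
  (allN 6 fun a => Nat.beq (Nat.mod (tsum E a) 2) 0) &&
  allN 24 fun k => (bif Nat.beq (nthR 0 tetTbl k) 0 then Nat.ble (nthR 0 hs 0) (Nat.add (E k) 8)
    else Nat.ble (E k) (nthR 0 hs (nthR 0 tetTbl k))) && Nat.ble (xiE' hs E k) 8

theorem tet_eq (p : GolayPt) : tet p = nthR 0 tetTbl (idx p) := by
  rw [nthR_eq]
  rfl

theorem count_tet : ∀ a < 6, (sumN 24 fun j => bif Nat.beq (nthR 0 tetTbl j) a then 1 else 0) = 4 := by
  decide

theorem S_vzE (E : ℕ → ℕ) {a : ℕ} (ha : a < 6) : S (vzE E) a = ((tsum E a : ℕ) : ℤ) - 16 := by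
  unfold S fib
  rw [Finset.sum_filter, sum_golayPt]
  have h1 : (sumZ 24 fun k => if tet (pt k) = a then vzE E (pt k) else 0) =
      sumZ 24 fun k => bif Nat.beq (nthR 0 tetTbl k) a then (E k : ℤ) - 4 else 0 := by
    apply sumZ_congr'
    intro k hk
    rw [tet_eq, idx_pt hk]
    show (if nthR 0 tetTbl k = a then (E (idx (pt k)) : ℤ) - 4 else 0) = _
    rw [idx_pt hk]
    by_cases hc : nthR 0 tetTbl k = a
    · rw [if_pos hc, beq_iff.mpr hc, cond_true]
    · rw [if_neg hc]
      have : Nat.beq (nthR 0 tetTbl k) a = false := by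
        rw [← Bool.not_eq_true, beq_iff]
        exact hc
      rw [this, cond_false]
  rw [h1, sumZ_cond, count_tet a ha]
  unfold tsum
  push_cast
  ring

theorem nthR_hsL (E : ℕ → ℕ) {a : ℕ} (ha : a < 6) : nthR 0 (hsL E) a = tsum E a / 2 := by
  rw [nthR_eq]
  interval_cases a <;> rfl

theorem xi_vzE (E : ℕ → ℕ) (h : xiOK' (hsL E) E = true) : xi (vzE E) = vzE (xiE E) := by
  unfold xiOK' at h
  rw [Bool.and_eq_true] at h
  obtain ⟨h1, h2⟩ := h
  funext p
  have hk := allN_spec h2 (idx p) (idx_lt p)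
  rw [Bool.and_eq_true] at hk
  have ht := tet_lt p
  have hev := allN_spec h1 (tet p) ht
  rw [beq_iff] at hev
  have hev' : tsum E (tet p) % 2 = 0 := hev
  show sg (tet p) * (hf (vzE E) (tet p) - vzE E p) = ((xiE E (idx p) : ℕ) : ℤ) - 4
  unfold hf xiE xiE'
  rw [S_vzE E ht]
  rw [← tet_eq] at hk ⊢
  have hk1 := hk.1
  show sg (tet p) * ((((tsum E (tet p) : ℕ) : ℤ) - 16) / 2 - ((E (idx p) : ℤ) - 4)) = _
  by_cases h0 : tet p = 0
  · rw [h0] at hev' hk1 ⊢
    have hb : Nat.beq 0 0 = true := rfl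
    rw [hb, cond_true] at hk1 ⊢
    rw [nthR_hsL E (by norm_num)] at hk1 ⊢
    have hle : tsum E 0 / 2 ≤ E (idx p) + 8 := Nat.le_of_ble_eq_true hk1
    show sg 0 * _ = ((E (idx p) + 8 - tsum E 0 / 2 : ℕ) : ℤ) - 4
    rw [Nat.cast_sub hle]
    unfold sg
    rw [if_pos rfl]
    push_cast
    omega
  · have hb : Nat.beq (tet p) 0 = false := by
      rw [← Bool.not_eq_true, beq_iff]
      exact h0
    rw [hb, cond_false] at hk1 ⊢
    rw [nthR_hsL E ht] at hk1 ⊢
    have hle : E (idx p) ≤ tsum E (tet p) / 2 := Nat.le_of_ble_eq_true hk1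
    show sg (tet p) * _ = ((tsum E (tet p) / 2 - E (idx p) : ℕ) : ℤ) - 4
    rw [Nat.cast_sub hle]
    unfold sg
    rw [if_neg h0]
    push_cast
    omega

theorem xiE_le (E : ℕ → ℕ) (h : xiOK' (hsL E) E = true) : ∀ k < 24, xiE E k ≤ 8 := by
  intro k hk
  unfold xiOK' at h
  rw [Bool.and_eq_true] at h
  have := allN_spec h.2 k hk
  rw [Bool.and_eq_true] at this
  exact Nat.le_of_ble_eq_true this.2

end Cfsg.Agent.Helper22.Co2Vec
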