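import Cfsg.Agent.Helper22.Co3KChk

/-!
# Kernel facts about the group of order 495766656000 on 552 points: the keys of the conjugates of the involution

Generated by a script.  The checks run one after the other, to bound the memory.
-/

set_option autoImplicit false
set_option Elab.async false

namespace Cfsg.Agent.Helper22.Co3K

theorem keys_okK11 : keysR (11 * 4000) (min 4000 (170774 - 11 * 4000)) = true := by decide +kernel

theorem keys_okK12 : keysR (12 * 4000) (min 4000 (170774 - 12 * 4000)) = true := by decide +kernel

theorem keys_okK13 : keysR (13 * 4000) (min 4000 (170774 - 13 * 4000)) = true := by decide +kernel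

theorem keys_okK14 : keysR (14 * 4000) (min 4000 (170774 - 14 * 4000)) = true := by decide +kernel

theorem keys_okK15 : keysR (15 * 4000) (min 4000 (170774 - 15 * 4000)) = true := by decide +kernel

theorem keys_okK16 : keysR (16 * 4000) (min 4000 (170774 - 16 * 4000)) = true := by decide +kernel

theorem keys_okK17 : keysR (17 * 4000) (min 4000 (170774 - 17 * 4000)) = true := by decide +kernel

theorem keys_okK18 : keysR (18 * 4000) (min 4000 (170774 - 18 * 4000)) = true := by decide +kernel

theorem keys_okK19 : keysR (19 * 4000) (min 4000 (170774 - 19 * 4000)) = true := by decide +kernel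

theorem keys_okK20 : keysR (20 * 4000) (min 4000 (170774 - 20 * 4000)) = true := by decide +kernel

theorem keys_okK21 : keysR (21 * 4000) (min 4000 (170774 - 21 * 4000)) = true := by decide +kernel

end Cfsg.Agent.Helper22.Co3K
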