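import Cfsg.Agent.Helper22.Co3KChk

/-!
# Kernel facts about the group of order 495766656000 on 552 points: the keys of the conjugates of the involution

Generated by a script.  The checks run one after the other, to bound the memory.
-/

set_option autoImplicit false
set_option Elab.async false

namespace Cfsg.Agent.Helper22.Co3K

theorem keys_okK22 : keysR (22 * 4000) (min 4000 (170774 - 22 * 4000)) = true := by decide +kernel

theorem keys_okK23 : keysR (23 * 4000) (min 4000 (170774 - 23 * 4000)) = true := by decide +kernel

theorem keys_okK24 : keysR (24 * 4000) (min 4000 (170774 - 24 * 4000)) = true := by decide +kernel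

theorem keys_okK25 : keysR (25 * 4000) (min 4000 (170774 - 25 * 4000)) = true := by decide +kernel

theorem keys_okK26 : keysR (26 * 4000) (min 4000 (170774 - 26 * 4000)) = true := by decide +kernel

theorem keys_okK27 : keysR (27 * 4000) (min 4000 (170774 - 27 * 4000)) = true := by decide +kernel

theorem keys_okK28 : keysR (28 * 4000) (min 4000 (170774 - 28 * 4000)) = true := by decide +kernel

theorem keys_okK29 : keysR (29 * 4000) (min 4000 (170774 - 29 * 4000)) = true := by decide +kernel

theorem keys_okK30 : keysR (30 * 4000) (min 4000 (170774 - 30 * 4000)) = true := by decide +kernel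

theorem keys_okK31 : keysR (31 * 4000) (min 4000 (170774 - 31 * 4000)) = true := by decide +kernel

theorem keys_okK32 : keysR (32 * 4000) (min 4000 (170774 - 32 * 4000)) = true := by decide +kernel

end Cfsg.Agent.Helper22.Co3K
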