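import Cfsg.Agent.Helper22.Co3KChk

/-!
# Kernel facts about the group of order 495766656000 on 552 points: the keys of the conjugates of the involution

Generated by a script.  The checks run one after the other, to bound the memory.
-/

set_option autoImplicit false
set_option Elab.async false

namespace Cfsg.Agent.Helper22.Co3K

theorem keys_okK33 : keysR (33 * 4000) (min 4000 (170774 - 33 * 4000)) = true := by decide +kernel

theorem keys_okK34 : keysR (34 * 4000) (min 4000 (170774 - 34 * 4000)) = true := by decide +kernel

theorem keys_okK35 : keysR (35 * 4000) (min 4000 (170774 - 35 * 4000)) = true := by decide +kernel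

theorem keys_okK36 : keysR (36 * 4000) (min 4000 (170774 - 36 * 4000)) = true := by decide +kernel

theorem keys_okK37 : keysR (37 * 4000) (min 4000 (170774 - 37 * 4000)) = true := by decide +kernel

theorem keys_okK38 : keysR (38 * 4000) (min 4000 (170774 - 38 * 4000)) = true := by decide +kernel

theorem keys_okK39 : keysR (39 * 4000) (min 4000 (170774 - 39 * 4000)) = true := by decide +kernel

theorem keys_okK40 : keysR (40 * 4000) (min 4000 (170774 - 40 * 4000)) = true := by decide +kernel

theorem keys_okK41 : keysR (41 * 4000) (min 4000 (170774 - 41 * 4000)) = true := by decide +kernel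

theorem keys_okK42 : keysR (42 * 4000) (min 4000 (170774 - 42 * 4000)) = true := by decide +kernel

end Cfsg.Agent.Helper22.Co3K
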