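import Cfsg.Agent.Helper22.Co3KChk

/-!
# Kernel facts about the group of order 495766656000 on 552 points: the conjugates of the involution and the relations

Generated by a script.  The checks run one after the other, to bound the memory.
-/

set_option autoImplicit false
set_option Elab.async false

namespace Cfsg.Agent.Helper22.Co3K

theorem filter_okK0 : filterR (0 * 4000) (min 4000 (170775 - 0 * 4000)) = true := by decide +kernel

theorem filter_okK1 : filterR (1 * 4000) (min 4000 (170775 - 1 * 4000)) = true := by decide +kernel

theorem filter_okK2 : filterR (2 * 4000) (min 4000 (170775 - 2 * 4000)) = true := by decide +kernel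

theorem filter_okK3 : filterR (3 * 4000) (min 4000 (170775 - 3 * 4000)) = true := by decide +kernel

theorem filter_okK4 : filterR (4 * 4000) (min 4000 (170775 - 4 * 4000)) = true := by decide +kernel

theorem filter_okK5 : filterR (5 * 4000) (min 4000 (170775 - 5 * 4000)) = true := by decide +kernel

theorem filter_okK6 : filterR (6 * 4000) (min 4000 (170775 - 6 * 4000)) = true := by decide +kernel

theorem filter_okK7 : filterR (7 * 4000) (min 4000 (170775 - 7 * 4000)) = true := by decide +kernel

theorem filter_okK8 : filterR (8 * 4000) (min 4000 (170775 - 8 * 4000)) = true := by decide +kernel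

theorem filter_okK9 : filterR (9 * 4000) (min 4000 (170775 - 9 * 4000)) = true := by decide +kernel

theorem filter_okK10 : filterR (10 * 4000) (min 4000 (170775 - 10 * 4000)) = true := by decide +kernel

end Cfsg.Agent.Helper22.Co3K
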