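import Cfsg.Agent.Helper22.Co3KChk

/-!
# Kernel facts about the group of order 495766656000 on 552 points: the conjugates of the involution and the relations

Generated by a script.  The checks run one after the other, to bound the memory.
-/

set_option autoImplicit false
set_option Elab.async false

namespace Cfsg.Agent.Helper22.Co3K

theorem filter_okK11 : filterR (11 * 4000) (min 4000 (170775 - 11 * 4000)) = true := by decide +kernel

theorem filter_okK12 : filterR (12 * 4000) (min 4000 (170775 - 12 * 4000)) = true := by decide +kernel

theorem filter_okK13 : filterR (13 * 4000) (min 4000 (170775 - 13 * 4000)) = true := by decide +kernel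

theorem filter_okK14 : filterR (14 * 4000) (min 4000 (170775 - 14 * 4000)) = true := by decide +kernel

theorem filter_okK15 : filterR (15 * 4000) (min 4000 (170775 - 15 * 4000)) = true := by decide +kernel

theorem filter_okK16 : filterR (16 * 4000) (min 4000 (170775 - 16 * 4000)) = true := by decide +kernel

theorem filter_okK17 : filterR (17 * 4000) (min 4000 (170775 - 17 * 4000)) = true := by decide +kernel

theorem filter_okK18 : filterR (18 * 4000) (min 4000 (170775 - 18 * 4000)) = true := by decide +kernel

theorem filter_okK19 : filterR (19 * 4000) (min 4000 (170775 - 19 * 4000)) = true := by decide +kernel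

theorem filter_okK20 : filterR (20 * 4000) (min 4000 (170775 - 20 * 4000)) = true := by decide +kernel

theorem filter_okK21 : filterR (21 * 4000) (min 4000 (170775 - 21 * 4000)) = true := by decide +kernel

end Cfsg.Agent.Helper22.Co3K
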