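import Cfsg.Agent.Helper22.Co3KChk

/-!
# Kernel facts about the group of order 495766656000 on 552 points: the conjugates of the involution and the relations

Generated by a script.  The checks run one after the other, to bound the memory.
-/

set_option autoImplicit false
set_option Elab.async false

namespace Cfsg.Agent.Helper22.Co3K

theorem filter_okK22 : filterR (22 * 4000) (min 4000 (170775 - 22 * 4000)) = true := by decide +kernel

theorem filter_okK23 : filterR (23 * 4000) (min 4000 (170775 - 23 * 4000)) = true := by decide +kernel

theorem filter_okK24 : filterR (24 * 4000) (min 4000 (170775 - 24 * 4000)) = true := by decide +kernel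

theorem filter_okK25 : filterR (25 * 4000) (min 4000 (170775 - 25 * 4000)) = true := by decide +kernel

theorem filter_okK26 : filterR (26 * 4000) (min 4000 (170775 - 26 * 4000)) = true := by decide +kernel

theorem filter_okK27 : filterR (27 * 4000) (min 4000 (170775 - 27 * 4000)) = true := by decide +kernel

theorem filter_okK28 : filterR (28 * 4000) (min 4000 (170775 - 28 * 4000)) = true := by decide +kernel

theorem filter_okK29 : filterR (29 * 4000) (min 4000 (170775 - 29 * 4000)) = true := by decide +kernel

theorem filter_okK30 : filterR (30 * 4000) (min 4000 (170775 - 30 * 4000)) = true := by decide +kernel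

theorem filter_okK31 : filterR (31 * 4000) (min 4000 (170775 - 31 * 4000)) = true := by decide +kernel

theorem filter_okK32 : filterR (32 * 4000) (min 4000 (170775 - 32 * 4000)) = true := by decide +kernel

end Cfsg.Agent.Helper22.Co3K
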