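import Cfsg.Agent.Helper22.Co3KChk2a
import Cfsg.Agent.Helper22.Co3KChk2b
import Cfsg.Agent.Helper22.Co3KChk2c
import Cfsg.Agent.Helper22.Co3KChk2d
import Cfsg.Agent.Helper22.Co3KChk3a
import Cfsg.Agent.Helper22.Co3KChk3b
import Cfsg.Agent.Helper22.Co3KChk3c
import Cfsg.Agent.Helper22.Co3KChk3d

/-!
# Kernel facts about the group of order 495766656000 on 552 points: the checks of the ranges, collected

Generated by a script.
-/

set_option autoImplicit false

namespace Cfsg.Agent.Helper22.Co3K

theorem keys_all : ∀ r, r < 43 → keysR (r * 4000) (min 4000 (170774 - r * 4000)) = true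
  | 0, _ => keys_okK0
  | 1, _ => keys_okK1
  | 2, _ => keys_okK2
  | 3, _ => keys_okK3
  | 4, _ => keys_okK4
  | 5, _ => keys_okK5
  | 6, _ => keys_okK6
  | 7, _ => keys_okK7
  | 8, _ => keys_okK8
  | 9, _ => keys_okK9
  | 10, _ => keys_okK10
  | 11, _ => keys_okK11
  | 12, _ => keys_okK12
  | 13, _ => keys_okK13
  | 14, _ => keys_okK14
  | 15, _ => keys_okK15
  | 16, _ => keys_okK16
  | 17, _ => keys_okK17
  | 18, _ => keys_okK18
  | 19, _ => keys_okK19
  | 20, _ => keys_okK20
  | 21, _ => keys_okK21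
  | 22, _ => keys_okK22
  | 23, _ => keys_okK23
  | 24, _ => keys_okK24
  | 25, _ => keys_okK25
  | 26, _ => keys_okK26
  | 27, _ => keys_okK27
  | 28, _ => keys_okK28
  | 29, _ => keys_okK29
  | 30, _ => keys_okK30
  | 31, _ => keys_okK31
  | 32, _ => keys_okK32
  | 33, _ => keys_okK33
  | 34, _ => keys_okK34
  | 35, _ => keys_okK35
  | 36, _ => keys_okK36
  | 37, _ => keys_okK37
  | 38, _ => keys_okK38
  | 39, _ => keys_okK39
  | 40, _ => keys_okK40
  | 41, _ => keys_okK41
  | 42, _ => keys_okK42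
  | n + 43, h => absurd h (by omega)

theorem filter_all : ∀ r, r < 43 → filterR (r * 4000) (min 4000 (170775 - r * 4000)) = true
  | 0, _ => filter_okK0
  | 1, _ => filter_okK1
  | 2, _ => filter_okK2
  | 3, _ => filter_okK3
  | 4, _ => filter_okK4
  | 5, _ => filter_okK5
  | 6, _ => filter_okK6
  | 7, _ => filter_okK7
  | 8, _ => filter_okK8
  | 9, _ => filter_okK9
  | 10, _ => filter_okK10
  | 11, _ => filter_okK11
  | 12, _ => filter_okK12
  | 13, _ => filter_okK13
  | 14, _ => filter_okK14
  | 15, _ => filter_okK15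
  | 16, _ => filter_okK16
  | 17, _ => filter_okK17
  | 18, _ => filter_okK18
  | 19, _ => filter_okK19
  | 20, _ => filter_okK20
  | 21, _ => filter_okK21
  | 22, _ => filter_okK22
  | 23, _ => filter_okK23
  | 24, _ => filter_okK24
  | 25, _ => filter_okK25
  | 26, _ => filter_okK26
  | 27, _ => filter_okK27
  | 28, _ => filter_okK28
  | 29, _ => filter_okK29
  | 30, _ => filter_okK30
  | 31, _ => filter_okK31
  | 32, _ => filter_okK32
  | 33, _ => filter_okK33
  | 34, _ => filter_okK34
  | 35, _ => filter_okK35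
  | 36, _ => filter_okK36
  | 37, _ => filter_okK37
  | 38, _ => filter_okK38
  | 39, _ => filter_okK39
  | 40, _ => filter_okK40
  | 41, _ => filter_okK41
  | 42, _ => filter_okK42
  | n + 43, h => absurd h (by omega)

end Cfsg.Agent.Helper22.Co3K
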