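import Cfsg.Agent.Helper22.Co3K
import Cfsg.Agent.Helper22.Co3KChk4

/-!
# The group of order 495766656000 on 552 points: all its automorphisms are inner

The group `K` generated by an involution `z` and an element `u` of order seven.  The involution generates the
centre of a Sylow subgroup, so automorphisms map it to a conjugate; the conjugates are given by coset
representatives of the centraliser, and relations of `z` and `u` leave forty-two possible images under the
automorphisms fixing `u`, as many as the elements commuting with `u`.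
-/

set_option autoImplicit false
set_option maxRecDepth 8000

namespace Cfsg.Agent.Helper22.Co3K

open Cfsg Cfsg.Agent.Helper22.PermPack Cfsg.Agent.Helper22.Co3KData Cfsg.Agent.Helper22.GraphRefine
  Cfsg.Agent.Helper22.Co3Graph Cfsg.Agent.Helper22.OutTwo Cfsg.Agent.Helper14.J3Out

/-! ### The subgroup of order 1024 -/

theorem sY_good : ∀ y ∈ sY, Good 552 10 y :=
  fun y hy => good_of_goodB (List.all_eq_true.mp sY_goodK y hy)

theorem sY_mem : ∀ y ∈ sY, P 552 10 y ∈ K := by
  intro y hy
  obtain ⟨j, hj, rfl⟩ := List.mem_iff_getElem.mp hy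
  have h := allN_spec ssub_okK j hj
  rw [List.getD_eq_getElem _ _ hj] at h
  exact mem_of_isPath (sY_good _ hy) h

theorem schain_okK : chainOK 552 10 sY slevels = true := chainOK_of_sub sY_good sY_mem schainD_okK

/-- the subgroup of order 1024 -/
noncomputable def Sp : Subgroup (Pm 552) := Grp 552 10 sY

theorem card_Sp : Nat.card Sp = 1024 := by
  rw [← prod_slevels]
  exact (chain_sound slevels sY sY_good schain_okK).1

theorem Sp_le : Sp ≤ K := by
  unfold Sp Grp
  rw [Subgroup.closure_le]
  rintro g ⟨y, hy, rfl⟩
  exact sY_mem y hy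

theorem zP_mem_Sp : zP ∈ Sp := by
  obtain ⟨g, hg, hrep⟩ := (chain_sound slevels sY sY_good schain_okK).2 _ (isPath_valid zS_okK)
  show P 552 10 zT ∈ Sp
  rw [eq_of_isPath z_good zS_okK hrep]
  exact hg

theorem zP_comm_Sp : ∀ s ∈ Sp, s * zP = zP * s := by
  have hle : Sp ≤ Subgroup.centralizer ({zP} : Set (Pm 552)) := by
    unfold Sp Grp
    rw [Subgroup.closure_le]
    rintro g ⟨y, hy, rfl⟩
    rw [SetLike.mem_coe, Subgroup.mem_centralizer_iff]
    intro x hx
    rw [Set.mem_singleton_iff] at hx
    subst hx
    have h := List.all_eq_true.mp zcommS_okK y hy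
    exact (eq_of_rep (rep_mul (rep_P (sY_good y hy)) (rep_P z_good))
      (rep_mul (rep_P z_good) (rep_P (sY_good y hy))) (fun i hi => beq_iff.mp (allN_spec h i hi))).symm
  intro s hs
  have := Subgroup.mem_centralizer_iff.mp (hle hs) zP (Set.mem_singleton _)
  exact this.symm

theorem slevels_m : slevels.map (fun L => L.m) = [32, 32] := by decide +kernel

/-- an element of the subgroup commuting with the subgroup is the identity or the involution -/
theorem Sp_center (s : Pm 552) (hs : s ∈ Sp) (hc : ∀ t ∈ Sp, t * s = s * t) : s = 1 ∨ s = zP := by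
  obtain ⟨p, hp, hrep⟩ := chain_complete slevels sY sY_good schain_okK s hs
  have hm := slevels_m
  obtain ⟨k0, k1, rfl, h0, h1⟩ : ∃ k0 k1, p = [k0, k1] ∧ k0 < 32 ∧ k1 < 32 := by
    unfold slevels at hp hm
    simp only [List.map_cons, List.map_nil, List.cons.injEq, and_true] at hm
    match p, hp with
    | [k0, k1], hp =>
      simp only [pathValid, Bool.and_eq_true, decide_eq_true_eq] at hp
      exact ⟨k0, k1, rfl, by rw [← hm.1]; exact hp.1, by rw [← hm.2]; exact hp.2.1⟩
    | [], hp => simp [pathValid] at hp
    | [_], hp => simp [pathValid] at hp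
    | _ :: _ :: _ :: _, hp => simp [pathValid] at hp
  have h := allN_spec (allN_spec centre_okK k0 h0) k1 h1
  rw [withList_eq] at h
  have hcomm : (sY.all fun y => allN 552 fun i =>
      Nat.beq (slot 10 y (compLook 10 (pathTabs 552 10 slevels [k0, k1]) i))
        (compLook 10 (pathTabs 552 10 slevels [k0, k1]) (slot 10 y i))) = true := by
    rw [List.all_eq_true]
    intro y hy
    apply allN_of_forall
    intro i hi
    rw [beq_iff]
    have e := hc (P 552 10 y) (P_mem_Grp hy)
    have e1 := rep_apply (rep_mul (rep_P (sY_good y hy)) hrep) hi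
    have e2 := rep_apply (rep_mul hrep (rep_P (sY_good y hy))) hi
    rw [e] at e1
    exact e1.symm.trans e2
  rw [hcomm] at h
  simp only [Bool.not_true, Bool.false_or, Bool.or_eq_true] at h
  rcases h with h | h
  · left
    exact eq_one_of_rep hrep (fun i hi => beq_iff.mp (allN_spec h i hi))
  · right
    exact eq_of_rep hrep (rep_P z_good) (fun i hi => beq_iff.mp (allN_spec h i hi))

theorem factorization_K : (Nat.card ↥K).factorization 2 = 10 := by
  rw [card_K, show 495766656000 = 2 ^ 10 * 484147125 by norm_num,
    Nat.factorization_mul (by norm_num) (by norm_num), Finsupp.add_apply,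
    Nat.Prime.factorization_pow Nat.prime_two,
    Nat.factorization_eq_zero_of_not_dvd (by norm_num : ¬ 2 ∣ 484147125)]
  simp

theorem card_SpK : Nat.card (Sp.subgroupOf K) = 2 ^ (Nat.card ↥K).factorization 2 := by
  rw [factorization_K, Nat.card_congr (Subgroup.subgroupOfEquivOfLe Sp_le).toEquiv, card_Sp]
  norm_num

/-- an automorphism maps the involution to a conjugate -/
theorem aut_zK (φ : MulAut ↥K) : ∃ g : ↥K, φ zK = g * zK * g⁻¹ := by
  have : Fact (Nat.Prime 2) := ⟨Nat.prime_two⟩
  exact exists_conj_of_sylow_center 2 (Sp.subgroupOf K) card_SpK zK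
    (by rw [Subgroup.mem_subgroupOf]; exact zP_mem_Sp)
    (by
      intro s hs
      rw [Subgroup.mem_subgroupOf] at hs
      apply Subtype.ext
      exact zP_comm_Sp s.1 hs)
    (by
      intro s hs hc
      rw [Subgroup.mem_subgroupOf] at hs
      have := Sp_center s.1 hs (by
        intro t ht
        have := hc ⟨t, Sp_le ht⟩ (by rw [Subgroup.mem_subgroupOf]; exact ht)
        exact congrArg Subtype.val this)
      rcases this with h | h
      · left; exact Subtype.ext h
      · right; exact Subtype.ext h) φ

/-! ### The centraliser of the involution -/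

theorem cY_good : ∀ y ∈ cY, Good 552 10 y :=
  fun y hy => good_of_goodB (List.all_eq_true.mp cY_goodK y hy)

theorem cY_mem : ∀ y ∈ cY, P 552 10 y ∈ K := by
  intro y hy
  obtain ⟨j, hj, rfl⟩ := List.mem_iff_getElem.mp hy
  have h := allN_spec csub_okK j hj
  rw [List.getD_eq_getElem _ _ hj] at h
  exact mem_of_isPath (cY_good _ hy) h

theorem cchain_okK : chainOK 552 10 cY clevels = true := chainOK_of_sub cY_good cY_mem cchainD_okK

/-- a subgroup of order 2903040 of the centraliser of the involution -/
noncomputable def Cp : Subgroup (Pm 552) := Grp 552 10 cY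

theorem card_Cp : Nat.card Cp = 2903040 := by
  rw [← prod_clevels]
  exact (chain_sound clevels cY cY_good cchain_okK).1

theorem Cp_le : Cp ≤ K := by
  unfold Cp Grp
  rw [Subgroup.closure_le]
  rintro g ⟨y, hy, rfl⟩
  exact cY_mem y hy

theorem zP_comm_Cp : ∀ s ∈ Cp, s * zP = zP * s := by
  have hle : Cp ≤ Subgroup.centralizer ({zP} : Set (Pm 552)) := by
    unfold Cp Grp
    rw [Subgroup.closure_le]
    rintro g ⟨y, hy, rfl⟩
    rw [SetLike.mem_coe, Subgroup.mem_centralizer_iff]
    intro x hx
    rw [Set.mem_singleton_iff] at hx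
    subst hx
    have h := List.all_eq_true.mp zcommC_okK y hy
    exact (eq_of_rep (rep_mul (rep_P (cY_good y hy)) (rep_P z_good))
      (rep_mul (rep_P z_good) (rep_P (cY_good y hy))) (fun i hi => beq_iff.mp (allN_spec h i hi))).symm
  intro s hs
  have := Subgroup.mem_centralizer_iff.mp (hle hs) zP (Set.mem_singleton _)
  exact this.symm

theorem card_class_zK : Nat.card (Set.range fun g : ↥K => g * zK * g⁻¹) ≤ 170775 := by
  apply card_class_le 2903040 170775 (by norm_num) (by rw [card_K]) zK (Cp.subgroupOf K)
  · rw [Nat.card_congr (Subgroup.subgroupOfEquivOfLe Cp_le).toEquiv, card_Cp]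
  · intro s hs
    rw [Subgroup.mem_subgroupOf] at hs
    rw [Subgroup.mem_centralizer_iff]
    intro x hx
    rw [Set.mem_singleton_iff] at hx
    subst hx
    apply Subtype.ext
    exact (zP_comm_Cp s.1 hs).symm

/-! ### The conjugates of the involution -/

/-- the conjugate of the involution with a given index, as a function -/
def cj (j : ℕ) : ℕ → ℕ :=
  conjF (pathTabsC 552 10 32 fwdC (repPath j)) (pathTabsC 552 10 32 invC (repPath j))

theorem filter_spec (j : ℕ) (hj : j < 170775) : filterAt j = true := by
  have hr : j / 4000 < 43 := by omega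
  have h := allN_spec (filter_all (j / 4000) hr) (j % 4000) (by
    rw [lt_min_iff]
    constructor <;> omega)
  have e : Nat.add (j / 4000 * 4000) (j % 4000) = j := by
    show j / 4000 * 4000 + j % 4000 = j
    omega
  rw [e] at h
  exact h

theorem valid_spec (j : ℕ) (hj : j < 170775) : pathValid levels (repPath j) = true := by
  have h := filter_spec j hj
  unfold filterAt at h
  rw [withList_eq, Bool.and_eq_true] at h
  exact h.1

theorem key_step (j : ℕ) (hj : j < 170774) : key j < key (j + 1) := by
  have hr : j / 4000 < 43 := by omega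
  have h := keysR_spec (keys_all (j / 4000) hr) (j % 4000) (by
    rw [lt_min_iff]
    constructor <;> omega)
  have e : Nat.add (j / 4000 * 4000) (j % 4000) = j := by
    show j / 4000 * 4000 + j % 4000 = j
    omega
  have e' : Nat.add (j / 4000 * 4000) (j % 4000 + 1) = j + 1 := by
    show j / 4000 * 4000 + (j % 4000 + 1) = j + 1
    omega
  rw [e, e'] at h
  exact h

theorem key_lt : ∀ j' j : ℕ, j < j' → j' < 170775 → key j < key j' := by
  intro j'
  induction j' with
  | zero => intro j hj; omega
  | succ j' ih =>
    intro j hj hj'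
    have h1 := key_step j' (by omega)
    rcases Nat.lt_succ_iff_lt_or_eq.mp hj with h | h
    · exact lt_trans (ih j h (by omega)) h1
    · rw [h]
      exact h1

theorem key_eq_of_cj {j j' : ℕ} (h : ∀ i < 552, cj j i = cj j' i) : key j = key j' := by
  unfold key keyOf
  have e : ∀ a < 552, conjF (pathTabsC 552 10 32 fwdC (repPath j)) (pathTabsC 552 10 32 invC (repPath j)) a =
      conjF (pathTabsC 552 10 32 fwdC (repPath j')) (pathTabsC 552 10 32 invC (repPath j')) a := h
  rw [e 275 (by norm_num), e 0 (by norm_num), e 273 (by norm_num), e 272 (by norm_num), e 274 (by norm_num),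
    e 267 (by norm_num)]

theorem decodePath_length (w : ℕ) : ∀ (d e : ℕ), (decodePath w d e).length = d
  | 0, _ => rfl
  | d + 1, e => by rw [decodePath, List.length_cons, decodePath_length w d]

theorem pathTabsC_length (n w c : ℕ) : ∀ (css : List (List ℕ)) (p : List ℕ), css.length = p.length →
    (pathTabsC n w c css p).length = p.length
  | [], [], _ => rfl
  | [], _ :: _, h => by simp at h
  | _ :: _, [], h => by simp at h
  | cs :: css, k :: p, h => by
    rw [pathTabsC, List.length_cons, List.length_cons, pathTabsC_length n w c css p (by simpa using h)]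

theorem repPath_length (j : ℕ) : (repPath j).length = 6 := decodePath_length 10 6 _

theorem cj_eq (j : ℕ) (i : ℕ) : cj j i = conjLook 10 (pathTabsC 552 10 32 fwdC (repPath j))
    (pathTabsC 552 10 32 invC (repPath j)) (slot 10 zT) i := by
  unfold cj
  apply conjF_eq
  · rw [pathTabsC_length _ _ _ _ _ (by rw [repPath_length]; rfl), repPath_length]
  · rw [pathTabsC_length _ _ _ _ _ (by rw [repPath_length]; rfl), repPath_length]

theorem exists_conj (j : ℕ) (hj : j < 170775) : ∃ g : ↥K, Rep (cj j) (g * zK * g⁻¹).1 := by
  obtain ⟨g, hg, -, hrep⟩ := conj_rep levels fwdC invC gens (repPath j) gens_good chain_okK fwds_okK invs_okK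
    (valid_spec j hj) (slot 10 zT) zP (rep_P z_good)
  rw [K_eq] at hg
  exact ⟨⟨g, hg⟩, rep_congr hrep (fun i _ => cj_eq j i)⟩

/-- the conjugates, by index -/
noncomputable def conjEl (j : Fin 170775) : Set.range fun g : ↥K => g * zK * g⁻¹ :=
  ⟨Classical.choose (exists_conj j.1 j.2) * zK * (Classical.choose (exists_conj j.1 j.2))⁻¹,
    ⟨Classical.choose (exists_conj j.1 j.2), rfl⟩⟩

theorem conjEl_rep (j : Fin 170775) : Rep (cj j.1) (conjEl j).1.1 := Classical.choose_spec (exists_conj j.1 j.2)

theorem conjEl_injective : Function.Injective conjEl := by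
  intro j j' h
  have h1 := conjEl_rep j
  have h2 := conjEl_rep j'
  rw [h] at h1
  have hk : key j.1 = key j'.1 := by
    apply key_eq_of_cj
    intro i hi
    rw [← rep_apply h1 hi, ← rep_apply h2 hi]
  apply Fin.ext
  rcases lt_trichotomy j.1 j'.1 with hl | hl | hl
  · exact absurd hk (ne_of_lt (key_lt _ _ hl j'.2))
  · exact hl
  · exact absurd hk.symm (ne_of_lt (key_lt _ _ hl j.2))

/-- the conjugates of the involution are listed -/
theorem conj_zK (g : ↥K) : ∃ j < 170775, Rep (cj j) (g * zK * g⁻¹).1 := by
  have hfin : Finite (Set.range fun g : ↥K => g * zK * g⁻¹) := Set.finite_range _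
  have hb : Function.Bijective conjEl := by
    apply Function.Injective.bijective_of_nat_card_le conjEl_injective
    have e : Nat.card (Fin 170775) = 170775 := by simp
    rw [e]
    exact card_class_zK
  obtain ⟨j, hj⟩ := hb.2 ⟨g * zK * g⁻¹, ⟨g, rfl⟩⟩
  refine ⟨j.1, j.2, ?_⟩
  have := conjEl_rep j
  rw [hj] at this
  exact this

/-! ### Relations -/

/-- the word `d u^e₁ d u^e₂ ⋯` in a monoid -/
def relW {M : Type*} [Monoid M] (d u : M) : List ℕ → M
  | [] => 1
  | e :: w => d * u ^ e * relW d u w

theorem map_relW {M N : Type*} [Monoid M] [Monoid N] (f : M →* N) (d u : M) (w : List ℕ) :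
    f (relW d u w) = relW (f d) (f u) w := by
  induction w with
  | nil => simp [relW]
  | cons e w ih => simp [relW, ih]

theorem rep_relW {d : ℕ → ℕ} {x : Pm 552} (hx : Rep d x) :
    ∀ L : List ℕ, (L.all fun e => Nat.blt e 7) = true → Rep (relLookF d L) (relW x uP L) := by
  intro L
  induction L with
  | nil =>
    intro _
    exact rep_one
  | cons e L ih =>
    intro h
    rw [List.all_cons, Bool.and_eq_true, blt_iff] at h
    show Rep _ (x * uP ^ e * relW x uP L)
    rw [mul_assoc]
    exact rep_congr (rep_mul hx (rep_mul (rep_upow e h.1) (ih h.2))) (fun _ _ => rfl)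

theorem rels_spec (L : List ℕ) (hL : L ∈ rels) : (L.all fun e => Nat.blt e 7) = true ∧
    ∀ i < 552, relLookF (slot 10 zT) L i = i := by
  have h := List.all_eq_true.mp rels_okK L hL
  rw [Bool.and_eq_true] at h
  exact ⟨h.1, fun i hi => beq_iff.mp (allN_spec h.2 i hi)⟩

theorem relW_zK (L : List ℕ) (hL : L ∈ rels) : relW zK uK L = 1 := by
  apply Subtype.ext
  have h1 := map_relW K.subtype zK uK L
  have h2 : relW (K.subtype zK) (K.subtype uK) L = 1 :=
    eq_one_of_rep (rep_relW (rep_P z_good) L (rels_spec L hL).1) (rels_spec L hL).2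
  rw [h2] at h1
  exact h1

open Classical in
/-- the element of the group with a given table -/
noncomputable def clsK (j : ℕ) : ↥K :=
  if h : ∃ x : ↥K, Rep (cj j) x.1 then Classical.choose h else 1

theorem clsK_eq {j : ℕ} {x : ↥K} (hx : Rep (cj j) x.1) : clsK j = x := by
  have hex : ∃ x : ↥K, Rep (cj j) x.1 := ⟨x, hx⟩
  unfold clsK
  rw [dif_pos hex]
  exact Subtype.ext (rep_unique (Classical.choose_spec hex) hx)

/-- the possible images of the involution under the automorphisms fixing the element of order seven -/
noncomputable def goodSet : Finset ↥K := good42.toFinset.image clsK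

theorem card_goodSet : goodSet.card ≤ 42 := by
  calc goodSet.card ≤ good42.toFinset.card := Finset.card_image_le
    _ ≤ good42.length := List.toFinset_card_le _
    _ = 42 := rfl

theorem stab_uK (φ : MulAut ↥K) (hφ : φ uK = uK) : φ zK ∈ goodSet := by
  obtain ⟨g, hg⟩ := aut_zK φ
  obtain ⟨j, hj, hrep⟩ := conj_zK g
  have hrep' : Rep (cj j) (φ zK).1 := by
    rw [hg]
    exact hrep
  -- the relations
  have hrel : ∀ L ∈ rels, ∀ i < 552, relLookF (cj j) L i = i := by
    intro L hL i hi
    have h1 : φ (relW zK uK L) = 1 := by rw [relW_zK L hL, map_one]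
    have h0 : φ (relW zK uK L) = relW (φ zK) (φ uK) L := map_relW φ.toMonoidHom zK uK L
    rw [h0, hφ] at h1
    have h2 := map_relW K.subtype (φ zK) uK L
    rw [h1, map_one] at h2
    have h3 := rep_apply (rep_relW hrep' L (rels_spec L hL).1) hi
    have h4 : relW (φ zK).1 uP L = 1 := h2.symm
    rw [h4] at h3
    exact h3.symm
  have hf := filter_spec j hj
  unfold filterAt at hf
  rw [withList_eq, Bool.and_eq_true, Bool.or_eq_true] at hf
  have hj42 : j ∈ good42 := by
    rcases hf.2 with hf | hf
    · exact List.contains_iff_mem.mp hf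
    · exfalso
      simp only [withNat_eq, withList_eq, Bool.and_eq_true, blt_iff, Bool.not_eq_true',
        ← Bool.not_eq_true, beq_iff] at hf
      obtain ⟨⟨hr, hi⟩, hne⟩ := hf
      apply hne
      exact hrel _ (by rw [List.getD_eq_getElem _ _ hr]; exact List.getElem_mem hr) _ hi
  unfold goodSet
  rw [Finset.mem_image]
  exact ⟨j, List.mem_toFinset.mpr hj42, clsK_eq hrep'⟩

/-- the group has at most as many automorphisms as elements -/
theorem card_mulAut_K : Nat.card (MulAut ↥K) ≤ Nat.card ↥K := by
  have : Fact (Nat.Prime 7) := ⟨by norm_num⟩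
  exact card_mulAut_le_card 7 70823808000 42 11803968000 card_K' (by norm_num) (by norm_num) card_K'' zK uK nK
    closure_zK_uK orderOf_uK (Vp.subgroupOf K) card_VpK VpK_le 3 nK_conj residues_7 goodSet card_goodSet stab_uK

end Cfsg.Agent.Helper22.Co3K
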