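import Cfsg.Agent.Helper22.Co3Bridge
import Cfsg.Agent.Helper22.Co3K2

/-!
# The stabiliser of a vector of type three as the group of order 495766656000 on 552 points

The stabiliser of the standard vector acts faithfully on a graph on 552 points; the order of the group of the
automorphisms of the graph is at most `2 * 495766656000`, so the image is the group generated by the two
permutations.
-/

set_option autoImplicit false

namespace Cfsg.Agent.Helper22.Co3Iso

open Cfsg Cfsg.Agent.Helper27 Cfsg.Agent.Helper22.Co0Mono Cfsg.Agent.Helper22.Co0Center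
  Cfsg.Agent.Helper22.Summands Cfsg.Agent.Helper22.QuadForm
  Cfsg.Agent.Helper22.GraphRefine Cfsg.Agent.Helper22.Co3Graph Cfsg.Agent.Helper22.Co3Bridge
  Cfsg.Agent.Helper22.Co3K Cfsg.Agent.Helper22.OutTwo Cfsg.Agent.Helper22.Co3Simple

/-! ### The image of the stabiliser of the standard vector -/

theorem card_G3 : Nat.card ↥G3' = 495766656000 := G3_simple.2

/-- the stabiliser of the standard vector and its image -/
noncomputable def rhoEquiv : ↥G3' ≃* ↥rho.range := MonoidHom.ofInjective rho_injective

theorem range_le : rho.range ≤ AutG 552 adjCo3 := by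
  rintro _ ⟨g, rfl⟩
  exact rho_mem g

theorem card_range : Nat.card ↥rho.range = 495766656000 := by
  rw [← card_G3]
  exact (Nat.card_congr rhoEquiv.toEquiv).symm

theorem range_simple : IsSimpleGroup ↥rho.range := by
  haveI := G3_simple.1
  exact rhoEquiv.symm.isSimpleGroup

theorem relIndex_K_AutG : K.relIndex (AutG 552 adjCo3) ≠ 0 ∧ K.relIndex (AutG 552 adjCo3) ≤ 2 := by
  have h1 : Nat.card ↥(K.subgroupOf (AutG 552 adjCo3)) * K.relIndex (AutG 552 adjCo3) =
      Nat.card ↥(AutG 552 adjCo3) := (K.subgroupOf (AutG 552 adjCo3)).card_mul_index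
  rw [Nat.card_congr (Subgroup.subgroupOfEquivOfLe K_le_AutG).toEquiv, card_K] at h1
  have h2 := Co3Graph.card_AutG_le
  have h3 : 0 < Nat.card ↥(AutG 552 adjCo3) := Nat.card_pos
  constructor
  · intro h0
    rw [h0] at h1
    omega
  · by_contra hc
    rw [not_le] at hc
    have : 495766656000 * 3 ≤ 495766656000 * K.relIndex (AutG 552 adjCo3) := Nat.mul_le_mul_left _ hc
    omega

theorem range_le_K : rho.range ≤ K := by
  have h1 := relIndex_K_AutG
  have h2 : K.relIndex rho.range ≤ 2 :=
    (Subgroup.relIndex_le_of_le_right range_le h1.1).trans h1.2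
  have h0 : K.relIndex rho.range ≠ 0 := by
    intro h0
    exact h1.1 (Subgroup.relIndex_eq_zero_of_le_right range_le h0)
  haveI := range_simple
  have hn : (K.subgroupOf rho.range).Normal := by
    have hidx : (K.subgroupOf rho.range).index = K.relIndex rho.range := rfl
    rcases Nat.lt_or_ge (K.relIndex rho.range) 2 with hlt | hge
    · have h1' : (K.subgroupOf rho.range).index = 1 := by omega
      rw [Subgroup.index_eq_one] at h1'
      rw [h1']
      infer_instance
    · exact Subgroup.normal_of_index_eq_two (by omega)
  rcases hn.eq_bot_or_eq_top with hb | ht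
  · exfalso
    have h3 : (K.subgroupOf rho.range).index = Nat.card ↥rho.range := by
      rw [hb, Subgroup.index_bot]
    have h4 : (K.subgroupOf rho.range).index = K.relIndex rho.range := rfl
    rw [card_range] at h3
    omega
  · exact Subgroup.subgroupOf_eq_top.mp ht

theorem range_eq_K : rho.range = K := by
  apply Subgroup.eq_of_le_of_card_ge range_le_K
  rw [card_range, card_K]

/-- the stabiliser of the standard vector is the group on 552 points -/
noncomputable def equivK : ↥G3' ≃* ↥K := rhoEquiv.trans (MulEquiv.subgroupCongr range_eq_K)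

theorem K_simple : IsSimpleGroup ↥K := by
  haveI := G3_simple.1
  exact equivK.symm.isSimpleGroup

theorem center_K : Subgroup.center ↥K = ⊥ := by
  haveI := K_simple
  apply center_eq_bot_of_simple
  rw [card_K]
  norm_num

theorem card_out_K : Nat.card (Cfsg.Out ↥K) = 1 := card_out_eq_one_of_le center_K card_mulAut_K

theorem card_out_G3 : Nat.card (Cfsg.Out ↥G3') = 1 := by
  rw [card_out_congr' equivK]
  exact card_out_K

end Cfsg.Agent.Helper22.Co3Iso
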