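import Cfsg.Agent.Helper22.Co3Iso
import Cfsg.Prelude.Def_Spor_Conway

/-!
# The third Conway group of the definitions is isomorphic to the stabiliser of the standard vector
-/

set_option autoImplicit false

namespace Cfsg.Agent.Helper22.Co3Iso

open Cfsg Cfsg.Agent.Helper27 Cfsg.Agent.Helper22.Co0Mono Cfsg.Agent.Helper22.Co0Center
  Cfsg.Agent.Helper22.Summands Cfsg.Agent.Helper22.QuadForm Cfsg.Agent.Helper22.Norm6Trans
  Cfsg.Agent.Helper22.Co3Bridge Cfsg.Agent.Helper22.OutTwo Cfsg.Agent.Helper22.Co3Simple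

theorem sqNorm_V : sqNorm (Spor.leechV : GolayPt → ℤ) = 48 := by
  show sqNorm Spor.vecV = 48
  decide +kernel

theorem mem_Co3 (σ : Equiv.Perm ↥leechLattice) :
    σ ∈ Spor.Co3 ↔ σ ∈ Co0 ∧ σ Spor.leechV = Spor.leechV := by
  unfold Spor.Co3
  rw [Subgroup.mem_inf, MulAction.mem_stabilizer_iff, Equiv.Perm.smul_def]

theorem exists_g0 : ∃ g : ↥Co0, g • Spor.leechV = D0 := by
  obtain ⟨g, hg⟩ := norm6_to_d0 Spor.leechV sqNorm_V
  exact ⟨g, Subtype.ext hg⟩

/-- the third Conway group is isomorphic to the stabiliser of the standard vector -/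
theorem nonempty_equiv : Nonempty (↥Spor.Co3 ≃* ↥G3') := by
  obtain ⟨g0, hV⟩ := exists_g0
  have hV' : g0⁻¹ • D0 = Spor.leechV := by rw [inv_smul_eq_iff, hV]
  let toC : ↥Spor.Co3 → ↥Co0 := fun σ => ⟨σ.1, ((mem_Co3 σ.1).mp σ.2).1⟩
  have toC_V : ∀ σ, toC σ • Spor.leechV = Spor.leechV := fun σ => ((mem_Co3 σ.1).mp σ.2).2
  have hmem : ∀ σ, g0 * toC σ * g0⁻¹ ∈ G3' := by
    intro σ
    rw [mem_G3, mul_smul, mul_smul, hV', toC_V, hV]
  let f : ↥Spor.Co3 →* ↥G3' :=
    { toFun := fun σ => ⟨g0 * toC σ * g0⁻¹, hmem σ⟩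
      map_one' := by
        apply Subtype.ext
        show g0 * toC 1 * g0⁻¹ = 1
        have : toC 1 = 1 := rfl
        rw [this]
        group
      map_mul' := by
        intro σ τ
        apply Subtype.ext
        show g0 * toC (σ * τ) * g0⁻¹ = (g0 * toC σ * g0⁻¹) * (g0 * toC τ * g0⁻¹)
        have : toC (σ * τ) = toC σ * toC τ := rfl
        rw [this]
        group }
  have hinj : Function.Injective f := by
    intro σ τ h
    have h1 : g0 * toC σ * g0⁻¹ = g0 * toC τ * g0⁻¹ := congrArg Subtype.val h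
    have h2 : toC σ = toC τ := mul_left_cancel (mul_right_cancel h1)
    have h3 : (toC σ).1 = (toC τ).1 := congrArg Subtype.val h2
    exact Subtype.ext h3
  have hsurj : Function.Surjective f := by
    intro k
    have hk : k.1 • D0 = D0 := (mem_G3 D0 k.1).mp k.2
    set s : ↥Co0 := g0⁻¹ * k.1 * g0 with hs
    have sV : s • Spor.leechV = Spor.leechV := by
      rw [hs, mul_smul, mul_smul, hV, hk, hV']
    have hsmem : s.1 ∈ Spor.Co3 := (mem_Co3 s.1).mpr ⟨s.2, sV⟩
    refine ⟨⟨s.1, hsmem⟩, ?_⟩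
    apply Subtype.ext
    show g0 * toC ⟨s.1, hsmem⟩ * g0⁻¹ = k.1
    have : toC ⟨s.1, hsmem⟩ = s := rfl
    rw [this, hs]
    group
  exact ⟨MulEquiv.ofBijective f ⟨hinj, hsurj⟩⟩

/-- all the automorphisms of the third Conway group are inner -/
theorem card_out_Co3 : Nat.card (Cfsg.Out ↥Spor.Co3) = 1 := by
  obtain ⟨e⟩ := nonempty_equiv
  rw [card_out_congr' e]
  exact card_out_G3

end Cfsg.Agent.Helper22.Co3Iso
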