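import Cfsg.Agent.Helper22.Co3KData1
import Cfsg.Agent.Helper22.Co3Graph
import Cfsg.Agent.Helper22.PermPack4

/-!
# Kernel facts about the group of order 495766656000 on 552 points: the stabiliser chain
-/

set_option autoImplicit false

namespace Cfsg.Agent.Helper22.Co3K

open Cfsg.Agent.Helper22.PermPack Cfsg.Agent.Helper22.Co3KData Cfsg.Agent.Helper22.Co3Graph

theorem chainD_okK : chainOKD 552 10 detSet gens levels = true := by decide +kernel

end Cfsg.Agent.Helper22.Co3K
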