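import Cfsg.Agent.Helper22.Co3KData3
import Cfsg.Agent.Helper22.Co3Graph
import Cfsg.Agent.Helper22.PermPack4

/-!
# Kernel facts about the group of order 495766656000 on 552 points: the chains of the centraliser of the involution and of a subgroup of order 1024
-/

set_option autoImplicit false
set_option Elab.async false

namespace Cfsg.Agent.Helper22.Co3K

open Cfsg.Agent.Helper22.PermPack Cfsg.Agent.Helper22.Co3KData Cfsg.Agent.Helper22.Co3Graph

theorem cchainD_okK : chainOKD 552 10 detSet cY clevels = true := by decide +kernel

theorem schainD_okK : chainOKD 552 10 detSet sY slevels = true := by decide +kernel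

end Cfsg.Agent.Helper22.Co3K
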