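import Cfsg.Agent.Helper22.Co3KChk
import Cfsg.Agent.Helper22.Co3KChkA
import Cfsg.Agent.Helper22.Co3KChkB
import Cfsg.Agent.Helper22.OutOne

/-!
# The group of order 495766656000 on 552 points: generalities

The group `K` generated by an involution `z` and an element `u` of order seven, inside the group of the
automorphisms of a graph on 552 points in which only the identity fixes six given points.
-/

set_option autoImplicit false
set_option maxRecDepth 8000

namespace Cfsg.Agent.Helper22.Co3K

open Cfsg Cfsg.Agent.Helper22.PermPack Cfsg.Agent.Helper22.Co3KData Cfsg.Agent.Helper22.GraphRefine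
  Cfsg.Agent.Helper22.Co3Graph Cfsg.Agent.Helper22.OutTwo Cfsg.Agent.Helper14.J3Out

/-! ### Generalities on tables -/

theorem eq_of_rep {n : ℕ} {f f' : ℕ → ℕ} {g g' : Pm n} (h : Rep f g) (h' : Rep f' g')
    (hff : ∀ i < n, f i = f' i) : g = g' :=
  rep_unique h (rep_congr h' hff)

theorem eq_one_of_rep {n : ℕ} {f : ℕ → ℕ} {g : Pm n} (h : Rep f g) (hf : ∀ i < n, f i = i) : g = 1 :=
  eq_of_rep h rep_one hf

theorem rep_apply {n : ℕ} {f : ℕ → ℕ} {g : Pm n} (h : Rep f g) {i : ℕ} (hi : i < n) : (g ⟨i, hi⟩).1 = f i :=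
  h ⟨i, hi⟩

/-! ### The group -/

theorem zu_good : ∀ y ∈ zu, Good 552 10 y :=
  fun y hy => good_of_goodB (List.all_eq_true.mp zu_goodK y hy)

theorem gens_good : ∀ y ∈ gens, Good 552 10 y :=
  fun y hy => good_of_goodB (List.all_eq_true.mp gens_goodK y hy)

/-- the group -/
noncomputable def K : Subgroup (Pm 552) := Grp 552 10 zu

theorem gens_sub : ∀ y ∈ gens, y ∈ zu ∨ ∃ e ∈ slp, e.1 = y := by
  intro y hy
  have := List.all_eq_true.mp gens_subK y hy
  rw [Bool.or_eq_true, List.contains_iff_mem, List.any_eq_true] at this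
  rcases this with h1 | ⟨e, he, h2⟩
  · exact Or.inl h1
  · exact Or.inr ⟨e, he, beq_iff_eq.mp h2⟩

theorem zu_sub : ∀ y ∈ zu, y ∈ gens := by
  intro y hy
  have := List.all_eq_true.mp zu_subK y hy
  rwa [List.contains_iff_mem] at this

theorem K_eq : Grp 552 10 gens = K := Grp_eq_of_slp zu_good slp_okK gens_sub zu_sub

theorem K_le_AutG : K ≤ AutG 552 adjCo3 :=
  Grp_le_AutG_R fun y hy => ⟨zu_good y hy, List.all_eq_true.mp zu_autK y hy⟩

theorem gen_mem {y : ℕ} (hy : y ∈ gens) : P 552 10 y ∈ K := by
  rw [← K_eq]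
  exact P_mem_Grp hy

theorem detSet_lt : ∀ d ∈ detSet, d < 552 :=
  fun d hd => blt_iff.mp (List.all_eq_true.mp detSet_ltK d hd)

/-- the full check of a chain of a subgroup of the group follows from the check at the six points -/
theorem chainOK_of_sub {Y : List ℕ} {ls : List Lv} (hY : ∀ y ∈ Y, Good 552 10 y)
    (hYK : ∀ y ∈ Y, P 552 10 y ∈ K) (h : chainOKD 552 10 detSet Y ls = true) : chainOK 552 10 Y ls = true :=
  chainOK_of_D (AutG 552 adjCo3) Co3Graph.eq_one_of_fix detSet_lt ls Y hY (fun y hy => K_le_AutG (hYK y hy)) h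

theorem chain_okK : chainOK 552 10 gens levels = true :=
  chainOK_of_sub gens_good (fun _ hy => gen_mem hy) chainD_okK

theorem card_K : Nat.card K = 495766656000 := by
  rw [← prod_levels, ← K_eq]
  exact (chain_sound levels gens gens_good chain_okK).1

instance : Finite ↥K := Nat.finite_of_card_ne_zero (by rw [card_K]; norm_num)

theorem path_mem (p : List ℕ) (hp : pathValid levels p = true) : ∃ g ∈ K, Rep (pathLook 552 10 levels p) g := by
  rw [← K_eq]
  exact (chain_sound levels gens gens_good chain_okK).2 p hp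

/-- a table that is the product along a path is the table of this product -/
theorem eq_of_isPath {ls : List Lv} {t : ℕ} {p : List ℕ} (ht : Good 552 10 t) (h : isPath ls t p = true)
    {g : Pm 552} (hg : Rep (pathLook 552 10 ls p) g) : P 552 10 t = g := by
  unfold isPath at h
  rw [Bool.and_eq_true, withNat_eq, withList_eq] at h
  exact eq_of_rep (rep_P ht) hg (fun i hi => beq_iff.mp (allN_spec h.2 i hi))

theorem isPath_valid {ls : List Lv} {t : ℕ} {p : List ℕ} (h : isPath ls t p = true) : pathValid ls p = true := by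
  unfold isPath at h
  rw [Bool.and_eq_true] at h
  exact h.1

theorem mem_of_isPath {t : ℕ} {p : List ℕ} (ht : Good 552 10 t) (h : isPath levels t p = true) :
    P 552 10 t ∈ K := by
  obtain ⟨g, hg, hrep⟩ := path_mem p (isPath_valid h)
  rw [eq_of_isPath ht h hrep]
  exact hg

/-! ### The two generators -/

theorem z_good : Good 552 10 zT := zu_good zT (by simp [zu])

theorem u_good : Good 552 10 uT := zu_good uT (by simp [zu])

/-- the involution -/
noncomputable def zP : Pm 552 := P 552 10 zT

/-- the element of order seven -/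
noncomputable def uP : Pm 552 := P 552 10 uT

theorem zP_mem : zP ∈ K := P_mem_Grp (by simp [zu])

theorem uP_mem : uP ∈ K := P_mem_Grp (by simp [zu])

theorem upows_spec : (∀ i < 552, slot 10 (upow 0) i = i) ∧
    (∀ e < 6, ∀ i < 552, slot 10 (upow (e + 1)) i = slot 10 uT (slot 10 (upow e) i)) ∧
    (∀ i < 552, slot 10 uT (slot 10 (upow 6) i) = i) ∧ slot 10 uT 0 ≠ 0 := by
  have h := upows_okK
  unfold upowsB at h
  simp only [Bool.and_eq_true, withNat_eq] at h
  obtain ⟨⟨⟨h1, h2⟩, h3⟩, h4⟩ := h
  refine ⟨fun i hi => beq_iff.mp (allN_spec h1 i hi),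
    fun e he i hi => beq_iff.mp (allN_spec (allN_spec h2 e he) i hi),
    fun i hi => beq_iff.mp (allN_spec h3 i hi), ?_⟩
  intro h0
  rw [Bool.not_eq_true', ← Bool.not_eq_true, beq_iff] at h4
  exact h4 h0

theorem rep_upow : ∀ e < 7, Rep (slot 10 (upow e)) (uP ^ e) := by
  intro e
  induction e with
  | zero =>
    intro _
    rw [pow_zero]
    exact rep_congr rep_one upows_spec.1
  | succ e ih =>
    intro he
    rw [pow_succ']
    exact rep_congr (rep_mul (rep_P u_good) (ih (by omega))) (upows_spec.2.1 e (by omega))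

theorem uP_pow : uP ^ 7 = 1 := by
  rw [pow_succ']
  exact eq_one_of_rep (rep_mul (rep_P u_good) (rep_upow 6 (by norm_num))) upows_spec.2.2.1

theorem uP_ne : uP ≠ 1 := by
  intro h
  have e := rep_apply (rep_P u_good) (i := 0) (by norm_num)
  rw [show P 552 10 uT = uP from rfl, h] at e
  exact upows_spec.2.2.2 e.symm

/-- the involution, in the group -/
noncomputable def zK : ↥K := ⟨zP, zP_mem⟩

/-- the element of order seven, in the group -/
noncomputable def uK : ↥K := ⟨uP, uP_mem⟩

theorem orderOf_uK : orderOf uK = 7 := by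
  have : Fact (Nat.Prime 7) := ⟨by norm_num⟩
  apply orderOf_eq_prime
  · apply Subtype.ext
    exact uP_pow
  · intro h
    exact uP_ne (congrArg Subtype.val h)

/-! ### The normalising element -/

theorem n_spec : Good 552 10 nT ∧ isPath levels nT nPath = true ∧
    ∀ i < 552, slot 10 nT (slot 10 uT i) = slot 10 (upow 3) (slot 10 nT i) := by
  have h := n_okK
  unfold nB at h
  simp only [Bool.and_eq_true, withNat_eq] at h
  exact ⟨good_of_goodB h.1.1, h.1.2, fun i hi => beq_iff.mp (allN_spec h.2 i hi)⟩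

/-- the normalising element -/
noncomputable def nP : Pm 552 := P 552 10 nT

theorem nP_mem : nP ∈ K := mem_of_isPath n_spec.1 n_spec.2.1

/-- the normalising element, in the group -/
noncomputable def nK : ↥K := ⟨nP, nP_mem⟩

theorem nK_conj : nK * uK * nK⁻¹ = uK ^ 3 := by
  have h : nP * uP = uP ^ 3 * nP :=
    eq_of_rep (rep_mul (rep_P n_spec.1) (rep_P u_good)) (rep_mul (rep_upow 3 (by norm_num)) (rep_P n_spec.1))
      n_spec.2.2
  apply Subtype.ext
  show nP * uP * nP⁻¹ = uP ^ 3
  rw [h]
  group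

theorem closure_zK_uK : Subgroup.closure ({zK, uK} : Set ↥K) = ⊤ := by
  have h := Subgroup.closure_closure_coe_preimage (k := {g : Pm 552 | ∃ y ∈ zu, g = P 552 10 y})
  have e : ((↑) ⁻¹' {g : Pm 552 | ∃ y ∈ zu, g = P 552 10 y} :
      Set (Subgroup.closure {g : Pm 552 | ∃ y ∈ zu, g = P 552 10 y})) = ({zK, uK} : Set ↥K) := by
    ext x
    simp only [Set.mem_preimage, Set.mem_ofPred_eq, zu, List.mem_cons, List.not_mem_nil, or_false,
      exists_eq_or_imp, exists_eq_left, Set.mem_insert_iff, Set.mem_singleton_iff]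
    constructor
    · rintro (h | h)
      · left; exact Subtype.ext h
      · right; exact Subtype.ext h
    · rintro (h | h)
      · left; rw [h]; rfl
      · right; rw [h]; rfl
  rw [e] at h
  exact h

theorem card_K' : Nat.card ↥K = 7 * 70823808000 := by rw [card_K]

theorem card_K'' : Nat.card ↥K = 42 * 11803968000 := by rw [card_K]

theorem residues_7 : ∀ k, 0 < k → k < 7 → ∃ j, k % 7 = 3 ^ j % 7 := by
  intro k h0 h7
  interval_cases k
  · exact ⟨0, rfl⟩
  · exact ⟨2, rfl⟩
  · exact ⟨1, rfl⟩
  · exact ⟨4, rfl⟩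
  · exact ⟨5, rfl⟩
  · exact ⟨3, rfl⟩

/-! ### The centraliser of the element of order seven -/

theorem vY_good : ∀ y ∈ vY, Good 552 10 y :=
  fun y hy => good_of_goodB (List.all_eq_true.mp vY_goodK y hy)

/-- the centraliser of the element of order seven -/
noncomputable def Vp : Subgroup (Pm 552) := Grp 552 10 vY

theorem card_Vp : Nat.card Vp = 42 := by
  rw [← prod_vlevels]
  exact (chain_sound vlevels vY vY_good vchain_okK).1

theorem Vp_le : Vp ≤ K := by
  unfold Vp Grp
  rw [Subgroup.closure_le]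
  rintro g ⟨y, hy, rfl⟩
  obtain ⟨j, hj, rfl⟩ := List.mem_iff_getElem.mp hy
  have h := allN_spec vsub_okK j hj
  rw [List.getD_eq_getElem _ _ hj] at h
  exact mem_of_isPath (vY_good _ hy) h

theorem uP_comm_Vp : ∀ s ∈ Vp, s * uP = uP * s := by
  have hle : Vp ≤ Subgroup.centralizer ({uP} : Set (Pm 552)) := by
    unfold Vp Grp
    rw [Subgroup.closure_le]
    rintro g ⟨y, hy, rfl⟩
    rw [SetLike.mem_coe, Subgroup.mem_centralizer_iff]
    intro x hx
    rw [Set.mem_singleton_iff] at hx
    subst hx
    have h := List.all_eq_true.mp ucommV_okK y hy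
    exact (eq_of_rep (rep_mul (rep_P (vY_good y hy)) (rep_P u_good))
      (rep_mul (rep_P u_good) (rep_P (vY_good y hy))) (fun i hi => beq_iff.mp (allN_spec h i hi))).symm
  intro s hs
  have := Subgroup.mem_centralizer_iff.mp (hle hs) uP (Set.mem_singleton _)
  exact this.symm

theorem card_VpK : Nat.card (Vp.subgroupOf K) = 42 := by
  rw [Nat.card_congr (Subgroup.subgroupOfEquivOfLe Vp_le).toEquiv, card_Vp]

theorem VpK_le : Vp.subgroupOf K ≤ Subgroup.centralizer {uK} := by
  intro s hs
  rw [Subgroup.mem_subgroupOf] at hs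
  rw [Subgroup.mem_centralizer_iff]
  intro x hx
  rw [Set.mem_singleton_iff] at hx
  subst hx
  apply Subtype.ext
  exact (uP_comm_Vp s.1 hs).symm

end Cfsg.Agent.Helper22.Co3K
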