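import Cfsg.Agent.Helper22.Co3KData1
import Cfsg.Agent.Helper22.Co3KData2
import Cfsg.Agent.Helper22.Co3KData3
import Cfsg.Agent.Helper22.Co3KData4
import Cfsg.Agent.Helper22.Co3Graph
import Cfsg.Agent.Helper22.PermPack3
import Cfsg.Agent.Helper22.PermPack4

/-!
# Kernel facts about the group of order 495766656000 on 552 points

The checks run one after the other, to bound the memory.
-/

set_option autoImplicit false
set_option Elab.async false

namespace Cfsg.Agent.Helper22.Co3K

open Cfsg.Agent.Helper22.PermPack Cfsg.Agent.Helper22.Co3KData Cfsg.Agent.Helper22.GraphRefine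
  Cfsg.Agent.Helper22.Co3Graph

/-! ### The group -/

theorem zu_goodK : zu.all (goodB 552 10) = true := by decide +kernel

theorem gens_goodK : gens.all (goodB 552 10) = true := by decide +kernel

theorem prod_levels : (levels.map fun L => L.m).prod = 495766656000 := by decide +kernel

theorem slp_okK : slpOK 552 10 zu slp = true := by decide +kernel

theorem gens_subK : (gens.all fun y => zu.contains y || slp.any fun e => e.1 == y) = true := by decide +kernel

theorem zu_subK : (zu.all fun y => gens.contains y) = true := by decide +kernel

theorem zu_autK : zu.all (autBR 552 10 adjCo3) = true := by decide +kernel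

theorem fwds_okK : fwdsOK 552 10 32 levels fwdC = true := by decide +kernel

theorem invs_okK : invsOK 552 10 32 levels invC = true := by decide +kernel

theorem detSet_ltK : (detSet.all fun d => Nat.blt d 552) = true := by decide +kernel

/-- a table agrees with the product along a path -/
def isPath (ls : List Lv) (t : ℕ) (p : List ℕ) : Bool :=
  pathValid ls p && withNat t fun t' => withList (pathTabs 552 10 ls p) fun ts =>
    allN 552 fun i => Nat.beq (slot 10 t' i) (compLook 10 ts i)

/-! ### The element of order seven -/

/-- the table of a power -/
def upow (e : ℕ) : ℕ := upows.getD e 0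

/-- the check of the powers -/
def upowsB : Bool :=
  (allN 552 fun i => Nat.beq (slot 10 (upow 0) i) i) &&
    (allN 6 fun e => withNat (upow e) fun a => withNat (upow (e + 1)) fun b =>
      allN 552 fun i => Nat.beq (slot 10 b i) (slot 10 uT (slot 10 a i))) &&
    (withNat (upow 6) fun a => allN 552 fun i => Nat.beq (slot 10 uT (slot 10 a i)) i) &&
    !(Nat.beq (slot 10 uT 0) 0)

theorem upows_okK : upowsB = true := by decide +kernel

/-- the check of the normalising element -/
def nB : Bool :=
  goodB 552 10 nT && isPath levels nT nPath &&
    withNat (upow 3) fun u3 => allN 552 fun i => Nat.beq (slot 10 nT (slot 10 uT i)) (slot 10 u3 (slot 10 nT i))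

theorem n_okK : nB = true := by decide +kernel

/-! ### The centraliser of the element of order seven -/

theorem vY_goodK : vY.all (goodB 552 10) = true := by decide +kernel

theorem vchain_okK : chainOK 552 10 vY vlevels = true := by decide +kernel

theorem prod_vlevels : (vlevels.map fun L => L.m).prod = 42 := by decide +kernel

/-- the generators of the centraliser lie in the group -/
def vsubB : Bool := allN vY.length fun j => isPath levels (vY.getD j 0) (vPaths.getD j [])

theorem vsub_okK : vsubB = true := by decide +kernel

/-- the element of order seven commutes with the given tables -/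
def ucommB (Y : List ℕ) : Bool :=
  Y.all fun y => allN 552 fun i => Nat.beq (slot 10 y (slot 10 uT i)) (slot 10 uT (slot 10 y i))

theorem ucommV_okK : ucommB vY = true := by decide +kernel

/-! ### The centraliser of the involution -/

theorem cY_goodK : cY.all (goodB 552 10) = true := by decide +kernel

theorem prod_clevels : (clevels.map fun L => L.m).prod = 2903040 := by decide +kernel

/-- the generators of the centraliser lie in the group -/
def csubB : Bool := allN cY.length fun j => isPath levels (cY.getD j 0) (cPaths.getD j [])

theorem csub_okK : csubB = true := by decide +kernel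

/-- the involution commutes with the given tables -/
def zcommB (Y : List ℕ) : Bool :=
  Y.all fun y => allN 552 fun i => Nat.beq (slot 10 y (slot 10 zT i)) (slot 10 zT (slot 10 y i))

theorem zcommC_okK : zcommB cY = true := by decide +kernel

/-! ### The subgroup of order 1024 -/

theorem sY_goodK : sY.all (goodB 552 10) = true := by decide +kernel

theorem prod_slevels : (slevels.map fun L => L.m).prod = 1024 := by decide +kernel

/-- the generators of the subgroup lie in the group -/
def ssubB : Bool := allN sY.length fun j => isPath levels (sY.getD j 0) (sPaths.getD j [])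

theorem ssub_okK : ssubB = true := by decide +kernel

theorem zS_okK : isPath slevels zT zSPath = true := by decide +kernel

/-- the check of the centre: an element commuting with the generators is the identity or the involution -/
def centreB : Bool :=
  allN 32 fun k0 => allN 32 fun k1 =>
    withList (pathTabs 552 10 slevels [k0, k1]) fun ts =>
      !(sY.all fun y => allN 552 fun i => Nat.beq (slot 10 y (compLook 10 ts i)) (compLook 10 ts (slot 10 y i))) ||
        (allN 552 fun i => Nat.beq (compLook 10 ts i) i) ||
        (allN 552 fun i => Nat.beq (compLook 10 ts i) (slot 10 zT i))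

theorem centre_okK : centreB = true := by decide +kernel

theorem zcommS_okK : zcommB sY = true := by decide +kernel

/-! ### The conjugates of the involution -/

/-- the path of the element conjugating the involution to a conjugate -/
def repPath (j : ℕ) : List ℕ :=
  decodePath 10 6 (slot 60 ((reps.getD (Nat.div j 16384) []).getD (Nat.div (Nat.mod j 16384) 1024) 0)
    (Nat.mod j 1024))

/-- the conjugate of the involution by the product of six tables, given the tables of the inverses -/
def cj6 (a0 a1 a2 a3 a4 a5 b0 b1 b2 b3 b4 b5 i : ℕ) : ℕ :=
  slot 10 a0 (slot 10 a1 (slot 10 a2 (slot 10 a3 (slot 10 a4 (slot 10 a5 (slot 10 zT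
    (slot 10 b5 (slot 10 b4 (slot 10 b3 (slot 10 b2 (slot 10 b1 (slot 10 b0 i))))))))))))

/-- the conjugate of the involution by the product of tables, given the tables of the inverses -/
def conjF (ts is : List ℕ) : ℕ → ℕ :=
  match ts, is with
  | [a0, a1, a2, a3, a4, a5], [b0, b1, b2, b3, b4, b5] => cj6 a0 a1 a2 a3 a4 a5 b0 b1 b2 b3 b4 b5
  | _, _ => fun i => i

theorem conjF_eq : ∀ ts is : List ℕ, ts.length = 6 → is.length = 6 →
    ∀ i, conjF ts is i = conjLook 10 ts is (slot 10 zT) i
  | [a0, a1, a2, a3, a4, a5], [b0, b1, b2, b3, b4, b5], _, _ => fun _ => rfl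
  | [], _, h, _ => by simp at h
  | [_], _, h, _ => by simp at h
  | [_, _], _, h, _ => by simp at h
  | [_, _, _], _, h, _ => by simp at h
  | [_, _, _, _], _, h, _ => by simp at h
  | [_, _, _, _, _], _, h, _ => by simp at h
  | _ :: _ :: _ :: _ :: _ :: _ :: _ :: _, _, h, _ => by simp at h
  | [_, _, _, _, _, _], [], _, h => by simp at h
  | [_, _, _, _, _, _], [_], _, h => by simp at h
  | [_, _, _, _, _, _], [_, _], _, h => by simp at h
  | [_, _, _, _, _, _], [_, _, _], _, h => by simp at h
  | [_, _, _, _, _, _], [_, _, _, _], _, h => by simp at h
  | [_, _, _, _, _, _], [_, _, _, _, _], _, h => by simp at h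
  | [_, _, _, _, _, _], _ :: _ :: _ :: _ :: _ :: _ :: _ :: _, _, h => by simp at h

/-- the images of the six points of the determining set under a function -/
def keyOf (f : ℕ → ℕ) : ℕ :=
  Nat.add (f 275) (Nat.add (Nat.shiftLeft (f 0) 10) (Nat.add (Nat.shiftLeft (f 273) 20)
    (Nat.add (Nat.shiftLeft (f 272) 30) (Nat.add (Nat.shiftLeft (f 274) 40) (Nat.shiftLeft (f 267) 50)))))

/-- the key of a conjugate -/
@[irreducible] def key (j : ℕ) : ℕ :=
  keyOf (conjF (pathTabsC 552 10 32 fwdC (repPath j)) (pathTabsC 552 10 32 invC (repPath j)))

/-- evaluate the key of a conjugate before passing it on -/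
def keyB (j : ℕ) (k : ℕ → Bool) : Bool :=
  withList (repPath j) fun p => withList (pathTabsC 552 10 32 fwdC p) fun ts =>
    withList (pathTabsC 552 10 32 invC p) fun is => withNat (keyOf (conjF ts is)) k

theorem keyB_eq (j : ℕ) (k : ℕ → Bool) : keyB j k = k (key j) := by
  unfold keyB key
  rw [withList_eq, withList_eq, withList_eq, withNat_eq]

/-- the keys of the conjugates of a range decrease from a bound -/
def keysDown (lo n : ℕ) : ℕ → Bool :=
  Nat.rec (fun _ => true) (fun i acc bound => keyB (Nat.add lo i) fun kj => Nat.blt kj bound && acc kj) n

theorem keysDown_succ (lo n bound : ℕ) :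
    keysDown lo (n + 1) bound = keyB (Nat.add lo n) fun kj => Nat.blt kj bound && keysDown lo n kj := rfl

/-- the keys of the conjugates of a range increase, up to the key of the next conjugate -/
def keysR (lo n : ℕ) : Bool := keyB (Nat.add lo n) fun b => keysDown lo n b

theorem keysDown_spec' (κ : ℕ → ℕ) (F : ℕ → ℕ → Bool)
    (hF : ∀ n b, F (n + 1) b = (Nat.blt (κ n) b && F n (κ n))) : ∀ n b : ℕ, F n b = true →
    ∀ i < n, κ i < if i + 1 < n then κ (i + 1) else b := by
  intro n
  induction n with
  | zero => intro b _ i hi; omega
  | succ n ih =>
    intro b h i hi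
    rw [hF, Bool.and_eq_true, blt_iff] at h
    rcases Nat.lt_succ_iff_lt_or_eq.mp hi with h' | h'
    · have := ih _ h.2 i h'
      rw [if_pos (by omega : i + 1 < n + 1)]
      by_cases h'' : i + 1 < n
      · rwa [if_pos h''] at this
      · rw [if_neg h''] at this
        have e : i + 1 = n := by omega
        rw [e]
        exact this
    · rw [if_neg (by omega : ¬ i + 1 < n + 1), h']
      exact h.1

theorem keysR_spec' (κ : ℕ → ℕ) (F : ℕ → ℕ → Bool)
    (hF : ∀ n b, F (n + 1) b = (Nat.blt (κ n) b && F n (κ n))) (n : ℕ) (h : F n (κ n) = true)
    (i : ℕ) (hi : i < n) : κ i < κ (i + 1) := by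
  have := keysDown_spec' κ F hF n _ h i hi
  by_cases h'' : i + 1 < n
  · rwa [if_pos h''] at this
  · rw [if_neg h''] at this
    have e : i + 1 = n := by omega
    rw [e]
    exact this

theorem keysR_spec {lo n : ℕ} (h : keysR lo n = true) (i : ℕ) (hi : i < n) :
    key (Nat.add lo i) < key (Nat.add lo (i + 1)) := by
  unfold keysR at h
  rw [keyB_eq] at h
  exact keysR_spec' (fun i => key (Nat.add lo i)) (keysDown lo)
    (fun n b => by rw [keysDown_succ, keyB_eq]) n h i hi

/-- the value of a word in a function and the powers of the element of order seven -/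
def relLookF (d : ℕ → ℕ) : List ℕ → ℕ → ℕ
  | [], i => i
  | e :: L, i => d (slot 10 (upow e) (relLookF d L i))

/-- the relations hold for the involution -/
def relsB : Bool :=
  rels.all fun L => (L.all fun e => Nat.blt e 7) && allN 552 fun i => Nat.beq (relLookF (slot 10 zT) L i) i

theorem rels_okK : relsB = true := by decide +kernel

/-- for a conjugate a relation and a point where it fails -/
def wit (j : ℕ) : ℕ :=
  slot 13 ((wits.getD (Nat.div j 16384) []).getD (Nat.div (Nat.mod j 16384) 1024) 0) (Nat.mod j 1024)

/-- the path of a conjugate is valid, and the conjugate is one of the forty-two or violates a relation -/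
def filterAt (j : ℕ) : Bool :=
  withList (repPath j) fun p => pathValid levels p &&
    (good42.contains j ||
      withList (pathTabsC 552 10 32 fwdC p) fun ts => withList (pathTabsC 552 10 32 invC p) fun is =>
        withNat (wit j) fun e =>
          withList (rels.getD (Nat.mod e 8) []) fun L => withNat (Nat.div e 8) fun i =>
            Nat.blt (Nat.mod e 8) rels.length && Nat.blt i 552 &&
              !(Nat.beq (relLookF (conjF ts is) L i) i))

/-- the conjugates in a range have valid paths, and the others violate a relation -/
def filterR (lo n : ℕ) : Bool := allN n fun i => filterAt (Nat.add lo i)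

end Cfsg.Agent.Helper22.Co3K
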