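import Cfsg.Agent.Helper22.Co3KChk

/-!
# Kernel facts about the group of order 495766656000 on 552 points: the keys of the conjugates of the involution

Generated by a script.  The checks run one after the other, to bound the memory.
-/

set_option autoImplicit false
set_option Elab.async false

namespace Cfsg.Agent.Helper22.Co3K

theorem keys_okK0 : keysR (0 * 4000) (min 4000 (170774 - 0 * 4000)) = true := by decide +kernel

theorem keys_okK1 : keysR (1 * 4000) (min 4000 (170774 - 1 * 4000)) = true := by decide +kernel

theorem keys_okK2 : keysR (2 * 4000) (min 4000 (170774 - 2 * 4000)) = true := by decide +kernel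

theorem keys_okK3 : keysR (3 * 4000) (min 4000 (170774 - 3 * 4000)) = true := by decide +kernel

theorem keys_okK4 : keysR (4 * 4000) (min 4000 (170774 - 4 * 4000)) = true := by decide +kernel

theorem keys_okK5 : keysR (5 * 4000) (min 4000 (170774 - 5 * 4000)) = true := by decide +kernel

theorem keys_okK6 : keysR (6 * 4000) (min 4000 (170774 - 6 * 4000)) = true := by decide +kernel

theorem keys_okK7 : keysR (7 * 4000) (min 4000 (170774 - 7 * 4000)) = true := by decide +kernel

theorem keys_okK8 : keysR (8 * 4000) (min 4000 (170774 - 8 * 4000)) = true := by decide +kernel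

theorem keys_okK9 : keysR (9 * 4000) (min 4000 (170774 - 9 * 4000)) = true := by decide +kernel

theorem keys_okK10 : keysR (10 * 4000) (min 4000 (170774 - 10 * 4000)) = true := by decide +kernel

end Cfsg.Agent.Helper22.Co3K
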