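import Cfsg.Agent.Helper22.CountD0
import Cfsg.Agent.Helper22.Co2Trans3

/-!
# The minimal vectors of inner product `-16` with a vector of sum of squares 48
-/

set_option autoImplicit false

namespace Cfsg.Agent.Helper22.Co3Orbit

open Cfsg Cfsg.Agent.Helper27 Cfsg.Agent.Helper22.Co0Mono Cfsg.Agent.Helper22.Co0Center
  Cfsg.Agent.Helper22.MinTrans Cfsg.Agent.Helper22.Norm6Trans Cfsg.Agent.Helper22.Summands
  Cfsg.Agent.Helper22.Co2Trans3 Cfsg.Agent.Helper22.CountD0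

theorem dot_comm' (a b : GolayPt → ℤ) : dotInt a b = dotInt b a := by
  simp only [dotInt]
  apply Finset.sum_congr rfl
  intro i _
  ring

/-- the minimal vectors of inner product `-16` with `u` -/
def W (u : ↥leechLattice) : Set ↥leechLattice :=
  {x | sqNorm (x : GolayPt → ℤ) = 32 ∧ dotInt (u : GolayPt → ℤ) (x : GolayPt → ℤ) = -16}

theorem smul_mem_W (g : ↥Co0) {u x : ↥leechLattice} (hx : x ∈ W u) : g • x ∈ W (g • u) :=
  ⟨by rw [co0_norm, hx.1], by rw [co0_dot, hx.2]⟩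

theorem ncard_W_smul (g : ↥Co0) (u : ↥leechLattice) : (W (g • u)).ncard = (W u).ncard := by
  have himg : (fun v : ↥leechLattice => g • v) '' W u = W (g • u) := by
    ext w
    constructor
    · rintro ⟨v, hv, rfl⟩
      exact smul_mem_W g hv
    · intro hw
      refine ⟨g⁻¹ • w, ?_, smul_inv_smul g w⟩
      have := smul_mem_W g⁻¹ hw
      rwa [inv_smul_smul] at this
  rw [← himg]
  exact Set.ncard_image_of_injective _ (MulAction.injective g)

theorem ncard_W_D0 : (W D0).ncard = 11178 := by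
  rw [← ncard_dot16, ← Set.ncard_image_of_injective _ Subtype.val_injective]
  congr 1
  ext x
  constructor
  · rintro ⟨v, ⟨h1, h2⟩, rfl⟩
    exact ⟨v.2, h1, h2⟩
  · rintro ⟨hx, h1, h2⟩
    exact ⟨⟨x, hx⟩, ⟨h1, h2⟩, rfl⟩

theorem ncard_W (u : ↥leechLattice) (hu : sqNorm (u : GolayPt → ℤ) = 48) : (W u).ncard = 11178 := by
  obtain ⟨g, hg⟩ := norm6_to_d0 u hu
  have : g • u = D0 := Subtype.ext hg
  rw [← ncard_W_smul g u, this, ncard_W_D0]

theorem W_transitive (u : ↥leechLattice) (hu : sqNorm (u : GolayPt → ℤ) = 48) {x x' : ↥leechLattice}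
    (hx : x ∈ W u) (hx' : x' ∈ W u) : ∃ g : ↥Co0, g • u = u ∧ g • x = x' := by
  obtain ⟨g1, hg1⟩ := min_transitive x x' hx.1 hx'.1
  have h1 : dotInt (x' : GolayPt → ℤ) ((g1 • u : ↥leechLattice) : GolayPt → ℤ) = -16 := by
    rw [← hg1, co0_dot, dot_comm', hx.2]
  have h2 : dotInt (x' : GolayPt → ℤ) (u : GolayPt → ℤ) = -16 := by
    rw [dot_comm', hx'.2]
  obtain ⟨g2, hg2x, hg2u⟩ := ip16_transitive48 x' (g1 • u) u hx'.1 (by rw [co0_norm, hu]) hu h1 h2
  refine ⟨g2 * g1, ?_, ?_⟩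
  · rw [mul_smul, hg2u]
  · rw [mul_smul, hg1, hg2x]

end Cfsg.Agent.Helper22.Co3Orbit
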