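import Cfsg.Agent.Helper27.M24Trans
import Cfsg.Agent.Helper27.GolaySteiner

/-!
# Small sets of points under `M24`

* `card_filter_inter`: the number of `k`-subsets meeting a fixed set in exactly `j` points.
* `exists_M24_map_list`: `M24` maps any list of at most five distinct points to any other.
* `exists_M24_venn`: `M24` is transitive on pairs `(s, x)` with `|s ∪ x| ≤ 5` and prescribed
  `|s|`, `|x|`, `|s ∩ x|`.
* `exists_octad_superset`: any set of at most five points lies in an octad.
-/

set_option autoImplicit false

namespace Cfsg.Agent.Helper22.KSets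

open Cfsg Cfsg.Agent.Helper27
open scoped Pointwise

/-- number of `k`-subsets meeting a fixed set in exactly `j` points -/
theorem card_filter_inter {α : Type*} [Fintype α] [DecidableEq α] (s : Finset α) (k j : ℕ) (hj : j ≤ k) :
    ((Finset.univ.powersetCard k).filter (fun x => (s ∩ x).card = j)).card =
      s.card.choose j * (Fintype.card α - s.card).choose (k - j) := by
  rw [← Finset.card_compl, ← Finset.card_powersetCard, ← Finset.card_powersetCard, ← Finset.card_product]
  apply Finset.card_nbij' (fun x => (s ∩ x, x \ s)) (fun p => p.1 ∪ p.2)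
  · intro x hx
    simp only [Finset.mem_coe, Finset.mem_filter, Finset.mem_powersetCard, Finset.subset_univ, true_and] at hx
    simp only [Finset.mem_coe, Finset.mem_product, Finset.mem_powersetCard]
    refine ⟨⟨Finset.inter_subset_left, hx.2⟩, ?_, ?_⟩
    · intro a ha
      rw [Finset.mem_sdiff] at ha
      rw [Finset.mem_compl]
      exact ha.2
    · rw [Finset.card_sdiff, hx.1, hx.2]
  · rintro ⟨u, v⟩ hp
    simp only [Finset.mem_coe, Finset.mem_product, Finset.mem_powersetCard] at hp
    obtain ⟨⟨hu, huc⟩, hv, hvc⟩ := hp
    have hdisj : Disjoint u v := by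
      rw [Finset.disjoint_left]
      intro a hau hav
      have := hv hav
      rw [Finset.mem_compl] at this
      exact this (hu hau)
    have hsu : s ∩ (u ∪ v) = u := by
      ext a
      simp only [Finset.mem_inter, Finset.mem_union]
      constructor
      · rintro ⟨has, hau | hav⟩
        · exact hau
        · have := hv hav
          rw [Finset.mem_compl] at this
          exact absurd has this
      · intro hau
        exact ⟨hu hau, Or.inl hau⟩
    simp only [Finset.mem_coe, Finset.mem_filter, Finset.mem_powersetCard, Finset.subset_univ, true_and]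
    refine ⟨?_, ?_⟩
    · rw [Finset.card_union_of_disjoint hdisj, huc, hvc]
      omega
    · rw [hsu, huc]
  · intro x _
    beta_reduce
    ext a
    simp only [Finset.mem_union, Finset.mem_inter, Finset.mem_sdiff]
    tauto
  · rintro ⟨u, v⟩ hp
    simp only [Finset.mem_coe, Finset.mem_product, Finset.mem_powersetCard] at hp
    obtain ⟨⟨hu, huc⟩, hv, hvc⟩ := hp
    beta_reduce
    have hv' : ∀ a ∈ v, a ∉ s := fun a ha => by
      have := hv ha
      rwa [Finset.mem_compl] at this
    refine Prod.ext ?_ ?_
    · ext a
      simp only [Finset.mem_inter, Finset.mem_union]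
      constructor
      · rintro ⟨has, hau | hav⟩
        · exact hau
        · exact absurd has (hv' a hav)
      · intro hau
        exact ⟨hu hau, Or.inl hau⟩
    · ext a
      simp only [Finset.mem_sdiff, Finset.mem_union]
      constructor
      · rintro ⟨hau | hav, has⟩
        · exact absurd (hu hau) has
        · exact hav
      · intro hav
        exact ⟨Or.inr hav, hv' a hav⟩

/-- `ncard` version of `card_filter_inter` -/
theorem ncard_inter_card {α : Type*} [Fintype α] [DecidableEq α] (s : Finset α) (k j : ℕ) (hj : j ≤ k) :
    {x : Finset α | x.card = k ∧ (s ∩ x).card = j}.ncard =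
      s.card.choose j * (Fintype.card α - s.card).choose (k - j) := by
  rw [← card_filter_inter s k j hj, ← Set.ncard_coe_finset]
  congr 1
  ext x
  simp

theorem smul_eq_image (g : Equiv.Perm GolayPt) (A : Finset GolayPt) : g • A = A.image g := rfl

/-- `M24` maps any list of at most five distinct points to any other such list -/
theorem exists_M24_map_list (L L' : List GolayPt) (hL : L.Nodup) (hL' : L'.Nodup)
    (hlen : L.length = L'.length) (h5 : L.length ≤ 5) : ∃ g ∈ M24, L.map g = L' := by
  have := M24_isMultiplyPretransitive_of_le h5
  have hinj : Function.Injective (fun i : Fin L.length => L.get i) := List.nodup_iff_injective_get.mp hL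
  have hinj' : Function.Injective (fun i : Fin L.length => L'.get (i.cast hlen)) := by
    intro i j hij
    have := List.nodup_iff_injective_get.mp hL' hij
    exact Fin.cast_injective hlen this
  obtain ⟨g, hg⟩ := MulAction.exists_smul_eq (↥M24) (⟨_, hinj⟩ : Fin L.length ↪ GolayPt) ⟨_, hinj'⟩
  refine ⟨g.1, g.2, ?_⟩
  apply List.ext_get
  · rw [List.length_map, hlen]
  · intro n h1 h2
    rw [List.length_map] at h1
    have := congrArg (fun e : Fin L.length ↪ GolayPt => e ⟨n, h1⟩) hg
    simp only [List.get_eq_getElem, List.getElem_map]
    exact this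

theorem toList_map_toFinset (g : Equiv.Perm GolayPt) (A : Finset GolayPt) :
    (A.toList.map g).toFinset = g • A := by
  ext a
  rw [smul_eq_image, List.mem_toFinset, List.mem_map, Finset.mem_image]
  simp only [Finset.mem_toList]

/-- `M24` is transitive on pairs of sets with at most five points in all, with given Venn diagram -/
theorem exists_M24_venn (s x y : Finset GolayPt) (hxy : x.card = y.card)
    (hint : (s ∩ x).card = (s ∩ y).card) (h5 : (s ∪ x).card ≤ 5) :
    ∃ g ∈ M24, g • s = s ∧ g • x = y := by
  have hs : ∀ z : Finset GolayPt, s ∩ z ∪ s \ z = s := by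
    intro z; ext a; simp only [Finset.mem_union, Finset.mem_inter, Finset.mem_sdiff]; tauto
  have hz : ∀ z : Finset GolayPt, s ∩ z ∪ z \ s = z := by
    intro z; ext a; simp only [Finset.mem_union, Finset.mem_inter, Finset.mem_sdiff]; tauto
  have hd1 : ∀ z : Finset GolayPt, Disjoint (s ∩ z) (s \ z) := by
    intro z; rw [Finset.disjoint_left]; intro a h1 h2
    rw [Finset.mem_inter] at h1; rw [Finset.mem_sdiff] at h2; exact h2.2 h1.2
  have hd2 : ∀ z : Finset GolayPt, Disjoint (s ∩ z ∪ s \ z) (z \ s) := by
    intro z; rw [hs, Finset.disjoint_left]; intro a h1 h2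
    rw [Finset.mem_sdiff] at h2; exact h2.2 h1
  have hc1 : ∀ z : Finset GolayPt, (s \ z).card = s.card - (s ∩ z).card := by
    intro z; rw [Finset.card_sdiff, Finset.inter_comm]
  have hc2 : ∀ z : Finset GolayPt, (z \ s).card = z.card - (s ∩ z).card := by
    intro z; rw [Finset.card_sdiff]
  have hun : ∀ z : Finset GolayPt, (s ∪ z).card = (s ∩ z).card + (s \ z).card + (z \ s).card := by
    intro z
    rw [← Finset.card_union_of_disjoint (hd1 z), ← Finset.card_union_of_disjoint (hd2 z), hs]
    congr 1
    ext a; simp only [Finset.mem_union, Finset.mem_sdiff]; tauto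
  have hnd : ∀ z : Finset GolayPt, ((s ∩ z).toList ++ (s \ z).toList ++ (z \ s).toList).Nodup := by
    intro z
    refine List.Nodup.append (List.Nodup.append (Finset.nodup_toList _) (Finset.nodup_toList _) ?_)
      (Finset.nodup_toList _) ?_
    · intro a h1 h2
      rw [Finset.mem_toList] at h1 h2
      exact Finset.disjoint_left.mp (hd1 z) h1 h2
    · intro a h1 h2
      rw [List.mem_append, Finset.mem_toList, Finset.mem_toList] at h1
      rw [Finset.mem_toList] at h2
      exact Finset.disjoint_left.mp (hd2 z) (Finset.mem_union.mpr h1) h2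
  have hlen : ∀ z : Finset GolayPt, ((s ∩ z).toList ++ (s \ z).toList ++ (z \ s).toList).length = (s ∪ z).card := by
    intro z
    rw [List.length_append, List.length_append, Finset.length_toList, Finset.length_toList,
      Finset.length_toList, hun]
  obtain ⟨g, hg, hmap⟩ := exists_M24_map_list _ _ (hnd x) (hnd y)
    (by rw [hlen, hlen, hun, hun, hc1, hc1, hc2, hc2, hint, hxy]) (by rw [hlen]; exact h5)
  rw [List.map_append, List.map_append] at hmap
  have h12 := List.append_inj hmap (by
    rw [List.length_append, List.length_append, List.length_map, List.length_map, Finset.length_toList,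
      Finset.length_toList, Finset.length_toList, Finset.length_toList, hc1, hc1, hint])
  have h1 := List.append_inj h12.1 (by
    rw [List.length_map, Finset.length_toList, Finset.length_toList, hint])
  have hA : g • (s ∩ x) = s ∩ y := by
    rw [← toList_map_toFinset, h1.1, Finset.toList_toFinset]
  have hB : g • (s \ x) = s \ y := by
    rw [← toList_map_toFinset, h1.2, Finset.toList_toFinset]
  have hC : g • (x \ s) = y \ s := by
    rw [← toList_map_toFinset, h12.2, Finset.toList_toFinset]
  refine ⟨g, hg, ?_, ?_⟩
  · conv_lhs => rw [← hs x]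
    rw [Finset.smul_finset_union, hA, hB, hs]
  · conv_lhs => rw [← hz x]
    rw [Finset.smul_finset_union, hA, hC, hz]

/-- every set of at most five points lies in an octad -/
theorem exists_octad_superset (s : Finset GolayPt) (hs : s.card ≤ 5) : ∃ o ∈ octads, s ⊆ o := by
  obtain ⟨t, hst, ht⟩ := Finset.exists_superset_card_eq hs (by
    rw [show Fintype.card GolayPt = 24 from by decide]; norm_num)
  obtain ⟨o, ⟨ho, hto⟩, -⟩ := octads_steiner.2 t ht
  exact ⟨o, ho, hst.trans hto⟩

end Cfsg.Agent.Helper22.KSets
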