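import Cfsg.Agent.Helper22.Flag

/-!
The stabiliser of the points `0`, `1`, `2` is transitive on the octads through the point `0` with a prescribed
behaviour at the points `1` and `2`.
-/

set_option autoImplicit false

namespace Cfsg.Agent.Helper22.OctM21

open Cfsg Cfsg.Agent.Helper27 Cfsg.Agent.Helper22.OrbitDod Cfsg.Agent.Helper22.Flag
open scoped Pointwise

theorem hfix : ∀ f ∈ [0, 1, 2], f < 24 := by decide

/-! ### The family `111` -/

/-- masks of the family -/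
def fam111 (n : ℕ) : Bool := n.testBit 0 && n.testBit 1 && n.testBit 2

/-- octad masks of the family -/
def famP111 (n : ℕ) : Bool := (popc 24 n == 8) && fam111 n

/-- descent elements for the family -/
def gens111 : List (List ℕ) := [
  [0,1,2,21,20,6,10,3,15,8,13,22,18,16,23,17,11,19,14,4,9,12,5,7],
  [0,1,2,11,7,9,19,16,23,13,20,14,5,4,6,18,12,22,17,8,21,15,10,3],
  [0,1,2,5,6,9,7,12,23,11,15,16,13,8,19,17,14,18,22,3,21,10,20,4]]

theorem desc111 : descOKH (certF 0 [0, 1, 2]) gens111 famP111 5279 = true := by decide +kernel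

theorem cnt111 : countBelow (fun k => (popc 24 (cw k) == 8) && fam111 (cw k)) 4096 = 21 := by decide +kernel

theorem fam111_iff (n : ℕ) : (pt 0 ∈ maskSet n ∧ pt 1 ∈ maskSet n ∧ pt 2 ∈ maskSet n) ↔ fam111 n = true := by
  rw [pt_mem_maskSet (by norm_num), pt_mem_maskSet (by norm_num), pt_mem_maskSet (by norm_num)]
  simp [fam111, and_assoc]

theorem count111 : {x : Finset GolayPt | x ∈ octads ∧ pt 0 ∈ x ∧ pt 1 ∈ x ∧ pt 2 ∈ x}.ncard = 21 := by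
  rw [← cnt111, ← ncard_std 8 (fun b => pt 0 ∈ b ∧ pt 1 ∈ b ∧ pt 2 ∈ b) fam111 fam111_iff]
  rfl

theorem trans111 {o o' : Finset GolayPt} (ho : o ∈ octads ∧ pt 0 ∈ o ∧ pt 1 ∈ o ∧ pt 2 ∈ o)
    (ho' : o' ∈ octads ∧ pt 0 ∈ o' ∧ pt 1 ∈ o' ∧ pt 2 ∈ o') :
    ∃ g : Equiv.Perm GolayPt, g ∈ M24 ∧ g (pt 0) = pt 0 ∧ g (pt 1) = pt 1 ∧ g (pt 2) = pt 2 ∧ g • o = o' := by
  obtain ⟨m, hm, hpop, e⟩ := exists_mask_of_mem_wordsOfWeight ho.1
  obtain ⟨m', hm', hpop', e'⟩ := exists_mask_of_mem_wordsOfWeight ho'.1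
  have hf : fam111 m = true := by
    rw [← fam111_iff, ← e]
    exact ho.2
  have hf' : fam111 m' = true := by
    rw [← fam111_iff, ← e']
    exact ho'.2
  obtain ⟨k, hk, hkm⟩ := same_orbit_of_desc (certSoundF 0 hfix) desc111 hm (by simp [famP111, hpop, hf]) hm'
    (by simp [famP111, hpop', hf'])
  obtain ⟨hkM, _, hkf⟩ := (mem_flagH hfix k).mp hk
  refine ⟨k, hkM, hkf 0 (by simp), hkf 1 (by simp), hkf 2 (by simp), ?_⟩
  rw [e, e', hkm]

/-! ### The family `110` -/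

/-- masks of the family -/
def fam110 (n : ℕ) : Bool := n.testBit 0 && n.testBit 1 && !(n.testBit 2)

/-- octad masks of the family -/
def famP110 (n : ℕ) : Bool := (popc 24 n == 8) && fam110 n

/-- descent elements for the family -/
def gens110 : List (List ℕ) := [
  [0,1,2,19,14,8,9,10,12,4,11,5,13,7,16,17,22,3,6,20,21,23,18,15],
  [0,1,2,9,11,16,10,3,13,20,22,15,6,18,14,17,8,21,5,7,19,4,23,12],
  [0,1,2,16,12,13,3,9,10,15,14,8,21,20,4,18,17,23,5,6,7,11,19,22],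
  [0,1,2,21,23,17,20,6,9,3,7,18,19,22,15,12,16,11,5,14,10,8,13,4],
  [0,1,2,5,16,6,4,11,23,18,7,9,20,8,13,14,3,12,10,17,22,21,19,15]]

theorem desc110 : descOKH (certF 0 [0, 1, 2]) gens110 famP110 18147 = true := by decide +kernel

theorem cnt110 : countBelow (fun k => (popc 24 (cw k) == 8) && fam110 (cw k)) 4096 = 56 := by decide +kernel

theorem fam110_iff (n : ℕ) : (pt 0 ∈ maskSet n ∧ pt 1 ∈ maskSet n ∧ pt 2 ∉ maskSet n) ↔ fam110 n = true := by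
  rw [pt_mem_maskSet (by norm_num), pt_mem_maskSet (by norm_num), pt_mem_maskSet (by norm_num)]
  simp [fam110, and_assoc]

theorem count110 : {x : Finset GolayPt | x ∈ octads ∧ pt 0 ∈ x ∧ pt 1 ∈ x ∧ pt 2 ∉ x}.ncard = 56 := by
  rw [← cnt110, ← ncard_std 8 (fun b => pt 0 ∈ b ∧ pt 1 ∈ b ∧ pt 2 ∉ b) fam110 fam110_iff]
  rfl

theorem trans110 {o o' : Finset GolayPt} (ho : o ∈ octads ∧ pt 0 ∈ o ∧ pt 1 ∈ o ∧ pt 2 ∉ o)
    (ho' : o' ∈ octads ∧ pt 0 ∈ o' ∧ pt 1 ∈ o' ∧ pt 2 ∉ o') :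
    ∃ g : Equiv.Perm GolayPt, g ∈ M24 ∧ g (pt 0) = pt 0 ∧ g (pt 1) = pt 1 ∧ g (pt 2) = pt 2 ∧ g • o = o' := by
  obtain ⟨m, hm, hpop, e⟩ := exists_mask_of_mem_wordsOfWeight ho.1
  obtain ⟨m', hm', hpop', e'⟩ := exists_mask_of_mem_wordsOfWeight ho'.1
  have hf : fam110 m = true := by
    rw [← fam110_iff, ← e]
    exact ho.2
  have hf' : fam110 m' = true := by
    rw [← fam110_iff, ← e']
    exact ho'.2
  obtain ⟨k, hk, hkm⟩ := same_orbit_of_desc (certSoundF 0 hfix) desc110 hm (by simp [famP110, hpop, hf]) hm'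
    (by simp [famP110, hpop', hf'])
  obtain ⟨hkM, _, hkf⟩ := (mem_flagH hfix k).mp hk
  refine ⟨k, hkM, hkf 0 (by simp), hkf 1 (by simp), hkf 2 (by simp), ?_⟩
  rw [e, e', hkm]

/-! ### The family `101` -/

/-- masks of the family -/
def fam101 (n : ℕ) : Bool := n.testBit 0 && !(n.testBit 1) && n.testBit 2

/-- octad masks of the family -/
def famP101 (n : ℕ) : Bool := (popc 24 n == 8) && fam101 n

/-- descent elements for the family -/
def gens101 : List (List ℕ) := [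
  [0,1,2,14,12,4,5,21,13,3,16,17,9,18,6,19,11,20,7,10,15,22,23,8],
  [0,1,2,4,3,18,8,10,15,20,7,6,12,23,19,11,17,9,13,21,16,22,14,5],
  [0,1,2,16,21,8,20,9,18,5,12,7,14,4,3,6,17,19,22,10,13,23,11,15],
  [0,1,2,11,10,7,23,13,15,12,14,8,19,6,20,21,17,5,3,4,9,22,18,16],
  [0,1,2,20,17,16,23,12,3,10,19,9,22,4,5,13,21,7,6,18,14,8,15,11],
  [0,1,2,20,19,4,23,17,7,9,12,15,22,13,6,16,11,8,18,5,21,3,10,14]]

theorem desc101 : descOKH (certF 0 [0, 1, 2]) gens101 famP101 52005 = true := by decide +kernel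

theorem cnt101 : countBelow (fun k => (popc 24 (cw k) == 8) && fam101 (cw k)) 4096 = 56 := by decide +kernel

theorem fam101_iff (n : ℕ) : (pt 0 ∈ maskSet n ∧ pt 1 ∉ maskSet n ∧ pt 2 ∈ maskSet n) ↔ fam101 n = true := by
  rw [pt_mem_maskSet (by norm_num), pt_mem_maskSet (by norm_num), pt_mem_maskSet (by norm_num)]
  simp [fam101, and_assoc]

theorem count101 : {x : Finset GolayPt | x ∈ octads ∧ pt 0 ∈ x ∧ pt 1 ∉ x ∧ pt 2 ∈ x}.ncard = 56 := by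
  rw [← cnt101, ← ncard_std 8 (fun b => pt 0 ∈ b ∧ pt 1 ∉ b ∧ pt 2 ∈ b) fam101 fam101_iff]
  rfl

theorem trans101 {o o' : Finset GolayPt} (ho : o ∈ octads ∧ pt 0 ∈ o ∧ pt 1 ∉ o ∧ pt 2 ∈ o)
    (ho' : o' ∈ octads ∧ pt 0 ∈ o' ∧ pt 1 ∉ o' ∧ pt 2 ∈ o') :
    ∃ g : Equiv.Perm GolayPt, g ∈ M24 ∧ g (pt 0) = pt 0 ∧ g (pt 1) = pt 1 ∧ g (pt 2) = pt 2 ∧ g • o = o' := by
  obtain ⟨m, hm, hpop, e⟩ := exists_mask_of_mem_wordsOfWeight ho.1
  obtain ⟨m', hm', hpop', e'⟩ := exists_mask_of_mem_wordsOfWeight ho'.1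
  have hf : fam101 m = true := by
    rw [← fam101_iff, ← e]
    exact ho.2
  have hf' : fam101 m' = true := by
    rw [← fam101_iff, ← e']
    exact ho'.2
  obtain ⟨k, hk, hkm⟩ := same_orbit_of_desc (certSoundF 0 hfix) desc101 hm (by simp [famP101, hpop, hf]) hm'
    (by simp [famP101, hpop', hf'])
  obtain ⟨hkM, _, hkf⟩ := (mem_flagH hfix k).mp hk
  refine ⟨k, hkM, hkf 0 (by simp), hkf 1 (by simp), hkf 2 (by simp), ?_⟩
  rw [e, e', hkm]

/-! ### The family `100` -/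

/-- masks of the family -/
def fam100 (n : ℕ) : Bool := n.testBit 0 && !(n.testBit 1) && !(n.testBit 2)

/-- octad masks of the family -/
def famP100 (n : ℕ) : Bool := (popc 24 n == 8) && fam100 n

/-- descent elements for the family -/
def gens100 : List (List ℕ) := [
  [0,1,2,10,6,4,15,18,13,20,16,9,17,21,12,11,19,3,8,14,5,22,23,7],
  [0,1,2,17,8,3,4,13,6,15,9,21,7,12,14,10,18,5,19,16,20,22,11,23],
  [0,1,2,4,18,22,3,5,20,7,19,10,9,11,13,6,8,16,15,14,21,17,12,23],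
  [0,1,2,10,4,16,11,12,15,13,3,14,7,5,17,20,9,6,22,23,21,8,19,18],
  [0,1,2,6,11,16,15,9,4,5,22,12,3,19,17,8,14,18,7,20,21,23,13,10],
  [0,1,2,18,23,3,7,8,6,14,11,15,12,4,21,10,16,20,5,17,19,9,22,13],
  [0,1,2,5,15,14,20,12,10,7,13,16,6,4,23,8,21,3,18,22,9,19,11,17]]

theorem desc100 : descOKH (certF 0 [0, 1, 2]) gens100 famP100 15777 = true := by decide +kernel

theorem cnt100 : countBelow (fun k => (popc 24 (cw k) == 8) && fam100 (cw k)) 4096 = 120 := by decide +kernel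

theorem fam100_iff (n : ℕ) : (pt 0 ∈ maskSet n ∧ pt 1 ∉ maskSet n ∧ pt 2 ∉ maskSet n) ↔ fam100 n = true := by
  rw [pt_mem_maskSet (by norm_num), pt_mem_maskSet (by norm_num), pt_mem_maskSet (by norm_num)]
  simp [fam100, and_assoc]

theorem count100 : {x : Finset GolayPt | x ∈ octads ∧ pt 0 ∈ x ∧ pt 1 ∉ x ∧ pt 2 ∉ x}.ncard = 120 := by
  rw [← cnt100, ← ncard_std 8 (fun b => pt 0 ∈ b ∧ pt 1 ∉ b ∧ pt 2 ∉ b) fam100 fam100_iff]
  rfl

theorem trans100 {o o' : Finset GolayPt} (ho : o ∈ octads ∧ pt 0 ∈ o ∧ pt 1 ∉ o ∧ pt 2 ∉ o)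
    (ho' : o' ∈ octads ∧ pt 0 ∈ o' ∧ pt 1 ∉ o' ∧ pt 2 ∉ o') :
    ∃ g : Equiv.Perm GolayPt, g ∈ M24 ∧ g (pt 0) = pt 0 ∧ g (pt 1) = pt 1 ∧ g (pt 2) = pt 2 ∧ g • o = o' := by
  obtain ⟨m, hm, hpop, e⟩ := exists_mask_of_mem_wordsOfWeight ho.1
  obtain ⟨m', hm', hpop', e'⟩ := exists_mask_of_mem_wordsOfWeight ho'.1
  have hf : fam100 m = true := by
    rw [← fam100_iff, ← e]
    exact ho.2
  have hf' : fam100 m' = true := by
    rw [← fam100_iff, ← e']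
    exact ho'.2
  obtain ⟨k, hk, hkm⟩ := same_orbit_of_desc (certSoundF 0 hfix) desc100 hm (by simp [famP100, hpop, hf]) hm'
    (by simp [famP100, hpop', hf'])
  obtain ⟨hkM, _, hkf⟩ := (mem_flagH hfix k).mp hk
  refine ⟨k, hkM, hkf 0 (by simp), hkf 1 (by simp), hkf 2 (by simp), ?_⟩
  rw [e, e', hkm]

end Cfsg.Agent.Helper22.OctM21
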