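import Cfsg.Agent.Helper22.McL275
import Cfsg.Agent.Helper22.OctM21
import Cfsg.Agent.Helper22.KSets

/-!
# The rank three action on the 275 points
-/

set_option autoImplicit false

namespace Cfsg.Agent.Helper22.McL275b

open Cfsg Cfsg.Agent.Helper27 Cfsg.Agent.Helper22.Co0Mono Cfsg.Agent.Helper22.CrossStab
  Cfsg.Agent.Helper22.Co0Center Cfsg.Agent.Helper22.MinTrans Cfsg.Agent.Helper22.Norm6Trans
  Cfsg.Agent.Helper22.Co0Order Cfsg.Agent.Helper22.Summands Cfsg.Agent.Helper22.Census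
  Cfsg.Agent.Helper22.QuadForm Cfsg.Agent.Helper22.LeechMod2 Cfsg.Agent.Helper22.Co3Orbit
  Cfsg.Agent.Helper22.GolayComb Cfsg.Agent.Helper22.Design Cfsg.Agent.Helper22.HS100
  Cfsg.Agent.Helper22.HS100b Cfsg.Agent.Helper22.McL2025 Cfsg.Agent.Helper22.McL2025b
  Cfsg.Agent.Helper22.Flag Cfsg.Agent.Helper22.Co2Trans Cfsg.Agent.Helper22.Co2Trans2
  Cfsg.Agent.Helper22.McL275
open scoped Pointwise

theorem dot_fA (j : GolayPt) (y : GolayPt → ℤ) : dotInt (fA j) y = 4 * y j + 4 * y (pt 0) := by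
  classical
  simp only [dotInt, fA, Pi.add_apply, Pi.single_apply, add_mul, Finset.sum_add_distrib, ite_mul, zero_mul,
    Finset.sum_ite_eq', Finset.mem_univ, if_true]

/-- inner product with the third standard vector -/
def ipx (z : GolayPt → ℤ) : ℤ := 4 * z (pt 2) + 4 * z (pt 0)

/-- inner product with the standard vector of the 2025 -/
def ipd (z : GolayPt → ℤ) : ℤ := 4 * z (pt 0) - 4 * z (pt 1)

theorem dot_yA2 (z : GolayPt → ℤ) : dotInt (yA2 : GolayPt → ℤ) z = ipx z := dot_fA (pt 2) z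

theorem dot_d01' (z : GolayPt → ℤ) : dotInt (d01 : GolayPt → ℤ) z = ipd z := dot_d01 z

theorem fA_two {j : GolayPt} (_hj : j ≠ pt 0) : fA j (pt 2) = if j = pt 2 then 4 else 0 := by
  unfold fA
  have h20 : pt 2 ≠ pt 0 := by decide
  simp only [Pi.add_apply, Pi.single_apply, if_neg h20, add_zero]
  by_cases h : j = pt 2
  · rw [if_pos h, if_pos h.symm]
  · rw [if_neg h, if_neg (Ne.symm h)]

theorem d0_two : d0 (pt 2) = 1 := by
  unfold d0
  rw [if_neg (by decide)]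

/-- the classification with the two inner products -/
theorem cases_Y0 {z : GolayPt → ℤ} (hz : z ∈ Y0) :
    (∃ j, j ≠ pt 0 ∧ j ≠ pt 1 ∧ z = fA j ∧ ipd z = 16 ∧ ipx z = if j = pt 2 then 32 else 16) ∨
    (∃ O, O ∈ octads ∧ pt 0 ∈ O ∧ pt 1 ∈ O ∧ z = fB O ∧ ipd z = 0 ∧ ipx z = if pt 2 ∈ O then 16 else 8) ∨
    (∃ O, O ∈ octads ∧ pt 0 ∈ O ∧ pt 1 ∉ O ∧ z = d0 - fB O ∧ ipd z = 8 ∧ ipx z = if pt 2 ∈ O then 8 else 16) := by
  rcases (mem_Y0_iff z).mp hz with h | h | h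
  · left
    obtain ⟨v0, v1⟩ := FA_vals h
    obtain ⟨j, ⟨hj0, hj1⟩, rfl⟩ := h
    refine ⟨j, hj0, hj1, rfl, ?_, ?_⟩
    · unfold ipd
      rw [v0, v1]
      norm_num
    · unfold ipx
      rw [v0, fA_two hj0]
      split_ifs <;> norm_num
  · right; left
    obtain ⟨v0, v1⟩ := FBs_vals h
    obtain ⟨O, ⟨hO, h0, h1⟩, rfl⟩ := h
    refine ⟨O, hO, h0, h1, rfl, ?_, ?_⟩
    · unfold ipd
      rw [v0, v1]
      norm_num
    · unfold ipx
      rw [v0]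
      unfold fB
      split_ifs <;> norm_num
  · right; right
    obtain ⟨v0, v1⟩ := FD_vals h
    obtain ⟨O, ⟨hO, h0, h1⟩, rfl⟩ := h
    refine ⟨O, hO, h0, h1, rfl, ?_, ?_⟩
    · unfold ipd
      rw [v0, v1]
      norm_num
    · unfold ipx
      rw [v0]
      show 4 * (d0 (pt 2) - fB O (pt 2)) + 4 * 3 = _
      rw [d0_two]
      unfold fB
      split_ifs <;> norm_num

/-! ### Equivalence under the stabiliser of the standard triple -/

/-- equivalence under the stabiliser of the standard triple -/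
def Rel3 (y y' : ↥leechLattice) : Prop :=
  ∃ g : ↥Co0, g • D0 = D0 ∧ g • a01 = a01 ∧ g • yA2 = yA2 ∧ g • y = y'

theorem Rel3.symm {y y' : ↥leechLattice} (h : Rel3 y y') : Rel3 y' y := by
  obtain ⟨g, h1, h2, h3, h4⟩ := h
  refine ⟨g⁻¹, ?_, ?_, ?_, ?_⟩
  · rw [inv_smul_eq_iff, h1]
  · rw [inv_smul_eq_iff, h2]
  · rw [inv_smul_eq_iff, h3]
  · rw [inv_smul_eq_iff, h4]

theorem Rel3.trans {y y' y'' : ↥leechLattice} (h : Rel3 y y') (h' : Rel3 y' y'') : Rel3 y y'' := by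
  obtain ⟨g, h1, h2, h3, h4⟩ := h
  obtain ⟨g', h1', h2', h3', h4'⟩ := h'
  exact ⟨g' * g, by rw [mul_smul, h1, h1'], by rw [mul_smul, h2, h2'], by rw [mul_smul, h3, h3'],
    by rw [mul_smul, h4, h4']⟩

theorem piCo_yA2 {σ : Equiv.Perm GolayPt} (hσ : σ ∈ M24) (h0 : σ (pt 0) = pt 0) (h2 : σ (pt 2) = pt 2) :
    piCo σ hσ • yA2 = yA2 := by
  apply Subtype.ext
  rw [piCo_smul]
  show signedPerm σ ∅ (fA (pt 2)) = fA (pt 2)
  rw [sp_fA h0, h2]

theorem rel3_of_perm {σ : Equiv.Perm GolayPt} (hσ : σ ∈ M24) (h0 : σ (pt 0) = pt 0) (h1 : σ (pt 1) = pt 1)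
    (h2 : σ (pt 2) = pt 2) {y y' : ↥leechLattice} (h : signedPerm σ ∅ (y : GolayPt → ℤ) = (y' : GolayPt → ℤ)) :
    Rel3 y y' := by
  obtain ⟨e1, -, e3⟩ := (smul_t0_iff _).mp (piCo_fix hσ h0 h1)
  refine ⟨piCo σ hσ, e1, e3, piCo_yA2 hσ h0 h2, ?_⟩
  apply Subtype.ext
  rw [piCo_smul]
  exact h

theorem exists_move_point3 {j j' : GolayPt} (hj0 : j ≠ pt 0) (hj1 : j ≠ pt 1) (hj2 : j ≠ pt 2) (hj0' : j' ≠ pt 0)
    (hj1' : j' ≠ pt 1) (hj2' : j' ≠ pt 2) :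
    ∃ σ ∈ M24, σ (pt 0) = pt 0 ∧ σ (pt 1) = pt 1 ∧ σ (pt 2) = pt 2 ∧ σ j = j' := by
  have h01 : pt 0 ≠ pt 1 := by decide
  have h02 : pt 0 ≠ pt 2 := by decide
  have h12 : pt 1 ≠ pt 2 := by decide
  obtain ⟨σ, hσ, h⟩ := KSets.exists_M24_map_list [pt 0, pt 1, pt 2, j] [pt 0, pt 1, pt 2, j']
    (by simp [h01, h02, h12, Ne.symm hj0, Ne.symm hj1, Ne.symm hj2])
    (by simp [h01, h02, h12, Ne.symm hj0', Ne.symm hj1', Ne.symm hj2']) rfl (by simp)
  simp only [List.map_cons, List.map_nil, List.cons.injEq, and_true] at h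
  exact ⟨σ, hσ, h.1, h.2.1, h.2.2.1, h.2.2.2⟩

theorem sp_sub (σ : Equiv.Perm GolayPt) (a b : GolayPt → ℤ) :
    signedPerm σ ∅ (a - b) = signedPerm σ ∅ a - signedPerm σ ∅ b := by
  funext i
  simp only [sp_apply, Pi.sub_apply]

theorem M21_equiv {z z' : ↥leechLattice} (hz : (z : GolayPt → ℤ) ∈ Y0) (hz' : (z' : GolayPt → ℤ) ∈ Y0)
    (hne : z ≠ yA2) (hne' : z' ≠ yA2) (h1 : ipx z = ipx z') (h2 : ipd z = ipd z') : Rel3 z z' := by
  rcases cases_Y0 hz with ⟨j, hj0, hj1, ez, d, x⟩ | ⟨O, hO, hO0, hO1, ez, d, x⟩ | ⟨O, hO, hO0, hO1, ez, d, x⟩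
  · rcases cases_Y0 hz' with ⟨j', hj0', hj1', ez', d', x'⟩ | ⟨O', hO', hO0', hO1', ez', d', x'⟩ |
        ⟨O', hO', hO0', hO1', ez', d', x'⟩
    · have hj2 : j ≠ pt 2 := by
        intro h
        apply hne
        apply Subtype.ext
        rw [ez, h]
        rfl
      have hj2' : j' ≠ pt 2 := by
        intro h
        apply hne'
        apply Subtype.ext
        rw [ez', h]
        rfl
      obtain ⟨σ, hσ, h0, h1', h2', hσj⟩ := exists_move_point3 hj0 hj1 hj2 hj0' hj1' hj2'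
      apply rel3_of_perm hσ h0 h1' h2'
      rw [ez, ez', sp_fA h0, hσj]
    · rw [d, d'] at h2
      norm_num at h2
    · rw [d, d'] at h2
      norm_num at h2
  · rcases cases_Y0 hz' with ⟨j', hj0', hj1', ez', d', x'⟩ | ⟨O', hO', hO0', hO1', ez', d', x'⟩ |
        ⟨O', hO', hO0', hO1', ez', d', x'⟩
    · rw [d, d'] at h2
      norm_num at h2
    · rw [x, x'] at h1
      by_cases hm : pt 2 ∈ O
      · have hm' : pt 2 ∈ O' := by
          by_contra hc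
          rw [if_pos hm, if_neg hc] at h1
          norm_num at h1
        obtain ⟨σ, hσ, h0, h1', h2', hσO⟩ := OctM21.trans111 ⟨hO, hO0, hO1, hm⟩ ⟨hO', hO0', hO1', hm'⟩
        apply rel3_of_perm hσ h0 h1' h2'
        rw [ez, ez', sp_fB, hσO]
      · have hm' : pt 2 ∉ O' := by
          intro hc
          rw [if_neg hm, if_pos hc] at h1
          norm_num at h1
        obtain ⟨σ, hσ, h0, h1', h2', hσO⟩ := OctM21.trans110 ⟨hO, hO0, hO1, hm⟩ ⟨hO', hO0', hO1', hm'⟩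
        apply rel3_of_perm hσ h0 h1' h2'
        rw [ez, ez', sp_fB, hσO]
    · rw [d, d'] at h2
      norm_num at h2
  · rcases cases_Y0 hz' with ⟨j', hj0', hj1', ez', d', x'⟩ | ⟨O', hO', hO0', hO1', ez', d', x'⟩ |
        ⟨O', hO', hO0', hO1', ez', d', x'⟩
    · rw [d, d'] at h2
      norm_num at h2
    · rw [d, d'] at h2
      norm_num at h2
    · rw [x, x'] at h1
      by_cases hm : pt 2 ∈ O
      · have hm' : pt 2 ∈ O' := by
          by_contra hc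
          rw [if_pos hm, if_neg hc] at h1
          norm_num at h1
        obtain ⟨σ, hσ, h0, h1', h2', hσO⟩ := OctM21.trans101 ⟨hO, hO0, hO1, hm⟩ ⟨hO', hO0', hO1', hm'⟩
        apply rel3_of_perm hσ h0 h1' h2'
        rw [ez, ez', sp_sub, sp_d0 h0, sp_fB, hσO]
      · have hm' : pt 2 ∉ O' := by
          intro hc
          rw [if_neg hm, if_pos hc] at h1
          norm_num at h1
        obtain ⟨σ, hσ, h0, h1', h2', hσO⟩ := OctM21.trans100 ⟨hO, hO0, hO1, hm⟩ ⟨hO', hO0', hO1', hm'⟩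
        apply rel3_of_perm hσ h0 h1' h2'
        rw [ez, ez', sp_sub, sp_d0 h0, sp_fB, hσO]

/-! ### The linking element -/

/-- a second vector of the 2025 of inner product 16 with the third standard vector -/
def xL : ↥leechLattice :=
  ⟨fB (maskSet oct5) - pv (pt 1) (pt 3) 4 4, leechLattice.sub_mem (fB_mem maskSet_oct5_mem)
    (pv_mem _ _ (Or.inl rfl) (Or.inl rfl))⟩

theorem xL_mem : xL ∈ McL2025.X a01 (D0 - a01) := by
  rw [mem_X_std]
  show sqNorm (fB (maskSet oct5) - pv (pt 1) (pt 3) 4 4) = 32 ∧ _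
  decide +kernel

theorem dot_xL_yA2 : dotInt (xL : GolayPt → ℤ) (yA2 : GolayPt → ℤ) = 16 := by
  show dotInt (fB (maskSet oct5) - pv (pt 1) (pt 3) 4 4) (fA (pt 2)) = 16
  decide +kernel

theorem yA2_mem_Y : yA2 ∈ Y D0 a01 := (mem_Y_std yA2).mpr ((mem_Y0_iff _).mpr (Or.inl yA2_mem))

/-- an element of the stabiliser of the standard triple moving `xL` to `d01` -/
theorem exists_link : ∃ h : ↥Co0, h • D0 = D0 ∧ h • a01 = a01 ∧ h • yA2 = yA2 ∧ h • xL = d01 := by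
  obtain ⟨ha, hb, hab, hd⟩ := (mem_TM a01 (D0 - a01) d01).mp t1_mem
  obtain ⟨g1, e1, e2, e3⟩ := X_transitive a01 (D0 - a01) ha hb hab xL_mem hd
  have e0 : g1 • D0 = D0 := by
    have : D0 = a01 + (D0 - a01) := by abel
    rw [this, co0_add, e1, e2]
  have m1 : g1 • yA2 ∈ Y D0 a01 := by
    have := smul_mem_Y g1 yA2_mem_Y
    rwa [e0, e1] at this
  have m2 : ipd ((g1 • yA2 : ↥leechLattice) : GolayPt → ℤ) = 16 := by
    rw [← dot_d01', ← e3, co0_dot, dot_xL_yA2]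
  rcases cases_Y0 ((mem_Y_std _).mp m1) with ⟨j, hj0, hj1, ez, d, x⟩ | ⟨O, hO, hO0, hO1, ez, d, x⟩ |
      ⟨O, hO, hO0, hO1, ez, d, x⟩
  · obtain ⟨σ, hσ, h0, h1, hσj⟩ := exists_move_point hj0 hj1 (j' := pt 2) (by decide) (by decide)
    obtain ⟨f1, f2, f3⟩ := (smul_t0_iff _).mp (piCo_fix hσ h0 h1)
    refine ⟨piCo σ hσ * g1, ?_, ?_, ?_, ?_⟩
    · rw [mul_smul, e0, f1]
    · rw [mul_smul, e1, f3]
    · rw [mul_smul]
      apply Subtype.ext
      rw [piCo_smul, ez, sp_fA h0, hσj]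
      rfl
    · rw [mul_smul, e3]
      have : d01 = D0 - D1 := by
        unfold D1
        abel
      rw [this, co0_sub, f1, f2]
  · rw [d] at m2
    norm_num at m2
  · rw [d] at m2
    norm_num at m2

/-! ### Transitivity on the two suborbits -/

def yA3 : ↥leechLattice := ⟨fA (pt 3), (fA_mem_Sm (by decide)).1⟩

def yA5 : ↥leechLattice := ⟨fA (pt 5), (fA_mem_Sm (by decide)).1⟩

theorem oct8 : maskSet 18147 ∈ octads := maskSet_mem_octads (by decide +kernel)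

def yB8 : ↥leechLattice := ⟨fB (maskSet 18147), fB_mem oct8⟩

theorem yA3_mem : (yA3 : GolayPt → ℤ) ∈ Y0 := (mem_Y0_iff _).mpr (Or.inl ⟨pt 3, ⟨by decide, by decide⟩, rfl⟩)

theorem yA5_mem : (yA5 : GolayPt → ℤ) ∈ Y0 := (mem_Y0_iff _).mpr (Or.inl ⟨pt 5, ⟨by decide, by decide⟩, rfl⟩)

theorem yB8_mem : (yB8 : GolayPt → ℤ) ∈ Y0 := by
  refine (mem_Y0_iff _).mpr (Or.inr (Or.inl ⟨maskSet 18147, ⟨oct8, ?_, ?_⟩, rfl⟩))
  · rw [pt_mem_maskSet (by norm_num)]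
    decide
  · rw [pt_mem_maskSet (by norm_num)]
    decide

theorem ipx_yA2 : ipx (yA2 : GolayPt → ℤ) = 32 := by
  show 4 * fA (pt 2) (pt 2) + 4 * fA (pt 2) (pt 0) = 32
  decide +kernel

theorem ipx_yA3 : ipx (yA3 : GolayPt → ℤ) = 16 := by
  show 4 * fA (pt 3) (pt 2) + 4 * fA (pt 3) (pt 0) = 16
  decide +kernel

theorem ipd_yA3 : ipd (yA3 : GolayPt → ℤ) = 16 := by
  show 4 * fA (pt 3) (pt 0) - 4 * fA (pt 3) (pt 1) = 16
  decide +kernel

theorem ipx_yA5 : ipx (yA5 : GolayPt → ℤ) = 16 := by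
  show 4 * fA (pt 5) (pt 2) + 4 * fA (pt 5) (pt 0) = 16
  decide +kernel

theorem ipd_yA5 : ipd (yA5 : GolayPt → ℤ) = 16 := by
  show 4 * fA (pt 5) (pt 0) - 4 * fA (pt 5) (pt 1) = 16
  decide +kernel

theorem ipx_yB8 : ipx (yB8 : GolayPt → ℤ) = 8 := by
  show 4 * fB (maskSet 18147) (pt 2) + 4 * fB (maskSet 18147) (pt 0) = 8
  decide +kernel

theorem ipd_yB8 : ipd (yB8 : GolayPt → ℤ) = 0 := by
  show 4 * fB (maskSet 18147) (pt 0) - 4 * fB (maskSet 18147) (pt 1) = 0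
  decide +kernel

theorem dot_xL_yA3 : dotInt (xL : GolayPt → ℤ) (yA3 : GolayPt → ℤ) = 0 := by
  show dotInt (fB (maskSet oct5) - pv (pt 1) (pt 3) 4 4) (fA (pt 3)) = 0
  decide +kernel

theorem dot_xL_yA5 : dotInt (xL : GolayPt → ℤ) (yA5 : GolayPt → ℤ) = 8 := by
  show dotInt (fB (maskSet oct5) - pv (pt 1) (pt 3) 4 4) (fA (pt 5)) = 8
  decide +kernel

theorem dot_xL_yB8 : dotInt (xL : GolayPt → ℤ) (yB8 : GolayPt → ℤ) = 8 := by
  show dotInt (fB (maskSet oct5) - pv (pt 1) (pt 3) 4 4) (fB (maskSet 18147)) = 8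
  decide +kernel

theorem ne_of_ipx {z : ↥leechLattice} (h : ipx (z : GolayPt → ℤ) ≠ 32) : z ≠ yA2 := by
  intro e
  apply h
  rw [e, ipx_yA2]

/-- moving a point by the linking element -/
theorem link_move (z : ↥leechLattice) (hz : (z : GolayPt → ℤ) ∈ Y0) :
    ∃ z' : ↥leechLattice, (z' : GolayPt → ℤ) ∈ Y0 ∧ ipx (z' : GolayPt → ℤ) = ipx (z : GolayPt → ℤ) ∧
      ipd (z' : GolayPt → ℤ) = dotInt (xL : GolayPt → ℤ) (z : GolayPt → ℤ) ∧ Rel3 z z' := by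
  obtain ⟨h, e0, e1, e2, e3⟩ := exists_link
  refine ⟨h • z, ?_, ?_, ?_, ⟨h, e0, e1, e2, rfl⟩⟩
  · have := smul_mem_Y h ((mem_Y_std z).mpr hz)
    rw [e0, e1] at this
    exact (mem_Y_std _).mp this
  · rw [← dot_yA2, ← dot_yA2]
    conv_lhs => rw [← e2]
    rw [co0_dot]
  · rw [← dot_d01', ← e3, co0_dot]

theorem std_trans16 (z : ↥leechLattice) (hz : (z : GolayPt → ℤ) ∈ Y0) (hx : ipx (z : GolayPt → ℤ) = 16) :
    Rel3 z yA3 := by
  have hne : z ≠ yA2 := ne_of_ipx (by rw [hx]; norm_num)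
  have hne3 : yA3 ≠ yA2 := ne_of_ipx (by rw [ipx_yA3]; norm_num)
  have hne5 : yA5 ≠ yA2 := ne_of_ipx (by rw [ipx_yA5]; norm_num)
  rcases cases_Y0 hz with ⟨j, hj0, hj1, ez, d, x⟩ | ⟨O, hO, hO0, hO1, ez, d, x⟩ | ⟨O, hO, hO0, hO1, ez, d, x⟩
  · exact M21_equiv hz yA3_mem hne hne3 (by rw [hx, ipx_yA3]) (by rw [d, ipd_yA3])
  · obtain ⟨z', m1, m2, m3, m4⟩ := link_move yA3 yA3_mem
    rw [ipx_yA3] at m2
    rw [dot_xL_yA3] at m3
    have hne' : z' ≠ yA2 := ne_of_ipx (by rw [m2]; norm_num)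
    exact (M21_equiv hz m1 hne hne' (by rw [hx, m2]) (by rw [d, m3])).trans m4.symm
  · obtain ⟨z', m1, m2, m3, m4⟩ := link_move yA5 yA5_mem
    rw [ipx_yA5] at m2
    rw [dot_xL_yA5] at m3
    have hne' : z' ≠ yA2 := ne_of_ipx (by rw [m2]; norm_num)
    exact ((M21_equiv hz m1 hne hne' (by rw [hx, m2]) (by rw [d, m3])).trans m4.symm).trans
      (M21_equiv yA5_mem yA3_mem hne5 hne3 (by rw [ipx_yA5, ipx_yA3]) (by rw [ipd_yA5, ipd_yA3]))

theorem std_trans8 (z : ↥leechLattice) (hz : (z : GolayPt → ℤ) ∈ Y0) (hx : ipx (z : GolayPt → ℤ) = 8) :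
    Rel3 z yB8 := by
  have hne : z ≠ yA2 := ne_of_ipx (by rw [hx]; norm_num)
  have hne8 : yB8 ≠ yA2 := ne_of_ipx (by rw [ipx_yB8]; norm_num)
  rcases cases_Y0 hz with ⟨j, hj0, hj1, ez, d, x⟩ | ⟨O, hO, hO0, hO1, ez, d, x⟩ | ⟨O, hO, hO0, hO1, ez, d, x⟩
  · exfalso
    rw [hx] at x
    split_ifs at x <;> norm_num at x
  · exact M21_equiv hz yB8_mem hne hne8 (by rw [hx, ipx_yB8]) (by rw [d, ipd_yB8])
  · obtain ⟨z', m1, m2, m3, m4⟩ := link_move yB8 yB8_mem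
    rw [ipx_yB8] at m2
    rw [dot_xL_yB8] at m3
    have hne' : z' ≠ yA2 := ne_of_ipx (by rw [m2]; norm_num)
    exact (M21_equiv hz m1 hne hne' (by rw [hx, m2]) (by rw [d, m3])).trans m4.symm

/-- the values of the inner product with the third standard vector -/
theorem ipx_cases {z : ↥leechLattice} (hz : (z : GolayPt → ℤ) ∈ Y0) (hne : z ≠ yA2) :
    ipx (z : GolayPt → ℤ) = 16 ∨ ipx (z : GolayPt → ℤ) = 8 := by
  rcases cases_Y0 hz with ⟨j, hj0, hj1, ez, d, x⟩ | ⟨O, hO, hO0, hO1, ez, d, x⟩ | ⟨O, hO, hO0, hO1, ez, d, x⟩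
  · left
    rw [x, if_neg]
    intro h
    apply hne
    apply Subtype.ext
    rw [ez, h]
    rfl
  · rw [x]
    split_ifs
    · exact Or.inl rfl
    · exact Or.inr rfl
  · rw [x]
    split_ifs
    · exact Or.inr rfl
    · exact Or.inl rfl

/-! ### The numbers 112 and 162 -/

theorem ipx_fA {j : GolayPt} (hj : j ≠ pt 0) : ipx (fA j) = if j = pt 2 then 32 else 16 := by
  unfold ipx
  rw [fA_zero hj, fA_two hj]
  split_ifs <;> norm_num

theorem ipx_fB {O : Finset GolayPt} (h0 : pt 0 ∈ O) : ipx (fB O) = if pt 2 ∈ O then 16 else 8 := by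
  unfold ipx fB
  rw [if_pos h0]
  split_ifs <;> norm_num

theorem ipx_fD {O : Finset GolayPt} (h0 : pt 0 ∈ O) : ipx (d0 - fB O) = if pt 2 ∈ O then 8 else 16 := by
  show 4 * (d0 (pt 2) - fB O (pt 2)) + 4 * (d0 (pt 0) - fB O (pt 0)) = _
  rw [d0_two, d0_zero]
  unfold fB
  rw [if_pos h0]
  split_ifs <;> norm_num

def PA3 : Set GolayPt := {j | j ≠ pt 0 ∧ j ≠ pt 1 ∧ j ≠ pt 2}

def Q111 : Set (Finset GolayPt) := {O | O ∈ octads ∧ pt 0 ∈ O ∧ pt 1 ∈ O ∧ pt 2 ∈ O}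

def Q110 : Set (Finset GolayPt) := {O | O ∈ octads ∧ pt 0 ∈ O ∧ pt 1 ∈ O ∧ pt 2 ∉ O}

def Q101 : Set (Finset GolayPt) := {O | O ∈ octads ∧ pt 0 ∈ O ∧ pt 1 ∉ O ∧ pt 2 ∈ O}

def Q100 : Set (Finset GolayPt) := {O | O ∈ octads ∧ pt 0 ∈ O ∧ pt 1 ∉ O ∧ pt 2 ∉ O}

theorem fA_inj2 {j : GolayPt} (h : fA j = fA (pt 2)) : j = pt 2 := fA_injective h

theorem N16_eq : {y : GolayPt → ℤ | y ∈ Y0 ∧ y ≠ fA (pt 2) ∧ ipx y = 16} =
    fA '' PA3 ∪ (fB '' Q111 ∪ (fun O => d0 - fB O) '' Q100) := by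
  ext y
  simp only [Set.mem_ofPred_eq, Set.mem_union]
  constructor
  · rintro ⟨hy, hne, hx⟩
    rcases cases_Y0 hy with ⟨j, hj0, hj1, ez, d, x⟩ | ⟨O, hO, hO0, hO1, ez, d, x⟩ | ⟨O, hO, hO0, hO1, ez, d, x⟩
    · left
      refine ⟨j, ⟨hj0, hj1, ?_⟩, ez.symm⟩
      intro h
      apply hne
      rw [ez, h]
    · right; left
      refine ⟨O, ⟨hO, hO0, hO1, ?_⟩, ez.symm⟩
      by_contra hc
      rw [hx, if_neg hc] at x
      norm_num at x
    · right; right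
      refine ⟨O, ⟨hO, hO0, hO1, ?_⟩, ez.symm⟩
      intro hc
      rw [hx, if_pos hc] at x
      norm_num at x
  · rintro (⟨j, ⟨hj0, hj1, hj2⟩, rfl⟩ | ⟨O, ⟨hO, h0, h1, h2⟩, rfl⟩ | ⟨O, ⟨hO, h0, h1, h2⟩, rfl⟩)
    · refine ⟨(mem_Y0_iff _).mpr (Or.inl ⟨j, ⟨hj0, hj1⟩, rfl⟩), fun h => hj2 (fA_inj2 h), ?_⟩
      rw [ipx_fA hj0, if_neg hj2]
    · refine ⟨(mem_Y0_iff _).mpr (Or.inr (Or.inl ⟨O, ⟨hO, h0, h1⟩, rfl⟩)), ?_, ?_⟩
      · intro h
        have := congrFun h (pt 0)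
        rw [fA_zero (by decide)] at this
        unfold fB at this
        rw [if_pos h0] at this
        norm_num at this
      · rw [ipx_fB h0, if_pos h2]
    · refine ⟨(mem_Y0_iff _).mpr (Or.inr (Or.inr ⟨O, ⟨hO, h0, h1⟩, rfl⟩)), ?_, ?_⟩
      · intro h
        have h' : d0 (pt 0) - fB O (pt 0) = fA (pt 2) (pt 0) := congrFun h (pt 0)
        rw [fA_zero (by decide), d0_zero] at h'
        unfold fB at h'
        rw [if_pos h0] at h'
        norm_num at h'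
      · rw [ipx_fD h0, if_neg h2]

theorem N8_eq : {y : GolayPt → ℤ | y ∈ Y0 ∧ ipx y = 8} = fB '' Q110 ∪ (fun O => d0 - fB O) '' Q101 := by
  ext y
  simp only [Set.mem_ofPred_eq, Set.mem_union]
  constructor
  · rintro ⟨hy, hx⟩
    rcases cases_Y0 hy with ⟨j, hj0, hj1, ez, d, x⟩ | ⟨O, hO, hO0, hO1, ez, d, x⟩ | ⟨O, hO, hO0, hO1, ez, d, x⟩
    · exfalso
      rw [hx] at x
      split_ifs at x <;> norm_num at x
    · left
      refine ⟨O, ⟨hO, hO0, hO1, ?_⟩, ez.symm⟩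
      intro hc
      rw [hx, if_pos hc] at x
      norm_num at x
    · right
      refine ⟨O, ⟨hO, hO0, hO1, ?_⟩, ez.symm⟩
      by_contra hc
      rw [hx, if_neg hc] at x
      norm_num at x
  · rintro (⟨O, ⟨hO, h0, h1, h2⟩, rfl⟩ | ⟨O, ⟨hO, h0, h1, h2⟩, rfl⟩)
    · refine ⟨(mem_Y0_iff _).mpr (Or.inr (Or.inl ⟨O, ⟨hO, h0, h1⟩, rfl⟩)), ?_⟩
      rw [ipx_fB h0, if_neg h2]
    · refine ⟨(mem_Y0_iff _).mpr (Or.inr (Or.inr ⟨O, ⟨hO, h0, h1⟩, rfl⟩)), ?_⟩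
      rw [ipx_fD h0, if_pos h2]

theorem ncard_PA3 : PA3.ncard = 21 := by
  classical
  have : PA3 = ↑(((Finset.univ.erase (pt 0)).erase (pt 1)).erase (pt 2)) := by
    ext j
    unfold PA3
    simp only [Set.mem_ofPred_eq, Finset.coe_erase, Set.mem_sdiff, Finset.mem_coe, Finset.mem_univ,
      Set.mem_singleton_iff, true_and, and_assoc]
  rw [this, Set.ncard_coe_finset, Finset.card_erase_of_mem, Finset.card_erase_of_mem,
    Finset.card_erase_of_mem (Finset.mem_univ _), Finset.card_univ, GolayComb.card_golayPt]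
  · rw [Finset.mem_erase]
    exact ⟨by decide, Finset.mem_univ _⟩
  · rw [Finset.mem_erase, Finset.mem_erase]
    exact ⟨by decide, by decide, Finset.mem_univ _⟩

theorem fD_injective : Function.Injective (fun O : Finset GolayPt => d0 - fB O) := by
  intro O O' h
  apply fB_injective
  have : d0 - fB O = d0 - fB O' := h
  exact sub_right_injective this

theorem fin_of_ncard {α : Type*} {s : Set α} {n : ℕ} (h : s.ncard = n) (hn : n ≠ 0) : s.Finite :=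
  Set.finite_of_ncard_ne_zero (by rw [h]; exact hn)

theorem ncard_N16 : {y : GolayPt → ℤ | y ∈ Y0 ∧ y ≠ fA (pt 2) ∧ ipx y = 16}.ncard = 162 := by
  have c1 : (fA '' PA3).ncard = 21 := by rw [Set.ncard_image_of_injective _ fA_injective, ncard_PA3]
  have c2 : (fB '' Q111).ncard = 21 := by
    rw [Set.ncard_image_of_injective _ fB_injective]
    exact OctM21.count111
  have c3 : ((fun O => d0 - fB O) '' Q100).ncard = 120 := by
    rw [Set.ncard_image_of_injective _ fD_injective]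
    exact OctM21.count100
  have s1 : fA '' PA3 ⊆ FA := by
    rintro y ⟨j, ⟨h0, h1, -⟩, rfl⟩
    exact ⟨j, ⟨h0, h1⟩, rfl⟩
  have s2 : fB '' Q111 ⊆ FBs := by
    rintro y ⟨O, ⟨hO, h0, h1, -⟩, rfl⟩
    exact ⟨O, ⟨hO, h0, h1⟩, rfl⟩
  have s3 : (fun O => d0 - fB O) '' Q100 ⊆ FD := by
    rintro y ⟨O, ⟨hO, h0, h1, -⟩, rfl⟩
    exact ⟨O, ⟨hO, h0, h1⟩, rfl⟩
  rw [N16_eq, Set.ncard_union_eq ?_ (fin_of_ncard c1 (by norm_num))
    ((fin_of_ncard c2 (by norm_num)).union (fin_of_ncard c3 (by norm_num))),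
    Set.ncard_union_eq ?_ (fin_of_ncard c2 (by norm_num)) (fin_of_ncard c3 (by norm_num)), c1, c2, c3]
  · rw [Set.disjoint_left]
    intro y h1 h2
    have := (FBs_vals (s2 h1)).1
    rw [(FD_vals (s3 h2)).1] at this
    norm_num at this
  · rw [Set.disjoint_left]
    intro y h1 h2
    have h4 := (FA_vals (s1 h1)).1
    rcases h2 with h2 | h2
    · rw [(FBs_vals (s2 h2)).1] at h4
      norm_num at h4
    · rw [(FD_vals (s3 h2)).1] at h4
      norm_num at h4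

theorem ncard_N8 : {y : GolayPt → ℤ | y ∈ Y0 ∧ ipx y = 8}.ncard = 112 := by
  have c2 : (fB '' Q110).ncard = 56 := by
    rw [Set.ncard_image_of_injective _ fB_injective]
    exact OctM21.count110
  have c3 : ((fun O => d0 - fB O) '' Q101).ncard = 56 := by
    rw [Set.ncard_image_of_injective _ fD_injective]
    exact OctM21.count101
  have s2 : fB '' Q110 ⊆ FBs := by
    rintro y ⟨O, ⟨hO, h0, h1, -⟩, rfl⟩
    exact ⟨O, ⟨hO, h0, h1⟩, rfl⟩
  have s3 : (fun O => d0 - fB O) '' Q101 ⊆ FD := by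
    rintro y ⟨O, ⟨hO, h0, h1, -⟩, rfl⟩
    exact ⟨O, ⟨hO, h0, h1⟩, rfl⟩
  rw [N8_eq, Set.ncard_union_eq ?_ (fin_of_ncard c2 (by norm_num)) (fin_of_ncard c3 (by norm_num)), c2, c3]
  rw [Set.disjoint_left]
  intro y h1 h2
  have := (FBs_vals (s2 h1)).1
  rw [(FD_vals (s3 h2)).1] at this
  norm_num at this

theorem ncard_std8 : {y : ↥leechLattice | y ∈ Y D0 a01 ∧
    dotInt (yA2 : GolayPt → ℤ) (y : GolayPt → ℤ) = 8}.ncard = 112 := by
  rw [← ncard_N8, ← Set.ncard_image_of_injective _ Subtype.val_injective]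
  congr 1
  ext y
  constructor
  · rintro ⟨z, ⟨hz, hd⟩, rfl⟩
    exact ⟨(mem_Y_std z).mp hz, by rw [← dot_yA2]; exact hd⟩
  · rintro ⟨hy, hx⟩
    exact ⟨⟨y, hy.1.1⟩, ⟨(mem_Y_std _).mpr hy, by rw [dot_yA2]; exact hx⟩, rfl⟩

theorem ncard_std16 : {y : ↥leechLattice | y ∈ Y D0 a01 ∧ y ≠ yA2 ∧
    dotInt (yA2 : GolayPt → ℤ) (y : GolayPt → ℤ) = 16}.ncard = 162 := by
  rw [← ncard_N16, ← Set.ncard_image_of_injective _ Subtype.val_injective]
  congr 1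
  ext y
  constructor
  · rintro ⟨z, ⟨hz, hne, hd⟩, rfl⟩
    refine ⟨(mem_Y_std z).mp hz, ?_, by rw [← dot_yA2]; exact hd⟩
    intro h
    apply hne
    apply Subtype.ext
    rw [h]
    rfl
  · rintro ⟨hy, hne, hx⟩
    refine ⟨⟨y, hy.1.1⟩, ⟨(mem_Y_std _).mpr hy, ?_, by rw [dot_yA2]; exact hx⟩, rfl⟩
    intro h
    apply hne
    have := congrArg Subtype.val h
    exact this

/-! ### The general statement -/

theorem exists_to_std3 (u v x : ↥leechLattice) (hu : sqNorm (u : GolayPt → ℤ) = 48)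
    (hv : sqNorm (v : GolayPt → ℤ) = 32) (huv : sqNorm ((u - v : ↥leechLattice) : GolayPt → ℤ) = 32)
    (hx : x ∈ Y u v) : ∃ g : ↥Co0, g • u = D0 ∧ g • v = a01 ∧ g • x = yA2 := by
  obtain ⟨g0, hg1, hg2⟩ := McL275.to_std u v hu hv huv
  have m : g0 • x ∈ Y D0 a01 := by
    have := smul_mem_Y g0 hx
    rwa [hg1, hg2] at this
  obtain ⟨g1, f1, f2, f3⟩ := (Y_std_rel _ m).trans (Y_std_rel _ yA2_mem_Y).symm
  exact ⟨g1 * g0, by rw [mul_smul, hg1, f1], by rw [mul_smul, hg2, f2], by rw [mul_smul, f3]⟩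

theorem rank3 (u v x : ↥leechLattice) (hu : sqNorm (u : GolayPt → ℤ) = 48)
    (hv : sqNorm (v : GolayPt → ℤ) = 32) (huv : sqNorm ((u - v : ↥leechLattice) : GolayPt → ℤ) = 32)
    (hx : x ∈ Y u v) :
    {y : ↥leechLattice | y ∈ Y u v ∧ dotInt (x : GolayPt → ℤ) (y : GolayPt → ℤ) = 8}.ncard = 112 ∧
    {y : ↥leechLattice | y ∈ Y u v ∧ y ≠ x ∧ dotInt (x : GolayPt → ℤ) (y : GolayPt → ℤ) = 16}.ncard = 162 ∧
    ∀ y ∈ Y u v, ∀ y' ∈ Y u v, y ≠ x → y' ≠ x →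
      dotInt (x : GolayPt → ℤ) (y : GolayPt → ℤ) = dotInt (x : GolayPt → ℤ) (y' : GolayPt → ℤ) →
      ∃ g : ↥Co0, g • u = u ∧ g • v = v ∧ g • x = x ∧ g • y = y' := by
  obtain ⟨g, e1, e2, e3⟩ := exists_to_std3 u v x hu hv huv hx
  have hmem : ∀ y : ↥leechLattice, y ∈ Y u v → g • y ∈ Y D0 a01 := by
    intro y hy
    have := smul_mem_Y g hy
    rwa [e1, e2] at this
  have hmem' : ∀ z : ↥leechLattice, z ∈ Y D0 a01 → g⁻¹ • z ∈ Y u v := by
    intro z hz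
    have := smul_mem_Y g⁻¹ hz
    rwa [← e1, ← e2, inv_smul_smul, inv_smul_smul] at this
  have hdot : ∀ y : ↥leechLattice, dotInt (yA2 : GolayPt → ℤ) ((g • y : ↥leechLattice) : GolayPt → ℤ) =
      dotInt (x : GolayPt → ℤ) (y : GolayPt → ℤ) := by
    intro y
    rw [← e3, co0_dot]
  have hdot' : ∀ z : ↥leechLattice, dotInt (x : GolayPt → ℤ) ((g⁻¹ • z : ↥leechLattice) : GolayPt → ℤ) =
      dotInt (yA2 : GolayPt → ℤ) (z : GolayPt → ℤ) := by
    intro z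
    rw [← hdot, smul_inv_smul]
  refine ⟨?_, ?_, ?_⟩
  · rw [← ncard_std8, ← Set.ncard_image_of_injective _ (MulAction.injective g)]
    congr 1
    ext z
    constructor
    · rintro ⟨y, ⟨hy, hd⟩, rfl⟩
      exact ⟨hmem y hy, by rw [hdot]; exact hd⟩
    · rintro ⟨hz, hd⟩
      exact ⟨g⁻¹ • z, ⟨hmem' z hz, by rw [hdot']; exact hd⟩, smul_inv_smul g z⟩
  · rw [← ncard_std16, ← Set.ncard_image_of_injective _ (MulAction.injective g)]
    congr 1
    ext z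
    constructor
    · rintro ⟨y, ⟨hy, hne, hd⟩, rfl⟩
      refine ⟨hmem y hy, ?_, by rw [hdot]; exact hd⟩
      rw [← e3]
      intro h
      exact hne (MulAction.injective g h)
    · rintro ⟨hz, hne, hd⟩
      refine ⟨g⁻¹ • z, ⟨hmem' z hz, ?_, by rw [hdot']; exact hd⟩, smul_inv_smul g z⟩
      intro h
      apply hne
      rw [← e3, ← h, smul_inv_smul]
  · intro y hy y' hy' hne hne' hd
    have m := (mem_Y_std _).mp (hmem y hy)
    have m' := (mem_Y_std _).mp (hmem y' hy')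
    have n : g • y ≠ yA2 := by
      rw [← e3]
      intro h
      exact hne (MulAction.injective g h)
    have n' : g • y' ≠ yA2 := by
      rw [← e3]
      intro h
      exact hne' (MulAction.injective g h)
    have hd' : ipx ((g • y : ↥leechLattice) : GolayPt → ℤ) = ipx ((g • y' : ↥leechLattice) : GolayPt → ℤ) := by
      rw [← dot_yA2, ← dot_yA2, hdot, hdot, hd]
    have hrel : Rel3 (g • y) (g • y') := by
      rcases ipx_cases m n with h16 | h8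
      · exact (std_trans16 _ m h16).trans (std_trans16 _ m' (by rw [← hd', h16])).symm
      · exact (std_trans8 _ m h8).trans (std_trans8 _ m' (by rw [← hd', h8])).symm
    obtain ⟨h, f1, f2, f3, f4⟩ := hrel
    refine ⟨g⁻¹ * h * g, ?_, ?_, ?_, ?_⟩
    · rw [mul_smul, mul_smul, e1, f1, ← e1, inv_smul_smul]
    · rw [mul_smul, mul_smul, e2, f2, ← e2, inv_smul_smul]
    · rw [mul_smul, mul_smul, e3, f3, ← e3, inv_smul_smul]
    · rw [mul_smul, mul_smul, f4, inv_smul_smul]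

end Cfsg.Agent.Helper22.McL275b
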