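import Cfsg.Agent.Helper22.PrimSimple
import Cfsg.Agent.Helper22.McL275b
import Cfsg.Agent.Helper27.SimpleFinal

/-!
# The stabiliser of a standard triple as a simple group, and the simplicity of the stabiliser of two vectors of
sum of squares 48 with inner product `-32`
-/

set_option autoImplicit false

namespace Cfsg.Agent.Helper22.HSSimple

open Cfsg Cfsg.Agent.Helper27 Cfsg.Agent.Helper22.Co0Mono Cfsg.Agent.Helper22.CrossStab
  Cfsg.Agent.Helper22.Co0Center Cfsg.Agent.Helper22.MinTrans Cfsg.Agent.Helper22.Norm6Trans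
  Cfsg.Agent.Helper22.Co0Order Cfsg.Agent.Helper22.Summands Cfsg.Agent.Helper22.Census
  Cfsg.Agent.Helper22.QuadForm Cfsg.Agent.Helper22.LeechMod2 Cfsg.Agent.Helper22.Co3Orbit
  Cfsg.Agent.Helper22.GolayComb Cfsg.Agent.Helper22.Design Cfsg.Agent.Helper22.HS100
  Cfsg.Agent.Helper22.HS100b Cfsg.Agent.Helper22.PrimSimple
open scoped Pointwise

instance finite_Co0 : Finite ↥Co0 := Nat.finite_of_card_ne_zero (by rw [card_Co0]; norm_num)

theorem piCo_mul {σ τ : Equiv.Perm GolayPt} (hσ : σ ∈ M24) (hτ : τ ∈ M24) :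
    piCo (σ * τ) (M24.mul_mem hσ hτ) = piCo σ hσ * piCo τ hτ := by
  apply Subtype.ext
  apply Equiv.ext
  intro v
  apply Subtype.ext
  show ((piCo (σ * τ) (M24.mul_mem hσ hτ) • v : ↥leechLattice) : GolayPt → ℤ) =
    ((piCo σ hσ • (piCo τ hτ • v) : ↥leechLattice) : GolayPt → ℤ)
  rw [piCo_smul, piCo_smul, piCo_smul]
  funext i
  simp only [sp_apply]
  rfl

/-- the two-point stabiliser -/
abbrev M22' : Subgroup ↥M24 := MulAction.stabilizer M24 (pt 0) ⊓ MulAction.stabilizer M24 (pt 1)

theorem M22'_fix (σ : ↥M22') : σ.1.1 (pt 0) = pt 0 ∧ σ.1.1 (pt 1) = pt 1 :=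
  ⟨MulAction.mem_stabilizer_iff.mp (Subgroup.mem_inf.mp σ.2).1, MulAction.mem_stabilizer_iff.mp (Subgroup.mem_inf.mp σ.2).2⟩

/-- the point stabiliser, in an action of the stabiliser of `v` and `w`, of a point corresponding to `x`, when the
stabiliser of the triple is conjugate to that of the standard triple -/
theorem exists_equiv (G : Subgroup ↥Co0) {X : Type*} [MulAction ↥G X] (x₀ : X) (v w x : ↥leechLattice) (g0 : ↥Co0)
    (hG : ∀ k : ↥Co0, k ∈ G ↔ k • v = v ∧ k • w = w) (hst : ∀ h : ↥G, h • x₀ = x₀ ↔ (h : ↥Co0) • x = x)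
    (hconj : ∀ k : ↥Co0, (k • v = v ∧ k • w = w ∧ k • x = x) ↔ (g0 * k * g0⁻¹) • t0 = t0) :
    Nonempty (↥M22' ≃* ↥(MulAction.stabilizer ↥G x₀)) := by
  have hfix : ∀ σ : ↥M22', (g0⁻¹ * piCo σ.1.1 σ.1.2 * g0) • v = v ∧ (g0⁻¹ * piCo σ.1.1 σ.1.2 * g0) • w = w ∧
      (g0⁻¹ * piCo σ.1.1 σ.1.2 * g0) • x = x := by
    intro σ
    rw [hconj]
    have : g0 * (g0⁻¹ * piCo σ.1.1 σ.1.2 * g0) * g0⁻¹ = piCo σ.1.1 σ.1.2 := by group
    rw [this]
    exact piCo_fix σ.1.2 (M22'_fix σ).1 (M22'_fix σ).2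
  let f : ↥M22' → ↥(MulAction.stabilizer ↥G x₀) := fun σ =>
    ⟨⟨g0⁻¹ * piCo σ.1.1 σ.1.2 * g0, (hG _).mpr ⟨(hfix σ).1, (hfix σ).2.1⟩⟩,
      MulAction.mem_stabilizer_iff.mpr ((hst _).mpr (hfix σ).2.2)⟩
  have hmul : ∀ a b, f (a * b) = f a * f b := by
    intro a b
    apply Subtype.ext
    apply Subtype.ext
    show g0⁻¹ * piCo (a.1.1 * b.1.1) (a * b).1.2 * g0 =
      (g0⁻¹ * piCo a.1.1 a.1.2 * g0) * (g0⁻¹ * piCo b.1.1 b.1.2 * g0)
    rw [piCo_mul a.1.2 b.1.2]
    group
  refine ⟨MulEquiv.ofBijective (MonoidHom.mk' f hmul) ⟨?_, ?_⟩⟩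
  · intro a b hab
    have h1 : g0⁻¹ * piCo a.1.1 a.1.2 * g0 = g0⁻¹ * piCo b.1.1 b.1.2 * g0 :=
      congrArg (fun z : ↥(MulAction.stabilizer ↥G x₀) => ((z : ↥G) : ↥Co0)) hab
    have h2 : piCo a.1.1 a.1.2 = piCo b.1.1 b.1.2 := by
      have := congrArg (fun z => g0 * z * g0⁻¹) h1
      simpa [mul_assoc] using this
    apply Subtype.ext
    apply Subtype.ext
    exact piCo_injective a.1.2 b.1.2 h2
  · rintro ⟨⟨k, hk⟩, hks⟩
    have hk' := (hG k).mp hk
    have hkx : k • x = x := (hst ⟨k, hk⟩).mp (MulAction.mem_stabilizer_iff.mp hks)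
    obtain ⟨σ, hσ, h0, h1, e⟩ := stab_t0 ((hconj k).mp ⟨hk'.1, hk'.2, hkx⟩)
    refine ⟨⟨⟨σ, hσ⟩, Subgroup.mem_inf.mpr ⟨MulAction.mem_stabilizer_iff.mpr h0,
      MulAction.mem_stabilizer_iff.mpr h1⟩⟩, ?_⟩
    apply Subtype.ext
    apply Subtype.ext
    show g0⁻¹ * piCo σ hσ * g0 = k
    rw [← e]
    group

/-! ### Faithfulness on the hundred -/

/-- the vector `d0 - fA j` -/
def zV (j : GolayPt) (hj : j ≠ pt 0) : ↥leechLattice := ⟨d0 - fA j, (sub_mem_Sm (fA_mem_Sm hj)).1⟩

theorem zV_mem (j : GolayPt) (hj0 : j ≠ pt 0) (hj1 : j ≠ pt 1) : zV j hj0 ∈ S D0 (-D1) := by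
  classical
  rw [mem_S_std, mem_S0_iff]
  right; right
  unfold FC
  rw [Finset.mem_image]
  refine ⟨j, ?_, rfl⟩
  rw [Finset.mem_erase, Finset.mem_erase]
  exact ⟨hj1, hj0, Finset.mem_univ _⟩

theorem piCo_one : piCo 1 M24.one_mem = 1 := by
  apply Subtype.ext
  apply Equiv.ext
  intro v
  apply Subtype.ext
  show ((piCo 1 M24.one_mem • v : ↥leechLattice) : GolayPt → ℤ) = (v : GolayPt → ℤ)
  rw [piCo_smul]
  funext i
  rw [sp_apply]
  rfl

theorem faithful_std {k : ↥Co0} (hk : k • t0 = t0) (hS : ∀ y ∈ S D0 (-D1), k • y = y) : k = 1 := by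
  obtain ⟨σ, hσ, h0, h1, rfl⟩ := stab_t0 hk
  have hσ1 : σ = 1 := by
    apply Equiv.ext
    intro j
    by_cases hj0 : j = pt 0
    · rw [hj0, h0]; rfl
    by_cases hj1 : j = pt 1
    · rw [hj1, h1]; rfl
    have h2 : ((piCo σ hσ • zV j hj0 : ↥leechLattice) : GolayPt → ℤ) = (zV j hj0 : GolayPt → ℤ) := by
      rw [hS _ (zV_mem j hj0 hj1)]
    rw [piCo_smul] at h2
    have h3 : signedPerm σ ∅ (d0 - fA j) = d0 - fA j := h2
    rw [McL275b.sp_sub, sp_d0 h0, sp_fA h0] at h3
    have h4 : fA (σ j) = fA j := sub_right_injective h3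
    exact fA_injective h4
  subst hσ1
  exact piCo_one

/-! ### The group -/

/-- the stabiliser of two vectors -/
def GS (v w : ↥leechLattice) : Subgroup ↥Co0 := MulAction.stabilizer ↥Co0 v ⊓ MulAction.stabilizer ↥Co0 w

theorem mem_GS (v w : ↥leechLattice) (k : ↥Co0) : k ∈ GS v w ↔ k • v = v ∧ k • w = w := by
  unfold GS
  rw [Subgroup.mem_inf, MulAction.mem_stabilizer_iff, MulAction.mem_stabilizer_iff]

/-- an invariant set of lattice vectors as a set with an action of the stabiliser of two vectors -/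
def subAct (v w : ↥leechLattice) (C : Set ↥leechLattice) (hC : ∀ k : ↥Co0, k • v = v → k • w = w → ∀ y ∈ C, k • y ∈ C) :
    SubMulAction ↥(GS v w) ↥leechLattice where
  carrier := C
  smul_mem' := fun g y hy => hC g.1 ((mem_GS v w g.1).mp g.2).1 ((mem_GS v w g.1).mp g.2).2 y hy

theorem S_invariant (v w : ↥leechLattice) : ∀ k : ↥Co0, k • v = v → k • w = w → ∀ y ∈ S v w, k • y ∈ S v w := by
  intro k h1 h2 y hy
  have := smul_mem_S k hy
  rwa [h1, h2] at this

/-- the cardinality of a set of labelled points in the subaction -/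
theorem ncard_sub (v w : ↥leechLattice) (C : Set ↥leechLattice)
    (hC : ∀ k : ↥Co0, k • v = v → k • w = w → ∀ y ∈ C, k • y ∈ C) (P : ↥leechLattice → Prop) :
    {y : ↥(subAct v w C hC) | P y.1}.ncard = {y : ↥leechLattice | y ∈ C ∧ P y}.ncard := by
  rw [← Set.ncard_image_of_injective _ Subtype.val_injective]
  congr 1
  ext y
  constructor
  · rintro ⟨z, hz, rfl⟩
    exact ⟨z.2, hz⟩
  · rintro ⟨hy, hP⟩
    exact ⟨⟨y, hy⟩, hP, rfl⟩

/-- the hundred with the action of the stabiliser -/
def Xs (v w : ↥leechLattice) : SubMulAction ↥(GS v w) ↥leechLattice := subAct v w (S v w) (S_invariant v w)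

set_option synthInstance.maxHeartbeats 400000 in
instance instXs (v w : ↥leechLattice) : MulAction ↥(GS v w) ↥(Xs v w) := inferInstance

theorem HS_simple (v w : ↥leechLattice) (hv : sqNorm (v : GolayPt → ℤ) = 48) (hw : sqNorm (w : GolayPt → ℤ) = 48)
    (hvw : dotInt (v : GolayPt → ℤ) (w : GolayPt → ℤ) = -32) :
    IsSimpleGroup ↥(GS v w) ∧ Nat.card ↥(GS v w) = 44352000 := by
  classical
  have hne : (S v w).Nonempty := Set.nonempty_of_ncard_ne_zero (by rw [ncard_S v w hv hw hvw]; norm_num)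
  obtain ⟨x, hx⟩ := hne
  obtain ⟨g0, hg0⟩ := TT_transitive ((mem_TT v w x).mpr ⟨hv, hw, hvw, hx⟩) t0_mem
  have h3 : (g0 • v, g0 • w, g0 • x) = (D0, -D1, a01) := hg0
  rw [Prod.mk.injEq, Prod.mk.injEq] at h3
  obtain ⟨e1, e2, e3⟩ := h3
  let x₀ : ↥(Xs v w) := ⟨x, hx⟩
  have hconj : ∀ k : ↥Co0, (k • v = v ∧ k • w = w ∧ k • x = x) ↔ (g0 * k * g0⁻¹) • t0 = t0 := by
    intro k
    have ht : g0⁻¹ • t0 = (v, w, x) := by rw [inv_smul_eq_iff, hg0]
    rw [mul_smul, mul_smul, ht]
    constructor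
    · rintro ⟨h1, h2, h3⟩
      have : k • (v, w, x) = (v, w, x) := by
        show (k • v, k • w, k • x) = (v, w, x)
        rw [h1, h2, h3]
      rw [this, hg0]
    · intro h
      rw [← hg0] at h
      have h' : (k • v, k • w, k • x) = (v, w, x) := MulAction.injective g0 h
      rw [Prod.mk.injEq, Prod.mk.injEq] at h'
      exact h'
  have hst : ∀ h : ↥(GS v w), h • x₀ = x₀ ↔ (h : ↥Co0) • x = x := by
    intro h
    constructor
    · intro hh
      exact congrArg Subtype.val hh
    · intro hh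
      exact Subtype.ext hh
  obtain ⟨eqv⟩ := exists_equiv (GS v w) x₀ v w x g0 (mem_GS v w) hst hconj
  have : IsSimpleGroup ↥M22' := stabilizer_pt2_simple (pt 0) (pt 1) (by decide)
  have hsimp : IsSimpleGroup ↥(MulAction.stabilizer ↥(GS v w) x₀) := eqv.symm.isSimpleGroup
  have hstabcard : Nat.card ↥(MulAction.stabilizer ↥(GS v w) x₀) = 443520 := by
    rw [← Nat.card_congr eqv.toEquiv]
    exact card_stabilizer2_M24 (pt 0) (pt 1) (by decide)
  have hfin : Finite ↥(Xs v w) := (finite_S v w).to_subtype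
  have hXcard : Nat.card ↥(Xs v w) = 100 := by
    have : Nat.card ↥(Xs v w) = (S v w).ncard := Nat.card_coe_set_eq (S v w)
    rw [this, ncard_S v w hv hw hvw]
  have htrans : MulAction.IsPretransitive ↥(GS v w) ↥(Xs v w) := by
    refine ⟨fun a b => ?_⟩
    obtain ⟨g, h1, h2, h3⟩ := S_transitive v w hv hw hvw a.2 b.2
    exact ⟨⟨g, (mem_GS v w g).mpr ⟨h1, h2⟩⟩, Subtype.ext h3⟩
  have hfaith : FaithfulSMul ↥(GS v w) ↥(Xs v w) := by
    refine ⟨fun {g h} H => ?_⟩
    have hk : ∀ y ∈ S v w, (g.1⁻¹ * h.1) • y = y := by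
      intro y hy
      have := congrArg Subtype.val (H ⟨y, hy⟩)
      have this' : g.1 • y = h.1 • y := this
      rw [mul_smul, ← this', inv_smul_smul]
    have hgh : g.1⁻¹ * h.1 ∈ GS v w := (GS v w).mul_mem ((GS v w).inv_mem g.2) h.2
    have hgh' := (mem_GS v w _).mp hgh
    have hk1 : (g0 * (g.1⁻¹ * h.1) * g0⁻¹) = 1 := by
      apply faithful_std
      · exact (hconj _).mp ⟨hgh'.1, hgh'.2, hk x hx⟩
      · intro y hy
        have hy' : g0⁻¹ • y ∈ S v w := by
          have := smul_mem_S g0⁻¹ hy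
          rwa [← e1, ← e2, inv_smul_smul, inv_smul_smul] at this
        rw [mul_smul, mul_smul, hk _ hy', smul_inv_smul]
    have hk2 : g.1⁻¹ * h.1 = 1 := by
      have := congrArg (fun z => g0⁻¹ * z * g0) hk1
      simpa [mul_assoc] using this
    apply Subtype.ext
    exact (inv_mul_eq_one.mp hk2)
  -- the labels
  let f : ↥(Xs v w) → Fin 3 := fun y =>
    if y = x₀ then 0 else if dotInt (x : GolayPt → ℤ) (y.1 : GolayPt → ℤ) = 8 then 1 else 2
  obtain ⟨c22, c77, hrank⟩ := rank3 v w x hv hw hvw hx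
  have hprim : MulAction.IsPreprimitive ↥(GS v w) ↥(Xs v w) := by
    apply isPreprimitive_of_labels x₀ f ![1, 22, 77]
    · intro y y' hyy
      by_cases hy : y = x₀
      · have hy' : y' = x₀ := by
          by_contra hc
          simp only [f, if_pos hy, if_neg hc] at hyy
          split_ifs at hyy <;> exact absurd hyy (by decide)
        exact ⟨1, Subgroup.one_mem _, by rw [one_smul, hy, hy']⟩
      · have hy' : y' ≠ x₀ := by
          intro hc
          simp only [f, if_neg hy, if_pos hc] at hyy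
          split_ifs at hyy <;> exact absurd hyy (by decide)
        have hiff : dotInt (x : GolayPt → ℤ) (y.1 : GolayPt → ℤ) = 8 ↔
            dotInt (x : GolayPt → ℤ) (y'.1 : GolayPt → ℤ) = 8 := by
          simp only [f, if_neg hy, if_neg hy'] at hyy
          constructor
          · intro h
            rw [if_pos h] at hyy
            by_contra hc
            rw [if_neg hc] at hyy
            exact absurd hyy (by decide)
          · intro h
            rw [if_pos h] at hyy
            by_contra hc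
            rw [if_neg hc] at hyy
            exact absurd hyy (by decide)
        obtain ⟨g, h1, h2, h3, h4⟩ := hrank y.1 y.2 y'.1 y'.2 (fun h => hy (Subtype.ext h))
          (fun h => hy' (Subtype.ext h)) hiff
        refine ⟨⟨g, (mem_GS v w g).mpr ⟨h1, h2⟩⟩, ?_, Subtype.ext h4⟩
        rw [MulAction.mem_stabilizer_iff]
        exact Subtype.ext h3
    · intro i
      fin_cases i
      · show {y : ↥(Xs v w) | f y = 0}.ncard = 1
        have : {y : ↥(Xs v w) | f y = 0} = {x₀} := by
          ext y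
          simp only [Set.mem_ofPred_eq, Set.mem_singleton_iff, f]
          constructor
          · intro h
            by_contra hc
            rw [if_neg hc] at h
            split_ifs at h <;> exact absurd h (by decide)
          · intro h
            rw [if_pos h]
        rw [this, Set.ncard_singleton]
      · show {y : ↥(Xs v w) | f y = 1}.ncard = 22
        rw [← c22]
        have : {y : ↥(Xs v w) | f y = 1} = {y : ↥(Xs v w) | dotInt (x : GolayPt → ℤ) (y.1 : GolayPt → ℤ) = 8} := by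
          ext y
          simp only [Set.mem_ofPred_eq, f]
          constructor
          · intro h
            by_contra hc
            rw [if_neg hc] at h
            split_ifs at h <;> exact absurd h (by decide)
          · intro h
            have hne : y ≠ x₀ := by
              intro hc
              rw [hc] at h
              have hxx : dotInt (x : GolayPt → ℤ) (x : GolayPt → ℤ) = 32 := by rw [dot_self, hx.1]
              rw [hxx] at h
              norm_num at h
            rw [if_neg hne, if_pos h]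
        rw [this]
        exact ncard_sub v w (S v w) (S_invariant v w) (fun y => dotInt (x : GolayPt → ℤ) (y : GolayPt → ℤ) = 8)
      · show {y : ↥(Xs v w) | f y = 2}.ncard = 77
        rw [← c77]
        have : {y : ↥(Xs v w) | f y = 2} =
            {y : ↥(Xs v w) | y.1 ≠ x ∧ dotInt (x : GolayPt → ℤ) (y.1 : GolayPt → ℤ) ≠ 8} := by
          ext y
          simp only [Set.mem_ofPred_eq, f]
          constructor
          · intro h
            by_cases hc : y = x₀
            · rw [if_pos hc] at h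
              exact absurd h (by decide)
            · rw [if_neg hc] at h
              refine ⟨fun e => hc (Subtype.ext e), ?_⟩
              intro h8
              rw [if_pos h8] at h
              exact absurd h (by decide)
          · rintro ⟨h1, h2⟩
            have hne : y ≠ x₀ := fun e => h1 (congrArg Subtype.val e)
            rw [if_neg hne, if_neg h2]
        rw [this]
        exact ncard_sub v w (S v w) (S_invariant v w)
          (fun y => y ≠ x ∧ dotInt (x : GolayPt → ℤ) (y : GolayPt → ℤ) ≠ 8)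
    · show ![1, 22, 77] (f x₀) = 1
      simp only [f, if_pos rfl]
      rfl
    · rw [hXcard]
      have hf0 : f x₀ = 0 := by simp only [f, if_pos rfl]
      rw [hf0]
      decide
  have hsimple : IsSimpleGroup ↥(GS v w) :=
    simple_of_primitive x₀ 2 5 2 2 (by norm_num) (by norm_num) (by norm_num) (by norm_num) (by norm_num)
      (by rw [hXcard]; norm_num)
  refine ⟨hsimple, ?_⟩
  have h1 := MulAction.index_stabilizer ↥(GS v w) x₀
  have h2 := Subgroup.card_mul_index (MulAction.stabilizer ↥(GS v w) x₀)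
  have h3 : MulAction.orbit ↥(GS v w) x₀ = Set.univ := MulAction.orbit_eq_univ _ x₀
  rw [h3, Set.ncard_univ, hXcard] at h1
  rw [h1, hstabcard] at h2
  rw [← h2]

end Cfsg.Agent.Helper22.HSSimple
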