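import Cfsg.Agent.Helper22.PrimSimple2
import Cfsg.Agent.Helper22.HSSimple

/-!
# The simplicity of the stabiliser of two minimal vectors of inner product `-8`
-/

set_option autoImplicit false

namespace Cfsg.Agent.Helper22.McLSimple

open Cfsg Cfsg.Agent.Helper27 Cfsg.Agent.Helper22.Co0Mono Cfsg.Agent.Helper22.CrossStab
  Cfsg.Agent.Helper22.Co0Center Cfsg.Agent.Helper22.MinTrans Cfsg.Agent.Helper22.Norm6Trans
  Cfsg.Agent.Helper22.Co0Order Cfsg.Agent.Helper22.Summands Cfsg.Agent.Helper22.Census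
  Cfsg.Agent.Helper22.QuadForm Cfsg.Agent.Helper22.LeechMod2 Cfsg.Agent.Helper22.Co3Orbit
  Cfsg.Agent.Helper22.GolayComb Cfsg.Agent.Helper22.Design Cfsg.Agent.Helper22.HS100
  Cfsg.Agent.Helper22.HS100b Cfsg.Agent.Helper22.PrimSimple Cfsg.Agent.Helper22.HSSimple
  Cfsg.Agent.Helper22.McL2025 Cfsg.Agent.Helper22.McL2025b
open scoped Pointwise

theorem piCo_t1 {σ : Equiv.Perm GolayPt} (hσ : σ ∈ M24) (h0 : σ (pt 0) = pt 0) (h1 : σ (pt 1) = pt 1) :
    piCo σ hσ • a01 = a01 ∧ piCo σ hσ • (D0 - a01) = D0 - a01 ∧ piCo σ hσ • d01 = d01 := by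
  have ht : piCo σ hσ • t1 = t1 := (smul_t1_iff _).mpr (piCo_fix hσ h0 h1)
  have ht' : (piCo σ hσ • a01, piCo σ hσ • (D0 - a01), piCo σ hσ • d01) = (a01, D0 - a01, d01) := ht
  rw [Prod.mk.injEq, Prod.mk.injEq] at ht'
  exact ht'

/-- every vector of the second family is one of the 2025 -/
theorem exists_mem_of_SB {q : Finset GolayPt × GolayPt} (hq : q ∈ SB) :
    ∃ y ∈ McL2025.X a01 (D0 - a01), (y : GolayPt → ℤ) = yB q := by
  obtain ⟨σ, hσ, h0, h1, hσq⟩ := trans_SB q2_mem hq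
  obtain ⟨f1, f2, -⟩ := piCo_t1 hσ h0 h1
  refine ⟨piCo σ hσ • y2, ?_, ?_⟩
  · have := McL2025.smul_mem_X (piCo σ hσ) y2_mem
    rwa [f1, f2] at this
  · rw [piCo_smul, y2_coe, sp_yB h1, hσq]

theorem faithful_std' {k : ↥Co0} (hk : k • t1 = t1) (hS : ∀ y ∈ McL2025.X a01 (D0 - a01), k • y = y) : k = 1 := by
  classical
  obtain ⟨σ, hσ, h0, h1, rfl⟩ := stab_t0 ((smul_t1_iff k).mp hk)
  have hσ1 : σ = 1 := by
    apply Equiv.ext
    intro j
    by_cases hj0 : j = pt 0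
    · rw [hj0, h0]; rfl
    by_cases hj1 : j = pt 1
    · rw [hj1, h1]; rfl
    obtain ⟨O, hO, hsub⟩ := KSets.exists_octad_superset {pt 0, pt 1, j} (by
      refine le_trans (Finset.card_insert_le _ _) ?_
      have := Finset.card_insert_le (pt 1) ({j} : Finset GolayPt)
      rw [Finset.card_singleton] at this
      omega)
    have hq : ((O, j) : Finset GolayPt × GolayPt) ∈ SB :=
      ⟨hO, hsub (by simp), hsub (by simp), hsub (by simp), hj0, hj1⟩
    obtain ⟨y, hy, ey⟩ := exists_mem_of_SB hq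
    have h2 : ((piCo σ hσ • y : ↥leechLattice) : GolayPt → ℤ) = (y : GolayPt → ℤ) := by rw [hS y hy]
    rw [piCo_smul, ey, sp_yB h1] at h2
    have h3 := yB_injOn (actP_mem_SB hσ h0 h1 hq) hq h2
    exact congrArg Prod.snd h3
  subst hσ1
  exact piCo_one

theorem X_invariant (v w : ↥leechLattice) :
    ∀ k : ↥Co0, k • v = v → k • w = w → ∀ y ∈ McL2025.X v w, k • y ∈ McL2025.X v w := by
  intro k h1 h2 y hy
  have := McL2025.smul_mem_X k hy
  rwa [h1, h2] at this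

/-- the 2025 with the action of the stabiliser -/
def Xm (v w : ↥leechLattice) : SubMulAction ↥(GS v w) ↥leechLattice :=
  subAct v w (McL2025.X v w) (X_invariant v w)

set_option synthInstance.maxHeartbeats 400000 in
instance instXm (v w : ↥leechLattice) : MulAction ↥(GS v w) ↥(Xm v w) := inferInstance

/-- the orbits of the point stabiliser in the subaction -/
theorem ncard_orbit_sub (v w x y : ↥leechLattice) (hx : x ∈ McL2025.X v w) (hy : y ∈ McL2025.X v w) :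
    (MulAction.orbit (MulAction.stabilizer ↥(GS v w) (⟨x, hx⟩ : ↥(Xm v w))) (⟨y, hy⟩ : ↥(Xm v w))).ncard =
      (Orb v w x y).ncard := by
  rw [← Set.ncard_image_of_injective _ Subtype.val_injective]
  congr 1
  ext z
  constructor
  · rintro ⟨z', ⟨h, rfl⟩, rfl⟩
    have hG := (mem_GS v w h.1.1).mp h.1.2
    have hs : h.1 • (⟨x, hx⟩ : ↥(Xm v w)) = ⟨x, hx⟩ := MulAction.mem_stabilizer_iff.mp h.2
    exact ⟨h.1.1, hG.1, hG.2, congrArg Subtype.val hs, rfl⟩
  · rintro ⟨g, h1, h2, h3, rfl⟩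
    refine ⟨⟨g • y, X_invariant v w g h1 h2 y hy⟩, ?_, rfl⟩
    refine ⟨⟨⟨g, (mem_GS v w g).mpr ⟨h1, h2⟩⟩, ?_⟩, rfl⟩
    rw [MulAction.mem_stabilizer_iff]
    exact Subtype.ext h3

theorem Orb_self (v w x : ↥leechLattice) : Orb v w x x = {x} := by
  ext z
  constructor
  · rintro ⟨g, -, -, h3, rfl⟩
    exact h3
  · intro hz
    rw [Set.mem_singleton_iff.mp hz]
    exact ⟨1, one_smul _ _, one_smul _ _, one_smul _ _, one_smul _ _⟩

theorem McL_simple (v w : ↥leechLattice) (hv : sqNorm (v : GolayPt → ℤ) = 32) (hw : sqNorm (w : GolayPt → ℤ) = 32)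
    (hvw : dotInt (v : GolayPt → ℤ) (w : GolayPt → ℤ) = -8) :
    IsSimpleGroup ↥(GS v w) ∧ Nat.card ↥(GS v w) = 898128000 := by
  classical
  have hne : (McL2025.X v w).Nonempty :=
    Set.nonempty_of_ncard_ne_zero (by rw [McL2025.ncard_X v w hv hw hvw]; norm_num)
  obtain ⟨x, hx⟩ := hne
  obtain ⟨g0, hg0⟩ := TM_transitive ((mem_TM v w x).mpr ⟨hv, hw, hvw, hx⟩) t1_mem
  have h3 : (g0 • v, g0 • w, g0 • x) = (a01, D0 - a01, d01) := hg0
  rw [Prod.mk.injEq, Prod.mk.injEq] at h3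
  obtain ⟨e1, e2, e3⟩ := h3
  let x₀ : ↥(Xm v w) := ⟨x, hx⟩
  have hconj1 : ∀ k : ↥Co0, (k • v = v ∧ k • w = w ∧ k • x = x) ↔ (g0 * k * g0⁻¹) • t1 = t1 := by
    intro k
    have ht : g0⁻¹ • t1 = (v, w, x) := by rw [inv_smul_eq_iff, hg0]
    rw [mul_smul, mul_smul, ht]
    constructor
    · rintro ⟨h1, h2, h3⟩
      have : k • (v, w, x) = (v, w, x) := by
        show (k • v, k • w, k • x) = (v, w, x)
        rw [h1, h2, h3]
      rw [this, hg0]
    · intro h
      rw [← hg0] at h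
      have h' : (k • v, k • w, k • x) = (v, w, x) := MulAction.injective g0 h
      rw [Prod.mk.injEq, Prod.mk.injEq] at h'
      exact h'
  have hconj : ∀ k : ↥Co0, (k • v = v ∧ k • w = w ∧ k • x = x) ↔ (g0 * k * g0⁻¹) • t0 = t0 := by
    intro k
    rw [hconj1, smul_t1_iff]
  have hst : ∀ h : ↥(GS v w), h • x₀ = x₀ ↔ (h : ↥Co0) • x = x := by
    intro h
    constructor
    · intro hh
      exact congrArg Subtype.val hh
    · intro hh
      exact Subtype.ext hh
  obtain ⟨eqv⟩ := exists_equiv (GS v w) x₀ v w x g0 (mem_GS v w) hst hconj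
  have : IsSimpleGroup ↥M22' := stabilizer_pt2_simple (pt 0) (pt 1) (by decide)
  have hsimp : IsSimpleGroup ↥(MulAction.stabilizer ↥(GS v w) x₀) := eqv.symm.isSimpleGroup
  have hstabcard : Nat.card ↥(MulAction.stabilizer ↥(GS v w) x₀) = 443520 := by
    rw [← Nat.card_congr eqv.toEquiv]
    exact card_stabilizer2_M24 (pt 0) (pt 1) (by decide)
  have hfin : Finite ↥(Xm v w) := (McL2025.finite_X v w).to_subtype
  have hXcard : Nat.card ↥(Xm v w) = 2025 := by
    have : Nat.card ↥(Xm v w) = (McL2025.X v w).ncard := Nat.card_coe_set_eq (McL2025.X v w)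
    rw [this, McL2025.ncard_X v w hv hw hvw]
  have htrans : MulAction.IsPretransitive ↥(GS v w) ↥(Xm v w) := by
    refine ⟨fun a b => ?_⟩
    obtain ⟨g, h1, h2, h3⟩ := X_transitive v w hv hw hvw a.2 b.2
    exact ⟨⟨g, (mem_GS v w g).mpr ⟨h1, h2⟩⟩, Subtype.ext h3⟩
  have hfaith : FaithfulSMul ↥(GS v w) ↥(Xm v w) := by
    refine ⟨fun {g h} H => ?_⟩
    have hk : ∀ y ∈ McL2025.X v w, (g.1⁻¹ * h.1) • y = y := by
      intro y hy
      have := congrArg Subtype.val (H ⟨y, hy⟩)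
      have this' : g.1 • y = h.1 • y := this
      rw [mul_smul, ← this', inv_smul_smul]
    have hgh : g.1⁻¹ * h.1 ∈ GS v w := (GS v w).mul_mem ((GS v w).inv_mem g.2) h.2
    have hgh' := (mem_GS v w _).mp hgh
    have hk1 : (g0 * (g.1⁻¹ * h.1) * g0⁻¹) = 1 := by
      apply faithful_std'
      · exact (hconj1 _).mp ⟨hgh'.1, hgh'.2, hk x hx⟩
      · intro y hy
        have hy' : g0⁻¹ • y ∈ McL2025.X v w := by
          have := McL2025.smul_mem_X g0⁻¹ hy
          rwa [← e2, ← e1, inv_smul_smul, inv_smul_smul] at this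
        rw [mul_smul, mul_smul, hk _ hy', smul_inv_smul]
    have hk2 : g.1⁻¹ * h.1 = 1 := by
      have := congrArg (fun z => g0⁻¹ * z * g0) hk1
      simpa [mul_assoc] using this
    apply Subtype.ext
    exact (inv_mul_eq_one.mp hk2)
  obtain ⟨y₁, m1, y₂, m2, y₃, m3, c1, c2, c3⟩ := rank4 v w x hv hw hvw hx
  have hprim : MulAction.IsPreprimitive ↥(GS v w) ↥(Xm v w) := by
    apply isPreprimitive_of_orbits x₀ ![x₀, ⟨y₁, m1⟩, ⟨y₂, m2⟩, ⟨y₃, m3⟩] ![1, 330, 462, 1232] ?_ ?_ ?_ 0 rfl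
    · rw [hXcard]
      decide
    · intro i
      fin_cases i
      · show (MulAction.orbit (MulAction.stabilizer ↥(GS v w) x₀) x₀).ncard = 1
        rw [ncard_orbit_sub v w x x hx hx, Orb_self, Set.ncard_singleton]
      · show (MulAction.orbit (MulAction.stabilizer ↥(GS v w) x₀) (⟨y₁, m1⟩ : ↥(Xm v w))).ncard = 330
        rw [ncard_orbit_sub v w x y₁ hx m1, c1]
      · show (MulAction.orbit (MulAction.stabilizer ↥(GS v w) x₀) (⟨y₂, m2⟩ : ↥(Xm v w))).ncard = 462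
        rw [ncard_orbit_sub v w x y₂ hx m2, c2]
      · show (MulAction.orbit (MulAction.stabilizer ↥(GS v w) x₀) (⟨y₃, m3⟩ : ↥(Xm v w))).ncard = 1232
        rw [ncard_orbit_sub v w x y₃ hx m3, c3]
    · decide
    · rw [hXcard]
      decide
  have hsimple : IsSimpleGroup ↥(GS v w) :=
    simple_of_primitive x₀ 3 5 4 2 (by norm_num) (by norm_num) (by norm_num) (by norm_num) (by norm_num)
      (by rw [hXcard]; norm_num)
  refine ⟨hsimple, ?_⟩
  have h1 := MulAction.index_stabilizer ↥(GS v w) x₀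
  have h2 := Subgroup.card_mul_index (MulAction.stabilizer ↥(GS v w) x₀)
  have h3 : MulAction.orbit ↥(GS v w) x₀ = Set.univ := MulAction.orbit_eq_univ _ x₀
  rw [h3, Set.ncard_univ, hXcard] at h1
  rw [h1, hstabcard] at h2
  rw [← h2]

end Cfsg.Agent.Helper22.McLSimple
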