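import Cfsg.Agent.Helper22.PairedSimple
import Cfsg.Agent.Helper22.McLSimple
import Cfsg.Agent.Helper22.McL275b

/-!
# The simplicity of the stabiliser of a lattice vector of sum of squares 48
-/

set_option autoImplicit false

namespace Cfsg.Agent.Helper22.Co3Simple

open Cfsg Cfsg.Agent.Helper27 Cfsg.Agent.Helper22.Co0Mono Cfsg.Agent.Helper22.CrossStab
  Cfsg.Agent.Helper22.Co0Center Cfsg.Agent.Helper22.MinTrans Cfsg.Agent.Helper22.Norm6Trans
  Cfsg.Agent.Helper22.Co0Order Cfsg.Agent.Helper22.Summands Cfsg.Agent.Helper22.Census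
  Cfsg.Agent.Helper22.QuadForm Cfsg.Agent.Helper22.LeechMod2 Cfsg.Agent.Helper22.Co3Orbit
  Cfsg.Agent.Helper22.GolayComb Cfsg.Agent.Helper22.Design Cfsg.Agent.Helper22.HS100
  Cfsg.Agent.Helper22.HS100b Cfsg.Agent.Helper22.McL2025 Cfsg.Agent.Helper22.McL2025b
  Cfsg.Agent.Helper22.Flag Cfsg.Agent.Helper22.Co2Trans Cfsg.Agent.Helper22.Co2Trans2
  Cfsg.Agent.Helper22.McL275 Cfsg.Agent.Helper22.McL275b Cfsg.Agent.Helper22.HSSimple
  Cfsg.Agent.Helper22.McLSimple Cfsg.Agent.Helper22.PairedSimple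
open scoped Pointwise

/-! ### The standard frame -/

/-- a summand of the first family -/
def yA (j : GolayPt) (hj : j ≠ pt 0) : ↥leechLattice := ⟨fA j, (fA_mem_Sm hj).1⟩

theorem yA_mem (j : GolayPt) (hj : j ≠ pt 0) : yA j hj ∈ Summands.T D0 :=
  ⟨(fA_mem_Sm hj).2.1, (fA_mem_Sm hj).2.2⟩

theorem h0_oct8 : pt 0 ∈ maskSet 18147 := by decide +kernel

theorem yB8_mem_T : yB8 ∈ Summands.T D0 :=
  ⟨(fB_mem_Sm oct8 h0_oct8).2.1, (fB_mem_Sm oct8 h0_oct8).2.2⟩

/-- a relation among nine summands -/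
theorem relation9 : yA (pt 1) (by decide) + yA (pt 5) (by decide) + yA (pt 6) (by decide) + yA (pt 7) (by decide) +
    yA (pt 9) (by decide) + yA (pt 10) (by decide) + yA (pt 14) (by decide) = e + e + e + yB8 + yB8 := by
  apply Subtype.ext
  show fA (pt 1) + fA (pt 5) + fA (pt 6) + fA (pt 7) + fA (pt 9) + fA (pt 10) + fA (pt 14) =
    (Pi.single (pt 0) 8 : GolayPt → ℤ) + Pi.single (pt 0) 8 + Pi.single (pt 0) 8 + fB (maskSet 18147) +
      fB (maskSet 18147)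
  decide +kernel

theorem coe_add' (a b : ↥leechLattice) : ((a + b : ↥leechLattice) : GolayPt → ℤ) = (a : GolayPt → ℤ) + b := rfl

theorem coe_sub' (a b : ↥leechLattice) : ((a - b : ↥leechLattice) : GolayPt → ℤ) = (a : GolayPt → ℤ) - b := rfl

/-- no element of the group sends every summand of the standard vector to the complementary summand -/
theorem no_tau_std (k : ↥Co0) (hk : ∀ x ∈ Summands.T D0, k • x = D0 - x) : False := by
  have h := congrArg (fun w => k • w) relation9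
  simp only [co0_add] at h
  rw [hk _ (yA_mem _ _), hk _ (yA_mem _ _), hk _ (yA_mem _ _), hk _ (yA_mem _ _), hk _ (yA_mem _ _),
    hk _ (yA_mem _ _), hk _ (yA_mem _ _), hk _ yB8_mem_T] at h
  have h2 := congrArg (fun w : ↥leechLattice => (w : GolayPt → ℤ) (pt 2)) h
  simp only [coe_add', coe_sub', Pi.add_apply, Pi.sub_apply] at h2
  have hD : (D0 : GolayPt → ℤ) (pt 2) = 1 := by decide +kernel
  have hB : (yB8 : GolayPt → ℤ) (pt 2) = 0 := by
    show fB (maskSet 18147) (pt 2) = 0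
    decide +kernel
  have hA : ∀ (j : GolayPt) (hj : j ≠ pt 0), j ≠ pt 2 → (yA j hj : GolayPt → ℤ) (pt 2) = 0 := by
    intro j hj hj2
    show fA j (pt 2) = 0
    rw [fA_two hj, if_neg hj2]
  rw [hD, hB, hA _ _ (by decide), hA _ _ (by decide), hA _ _ (by decide), hA _ _ (by decide), hA _ _ (by decide),
    hA _ _ (by decide), hA _ _ (by decide)] at h2
  omega

/-! ### The action on the summands -/

/-- the group -/
def G3 (u : ↥leechLattice) : Subgroup ↥Co0 := MulAction.stabilizer ↥Co0 u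

theorem mem_G3 (u : ↥leechLattice) (k : ↥Co0) : k ∈ G3 u ↔ k • u = u := MulAction.mem_stabilizer_iff

/-- the summands with the action of the stabiliser -/
def Tm (u : ↥leechLattice) : SubMulAction ↥(G3 u) ↥leechLattice where
  carrier := Summands.T u
  smul_mem' := fun g x hx => by
    have := smul_mem_T g.1 hx
    rwa [(mem_G3 u g.1).mp g.2] at this

set_option synthInstance.maxHeartbeats 400000 in
instance instTm (u : ↥leechLattice) : MulAction ↥(G3 u) ↥(Tm u) := inferInstance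

theorem sub_mem_T {u x : ↥leechLattice} (hx : x ∈ Summands.T u) : u - x ∈ Summands.T u := by
  obtain ⟨h1, h2⟩ := hx
  refine ⟨h2, ?_⟩
  have : (u : GolayPt → ℤ) - ((u - x : ↥leechLattice) : GolayPt → ℤ) = (x : GolayPt → ℤ) := by
    rw [coe_sub']
    abel
  rw [this]
  exact h1

/-- the complementary summand -/
def tau (u : ↥leechLattice) (x : ↥(Tm u)) : ↥(Tm u) := ⟨u - x.1, sub_mem_T x.2⟩

theorem tau_smul (u : ↥leechLattice) (g : ↥(G3 u)) (x : ↥(Tm u)) : tau u (g • x) = g • tau u x := by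
  apply Subtype.ext
  show u - g.1 • x.1 = g.1 • (u - x.1)
  rw [co0_sub, (mem_G3 u g.1).mp g.2]

theorem tau_tau (u : ↥leechLattice) (x : ↥(Tm u)) : tau u (tau u x) = x := by
  apply Subtype.ext
  show u - (u - x.1) = x.1
  abel

theorem dot_of_mem_T {u x : ↥leechLattice} (hu : sqNorm (u : GolayPt → ℤ) = 48) (hx : x ∈ Summands.T u) :
    dotInt (u : GolayPt → ℤ) (x : GolayPt → ℤ) = 24 := by
  obtain ⟨h1, h2⟩ := hx
  rw [Summands.sqNorm_sub, hu, h1] at h2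
  omega

/-- the inner products of two summands -/
theorem ip_cases {u v x : ↥leechLattice} (hu : sqNorm (u : GolayPt → ℤ) = 48) (hv : v ∈ Summands.T u)
    (hx : x ∈ Summands.T u) : x = v ∨ x = u - v ∨ dotInt (v : GolayPt → ℤ) (x : GolayPt → ℤ) = 16 ∨
      dotInt (v : GolayPt → ℤ) (x : GolayPt → ℤ) = 8 := by
  by_cases h1 : x = v
  · exact Or.inl h1
  by_cases h2 : x = u - v
  · exact Or.inr (Or.inl h2)
  right; right
  have hux := dot_of_mem_T hu hx
  have n1 : 32 ≤ sqNorm ((v - x : ↥leechLattice) : GolayPt → ℤ) := by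
    apply sqNorm_ge (v - x).2
    intro h0
    apply h1
    have : v - x = 0 := Subtype.ext h0
    exact (sub_eq_zero.mp this).symm
  have d1 := sqNorm_dvd (v - x).2
  rw [coe_sub', Summands.sqNorm_sub, hv.1, hx.1] at n1 d1
  have n2 : 32 ≤ sqNorm ((u - v - x : ↥leechLattice) : GolayPt → ℤ) := by
    apply sqNorm_ge (u - v - x).2
    intro h0
    apply h2
    have : u - v - x = 0 := Subtype.ext h0
    exact (sub_eq_zero.mp this).symm
  have h3 : sqNorm ((u - v : ↥leechLattice) : GolayPt → ℤ) = 32 := hv.2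
  rw [coe_sub', Summands.sqNorm_sub, hx.1, h3, coe_sub', dot_sub_left, hux] at n2
  obtain ⟨c, hc⟩ := d1
  omega

theorem a01_mem_T : a01 ∈ Summands.T D0 := by
  obtain ⟨ha, hb, -, -⟩ := (mem_TM a01 (D0 - a01) d01).mp t1_mem
  exact ⟨ha, hb⟩

theorem mem_T_of_mem_Y {u v y : ↥leechLattice} (hy : y ∈ Y u v) : y ∈ Summands.T u := ⟨hy.1, hy.2.1⟩

/-- the stabiliser of a vector of sum of squares 48 is simple of order 495766656000 -/
theorem Co3_simple (u : ↥leechLattice) (hu : sqNorm (u : GolayPt → ℤ) = 48) :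
    IsSimpleGroup ↥(G3 u) ∧ Nat.card ↥(G3 u) = 495766656000 := by
  classical
  obtain ⟨g1, hg1⟩ := norm6_to_d0 u hu
  have hg1' : g1 • u = D0 := Subtype.ext hg1
  have hg1i : g1⁻¹ • D0 = u := by rw [← hg1', inv_smul_smul]
  obtain ⟨v, hvdef⟩ : ∃ v : ↥leechLattice, v = g1⁻¹ • a01 := ⟨_, rfl⟩
  have hg1v : g1⁻¹ • a01 = v := hvdef.symm
  have hvT : v ∈ Summands.T u := by
    have := smul_mem_T g1⁻¹ a01_mem_T
    rwa [hg1i, hg1v] at this
  have hv : sqNorm (v : GolayPt → ℤ) = 32 := hvT.1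
  have huv : sqNorm ((u - v : ↥leechLattice) : GolayPt → ℤ) = 32 := hvT.2
  have hdotuv : dotInt (u : GolayPt → ℤ) (v : GolayPt → ℤ) = 24 := dot_of_mem_T hu hvT
  have hdotvu : dotInt (v : GolayPt → ℤ) (u : GolayPt → ℤ) = 24 := by rw [dot_comm', hdotuv]
  have toY : ∀ y : ↥leechLattice, y ∈ Y D0 a01 → g1⁻¹ • y ∈ Y u v := by
    intro y hy
    have := smul_mem_Y g1⁻¹ hy
    rwa [hg1i, hg1v] at this
  let v₀ : ↥(Tm u) := ⟨v, hvT⟩
  let A : Set ↥(Tm u) := {x | x.1 ∈ Y u v}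
  have hTcard : (Summands.T u).ncard = 552 := ncard_T u hu
  have hfin : Finite ↥(Tm u) :=
    (Set.finite_of_ncard_ne_zero (s := Summands.T u) (by rw [hTcard]; norm_num)).to_subtype
  have hcard : Nat.card ↥(Tm u) = 552 := by
    have : Nat.card ↥(Tm u) = (Summands.T u).ncard := Nat.card_coe_set_eq (Summands.T u)
    rw [this, hTcard]
  have hA : A.ncard = 275 := by
    rw [← ncard_Y u v hu hv huv, ← Set.ncard_image_of_injective _ Subtype.val_injective]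
    congr 1
    ext y
    constructor
    · rintro ⟨z, hz, rfl⟩
      exact hz
    · intro hy
      exact ⟨⟨y, mem_T_of_mem_Y hy⟩, hy, rfl⟩
  have hdisj : ∀ x ∈ A, tau u x ∉ A := by
    intro x hx hx'
    have h1 : dotInt (v : GolayPt → ℤ) (x.1 : GolayPt → ℤ) = 16 := hx.2.2
    have h2 : dotInt (v : GolayPt → ℤ) ((u - x.1 : ↥leechLattice) : GolayPt → ℤ) = 16 := hx'.2.2
    rw [coe_sub', dot_sub_right, hdotvu, h1] at h2
    omega
  have hcover : ∀ x : ↥(Tm u), x = v₀ ∨ x = tau u v₀ ∨ x ∈ A ∨ tau u x ∈ A := by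
    intro x
    rcases ip_cases hu hvT x.2 with h | h | h | h
    · exact Or.inl (Subtype.ext h)
    · exact Or.inr (Or.inl (Subtype.ext h))
    · exact Or.inr (Or.inr (Or.inl ⟨x.2.1, x.2.2, h⟩))
    · refine Or.inr (Or.inr (Or.inr ⟨(sub_mem_T x.2).1, (sub_mem_T x.2).2, ?_⟩))
      show dotInt (v : GolayPt → ℤ) ((u - x.1 : ↥leechLattice) : GolayPt → ℤ) = 16
      rw [coe_sub', dot_sub_right, hdotvu, h]
      norm_num
  have hStr : ∀ a ∈ A, ∀ b ∈ A, ∃ s : ↥(G3 u), s • v₀ = v₀ ∧ s • a = b := by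
    intro a ha b hb
    obtain ⟨g, h1, h2, h3⟩ := Y_transitive u v hu hv huv ha hb
    exact ⟨⟨g, (mem_G3 u g).mpr h1⟩, Subtype.ext h2, Subtype.ext h3⟩
  have hvw : dotInt (v : GolayPt → ℤ) ((u - v : ↥leechLattice) : GolayPt → ℤ) = -8 := by
    rw [coe_sub', dot_sub_right, hdotvu, dot_self, hv]
    norm_num
  obtain ⟨hMs, hMc⟩ := McL_simple v (u - v) hv huv hvw
  let eqv : ↥(MulAction.stabilizer ↥(G3 u) v₀) ≃* ↥(GS v (u - v)) :=
    { toFun := fun h => ⟨h.1.1, (mem_GS _ _ _).mpr ⟨congrArg Subtype.val (MulAction.mem_stabilizer_iff.mp h.2), by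
        have e1 : h.1.1 • v = v := congrArg Subtype.val (MulAction.mem_stabilizer_iff.mp h.2)
        rw [co0_sub, (mem_G3 u _).mp h.1.2, e1]⟩⟩
      invFun := fun k => ⟨⟨k.1, (mem_G3 u k.1).mpr (by
        obtain ⟨e1, e2⟩ := (mem_GS _ _ _).mp k.2
        have h3 : k.1 • (v + (u - v)) = v + (u - v) := by rw [co0_add, e1, e2]
        have h4 : v + (u - v) = u := by abel
        rwa [h4] at h3)⟩, MulAction.mem_stabilizer_iff.mpr (Subtype.ext ((mem_GS _ _ _).mp k.2).1)⟩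
      left_inv := fun h => rfl
      right_inv := fun k => rfl
      map_mul' := fun a b => rfl }
  have hsimp : IsSimpleGroup ↥(MulAction.stabilizer ↥(G3 u) v₀) := eqv.isSimpleGroup
  have hstabcard : Nat.card ↥(MulAction.stabilizer ↥(G3 u) v₀) = 898128000 := by
    rw [Nat.card_congr eqv.toEquiv, hMc]
  -- the two inhomogeneous pairs
  have mA2 : g1⁻¹ • yA2 ∈ Y u v := toY _ yA2_mem_Y
  have mA3 : g1⁻¹ • yA3 ∈ Y u v := toY _ ((mem_Y_std _).mpr yA3_mem)
  have mB8 : g1⁻¹ • yB8 ∈ Y u v := toY _ ((mem_Y_std _).mpr yB8_mem)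
  have neB : yB8 ≠ yA2 := ne_of_ipx (by rw [ipx_yB8]; norm_num)
  have neA : yA3 ≠ yA2 := ne_of_ipx (by rw [ipx_yA3]; norm_num)
  have dB : dotInt ((g1⁻¹ • yA2 : ↥leechLattice) : GolayPt → ℤ) ((g1⁻¹ • yB8 : ↥leechLattice) : GolayPt → ℤ) = 8 := by
    rw [co0_dot, dot_yA2, ipx_yB8]
  have dA : dotInt ((g1⁻¹ • yA2 : ↥leechLattice) : GolayPt → ℤ) ((g1⁻¹ • yA3 : ↥leechLattice) : GolayPt → ℤ) = 16 := by
    rw [co0_dot, dot_yA2, ipx_yA3]
  have h2A : ∃ y1 ∈ A, ∃ y2 ∈ A, y1 ≠ y2 ∧ ∀ g : ↥(G3 u), ¬ (g • v₀ = y1 ∧ g • y1 = y2) := by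
    refine ⟨⟨g1⁻¹ • yA2, mem_T_of_mem_Y mA2⟩, mA2, ⟨g1⁻¹ • yB8, mem_T_of_mem_Y mB8⟩, mB8, ?_, ?_⟩
    · intro h
      have h' : g1⁻¹ • yA2 = g1⁻¹ • yB8 := congrArg Subtype.val h
      exact neB (MulAction.injective g1⁻¹ h').symm
    · rintro g ⟨e1, e2⟩
      have e1' : g.1 • v = g1⁻¹ • yA2 := congrArg Subtype.val e1
      have e2' : g.1 • (g1⁻¹ • yA2) = g1⁻¹ • yB8 := congrArg Subtype.val e2
      have h16 : dotInt (v : GolayPt → ℤ) ((g1⁻¹ • yA2 : ↥leechLattice) : GolayPt → ℤ) = 16 := mA2.2.2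
      rw [← co0_dot g.1, e1', e2', dB] at h16
      omega
  have h2B : ∃ y1 ∈ tau u ⁻¹' A, ∃ y2 ∈ tau u ⁻¹' A, y1 ≠ y2 ∧
      ∀ g : ↥(G3 u), ¬ (g • v₀ = y1 ∧ g • y1 = y2) := by
    refine ⟨tau u ⟨g1⁻¹ • yA2, mem_T_of_mem_Y mA2⟩, ?_, tau u ⟨g1⁻¹ • yA3, mem_T_of_mem_Y mA3⟩, ?_, ?_, ?_⟩
    · show tau u (tau u _) ∈ A
      rw [tau_tau]
      exact mA2
    · show tau u (tau u _) ∈ A
      rw [tau_tau]
      exact mA3
    · intro h
      have h1 := congrArg (tau u) h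
      rw [tau_tau, tau_tau] at h1
      have h' : g1⁻¹ • yA2 = g1⁻¹ • yA3 := congrArg Subtype.val h1
      exact neA (MulAction.injective g1⁻¹ h').symm
    · rintro g ⟨e1, e2⟩
      have f1 := congrArg (tau u) e1
      have f2 := congrArg (tau u) e2
      rw [tau_smul, tau_tau] at f1
      rw [tau_smul, tau_tau, tau_tau] at f2
      have e1' : g.1 • (u - v) = g1⁻¹ • yA2 := congrArg Subtype.val f1
      have e2' : g.1 • (g1⁻¹ • yA2) = g1⁻¹ • yA3 := congrArg Subtype.val f2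
      have h16 : dotInt (v : GolayPt → ℤ) ((g1⁻¹ • yA2 : ↥leechLattice) : GolayPt → ℤ) = 16 := mA2.2.2
      have h24 := dot_of_mem_T hu (mem_T_of_mem_Y mA2)
      have h8 : dotInt ((u - v : ↥leechLattice) : GolayPt → ℤ) ((g1⁻¹ • yA2 : ↥leechLattice) : GolayPt → ℤ) = 8 := by
        rw [coe_sub', dot_sub_left, h24, h16]
        norm_num
      rw [← co0_dot g.1, e1', e2', dA] at h8
      omega
  have hnoτ : ¬ ∃ g : ↥(G3 u), ∀ x : ↥(Tm u), g • x = tau u x := by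
    rintro ⟨g, hg⟩
    apply no_tau_std (g1 * g.1 * g1⁻¹)
    intro x hx
    have hx' : g1⁻¹ • x ∈ Summands.T u := by
      have := smul_mem_T g1⁻¹ hx
      rwa [hg1i] at this
    have h1 : g.1 • (g1⁻¹ • x) = u - g1⁻¹ • x := congrArg Subtype.val (hg ⟨g1⁻¹ • x, hx'⟩)
    rw [mul_smul, mul_smul, h1, co0_sub, hg1', smul_inv_smul]
  have htrans : MulAction.IsPretransitive ↥(G3 u) ↥(Tm u) := by
    refine ⟨fun x y => ?_⟩
    obtain ⟨g, h1, h2⟩ := to_std u x.1 hu x.2.1 x.2.2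
    obtain ⟨g', h1', h2'⟩ := to_std u y.1 hu y.2.1 y.2.2
    refine ⟨⟨g'⁻¹ * g, (mem_G3 u _).mpr ?_⟩, Subtype.ext ?_⟩
    · rw [mul_smul, h1, ← h1', inv_smul_smul]
    · show (g'⁻¹ * g) • x.1 = y.1
      rw [mul_smul, h2, ← h2', inv_smul_smul]
  have hsimple : IsSimpleGroup ↥(G3 u) :=
    simple_of_paired (tau u) (tau_smul u) (tau_tau u) v₀ A hcard hA hdisj hcover hStr hsimp h2A h2B hnoτ
  refine ⟨hsimple, ?_⟩
  have h1 := MulAction.index_stabilizer ↥(G3 u) v₀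
  have h2 := Subgroup.card_mul_index (MulAction.stabilizer ↥(G3 u) v₀)
  have h3 : MulAction.orbit ↥(G3 u) v₀ = Set.univ := MulAction.orbit_eq_univ _ v₀
  rw [h3, Set.ncard_univ, hcard] at h1
  rw [h1, hstabcard] at h2
  rw [← h2]

end Cfsg.Agent.Helper22.Co3Simple
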