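import Cfsg.Agent.Helper22.Co0Order
import Cfsg.Agent.Helper22.Co2Trans2
import Cfsg.Agent.Helper22.GolayComb

/-!
# The decompositions of a vector of sum of squares 48 into two minimal vectors
-/

set_option autoImplicit false

namespace Cfsg.Agent.Helper22.Summands

open Cfsg Cfsg.Agent.Helper27 Cfsg.Agent.Helper22.Co0Mono Cfsg.Agent.Helper22.CrossStab
  Cfsg.Agent.Helper22.Co0Center Cfsg.Agent.Helper22.LeechShapes Cfsg.Agent.Helper22.Xi
  Cfsg.Agent.Helper22.MinTrans Cfsg.Agent.Helper22.Norm6Trans Cfsg.Agent.Helper22.Norm8Trans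
  Cfsg.Agent.Helper22.Co2Trans Cfsg.Agent.Helper22.Co2Trans2 Cfsg.Agent.Helper22.Co0Order
  Cfsg.Agent.Helper22.Design Cfsg.Agent.Helper22.GolayComb
open scoped Pointwise

/-! ### Generalities -/

theorem sqNorm_sub (a b : GolayPt → ℤ) : sqNorm (a - b) = sqNorm a + sqNorm b - 2 * dotInt a b := by
  simp only [sqNorm, dotInt, Pi.sub_apply, Finset.mul_sum, ← Finset.sum_add_distrib, ← Finset.sum_sub_distrib]
  apply Finset.sum_congr rfl
  intro i _
  ring

theorem d0_mem : d0 ∈ leechLattice := by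
  rw [mem_leechLattice_iff]
  refine ⟨1, fun q => if q = pt 0 then 2 else 0, ?_, ?_, ?_⟩
  · intro q
    unfold d0
    by_cases hq : q = pt 0
    · simp only [if_pos hq]; norm_num
    · simp only [if_neg hq]; norm_num
  · have : ∑ q, d0 q = 28 := by decide +kernel
    rw [this]
    decide
  · have : redW (fun q => if q = pt 0 then (2 : ℤ) else 0) = 0 := by
      funext q
      simp only [redW, Pi.zero_apply]
      rw [ZMod.intCast_zmod_eq_zero_iff_dvd]
      split_ifs <;> norm_num
    rw [this]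
    exact golayCode.zero_mem

theorem sqNorm_d0 : sqNorm d0 = 48 := by decide +kernel

theorem dot_d0 (x : GolayPt → ℤ) : dotInt d0 x = 4 * x (pt 0) + ∑ p, x p := by
  classical
  unfold dotInt d0
  have : ∀ p, (if p = pt 0 then (5 : ℤ) else 1) * x p = (if p = pt 0 then 4 * x p else 0) + x p := by
    intro p
    split_ifs <;> ring
  simp only [this, Finset.sum_add_distrib, Finset.sum_ite_eq', Finset.mem_univ, if_true]

/-- the base vector as a lattice vector -/
def D0 : ↥leechLattice := ⟨d0, d0_mem⟩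

/-- the summands: minimal vectors whose difference from the base vector is minimal -/
def Sm : Set (GolayPt → ℤ) := {x | x ∈ leechLattice ∧ sqNorm x = 32 ∧ sqNorm (d0 - x) = 32}

theorem mem_Sm_iff (x : GolayPt → ℤ) : x ∈ Sm ↔ x ∈ leechLattice ∧ sqNorm x = 32 ∧ 4 * x (pt 0) + ∑ p, x p = 24 := by
  unfold Sm
  simp only [Set.mem_ofPred_eq]
  constructor
  · rintro ⟨h1, h2, h3⟩
    refine ⟨h1, h2, ?_⟩
    rw [sqNorm_sub, sqNorm_d0, h2, dot_d0] at h3
    linarith
  · rintro ⟨h1, h2, h3⟩
    refine ⟨h1, h2, ?_⟩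
    rw [sqNorm_sub, sqNorm_d0, h2, dot_d0]
    linarith

/-! ### The even summands -/

/-- the summand `4 e_j + 4 e_0` -/
def fA (j : GolayPt) : GolayPt → ℤ := Pi.single j 4 + Pi.single (pt 0) 4

/-- the summand `2 · 1_O` -/
def fB (O : Finset GolayPt) : GolayPt → ℤ := fun p => if p ∈ O then 2 else 0

theorem fA_mem_Sm {j : GolayPt} (hj : j ≠ pt 0) : fA j ∈ Sm := by
  rw [mem_Sm_iff]
  refine ⟨(U j).2, sqNorm_U hj, ?_⟩
  unfold fA
  simp only [Pi.add_apply, Finset.sum_add_distrib, Finset.sum_pi_single', Finset.mem_univ, if_true,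
    Pi.single_eq_same, Pi.single_eq_of_ne (Ne.symm hj)]
  norm_num

theorem fB_eq {w : GolayPt → ZMod 2} : fB (support₂ w) = fun i => 2 * ((w i).val : ℤ) := by
  funext p
  unfold fB
  have h : ∀ z : ZMod 2, (z ≠ 0 → ((z.val : ℤ)) = 1) ∧ (z = 0 → ((z.val : ℤ)) = 0) := by decide
  by_cases hp : p ∈ support₂ w
  · rw [if_pos hp]
    have : w p ≠ 0 := by simpa [support₂] using hp
    rw [(h (w p)).1 this]
    norm_num
  · rw [if_neg hp]
    have : w p = 0 := by simpa [support₂] using hp
    rw [(h (w p)).2 this]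
    norm_num

theorem sum_fB (O : Finset GolayPt) : ∑ p, fB O p = 2 * (O.card : ℤ) := by
  classical
  unfold fB
  rw [Finset.sum_ite_mem, Finset.sum_const, nsmul_eq_mul]
  simp only [Finset.univ_inter]
  ring

theorem sqNorm_fB (O : Finset GolayPt) : sqNorm (fB O) = 4 * (O.card : ℤ) := by
  classical
  unfold sqNorm fB
  have : ∀ p, (if p ∈ O then (2 : ℤ) else 0) ^ 2 = if p ∈ O then 4 else 0 := by
    intro p
    split_ifs <;> norm_num
  simp only [this]
  rw [Finset.sum_ite_mem, Finset.sum_const, nsmul_eq_mul]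
  simp only [Finset.univ_inter]
  ring

theorem fB_mem_Sm {O : Finset GolayPt} (hO : O ∈ octads) (h0 : pt 0 ∈ O) : fB O ∈ Sm := by
  rw [mem_Sm_iff]
  obtain ⟨⟨w, hw, rfl⟩, hcard⟩ := hO
  refine ⟨?_, ?_, ?_⟩
  · rw [fB_eq]
    exact two_word_mem hw
  · rw [sqNorm_fB, hcard]
    norm_num
  · rw [sum_fB, hcard]
    unfold fB
    rw [if_pos h0]
    norm_num

/-- the even summands are the vectors `4 e_j + 4 e_0` and `2 · 1_O` -/
theorem even_Sm {x : GolayPt → ℤ} (hx : x ∈ Sm) (hev : x (pt 0) % 2 = 0) :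
    (∃ j, j ≠ pt 0 ∧ x = fA j) ∨ (∃ O, O ∈ octads ∧ pt 0 ∈ O ∧ x = fB O) := by
  classical
  obtain ⟨hmem, hn, hdot⟩ := (mem_Sm_iff x).mp hx
  rcases min_shapes hmem hn with h | h | h
  · left
    obtain ⟨i, j, hij, hi, hj, hrest⟩ := h
    have hsum : ∑ p, x p = x i + x j := by
      rw [← Finset.sum_subset (Finset.subset_univ {i, j}) (fun p _ hp => by
        simp only [Finset.mem_insert, Finset.mem_singleton, not_or] at hp
        exact hrest p hp.1 hp.2), Finset.sum_pair hij]
    rw [hsum] at hdot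
    have main : ∀ a b : GolayPt, a ≠ b → a = pt 0 → (x a = 4 ∨ x a = -4) → (x b = 4 ∨ x b = -4) →
        (∀ p, p ≠ a → p ≠ b → x p = 0) → 4 * x (pt 0) + (x a + x b) = 24 → ∃ j, j ≠ pt 0 ∧ x = fA j := by
      intro a b hab ha0 ha hb hr hd
      subst ha0
      have e0 : x (pt 0) = 4 := by rcases ha with h | h <;> rcases hb with h' | h' <;> omega
      have eb : x b = 4 := by rcases ha with h | h <;> rcases hb with h' | h' <;> omega
      refine ⟨b, Ne.symm hab, ?_⟩
      funext p
      unfold fA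
      simp only [Pi.add_apply]
      by_cases hp0 : p = pt 0
      · subst hp0
        rw [Pi.single_eq_same, Pi.single_eq_of_ne hab, e0]
        norm_num
      · rw [Pi.single_eq_of_ne hp0]
        by_cases hpb : p = b
        · subst hpb
          rw [Pi.single_eq_same, eb]
          norm_num
        · rw [Pi.single_eq_of_ne hpb, hr p hp0 hpb]
          norm_num
    by_cases hi0 : i = pt 0
    · exact main i j hij hi0 hi hj hrest hdot
    · by_cases hj0 : j = pt 0
      · exact main j i (Ne.symm hij) hj0 hj hi (fun p hpj hpi => hrest p hpi hpj) (by linarith)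
      · exfalso
        have := hrest (pt 0) (Ne.symm hi0) (Ne.symm hj0)
        rcases hi with h | h <;> rcases hj with h' | h' <;> omega
  · right
    obtain ⟨O, hO, hval, hzero⟩ := h
    have hsum : ∑ p, x p = ∑ p ∈ O, x p :=
      (Finset.sum_subset (Finset.subset_univ O) (fun p _ hp => hzero p hp)).symm
    have hle : ∀ p ∈ O, 0 ≤ 2 - x p := by
      intro p hp
      rcases hval p hp with h | h <;> omega
    have hdef : ∑ p ∈ O, (2 - x p) = 16 - ∑ p ∈ O, x p := by
      rw [Finset.sum_sub_distrib, Finset.sum_const, hO.2]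
      norm_num
    have hnn : 0 ≤ ∑ p ∈ O, (2 - x p) := Finset.sum_nonneg hle
    rw [hsum] at hdot
    have h0 : pt 0 ∈ O := by
      by_contra hc
      have := hzero _ hc
      omega
    have e0 : x (pt 0) = 2 := by
      rcases hval _ h0 with h | h
      · exact h
      · omega
    have hall := (Finset.sum_eq_zero_iff_of_nonneg hle).mp (by omega)
    refine ⟨O, hO, h0, ?_⟩
    funext p
    unfold fB
    by_cases hp : p ∈ O
    · rw [if_pos hp]
      have := hall p hp
      omega
    · rw [if_neg hp]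
      exact hzero p hp
  · exfalso
    have := shapeC_entry h (pt 0)
    omega

/-! ### Counting -/

theorem fA_injective : Function.Injective fA := by
  intro j j' h
  by_contra hne
  have := congrFun h j
  unfold fA at this
  simp only [Pi.add_apply, Pi.single_eq_same, Pi.single_eq_of_ne hne] at this
  by_cases h0 : j = pt 0
  · subst h0
    have h2 := congrFun h j'
    unfold fA at h2
    simp only [Pi.add_apply, Pi.single_eq_same, Pi.single_eq_of_ne (Ne.symm hne)] at h2
    omega
  · rw [Pi.single_eq_of_ne h0] at this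
    omega

theorem fB_injective : Function.Injective fB := by
  intro O O' h
  ext p
  have := congrFun h p
  unfold fB at this
  by_cases hp : p ∈ O <;> by_cases hp' : p ∈ O' <;> simp [hp, hp'] at this ⊢

/-- the even summands as a finite set -/
noncomputable def EvF : Finset (GolayPt → ℤ) :=
  ((Finset.univ.erase (pt 0)).image fA) ∪ ((octThrough {pt 0}).image fB)

theorem card_EvF : EvF.card = 276 := by
  classical
  unfold EvF
  rw [Finset.card_union_of_disjoint, Finset.card_image_of_injective _ fA_injective,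
    Finset.card_image_of_injective _ fB_injective, Finset.card_erase_of_mem (Finset.mem_univ _), Finset.card_univ,
    GolayComb.card_golayPt]
  · have : (octThrough {pt 0}).card = 253 :=
      lam1_5824 GolayComb.card_golayPt octads_steiner {pt 0} (Finset.card_singleton _)
    rw [this]
  · rw [Finset.disjoint_left]
    intro x hx hx'
    rw [Finset.mem_image] at hx hx'
    obtain ⟨j, -, rfl⟩ := hx
    obtain ⟨O, -, hO⟩ := hx'
    have := congrFun hO (pt 0)
    unfold fA fB at this
    simp only [Pi.add_apply, Pi.single_eq_same] at this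
    by_cases hj : pt 0 = j
    · subst hj
      rw [Pi.single_eq_same] at this
      split_ifs at this <;> omega
    · rw [Pi.single_eq_of_ne hj] at this
      split_ifs at this <;> omega

theorem mem_EvF (x : GolayPt → ℤ) : x ∈ EvF ↔ x ∈ Sm ∧ x (pt 0) % 2 = 0 := by
  classical
  unfold EvF
  rw [Finset.mem_union, Finset.mem_image, Finset.mem_image]
  constructor
  · rintro (⟨j, hj, rfl⟩ | ⟨O, hO, rfl⟩)
    · rw [Finset.mem_erase] at hj
      refine ⟨fA_mem_Sm hj.1, ?_⟩
      unfold fA
      simp only [Pi.add_apply, Pi.single_eq_same, Pi.single_eq_of_ne (Ne.symm hj.1)]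
      norm_num
    · rw [mem_octThrough, Finset.singleton_subset_iff] at hO
      refine ⟨fB_mem_Sm hO.1 hO.2, ?_⟩
      unfold fB
      rw [if_pos hO.2]
      norm_num
  · rintro ⟨hx, hev⟩
    rcases even_Sm hx hev with ⟨j, hj, rfl⟩ | ⟨O, hO, h0, rfl⟩
    · exact Or.inl ⟨j, Finset.mem_erase.mpr ⟨hj, Finset.mem_univ _⟩, rfl⟩
    · exact Or.inr ⟨O, (mem_octThrough _ _).mpr ⟨hO, Finset.singleton_subset_iff.mpr h0⟩, rfl⟩

/-- the involution `x ↦ d0 - x` of the summands -/
theorem sub_mem_Sm {x : GolayPt → ℤ} (hx : x ∈ Sm) : d0 - x ∈ Sm := by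
  obtain ⟨h1, h2, h3⟩ := hx
  refine ⟨leechLattice.sub_mem d0_mem h1, h3, ?_⟩
  rw [sub_sub_cancel]
  exact h2

theorem ncard_Sm : Sm.ncard = 552 := by
  classical
  have hsplit : Sm = (EvF : Set (GolayPt → ℤ)) ∪ ((EvF.image (fun x => d0 - x) : Finset (GolayPt → ℤ)) : Set _) := by
    ext x
    rw [Set.mem_union, Finset.mem_coe, Finset.mem_coe, Finset.mem_image, mem_EvF]
    constructor
    · intro hx
      have hpar : x (pt 0) % 2 = 0 ∨ x (pt 0) % 2 = 1 := by omega
      rcases hpar with h | h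
      · exact Or.inl ⟨hx, h⟩
      · right
        refine ⟨d0 - x, (mem_EvF _).mpr ⟨sub_mem_Sm hx, ?_⟩, by rw [sub_sub_cancel]⟩
        show (d0 (pt 0) - x (pt 0)) % 2 = 0
        have : d0 (pt 0) = 5 := by unfold d0; rw [if_pos rfl]
        rw [this]
        omega
    · rintro (h | ⟨y, hy, rfl⟩)
      · exact h.1
      · exact sub_mem_Sm ((mem_EvF y).mp hy).1
  have hinj : Function.Injective (fun x : GolayPt → ℤ => d0 - x) := by
    intro a b h
    exact sub_right_injective h
  rw [hsplit, ← Finset.coe_union, Set.ncard_coe_finset, Finset.card_union_of_disjoint,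
    Finset.card_image_of_injective _ hinj, card_EvF]
  rw [Finset.disjoint_left]
  intro x hx hx'
  rw [Finset.mem_image] at hx'
  obtain ⟨y, hy, rfl⟩ := hx'
  have h1 := ((mem_EvF _).mp hx).2
  have h2 := ((mem_EvF _).mp hy).2
  have h3 : (d0 (pt 0) - y (pt 0)) % 2 = 0 := h1
  have : d0 (pt 0) = 5 := by unfold d0; rw [if_pos rfl]
  rw [this] at h3
  omega

/-! ### Transport to an arbitrary vector of sum of squares 48 -/

theorem co0_sub (g : ↥Co0) (u v : ↥leechLattice) : g • (u - v) = g • u - g • v := by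
  rw [sub_eq_add_neg, co0_add, co0_neg, ← sub_eq_add_neg]

/-- the summands of a lattice vector -/
def T (u : ↥leechLattice) : Set ↥leechLattice :=
  {v | sqNorm (v : GolayPt → ℤ) = 32 ∧ sqNorm ((u : GolayPt → ℤ) - (v : GolayPt → ℤ)) = 32}

theorem smul_mem_T (g : ↥Co0) {u v : ↥leechLattice} (hv : v ∈ T u) : g • v ∈ T (g • u) := by
  obtain ⟨h1, h2⟩ := hv
  refine ⟨by rw [co0_norm, h1], ?_⟩
  have e : ((g • u : ↥leechLattice) : GolayPt → ℤ) - ((g • v : ↥leechLattice) : GolayPt → ℤ) =
      ((g • (u - v) : ↥leechLattice) : GolayPt → ℤ) := by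
    rw [co0_sub]
    rfl
  rw [e, co0_norm]
  exact h2

theorem ncard_T_smul (g : ↥Co0) (u : ↥leechLattice) : (T (g • u)).ncard = (T u).ncard := by
  have himg : (fun v : ↥leechLattice => g • v) '' T u = T (g • u) := by
    ext w
    constructor
    · rintro ⟨v, hv, rfl⟩
      exact smul_mem_T g hv
    · intro hw
      refine ⟨g⁻¹ • w, ?_, smul_inv_smul g w⟩
      have := smul_mem_T g⁻¹ hw
      rwa [inv_smul_smul] at this
  rw [← himg]
  exact Set.ncard_image_of_injective _ (MulAction.injective g)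

theorem ncard_T_D0 : (T D0).ncard = 552 := by
  rw [← ncard_Sm, ← Set.ncard_image_of_injective _ Subtype.val_injective]
  congr 1
  ext x
  constructor
  · rintro ⟨v, ⟨h1, h2⟩, rfl⟩
    exact ⟨v.2, h1, h2⟩
  · rintro ⟨hx, h1, h2⟩
    exact ⟨⟨x, hx⟩, ⟨h1, h2⟩, rfl⟩

/-- a lattice vector of sum of squares 48 is the sum of two minimal vectors in exactly 552 ordered ways -/
theorem ncard_T (u : ↥leechLattice) (hu : sqNorm (u : GolayPt → ℤ) = 48) : (T u).ncard = 552 := by
  obtain ⟨g, hg⟩ := norm6_to_d0 u hu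
  have : g • u = D0 := Subtype.ext hg
  rw [← ncard_T_smul g u, this, ncard_T_D0]

end Cfsg.Agent.Helper22.Summands
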