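import Cfsg.Agent.Helper22.CountE
import Cfsg.Agent.Helper22.Summands

/-!
# Counting lattice vectors by their inner product with `(5, 1^23)`
-/

set_option autoImplicit false

namespace Cfsg.Agent.Helper22.CountD0

open Cfsg Cfsg.Agent.Helper27 Cfsg.Agent.Helper22.CountE Cfsg.Agent.Helper22.Norm6Trans
  Cfsg.Agent.Helper22.Summands

/-- canonical list of 23 residues -/
def canon23 (m : ℤ) (w : ℕ) : List ℤ := List.replicate w (m + 2) ++ List.replicate (23 - w) m

/-- lattice vectors of sum of squares `N` with `4 x_0 + ∑ x = D` -/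
def YS (N D : ℤ) : Set (GolayPt → ℤ) :=
  {x | x ∈ leechLattice ∧ sqNorm x = N ∧ 4 * x (pt 0) + ∑ p, x p = D}

theorem mem_vecsD_comp (x : GolayPt → ℤ) (m : ℤ) (k : ℕ) (N D : ℤ) :
    (fun i : Fin 24 => x (pt i)) ∈ vecsD 23 4 (resF m k) N D ↔
      (∀ p, x p ∈ Finset.Icc (-8) 8) ∧ (∀ p, x p % 4 = (m + 2 * bitZ (cw k) (idx p)) % 4) ∧ sqNorm x = N ∧
        4 * x (pt 0) + ∑ p, x p = D := by
  rw [mem_vecsD]
  have hsum : ∀ f : GolayPt → ℤ, ∑ i : Fin 24, f (pt i) = ∑ p, f p := fun f => Equiv.sum_comp ptE f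
  have h0 : pt ((0 : Fin 24) : ℕ) = pt 0 := rfl
  constructor
  · rintro ⟨h1, h2, h3, h4⟩
    refine ⟨fun p => ?_, fun p => ?_, ?_, ?_⟩
    · have := h1 ⟨idx p, idx_lt p⟩
      simpa only [pt_idx] using this
    · have := h2 ⟨idx p, idx_lt p⟩
      simpa only [pt_idx, resF] using this
    · rw [sqNorm, ← h3]
      exact (hsum (fun p => x p ^ 2)).symm
    · rw [← h4, hsum x, h0]
  · rintro ⟨h1, h2, h3, h4⟩
    refine ⟨fun i => h1 (pt i), fun i => ?_, ?_, ?_⟩
    · have := h2 (pt i)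
      rw [idx_pt i.2] at this
      exact this
    · rw [hsum (fun p => x p ^ 2)]
      exact h3
    · rw [hsum x, h0]
      exact h4

theorem vecsD_sub {m : ℤ} (hm : m = 0 ∨ m = 1) (k : ℕ) (N D : ℤ) (hD : D % 8 = 0) :
    vecsD 23 4 (resF m k) N D ⊆ vecs 24 (resF m k) N (4 * m) := by
  intro x hx
  rw [mem_vecsD] at hx
  rw [mem_vecs]
  obtain ⟨h1, h2, h3, h4⟩ := hx
  refine ⟨h1, h2, h3, ?_⟩
  have h20 := h2 0
  simp only [resF] at h20
  have hs : (∑ i : Fin 24, x i) = D - 4 * x 0 := eq_sub_of_add_eq' h4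
  rw [hs]
  rcases bitZ_cases (cw k) ((0 : Fin 24) : ℕ) with hb | hb <;> rw [hb] at h20 <;> rcases hm with rfl | rfl <;> omega

theorem ofFn_tail_resF (m : ℤ) (k : ℕ) :
    List.ofFn (Fin.tail (resF m k)) = (List.range 23).map fun i => m + 2 * bitZ (cw k / 2) i := by
  rw [List.ofFn_eq_map, ← List.map_coe_finRange_eq_range, List.map_map]
  apply List.map_congr_left
  intro i _
  simp only [Fin.tail, resF, Function.comp_apply, bitZ, Nat.testBit_div_two, Fin.val_succ]

theorem tail_perm (m : ℤ) (k : ℕ) : (List.ofFn (Fin.tail (resF m k))).Perm (canon23 m (popc 23 (cw k / 2))) := by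
  have h1 : List.ofFn (Fin.tail (resF m k)) = ((List.range 23).map fun i => (cw k / 2).testBit i).map
      (fun b => m + 2 * (if b = true then 1 else 0)) := by
    rw [ofFn_tail_resF, List.map_map]
    rfl
  have h2 : canon23 m (popc 23 (cw k / 2)) = (List.replicate (popc 23 (cw k / 2)) true ++
      List.replicate (23 - popc 23 (cw k / 2)) false).map (fun b => m + 2 * (if b = true then 1 else 0)) := by
    simp [canon23, List.map_append, List.map_replicate]
  rw [h1, h2]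
  apply List.Perm.map
  have := bool_perm ((List.range 23).map fun i => (cw k / 2).testBit i)
  rwa [count_testBit, List.length_map, List.length_range] at this

/-- the count as a sum over the classes -/
theorem ncard_YS (N D : ℤ) (hN : N ≤ 64) (hD : D % 8 = 0) :
    (YS N D).ncard = ∑ m ∈ ({0, 1} : Finset ℤ), ∑ k ∈ Finset.range 4096,
      ∑ v ∈ cands (m + 2 * bitZ (cw k) 0), cntE (canon23 m (popc 23 (cw k / 2))) (N - v ^ 2) (D - 5 * v) := by
  classical
  let E : (Fin 24 → ℤ) ≃ (GolayPt → ℤ) := ptE.arrowCongr (Equiv.refl ℤ)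
  let F : Finset (Fin 24 → ℤ) := (({0, 1} : Finset ℤ) ×ˢ Finset.range 4096).biUnion
    fun mk => vecsD 23 4 (resF mk.1 mk.2) N D
  have hset : YS N D = ↑(F.map E.toEmbedding) := by
    ext x
    rw [Finset.mem_coe, Finset.mem_map_equiv, Finset.mem_biUnion]
    have hE : E.symm x = fun i : Fin 24 => x (pt i) := rfl
    rw [hE]
    constructor
    · rintro ⟨hx, hn, hd⟩
      obtain ⟨m, hm, k, hk, hres, hsum⟩ := (mem_leech_iff_res x).mp hx
      refine ⟨(m, k), Finset.mem_product.mpr ⟨hm, hk⟩, ?_⟩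
      rw [mem_vecsD_comp]
      refine ⟨?_, hres, hn, hd⟩
      intro p
      have h1 : x p ^ 2 ≤ sqNorm x :=
        Finset.single_le_sum (f := fun p => x p ^ 2) (fun i _ => sq_nonneg _) (Finset.mem_univ p)
      rw [Finset.mem_Icc]
      constructor <;> nlinarith
    · rintro ⟨⟨m, k⟩, hmk, hv⟩
      obtain ⟨hm, hk⟩ := Finset.mem_product.mp hmk
      have hm' : m = 0 ∨ m = 1 := by simpa using hm
      have hv' := (mem_vecs_comp x m k N).mp (vecsD_sub hm' k N D hD hv)
      rw [mem_vecsD_comp] at hv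
      exact ⟨(mem_leech_iff_res x).mpr ⟨m, hm, k, hk, hv.2.1, hv'.2.2.2⟩, hv.2.2.1, hv.2.2.2⟩
  rw [hset, Set.ncard_coe_finset, Finset.card_map, Finset.card_biUnion, Finset.sum_product]
  · apply Finset.sum_congr rfl
    intro m _
    apply Finset.sum_congr rfl
    intro k _
    rw [card_vecsD]
    have e0 : resF m k 0 = m + 2 * bitZ (cw k) 0 := rfl
    rw [e0]
    apply Finset.sum_congr rfl
    intro v _
    rw [card_vecsE, cntE_perm (tail_perm m k)]
    have e5 : D - (4 + 1) * v = D - 5 * v := by ring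
    rw [e5]
  · rintro ⟨m, k⟩ hmk ⟨m', k'⟩ hmk' hne
    rw [Finset.mem_coe, Finset.mem_product] at hmk hmk'
    have hm : m = 0 ∨ m = 1 := by simpa using hmk.1
    have hm' : m' = 0 ∨ m' = 1 := by simpa using hmk'.1
    exact Finset.disjoint_of_subset_left (vecsD_sub hm k N D hD)
      (Finset.disjoint_of_subset_right (vecsD_sub hm' k' N D hD)
        (vecs_disjoint N hmk.1 hmk'.1 (Finset.mem_range.mp hmk.2) (Finset.mem_range.mp hmk'.2) hne))

/-! ### Evaluation -/

/-- the count in the class of parity `m`, first bit `b`, and `w` further bits -/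
def hN (N D : ℤ) (m b w : ℕ) : ℕ :=
  ((candL ((m : ℤ) + 2 * (b : ℤ))).map fun v =>
    if 0 ≤ N - v ^ 2 ∧ 0 ≤ D - 5 * v + 8 * ((canon23 (m : ℤ) w).length : ℤ) then
      cntN (canon23 (m : ℤ) w) (N - v ^ 2).toNat (D - 5 * v + 8 * ((canon23 (m : ℤ) w).length : ℤ)).toNat
    else 0).sum

theorem bitZ_zero (n : ℕ) : bitZ n 0 = ((n % 2 : ℕ) : ℤ) := by
  unfold bitZ
  rw [Nat.testBit_zero]
  rcases Nat.mod_two_eq_zero_or_one n with h | h <;> simp [h]

theorem term_eq (l : List ℤ) (N D v : ℤ) :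
    cntE l (N - v ^ 2) (D - 5 * v) =
      if 0 ≤ N - v ^ 2 ∧ 0 ≤ D - 5 * v + 8 * (l.length : ℤ) then
        cntN l (N - v ^ 2).toNat (D - 5 * v + 8 * (l.length : ℤ)).toNat
      else 0 := by
  by_cases h : 0 ≤ N - v ^ 2 ∧ 0 ≤ D - 5 * v + 8 * (l.length : ℤ)
  · rw [if_pos h, cntN_eq, Int.toNat_of_nonneg h.1, Int.toNat_of_nonneg h.2]
    congr 1
    ring
  · rw [if_neg h]
    rw [not_and_or, not_le, not_le] at h
    rcases h with h | h
    · exact cntE_neg _ _ _ h
    · apply cntE_low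
      omega

theorem inner_eq (N D : ℤ) (m k : ℕ) :
    ∑ v ∈ cands ((m : ℤ) + 2 * bitZ (cw k) 0),
      cntE (canon23 (m : ℤ) (popc 23 (cw k / 2))) (N - v ^ 2) (D - 5 * v) =
    hN N D m (cw k % 2) (popc 23 (cw k / 2)) := by
  rw [sum_cands, bitZ_zero, hN]
  have h : ∀ v ∈ candL ((m : ℤ) + 2 * ((cw k % 2 : ℕ) : ℤ)),
      cntE (canon23 (m : ℤ) (popc 23 (cw k / 2))) (N - v ^ 2) (D - 5 * v) =
        if 0 ≤ N - v ^ 2 ∧ 0 ≤ D - 5 * v + 8 * ((canon23 (m : ℤ) (popc 23 (cw k / 2))).length : ℤ) then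
          cntN (canon23 (m : ℤ) (popc 23 (cw k / 2))) (N - v ^ 2).toNat
            (D - 5 * v + 8 * ((canon23 (m : ℤ) (popc 23 (cw k / 2))).length : ℤ)).toNat
        else 0 := fun v _ => term_eq _ _ _ _
  rw [List.map_congr_left h]

/-- the pairs (first bit, number of further bits) that occur -/
def bwL : List (ℕ × ℕ) := [(0, 0), (0, 8), (0, 12), (0, 16), (0, 24), (1, 7), (1, 11), (1, 15), (1, 23)]

theorem combos {k : ℕ} (hk : k < 4096) : (cw k % 2, popc 23 (cw k / 2)) ∈ bwL := by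
  have h := cw_weights hk
  have e : popc 24 (cw k) = cw k % 2 + popc 23 (cw k / 2) := rfl
  rw [e] at h
  have h2 : cw k % 2 = 0 ∨ cw k % 2 = 1 := Nat.mod_two_eq_zero_or_one _
  simp only [bwL, List.mem_cons, List.mem_nil_iff, or_false, Prod.mk.injEq]
  omega

/-- check of a table of values -/
def chk (N D : ℤ) (g : ℕ → ℕ → ℕ → ℕ) : Bool :=
  [0, 1].all fun m => bwL.all fun bw => hN N D m bw.1 bw.2 == g m bw.1 bw.2

theorem chk_spec {N D : ℤ} {g : ℕ → ℕ → ℕ → ℕ} (h : chk N D g = true) {m : ℕ} (hm : m ∈ [0, 1])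
    {b w : ℕ} (hbw : (b, w) ∈ bwL) : hN N D m b w = g m b w := by
  simp only [chk, List.all_eq_true, beq_iff_eq] at h
  exact h m hm (b, w) hbw

/-- the count from a checked table of values -/
theorem ncard_YS_of_chk (N D : ℤ) (hN64 : N ≤ 64) (hD : D % 8 = 0) (g : ℕ → ℕ → ℕ → ℕ) (h : chk N D g = true) :
    (YS N D).ncard = sumBelow (fun k => g 0 (cw k % 2) (popc 23 (cw k / 2))) 4096 +
      sumBelow (fun k => g 1 (cw k % 2) (popc 23 (cw k / 2))) 4096 := by
  rw [ncard_YS N D hN64 hD, Finset.sum_pair (by decide)]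
  have e0 : ∀ k ∈ Finset.range 4096, ∑ v ∈ cands ((0 : ℤ) + 2 * bitZ (cw k) 0),
      cntE (canon23 0 (popc 23 (cw k / 2))) (N - v ^ 2) (D - 5 * v) =
      g 0 (cw k % 2) (popc 23 (cw k / 2)) := by
    intro k hk
    have h1 := inner_eq N D 0 k
    rw [Nat.cast_zero] at h1
    rw [h1]
    exact chk_spec h (m := 0) (List.mem_cons_self) (b := cw k % 2) (w := popc 23 (cw k / 2))
      (combos (Finset.mem_range.mp hk))
  have e1 : ∀ k ∈ Finset.range 4096, ∑ v ∈ cands ((1 : ℤ) + 2 * bitZ (cw k) 0),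
      cntE (canon23 1 (popc 23 (cw k / 2))) (N - v ^ 2) (D - 5 * v) =
      g 1 (cw k % 2) (popc 23 (cw k / 2)) := by
    intro k hk
    have h1 := inner_eq N D 1 k
    rw [Nat.cast_one] at h1
    rw [h1]
    exact chk_spec h (m := 1) (List.mem_cons_of_mem _ List.mem_cons_self) (b := cw k % 2)
      (w := popc 23 (cw k / 2)) (combos (Finset.mem_range.mp hk))
  rw [Finset.sum_congr rfl e0, Finset.sum_congr rfl e1, ← sumBelow_eq, ← sumBelow_eq]

/-- the values for the minimal vectors of inner product `-16` -/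
def g16 (m b w : ℕ) : ℕ :=
  if m = 0 then (if b = 0 then (if w = 0 then 23 else if w = 8 then 1 else 0) else (if w = 7 then 21 else 0))
  else (if b = 0 then (if w = 12 then 1 else 0) else (if w = 15 then 8 else 0))

set_option maxHeartbeats 4000000 in
theorem chk16 : chk 32 (-16) g16 = true := by
  decide +kernel

set_option maxHeartbeats 8000000 in
theorem sum16 : sumBelow (fun k => g16 0 (cw k % 2) (popc 23 (cw k / 2))) 4096 +
    sumBelow (fun k => g16 1 (cw k % 2) (popc 23 (cw k / 2))) 4096 = 11178 := by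
  decide +kernel

theorem ncard_Y16 : (YS 32 (-16)).ncard = 11178 := by
  rw [ncard_YS_of_chk 32 (-16) (by norm_num) (by norm_num) g16 chk16, sum16]

/-- the count in terms of the inner product with `d0` -/
theorem ncard_dot16 : {x : GolayPt → ℤ | x ∈ leechLattice ∧ sqNorm x = 32 ∧ dotInt d0 x = -16}.ncard = 11178 := by
  rw [← ncard_Y16]
  congr 1
  ext x
  simp only [YS, Set.mem_ofPred_eq, dot_d0]

end Cfsg.Agent.Helper22.CountD0
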