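import Cfsg.Agent.Helper27.LeechCount

/-!
# Counting integer vectors with prescribed residues, sum of squares and sum

A variant of the recursion of `Cfsg.Agent.Helper27.LeechCount` that keeps track of the exact sum of the
coordinates, with a computable pruned form.
-/

set_option autoImplicit false

namespace Cfsg.Agent.Helper22.CountE

open Cfsg Cfsg.Agent.Helper27

/-- the number of integer vectors with coordinates in `[-8, 8]`, prescribed residues modulo 4,
sum of squares `N` and sum `S` -/
noncomputable def cntE : List ℤ → ℤ → ℤ → ℕ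
  | [], N, S => if N = 0 ∧ S = 0 then 1 else 0
  | r :: rs, N, S => ∑ v ∈ cands r, cntE rs (N - v ^ 2) (S - v)

/-- the vectors counted by `cntE` -/
noncomputable def vecsE (n : ℕ) (r : Fin n → ℤ) (N S : ℤ) : Finset (Fin n → ℤ) :=
  (boxF n).filter fun x => (∀ i, x i % 4 = r i % 4) ∧ ∑ i, x i ^ 2 = N ∧ ∑ i, x i = S

theorem mem_vecsE {n : ℕ} {r : Fin n → ℤ} {N S : ℤ} {x : Fin n → ℤ} :
    x ∈ vecsE n r N S ↔ (∀ i, x i ∈ Finset.Icc (-8) 8) ∧ (∀ i, x i % 4 = r i % 4) ∧ ∑ i, x i ^ 2 = N ∧
      ∑ i, x i = S := by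
  simp only [vecsE, boxF, Finset.mem_filter, Fintype.mem_piFinset]

attribute [irreducible] vecsE

/-- the vectors with a weighted first coordinate: `a * x 0 + ∑ x = D` -/
noncomputable def vecsD (n : ℕ) (a : ℤ) (r : Fin (n + 1) → ℤ) (N D : ℤ) : Finset (Fin (n + 1) → ℤ) :=
  (boxF (n + 1)).filter fun x => (∀ i, x i % 4 = r i % 4) ∧ ∑ i, x i ^ 2 = N ∧ a * x 0 + ∑ i, x i = D

theorem mem_vecsD {n : ℕ} {a : ℤ} {r : Fin (n + 1) → ℤ} {N D : ℤ} {x : Fin (n + 1) → ℤ} :
    x ∈ vecsD n a r N D ↔ (∀ i, x i ∈ Finset.Icc (-8) 8) ∧ (∀ i, x i % 4 = r i % 4) ∧ ∑ i, x i ^ 2 = N ∧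
      a * x 0 + ∑ i, x i = D := by
  simp only [vecsD, boxF, Finset.mem_filter, Fintype.mem_piFinset]

attribute [irreducible] vecsD

theorem card_vecsD (n : ℕ) (a : ℤ) (r : Fin (n + 1) → ℤ) (N D : ℤ) :
    (vecsD n a r N D).card =
      ∑ v ∈ cands (r 0), (vecsE n (Fin.tail r) (N - v ^ 2) (D - (a + 1) * v)).card := by
  rw [Finset.card_eq_sum_card_fiberwise (f := fun x => x 0) (t := cands (r 0))]
  · apply Finset.sum_congr rfl
    intro v hv
    simp only [cands, Finset.mem_filter] at hv
    apply Finset.card_bij (fun x _ => Fin.tail x)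
    · intro x hx
      rw [Finset.mem_filter, mem_vecsD] at hx
      obtain ⟨⟨h1, h2, h3, h4⟩, h0⟩ := hx
      rw [mem_vecsE]
      rw [Fin.sum_univ_succ] at h3 h4
      refine ⟨fun i => h1 i.succ, fun i => h2 i.succ, ?_, ?_⟩
      · simp only [Fin.tail]
        rw [← h3, h0]; ring
      · simp only [Fin.tail]
        rw [h0] at h4
        rw [← h4]; ring
    · intro x hx x' hx' hxx
      rw [Finset.mem_filter] at hx hx'
      funext i
      refine Fin.cases ?_ (fun j => ?_) i
      · rw [hx.2, hx'.2]
      · exact congrFun hxx j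
    · intro y hy
      rw [mem_vecsE] at hy
      obtain ⟨h1, h2, h3, h4⟩ := hy
      refine ⟨Fin.cons v y, ?_, Fin.tail_cons _ _⟩
      rw [Finset.mem_filter, mem_vecsD]
      refine ⟨⟨?_, ?_, ?_, ?_⟩, Fin.cons_zero _ _⟩
      · intro i
        refine Fin.cases ?_ (fun j => ?_) i
        · simpa using hv.1
        · simpa using h1 j
      · intro i
        refine Fin.cases ?_ (fun j => ?_) i
        · simpa using hv.2
        · simpa [Fin.tail] using h2 j
      · rw [Fin.sum_univ_succ]
        simp only [Fin.cons_zero, Fin.cons_succ]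
        rw [h3]; ring
      · rw [Fin.sum_univ_succ]
        simp only [Fin.cons_zero, Fin.cons_succ]
        rw [h4]; ring
  · intro x hx
    have hx' := mem_vecsD.mp hx
    rw [Finset.mem_coe, cands, Finset.mem_filter]
    exact ⟨hx'.1 0, hx'.2.1 0⟩

theorem card_vecsE_succ (n : ℕ) (r : Fin (n + 1) → ℤ) (N S : ℤ) :
    (vecsE (n + 1) r N S).card = ∑ v ∈ cands (r 0), (vecsE n (Fin.tail r) (N - v ^ 2) (S - v)).card := by
  have h := card_vecsD n 0 r N S
  have e : vecsE (n + 1) r N S = vecsD n 0 r N S := by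
    ext x
    rw [mem_vecsE, mem_vecsD, zero_mul, zero_add]
  rw [e, h]
  apply Finset.sum_congr rfl
  intro v _
  rw [zero_add, one_mul]

theorem card_vecsE (n : ℕ) : ∀ (r : Fin n → ℤ) (N S : ℤ), (vecsE n r N S).card = cntE (List.ofFn r) N S := by
  induction n with
  | zero =>
    intro r N S
    rw [List.ofFn_zero, cntE]
    by_cases h : N = 0 ∧ S = 0
    · rw [if_pos h]
      rw [Finset.card_eq_one]
      refine ⟨fun i => i.elim0, ?_⟩
      ext x
      rw [mem_vecsE, Finset.mem_singleton]
      constructor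
      · intro _
        funext i
        exact i.elim0
      · intro _
        refine ⟨fun i => i.elim0, fun i => i.elim0, ?_, ?_⟩
        · simp [h.1]
        · simp [h.2]
    · rw [if_neg h, Finset.card_eq_zero]
      ext x
      rw [mem_vecsE]
      simp only [Finset.univ_eq_empty, Finset.sum_empty, Finset.notMem_empty, iff_false]
      rintro ⟨_, _, h3, h4⟩
      exact h ⟨h3.symm, h4.symm⟩
  | succ n ih =>
    intro r N S
    rw [card_vecsE_succ, List.ofFn_succ, cntE]
    apply Finset.sum_congr rfl
    intro v _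
    exact ih _ _ _

/-- `cntE` does not depend on the order of the residues -/
theorem cntE_perm {l l' : List ℤ} (h : l.Perm l') : ∀ N S, cntE l N S = cntE l' N S := by
  induction h with
  | nil => intro N S; rfl
  | cons x _ ih =>
    intro N S
    simp only [cntE]
    exact Finset.sum_congr rfl fun v _ => ih _ _
  | swap x y l =>
    intro N S
    simp only [cntE]
    rw [Finset.sum_comm]
    refine Finset.sum_congr rfl fun v _ => Finset.sum_congr rfl fun w _ => ?_
    congr 1 <;> ring
  | trans _ _ ih1 ih2 =>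
    intro N S
    rw [ih1, ih2]

theorem cntE_neg (rs : List ℤ) : ∀ (N S : ℤ), N < 0 → cntE rs N S = 0 := by
  induction rs with
  | nil =>
    intro N S hN
    rw [cntE, if_neg]
    rintro ⟨h, _⟩
    omega
  | cons r rs ih =>
    intro N S hN
    rw [cntE]
    apply Finset.sum_eq_zero
    intro v _
    apply ih
    have : 0 ≤ v ^ 2 := sq_nonneg v
    omega

/-- a computable, pruned form of `cntE` -/
def cntP : List ℤ → ℤ → ℤ → ℕ
  | [], N, S => if N = 0 ∧ S = 0 then 1 else 0
  | r :: rs, N, S => if N < 0 then 0 else ((candL r).map fun v => cntP rs (N - v ^ 2) (S - v)).sum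

theorem cntP_eq (rs : List ℤ) : ∀ (N S : ℤ), cntP rs N S = cntE rs N S := by
  induction rs with
  | nil => intro N S; rfl
  | cons r rs ih =>
    intro N S
    rw [cntP]
    by_cases hN : N < 0
    · rw [if_pos hN, cntE_neg _ _ _ hN]
    · rw [if_neg hN, cntE, sum_cands]
      congr 1
      apply List.map_congr_left
      intro v _
      exact ih _ _

/-! ### A form of the recursion in natural numbers -/

theorem mem_cands_bounds {r v : ℤ} (hv : v ∈ cands r) : -8 ≤ v ∧ v ≤ 8 := by
  simp only [cands, Finset.mem_filter, Finset.mem_Icc] at hv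
  exact hv.1

theorem mem_candL_bounds {r v : ℤ} (hv : v ∈ candL r) : -8 ≤ v ∧ v ≤ 8 := by
  apply mem_cands_bounds (r := r)
  rw [cands_eq, List.mem_toFinset]
  exact hv

/-- no vectors when the sum is below the least possible value -/
theorem cntE_low (rs : List ℤ) : ∀ (N S : ℤ), S < -8 * (rs.length : ℤ) → cntE rs N S = 0 := by
  induction rs with
  | nil =>
    intro N S hS
    rw [cntE, if_neg]
    rintro ⟨_, h⟩
    simp at hS
    omega
  | cons r rs ih =>
    intro N S hS
    rw [cntE]
    apply Finset.sum_eq_zero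
    intro v hv
    apply ih
    have := mem_cands_bounds hv
    rw [List.length_cons] at hS
    push_cast at hS
    omega

/-- the candidates as pairs (square, value plus 8) of natural numbers -/
def candN (r : ℤ) : List (ℕ × ℕ) :=
  if r % 4 = 0 then [(64, 0), (16, 4), (0, 8), (16, 12), (64, 16)] else if r % 4 = 1 then [(49, 1), (9, 5), (1, 9), (25, 13)]
  else if r % 4 = 2 then [(36, 2), (4, 6), (4, 10), (36, 14)] else [(25, 3), (1, 7), (9, 11), (49, 15)]

theorem candN_eq (r : ℤ) : candN r = (candL r).map fun v => ((v ^ 2).toNat, (v + 8).toNat) := by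
  unfold candN candL
  split_ifs <;> rfl

/-- the recursion in natural numbers: `N` is the sum of squares, `T` the sum of the coordinates plus `8` each -/
def cntN : List ℤ → ℕ → ℕ → ℕ
  | [], N, T => if N = 0 ∧ T = 0 then 1 else 0
  | r :: rs, N, T => ((candN r).map fun p => if p.1 ≤ N ∧ p.2 ≤ T then cntN rs (N - p.1) (T - p.2) else 0).sum

theorem cntN_eq (rs : List ℤ) : ∀ (N T : ℕ), cntN rs N T = cntE rs (N : ℤ) ((T : ℤ) - 8 * (rs.length : ℤ)) := by
  induction rs with
  | nil =>
    intro N T
    rw [cntN, cntE]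
    simp
  | cons r rs ih =>
    intro N T
    rw [cntN, cntE, sum_cands, candN_eq, List.map_map]
    congr 1
    apply List.map_congr_left
    intro v hv
    obtain ⟨hv1, hv2⟩ := mem_candL_bounds hv
    simp only [Function.comp_apply]
    have hsq : (((v ^ 2).toNat : ℕ) : ℤ) = v ^ 2 := Int.toNat_of_nonneg (sq_nonneg v)
    have hsh : (((v + 8).toNat : ℕ) : ℤ) = v + 8 := Int.toNat_of_nonneg (by omega)
    rw [List.length_cons]
    push_cast
    by_cases h : (v ^ 2).toNat ≤ N ∧ (v + 8).toNat ≤ T
    · rw [if_pos h, ih, Nat.cast_sub h.1, Nat.cast_sub h.2, hsq, hsh]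
      congr 1
      ring
    · rw [if_neg h]
      rw [not_and_or, not_le, not_le] at h
      rcases h with h | h
      · symm
        apply cntE_neg
        have : (N : ℤ) < (((v ^ 2).toNat : ℕ) : ℤ) := by exact_mod_cast h
        rw [hsq] at this
        omega
      · symm
        apply cntE_low
        have : (T : ℤ) < (((v + 8).toNat : ℕ) : ℤ) := by exact_mod_cast h
        rw [hsh] at this
        omega

end Cfsg.Agent.Helper22.CountE
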