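import Cfsg.Agent.Helper22.Co0Mono

/-!
# The stabiliser of the standard cross in the automorphism group of the rank-24 lattice
-/
set_option autoImplicit false

namespace Cfsg.Agent.Helper22.CrossStab

open Cfsg Cfsg.Agent.Helper27 Cfsg.Agent.Helper22.Co0Mono
open scoped Pointwise

/-- the vector `8 e_i` in the lattice -/
def E8 (i : GolayPt) : ↥leechLattice := ⟨Pi.single i 8, single_mem i (dvd_refl 8)⟩

/-- preserving the standard cross -/
def PresCross (g : ↥Co0) : Prop :=
  ∀ v : ↥leechLattice, (v : GolayPt → ℤ) ∈ stdCross → ((g • v : ↥leechLattice) : GolayPt → ℤ) ∈ stdCross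

/-- an automorphism preserving the standard cross is a signed permutation -/
theorem exists_signedPerm {g : ↥Co0} (hg : PresCross g) :
    ∃ (σ : Equiv.Perm GolayPt) (c : Finset GolayPt),
      ∀ v : ↥leechLattice, ((g • v : ↥leechLattice) : GolayPt → ℤ) = signedPerm σ c v := by
  have hE : ∀ i, ∃ (j : GolayPt) (s : ℤ), (s = 8 ∨ s = -8) ∧
      ((g • E8 i : ↥leechLattice) : GolayPt → ℤ) = Pi.single j s := fun i => hg (E8 i) ⟨i, 8, Or.inl rfl, rfl⟩
  choose τ s hs hgE using hE
  have key : ∀ (v : ↥leechLattice) (i : GolayPt),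
      ((g • v : ↥leechLattice) : GolayPt → ℤ) (τ i) * s i = (v : GolayPt → ℤ) i * 8 := by
    intro v i
    have := co0_dot g v (E8 i)
    rw [hgE i, dot_single] at this
    rw [this]
    exact dot_single _ i 8
  have hinj : Function.Injective τ := by
    intro i i' hii
    have h1 := key (E8 i') i
    rw [hgE i', hii, Pi.single_eq_same] at h1
    by_contra hne
    have h2 : ((E8 i' : ↥leechLattice) : GolayPt → ℤ) i = 0 := Pi.single_eq_of_ne hne 8
    rw [h2] at h1
    rcases hs i with h | h <;> rcases hs i' with h' | h' <;> rw [h, h'] at h1 <;> norm_num at h1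
  let σ : Equiv.Perm GolayPt := Equiv.ofBijective τ (Finite.injective_iff_bijective.mp hinj)
  have hσ : ∀ i, σ i = τ i := fun _ => rfl
  refine ⟨σ, Finset.univ.filter (fun j => s (σ.symm j) = -8), fun v => ?_⟩
  funext j
  have hj : τ (σ.symm j) = j := by rw [← hσ, Equiv.apply_symm_apply]
  have h1 := key v (σ.symm j)
  rw [hj] at h1
  simp only [signedPerm, Finset.mem_filter, Finset.mem_univ, true_and]
  rcases hs (σ.symm j) with h | h
  · rw [if_neg (by rw [h]; norm_num)]
    rw [h] at h1
    linarith
  · rw [if_pos h]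
    rw [h] at h1
    linarith


/-- the lattice vector `2 w` for a codeword `w` -/
theorem two_word_mem {w : GolayPt → ZMod 2} (hw : w ∈ golayCode) :
    (fun i => 2 * ((w i).val : ℤ)) ∈ leechLattice := by
  rw [mem_leechLattice_iff]
  refine ⟨0, fun i => ((w i).val : ℤ), fun i => by ring, ?_, ?_⟩
  · rw [← Finset.mul_sum, sum_val_eq_hammingNorm]
    obtain ⟨q, hq⟩ := golay_four_dvd hw
    rw [hq, Int.ModEq]
    push_cast
    omega
  · have : redW (fun i => ((w i).val : ℤ)) = w := by
      funext i
      exact val_cast_zmod_two (w i)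
    rw [this]
    exact hw

theorem zmod2_neg (z : ZMod 2) : -z = z := by
  have : ∀ z : ZMod 2, -z = z := by decide
  exact this z

theorem perm_mem_of_maps {σ : Equiv.Perm GolayPt} {c : Finset GolayPt}
    (h : ∀ x ∈ leechLattice, signedPerm σ c x ∈ leechLattice) : σ ∈ M24 := by
  rw [mem_M24_iff_symm]
  intro w hw
  obtain ⟨m', t', ht', -, hcode⟩ := (mem_leechLattice_iff _).mp (h _ (two_word_mem hw))
  -- `m'` is even
  have hm : m' % 2 = 0 := by
    have := ht' (σ none)
    simp only [signedPerm] at this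
    split_ifs at this <;> omega
  have hkey : (fun p => w (σ.symm p)) = redW t' + fun _ => ((m' / 2 : ℤ) : ZMod 2) := by
    funext j
    have h1 := ht' j
    simp only [signedPerm] at h1
    simp only [Pi.add_apply, redW]
    have h2 : (((w (σ.symm j)).val : ℤ) : ZMod 2) = w (σ.symm j) := val_cast_zmod_two _
    by_cases hj : j ∈ c
    · rw [if_pos hj] at h1
      have h3 : -((w (σ.symm j)).val : ℤ) = m' / 2 + t' j := by omega
      have h4 := congrArg (fun z : ℤ => (z : ZMod 2)) h3
      simp only [Int.cast_neg, Int.cast_add] at h4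
      rw [zmod2_neg, h2] at h4
      rw [h4, add_comm]
    · rw [if_neg hj] at h1
      have h3 : ((w (σ.symm j)).val : ℤ) = m' / 2 + t' j := by omega
      have h4 := congrArg (fun z : ℤ => (z : ZMod 2)) h3
      simp only [Int.cast_add] at h4
      rw [h2] at h4
      rw [h4, add_comm]
  rw [hkey]
  exact golayCode.add_mem hcode (const_mem_golayCode _)

/-- the vector `(-3, 1^23)` -/
def x0 : GolayPt → ℤ := fun i => if i = none then -3 else 1

theorem x0_mem : x0 ∈ leechLattice := by
  rw [mem_leechLattice_iff]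
  refine ⟨1, fun i => if i = none then -2 else 0, ?_, ?_, ?_⟩
  · intro i
    by_cases hi : i = none <;> simp [x0, hi]
  · rw [Fintype.sum_option]
    simp [x0, Int.ModEq]
  · have : redW (fun i : GolayPt => if i = none then (-2 : ℤ) else 0) = 0 := by
      funext i
      simp only [redW, Pi.zero_apply]
      by_cases hi : i = none
      · rw [if_pos hi, ZMod.intCast_zmod_eq_zero_iff_dvd]
        norm_num
      · rw [if_neg hi, Int.cast_zero]
    rw [this]
    exact golayCode.zero_mem

theorem signs_mem_of_maps {σ : Equiv.Perm GolayPt} {c : Finset GolayPt}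
    (h : ∀ x ∈ leechLattice, signedPerm σ c x ∈ leechLattice) :
    c ∈ supports (golayCode : Set (GolayPt → ZMod 2)) := by
  obtain ⟨m', t', ht', -, hcode⟩ := (mem_leechLattice_iff _).mp (h _ x0_mem)
  have hx0 : ∀ i, x0 i = -3 ∨ x0 i = 1 := by
    intro i
    by_cases hi : i = none <;> simp [x0, hi]
  -- `m'` is odd
  have hm : m' % 2 = 1 := by
    have := ht' (σ none)
    simp only [signedPerm] at this
    rcases hx0 (σ.symm (σ none)) with h0 | h0 <;> rw [h0] at this <;> split_ifs at this <;> omega
  refine ⟨redW t' + fun _ => (((m' - 1) / 2 : ℤ) : ZMod 2), golayCode.add_mem hcode (const_mem_golayCode _), ?_⟩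
  ext j
  rw [mem_support₂_iff]
  have h1 := ht' j
  simp only [signedPerm] at h1
  simp only [Pi.add_apply, redW]
  rw [← Int.cast_add, Ne, ZMod.intCast_zmod_eq_zero_iff_dvd]
  constructor
  · intro hd
    by_contra hj
    rw [if_neg hj] at h1
    rcases hx0 (σ.symm j) with h0 | h0 <;> rw [h0] at h1 <;> omega
  · intro hj hd
    rw [if_pos hj] at h1
    rcases hx0 (σ.symm j) with h0 | h0 <;> rw [h0] at h1 <;> omega


/-- an automorphism preserving the standard cross is a monomial map of the code -/
theorem cross_mono {g : ↥Co0} (hg : PresCross g) :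
    ∃ σ ∈ M24, ∃ c ∈ supports (golayCode : Set (GolayPt → ZMod 2)),
      ∀ v : ↥leechLattice, ((g • v : ↥leechLattice) : GolayPt → ℤ) = signedPerm σ c v := by
  obtain ⟨σ, c, h⟩ := exists_signedPerm hg
  have hmaps : ∀ x ∈ leechLattice, signedPerm σ c x ∈ leechLattice := by
    intro x hx
    rw [← h ⟨x, hx⟩]
    exact (g • (⟨x, hx⟩ : ↥leechLattice)).2
  exact ⟨σ, perm_mem_of_maps hmaps, c, signs_mem_of_maps hmaps, h⟩

theorem monoCo0_presCross (σ : Equiv.Perm GolayPt) (hσ : σ ∈ M24) (c : Finset GolayPt)
    (hc : c ∈ supports (golayCode : Set (GolayPt → ZMod 2))) : PresCross (monoCo0 σ hσ c hc) := by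
  rintro v ⟨i, s, hs, hv⟩
  rw [monoCo0_smul, hv, signedPerm_single]
  refine ⟨σ i, _, ?_, rfl⟩
  split_ifs <;> rcases hs with rfl | rfl <;> simp

/-- the parametrisation of the stabiliser of the standard cross -/
def param (p : ↥M24 × ↥golayCode) : {g : ↥Co0 // PresCross g} :=
  ⟨monoCo0 p.1.1 p.1.2 (support₂ p.2.1) ⟨p.2.1, p.2.2, rfl⟩, monoCo0_presCross _ _ _ _⟩

theorem param_smul (p : ↥M24 × ↥golayCode) (v : ↥leechLattice) :
    (((param p).1 • v : ↥leechLattice) : GolayPt → ℤ) = signedPerm p.1.1 (support₂ p.2.1) v := rfl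

theorem param_injective : Function.Injective param := by
  rintro ⟨⟨σ, hσ⟩, ⟨u, hu⟩⟩ ⟨⟨σ', hσ'⟩, ⟨u', hu'⟩⟩ h
  have hE : ∀ i, signedPerm σ (support₂ u) (Pi.single i 8) = signedPerm σ' (support₂ u') (Pi.single i 8) := by
    intro i
    have := congrArg (fun g : {g : ↥Co0 // PresCross g} => ((g.1 • E8 i : ↥leechLattice) : GolayPt → ℤ)) h
    exact this
  have hσσ : σ = σ' := by
    apply Equiv.ext
    intro i
    have h1 := congrFun (hE i) (σ i)
    rw [signedPerm_single, signedPerm_single, Pi.single_eq_same] at h1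
    by_contra hne
    rw [Pi.single_eq_of_ne hne] at h1
    split_ifs at h1 <;> norm_num at h1
  subst hσσ
  have huu : u = u' := by
    apply support₂_injective
    ext j
    have h1 := congrFun (hE (σ.symm j)) j
    rw [signedPerm_single, signedPerm_single, Equiv.apply_symm_apply, Pi.single_eq_same, Pi.single_eq_same] at h1
    constructor
    · intro hj
      rw [if_pos hj] at h1
      by_contra hj'
      rw [if_neg hj'] at h1
      norm_num at h1
    · intro hj
      rw [if_pos hj] at h1
      by_contra hj'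
      rw [if_neg hj'] at h1
      norm_num at h1
  subst huu
  rfl

theorem param_surjective : Function.Surjective param := by
  rintro ⟨g, hg⟩
  obtain ⟨σ, hσ, c, ⟨u, hu, rfl⟩, h⟩ := cross_mono hg
  refine ⟨(⟨σ, hσ⟩, ⟨u, hu⟩), ?_⟩
  apply Subtype.ext
  apply Subtype.ext
  apply Equiv.ext
  intro v
  apply Subtype.ext
  exact (h v).symm

theorem card_cross_stab : Nat.card {g : ↥Co0 // PresCross g} = 4096 * 244823040 := by
  rw [← Nat.card_eq_of_bijective param ⟨param_injective, param_surjective⟩, Nat.card_prod, card_M24, golay_natCard]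

end Cfsg.Agent.Helper22.CrossStab
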