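import Cfsg.Agent.Helper22.StabOrbits
import Cfsg.Agent.Helper22.Flag
import Cfsg.Agent.Helper27.M24Descent

/-!
# The stabiliser of a complementary pair of dodecads: membership certificate
-/

set_option autoImplicit false

namespace Cfsg.Agent.Helper22.DodPair

open Cfsg Cfsg.Agent.Helper27 Cfsg.Agent.Helper22.Flag Cfsg.Agent.Helper22.StabOrbits
open scoped Pointwise

/-- the pair consisting of a set and its complement -/
def pair (d : Finset GolayPt) : Finset (Finset GolayPt) := {d, Finset.univ \ d}

theorem smul_univ_sdiff (g : Equiv.Perm GolayPt) (d : Finset GolayPt) :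
    g • (Finset.univ \ d) = Finset.univ \ g • d := by
  rw [Finset.smul_finset_sdiff, Finset.smul_finset_univ]

theorem smul_pair (g : Equiv.Perm GolayPt) (d : Finset GolayPt) : g • pair d = pair (g • d) := by
  rw [pair, pair, Finset.smul_finset_insert, Finset.smul_finset_singleton, smul_univ_sdiff]

theorem pair_compl (d : Finset GolayPt) : pair (Finset.univ \ d) = pair d := by
  rw [pair, pair, Finset.sdiff_sdiff_eq_self (Finset.subset_univ d), Finset.pair_comm]

theorem smul_pair_eq_iff (g : Equiv.Perm GolayPt) (d : Finset GolayPt) :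
    g • pair d = pair d ↔ (g • d = d ∨ g • d = Finset.univ \ d) := by
  rw [smul_pair]
  constructor
  · intro h
    have : g • d ∈ pair (g • d) := Finset.mem_insert_self _ _
    rw [h, pair, Finset.mem_insert, Finset.mem_singleton] at this
    exact this
  · rintro (h | h)
    · rw [h]
    · rw [h, pair_compl]

/-- the complement of the standard dodecad, as a mask -/
def dodC : ℕ := onesMask ^^^ dod0

theorem maskSet_dodC : maskSet dodC = Finset.univ \ maskSet dod0 := maskSet_compl dod0

/-- membership test for the stabiliser of the standard pair of dodecads -/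
def certPair (T : List ℕ) : Bool :=
  tblInCode T && ((applyTbl T dod0 == dod0) || (applyTbl T dod0 == dodC))

theorem certSoundPair : CertSound (stabIn (pair (maskSet dod0))) certPair := by
  intro T hv h
  rw [certPair, Bool.and_eq_true, Bool.or_eq_true, beq_iff_eq, beq_iff_eq] at h
  obtain ⟨h1, h2⟩ := h
  rw [mem_stabIn]
  refine ⟨tblPerm_mem_M24 T hv h1, ?_⟩
  have key : (tblPerm T hv)⁻¹ • pair (maskSet dod0) = pair (maskSet dod0) := by
    rw [smul_pair_eq_iff, ← maskSet_applyTbl hv]
    rcases h2 with h2 | h2
    · left; rw [h2]
    · right; rw [h2, maskSet_dodC]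
  conv_lhs => rw [← key]
  rw [smul_inv_smul]

end Cfsg.Agent.Helper22.DodPair
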