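import Cfsg.Agent.Helper22.Flag

/-!
The stabiliser of a dodecad and one of its points: orbits on the dodecads through the point.
-/

set_option autoImplicit false

namespace Cfsg.Agent.Helper22.DodPt

open Cfsg Cfsg.Agent.Helper27 Cfsg.Agent.Helper22.OrbitDod Cfsg.Agent.Helper22.Flag
open scoped Pointwise

/-- masks of dodecads through the point `0` meeting the standard dodecad in `i` points -/
def cls (i : ℕ) (n : ℕ) : Bool := n.testBit 0 && (popc 24 (dod0 &&& n) == i)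

/-- the same with the weight condition -/
def clsP (i : ℕ) (n : ℕ) : Bool := (popc 24 n == 12) && cls i n

theorem hfix : ∀ f ∈ [0], f < 24 := by decide

/-- descent elements for intersection size 4 -/
def gens4 : List (List ℕ) := [
  [0,17,8,4,11,18,10,13,2,7,14,6,23,9,3,5,12,1,15,16,20,19,21,22],
  [0,20,14,9,2,16,8,3,6,13,7,10,19,11,4,12,22,5,17,15,1,18,21,23],
  [0,5,9,11,8,21,4,14,6,7,2,3,15,10,13,12,18,1,19,16,22,20,17,23],
  [0,1,8,3,14,18,6,7,2,13,11,10,21,9,4,15,19,17,5,16,20,12,23,22],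
  [0,17,2,13,9,21,4,7,14,6,8,3,1,11,10,15,16,12,5,20,22,18,19,23],
  [0,1,7,3,4,19,11,10,6,14,2,8,12,9,13,15,20,5,16,17,18,23,21,22],
  [0,21,9,3,7,16,2,13,10,8,6,4,12,14,11,1,17,20,5,19,18,22,23,15]]

theorem desc4 : descOKH (certF dod0 [0]) gens4 (clsP 4) 1038375 = true := by decide +kernel

/-- descent elements for intersection size 6 -/
def gens6 : List (List ℕ) := [
  [0,17,6,4,3,1,8,2,14,7,13,10,19,11,9,5,18,12,20,15,16,22,21,23],
  [0,12,10,14,4,21,3,6,2,9,13,11,16,8,7,18,20,19,15,5,1,17,23,22],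
  [0,17,2,13,9,21,4,7,14,6,8,3,1,11,10,15,16,12,5,20,22,18,19,23],
  [0,5,8,6,7,16,13,2,11,9,3,4,18,14,10,1,17,15,21,19,12,23,22,20],
  [0,17,2,4,3,15,10,13,8,9,6,14,19,7,11,5,16,1,18,12,20,23,22,21],
  [0,12,11,13,10,18,9,8,3,4,7,2,5,6,14,16,1,15,19,17,23,22,20,21],
  [0,5,4,11,7,16,2,3,14,10,9,6,17,8,13,12,1,19,18,22,21,20,23,15],
  [0,12,8,9,4,17,6,14,3,2,7,10,18,13,11,20,1,22,16,5,15,23,19,21],
  [0,1,3,14,9,18,11,4,2,7,13,8,15,10,6,5,17,12,16,23,22,20,21,19],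
  [0,1,6,2,8,15,3,14,10,9,4,11,20,7,13,17,16,5,21,18,23,19,22,12]]

theorem desc6 : descOKH (certF dod0 [0]) gens6 (clsP 6) 236787 = true := by decide +kernel

/-- descent elements for intersection size 8 -/
def gens8 : List (List ℕ) := [
  [0,16,8,14,6,5,2,9,11,10,3,7,17,4,13,12,19,1,15,20,21,22,23,18],
  [0,18,2,6,7,19,9,8,10,13,3,14,5,4,11,1,17,15,12,16,21,22,23,20],
  [0,16,9,8,3,12,10,6,2,4,14,11,17,7,13,20,18,15,19,22,5,21,1,23],
  [0,1,13,11,4,5,14,6,3,10,7,2,18,8,9,16,12,23,20,17,15,22,19,21],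
  [0,17,14,2,7,15,10,6,3,9,11,4,12,8,13,1,5,16,21,23,18,19,22,20],
  [0,15,13,3,14,16,7,4,8,2,9,11,1,10,6,21,5,18,20,17,19,12,23,22],
  [0,12,3,2,10,18,14,4,11,8,7,13,1,6,9,19,5,15,16,21,23,20,22,17],
  [0,16,7,2,9,12,14,6,11,10,4,8,15,3,13,5,1,19,17,20,22,21,23,18],
  [0,17,4,11,3,1,13,7,6,8,9,14,5,10,2,20,16,21,18,22,19,12,23,15]]

theorem desc8 : descOKH (certF dod0 [0]) gens8 (clsP 8) 89455 = true := by decide +kernel

/-- descent elements for intersection size 12 -/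
def gens12 : List (List ℕ) := [
]

theorem desc12 : descOKH (certF dod0 [0]) gens12 (clsP 12) 28637 = true := by decide +kernel

theorem cnt4 : countBelow (fun k => (popc 24 (cw k) == 12) && cls 4 (cw k)) 4096 = 165 := by decide +kernel
theorem cnt6 : countBelow (fun k => (popc 24 (cw k) == 12) && cls 6 (cw k)) 4096 = 792 := by decide +kernel
theorem cnt8 : countBelow (fun k => (popc 24 (cw k) == 12) && cls 8 (cw k)) 4096 = 330 := by decide +kernel

theorem cls_iff (i : ℕ) (n : ℕ) : (pt 0 ∈ maskSet n ∧ (maskSet dod0 ∩ maskSet n).card = i) ↔ cls i n = true := by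
  rw [pt_mem_maskSet (by norm_num), card_inter_maskSet]
  simp [cls]

theorem count (i : ℕ) {x : GolayPt} {d : Finset GolayPt} (hd : d ∈ dodecads) (hx : x ∈ d) :
    {d' : Finset GolayPt | d' ∈ dodecads ∧ x ∈ d' ∧ (d ∩ d').card = i}.ncard =
      countBelow (fun k => (popc 24 (cw k) == 12) && cls i (cw k)) 4096 := by
  obtain ⟨g0, hg0, hg0o, hg0x⟩ := exists_smul_eq_dod0_pt hd hx
  rw [← ncard_std 12 (fun b => pt 0 ∈ b ∧ (maskSet dod0 ∩ b).card = i) (cls i) (cls_iff i)]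
  apply ncard_smul_set g0
  intro b
  simp only [Set.mem_ofPred_eq]
  rw [← hg0o, ← hg0x, card_inter_smul, mem_smul_iff]
  exact and_congr (dodecads_smul_iff hg0 b).symm Iff.rfl

theorem orbit {x : GolayPt} {d d' d'' : Finset GolayPt} (hd : d ∈ dodecads) (hx : x ∈ d) (hd' : d' ∈ dodecads)
    (hd'' : d'' ∈ dodecads) (hx' : x ∈ d') (hx'' : x ∈ d'') (h : (d ∩ d').card = (d ∩ d'').card) :
    ∃ g : Equiv.Perm GolayPt, g ∈ M24 ∧ g x = x ∧ g • d = d ∧ g • d' = d'' := by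
  obtain ⟨g0, hg0, hg0o, hg0x⟩ := exists_smul_eq_dod0_pt hd hx
  have hd1 : g0 • d' ∈ dodecads := (dodecads_smul_iff hg0 d').mpr hd'
  have hd2 : g0 • d'' ∈ dodecads := (dodecads_smul_iff hg0 d'').mpr hd''
  obtain ⟨m', hm', hpop', e'⟩ := exists_mask_of_mem_wordsOfWeight hd1
  obtain ⟨m'', hm'', hpop'', e''⟩ := exists_mask_of_mem_wordsOfWeight hd2
  have hc' : cls (d ∩ d').card m' = true := by
    rw [← cls_iff, ← e', ← hg0o, ← hg0x, card_inter_smul, mem_smul_iff]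
    exact ⟨hx', rfl⟩
  have hc'' : cls (d ∩ d').card m'' = true := by
    rw [← cls_iff, ← e'', ← hg0o, ← hg0x, card_inter_smul, mem_smul_iff]
    exact ⟨hx'', h.symm⟩
  have hpos : 0 < (d ∩ d').card := Finset.card_pos.mpr ⟨x, Finset.mem_inter.mpr ⟨hx, hx'⟩⟩
  have hk : ∃ k ∈ flagH dod0 [0], k • maskSet m' = maskSet m'' := by
    rcases Cfsg.Agent.Helper22.GolayComb.dodecad_inter_card hd hd' with hi | hi | hi | hi | hi
    · omega
    · rw [hi] at hc' hc''
      exact same_orbit_of_desc (certSoundF dod0 hfix) desc4 hm' (by simp [clsP, hpop', hc']) hm''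
        (by simp [clsP, hpop'', hc''])
    · rw [hi] at hc' hc''
      exact same_orbit_of_desc (certSoundF dod0 hfix) desc6 hm' (by simp [clsP, hpop', hc']) hm''
        (by simp [clsP, hpop'', hc''])
    · rw [hi] at hc' hc''
      exact same_orbit_of_desc (certSoundF dod0 hfix) desc8 hm' (by simp [clsP, hpop', hc']) hm''
        (by simp [clsP, hpop'', hc''])
    · rw [hi] at hc' hc''
      exact same_orbit_of_desc (certSoundF dod0 hfix) desc12 hm' (by simp [clsP, hpop', hc']) hm''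
        (by simp [clsP, hpop'', hc''])
  obtain ⟨k, hk, hkm⟩ := hk
  obtain ⟨h1, h2, h3, h4⟩ := conj_flag hfix hg0 hk
  refine ⟨g0⁻¹ * k * g0, h1, h3 0 (by simp) x hg0x, h2 d hg0o, h4 d' d'' ?_⟩
  rw [← e', ← e''] at hkm
  exact hkm

end Cfsg.Agent.Helper22.DodPt
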