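import Cfsg.Agent.Helper22.E23Defs

/-! # Kernel checks for a non-split extension of an elementary abelian group by the Mathieu group of degree 23: the tables -/

set_option autoImplicit false

namespace Cfsg.Agent.Helper22.E23

open Cfsg.Agent.Helper22.BigPerm Cfsg.Agent.Helper22.BigChain Cfsg.Agent.Helper22.E23Tabs
  Cfsg.Agent.Helper22.E23Cert

theorem good1 : allBelow (fun i => Nat.blt (look (tab tabs 1) i) 4060 &&
    Nat.beq (look (tab tabs 65) (look (tab tabs 1) i)) i) 4060 = true := by decide +kernel

theorem good2 : allBelow (fun i => Nat.blt (look (tab tabs 2) i) 4060 &&
    Nat.beq (look (tab tabs 66) (look (tab tabs 2) i)) i) 4060 = true := by decide +kernel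

theorem amb1 : ambB 1 = true := by decide +kernel

theorem amb2 : ambB 2 = true := by decide +kernel

theorem certAll : certAllB tabs certL loL 3 65 = true := by decide +kernel

theorem lo0 : loGB loL L0 = true := by decide +kernel

theorem lo1 : loGB loL L1 = true := by decide +kernel

theorem lo2 : loGB loL L2 = true := by decide +kernel

theorem lo3 : loGB loL L3 = true := by decide +kernel

theorem lo4 : loGB loL L4 = true := by decide +kernel

theorem lo5 : loGB loL L5 = true := by decide +kernel

theorem lo6 : loGB loL L6 = true := by decide +kernel

theorem lo7 : loGB loL L7 = true := by decide +kernel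

theorem lo8 : loGB loL L8 = true := by decide +kernel

theorem lo9 : loGB loL L9 = true := by decide +kernel

theorem lo10 : loGB loL L10 = true := by decide +kernel

theorem lo11 : loGB loL L11 = true := by decide +kernel

theorem lo12 : loGB loL L12 = true := by decide +kernel

theorem lo13 : loGB loL L13 = true := by decide +kernel

theorem lo14 : loGB loL L14 = true := by decide +kernel

theorem lo15 : loGB loL L15 = true := by decide +kernel

theorem lo16 : loGB loL L16 = true := by decide +kernel

theorem lvl0 : levelB L0 = true := by decide +kernel

theorem lvl1 : levelB L1 = true := by decide +kernel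

theorem lvl2 : levelB L2 = true := by decide +kernel

theorem lvl3 : levelB L3 = true := by decide +kernel

theorem lvl4 : levelB L4 = true := by decide +kernel

theorem lvl5 : levelB L5 = true := by decide +kernel

theorem lvl6 : levelB L6 = true := by decide +kernel

theorem lvl7 : levelB L7 = true := by decide +kernel

theorem lvl8 : levelB L8 = true := by decide +kernel

theorem lvl9 : levelB L9 = true := by decide +kernel

theorem lvl10 : levelB L10 = true := by decide +kernel

theorem lvl11 : levelB L11 = true := by decide +kernel

theorem lvl12 : levelB L12 = true := by decide +kernel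

theorem lvl13 : levelB L13 = true := by decide +kernel

theorem lvl14 : levelB L14 = true := by decide +kernel

theorem lvl15 : levelB L15 = true := by decide +kernel

theorem lvl16 : levelB L16 = true := by decide +kernel

theorem fix1 : fixGB tabs 3 2 506 = true := by decide +kernel

theorem fix2 : fixGB tabs 5 2 507 = true := by decide +kernel

theorem fix3 : fixGB tabs 7 3 508 = true := by decide +kernel

theorem fix4 : fixGB tabs 10 4 509 = true := by decide +kernel

theorem fix5 : fixGB tabs 14 5 510 = true := by decide +kernel

theorem fix6 : fixGB tabs 30 11 511 = true := by decide +kernel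

theorem cnt0 : countB (inO tabs L0) 4060 = 23 := by decide +kernel

theorem cnt1 : countB (inO tabs L1) 4060 = 22 := by decide +kernel

theorem cnt2 : countB (inO tabs L2) 4060 = 21 := by decide +kernel

theorem cnt3 : countB (inO tabs L3) 4060 = 20 := by decide +kernel

theorem cnt4 : countB (inO tabs L4) 4060 = 16 := by decide +kernel

theorem cnt5 : countB (inO tabs L5) 4060 = 3 := by decide +kernel

end Cfsg.Agent.Helper22.E23
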