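import Cfsg.Agent.Helper22.E23Defs

/-! # Kernel checks for a non-split extension of an elementary abelian group by the Mathieu group of degree 23: the sign changes, the code, the relations -/

set_option autoImplicit false

namespace Cfsg.Agent.Helper22.E23

open Cfsg.Agent.Helper22.BigPerm Cfsg.Agent.Helper22.BigChain Cfsg.Agent.Helper22.E23Tabs
  Cfsg.Agent.Helper22.E23Cert

theorem uAll : allBelow (fun p => flipB (Nat.add 41 p) (Nat.shiftLeft 1 p)) 24 = true := by decide +kernel

theorem tAll : allBelow (fun j => flipB (Nat.add 30 j) (tmL.getD j 0)) 11 = true := by decide +kernel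

theorem hsAll : hsB = true := by decide +kernel

theorem kerAll : kerB = true := by decide +kernel

theorem eqv1 : eqvB 1 = true := by decide +kernel

theorem eqv2 : eqvB 2 = true := by decide +kernel

theorem rel1 : rel1B = true := by decide +kernel

theorem rel2 : rel2B = true := by decide +kernel

theorem crt : crtB = true := by decide +kernel

theorem valid1 : Helper27.validTbl (imgL [1]) = true := by decide +kernel

theorem valid2 : Helper27.validTbl (imgL [2]) = true := by decide +kernel

theorem code1 : Helper27.tblInCode (imgL [1]) = true := by decide +kernel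

theorem code2 : Helper27.tblInCode (imgL [2]) = true := by decide +kernel

theorem last1 : Nat.beq (actW [1] 23) 23 = true := by decide +kernel

theorem last2 : Nat.beq (actW [2] 23) 23 = true := by decide +kernel

theorem memG1 : Nat.beq (Helper27.cw (Nat.mod mG1 4096)) mG1 && Nat.blt mG1 8388608 = true := by decide +kernel

theorem memG2 : Nat.beq (Helper27.cw (Nat.mod mG2 4096)) mG2 && Nat.blt mG2 8388608 = true := by decide +kernel

theorem parG : Nat.beq (Nat.mod (Nat.add (Helper27.popc 24 (Nat.land mW0 mG1)) (Helper27.popc 24 (Nat.land mW1 mG2))) 2) 1 = true := by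
  decide +kernel

end Cfsg.Agent.Helper22.E23
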