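import Cfsg.Agent.Helper22.E23Defs

/-! # Kernel checks for a non-split extension of an elementary abelian group by the Mathieu group of degree 23: the Schreier generators of level 1 -/

set_option autoImplicit false

namespace Cfsg.Agent.Helper22.E23

open Cfsg.Agent.Helper22.BigPerm Cfsg.Agent.Helper22.BigChain Cfsg.Agent.Helper22.E23Tabs
  Cfsg.Agent.Helper22.E23Cert

theorem st1 : stepsB tabs D L1 [L2, L3, L4, L5, L6, L7, L8, L9, L10, L11, L12, L13, L14, L15, L16] 0 4060 = true := by decide +kernel

end Cfsg.Agent.Helper22.E23
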