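import Cfsg.Agent.Helper22.BigChain3
import Cfsg.Agent.Helper22.E23Tabs
import Cfsg.Agent.Helper22.E23Cert
import Cfsg.Agent.Helper27.M24Chain

/-!
# A non-split extension of an elementary abelian group of order 2048 by the Mathieu group of degree 23: the checks

The group acts on 530 of the 4060 points: the 253 pairs `2 k, 2 k + 1` stand for the words of weight sixteen of the
Golay code that avoid the last point, with a sign; the points `506 + q` stand for the 24 points.  This file defines
the Boolean checks that the kernel evaluates.
-/

set_option autoImplicit false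

namespace Cfsg.Agent.Helper22.E23

open Cfsg.Agent.Helper22.BigPerm Cfsg.Agent.Helper22.BigChain Cfsg.Agent.Helper22.E23Tabs
  Cfsg.Agent.Helper22.E23Cert

/-- the determining list -/
def D : List ℕ := List.range 530

/-- a table maps the signed words to signed words, the 24 points to the 24 points, and fixes the other points -/
def ambB (k : ℕ) : Bool :=
  allBelow (fun i => strict (fun v =>
    cond (Nat.ble 530 i) (Nat.beq v i)
      (cond (Nat.ble 506 i) (Nat.ble 506 v && Nat.blt v 530) (Nat.blt v 506))) (look (tab tabs k) i)) 4060

/-- the other point of a pair -/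
def flipN (i : ℕ) : ℕ := cond (Nat.beq (Nat.mod i 2) 0) (Nat.succ i) (Nat.pred i)

/-- the mask of the word of a pair -/
def hsN (k : ℕ) : ℕ := Nat.land (Nat.shiftRight HS (Nat.mul 24 k)) 16777215

/-- the parity of a mask -/
def parN (m : ℕ) : ℕ := Nat.mod (Helper27.popc 24 m) 2

/-- the function of the sign change of a mask -/
def flipFn (n i : ℕ) : ℕ :=
  cond (Nat.blt i 506 && Nat.beq (parN (Nat.land n (hsN (Nat.div i 2)))) 1) (flipN i) i

/-- a table is the sign change of a mask -/
def flipB (k n : ℕ) : Bool := allBelow (fun i => Nat.beq (look (tab tabs k) i) (flipFn n i)) 4060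

/-- a Boolean function holds somewhere below a bound -/
def anyBelow (f : ℕ → Bool) (n : ℕ) : Bool := Nat.rec false (fun k ih => cond (f k) true ih) n

theorem anyBelow_spec {f : ℕ → Bool} : ∀ {n : ℕ}, anyBelow f n = true → ∃ i < n, f i = true := by
  intro n
  induction n with
  | zero => intro h; exact absurd h Bool.false_ne_true
  | succ n ih =>
    intro h
    have h' : cond (f n) true (anyBelow f n) = true := h
    cases hfn : f n with
    | true => exact ⟨n, Nat.lt_succ_self n, hfn⟩
    | false =>
      rw [hfn] at h'
      obtain ⟨i, hi, hfi⟩ := ih h'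
      exact ⟨i, Nat.lt_succ_of_lt hi, hfi⟩

/-- the words of the pairs lie in the code and avoid the last point -/
def hsB : Bool := allBelow (fun k => strict (fun h =>
  Nat.beq (Helper27.cw (Nat.mod h 4096)) h && Nat.blt h 8388608) (hsN k)) 253

/-- the masks supported on the last twelve points that are orthogonal to the words of all pairs -/
def kerB : Bool := allBelow (fun j => Nat.beq j 0 || Nat.beq j 2048 ||
  anyBelow (fun k => Nat.beq (parN (Nat.land (Nat.mul j 4096) (hsN k))) 1) 253) 4096

/-- a generator normalises the sign changes of the points in the way its action on the 24 points says -/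
def eqvB (j : ℕ) : Bool :=
  allBelow (fun q => strict (fun q' =>
    allBelow (fun i => Nat.beq (lookS tabs (Nat.add 41 q') (lookS tabs j i))
      (lookS tabs j (lookS tabs (Nat.add 41 q) i))) 4060)
    (Nat.sub (look (tab tabs j) (Nat.add 506 q)) 506)) 24

/-- the action of a word in the tables on the 24 points -/
def actW (w : List ℕ) (q : ℕ) : ℕ := Nat.sub (applyW tabs w (Nat.add 506 q)) 506

/-- the action of a table on the 24 points, as a list -/
def imgL (w : List ℕ) : List ℕ := (List.range 24).map (actW w)

/-- the two relations between the two words -/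
def rel1B : Bool :=
  allBelow (fun i => Nat.beq (applyW tabs (wY ++ wY) i) (flipFn mW0 (applyW tabs (wX ++ wX) i))) 4060

/-- the two relations between the two words -/
def rel2B : Bool :=
  allBelow (fun i => Nat.beq (applyW tabs wY i) (flipFn mW1 (applyW tabs (wX ++ (wY ++ wX)) i))) 4060

/-- the sum of four bits is even -/
def even4 (a b c d : Bool) : Bool := !(xor (xor a b) (xor c d))

/-- the two conditions on the pair of words of the code that shows the extension not to split -/
def crtB : Bool :=
  allBelow (fun q => strict (fun xq => strict (fun yq =>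
    even4 (Nat.testBit mG1 q) (Nat.testBit mG1 yq) (Nat.testBit mG2 q) (Nat.testBit mG2 xq) &&
    even4 (Nat.testBit mG1 q) (Nat.testBit mG1 xq) (Nat.testBit mG2 q) (Nat.testBit mG2 (actW wX yq)))
    (actW wY q)) (actW wX q)) 24

end Cfsg.Agent.Helper22.E23
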