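import Cfsg.Agent.Helper22.E23ChkA
import Cfsg.Agent.Helper22.E23ChkS0
import Cfsg.Agent.Helper22.E23ChkS1
import Cfsg.Agent.Helper22.E23ChkS2
import Cfsg.Agent.Helper22.E23ChkS3
import Cfsg.Agent.Helper22.E23ChkS4
import Cfsg.Agent.Helper22.E23ChkS5

/-!
# A non-split extension of an elementary abelian group of order 2048 by the Mathieu group of degree 23: the chain

The group `GrpL tabs L0` generated by two tables has a chain of stabilisers of the points `506, …, 511`; the last of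
them is `GrpL tabs L6`, generated by eleven sign changes.
-/

set_option autoImplicit false

namespace Cfsg.Agent.Helper22.E23

open Cfsg.Agent.Helper22.BigPerm Cfsg.Agent.Helper22.BigChain Cfsg.Agent.Helper22.E23Tabs
  Cfsg.Agent.Helper22.E23Cert

open scoped Pointwise

/-- the 24 points among the 4060 -/
def S24 : Set (Fin 4060) := {i | 506 ≤ i.1 ∧ i.1 < 530}

/-- the ambient subgroup: the permutations that fix the points from 530 on and map the 24 points to themselves -/
noncomputable def Amb : Subgroup Pm :=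
  fixingSubgroup Pm {i : Fin 4060 | 530 ≤ i.1} ⊓ MulAction.stabilizer Pm S24

theorem mem_Amb {g : Pm} :
    g ∈ Amb ↔ (∀ i : Fin 4060, 530 ≤ i.1 → g i = i) ∧ ∀ i : Fin 4060, g i ∈ S24 ↔ i ∈ S24 := by
  unfold Amb
  rw [Subgroup.mem_inf, mem_fixingSubgroup_iff, MulAction.mem_stabilizer_set]
  rfl

theorem amb_of_rep {f : ℕ → ℕ} {g : Pm} (h : Rep f g)
    (hz : ∀ i < 4060, (530 ≤ i → f i = i) ∧ (506 ≤ i → i < 530 → 506 ≤ f i ∧ f i < 530) ∧ (i < 506 → f i < 506)) :
    g ∈ Amb := by
  rw [mem_Amb]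
  constructor
  · intro i hi
    apply Fin.ext
    rw [h]
    exact (hz i.1 i.2).1 hi
  · intro i
    show (506 ≤ (g i).1 ∧ (g i).1 < 530) ↔ (506 ≤ i.1 ∧ i.1 < 530)
    rw [h]
    obtain ⟨z1, z2, z3⟩ := hz i.1 i.2
    constructor
    · intro hh
      by_contra hcon
      by_cases h530 : 530 ≤ i.1
      · have := z1 h530
        omega
      · have : i.1 < 506 := by omega
        have := z3 this
        omega
    · intro hh
      exact z2 hh.1 hh.2

theorem amb_of_ambB {k : ℕ} (hg : ∃ g : Pm, Rep (look (tab tabs k)) g) (h : ambB k = true) :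
    P (tab tabs k) ∈ Amb := by
  apply amb_of_rep (rep_P hg.choose_spec)
  intro i hi
  have hi' := allBelow_spec h i hi
  rw [strict_eq] at hi'
  refine ⟨?_, ?_, ?_⟩
  · intro h530
    rw [Nat.ble_eq_true_of_le h530] at hi'
    exact Nat.eq_of_beq_eq_true hi'
  · intro h506 h530
    have e1 : Nat.ble 530 i = false := by
      rw [← Bool.not_eq_true]
      intro hcon
      have := Nat.le_of_ble_eq_true hcon
      omega
    rw [e1, Nat.ble_eq_true_of_le h506] at hi'
    have hi'' : (Nat.ble 506 (look (tab tabs k) i) && Nat.blt (look (tab tabs k) i) 530) = true := hi'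
    rw [Bool.and_eq_true] at hi''
    exact ⟨Nat.le_of_ble_eq_true hi''.1, by simpa [Nat.blt] using hi''.2⟩
  · intro h506
    have e1 : Nat.ble 530 i = false := by
      rw [← Bool.not_eq_true]
      intro hcon
      have := Nat.le_of_ble_eq_true hcon
      omega
    have e2 : Nat.ble 506 i = false := by
      rw [← Bool.not_eq_true]
      intro hcon
      have := Nat.le_of_ble_eq_true hcon
      omega
    rw [e1, e2] at hi'
    have hi'' : Nat.blt (look (tab tabs k) i) 506 = true := hi'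
    simpa [Nat.blt] using hi''

theorem hD : ∀ d ∈ D, d < 4060 := by
  intro d hd
  have : d < 530 := List.mem_range.mp hd
  omega

theorem hdet : ∀ g ∈ Amb, (∀ d (hd : d ∈ D), g ⟨d, hD d hd⟩ = ⟨d, hD d hd⟩) → g = 1 := by
  intro g hg hfix
  apply Equiv.ext
  intro i
  by_cases hi : i.1 < 530
  · exact hfix i.1 (List.mem_range.mpr hi)
  · exact (mem_Amb.mp hg).1 i (by omega)

theorem good_1 : ∃ g : Pm, Rep (look (tab tabs 1)) g := good_of_inv _ _ good1

theorem good_2 : ∃ g : Pm, Rep (look (tab tabs 2)) g := good_of_inv _ _ good2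

theorem amb_1 : P (tab tabs 1) ∈ Amb := amb_of_ambB good_1 amb1

theorem amb_2 : P (tab tabs 2) ∈ Amb := amb_of_ambB good_2 amb2

/-! ### the tables of the levels -/

theorem hg0 : ∀ k, 1 ≤ k → k < 65 → FactA tabs Amb (GrpL tabs L0) k := by
  refine factA_of tabs Amb certL loL certAll L0 (by decide) (by decide) lo0 ?_
  intro k h1 h2
  have h1' : 1 ≤ k := h1
  have h2' : k < 3 := h2
  interval_cases k
  · exact ⟨good_1, amb_1⟩
  · exact ⟨good_2, amb_2⟩

theorem hg1 : ∀ k, 3 ≤ k → k < 65 → FactA tabs Amb (GrpL tabs L1) k := by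
  refine factA_of tabs Amb certL loL certAll L1 (by decide) (by decide) lo1 ?_
  intro k h1 h2
  have h1' : 3 ≤ k := h1
  have h2' : k < 5 := h2
  obtain ⟨a, -, c⟩ := hg0 k (by omega) (by omega)
  exact ⟨a, c⟩

theorem hg2 : ∀ k, 5 ≤ k → k < 65 → FactA tabs Amb (GrpL tabs L2) k := by
  refine factA_of tabs Amb certL loL certAll L2 (by decide) (by decide) lo2 ?_
  intro k h1 h2
  have h1' : 5 ≤ k := h1
  have h2' : k < 7 := h2
  obtain ⟨a, -, c⟩ := hg1 k (by omega) (by omega)
  exact ⟨a, c⟩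

theorem hg3 : ∀ k, 7 ≤ k → k < 65 → FactA tabs Amb (GrpL tabs L3) k := by
  refine factA_of tabs Amb certL loL certAll L3 (by decide) (by decide) lo3 ?_
  intro k h1 h2
  have h1' : 7 ≤ k := h1
  have h2' : k < 10 := h2
  obtain ⟨a, -, c⟩ := hg2 k (by omega) (by omega)
  exact ⟨a, c⟩

theorem hg4 : ∀ k, 10 ≤ k → k < 65 → FactA tabs Amb (GrpL tabs L4) k := by
  refine factA_of tabs Amb certL loL certAll L4 (by decide) (by decide) lo4 ?_
  intro k h1 h2
  have h1' : 10 ≤ k := h1
  have h2' : k < 14 := h2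
  obtain ⟨a, -, c⟩ := hg3 k (by omega) (by omega)
  exact ⟨a, c⟩

theorem hg5 : ∀ k, 14 ≤ k → k < 65 → FactA tabs Amb (GrpL tabs L5) k := by
  refine factA_of tabs Amb certL loL certAll L5 (by decide) (by decide) lo5 ?_
  intro k h1 h2
  have h1' : 14 ≤ k := h1
  have h2' : k < 19 := h2
  obtain ⟨a, -, c⟩ := hg4 k (by omega) (by omega)
  exact ⟨a, c⟩

theorem hg6 : ∀ k, 30 ≤ k → k < 65 → FactA tabs Amb (GrpL tabs L6) k := by
  refine factA_of tabs Amb certL loL certAll L6 (by decide) (by decide) lo6 ?_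
  intro k h1 h2
  have h1' : 30 ≤ k := h1
  have h2' : k < 41 := h2
  obtain ⟨a, -, c⟩ := hg5 k (by omega) (by omega)
  exact ⟨a, c⟩

theorem hg7 : ∀ k, 31 ≤ k → k < 41 → FactA tabs Amb (GrpL tabs L7) k := by
  refine factA_of tabs Amb certL loL certAll L7 (by decide) (by decide) lo7 ?_
  intro k h1 h2
  have h1' : 31 ≤ k := h1
  have h2' : k < 41 := h2
  obtain ⟨a, -, c⟩ := hg6 k (by omega) (by omega)
  exact ⟨a, c⟩

theorem hg8 : ∀ k, 32 ≤ k → k < 41 → FactA tabs Amb (GrpL tabs L8) k := by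
  refine factA_of tabs Amb certL loL certAll L8 (by decide) (by decide) lo8 ?_
  intro k h1 h2
  have h1' : 32 ≤ k := h1
  have h2' : k < 41 := h2
  obtain ⟨a, -, c⟩ := hg7 k (by omega) (by omega)
  exact ⟨a, c⟩

theorem hg9 : ∀ k, 33 ≤ k → k < 41 → FactA tabs Amb (GrpL tabs L9) k := by
  refine factA_of tabs Amb certL loL certAll L9 (by decide) (by decide) lo9 ?_
  intro k h1 h2
  have h1' : 33 ≤ k := h1
  have h2' : k < 41 := h2
  obtain ⟨a, -, c⟩ := hg8 k (by omega) (by omega)
  exact ⟨a, c⟩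

theorem hg10 : ∀ k, 34 ≤ k → k < 41 → FactA tabs Amb (GrpL tabs L10) k := by
  refine factA_of tabs Amb certL loL certAll L10 (by decide) (by decide) lo10 ?_
  intro k h1 h2
  have h1' : 34 ≤ k := h1
  have h2' : k < 41 := h2
  obtain ⟨a, -, c⟩ := hg9 k (by omega) (by omega)
  exact ⟨a, c⟩

theorem hg11 : ∀ k, 35 ≤ k → k < 41 → FactA tabs Amb (GrpL tabs L11) k := by
  refine factA_of tabs Amb certL loL certAll L11 (by decide) (by decide) lo11 ?_
  intro k h1 h2
  have h1' : 35 ≤ k := h1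
  have h2' : k < 41 := h2
  obtain ⟨a, -, c⟩ := hg10 k (by omega) (by omega)
  exact ⟨a, c⟩

theorem hg12 : ∀ k, 36 ≤ k → k < 41 → FactA tabs Amb (GrpL tabs L12) k := by
  refine factA_of tabs Amb certL loL certAll L12 (by decide) (by decide) lo12 ?_
  intro k h1 h2
  have h1' : 36 ≤ k := h1
  have h2' : k < 41 := h2
  obtain ⟨a, -, c⟩ := hg11 k (by omega) (by omega)
  exact ⟨a, c⟩

theorem hg13 : ∀ k, 37 ≤ k → k < 41 → FactA tabs Amb (GrpL tabs L13) k := by
  refine factA_of tabs Amb certL loL certAll L13 (by decide) (by decide) lo13 ?_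
  intro k h1 h2
  have h1' : 37 ≤ k := h1
  have h2' : k < 41 := h2
  obtain ⟨a, -, c⟩ := hg12 k (by omega) (by omega)
  exact ⟨a, c⟩

theorem hg14 : ∀ k, 38 ≤ k → k < 41 → FactA tabs Amb (GrpL tabs L14) k := by
  refine factA_of tabs Amb certL loL certAll L14 (by decide) (by decide) lo14 ?_
  intro k h1 h2
  have h1' : 38 ≤ k := h1
  have h2' : k < 41 := h2
  obtain ⟨a, -, c⟩ := hg13 k (by omega) (by omega)
  exact ⟨a, c⟩

theorem hg15 : ∀ k, 39 ≤ k → k < 41 → FactA tabs Amb (GrpL tabs L15) k := by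
  refine factA_of tabs Amb certL loL certAll L15 (by decide) (by decide) lo15 ?_
  intro k h1 h2
  have h1' : 39 ≤ k := h1
  have h2' : k < 41 := h2
  obtain ⟨a, -, c⟩ := hg14 k (by omega) (by omega)
  exact ⟨a, c⟩

theorem hg16 : ∀ k, 40 ≤ k → k < 41 → FactA tabs Amb (GrpL tabs L16) k := by
  refine factA_of tabs Amb certL loL certAll L16 (by decide) (by decide) lo16 ?_
  intro k h1 h2
  have h1' : 40 ≤ k := h1
  have h2' : k < 41 := h2
  obtain ⟨a, -, c⟩ := hg15 k (by omega) (by omega)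
  exact ⟨a, c⟩

/-! ### the inclusions between the groups of the levels -/

theorem le1 : GrpL tabs L1 ≤ GrpL tabs L0 := grpL_le tabs L1 _ fun j hj => by
  have hj' : j < 2 := hj
  exact (hg0 (3 + j) (by omega) (by omega)).2.1

theorem le2 : GrpL tabs L2 ≤ GrpL tabs L1 := grpL_le tabs L2 _ fun j hj => by
  have hj' : j < 2 := hj
  exact (hg1 (5 + j) (by omega) (by omega)).2.1

theorem le3 : GrpL tabs L3 ≤ GrpL tabs L2 := grpL_le tabs L3 _ fun j hj => by
  have hj' : j < 3 := hj
  exact (hg2 (7 + j) (by omega) (by omega)).2.1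

theorem le4 : GrpL tabs L4 ≤ GrpL tabs L3 := grpL_le tabs L4 _ fun j hj => by
  have hj' : j < 4 := hj
  exact (hg3 (10 + j) (by omega) (by omega)).2.1

theorem le5 : GrpL tabs L5 ≤ GrpL tabs L4 := grpL_le tabs L5 _ fun j hj => by
  have hj' : j < 5 := hj
  exact (hg4 (14 + j) (by omega) (by omega)).2.1

theorem le6 : GrpL tabs L6 ≤ GrpL tabs L5 := grpL_le tabs L6 _ fun j hj => by
  have hj' : j < 11 := hj
  exact (hg5 (30 + j) (by omega) (by omega)).2.1

theorem le7 : GrpL tabs L7 ≤ GrpL tabs L6 := grpL_le tabs L7 _ fun j hj => by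
  have hj' : j < 10 := hj
  exact (hg6 (31 + j) (by omega) (by omega)).2.1

theorem le8 : GrpL tabs L8 ≤ GrpL tabs L7 := grpL_le tabs L8 _ fun j hj => by
  have hj' : j < 9 := hj
  exact (hg7 (32 + j) (by omega) (by omega)).2.1

theorem le9 : GrpL tabs L9 ≤ GrpL tabs L8 := grpL_le tabs L9 _ fun j hj => by
  have hj' : j < 8 := hj
  exact (hg8 (33 + j) (by omega) (by omega)).2.1

theorem le10 : GrpL tabs L10 ≤ GrpL tabs L9 := grpL_le tabs L10 _ fun j hj => by
  have hj' : j < 7 := hj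
  exact (hg9 (34 + j) (by omega) (by omega)).2.1

theorem le11 : GrpL tabs L11 ≤ GrpL tabs L10 := grpL_le tabs L11 _ fun j hj => by
  have hj' : j < 6 := hj
  exact (hg10 (35 + j) (by omega) (by omega)).2.1

theorem le12 : GrpL tabs L12 ≤ GrpL tabs L11 := grpL_le tabs L12 _ fun j hj => by
  have hj' : j < 5 := hj
  exact (hg11 (36 + j) (by omega) (by omega)).2.1

theorem le13 : GrpL tabs L13 ≤ GrpL tabs L12 := grpL_le tabs L13 _ fun j hj => by
  have hj' : j < 4 := hj
  exact (hg12 (37 + j) (by omega) (by omega)).2.1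

theorem le14 : GrpL tabs L14 ≤ GrpL tabs L13 := grpL_le tabs L14 _ fun j hj => by
  have hj' : j < 3 := hj
  exact (hg13 (38 + j) (by omega) (by omega)).2.1

theorem le15 : GrpL tabs L15 ≤ GrpL tabs L14 := grpL_le tabs L15 _ fun j hj => by
  have hj' : j < 2 := hj
  exact (hg14 (39 + j) (by omega) (by omega)).2.1

theorem le16 : GrpL tabs L16 ≤ GrpL tabs L15 := grpL_le tabs L16 _ fun j hj => by
  have hj' : j < 1 := hj
  exact (hg15 (40 + j) (by omega) (by omega)).2.1

/-! ### the words of the lower levels -/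

theorem low16 : LowOK tabs Amb [L16] (GrpL tabs L16) :=
  lowOK_cons tabs Amb (lettersB_of_levelB lvl16) hg16 (lowOK_nil tabs Amb ⊥) bot_le

theorem low15 : LowOK tabs Amb [L15, L16] (GrpL tabs L15) :=
  lowOK_cons tabs Amb (lettersB_of_levelB lvl15) hg15 low16 le16

theorem low14 : LowOK tabs Amb [L14, L15, L16] (GrpL tabs L14) :=
  lowOK_cons tabs Amb (lettersB_of_levelB lvl14) hg14 low15 le15

theorem low13 : LowOK tabs Amb [L13, L14, L15, L16] (GrpL tabs L13) :=
  lowOK_cons tabs Amb (lettersB_of_levelB lvl13) hg13 low14 le14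

theorem low12 : LowOK tabs Amb [L12, L13, L14, L15, L16] (GrpL tabs L12) :=
  lowOK_cons tabs Amb (lettersB_of_levelB lvl12) hg12 low13 le13

theorem low11 : LowOK tabs Amb [L11, L12, L13, L14, L15, L16] (GrpL tabs L11) :=
  lowOK_cons tabs Amb (lettersB_of_levelB lvl11) hg11 low12 le12

theorem low10 : LowOK tabs Amb [L10, L11, L12, L13, L14, L15, L16] (GrpL tabs L10) :=
  lowOK_cons tabs Amb (lettersB_of_levelB lvl10) hg10 low11 le11

theorem low9 : LowOK tabs Amb [L9, L10, L11, L12, L13, L14, L15, L16] (GrpL tabs L9) :=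
  lowOK_cons tabs Amb (lettersB_of_levelB lvl9) hg9 low10 le10

theorem low8 : LowOK tabs Amb [L8, L9, L10, L11, L12, L13, L14, L15, L16] (GrpL tabs L8) :=
  lowOK_cons tabs Amb (lettersB_of_levelB lvl8) hg8 low9 le9

theorem low7 : LowOK tabs Amb [L7, L8, L9, L10, L11, L12, L13, L14, L15, L16] (GrpL tabs L7) :=
  lowOK_cons tabs Amb (lettersB_of_levelB lvl7) hg7 low8 le8

theorem low6 : LowOK tabs Amb [L6, L7, L8, L9, L10, L11, L12, L13, L14, L15, L16] (GrpL tabs L6) :=
  lowOK_cons tabs Amb (lettersB_of_levelB lvl6) hg6 low7 le7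

theorem low5 : LowOK tabs Amb [L5, L6, L7, L8, L9, L10, L11, L12, L13, L14, L15, L16] (GrpL tabs L5) :=
  lowOK_cons tabs Amb (lettersB_of_levelB lvl5) hg5 low6 le6

theorem low4 : LowOK tabs Amb [L4, L5, L6, L7, L8, L9, L10, L11, L12, L13, L14, L15, L16] (GrpL tabs L4) :=
  lowOK_cons tabs Amb (lettersB_of_levelB lvl4) hg4 low5 le5

theorem low3 : LowOK tabs Amb [L3, L4, L5, L6, L7, L8, L9, L10, L11, L12, L13, L14, L15, L16] (GrpL tabs L3) :=
  lowOK_cons tabs Amb (lettersB_of_levelB lvl3) hg3 low4 le4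

theorem low2 : LowOK tabs Amb [L2, L3, L4, L5, L6, L7, L8, L9, L10, L11, L12, L13, L14, L15, L16] (GrpL tabs L2) :=
  lowOK_cons tabs Amb (lettersB_of_levelB lvl2) hg2 low3 le3

theorem low1 : LowOK tabs Amb [L1, L2, L3, L4, L5, L6, L7, L8, L9, L10, L11, L12, L13, L14, L15, L16] (GrpL tabs L1) :=
  lowOK_cons tabs Amb (lettersB_of_levelB lvl1) hg1 low2 le2

/-! ### the levels -/

theorem sound0 : SoundL tabs L0 (GrpL tabs L1) (by decide) :=
  level_soundA tabs Amb D hD hdet L0 [L1, L2, L3, L4, L5, L6, L7, L8, L9, L10, L11, L12, L13, L14, L15, L16] (GrpL tabs L1) hg0 low1 (by decide) (by decide)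
    (fix_of_fixGB tabs L1 506 (by decide) fix1 fun j hj => by
      have hj' : j < 2 := hj
      exact (hg0 (3 + j) (by omega) (by omega)).1)
    le1 lvl0 (fun x hx => stepsB_spec tabs st0 x (Nat.zero_le _) hx)

theorem sound1 : SoundL tabs L1 (GrpL tabs L2) (by decide) :=
  level_soundA tabs Amb D hD hdet L1 [L2, L3, L4, L5, L6, L7, L8, L9, L10, L11, L12, L13, L14, L15, L16] (GrpL tabs L2) hg1 low2 (by decide) (by decide)
    (fix_of_fixGB tabs L2 507 (by decide) fix2 fun j hj => by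
      have hj' : j < 2 := hj
      exact (hg1 (5 + j) (by omega) (by omega)).1)
    le2 lvl1 (fun x hx => stepsB_spec tabs st1 x (Nat.zero_le _) hx)

theorem sound2 : SoundL tabs L2 (GrpL tabs L3) (by decide) :=
  level_soundA tabs Amb D hD hdet L2 [L3, L4, L5, L6, L7, L8, L9, L10, L11, L12, L13, L14, L15, L16] (GrpL tabs L3) hg2 low3 (by decide) (by decide)
    (fix_of_fixGB tabs L3 508 (by decide) fix3 fun j hj => by
      have hj' : j < 3 := hj
      exact (hg2 (7 + j) (by omega) (by omega)).1)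
    le3 lvl2 (fun x hx => stepsB_spec tabs st2 x (Nat.zero_le _) hx)

theorem sound3 : SoundL tabs L3 (GrpL tabs L4) (by decide) :=
  level_soundA tabs Amb D hD hdet L3 [L4, L5, L6, L7, L8, L9, L10, L11, L12, L13, L14, L15, L16] (GrpL tabs L4) hg3 low4 (by decide) (by decide)
    (fix_of_fixGB tabs L4 509 (by decide) fix4 fun j hj => by
      have hj' : j < 4 := hj
      exact (hg3 (10 + j) (by omega) (by omega)).1)
    le4 lvl3 (fun x hx => stepsB_spec tabs st3 x (Nat.zero_le _) hx)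

theorem sound4 : SoundL tabs L4 (GrpL tabs L5) (by decide) :=
  level_soundA tabs Amb D hD hdet L4 [L5, L6, L7, L8, L9, L10, L11, L12, L13, L14, L15, L16] (GrpL tabs L5) hg4 low5 (by decide) (by decide)
    (fix_of_fixGB tabs L5 510 (by decide) fix5 fun j hj => by
      have hj' : j < 5 := hj
      exact (hg4 (14 + j) (by omega) (by omega)).1)
    le5 lvl4 (fun x hx => stepsB_spec tabs st4 x (Nat.zero_le _) hx)

theorem sound5 : SoundL tabs L5 (GrpL tabs L6) (by decide) :=
  level_soundA tabs Amb D hD hdet L5 [L6, L7, L8, L9, L10, L11, L12, L13, L14, L15, L16] (GrpL tabs L6) hg5 low6 (by decide) (by decide)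
    (fix_of_fixGB tabs L6 511 (by decide) fix6 fun j hj => by
      have hj' : j < 11 := hj
      exact (hg5 (30 + j) (by omega) (by omega)).1)
    le6 lvl5 (fun x hx => stepsB_spec tabs st5 x (Nat.zero_le _) hx)

/-! ### consequences -/

theorem card_G0 : Nat.card (GrpL tabs L0) = 10200960 * Nat.card (GrpL tabs L6) := by
  rw [sound0.1, orbL_card', cnt0, sound1.1, orbL_card', cnt1, sound2.1, orbL_card', cnt2, sound3.1, orbL_card', cnt3,
    sound4.1, orbL_card', cnt4, sound5.1, orbL_card', cnt5]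
  ring

theorem G6_le_G0 : GrpL tabs L6 ≤ GrpL tabs L0 :=
  le6.trans (le5.trans (le4.trans (le3.trans (le2.trans le1))))

/-- an element of the group that fixes six of the 24 points lies in the last group of the chain -/
theorem mem_G6 {g : Pm} (hg : g ∈ GrpL tabs L0) (hfix : ∀ i : Fin 4060, 506 ≤ i.1 → i.1 < 512 → g i = i) :
    g ∈ GrpL tabs L6 := by
  have key : ∀ (L L' : Lvl) (hb : L.b < 4060), SoundL tabs L (GrpL tabs L') hb → 506 ≤ L.b → L.b < 512 →
      g ∈ GrpL tabs L → g ∈ GrpL tabs L' := by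
    intro L L' hb hs h1 h2 hgL
    rw [← hs.2.1]
    refine Subgroup.mem_inf.mpr ⟨hgL, ?_⟩
    rw [MulAction.mem_stabilizer_iff, Equiv.Perm.smul_def]
    exact hfix _ h1 h2
  have h1 := key L0 L1 _ sound0 (by decide) (by decide) hg
  have h2 := key L1 L2 _ sound1 (by decide) (by decide) h1
  have h3 := key L2 L3 _ sound2 (by decide) (by decide) h2
  have h4 := key L3 L4 _ sound3 (by decide) (by decide) h3
  have h5 := key L4 L5 _ sound4 (by decide) (by decide) h4
  exact key L5 L6 _ sound5 (by decide) (by decide) h5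

end Cfsg.Agent.Helper22.E23
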