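import Cfsg.Agent.Helper22.E23ChkB
import Cfsg.Agent.Helper27.GolayFacts

/-!
# A non-split extension of an elementary abelian group of order 2048 by the Mathieu group of degree 23: sign changes

A word on the 24 points changes the sign of the word of a pair, if its dot product with that word is one.  The
sign change of a word is trivial if and only if the word or its sum with the unit vector of the last point lies
in the Golay code.
-/

set_option autoImplicit false

namespace Cfsg.Agent.Helper22.E23

open Cfsg Cfsg.Agent.Helper22.BigPerm Cfsg.Agent.Helper22.BigChain Cfsg.Agent.Helper22.E23Tabs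
  Cfsg.Agent.Helper22.E23Cert

/-- the words on the 24 points -/
abbrev V : Type := GolayPt → ZMod 2

/-- the dot product of two words -/
def dot (a b : V) : ZMod 2 := ∑ p, a p * b p

theorem dot_add_left (a b c : V) : dot (a + b) c = dot a c + dot b c := by
  unfold dot
  rw [← Finset.sum_add_distrib]
  apply Finset.sum_congr rfl
  intro p _
  rw [Pi.add_apply, add_mul]

theorem dot_add_right (a b c : V) : dot a (b + c) = dot a b + dot a c := by
  unfold dot
  rw [← Finset.sum_add_distrib]
  apply Finset.sum_congr rfl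
  intro p _
  rw [Pi.add_apply, mul_add]

theorem dot_zero_left (c : V) : dot 0 c = 0 := by
  unfold dot
  apply Finset.sum_eq_zero
  intro p _
  rw [Pi.zero_apply, zero_mul]

theorem dot_zero_right (c : V) : dot c 0 = 0 := by
  unfold dot
  apply Finset.sum_eq_zero
  intro p _
  rw [Pi.zero_apply, mul_zero]

theorem dot_comp (a g : V) (σ : Equiv.Perm GolayPt) : dot (a ∘ ⇑σ⁻¹) g = dot a (g ∘ ⇑σ) := by
  unfold dot
  rw [← Equiv.sum_comp σ]
  apply Finset.sum_congr rfl
  intro p _
  show a (σ.symm (σ p)) * g (σ p) = a p * g (σ p)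
  rw [Equiv.symm_apply_apply]

theorem dot_single (q : GolayPt) (g : V) : dot (Pi.single q 1) g = g q := by
  unfold dot
  rw [Finset.sum_eq_single q]
  · rw [Pi.single_eq_same, one_mul]
  · intro p _ hp
    rw [Pi.single_eq_of_ne hp, zero_mul]
  · intro h
    exact absurd (Finset.mem_univ q) h

theorem dot_decW' (a b : ℕ) : dot (Helper27.decW a) (Helper27.decW b) = (Helper27.popc 24 (a &&& b) : ZMod 2) :=
  Helper27.dot_decW a b

theorem zmod2_cases (z : ZMod 2) : z = 0 ∨ z = 1 := by
  revert z
  decide

theorem add_self_V (w : V) : w + w = 0 := by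
  funext p
  exact CharTwo.add_self_eq_zero (w p)

/-- a property of words that holds for the unit vectors and is additive holds for all words -/
theorem single_induction {Pr : V → Prop} (h0 : Pr 0) (hadd : ∀ a b, Pr a → Pr b → Pr (a + b))
    (h1 : ∀ p, Pr (Pi.single p 1)) : ∀ w, Pr w := by
  intro w
  have e : w = ∑ p, Pi.single p (w p) := (Finset.univ_sum_single w).symm
  rw [e]
  apply Finset.sum_induction _ Pr hadd h0
  intro p _
  rcases zmod2_cases (w p) with h | h
  · rw [h, Pi.single_zero]
    exact h0
  · rw [h]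
    exact h1 p

/-! ### the other point of a pair -/

theorem flipN_eq (i : ℕ) : flipN i = if i % 2 = 0 then i + 1 else i - 1 := by
  unfold flipN
  by_cases h : i % 2 = 0
  · have e : Nat.beq (Nat.mod i 2) 0 = true := by
      rw [Nat.beq_eq]
      exact h
    rw [e, if_pos h]
    rfl
  · have e : Nat.beq (Nat.mod i 2) 0 = false := by
      rw [← Bool.not_eq_true, Nat.beq_eq]
      exact h
    rw [e, if_neg h]
    rfl

theorem flipN_div (i : ℕ) : flipN i / 2 = i / 2 := by
  rw [flipN_eq]
  split_ifs <;> omega

theorem flipN_flipN (i : ℕ) : flipN (flipN i) = i := by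
  rw [flipN_eq (flipN i), flipN_eq i]
  split_ifs <;> omega

theorem flipN_lt {i : ℕ} (h : i < 506) : flipN i < 506 := by
  rw [flipN_eq]
  split_ifs <;> omega

theorem flipN_ne (i : ℕ) : flipN i ≠ i := by
  rw [flipN_eq]
  split_ifs <;> omega

/-- the other point of the pair, if the value is one -/
def flipIf (c : ZMod 2) (i : ℕ) : ℕ := if c = 1 then flipN i else i

theorem flipIf_zero (i : ℕ) : flipIf 0 i = i := by
  unfold flipIf
  rw [if_neg (by decide)]

theorem flipIf_one (i : ℕ) : flipIf 1 i = flipN i := by
  unfold flipIf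
  rw [if_pos rfl]

theorem flipIf_add (c d : ZMod 2) (i : ℕ) : flipIf (c + d) i = flipIf c (flipIf d i) := by
  have e11 : (1 + 1 : ZMod 2) = 0 := by decide
  rcases zmod2_cases c with rfl | rfl <;> rcases zmod2_cases d with rfl | rfl
  · rw [add_zero, flipIf_zero, flipIf_zero]
  · rw [zero_add, flipIf_zero]
  · rw [add_zero, flipIf_zero]
  · rw [e11, flipIf_zero, flipIf_one, flipIf_one, flipN_flipN]

theorem flipIf_div (c : ZMod 2) (i : ℕ) : flipIf c i / 2 = i / 2 := by
  unfold flipIf
  split_ifs
  · exact flipN_div i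
  · rfl

theorem flipIf_lt (c : ZMod 2) {i : ℕ} (h : i < 506) : flipIf c i < 506 := by
  unfold flipIf
  split_ifs
  · exact flipN_lt h
  · exact h

/-! ### the sign change of a word -/

/-- the word of a pair -/
def hw (k : ℕ) : V := Helper27.decW (hsN k)

/-- the function of the sign change of a word -/
def thetaFn (w : V) (i : ℕ) : ℕ := if i < 506 then flipIf (dot w (hw (i / 2))) i else i

theorem thetaFn_add (a b : V) (i : ℕ) : thetaFn (a + b) i = thetaFn a (thetaFn b i) := by
  unfold thetaFn
  by_cases h : i < 506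
  · rw [if_pos h, if_pos h, if_pos (flipIf_lt _ h), flipIf_div, dot_add_left, flipIf_add]
  · rw [if_neg h, if_neg h, if_neg h]

theorem thetaFn_zero (i : ℕ) : thetaFn 0 i = i := by
  unfold thetaFn
  split_ifs
  · rw [dot_zero_left, flipIf_zero]
  · rfl

theorem thetaFn_invol (w : V) (i : ℕ) : thetaFn w (thetaFn w i) = i := by
  rw [← thetaFn_add, add_self_V, thetaFn_zero]

theorem thetaFn_lt (w : V) {i : ℕ} (h : i < 4060) : thetaFn w i < 4060 := by
  unfold thetaFn
  split_ifs with h'
  · exact lt_trans (flipIf_lt _ h') (by norm_num)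
  · exact h

/-- the sign change of a word -/
def Theta (w : V) : Pm where
  toFun i := ⟨thetaFn w i.1, thetaFn_lt w i.2⟩
  invFun i := ⟨thetaFn w i.1, thetaFn_lt w i.2⟩
  left_inv i := Fin.ext (thetaFn_invol w i.1)
  right_inv i := Fin.ext (thetaFn_invol w i.1)

theorem rep_theta (w : V) : Rep (thetaFn w) (Theta w) := fun _ => rfl

theorem theta_add (a b : V) : Theta (a + b) = Theta a * Theta b := by
  apply Equiv.ext
  intro i
  apply Fin.ext
  show thetaFn (a + b) i.1 = thetaFn a (thetaFn b i.1)
  exact thetaFn_add a b i.1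

theorem theta_zero : Theta 0 = 1 := by
  apply Equiv.ext
  intro i
  apply Fin.ext
  show thetaFn 0 i.1 = i.1
  exact thetaFn_zero i.1

theorem theta_mul_self (w : V) : Theta w * Theta w = 1 := by
  rw [← theta_add, add_self_V, theta_zero]

theorem theta_inv (w : V) : (Theta w)⁻¹ = Theta w := inv_eq_of_mul_eq_one_left (theta_mul_self w)

theorem theta_comm (a b : V) : Theta a * Theta b = Theta b * Theta a := by
  rw [← theta_add, ← theta_add, add_comm]

theorem theta_mem (S : Subgroup Pm) (h : ∀ p, Theta (Pi.single p 1) ∈ S) : ∀ w, Theta w ∈ S := by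
  apply single_induction
  · rw [theta_zero]
    exact S.one_mem
  · intro a b ha hb
    rw [theta_add]
    exact S.mul_mem ha hb
  · exact h

/-- a sign change fixes the 24 points and the points after them -/
theorem theta_fix (w : V) (i : Fin 4060) (hi : 506 ≤ i.1) : Theta w i = i := by
  apply Fin.ext
  show thetaFn w i.1 = i.1
  unfold thetaFn
  rw [if_neg (by omega)]

theorem theta_eq_one_iff (w : V) : Theta w = 1 ↔ ∀ k < 253, dot w (hw k) = 0 := by
  constructor
  · intro h k hk
    have h1 : (Theta w ⟨2 * k, by omega⟩).1 = 2 * k := by rw [h]; rfl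
    have h2 : thetaFn w (2 * k) = 2 * k := h1
    unfold thetaFn at h2
    rw [if_pos (by omega), Nat.mul_div_cancel_left k (by norm_num)] at h2
    rcases zmod2_cases (dot w (hw k)) with h3 | h3
    · exact h3
    · rw [h3, flipIf_one] at h2
      exact absurd h2 (flipN_ne _)
  · intro h
    apply rep_unique (rep_theta w)
    apply rep_congr rep_one
    intro i _
    unfold thetaFn
    split_ifs with h'
    · rw [h (i / 2) (by omega), flipIf_zero]
    · rfl

/-! ### sign changes and masks -/

theorem natCast_zmod2 (n : ℕ) : (n : ZMod 2) = if n % 2 = 1 then 1 else 0 := by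
  rw [← ZMod.natCast_mod n 2]
  rcases Nat.mod_two_eq_zero_or_one n with h | h
  · rw [h, if_neg (by norm_num)]
    rfl
  · rw [h, if_pos rfl]
    rfl

theorem flipFn_eq (n i : ℕ) : flipFn n i = thetaFn (Helper27.decW n) i := by
  unfold flipFn thetaFn
  by_cases h : i < 506
  · have e : Nat.blt i 506 = true := by simpa [Nat.blt] using h
    rw [e, if_pos h, Bool.true_and]
    unfold hw
    rw [dot_decW', natCast_zmod2]
    have e2 : Nat.div i 2 = i / 2 := rfl
    have e3 : Nat.land n (hsN (i / 2)) = n &&& hsN (i / 2) := rfl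
    rw [e2, e3]
    unfold parN
    have e4 : Nat.mod (Helper27.popc 24 (n &&& hsN (i / 2))) 2 = Helper27.popc 24 (n &&& hsN (i / 2)) % 2 := rfl
    rw [e4]
    by_cases hp : Helper27.popc 24 (n &&& hsN (i / 2)) % 2 = 1
    · rw [if_pos hp, hp, flipIf_one]
      rfl
    · rw [if_neg hp, flipIf_zero]
      have e5 : Nat.beq (Helper27.popc 24 (n &&& hsN (i / 2)) % 2) 1 = false := by
        rw [← Bool.not_eq_true, Nat.beq_eq]
        exact hp
      rw [e5]
      rfl
  · have e : Nat.blt i 506 = false := by
      rw [← Bool.not_eq_true]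
      intro hcon
      apply h
      simpa [Nat.blt] using hcon
    rw [e, if_neg h]
    rfl

theorem theta_tab {k n : ℕ} (h : flipB k n = true) : Rep (look (tab tabs k)) (Theta (Helper27.decW n)) := by
  apply rep_congr (rep_theta _)
  intro i hi
  rw [← flipFn_eq]
  exact Nat.eq_of_beq_eq_true (allBelow_spec h i hi)

theorem P_eq_theta {k n : ℕ} (h : flipB k n = true) : P (tab tabs k) = Theta (Helper27.decW n) := P_eq (theta_tab h)

theorem decW_two_pow {q : ℕ} (hq : q < 24) : Helper27.decW (2 ^ q) = Pi.single (Helper27.pt q) 1 := by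
  funext p
  rw [Helper27.decW_apply, Nat.testBit_two_pow, Pi.single_apply]
  by_cases h : q = Helper27.idx p
  · have : p = Helper27.pt q := by rw [h, Helper27.pt_idx]
    rw [if_pos (by simpa using h), if_pos this]
  · have : ¬ p = Helper27.pt q := by
      intro hp
      apply h
      rw [hp, Helper27.idx_pt hq]
    rw [if_neg (by simpa using h), if_neg this]

/-- the tables of the sign changes of the unit vectors -/
theorem theta_single (p : GolayPt) :
    (∃ g : Pm, Rep (look (tab tabs (41 + Helper27.idx p))) g) ∧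
      P (tab tabs (41 + Helper27.idx p)) = Theta (Pi.single p 1) := by
  have hq := Helper27.idx_lt p
  have h := allBelow_spec uAll (Helper27.idx p) hq
  have e : Nat.shiftLeft 1 (Helper27.idx p) = 2 ^ Helper27.idx p := by
    show 1 <<< Helper27.idx p = _
    rw [Nat.one_shiftLeft]
  have e2 : Nat.add 41 (Helper27.idx p) = 41 + Helper27.idx p := rfl
  rw [e, e2] at h
  have h2 := theta_tab h
  rw [decW_two_pow hq, Helper27.pt_idx] at h2
  exact ⟨⟨_, h2⟩, P_eq h2⟩

/-- the tables of the generators of the normal subgroup -/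
theorem theta_gen (j : ℕ) (hj : j < 11) : P (tab tabs (30 + j)) = Theta (Helper27.decW (tmL.getD j 0)) :=
  P_eq_theta (allBelow_spec tAll j hj)

/-! ### the kernel -/

theorem hw_mem (k : ℕ) (hk : k < 253) : hw k ∈ golayCode ∧ hw k none = 0 := by
  have h := allBelow_spec hsAll k hk
  rw [strict_eq, Bool.and_eq_true] at h
  obtain ⟨h1, h2⟩ := h
  have h1' : Helper27.cw (hsN k % 4096) = hsN k := Nat.eq_of_beq_eq_true h1
  have h2' : hsN k < 8388608 := by simpa [Nat.blt] using h2
  constructor
  · unfold hw
    rw [Helper27.decW_mem_iff (lt_trans h2' (by norm_num))]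
    exact h1'
  · unfold hw
    rw [Helper27.decW_apply]
    have : (hsN k).testBit (Helper27.idx none) = false := by
      apply Nat.testBit_lt_two_pow
      exact lt_of_lt_of_le h2' (by decide)
    rw [this]
    rfl

theorem decW_last : Helper27.decW (2 ^ 23) = Pi.single (none : GolayPt) 1 := by
  have := decW_two_pow (q := 23) (by norm_num)
  rw [this]
  rfl

theorem dot_eq_zero_of_mem {w : V} (h : w ∈ golayCode ∨ w + Pi.single none 1 ∈ golayCode) (k : ℕ) (hk : k < 253) :
    dot w (hw k) = 0 := by
  obtain ⟨h1, h2⟩ := hw_mem k hk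
  rcases h with h | h
  · exact Helper27.golay_orth h h1
  · have h3 : dot (w + Pi.single none 1) (hw k) = 0 := Helper27.golay_orth h h1
    rw [dot_add_left, dot_single, h2, add_zero] at h3
    exact h3

theorem mem_of_dot_eq_zero {w : V} (h : ∀ k < 253, dot w (hw k) = 0) :
    w ∈ golayCode ∨ w + Pi.single none 1 ∈ golayCode := by
  obtain ⟨n, hn, rfl⟩ := Helper27.decW_surj w
  have hlt : n % 4096 < 4096 := Nat.mod_lt _ (by norm_num)
  set c := Helper27.cw (n % 4096) with hc
  have hcmem : Helper27.decW c ∈ golayCode := Helper27.decW_cw_mem _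
  have hcmod : c % 4096 = n % 4096 := Helper27.cw_mod hlt
  have hclt : c < 2 ^ 24 := Helper27.cw_lt _
  set r := n ^^^ c with hr
  have hrmod : r % 4096 = 0 := by
    have : (4096 : ℕ) = 2 ^ 12 := by norm_num
    rw [hr, this, Nat.xor_mod_two_pow, ← this, hcmod, Nat.xor_self]
  have hrlt : r < 2 ^ 24 := Nat.xor_lt_two_pow hn hclt
  have hn_eq : n = r ^^^ c := by
    rw [hr, Nat.xor_assoc, Nat.xor_self, Nat.xor_zero]
  have hdot : ∀ k < 253, Helper27.popc 24 (r &&& hsN k) % 2 = 0 := by
    intro k hk
    have h1 : dot (Helper27.decW r) (hw k) = 0 := by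
      rw [hr, Helper27.decW_xor, dot_add_left, h k hk, zero_add]
      exact Helper27.golay_orth hcmem (hw_mem k hk).1
    unfold hw at h1
    rw [dot_decW', natCast_zmod2] at h1
    by_contra hne
    have : Helper27.popc 24 (r &&& hsN k) % 2 = 1 := by omega
    rw [if_pos this] at h1
    exact absurd h1 (by decide)
  obtain ⟨j, hj⟩ : ∃ j, r = j * 4096 := ⟨r / 4096, by omega⟩
  have hj4096 : j < 4096 := by
    have : (2 : ℕ) ^ 24 = 4096 * 4096 := by norm_num
    rw [this, hj] at hrlt
    exact Nat.lt_of_mul_lt_mul_right hrlt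
  have hker := allBelow_spec kerAll j hj4096
  rw [Bool.or_eq_true, Bool.or_eq_true] at hker
  rcases hker with (h0 | h0) | h0
  · -- the word lies in the code
    left
    have : j = 0 := Nat.eq_of_beq_eq_true h0
    rw [this, Nat.zero_mul] at hj
    rw [hn_eq, hj, Nat.zero_xor]
    exact hcmem
  · right
    have : j = 2048 := Nat.eq_of_beq_eq_true h0
    have hj' : r = 2 ^ 23 := by
      rw [hj, this]
      norm_num
    rw [hn_eq, hj', Helper27.decW_xor, decW_last, add_comm (Pi.single none 1), add_assoc, add_self_V, add_zero]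
    exact hcmem
  · exfalso
    obtain ⟨k, hk, hpar⟩ := anyBelow_spec h0
    have := hdot k hk
    have hpar' : Helper27.popc 24 (j * 4096 &&& hsN k) % 2 = 1 := Nat.eq_of_beq_eq_true hpar
    rw [← hj] at hpar'
    omega

theorem theta_eq_one_iff_mem (w : V) : Theta w = 1 ↔ (w ∈ golayCode ∨ w + Pi.single none 1 ∈ golayCode) := by
  rw [theta_eq_one_iff]
  exact ⟨mem_of_dot_eq_zero, dot_eq_zero_of_mem⟩

/-- a word with trivial sign change is orthogonal to the words of the code that avoid the last point -/
theorem dot_eq_zero_of_theta {w g : V} (h : Theta w = 1) (hg : g ∈ golayCode) (hg0 : g none = 0) : dot w g = 0 := by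
  rcases (theta_eq_one_iff_mem w).mp h with h | h
  · exact Helper27.golay_orth h hg
  · have h3 : dot (w + Pi.single none 1) g = 0 := Helper27.golay_orth h hg
    rw [dot_add_left, dot_single, hg0, add_zero] at h3
    exact h3

end Cfsg.Agent.Helper22.E23
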