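import Cfsg.Agent.Helper22.E23MainA
import Cfsg.Agent.Helper22.E23Theta
import Cfsg.Agent.Helper27.SimpleFinal
import Cfsg.Agent.Helper27.AutRigid
import Cfsg.Prelude.Def_Spor_Mathieu

/-!
# A non-split extension of an elementary abelian group of order 2048 by the Mathieu group of degree 23: the quotient

The group acts on the 24 points, as a subgroup of the Mathieu group of degree 23; the kernel of the action is the
group of the sign changes, and the image is the whole Mathieu group.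
-/

set_option autoImplicit false

namespace Cfsg.Agent.Helper22.E23

open Cfsg Cfsg.Agent.Helper22.BigPerm Cfsg.Agent.Helper22.BigChain Cfsg.Agent.Helper22.E23Tabs
  Cfsg.Agent.Helper22.E23Cert

open scoped Pointwise

/-! ### the order of the Mathieu group -/

theorem card_M23 : Nat.card ↥Spor.M23 = 10200960 := by
  have := Helper27.M24_isPretransitive
  obtain ⟨γ, hγ⟩ := MulAction.exists_smul_eq M24 (none : GolayPt) (Helper27.pt 0)
  have h1 : ∀ k : Equiv.Perm GolayPt, k ∈ Spor.M23 ↔ k ∈ Helper27.fixH M24 {none} := by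
    intro k
    rw [Helper27.mem_fixH, Spor.M23, Subgroup.mem_inf, MulAction.mem_stabilizer_iff]
    simp only [Finset.mem_singleton, forall_eq]
    rfl
  have hF : (γ : Equiv.Perm GolayPt) • ({none} : Finset GolayPt) = Helper27.ptsOf [0] := by
    have e : Helper27.ptsOf [0] = {Helper27.pt 0} := by simp [Helper27.ptsOf]
    rw [Finset.smul_finset_singleton, e]
    congr 1
  have h2 : ∀ k : Equiv.Perm GolayPt, k ∈ Helper27.fixH M24 (Helper27.ptsOf [0]) ↔
      (γ : Equiv.Perm GolayPt)⁻¹ * k * (γ : Equiv.Perm GolayPt) ∈ Spor.M23 := by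
    intro k
    rw [h1, ← Helper27.mem_fixH_M24_smul γ.2, hF]
  rw [← Nat.card_congr (Helper27.conjSubgroupEquiv (γ : Equiv.Perm GolayPt) h2).toEquiv]
  exact Helper27.card_fix24_1

/-! ### the action on the 24 points -/

theorem amb_range {g : Pm} (hg : g ∈ Amb) (i : Fin 4060) (h1 : 506 ≤ i.1) (h2 : i.1 < 530) :
    506 ≤ (g i).1 ∧ (g i).1 < 530 := ((mem_Amb.mp hg).2 i).mpr ⟨h1, h2⟩

theorem pt_lt (p : GolayPt) : 506 + Helper27.idx p < 4060 := by
  have := Helper27.idx_lt p
  omega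

/-- the action of a permutation on the 24 points -/
def rhoFun (g : Pm) (p : GolayPt) : GolayPt := Helper27.pt ((g ⟨506 + Helper27.idx p, pt_lt p⟩).1 - 506)

theorem rhoFun_eq (g : Pm) (p : GolayPt) :
    rhoFun g p = Helper27.pt ((g ⟨506 + Helper27.idx p, pt_lt p⟩).1 - 506) := rfl

theorem rhoFun_one (p : GolayPt) : rhoFun 1 p = p := by
  rw [rhoFun_eq]
  have : ((1 : Pm) ⟨506 + Helper27.idx p, pt_lt p⟩).1 = 506 + Helper27.idx p := rfl
  rw [this, Nat.add_sub_cancel_left, Helper27.pt_idx]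

theorem rhoFun_mul {g h : Pm} (hh : h ∈ Amb) (p : GolayPt) : rhoFun (g * h) p = rhoFun g (rhoFun h p) := by
  rw [rhoFun_eq, rhoFun_eq g, rhoFun_eq h]
  have hp := Helper27.idx_lt p
  obtain ⟨r1, r2⟩ := amb_range hh ⟨506 + Helper27.idx p, pt_lt p⟩ (by simp) (by simp; omega)
  have e : (⟨506 + Helper27.idx (Helper27.pt ((h ⟨506 + Helper27.idx p, pt_lt p⟩).1 - 506)), pt_lt _⟩ : Fin 4060) =
      h ⟨506 + Helper27.idx p, pt_lt p⟩ := by
    apply Fin.ext
    show 506 + Helper27.idx (Helper27.pt ((h ⟨506 + Helper27.idx p, pt_lt p⟩).1 - 506)) = _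
    rw [Helper27.idx_pt (by omega)]
    omega
  rw [e]
  rfl

theorem rhoFun_rep {f : ℕ → ℕ} {g : Pm} (h : Rep f g) (q : ℕ) (hq : q < 24) :
    rhoFun g (Helper27.pt q) = Helper27.pt (f (506 + q) - 506) := by
  rw [rhoFun_eq, h]
  show Helper27.pt (f (506 + Helper27.idx (Helper27.pt q)) - 506) = _
  rw [Helper27.idx_pt hq]

attribute [irreducible] rhoFun

/-- the action of an element of the ambient subgroup on the 24 points -/
noncomputable def rhoPerm (g : ↥Amb) : Equiv.Perm GolayPt where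
  toFun := rhoFun g.1
  invFun := rhoFun g.1⁻¹
  left_inv p := by rw [← rhoFun_mul g.2, inv_mul_cancel, rhoFun_one]
  right_inv p := by rw [← rhoFun_mul (Amb.inv_mem g.2), mul_inv_cancel, rhoFun_one]

/-- the action of the ambient subgroup on the 24 points, as a homomorphism -/
noncomputable def rho : ↥Amb →* Equiv.Perm GolayPt where
  toFun := rhoPerm
  map_one' := Equiv.ext fun p => rhoFun_one p
  map_mul' _ h := Equiv.ext fun p => rhoFun_mul h.2 p

theorem rho_apply (g : ↥Amb) (p : GolayPt) : rho g p = rhoFun g.1 p := rfl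

theorem rho_rep {f : ℕ → ℕ} {g : Pm} (h : Rep f g) (hg : g ∈ Amb) (q : ℕ) (hq : q < 24) :
    rho ⟨g, hg⟩ (Helper27.pt q) = Helper27.pt (f (506 + q) - 506) := by
  rw [rho_apply]
  exact rhoFun_rep h q hq

theorem rho_rep_lt {f : ℕ → ℕ} {g : Pm} (h : Rep f g) (hg : g ∈ Amb) (q : ℕ) (hq : q < 24) :
    506 ≤ f (506 + q) ∧ f (506 + q) < 530 := by
  have := amb_range hg ⟨506 + q, by omega⟩ (by simp) (by simp; omega)
  rw [h] at this
  exact this

theorem actW_cons_nil (j q : ℕ) : actW [j] q = look (tab tabs j) (506 + q) - 506 := by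
  unfold actW
  rw [applyW_cons]
  rfl

theorem imgL_getD (w : List ℕ) (q : ℕ) (hq : q < 24) : (imgL w).getD q 0 = actW w q := by
  unfold imgL
  rw [List.getD_eq_getElem _ _ (by simpa using hq)]
  simp

theorem pt_23 : Helper27.pt 23 = none := rfl

theorem idx_none : Helper27.idx none = 23 := rfl

/-- the action of a table on the 24 points lies in the Mathieu group of degree 23 -/
theorem rho_tab_mem (j : ℕ) (hgood : ∃ g : Pm, Rep (look (tab tabs j)) g) (hamb : P (tab tabs j) ∈ Amb)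
    (hv : Helper27.validTbl (imgL [j]) = true) (hc : Helper27.tblInCode (imgL [j]) = true)
    (hl : Nat.beq (actW [j] 23) 23 = true) : rho ⟨P (tab tabs j), hamb⟩ ∈ Spor.M23 := by
  have e : rho ⟨P (tab tabs j), hamb⟩ = Helper27.tblPerm (imgL [j]) hv := by
    apply Equiv.ext
    intro p
    rw [← Helper27.pt_idx p, rho_rep (rep_P hgood.choose_spec) hamb _ (Helper27.idx_lt p),
      Helper27.tblPerm_pt _ _ (Helper27.idx_lt p), imgL_getD _ _ (Helper27.idx_lt p), actW_cons_nil]
  rw [e]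
  unfold Spor.M23
  refine Subgroup.mem_inf.mpr ⟨Helper27.tblPerm_mem_M24 _ hv hc, ?_⟩
  rw [MulAction.mem_stabilizer_iff, Equiv.Perm.smul_def, Helper27.tblPerm_apply, idx_none, imgL_getD _ _ (by norm_num),
    Nat.eq_of_beq_eq_true hl]
  rfl

/-! ### conjugation of the sign changes -/

theorem single_comp (p : GolayPt) (σ : Equiv.Perm GolayPt) :
    (Pi.single p 1 : V) ∘ ⇑σ⁻¹ = Pi.single (σ p) 1 := by
  funext q
  show (Pi.single p 1 : V) (σ.symm q) = _
  rw [Pi.single_apply, Pi.single_apply]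
  by_cases h : q = σ p
  · rw [if_pos h, if_pos (by rw [h, Equiv.symm_apply_apply])]
  · rw [if_neg h, if_neg]
    intro h'
    apply h
    rw [← h', Equiv.apply_symm_apply]

theorem eqvB_spec {j : ℕ} (he : eqvB j = true) (q : ℕ) (hq : q < 24) (i : ℕ) (hi : i < 4060) :
    look (tab tabs (41 + (look (tab tabs j) (506 + q) - 506))) (look (tab tabs j) i) =
      look (tab tabs j) (look (tab tabs (41 + q)) i) := by
  have hh := allBelow_spec he q hq
  rw [strict_eq] at hh
  have := Nat.eq_of_beq_eq_true (allBelow_spec hh i hi)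
  rw [lookS_eq, lookS_eq, lookS_eq, lookS_eq] at this
  exact this

/-- a generator conjugates the sign changes in the way its action on the 24 points says -/
theorem eqv_gen (j : ℕ) (hgood : ∃ g : Pm, Rep (look (tab tabs j)) g) (hamb : P (tab tabs j) ∈ Amb)
    (he : eqvB j = true) (w : V) :
    Theta (w ∘ ⇑(rho ⟨P (tab tabs j), hamb⟩)⁻¹) = P (tab tabs j) * Theta w * (P (tab tabs j))⁻¹ := by
  have hrep := rep_P hgood.choose_spec
  revert w
  apply single_induction
  · have : (0 : V) ∘ ⇑(rho ⟨P (tab tabs j), hamb⟩)⁻¹ = 0 := rfl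
    rw [this, theta_zero, mul_one, mul_inv_cancel]
  · intro a b ha hb
    have : (a + b) ∘ ⇑(rho ⟨P (tab tabs j), hamb⟩)⁻¹ =
        a ∘ ⇑(rho ⟨P (tab tabs j), hamb⟩)⁻¹ + b ∘ ⇑(rho ⟨P (tab tabs j), hamb⟩)⁻¹ := rfl
    rw [this, theta_add, theta_add, ha, hb]
    group
  · intro p
    have hq := Helper27.idx_lt p
    obtain ⟨r1, r2⟩ := rho_rep_lt hrep hamb _ hq
    set q' := look (tab tabs j) (506 + Helper27.idx p) - 506 with hq'
    have hq'lt : q' < 24 := by omega
    have e1 : rho ⟨P (tab tabs j), hamb⟩ p = Helper27.pt q' := by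
      conv_lhs => rw [← Helper27.pt_idx p]
      exact rho_rep hrep hamb _ hq
    rw [single_comp, e1]
    obtain ⟨⟨g1, hg1⟩, e2⟩ := theta_single (Helper27.pt q')
    obtain ⟨⟨g2, hg2⟩, e3⟩ := theta_single p
    rw [Helper27.idx_pt hq'lt] at hg1 e2
    rw [← e2, ← e3, eq_mul_inv_iff_mul_eq]
    have h1 := rep_mul (rep_P hg1) hrep
    have h2 := rep_mul hrep (rep_P hg2)
    apply rep_unique h1
    apply rep_congr h2
    intro i hi
    exact eqvB_spec he _ hq i hi

/-- the facts on an element of the group: it lies in the ambient subgroup, acts on the 24 points as an element of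
the Mathieu group, and conjugates the sign changes in the way this action says -/
def GoodE (g : Pm) : Prop :=
  ∃ hA : g ∈ Amb, rho ⟨g, hA⟩ ∈ Spor.M23 ∧ ∀ w : V, Theta (w ∘ ⇑(rho ⟨g, hA⟩)⁻¹) = g * Theta w * g⁻¹

theorem goodE_of_mem {g : Pm} (hg : g ∈ GrpL tabs L0) : GoodE g := by
  unfold GrpL at hg
  induction hg using Subgroup.closure_induction with
  | mem x hx =>
    obtain ⟨j, hj, hxj⟩ := hx
    have hj' : j < 2 := hj
    have e0 : L0.lo + 0 = 1 := rfl
    have e1 : L0.lo + 1 = 2 := rfl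
    rw [hxj]
    interval_cases j
    · rw [e0]
      exact ⟨amb_1, rho_tab_mem 1 good_1 amb_1 valid1 code1 last1, eqv_gen 1 good_1 amb_1 eqv1⟩
    · rw [e1]
      exact ⟨amb_2, rho_tab_mem 2 good_2 amb_2 valid2 code2 last2, eqv_gen 2 good_2 amb_2 eqv2⟩
  | one =>
    refine ⟨Amb.one_mem, ?_, ?_⟩
    · have : (⟨1, Amb.one_mem⟩ : ↥Amb) = 1 := rfl
      rw [this, map_one]
      exact Subgroup.one_mem _
    · intro w
      have : (⟨1, Amb.one_mem⟩ : ↥Amb) = 1 := rfl
      rw [this, map_one]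
      simp only [inv_one, one_mul, mul_one]
      rfl
  | mul x y _ _ ihx ihy =>
    obtain ⟨ax, mx, ex⟩ := ihx
    obtain ⟨ay, my, ey⟩ := ihy
    have e : (⟨x * y, Amb.mul_mem ax ay⟩ : ↥Amb) = ⟨x, ax⟩ * ⟨y, ay⟩ := rfl
    refine ⟨Amb.mul_mem ax ay, ?_, ?_⟩
    · rw [e, map_mul]
      exact Subgroup.mul_mem _ mx my
    · intro w
      rw [e, map_mul, mul_inv_rev]
      have : w ∘ ⇑((rho ⟨y, ay⟩)⁻¹ * (rho ⟨x, ax⟩)⁻¹) = (w ∘ ⇑(rho ⟨y, ay⟩)⁻¹) ∘ ⇑(rho ⟨x, ax⟩)⁻¹ := rfl
      rw [this, ex, ey]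
      group
  | inv x _ ih =>
    obtain ⟨ax, mx, ex⟩ := ih
    have e : (⟨x⁻¹, Amb.inv_mem ax⟩ : ↥Amb) = ⟨x, ax⟩⁻¹ := rfl
    refine ⟨Amb.inv_mem ax, ?_, ?_⟩
    · rw [e, map_inv]
      exact Subgroup.inv_mem _ mx
    · intro w
      rw [e, map_inv, inv_inv]
      have h1 := ex (w ∘ ⇑(rho ⟨x, ax⟩))
      have h2 : (w ∘ ⇑(rho ⟨x, ax⟩)) ∘ ⇑(rho ⟨x, ax⟩)⁻¹ = w := by
        funext p
        show w ((rho ⟨x, ax⟩) ((rho ⟨x, ax⟩).symm p)) = w p
        rw [Equiv.apply_symm_apply]
      rw [h2] at h1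
      rw [h1]
      group

/-! ### the group and its homomorphism to the Mathieu group -/

/-- the group -/
noncomputable abbrev GE : Subgroup Pm := GrpL tabs L0

/-- the group of the sign changes -/
noncomputable abbrev GN : Subgroup Pm := GrpL tabs L6

theorem GE_le_Amb : GE ≤ Amb := fun _ hg => (goodE_of_mem hg).1

/-- the action of the group on the 24 points -/
noncomputable def rhoE : ↥GE →* ↥Spor.M23 :=
  (rho.comp (Subgroup.inclusion GE_le_Amb)).codRestrict Spor.M23 fun g => (goodE_of_mem g.2).2.1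

theorem rhoE_coe (g : ↥GE) : ((rhoE g : ↥Spor.M23) : Equiv.Perm GolayPt) = rho ⟨g.1, GE_le_Amb g.2⟩ := rfl

/-- conjugation of the sign changes by the elements of the group -/
theorem theta_conj (g : ↥GE) (w : V) :
    Theta (w ∘ ⇑((rhoE g : ↥Spor.M23) : Equiv.Perm GolayPt)⁻¹) = g.1 * Theta w * g.1⁻¹ := by
  rw [rhoE_coe]
  exact (goodE_of_mem g.2).2.2 w

theorem theta_mem_GN (w : V) : Theta w ∈ GN := by
  apply theta_mem
  intro p
  obtain ⟨-, e⟩ := theta_single p
  rw [← e]
  have := Helper27.idx_lt p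
  exact (hg6 (41 + Helper27.idx p) (by omega) (by omega)).2.1

theorem theta_mem_GE (w : V) : Theta w ∈ GE := G6_le_G0 (theta_mem_GN w)

/-- the sign changes, as a subgroup -/
noncomputable def thetaRange : Subgroup Pm where
  carrier := Set.range Theta
  mul_mem' := by
    rintro _ _ ⟨a, rfl⟩ ⟨b, rfl⟩
    exact ⟨a + b, theta_add a b⟩
  one_mem' := ⟨0, theta_zero⟩
  inv_mem' := by
    rintro _ ⟨a, rfl⟩
    exact ⟨a, (theta_inv a).symm⟩

theorem GN_le_range : GN ≤ thetaRange := by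
  apply grpL_le
  intro j hj
  have hj' : j < 11 := hj
  have e : L6.lo + j = 30 + j := rfl
  rw [e, theta_gen j hj']
  exact ⟨_, rfl⟩

theorem exists_theta_of_mem {g : Pm} (hg : g ∈ GN) : ∃ w : V, Theta w = g := GN_le_range hg

theorem GN_fix {g : Pm} (hg : g ∈ GN) (i : Fin 4060) (hi : 506 ≤ i.1) : g i = i := by
  obtain ⟨w, rfl⟩ := exists_theta_of_mem hg
  exact theta_fix w i hi

theorem rhoE_apply (g : ↥GE) (p : GolayPt) : ((rhoE g : ↥Spor.M23) : Equiv.Perm GolayPt) p = rhoFun g.1 p := rfl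

theorem rhoE_eq_one_iff (g : ↥GE) : rhoE g = 1 ↔ g.1 ∈ GN := by
  constructor
  · intro h
    apply mem_G6 g.2
    intro i h1 h2
    obtain ⟨q, hq⟩ : ∃ q, i.1 = 506 + q := ⟨i.1 - 506, by omega⟩
    have hq24 : q < 24 := by omega
    have h3 : rhoFun g.1 (Helper27.pt q) = Helper27.pt q := by
      rw [← rhoE_apply, h, Subgroup.coe_one]
      rfl
    rw [rhoFun_eq] at h3
    have hi : (⟨506 + Helper27.idx (Helper27.pt q), pt_lt _⟩ : Fin 4060) = i := by
      apply Fin.ext
      show 506 + Helper27.idx (Helper27.pt q) = i.1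
      rw [Helper27.idx_pt hq24, hq]
    rw [hi] at h3
    obtain ⟨r1, r2⟩ := amb_range (GE_le_Amb g.2) i h1 (by omega)
    have h4 := congrArg Helper27.idx h3
    rw [Helper27.idx_pt (by omega), Helper27.idx_pt hq24] at h4
    apply Fin.ext
    omega
  · intro h
    apply Subtype.ext
    apply Equiv.ext
    intro p
    rw [rhoE_apply, rhoFun_eq, GN_fix h _ (by simp), Subgroup.coe_one]
    show Helper27.pt (506 + Helper27.idx p - 506) = p
    rw [Nat.add_sub_cancel_left, Helper27.pt_idx]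

theorem ker_rhoE : rhoE.ker = GN.subgroupOf GE := by
  ext g
  rw [MonoidHom.mem_ker, rhoE_eq_one_iff, Subgroup.mem_subgroupOf]

theorem card_quot : Nat.card (↥GE ⧸ rhoE.ker) = 10200960 := by
  have h1 := Subgroup.card_eq_card_quotient_mul_card_subgroup rhoE.ker
  have h2 : Nat.card rhoE.ker = Nat.card GN := by
    rw [ker_rhoE]
    exact Nat.card_congr (Subgroup.subgroupOfEquivOfLe G6_le_G0).toEquiv
  rw [h2, card_G0] at h1
  have hpos : 0 < Nat.card GN := Nat.card_pos
  exact (Nat.eq_of_mul_eq_mul_right hpos h1).symm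

theorem kerLift_bijective : Function.Bijective (QuotientGroup.kerLift rhoE) := by
  rw [Nat.bijective_iff_injective_and_card]
  exact ⟨QuotientGroup.kerLift_injective rhoE, by rw [card_quot, card_M23]⟩

/-- the quotient of the group by the sign changes is the Mathieu group -/
noncomputable def phiE : ↥GE ⧸ rhoE.ker ≃* ↥Spor.M23 := MulEquiv.ofBijective (QuotientGroup.kerLift rhoE) kerLift_bijective

theorem phiE_mk (g : ↥GE) : phiE (QuotientGroup.mk g) = rhoE g := rfl

end Cfsg.Agent.Helper22.E23
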