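import Cfsg.Agent.Helper22.E23Rho

/-!
# A non-split extension of an elementary abelian group of order 2048 by the Mathieu group of degree 23: no complement

Two elements of the group generate, modulo the sign changes, a quaternion group; the relations between any of their
translates by sign changes contradict the existence of a pair of words of the Golay code.
-/

set_option autoImplicit false

namespace Cfsg.Agent.Helper22.E23

open Cfsg Cfsg.Agent.Helper22.BigPerm Cfsg.Agent.Helper22.BigChain Cfsg.Agent.Helper22.E23Tabs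
  Cfsg.Agent.Helper22.E23Cert

/-- the relations that a complement would yield -/
theorem complement_relations {E : Type*} [Group E] {W : Type*} [AddCommGroup W] (N H : Subgroup E) [N.Normal]
    (T : W → E) (hTadd : ∀ a b, T (a + b) = T a * T b) (hTinv : ∀ a, (T a)⁻¹ = T a)
    (hTN : ∀ a, T a ∈ N) (hNT : ∀ n ∈ N, ∃ a, T a = n)
    (act : E → W → W) (hact : ∀ g a, g * T a = T (act g a) * g)
    (X Y : E) (w0 w1 : W) (h1 : Y * Y = T w0 * (X * X)) (h2 : Y = T w1 * (X * Y * X))
    (hHN : H ⊓ N = ⊥) (hsup : H ⊔ N = ⊤) :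
    ∃ a1 a2 : W, T (a2 + act Y a2 + w0 + (a1 + act X a1)) = 1 ∧
      T (a2 + w1 + (a1 + act X a2 + act (X * Y) a1)) = 1 := by
  have hdec : ∀ g : E, ∃ a : W, T a * g ∈ H := by
    intro g
    have hg : g ∈ (↑(N ⊔ H) : Set E) := by
      rw [sup_comm, hsup]
      exact Set.mem_univ g
    rw [Subgroup.normal_mul] at hg
    obtain ⟨n, hn, h, hh, hnh⟩ := Set.mem_mul.mp hg
    obtain ⟨a, ha⟩ := hNT n⁻¹ (N.inv_mem hn)
    refine ⟨a, ?_⟩
    rw [ha, ← hnh, inv_mul_cancel_left]
    exact hh
  have hbot : ∀ k : E, k ∈ H → k ∈ N → k = 1 := by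
    intro k hkH hkN
    have : k ∈ H ⊓ N := ⟨hkH, hkN⟩
    rw [hHN] at this
    exact Subgroup.mem_bot.mp this
  obtain ⟨a1, ha1⟩ := hdec X
  obtain ⟨a2, ha2⟩ := hdec Y
  refine ⟨a1, a2, ?_, ?_⟩
  · have e1 : (T a1 * X) * (T a1 * X) = T (a1 + act X a1) * (X * X) := by
      rw [hTadd]
      calc (T a1 * X) * (T a1 * X) = T a1 * (X * T a1) * X := by group
        _ = T a1 * (T (act X a1) * X) * X := by rw [hact X a1]
        _ = T a1 * T (act X a1) * (X * X) := by group
    have e2 : (T a2 * Y) * (T a2 * Y) = T (a2 + act Y a2 + w0) * (X * X) := by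
      rw [hTadd, hTadd]
      calc (T a2 * Y) * (T a2 * Y) = T a2 * (Y * T a2) * Y := by group
        _ = T a2 * (T (act Y a2) * Y) * Y := by rw [hact Y a2]
        _ = T a2 * T (act Y a2) * (Y * Y) := by group
        _ = T a2 * T (act Y a2) * (T w0 * (X * X)) := by rw [h1]
        _ = T a2 * T (act Y a2) * T w0 * (X * X) := by group
    have hk : (T a2 * Y) * (T a2 * Y) * ((T a1 * X) * (T a1 * X))⁻¹ ∈ H :=
      H.mul_mem (H.mul_mem ha2 ha2) (H.inv_mem (H.mul_mem ha1 ha1))
    have e3 : (T a2 * Y) * (T a2 * Y) * ((T a1 * X) * (T a1 * X))⁻¹ =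
        T (a2 + act Y a2 + w0 + (a1 + act X a1)) := by
      rw [e1, e2, hTadd (a2 + act Y a2 + w0)]
      conv_rhs => rw [← hTinv (a1 + act X a1)]
      group
    rw [e3] at hk
    exact hbot _ hk (hTN _)
  · have e1 : (T a1 * X) * (T a2 * Y) * (T a1 * X) =
        T (a1 + act X a2 + act (X * Y) a1) * (X * Y * X) := by
      rw [hTadd, hTadd]
      calc (T a1 * X) * (T a2 * Y) * (T a1 * X) = T a1 * (X * T a2) * Y * (T a1 * X) := by group
        _ = T a1 * (T (act X a2) * X) * Y * (T a1 * X) := by rw [hact X a2]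
        _ = T a1 * T (act X a2) * ((X * Y) * T a1) * X := by group
        _ = T a1 * T (act X a2) * (T (act (X * Y) a1) * (X * Y)) * X := by rw [hact (X * Y) a1]
        _ = T a1 * T (act X a2) * T (act (X * Y) a1) * (X * Y * X) := by group
    have e2 : T a2 * Y = T (a2 + w1) * (X * Y * X) := by
      rw [hTadd, mul_assoc, ← h2]
    have hk : (T a2 * Y) * ((T a1 * X) * (T a2 * Y) * (T a1 * X))⁻¹ ∈ H :=
      H.mul_mem ha2 (H.inv_mem (H.mul_mem (H.mul_mem ha1 ha2) ha1))
    have e3 : (T a2 * Y) * ((T a1 * X) * (T a2 * Y) * (T a1 * X))⁻¹ =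
        T (a2 + w1 + (a1 + act X a2 + act (X * Y) a1)) := by
      rw [e1, e2, hTadd (a2 + w1)]
      conv_rhs => rw [← hTinv (a1 + act X a2 + act (X * Y) a1)]
      group
    rw [e3] at hk
    exact hbot _ hk (hTN _)

/-! ### the two elements -/

theorem wX_range : ∀ k ∈ wX, 1 ≤ k ∧ k < 65 := by decide

theorem wY_range : ∀ k ∈ wY, 1 ≤ k ∧ k < 65 := by decide

theorem goodW_of_range {w : List ℕ} (h : ∀ k ∈ w, 1 ≤ k ∧ k < 65) : GoodW tabs w :=
  fun k hk => (hg0 k (h k hk).1 (h k hk).2).1

theorem permW_mem_GE {w : List ℕ} (h : ∀ k ∈ w, 1 ≤ k ∧ k < 65) : permW tabs w ∈ GE :=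
  permW_mem tabs fun k hk => (hg0 k (h k hk).1 (h k hk).2).2.1

theorem range_append {w w' : List ℕ} (h : ∀ k ∈ w, 1 ≤ k ∧ k < 65) (h' : ∀ k ∈ w', 1 ≤ k ∧ k < 65) :
    ∀ k ∈ w ++ w', 1 ≤ k ∧ k < 65 := by
  intro k hk
  rcases List.mem_append.mp hk with hk | hk
  · exact h k hk
  · exact h' k hk

/-- the first element -/
noncomputable def eX : ↥GE := ⟨permW tabs wX, permW_mem_GE wX_range⟩

/-- the second element -/
noncomputable def eY : ↥GE := ⟨permW tabs wY, permW_mem_GE wY_range⟩

/-- a sign change, as an element of the group -/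
noncomputable def thetaG (w : V) : ↥GE := ⟨Theta w, theta_mem_GE w⟩

theorem rel_1 : eY * eY = thetaG (Helper27.decW mW0) * (eX * eX) := by
  apply Subtype.ext
  show permW tabs wY * permW tabs wY = Theta (Helper27.decW mW0) * (permW tabs wX * permW tabs wX)
  rw [← permW_append, ← permW_append]
  apply rep_unique (rep_permW tabs (goodW_of_range (range_append wY_range wY_range)))
  apply rep_congr (rep_mul (rep_theta _) (rep_permW tabs (goodW_of_range (range_append wX_range wX_range))))
  intro i hi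
  rw [← flipFn_eq]
  exact Nat.eq_of_beq_eq_true (allBelow_spec rel1 i hi)

theorem rel_2 : eY = thetaG (Helper27.decW mW1) * (eX * eY * eX) := by
  apply Subtype.ext
  show permW tabs wY = Theta (Helper27.decW mW1) * (permW tabs wX * permW tabs wY * permW tabs wX)
  rw [mul_assoc (permW tabs wX), ← permW_append, ← permW_append]
  apply rep_unique (rep_permW tabs (goodW_of_range wY_range))
  apply rep_congr (rep_mul (rep_theta _)
    (rep_permW tabs (goodW_of_range (range_append wX_range (range_append wY_range wX_range)))))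
  intro i hi
  rw [← flipFn_eq]
  exact Nat.eq_of_beq_eq_true (allBelow_spec rel2 i hi)

/-! ### the action of the two elements on the 24 points -/

theorem actW_eq (w : List ℕ) (q : ℕ) : actW w q = applyW tabs w (506 + q) - 506 := rfl

theorem rhoE_word {w : List ℕ} (h : ∀ k ∈ w, 1 ≤ k ∧ k < 65) (q : ℕ) (hq : q < 24) :
    ((rhoE ⟨permW tabs w, permW_mem_GE h⟩ : ↥Spor.M23) : Equiv.Perm GolayPt) (Helper27.pt q) =
      Helper27.pt (actW w q) ∧ actW w q < 24 := by
  have hrep := rep_permW tabs (goodW_of_range h)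
  constructor
  · rw [rhoE_apply, actW_eq]
    exact rhoFun_rep hrep q hq
  · have := rho_rep_lt hrep (GE_le_Amb (permW_mem_GE h)) q hq
    rw [actW_eq]
    omega

theorem decW_pt (m q : ℕ) (hq : q < 24) :
    Helper27.decW m (Helper27.pt q) = if m.testBit q then 1 else 0 := by
  rw [Helper27.decW_apply, Helper27.idx_pt hq]

theorem even4_spec {a b c d : Bool} (h : even4 a b c d = true) :
    (if a then (1 : ZMod 2) else 0) + (if b then 1 else 0) + (if c then 1 else 0) + (if d then 1 else 0) = 0 := by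
  cases a <;> cases b <;> cases c <;> cases d <;> first | rfl | exact absurd h (by decide)

/-- the first word of the code -/
def cG1 : V := Helper27.decW mG1

/-- the second word of the code -/
def cG2 : V := Helper27.decW mG2

theorem mem_of_check {m : ℕ} (h : (Nat.beq (Helper27.cw (Nat.mod m 4096)) m && Nat.blt m 8388608) = true) :
    Helper27.decW m ∈ golayCode ∧ Helper27.decW m none = 0 := by
  rw [Bool.and_eq_true] at h
  obtain ⟨h1, h2⟩ := h
  have h1' : Helper27.cw (m % 4096) = m := Nat.eq_of_beq_eq_true h1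
  have h2' : m < 8388608 := by simpa [Nat.blt] using h2
  constructor
  · rw [Helper27.decW_mem_iff (lt_trans h2' (by norm_num))]
    exact h1'
  · rw [Helper27.decW_apply]
    have : m.testBit (Helper27.idx none) = false := by
      apply Nat.testBit_lt_two_pow
      exact lt_of_lt_of_le h2' (by decide)
    rw [this]
    rfl

theorem crt_spec (q : ℕ) (hq : q < 24) :
    even4 (Nat.testBit mG1 q) (Nat.testBit mG1 (actW wY q)) (Nat.testBit mG2 q) (Nat.testBit mG2 (actW wX q)) = true ∧
    even4 (Nat.testBit mG1 q) (Nat.testBit mG1 (actW wX q)) (Nat.testBit mG2 q)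
      (Nat.testBit mG2 (actW wX (actW wY q))) = true := by
  have h := allBelow_spec crt q hq
  rw [strict_eq, strict_eq, Bool.and_eq_true] at h
  exact h

theorem cond_1_pt (q : ℕ) (hq : q < 24) :
    cG1 (Helper27.pt q) + cG1 (((rhoE eY : ↥Spor.M23) : Equiv.Perm GolayPt) (Helper27.pt q)) +
      cG2 (Helper27.pt q) + cG2 (((rhoE eX : ↥Spor.M23) : Equiv.Perm GolayPt) (Helper27.pt q)) = 0 := by
  obtain ⟨x1, x2⟩ := rhoE_word wX_range q hq
  obtain ⟨y1, y2⟩ := rhoE_word wY_range q hq
  have ex : ((rhoE eX : ↥Spor.M23) : Equiv.Perm GolayPt) (Helper27.pt q) = Helper27.pt (actW wX q) := x1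
  have ey : ((rhoE eY : ↥Spor.M23) : Equiv.Perm GolayPt) (Helper27.pt q) = Helper27.pt (actW wY q) := y1
  rw [ex, ey]
  unfold cG1 cG2
  rw [decW_pt _ _ hq, decW_pt _ _ y2, decW_pt _ _ hq, decW_pt _ _ x2]
  exact even4_spec (crt_spec _ hq).1

/-- the first condition on the two words of the code -/
theorem cond_1 : cG1 + cG1 ∘ ⇑((rhoE eY : ↥Spor.M23) : Equiv.Perm GolayPt) + cG2 +
    cG2 ∘ ⇑((rhoE eX : ↥Spor.M23) : Equiv.Perm GolayPt) = 0 := by
  funext p
  rw [Pi.add_apply, Pi.add_apply, Pi.add_apply, Function.comp_apply, Function.comp_apply, Pi.zero_apply]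
  have h := cond_1_pt _ (Helper27.idx_lt p)
  rw [Helper27.pt_idx] at h
  exact h

theorem cond_2_pt (q : ℕ) (hq : q < 24) :
    cG1 (Helper27.pt q) + cG1 (((rhoE eX : ↥Spor.M23) : Equiv.Perm GolayPt) (Helper27.pt q)) +
      cG2 (Helper27.pt q) + cG2 (((rhoE (eX * eY) : ↥Spor.M23) : Equiv.Perm GolayPt) (Helper27.pt q)) = 0 := by
  obtain ⟨x1, x2⟩ := rhoE_word wX_range q hq
  obtain ⟨y1, y2⟩ := rhoE_word wY_range q hq
  obtain ⟨z1, z2⟩ := rhoE_word wX_range _ y2
  have ex : ((rhoE eX : ↥Spor.M23) : Equiv.Perm GolayPt) (Helper27.pt q) = Helper27.pt (actW wX q) := x1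
  have ey : ((rhoE eY : ↥Spor.M23) : Equiv.Perm GolayPt) (Helper27.pt q) = Helper27.pt (actW wY q) := y1
  have exy : ((rhoE (eX * eY) : ↥Spor.M23) : Equiv.Perm GolayPt) (Helper27.pt q) =
      Helper27.pt (actW wX (actW wY q)) := by
    rw [map_mul, Subgroup.coe_mul, Equiv.Perm.mul_apply, ey]
    exact z1
  rw [ex, exy]
  unfold cG1 cG2
  rw [decW_pt _ _ hq, decW_pt _ _ x2, decW_pt _ _ hq, decW_pt _ _ z2]
  exact even4_spec (crt_spec _ hq).2

/-- the second condition on the two words of the code -/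
theorem cond_2 : cG1 + cG1 ∘ ⇑((rhoE eX : ↥Spor.M23) : Equiv.Perm GolayPt) + cG2 +
    cG2 ∘ ⇑((rhoE (eX * eY) : ↥Spor.M23) : Equiv.Perm GolayPt) = 0 := by
  funext p
  rw [Pi.add_apply, Pi.add_apply, Pi.add_apply, Function.comp_apply, Function.comp_apply, Pi.zero_apply]
  have h := cond_2_pt _ (Helper27.idx_lt p)
  rw [Helper27.pt_idx] at h
  exact h

theorem cond_3 : dot (Helper27.decW mW0) cG1 + dot (Helper27.decW mW1) cG2 = 1 := by
  unfold cG1 cG2
  rw [dot_decW', dot_decW', ← Nat.cast_add, natCast_zmod2]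
  have h : (Helper27.popc 24 (mW0 &&& mG1) + Helper27.popc 24 (mW1 &&& mG2)) % 2 = 1 :=
    Nat.eq_of_beq_eq_true parG
  rw [if_pos h]

/-! ### the group has no complement to the sign changes -/

/-- the action of the group on the words -/
noncomputable def actE (g : ↥GE) (a : V) : V := a ∘ ⇑((rhoE g : ↥Spor.M23) : Equiv.Perm GolayPt)⁻¹

theorem dot_actE (g : ↥GE) (a c : V) : dot (actE g a) c = dot a (c ∘ ⇑((rhoE g : ↥Spor.M23) : Equiv.Perm GolayPt)) :=
  dot_comp a c _

theorem thetaG_mem_ker (w : V) : thetaG w ∈ rhoE.ker := by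
  rw [MonoidHom.mem_ker, rhoE_eq_one_iff]
  exact theta_mem_GN w

theorem no_complement (H : Subgroup ↥GE) (hHN : H ⊓ rhoE.ker = ⊥) : H ⊔ rhoE.ker ≠ ⊤ := by
  intro hsup
  obtain ⟨a1, a2, r1, r2⟩ := complement_relations rhoE.ker H thetaG
    (fun a b => Subtype.ext (theta_add a b)) (fun a => Subtype.ext (theta_inv a)) thetaG_mem_ker
    (fun n hn => by
      rw [MonoidHom.mem_ker, rhoE_eq_one_iff] at hn
      obtain ⟨w, hw⟩ := exists_theta_of_mem hn
      exact ⟨w, Subtype.ext hw⟩)
    actE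
    (fun g a => by
      apply Subtype.ext
      show g.1 * Theta a = Theta (actE g a) * g.1
      unfold actE
      rw [theta_conj]
      group)
    eX eY (Helper27.decW mW0) (Helper27.decW mW1) rel_1 rel_2 hHN hsup
  have r1' : Theta (a2 + actE eY a2 + Helper27.decW mW0 + (a1 + actE eX a1)) = 1 := congrArg Subtype.val r1
  have r2' : Theta (a2 + Helper27.decW mW1 + (a1 + actE eX a2 + actE (eX * eY) a1)) = 1 := congrArg Subtype.val r2
  obtain ⟨m1, z1⟩ := mem_of_check memG1
  obtain ⟨m2, z2⟩ := mem_of_check memG2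
  have d1 := dot_eq_zero_of_theta (g := cG1) r1' m1 z1
  have d2 := dot_eq_zero_of_theta (g := cG2) r2' m2 z2
  simp only [dot_add_left, dot_actE] at d1 d2
  have c1 := congrArg (dot a2) cond_1
  have c2 := congrArg (dot a1) cond_2
  simp only [dot_add_right, dot_zero_right] at c1 c2
  have c3 := cond_3
  have hcon : (1 : ZMod 2) = 0 := by
    linear_combination d1 + d2 - c1 - c2 - c3
  exact absurd hcon (by decide)

/-! ### the homomorphism from the words onto the sign changes -/

/-- the sign change of a word, as an element of the normal subgroup -/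
noncomputable def thetaN (w : V) : ↥rhoE.ker := ⟨thetaG w, thetaG_mem_ker w⟩

theorem thetaN_add (a b : V) : thetaN (a + b) = thetaN a * thetaN b :=
  Subtype.ext (Subtype.ext (theta_add a b))

/-- the homomorphism from the words onto the sign changes -/
noncomputable def thetaE : V →+ Additive ↥rhoE.ker :=
  AddMonoidHom.mk' (fun w => Additive.ofMul (thetaN w)) fun a b => by
    rw [thetaN_add]
    rfl

theorem thetaE_apply (w : V) : (thetaE w).toMul = thetaN w := rfl

theorem thetaE_surjective : Function.Surjective thetaE := by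
  intro n
  have hn : n.toMul.1 ∈ rhoE.ker := n.toMul.2
  rw [MonoidHom.mem_ker, rhoE_eq_one_iff] at hn
  obtain ⟨w, hw⟩ := exists_theta_of_mem hn
  refine ⟨w, ?_⟩
  apply Additive.toMul.injective
  rw [thetaE_apply]
  exact Subtype.ext (Subtype.ext hw)

theorem thetaE_eq_zero_iff (w : V) :
    thetaE w = 0 ↔ (w ∈ golayCode ∨ w + Pi.single none 1 ∈ golayCode) := by
  rw [← theta_eq_one_iff_mem]
  constructor
  · intro h
    have h1 : thetaN w = 1 := by
      rw [← thetaE_apply, h]
      rfl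
    exact congrArg (fun x : ↥rhoE.ker => (x.1.1 : Pm)) h1
  · intro h
    apply Additive.toMul.injective
    rw [thetaE_apply]
    exact Subtype.ext (Subtype.ext h)

theorem thetaE_conj (g : ↥GE) (w : V) :
    ((thetaE (w ∘ ⇑(((phiE (QuotientGroup.mk g) : ↥Spor.M23) : Equiv.Perm GolayPt)⁻¹))).toMul : ↥GE) =
      g * ((thetaE w).toMul : ↥GE) * g⁻¹ := by
  apply Subtype.ext
  rw [phiE_mk]
  exact theta_conj g w

end Cfsg.Agent.Helper22.E23
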