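import Mathlib

set_option autoImplicit false

/-!
A field `F` with four elements and an element `ω` with `ω ^ 2 + ω + 1 = 0`, coordinatised by
`Fin 4` via `0 ↦ 0, 1 ↦ 1, 2 ↦ ω, 3 ↦ ω + 1 = ω ^ 2`, with explicit addition and multiplication
tables on `Fin 4`.
-/

namespace Cfsg.Agent.Helper22.F4

variable {F : Type*} [Field F] [Fintype F]

theorem charP_two (hF : Fintype.card F = 4) : CharP F 2 := by
  obtain ⟨p, hc, n, hp, hn⟩ := FiniteField.card' F
  rw [hF] at hn
  have h2 : p ∣ 4 := by rw [hn]; exact dvd_pow_self p n.ne_zero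
  have h3 : p = 2 := by
    have : p ∣ 2 ^ 2 := by norm_num; exact h2
    exact (Nat.prime_dvd_prime_iff_eq hp Nat.prime_two).1 (hp.dvd_of_dvd_pow this)
  subst h3
  exact hc

theorem add_self (hF : Fintype.card F = 4) (x : F) : x + x = 0 := by
  haveI := charP_two hF
  exact CharTwo.add_self_eq_zero x

/-- addition table -/
def add4 (a b : Fin 4) : Fin 4 := ![![0,1,2,3],![1,0,3,2],![2,3,0,1],![3,2,1,0]] a b

/-- multiplication table -/
def mul4 (a b : Fin 4) : Fin 4 := ![![0,0,0,0],![0,1,2,3],![0,2,3,1],![0,3,1,2]] a b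

/-- coordinatisation -/
def el (ω : F) (a : Fin 4) : F := ![0, 1, ω, ω + 1] a

variable {ω : F}

theorem omega_sq (hF : Fintype.card F = 4) (hω : ω ^ 2 + ω + 1 = 0) : ω ^ 2 = ω + 1 := by
  have h1 := add_self hF (ω + 1)
  have : ω ^ 2 = ω ^ 2 + ω + 1 + (ω + 1) - ((ω + 1) + (ω + 1)) := by ring
  rw [this, hω, h1]; ring

theorem omega_mul (hF : Fintype.card F = 4) (hω : ω ^ 2 + ω + 1 = 0) : ω * ω = ω + 1 := by
  rw [← pow_two, omega_sq hF hω]

theorem el_add (hF : Fintype.card F = 4) (a b : Fin 4) :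
    el ω (add4 a b) = el ω a + el ω b := by
  have h2 : ∀ x : F, x + x = 0 := add_self hF
  have e1 : (2 : F) = 0 := by rw [← one_add_one_eq_two]; exact h2 1
  fin_cases a <;> fin_cases b <;> simp [el, add4] <;> grind

theorem el_mul (hF : Fintype.card F = 4) (hω : ω ^ 2 + ω + 1 = 0) (a b : Fin 4) :
    el ω (mul4 a b) = el ω a * el ω b := by
  have h2 : ∀ x : F, x + x = 0 := add_self hF
  have e1 : (2 : F) = 0 := by rw [← one_add_one_eq_two]; exact h2 1
  have e3 : ω * ω = ω + 1 := omega_mul hF hω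
  fin_cases a <;> fin_cases b <;> simp [el, mul4] <;> grind

theorem one_ne_zero' (hF : Fintype.card F = 4) : (1 : F) ≠ 0 := one_ne_zero

theorem omega_ne_zero (hF : Fintype.card F = 4) (hω : ω ^ 2 + ω + 1 = 0) : ω ≠ 0 := by
  rintro rfl
  simp at hω

theorem omega_ne_one (hF : Fintype.card F = 4) (hω : ω ^ 2 + ω + 1 = 0) : ω ≠ 1 := by
  rintro rfl
  have e1 : (1 : F) + 1 = 0 := add_self hF 1
  have : (1 : F) = 0 := by
    have h := hω
    simp only [one_pow] at h
    rw [e1, zero_add] at h
    exact h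
  exact one_ne_zero this

theorem el_injective (hF : Fintype.card F = 4) (hω : ω ^ 2 + ω + 1 = 0) :
    Function.Injective (el ω) := by
  have e1 : (1 : F) + 1 = 0 := add_self hF 1
  have e2 : ω + ω = 0 := add_self hF ω
  have n0 := omega_ne_zero hF hω
  have n1 := omega_ne_one hF hω
  have n2 : ω + 1 ≠ 0 := by
    intro h
    apply n1
    calc ω = ω + 1 + 1 - (1 + 1) := by ring
      _ = 1 := by rw [h, e1]; ring
  have n3 : ω + 1 ≠ 1 := by
    intro h
    apply n0
    calc ω = ω + 1 - 1 := by ring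
      _ = 0 := by rw [h]; ring
  have n4 : ω + 1 ≠ ω := by
    intro h
    have : (1 : F) = 0 := by
      calc (1 : F) = ω + 1 - ω := by ring
        _ = 0 := by rw [h]; ring
    exact one_ne_zero this
  intro a b hab
  fin_cases a <;> fin_cases b <;> simp [el] at hab <;> first | rfl | (exfalso; tauto) | skip
  all_goals first
    | exact absurd hab.symm n2
    | exact absurd hab n2
    | exact absurd hab.symm n3
    | exact absurd hab n3
    | exact absurd hab.symm n4
    | exact absurd hab n4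
    | exact absurd hab.symm n0
    | exact absurd hab n0
    | exact absurd hab.symm n1
    | exact absurd hab n1

theorem el_bijective (hF : Fintype.card F = 4) (hω : ω ^ 2 + ω + 1 = 0) :
    Function.Bijective (el ω) := by
  rw [Fintype.bijective_iff_injective_and_card]
  exact ⟨el_injective hF hω, by rw [hF]; rfl⟩

theorem el_zero : el ω 0 = 0 := rfl
theorem el_one : el ω 1 = 1 := rfl
theorem el_two : el ω 2 = ω := rfl
theorem el_three (hF : Fintype.card F = 4) (hω : ω ^ 2 + ω + 1 = 0) : el ω 3 = ω ^ 2 := by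
  rw [omega_sq hF hω]; rfl

theorem el_eq_zero_iff (hF : Fintype.card F = 4) (hω : ω ^ 2 + ω + 1 = 0) (a : Fin 4) :
    el ω a = 0 ↔ a = 0 := by
  constructor
  · intro h
    exact el_injective hF hω (h.trans el_zero.symm)
  · rintro rfl; rfl

end Cfsg.Agent.Helper22.F4
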