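import Cfsg.Agent.Helper27.MaskFamily

/-!
# Descent certificates for orbits on families of point sets coded by sorted lists of masks
-/

set_option autoImplicit false

namespace Cfsg.Agent.Helper22.FamDesc

open Cfsg Cfsg.Agent.Helper27
open scoped Pointwise

/-- the action of (the inverse of) a table on a sorted list of masks -/
def actL (T L : List ℕ) : List ℕ := (L.map (applyTbl T)).insertionSort (· ≤ ·)

theorem famOf_actL {g : Equiv.Perm GolayPt} {T : List ℕ} (h : Represents g T) (L : List ℕ) :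
    famOf (actL T L) = g⁻¹ • famOf L := by
  rw [inv_smul_famOf h, famOf, famOf, actL]
  exact List.toFinset_eq_of_perm _ _ ((List.perm_insertionSort _ _).map _)

/-- a numerical key for the descent -/
def key (L : List ℕ) : ℕ := L.foldl (fun acc m => acc * 16777216 + m) 0

/-- a descent certificate: every member of the class other than `dmin` is moved to a member with a smaller key -/
def famDescOK (cert : List ℕ → Bool) (gens : List (List ℕ)) (cls : List (List ℕ)) (dmin : List ℕ) : Bool :=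
  gens.all (fun T => validTbl T && cert T) &&
  cls.all (fun L => (L == dmin) || gens.any (fun T => sortedB (actL T L) && Nat.blt (key (actL T L)) (key L)))

variable {H : Subgroup (Equiv.Perm GolayPt)} {cert : List ℕ → Bool} {gens : List (List ℕ)} {LL : List (List ℕ)}
  {fam : Set (Finset (Finset GolayPt))}

theorem famDesc_sound (hc : CertSound H cert) (hLL : ∀ L ∈ LL, sortedB L = true)
    (hcomplete : ∀ X ∈ fam, ∃ L ∈ LL, famOf L = X) (hmem : ∀ L ∈ LL, famOf L ∈ fam)
    (Q : Finset (Finset GolayPt) → Prop) (q : List ℕ → Bool) (hq : ∀ L ∈ LL, (Q (famOf L) ↔ q L = true))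
    (hfam : ∀ g ∈ H, ∀ X ∈ fam, g • X ∈ fam) (hQ : ∀ g ∈ H, ∀ X ∈ fam, Q X → Q (g • X))
    {cls : List (List ℕ)} (hcls : ∀ L ∈ LL, q L = true → L ∈ cls) {dmin : List ℕ}
    (h : famDescOK cert gens cls dmin = true) :
    ∀ (n : ℕ) (L : List ℕ), key L = n → L ∈ LL → q L = true → ∃ g ∈ H, g • famOf L = famOf dmin := by
  simp only [famDescOK, Bool.and_eq_true] at h
  obtain ⟨hgens, hall⟩ := h
  rw [List.all_eq_true] at hgens hall
  intro n
  induction n using Nat.strong_induction_on with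
  | _ n ih =>
    intro L hkey hL hqL
    have := hall L (hcls L hL hqL)
    simp only [Bool.or_eq_true, beq_iff_eq, List.any_eq_true, Bool.and_eq_true, Nat.blt_eq] at this
    rcases this with h1 | h1
    · exact ⟨1, H.one_mem, by rw [h1, one_smul]⟩
    · obtain ⟨T, hT, hsorted, hlt⟩ := h1
      have hT' := hgens T hT
      rw [Bool.and_eq_true] at hT'
      obtain ⟨hv, hcert⟩ := hT'
      have hTH := hc T hv hcert
      have hR := tblPerm_represents T hv
      have hact := famOf_actL hR L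
      have hX' : (tblPerm T hv)⁻¹ • famOf L ∈ fam := hfam _ (H.inv_mem hTH) _ (hmem L hL)
      obtain ⟨L', hL', hLe⟩ := hcomplete _ hX'
      have hLL' : L' = actL T L := famOf_inj (hLL L' hL') hsorted (hLe.trans hact.symm)
      have hq' : q L' = true := by
        rw [← hq L' hL', hLe]
        exact hQ _ (H.inv_mem hTH) _ (hmem L hL) ((hq L hL).mpr hqL)
      have hlt' : key L' < n := by rw [hLL', ← hkey]; exact hlt
      obtain ⟨g, hg, hgs⟩ := ih _ hlt' L' rfl hL' hq'
      refine ⟨g * (tblPerm T hv)⁻¹, H.mul_mem hg (H.inv_mem hTH), ?_⟩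
      rw [mul_smul, ← hLe, hgs]

/-- transitivity on a class from a descent certificate -/
theorem fam_orbit (hc : CertSound H cert) (hLL : ∀ L ∈ LL, sortedB L = true)
    (hcomplete : ∀ X ∈ fam, ∃ L ∈ LL, famOf L = X) (hmem : ∀ L ∈ LL, famOf L ∈ fam)
    (Q : Finset (Finset GolayPt) → Prop) (q : List ℕ → Bool) (hq : ∀ L ∈ LL, (Q (famOf L) ↔ q L = true))
    (hfam : ∀ g ∈ H, ∀ X ∈ fam, g • X ∈ fam) (hQ : ∀ g ∈ H, ∀ X ∈ fam, Q X → Q (g • X))
    {cls : List (List ℕ)} (hcls : ∀ L ∈ LL, q L = true → L ∈ cls) {dmin : List ℕ}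
    (h : famDescOK cert gens cls dmin = true) {X Y : Finset (Finset GolayPt)} (hX : X ∈ fam) (hY : Y ∈ fam)
    (hQX : Q X) (hQY : Q Y) : ∃ g ∈ H, g • X = Y := by
  obtain ⟨L, hL, rfl⟩ := hcomplete X hX
  obtain ⟨L', hL', rfl⟩ := hcomplete Y hY
  obtain ⟨g, hg, hgs⟩ := famDesc_sound hc hLL hcomplete hmem Q q hq hfam hQ hcls h _ L rfl hL ((hq L hL).mp hQX)
  obtain ⟨g', hg', hgs'⟩ :=
    famDesc_sound hc hLL hcomplete hmem Q q hq hfam hQ hcls h _ L' rfl hL' ((hq L' hL').mp hQY)
  refine ⟨g'⁻¹ * g, H.mul_mem (H.inv_mem hg') hg, ?_⟩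
  rw [mul_smul, hgs, ← hgs', inv_smul_smul]

/-- counting the members of a listed family with a property -/
theorem ncard_fam (hLL : ∀ L ∈ LL, sortedB L = true) (hnd : LL.Nodup)
    (hcomplete : ∀ X ∈ fam, ∃ L ∈ LL, famOf L = X) (hmem : ∀ L ∈ LL, famOf L ∈ fam)
    (Q : Finset (Finset GolayPt) → Prop) (q : List ℕ → Bool) (hq : ∀ L ∈ LL, (Q (famOf L) ↔ q L = true)) :
    {X | X ∈ fam ∧ Q X}.ncard = LL.countP q := by
  have hset : {X | X ∈ fam ∧ Q X} = famOf '' ↑((LL.filter q).toFinset) := by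
    ext X
    simp only [Set.mem_ofPred_eq, Set.mem_image, Finset.mem_coe, List.mem_toFinset, List.mem_filter]
    constructor
    · rintro ⟨hX, hQX⟩
      obtain ⟨L, hL, rfl⟩ := hcomplete X hX
      exact ⟨L, ⟨hL, (hq L hL).mp hQX⟩, rfl⟩
    · rintro ⟨L, ⟨hL, hqL⟩, rfl⟩
      exact ⟨hmem L hL, (hq L hL).mpr hqL⟩
  have hinj : Set.InjOn famOf ↑((LL.filter q).toFinset) := by
    intro L hL L' hL' he
    simp only [Finset.mem_coe, List.mem_toFinset, List.mem_filter] at hL hL'
    exact famOf_inj (hLL L hL.1) (hLL L' hL'.1) he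
  rw [hset, Set.InjOn.ncard_image hinj, Set.ncard_coe_finset, List.toFinset_card_of_nodup (hnd.filter _),
    List.countP_eq_length_filter]

/-- completeness of a list from the cardinality of the family -/
theorem complete_of_ncard (hLL : ∀ L ∈ LL, sortedB L = true) (hnd : LL.Nodup) (hmem : ∀ L ∈ LL, famOf L ∈ fam)
    (hfin : fam.Finite) (hcard : fam.ncard = LL.length) : ∀ X ∈ fam, ∃ L ∈ LL, famOf L = X := by
  have hsub : famOf '' ↑(LL.toFinset) ⊆ fam := by
    rintro X ⟨L, hL, rfl⟩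
    exact hmem L (List.mem_toFinset.mp hL)
  have hinj : Set.InjOn famOf ↑(LL.toFinset) := by
    intro L hL L' hL' he
    simp only [Finset.mem_coe, List.mem_toFinset] at hL hL'
    exact famOf_inj (hLL L hL) (hLL L' hL') he
  have hc : (famOf '' ↑(LL.toFinset)).ncard = LL.length := by
    rw [Set.InjOn.ncard_image hinj, Set.ncard_coe_finset, List.toFinset_card_of_nodup hnd]
  have heq := Set.eq_of_subset_of_ncard_le hsub (by rw [hc, hcard]) hfin
  intro X hX
  rw [← heq] at hX
  obtain ⟨L, hL, rfl⟩ := hX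
  exact ⟨L, List.mem_toFinset.mp hL, rfl⟩

end Cfsg.Agent.Helper22.FamDesc
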