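import Cfsg.Agent.Helper22.Flag

/-!
Moving a point of a given set to a standard point by certified tables.
-/

set_option autoImplicit false

namespace Cfsg.Agent.Helper22.Flag

open Cfsg Cfsg.Agent.Helper27
open scoped Pointwise

/-- every point of `maskSet srcMask` is mapped to the point `tgt` by one of the certified tables -/
def moveOK (cert : List ℕ → Bool) (L : List (List ℕ)) (srcMask tgt : ℕ) : Bool :=
  L.all (fun T => validTbl T && cert T) &&
    (List.range 24).all (fun y => !(srcMask.testBit y) || L.any (fun T => T.getD y 0 == tgt))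

theorem move_sound {H : Subgroup (Equiv.Perm GolayPt)} {cert : List ℕ → Bool} (hc : CertSound H cert)
    {L : List (List ℕ)} {srcMask tgt : ℕ} (h : moveOK cert L srcMask tgt = true) {y : GolayPt}
    (hy : y ∈ maskSet srcMask) : ∃ k ∈ H, k y = pt tgt := by
  simp only [moveOK, Bool.and_eq_true, List.all_eq_true, List.mem_range, Bool.or_eq_true, Bool.not_eq_true',
    List.any_eq_true, beq_iff_eq] at h
  obtain ⟨h1, h2⟩ := h
  rw [mem_maskSet] at hy
  rcases h2 (idx y) (idx_lt y) with h3 | ⟨T, hT, hTy⟩
  · rw [hy] at h3; exact absurd h3 (by simp)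
  · obtain ⟨hv, hcT⟩ := h1 T hT
    refine ⟨tblPerm T hv, hc T hv hcT, ?_⟩
    rw [tblPerm_apply, hTy]

end Cfsg.Agent.Helper22.Flag
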