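import Mathlib

/-!
# Short vectors modulo twice a lattice

The counting argument behind the coordinate frames of the Leech lattice, for an additive subgroup `Λ` of a
`ℤ`-module of rank 24 with a symmetric bilinear form: if all nonzero vectors of `Λ` have norm at least `4s`, the
numbers of vectors of norms `4s`, `6s`, `8s` are 196560, 16773120, 398034000, and `Λ` has at most `2 ^ 24`
classes modulo `2Λ`, then every vector of norm `8s` is congruent to exactly 48 vectors of norm `8s`, and every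
class contains a vector of norm at most `8s`.
-/

set_option autoImplicit false

namespace Cfsg.Agent.Helper22.Frames

/-- the purely combinatorial core -/
theorem count_core {X Q : Type*} [DecidableEq X] [DecidableEq Q] [Fintype Q] (hQ : Fintype.card Q ≤ 2 ^ 24)
    (ρ : X → Q) (c0 : Q) (N4 N6 N8 : Finset X)
    (h4 : N4.card = 196560) (h6 : N6.card = 16773120) (h8 : N8.card = 398034000)
    (f4 : ∀ c, (N4.filter (fun x => ρ x = c)).card ≤ 2)
    (f6 : ∀ c, (N6.filter (fun x => ρ x = c)).card ≤ 2)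
    (f8 : ∀ c, (N8.filter (fun x => ρ x = c)).card ≤ 48)
    (d04 : ∀ x ∈ N4, ρ x ≠ c0) (d06 : ∀ x ∈ N6, ρ x ≠ c0) (d08 : ∀ x ∈ N8, ρ x ≠ c0)
    (d46 : ∀ x ∈ N4, ∀ y ∈ N6, ρ x ≠ ρ y) (d48 : ∀ x ∈ N4, ∀ y ∈ N8, ρ x ≠ ρ y)
    (d68 : ∀ x ∈ N6, ∀ y ∈ N8, ρ x ≠ ρ y) :
    (∀ x ∈ N8, (N8.filter (fun y => ρ y = ρ x)).card = 48) ∧
    (∀ c : Q, c = c0 ∨ c ∈ N4.image ρ ∨ c ∈ N6.image ρ ∨ c ∈ N8.image ρ) := by
  have a4 := Finset.card_le_mul_card_image (f := ρ) N4 2 (fun c _ => f4 c)
  have a6 := Finset.card_le_mul_card_image (f := ρ) N6 2 (fun c _ => f6 c)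
  have a8 := Finset.card_le_mul_card_image (f := ρ) N8 48 (fun c _ => f8 c)
  rw [h4] at a4
  rw [h6] at a6
  rw [h8] at a8
  have dj1 : Disjoint ({c0} : Finset Q) (N4.image ρ) := by
    rw [Finset.disjoint_singleton_left, Finset.mem_image]
    rintro ⟨x, hx, e⟩
    exact d04 x hx e
  have dj2 : Disjoint ({c0} ∪ N4.image ρ) (N6.image ρ) := by
    rw [Finset.disjoint_union_left, Finset.disjoint_singleton_left]
    refine ⟨?_, ?_⟩
    · rw [Finset.mem_image]
      rintro ⟨x, hx, e⟩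
      exact d06 x hx e
    · rw [Finset.disjoint_left]
      intro c hc hc'
      obtain ⟨x, hx, rfl⟩ := Finset.mem_image.mp hc
      obtain ⟨y, hy, e⟩ := Finset.mem_image.mp hc'
      exact d46 x hx y hy e.symm
  have dj3 : Disjoint ({c0} ∪ N4.image ρ ∪ N6.image ρ) (N8.image ρ) := by
    rw [Finset.disjoint_union_left, Finset.disjoint_union_left, Finset.disjoint_singleton_left]
    refine ⟨⟨?_, ?_⟩, ?_⟩
    · rw [Finset.mem_image]
      rintro ⟨x, hx, e⟩
      exact d08 x hx e
    · rw [Finset.disjoint_left]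
      intro c hc hc'
      obtain ⟨x, hx, rfl⟩ := Finset.mem_image.mp hc
      obtain ⟨y, hy, e⟩ := Finset.mem_image.mp hc'
      exact d48 x hx y hy e.symm
    · rw [Finset.disjoint_left]
      intro c hc hc'
      obtain ⟨x, hx, rfl⟩ := Finset.mem_image.mp hc
      obtain ⟨y, hy, e⟩ := Finset.mem_image.mp hc'
      exact d68 x hx y hy e.symm
  have hU : ({c0} ∪ N4.image ρ ∪ N6.image ρ ∪ N8.image ρ).card =
      1 + (N4.image ρ).card + (N6.image ρ).card + (N8.image ρ).card := by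
    rw [Finset.card_union_of_disjoint dj3, Finset.card_union_of_disjoint dj2, Finset.card_union_of_disjoint dj1,
      Finset.card_singleton]
  have hle := Finset.card_le_univ ({c0} ∪ N4.image ρ ∪ N6.image ρ ∪ N8.image ρ)
  have hpow : (2 : ℕ) ^ 24 = 16777216 := by norm_num
  rw [hpow] at hQ
  have e8 : (N8.image ρ).card = 8292375 := by omega
  have eU : ({c0} ∪ N4.image ρ ∪ N6.image ρ ∪ N8.image ρ).card = Fintype.card Q := by omega
  constructor
  · have hs1 := Finset.card_eq_sum_card_image ρ N8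
    rw [h8] at hs1
    have hs2 : ∑ c ∈ N8.image ρ, (N8.filter (fun x => ρ x = c)).card = ∑ _c ∈ N8.image ρ, 48 := by
      rw [← hs1, Finset.sum_const, e8]
      rfl
    have := (Finset.sum_eq_sum_iff_of_le (fun c _ => f8 c)).mp hs2
    intro x hx
    exact this _ (Finset.mem_image_of_mem ρ hx)
  · intro c
    have hc : c ∈ ({c0} ∪ N4.image ρ ∪ N6.image ρ ∪ N8.image ρ) := by
      rw [Finset.eq_univ_of_card _ eU]
      exact Finset.mem_univ c
    rw [Finset.mem_union, Finset.mem_union, Finset.mem_union, Finset.mem_singleton] at hc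
    tauto

variable {V : Type*} [AddCommGroup V] (b : LinearMap.BilinForm ℤ V)

theorem short_congr (hsym : ∀ x y, b x y = b y x) {Λ : AddSubgroup V} {s : ℤ}
    (hmin : ∀ x ∈ Λ, x ≠ 0 → 4 * s ≤ b x x) {u v z : V} (hv : v ∈ Λ) (hz : z ∈ Λ)
    (hu8 : b u u ≤ 8 * s) (hv8 : b v v ≤ 8 * s) (huv : u - v = (2 : ℕ) • z) :
    u = v ∨ u = -v ∨ (b u u = 8 * s ∧ b v v = 8 * s ∧ b u v = 0) := by
  by_cases hz0 : z = 0
  · left
    rw [hz0, smul_zero, sub_eq_zero] at huv
    exact huv
  by_cases hw0 : v + z = 0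
  · right; left
    rw [sub_eq_iff_eq_add, two_smul] at huv
    rw [huv, eq_neg_iff_add_eq_zero]
    have : z + z + v + v = (v + z) + (v + z) := by abel
    rw [this, hw0, add_zero]
  right; right
  have hw : v + z ∈ Λ := Λ.add_mem hv hz
  have h1 := hmin z hz hz0
  have h2 := hmin (v + z) hw hw0
  have eu : u = (v + z) + z := by
    rw [sub_eq_iff_eq_add, two_smul] at huv
    rw [huv]; abel
  have ev : v = (v + z) - z := by abel
  set w := v + z with hwdef
  have hs := hsym w z
  have q1 : b u u = b w w + b w z + b z w + b z z := by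
    rw [eu]
    simp only [map_add, LinearMap.add_apply]
    ring
  have q2 : b v v = b w w - b w z - b z w + b z z := by
    rw [ev]
    simp only [map_sub, LinearMap.sub_apply]
    ring
  have q3 : b u v = b w w - b w z + b z w - b z z := by
    rw [eu, ev]
    simp only [map_sub, map_add, LinearMap.add_apply]
    ring
  refine ⟨by linarith, by linarith, by linarith⟩

theorem neg_form (u : V) : b (-u) (-u) = b u u := by
  simp only [map_neg, LinearMap.neg_apply, neg_neg]

/-- pairwise orthogonal vectors of nonzero norm in a module of rank 24, up to sign: at most 48 -/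
theorem card_le_of_orth [Module.Finite ℤ V] (hrank : Module.finrank ℤ V = 24) (hsym : ∀ x y, b x y = b y x)
    (F : Finset V) (hq : ∀ u ∈ F, b u u ≠ 0) (horth : ∀ u ∈ F, ∀ v ∈ F, u = v ∨ u = -v ∨ b u v = 0) :
    F.card ≤ 48 := by
  classical
  have step1 : ∀ R : Finset V, R ⊆ F → (∀ u ∈ R, ∀ v ∈ R, u ≠ v → b u v = 0) → R.card ≤ 24 := by
    intro R hRF hR
    have hli : LinearIndependent ℤ (fun r : ↥R => (r : V)) := by
      rw [Fintype.linearIndependent_iff]
      intro g hg j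
      have h1 : b (∑ i, g i • (i : V)) (j : V) = 0 := by rw [hg]; simp
      rw [map_sum, LinearMap.sum_apply, Finset.sum_eq_single j] at h1
      · rw [map_smul, LinearMap.smul_apply, smul_eq_mul] at h1
        rcases mul_eq_zero.mp h1 with h | h
        · exact h
        · exact absurd h (hq _ (hRF j.2))
      · intro i _ hij
        rw [map_smul, LinearMap.smul_apply, smul_eq_mul, hR _ i.2 _ j.2 (fun h => hij (Subtype.ext h)), mul_zero]
      · intro h; exact absurd (Finset.mem_univ j) h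
    have := hli.fintype_card_le_finrank
    rw [hrank, Fintype.card_coe] at this
    exact this
  obtain ⟨Pr, hPr⟩ : ∃ Pr : Finset V → Prop, ∀ R, Pr R ↔ ∀ u ∈ R, ∀ v ∈ R, u ≠ v → b u v = 0 :=
    ⟨_, fun _ => Iff.rfl⟩
  let P := F.powerset.filter Pr
  have hPne : P.Nonempty := by
    refine ⟨∅, ?_⟩
    rw [Finset.mem_filter, hPr]
    exact ⟨Finset.empty_mem_powerset F, fun u hu => absurd hu (Finset.notMem_empty u)⟩
  obtain ⟨R, hRP, hmax⟩ := Finset.exists_max_image P Finset.card hPne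
  rw [Finset.mem_filter, Finset.mem_powerset, hPr] at hRP
  obtain ⟨hRF, hR⟩ := hRP
  have hcov : F ⊆ R ∪ R.image Neg.neg := by
    intro y hy
    by_contra hn
    rw [Finset.mem_union, not_or, Finset.mem_image] at hn
    obtain ⟨hn1, hn2⟩ := hn
    have hyR : ∀ v ∈ R, b y v = 0 := by
      intro v hv
      rcases horth y hy v (hRF hv) with h | h | h
      · rw [h] at hn1; exact absurd hv hn1
      · exact absurd ⟨v, hv, h.symm⟩ hn2
      · exact h
    have hins : insert y R ∈ P := by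
      rw [Finset.mem_filter, Finset.mem_powerset, hPr]
      refine ⟨Finset.insert_subset hy hRF, ?_⟩
      intro u hu v hv huv
      rw [Finset.mem_insert] at hu hv
      rcases hu with hu | hu
      · rcases hv with hv | hv
        · rw [hu, hv] at huv; exact absurd rfl huv
        · rw [hu]; exact hyR v hv
      · rcases hv with hv | hv
        · rw [hv, hsym]; exact hyR u hu
        · exact hR u hu v hv huv
    have := hmax _ hins
    rw [Finset.card_insert_of_notMem hn1] at this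
    omega
  have h1 := Finset.card_le_card hcov
  have h2 := Finset.card_union_le R (R.image Neg.neg)
  have h3 := Finset.card_image_le (s := R) (f := Neg.neg)
  have h4 := step1 R hRF hR
  omega

/-- the main counting theorem -/
theorem frames_main [Module.Finite ℤ V] (hrank : Module.finrank ℤ V = 24) (hsym : ∀ x y, b x y = b y x)
    (Λ : AddSubgroup V) (s : ℤ) (hs : 0 < s) (hmin : ∀ x ∈ Λ, x ≠ 0 → 4 * s ≤ b x x)
    {Q : Type*} [Fintype Q] (hQ : Fintype.card Q ≤ 2 ^ 24) (ρ : V → Q)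
    (hρ : ∀ x ∈ Λ, ∀ y ∈ Λ, (ρ x = ρ y ↔ ∃ z ∈ Λ, x - y = (2 : ℕ) • z))
    (h4 : {x | x ∈ Λ ∧ b x x = 4 * s}.ncard = 196560)
    (h6 : {x | x ∈ Λ ∧ b x x = 6 * s}.ncard = 16773120)
    (h8 : {x | x ∈ Λ ∧ b x x = 8 * s}.ncard = 398034000) :
    (∀ x ∈ Λ, b x x = 8 * s → {y | y ∈ Λ ∧ b y y = 8 * s ∧ ρ y = ρ x}.ncard = 48) ∧
    (∀ c : Q, ∃ y ∈ Λ, b y y ≤ 8 * s ∧ ρ y = c) := by
  classical
  have fin4 : {x | x ∈ Λ ∧ b x x = 4 * s}.Finite := Set.finite_of_ncard_ne_zero (by rw [h4]; norm_num)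
  have fin6 : {x | x ∈ Λ ∧ b x x = 6 * s}.Finite := Set.finite_of_ncard_ne_zero (by rw [h6]; norm_num)
  have fin8 : {x | x ∈ Λ ∧ b x x = 8 * s}.Finite := Set.finite_of_ncard_ne_zero (by rw [h8]; norm_num)
  have m4 : ∀ x, x ∈ fin4.toFinset ↔ x ∈ Λ ∧ b x x = 4 * s := fun x => by rw [Set.Finite.mem_toFinset]; rfl
  have m6 : ∀ x, x ∈ fin6.toFinset ↔ x ∈ Λ ∧ b x x = 6 * s := fun x => by rw [Set.Finite.mem_toFinset]; rfl
  have m8 : ∀ x, x ∈ fin8.toFinset ↔ x ∈ Λ ∧ b x x = 8 * s := fun x => by rw [Set.Finite.mem_toFinset]; rfl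
  have c4 : fin4.toFinset.card = 196560 := by rw [← h4, Set.ncard_eq_toFinset_card _ fin4]
  have c6 : fin6.toFinset.card = 16773120 := by rw [← h6, Set.ncard_eq_toFinset_card _ fin6]
  have c8 : fin8.toFinset.card = 398034000 := by rw [← h8, Set.ncard_eq_toFinset_card _ fin8]
  have b0 : b 0 0 = 0 := by simp
  have key : ∀ u ∈ Λ, ∀ v ∈ Λ, b u u ≤ 8 * s → b v v ≤ 8 * s → ρ u = ρ v →
      u = v ∨ u = -v ∨ (b u u = 8 * s ∧ b v v = 8 * s ∧ b u v = 0) := by
    intro u hu v hv h1 h2 h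
    obtain ⟨z, hz, e⟩ := (hρ u hu v hv).mp h
    exact short_congr b hsym hmin hv hz h1 h2 e
  have hle : ∀ k : ℤ, k ≤ 8 → k * s ≤ 8 * s := fun k hk => mul_le_mul_of_nonneg_right hk hs.le
  have hcan : ∀ k l : ℤ, k * s = l * s → k = l := fun k l h => mul_right_cancel₀ hs.ne' h
  have diff : ∀ k l : ℤ, k ≤ 8 → l ≤ 8 → k ≠ l → ∀ u ∈ Λ, ∀ v ∈ Λ, b u u = k * s → b v v = l * s → ρ u ≠ ρ v := by
    intro k l hk hl hkl u hu v hv eu ev h
    rcases key u hu v hv (by rw [eu]; exact hle k hk) (by rw [ev]; exact hle l hl) h with e | e | e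
    · rw [e, ev] at eu; exact hkl (hcan _ _ eu).symm
    · rw [e, neg_form, ev] at eu; exact hkl (hcan _ _ eu).symm
    · rw [eu] at e
      rw [ev] at e
      exact hkl ((hcan _ _ e.1).trans (hcan _ _ e.2.1).symm)
  have fib2 : ∀ k : ℤ, k < 8 → ∀ N : Finset V, (∀ x ∈ N, x ∈ Λ ∧ b x x = k * s) →
      ∀ c, (N.filter (fun x => ρ x = c)).card ≤ 2 := by
    intro k hk8 N hN c
    by_cases hne : (N.filter (fun x => ρ x = c)).Nonempty
    · obtain ⟨u, hu⟩ := hne
      rw [Finset.mem_filter] at hu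
      have hsub : N.filter (fun x => ρ x = c) ⊆ {u, -u} := by
        intro v hv
        rw [Finset.mem_filter] at hv
        have hu' := hN u hu.1
        have hv' := hN v hv.1
        rcases key v hv'.1 u hu'.1 (by rw [hv'.2]; exact hle k hk8.le) (by rw [hu'.2]; exact hle k hk8.le)
          (hv.2.trans hu.2.symm) with h | h | h
        · rw [h]; exact Finset.mem_insert_self _ _
        · rw [h]; exact Finset.mem_insert_of_mem (Finset.mem_singleton_self _)
        · exfalso
          rw [hv'.2] at h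
          have := hcan _ _ h.1
          omega
      exact (Finset.card_le_card hsub).trans Finset.card_le_two
    · rw [Finset.not_nonempty_iff_eq_empty] at hne
      rw [hne]; simp
  have f8 : ∀ c, (fin8.toFinset.filter (fun x => ρ x = c)).card ≤ 48 := by
    intro c
    apply card_le_of_orth b hrank hsym
    · intro u hu
      rw [Finset.mem_filter, m8] at hu
      rw [hu.1.2]
      exact (mul_pos (by norm_num) hs).ne'
    · intro u hu v hv
      rw [Finset.mem_filter, m8] at hu hv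
      rcases key u hu.1.1 v hv.1.1 hu.1.2.le hv.1.2.le (hu.2.trans hv.2.symm) with h | h | h
      · exact Or.inl h
      · exact Or.inr (Or.inl h)
      · exact Or.inr (Or.inr h.2.2)
  have d0 : ∀ k : ℤ, 0 < k → k ≤ 8 → ∀ x ∈ Λ, b x x = k * s → ρ x ≠ ρ 0 := by
    intro k hk0 hk8 x hx ex
    have := diff k 0 hk8 (by norm_num) hk0.ne' x hx 0 Λ.zero_mem ex (by rw [b0, zero_mul])
    exact this
  obtain ⟨r1, r2⟩ := count_core hQ ρ (ρ 0) fin4.toFinset fin6.toFinset fin8.toFinset c4 c6 c8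
    (fib2 4 (by norm_num) _ (fun x hx => (m4 x).mp hx)) (fib2 6 (by norm_num) _ (fun x hx => (m6 x).mp hx)) f8
    (fun x hx => d0 4 (by norm_num) (by norm_num) x ((m4 x).mp hx).1 ((m4 x).mp hx).2)
    (fun x hx => d0 6 (by norm_num) (by norm_num) x ((m6 x).mp hx).1 ((m6 x).mp hx).2)
    (fun x hx => d0 8 (by norm_num) (by norm_num) x ((m8 x).mp hx).1 ((m8 x).mp hx).2)
    (fun x hx y hy => diff 4 6 (by norm_num) (by norm_num) (by norm_num) x ((m4 x).mp hx).1 y ((m6 y).mp hy).1
      ((m4 x).mp hx).2 ((m6 y).mp hy).2)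
    (fun x hx y hy => diff 4 8 (by norm_num) (by norm_num) (by norm_num) x ((m4 x).mp hx).1 y ((m8 y).mp hy).1
      ((m4 x).mp hx).2 ((m8 y).mp hy).2)
    (fun x hx y hy => diff 6 8 (by norm_num) (by norm_num) (by norm_num) x ((m6 x).mp hx).1 y ((m8 y).mp hy).1
      ((m6 x).mp hx).2 ((m8 y).mp hy).2)
  constructor
  · intro x hx ex
    have hx8 : x ∈ fin8.toFinset := (m8 x).mpr ⟨hx, ex⟩
    have := r1 x hx8
    rw [← this, ← Set.ncard_coe_finset]
    congr 1
    ext y
    simp only [Set.mem_ofPred_eq, Finset.coe_filter, m8]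
    tauto
  · intro c
    rcases r2 c with h | h | h | h
    · exact ⟨0, Λ.zero_mem, by rw [b0]; exact (mul_pos (by norm_num) hs).le, h.symm⟩
    · obtain ⟨y, hy, e⟩ := Finset.mem_image.mp h
      exact ⟨y, ((m4 y).mp hy).1, by rw [((m4 y).mp hy).2]; exact hle 4 (by norm_num), e⟩
    · obtain ⟨y, hy, e⟩ := Finset.mem_image.mp h
      exact ⟨y, ((m6 y).mp hy).1, by rw [((m6 y).mp hy).2]; exact hle 6 (by norm_num), e⟩
    · obtain ⟨y, hy, e⟩ := Finset.mem_image.mp h
      exact ⟨y, ((m8 y).mp hy).1, by rw [((m8 y).mp hy).2], e⟩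

end Cfsg.Agent.Helper22.Frames
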