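import Cfsg.Agent.Helper27.GolayFacts

/-!
The punctured length-23 code (drop the extra point of the length-24 code) in the bit-mask model of
`Cfsg.Agent.Helper27.GolayBits`: a word `ZMod 23 → ZMod 2` is a mask `n < 2 ^ 23`.
-/

set_option autoImplicit false

namespace Cfsg.Agent.Helper22.G23

open Cfsg Cfsg.Agent.Helper27

/-- forget the extra coordinate -/
def punct (w : GolayPt → ZMod 2) : ZMod 23 → ZMod 2 := fun x => w (some x)

/-- the punctured code, as a set of words of length 23 -/
def P23 : Set (ZMod 23 → ZMod 2) := {u | ∃ w ∈ golayCode, ∀ x : ZMod 23, u x = w (some x)}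

theorem mem_P23_iff (u : ZMod 23 → ZMod 2) : u ∈ P23 ↔ ∃ k < 4096, u = punct (decW (cw k)) := by
  constructor
  · rintro ⟨w, hw, h⟩
    obtain ⟨k, hk, rfl⟩ := (mem_golayCode_iff w).mp hw
    exact ⟨k, hk, funext h⟩
  · rintro ⟨k, _, rfl⟩
    exact ⟨_, decW_cw_mem k, fun _ => rfl⟩

theorem punct_decW_apply (n : ℕ) (x : ZMod 23) : punct (decW n) x = if n.testBit x.val then 1 else 0 := rfl

theorem punct_add (v w : GolayPt → ZMod 2) : punct (v + w) = punct v + punct w := rfl

theorem punct_decW_xor (a b : ℕ) : punct (decW (a ^^^ b)) = punct (decW a) + punct (decW b) := by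
  rw [decW_xor, punct_add]

theorem sum_zmod23 {M : Type*} [AddCommMonoid M] (f : ZMod 23 → M) :
    ∑ x : ZMod 23, f x = ∑ i ∈ Finset.range 23, f ((i : ℕ) : ZMod 23) := by
  have h2 : ∑ i : ZMod 23, f i = ∑ i : Fin 23, f (((i : ℕ) : ZMod 23)) := by
    show ∑ i : Fin 23, f (i : ZMod 23) = ∑ i : Fin 23, f (((i : ℕ) : ZMod 23))
    apply Finset.sum_congr rfl
    intro i _
    congr 1
    exact (ZMod.natCast_zmod_val (n := 23) i).symm
  rw [h2, Fin.sum_univ_eq_sum_range (fun i => f ((i : ℕ) : ZMod 23)) 23]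

theorem hammingNorm_punct_decW (n : ℕ) : hammingNorm (punct (decW n)) = popc 23 n := by
  unfold hammingNorm
  rw [Finset.card_filter, sum_zmod23, popc_eq_sum]
  apply Finset.sum_congr rfl
  intro i hi
  have hi' : i < 23 := Finset.mem_range.mp hi
  rw [punct_decW_apply, ZMod.val_natCast_of_lt hi']
  by_cases h : n.testBit i = true <;> simp [h]

theorem testBit_eq_of_punct_eq {a b : ℕ} (h : punct (decW a) = punct (decW b)) {i : ℕ} (hi : i < 23) :
    a.testBit i = b.testBit i := by
  have h1 := congrFun h ((i : ℕ) : ZMod 23)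
  rw [punct_decW_apply, punct_decW_apply, ZMod.val_natCast_of_lt hi] at h1
  by_cases ha : a.testBit i = true <;> by_cases hb : b.testBit i = true <;> simp_all

theorem mod_eq_of_punct_eq {a b : ℕ} (h : punct (decW a) = punct (decW b)) : a % 2 ^ 23 = b % 2 ^ 23 := by
  apply Nat.eq_of_testBit_eq
  intro i
  rw [Nat.testBit_mod_two_pow, Nat.testBit_mod_two_pow]
  by_cases hi : i < 23
  · rw [testBit_eq_of_punct_eq h hi]
  · simp [hi]

theorem punct_decW_mod (a : ℕ) : punct (decW (a % 2 ^ 23)) = punct (decW a) := by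
  funext x
  rw [punct_decW_apply, punct_decW_apply, Nat.testBit_mod_two_pow]
  have : x.val < 23 := ZMod.val_lt x
  simp [this]

theorem punct_cw_injOn {k k' : ℕ} (hk : k < 4096) (hk' : k' < 4096)
    (h : punct (decW (cw k)) = punct (decW (cw k'))) : k = k' := by
  have h1 := mod_eq_of_punct_eq h
  have h2 : cw k % 2 ^ 23 % 4096 = cw k' % 2 ^ 23 % 4096 := by rw [h1]
  have e : ∀ m : ℕ, m % 2 ^ 23 % 4096 = m % 4096 := fun m => by
    rw [Nat.mod_mod_of_dvd]; norm_num
  rw [e, e, cw_mod hk, cw_mod hk'] at h2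
  exact h2

/-- every word of length 23 comes from a mask -/
theorem punct_decW_surj (u : ZMod 23 → ZMod 2) : ∃ n < 2 ^ 23, punct (decW n) = u := by
  obtain ⟨n, _, hn⟩ := decW_surj (fun p => match p with | none => 0 | some x => u x)
  refine ⟨n % 2 ^ 23, Nat.mod_lt _ (by norm_num), ?_⟩
  rw [punct_decW_mod, hn]
  rfl

theorem P23_weight_ncard (n : ℕ) :
    {u : ZMod 23 → ZMod 2 | u ∈ P23 ∧ hammingNorm u = n}.ncard =
      countBelow (fun k => popc 23 (cw k) == n) 4096 := by
  have hset : {u : ZMod 23 → ZMod 2 | u ∈ P23 ∧ hammingNorm u = n} =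
      (fun k => punct (decW (cw k))) ''
        (((Finset.range 4096).filter (fun k => (popc 23 (cw k) == n) = true) : Finset ℕ) : Set ℕ) := by
    ext u
    simp only [Set.mem_ofPred_eq, mem_P23_iff, Set.mem_image, Finset.coe_filter, Finset.mem_range, beq_iff_eq]
    constructor
    · rintro ⟨⟨k, hk, rfl⟩, hc⟩
      rw [hammingNorm_punct_decW] at hc
      exact ⟨k, ⟨hk, hc⟩, rfl⟩
    · rintro ⟨k, ⟨hk, hc⟩, rfl⟩
      exact ⟨⟨k, hk, rfl⟩, by rw [hammingNorm_punct_decW, hc]⟩
  rw [hset, Set.InjOn.ncard_image, Set.ncard_coe_finset, countBelow_spec]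
  intro k hk k' hk' h
  simp only [Finset.coe_filter, Finset.mem_range, Set.mem_ofPred_eq] at hk hk'
  exact punct_cw_injOn hk.1 hk'.1 h

theorem P23_ncard : P23.ncard = 4096 := by
  have hset : P23 = (fun k => punct (decW (cw k))) '' ((Finset.range 4096 : Finset ℕ) : Set ℕ) := by
    ext u
    simp only [mem_P23_iff, Set.mem_image, Finset.coe_range, Set.mem_Iio]
    constructor
    · rintro ⟨k, hk, rfl⟩; exact ⟨k, hk, rfl⟩
    · rintro ⟨k, hk, rfl⟩; exact ⟨k, hk, rfl⟩
  rw [hset, Set.InjOn.ncard_image, Set.ncard_coe_finset, Finset.card_range]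
  intro k hk k' hk' h
  simp only [Finset.coe_range, Set.mem_Iio] at hk hk'
  exact punct_cw_injOn hk hk' h

theorem minwt_aux : allBelow (fun k => k == 0 || Nat.ble 7 (popc 23 (cw k))) 4096 = true := by
  decide +kernel

theorem P23_min_weight {u : ZMod 23 → ZMod 2} (hu : u ∈ P23) (h0 : u ≠ 0) : 7 ≤ hammingNorm u := by
  obtain ⟨k, hk, rfl⟩ := (mem_P23_iff u).mp hu
  have h := allBelow_spec minwt_aux k hk
  simp only [Bool.or_eq_true, beq_iff_eq] at h
  rcases h with h | h
  · exfalso
    apply h0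
    rw [h, cw_zero, decW_zero]
    rfl
  · rw [hammingNorm_punct_decW]
    exact Nat.le_of_ble_eq_true h

theorem cnt7 : countBelow (fun k => popc 23 (cw k) == 7) 4096 = 253 := by decide +kernel
theorem cnt8 : countBelow (fun k => popc 23 (cw k) == 8) 4096 = 506 := by decide +kernel
theorem cnt11 : countBelow (fun k => popc 23 (cw k) == 11) 4096 = 1288 := by decide +kernel
theorem cnt12 : countBelow (fun k => popc 23 (cw k) == 12) 4096 = 1288 := by decide +kernel
theorem cnt15 : countBelow (fun k => popc 23 (cw k) == 15) 4096 = 506 := by decide +kernel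
theorem cnt16 : countBelow (fun k => popc 23 (cw k) == 16) 4096 = 253 := by decide +kernel

end Cfsg.Agent.Helper22.G23
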