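import Cfsg.Agent.Helper22.GolayComb

/-!
Trios of the length-24 code: there are 3795 of them.
-/

set_option autoImplicit false

namespace Cfsg.Agent.Helper22.GolayComb

open Cfsg Cfsg.Agent.Helper27 Cfsg.Agent.Helper22.Design

/-- an octad is disjoint from exactly 30 octads -/
theorem card_disjoint_octads {o : Finset GolayPt} (ho : o ∈ octads) :
    (Oct.filter (fun c => Disjoint o c)).card = 30 := by
  have h := meet_5824_values card_golayPt octads_steiner ho ∅ (Finset.empty_subset o)
  unfold meet at h
  have : Oct.filter (fun c => Disjoint o c) = Oct.filter (fun b => b ∩ o = ∅) := by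
    apply Finset.filter_congr
    intro c _
    rw [Finset.disjoint_iff_inter_eq_empty, Finset.inter_comm]
  rw [this, h]
  rfl

/-- ordered pairs of disjoint octads -/
noncomputable def disjPairs : Finset (Finset GolayPt × Finset GolayPt) :=
  (Oct ×ˢ Oct).filter (fun p => Disjoint p.1 p.2)

theorem mem_disjPairs (p : Finset GolayPt × Finset GolayPt) :
    p ∈ disjPairs ↔ p.1 ∈ octads ∧ p.2 ∈ octads ∧ Disjoint p.1 p.2 := by
  simp [disjPairs, mem_Oct, and_assoc]

theorem card_disjPairs : disjPairs.card = 22770 := by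
  unfold disjPairs
  rw [Finset.card_filter, Finset.sum_product]
  simp_rw [← Finset.card_filter]
  rw [Finset.sum_congr rfl (fun a ha => card_disjoint_octads ((mem_Oct a).mp ha))]
  rw [Finset.sum_const, ← ncard_eq_card, octads_ncard]
  rfl

/-- the trio containing two disjoint octads -/
def trioOf (a b : Finset GolayPt) : Finset (Finset GolayPt) := {a, b, (a ∪ b)ᶜ}

theorem octad_ne_of_disjoint {a b : Finset GolayPt} (ha : a ∈ octads) (hd : Disjoint a b) : a ≠ b := by
  rintro rfl
  rw [disjoint_self] at hd
  have : a.card = 8 := ha.2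
  rw [hd] at this
  simp at this

theorem trioOf_mem {a b : Finset GolayPt} (ha : a ∈ octads) (hb : b ∈ octads) (hd : Disjoint a b) :
    trioOf a b ∈ trios := by
  have hc := compl_union_mem_octads ha hb hd
  have hac : Disjoint a (a ∪ b)ᶜ := by
    rw [Finset.disjoint_left]
    intro x hx hx'
    exact (Finset.mem_compl.mp hx') (Finset.mem_union_left _ hx)
  have hbc : Disjoint b (a ∪ b)ᶜ := by
    rw [Finset.disjoint_left]
    intro x hx hx'
    exact (Finset.mem_compl.mp hx') (Finset.mem_union_right _ hx)
  refine ⟨?_, ?_, ?_⟩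
  · exact Finset.card_eq_three.mpr ⟨a, b, (a ∪ b)ᶜ, octad_ne_of_disjoint ha hd, octad_ne_of_disjoint ha hac,
      octad_ne_of_disjoint hb hbc, rfl⟩
  · intro o ho
    simp only [trioOf, Finset.mem_insert, Finset.mem_singleton] at ho
    rcases ho with rfl | rfl | rfl
    · exact ha
    · exact hb
    · exact hc
  · intro o ho o' ho' hne
    simp only [trioOf, Finset.mem_insert, Finset.mem_singleton] at ho ho'
    rcases ho with rfl | rfl | rfl <;> rcases ho' with rfl | rfl | rfl
    · exact absurd rfl hne
    · exact hd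
    · exact hac
    · exact hd.symm
    · exact absurd rfl hne
    · exact hbc
    · exact hac.symm
    · exact hbc.symm
    · exact absurd rfl hne

theorem eq_trioOf {a b : Finset GolayPt} (ha : a ∈ octads) (hb : b ∈ octads) (hd : Disjoint a b)
    {T : Finset (Finset GolayPt)} (hT : T ∈ trios) (haT : a ∈ T) (hbT : b ∈ T) : T = trioOf a b := by
  have hc := compl_union_mem_octads ha hb hd
  have h3 : (trioOf a b).card = 3 := (trioOf_mem ha hb hd).1
  symm
  apply Finset.eq_of_subset_of_card_le
  · -- the third member of `T`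
    have hlt : ({a, b} : Finset (Finset GolayPt)).card < T.card := by
      rw [hT.1]
      exact lt_of_le_of_lt (Finset.card_le_two) (by norm_num)
    obtain ⟨x, hxT, hx⟩ := Finset.exists_mem_notMem_of_card_lt_card hlt
    simp only [Finset.mem_insert, Finset.mem_singleton, not_or] at hx
    have hxo : x ∈ octads := hT.2.1 x hxT
    have hxa : Disjoint x a := hT.2.2 x hxT a haT hx.1
    have hxb : Disjoint x b := hT.2.2 x hxT b hbT hx.2
    have hsub : x ⊆ (a ∪ b)ᶜ := by
      intro y hy
      rw [Finset.mem_compl, Finset.mem_union]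
      rintro (h | h)
      · exact (Finset.disjoint_left.mp hxa) hy h
      · exact (Finset.disjoint_left.mp hxb) hy h
    have hxc : x = (a ∪ b)ᶜ := Finset.eq_of_subset_of_card_le hsub (by rw [hc.2, hxo.2])
    intro o ho
    simp only [trioOf, Finset.mem_insert, Finset.mem_singleton] at ho
    rcases ho with rfl | rfl | rfl
    · exact haT
    · exact hbT
    · rw [← hxc]; exact hxT
  · rw [h3, hT.1]

/-- the finset of trios -/
noncomputable def triosFin : Finset (Finset (Finset GolayPt)) := (Set.toFinite trios).toFinset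

theorem mem_triosFin (T : Finset (Finset GolayPt)) : T ∈ triosFin ↔ T ∈ trios := by
  simp [triosFin]

theorem trios_ncard : trios.ncard = 3795 := by
  classical
  have h0 : trios = ((triosFin : Finset (Finset (Finset GolayPt))) : Set (Finset (Finset GolayPt))) := by
    ext S; simp [mem_triosFin]
  rw [h0, Set.ncard_coe_finset]
  have key := Finset.sum_card_bipartiteAbove_eq_sum_card_bipartiteBelow
    (s := disjPairs) (t := triosFin)
    (fun (p : Finset GolayPt × Finset GolayPt) (T : Finset (Finset GolayPt)) => p.1 ∈ T ∧ p.2 ∈ T)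
  have hL : ∀ p ∈ disjPairs,
      (Finset.bipartiteAbove (fun (p : Finset GolayPt × Finset GolayPt) (T : Finset (Finset GolayPt)) =>
        p.1 ∈ T ∧ p.2 ∈ T) triosFin p).card = 1 := by
    intro p hp
    obtain ⟨ha, hb, hd⟩ := (mem_disjPairs p).mp hp
    rw [Finset.card_eq_one]
    refine ⟨trioOf p.1 p.2, ?_⟩
    ext T
    simp only [Finset.bipartiteAbove, Finset.mem_filter, mem_triosFin, Finset.mem_singleton]
    constructor
    · rintro ⟨hT, h1, h2⟩; exact eq_trioOf ha hb hd hT h1 h2
    · rintro rfl
      exact ⟨trioOf_mem ha hb hd, by simp [trioOf], by simp [trioOf]⟩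
  have hR : ∀ T ∈ triosFin,
      (Finset.bipartiteBelow (fun (p : Finset GolayPt × Finset GolayPt) (T : Finset (Finset GolayPt)) =>
        p.1 ∈ T ∧ p.2 ∈ T) disjPairs T).card = 6 := by
    intro T hT
    have hT' := (mem_triosFin T).mp hT
    have : Finset.bipartiteBelow (fun (p : Finset GolayPt × Finset GolayPt) (T : Finset (Finset GolayPt)) =>
        p.1 ∈ T ∧ p.2 ∈ T) disjPairs T = T.offDiag := by
      ext p
      simp only [Finset.bipartiteBelow, Finset.mem_filter, mem_disjPairs, Finset.mem_offDiag]
      constructor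
      · rintro ⟨⟨ha, _, hd⟩, h1, h2⟩
        exact ⟨h1, h2, octad_ne_of_disjoint ha hd⟩
      · rintro ⟨h1, h2, hne⟩
        exact ⟨⟨hT'.2.1 _ h1, hT'.2.1 _ h2, hT'.2.2 _ h1 _ h2 hne⟩, h1, h2⟩
    rw [this, Finset.offDiag_card, hT'.1]
  rw [Finset.sum_congr rfl hL, Finset.sum_congr rfl hR, Finset.sum_const, Finset.sum_const,
    card_disjPairs] at key
  simp only [smul_eq_mul, mul_one] at key
  omega

end Cfsg.Agent.Helper22.GolayComb
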