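import Cfsg.Agent.Helper22.PermPack

/-!
# A bound for the order of the automorphism group of a graph, by colour refinement

The graph on the first `n` numbers is given by a packed adjacency matrix.  A colouring (packed, 32 bits for each
point) that is invariant under a group of automorphisms stays invariant when each point receives a new colour
computed from its colour and the colours of its neighbours; the points of the colour of a base point contain its
orbit.  The check runs through the base points; in the end the colours must be pairwise different.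
-/

set_option autoImplicit false

namespace Cfsg.Agent.Helper22.GraphRefine

open Cfsg.Agent.Helper22.PermPack

/-- the sum of a function over the first `n` numbers -/
def sumN (n : ℕ) (f : ℕ → ℕ) : ℕ := Nat.rec 0 (fun i acc => Nat.add (f i) acc) n

theorem sumN_succ (n : ℕ) (f : ℕ → ℕ) : sumN (n + 1) f = f n + sumN n f := rfl

theorem sumN_eq (n : ℕ) (f : ℕ → ℕ) : sumN n f = ∑ i : Fin n, f i.1 := by
  induction n with
  | zero => rfl
  | succ n ih =>
    rw [sumN_succ, ih, Fin.sum_univ_castSucc]
    simp only [Fin.val_castSucc, Fin.val_last]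
    exact Nat.add_comm _ _

/-- adjacency, from a packed matrix -/
def adjB (n ADJ i j : ℕ) : Bool := Nat.testBit ADJ (Nat.add (Nat.mul n i) j)

/-- the group of the permutations preserving adjacency -/
def AutG (n ADJ : ℕ) : Subgroup (Equiv.Perm (Fin n)) where
  carrier := {σ | ∀ i j : Fin n, adjB n ADJ (σ i).1 (σ j).1 = adjB n ADJ i.1 j.1}
  mul_mem' := by
    intro a b ha hb i j
    show adjB n ADJ (a (b i)).1 (a (b j)).1 = _
    rw [ha, hb]
  one_mem' := fun _ _ => rfl
  inv_mem' := by
    intro a ha i j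
    have e : ∀ x, a (a⁻¹ x) = x := fun x => by simp
    have := ha (a⁻¹ i) (a⁻¹ j)
    rw [e, e] at this
    exact this.symm

theorem mem_AutG {n ADJ : ℕ} (σ : Equiv.Perm (Fin n)) :
    σ ∈ AutG n ADJ ↔ ∀ i j : Fin n, adjB n ADJ (σ i).1 (σ j).1 = adjB n ADJ i.1 j.1 := Iff.rfl

/-- the function applied to the colours of the neighbours -/
def hsh (x : ℕ) : ℕ := Nat.mul (Nat.mul (Nat.add x 1) (Nat.add x 1)) (Nat.add x 3)

/-- the new colour of a point -/
def sigOf (n ADJ b c y : ℕ) : ℕ :=
  Nat.mod (Nat.add (Nat.add (Nat.mul (slot 32 c y) 1000003) (bif Nat.beq y b then 7919 else 0))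
    (sumN n fun j => bif adjB n ADJ y j then hsh (slot 32 c j) else 0)) 2147483647

/-- the new colouring, packed -/
def round (n ADJ b c : ℕ) : ℕ := sumN n fun y => Nat.shiftLeft (sigOf n ADJ b c y) (Nat.mul 32 y)

/-- a number of rounds, each one checked -/
def roundsOK (n ADJ b : ℕ) : ℕ → ℕ → (ℕ → Bool) → Bool
  | 0, c, k => k c
  | T + 1, c, k => withNat (round n ADJ b c) fun c' =>
      (allN n fun y => Nat.beq (slot 32 c' y) (sigOf n ADJ b c y)) && roundsOK n ADJ b T c' k

/-- the colours are pairwise different -/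
def discreteB (n c : ℕ) : Bool := allN n fun y => allN y fun y' => !(Nat.beq (slot 32 c y) (slot 32 c y'))

/-- the check: for each base point the number of the points of its colour, and a number of rounds -/
def boundOK (n ADJ : ℕ) : List (ℕ × ℕ × ℕ) → ℕ → Bool
  | [], c => discreteB n c
  | (b, m, T) :: rest, c =>
      Nat.blt b n && Nat.ble (sumN n fun y => bif Nat.beq (slot 32 c y) (slot 32 c b) then 1 else 0) m &&
        roundsOK n ADJ b T c fun c' => boundOK n ADJ rest c'

/-- a colouring is invariant under a group of permutations -/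
def Inv {n : ℕ} (H : Subgroup (Equiv.Perm (Fin n))) (c : ℕ) : Prop :=
  ∀ σ ∈ H, ∀ y : Fin n, slot 32 c (σ y).1 = slot 32 c y.1

theorem sigOf_inv {n ADJ b c : ℕ} {H : Subgroup (Equiv.Perm (Fin n))} (hH : H ≤ AutG n ADJ)
    (hb : ∀ σ ∈ H, ∀ y : Fin n, (σ y).1 = b ↔ y.1 = b) (hc : Inv H c) :
    ∀ σ ∈ H, ∀ y : Fin n, sigOf n ADJ b c (σ y).1 = sigOf n ADJ b c y.1 := by
  intro σ hσ y
  unfold sigOf
  have h1 : slot 32 c (σ y).1 = slot 32 c y.1 := hc σ hσ y
  have h2 : Nat.beq (σ y).1 b = Nat.beq y.1 b := by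
    rw [Bool.eq_iff_iff, beq_iff, beq_iff]
    exact hb σ hσ y
  have h3 : (sumN n fun j => bif adjB n ADJ (σ y).1 j then hsh (slot 32 c j) else 0) =
      sumN n fun j => bif adjB n ADJ y.1 j then hsh (slot 32 c j) else 0 := by
    rw [sumN_eq, sumN_eq]
    rw [← Equiv.sum_comp σ (fun j : Fin n => bif adjB n ADJ (σ y).1 j.1 then hsh (slot 32 c j.1) else 0)]
    apply Finset.sum_congr rfl
    intro j _
    rw [hH hσ y j, hc σ hσ j]
  rw [h1, h2, h3]

theorem roundsOK_spec {n ADJ b : ℕ} {H : Subgroup (Equiv.Perm (Fin n))} (hH : H ≤ AutG n ADJ)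
    (hb : ∀ σ ∈ H, ∀ y : Fin n, (σ y).1 = b ↔ y.1 = b) :
    ∀ (T c : ℕ) (k : ℕ → Bool), Inv H c → roundsOK n ADJ b T c k = true → ∃ c', Inv H c' ∧ k c' = true := by
  intro T
  induction T with
  | zero =>
    intro c k hc h
    exact ⟨c, hc, h⟩
  | succ T ih =>
    intro c k hc h
    simp only [roundsOK, withNat_eq, Bool.and_eq_true] at h
    obtain ⟨h1, h2⟩ := h
    apply ih _ k _ h2
    intro σ hσ y
    have e1 := beq_iff.mp (allN_spec h1 (σ y).1 (σ y).2)
    have e2 := beq_iff.mp (allN_spec h1 y.1 y.2)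
    rw [e1, e2]
    exact sigOf_inv hH hb hc σ hσ y

theorem card_le_mul {α : Type*} [Finite α] (H : Subgroup (Equiv.Perm α)) (b : α) (C : Finset α)
    (hC : ∀ σ ∈ H, σ b ∈ C) :
    Nat.card H ≤ C.card * Nat.card ↥(H ⊓ MulAction.stabilizer (Equiv.Perm α) b) := by
  classical
  have e := MulAction.orbitProdStabilizerEquivGroup ↥H b
  have h1 : Nat.card H = Nat.card (MulAction.orbit ↥H b) * Nat.card (MulAction.stabilizer ↥H b) := by
    rw [← Nat.card_prod]
    exact (Nat.card_congr e).symm
  have h2 : Nat.card (MulAction.orbit ↥H b) ≤ C.card := by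
    have hsub : MulAction.orbit ↥H b ⊆ (C : Set α) := by
      rintro _ ⟨σ, rfl⟩
      exact hC σ.1 σ.2
    calc Nat.card (MulAction.orbit ↥H b) ≤ Nat.card (C : Set α) := Nat.card_mono (Finset.finite_toSet C) hsub
      _ = C.card := by rw [Nat.card_coe_set_eq, Set.ncard_coe_finset]
  have h3 : Nat.card (MulAction.stabilizer ↥H b) =
      Nat.card ↥(H ⊓ MulAction.stabilizer (Equiv.Perm α) b) := by
    apply Nat.card_congr
    exact ⟨fun x => ⟨x.1.1, ⟨x.1.2, x.2⟩⟩, fun x => ⟨⟨x.1, x.2.1⟩, x.2.2⟩, fun _ => rfl, fun _ => rfl⟩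
  rw [h1, h3]
  exact Nat.mul_le_mul_right _ h2

/-- the soundness of the check -/
theorem card_le_of_boundOK {n ADJ : ℕ} : ∀ (levels : List (ℕ × ℕ × ℕ)) (c : ℕ)
    (H : Subgroup (Equiv.Perm (Fin n))), H ≤ AutG n ADJ → Inv H c → boundOK n ADJ levels c = true →
      Nat.card H ≤ (levels.map fun l => l.2.1).prod := by
  intro levels
  induction levels with
  | nil =>
    intro c H _ hc h
    have hinj : ∀ y y' : Fin n, slot 32 c y.1 = slot 32 c y'.1 → y = y' := by
      have key : ∀ y y' : Fin n, y'.1 < y.1 → slot 32 c y.1 ≠ slot 32 c y'.1 := by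
        intro y y' hlt heq
        have := allN_spec (allN_spec h y.1 y.2) y'.1 hlt
        rw [Bool.not_eq_true', ← Bool.not_eq_true, beq_iff] at this
        exact this heq
      intro y y' heq
      rcases lt_trichotomy y.1 y'.1 with hl | hl | hl
      · exact absurd heq.symm (key y' y hl)
      · exact Fin.ext hl
      · exact absurd heq (key y y' hl)
    have hbot : H = ⊥ := by
      rw [eq_bot_iff]
      intro σ hσ
      rw [Subgroup.mem_bot]
      apply Equiv.ext
      intro y
      exact hinj _ _ (hc σ hσ y)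
    rw [hbot]
    simp
  | cons l rest ih =>
    obtain ⟨b, m, T⟩ := l
    intro c H hH hc h
    simp only [boundOK, Bool.and_eq_true, blt_iff, Nat.ble_eq] at h
    obtain ⟨⟨hb, hm⟩, hr⟩ := h
    classical
    set bF : Fin n := ⟨b, hb⟩ with hbF
    set H' : Subgroup (Equiv.Perm (Fin n)) := H ⊓ MulAction.stabilizer (Equiv.Perm (Fin n)) bF with hH'
    have hle : H' ≤ H := inf_le_left
    have hfix : ∀ σ ∈ H', σ bF = bF := fun σ hσ => MulAction.mem_stabilizer_iff.mp hσ.2
    have hb' : ∀ σ ∈ H', ∀ y : Fin n, (σ y).1 = b ↔ y.1 = b := by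
      intro σ hσ y
      constructor
      · intro hy
        have : σ y = σ bF := by rw [hfix σ hσ]; exact Fin.ext hy
        exact congrArg Fin.val (σ.injective this)
      · intro hy
        have : y = bF := Fin.ext hy
        rw [this, hfix σ hσ]
    have hc' : Inv H' c := fun σ hσ y => hc σ (hle hσ) y
    obtain ⟨c', hc'', hk⟩ := roundsOK_spec (hle.trans hH) hb' T c _ hc' hr
    have hrest := ih c' H' (hle.trans hH) hc'' hk
    let C : Finset (Fin n) := Finset.univ.filter fun y : Fin n => slot 32 c y.1 = slot 32 c b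
    have hC : ∀ σ ∈ H, σ bF ∈ C := by
      intro σ hσ
      rw [Finset.mem_filter]
      exact ⟨Finset.mem_univ _, hc σ hσ bF⟩
    have hCcard : C.card ≤ m := by
      have : C.card = sumN n fun y => bif Nat.beq (slot 32 c y) (slot 32 c b) then 1 else 0 := by
        rw [sumN_eq, Finset.card_filter]
        apply Finset.sum_congr rfl
        intro y _
        by_cases hy : slot 32 c y.1 = slot 32 c b
        · rw [if_pos hy, beq_iff.mpr hy]
          rfl
        · rw [if_neg hy]
          have : Nat.beq (slot 32 c y.1) (slot 32 c b) = false := by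
            rw [← Bool.not_eq_true, beq_iff]
            exact hy
          rw [this]
          rfl
      rw [this]
      exact hm
    rw [List.map_cons, List.prod_cons]
    calc Nat.card H ≤ C.card * Nat.card H' := card_le_mul H bF C hC
      _ ≤ m * (rest.map fun l => l.2.1).prod := Nat.mul_le_mul hCcard hrest

theorem slot_zero (w k : ℕ) : slot w 0 k = 0 := by
  unfold slot
  simp only [Nat.shiftRight_eq, Nat.zero_shiftRight]
  exact Nat.zero_mod _

/-- the bound for the group of all automorphisms -/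
theorem card_AutG_le {n ADJ : ℕ} (levels : List (ℕ × ℕ × ℕ)) (h : boundOK n ADJ levels 0 = true) :
    Nat.card (AutG n ADJ) ≤ (levels.map fun l => l.2.1).prod := by
  apply card_le_of_boundOK levels 0 (AutG n ADJ) le_rfl _ h
  intro σ _ y
  rw [slot_zero, slot_zero]

/-! ### Tables of automorphisms -/

/-- the test for a table to preserve adjacency -/
def autB (n w ADJ t : ℕ) : Bool :=
  allN n fun i => withNat (slot w t i) fun ti =>
    allN n fun j => (adjB n ADJ ti (slot w t j)) == (adjB n ADJ i j)

theorem P_mem_AutG {n w ADJ t : ℕ} (hg : Good n w t) (h : autB n w ADJ t = true) : P n w t ∈ AutG n ADJ := by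
  intro i j
  have h1 := allN_spec h i.1 i.2
  rw [withNat_eq] at h1
  have := allN_spec h1 j.1 j.2
  rw [rep_P hg i, rep_P hg j]
  exact (beq_iff_eq).mp this

theorem Grp_le_AutG {n w ADJ : ℕ} {Y : List ℕ} (hY : ∀ y ∈ Y, Good n w y ∧ autB n w ADJ y = true) :
    Grp n w Y ≤ AutG n ADJ := by
  unfold Grp
  rw [Subgroup.closure_le]
  rintro g ⟨y, hy, rfl⟩
  exact P_mem_AutG (hY y hy).1 (hY y hy).2

end Cfsg.Agent.Helper22.GraphRefine
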