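import Cfsg.Agent.Helper22.GraphRefine

/-!
# Colour refinement for larger graphs

A variant of the check of `GraphRefine` that reads the rows of the adjacency matrix once for each point, and the
consequence that an automorphism fixing the base points is the identity.
-/

set_option autoImplicit false

namespace Cfsg.Agent.Helper22.GraphRefine

open Cfsg.Agent.Helper22.PermPack

/-- evaluate a natural number before passing it on -/
def letN (x : ℕ) (k : ℕ → ℕ) : ℕ :=
  match x with
  | 0 => k 0
  | m + 1 => k (m + 1)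

theorem letN_eq (x : ℕ) (k : ℕ → ℕ) : letN x k = k x := by
  cases x <;> rfl

/-- adjacency, from a row of the matrix -/
theorem testBit_row {n ADJ i j : ℕ} (hj : j < n) : Nat.testBit (slot n ADJ i) j = adjB n ADJ i j := by
  show Nat.testBit ((ADJ >>> (n * i)) % 2 ^ n) j = Nat.testBit ADJ (n * i + j)
  rw [Nat.testBit_mod_two_pow, Nat.testBit_shiftRight, decide_eq_true hj, Bool.true_and]

/-- the new colour of a point, from its row -/
def sigOfR (n r b c y : ℕ) : ℕ :=
  Nat.mod (Nat.add (Nat.add (Nat.mul (slot 32 c y) 1000003) (bif Nat.beq y b then 7919 else 0))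
    (sumN n fun j => bif Nat.testBit r j then hsh (slot 32 c j) else 0)) 2147483647

theorem sumN_congr : ∀ (n : ℕ) (f g : ℕ → ℕ), (∀ j < n, f j = g j) → sumN n f = sumN n g := by
  intro n
  induction n with
  | zero => intro _ _ _; rfl
  | succ n ih =>
    intro f g h
    rw [sumN_succ, sumN_succ, h n (Nat.lt_succ_self n), ih f g (fun j hj => h j (Nat.lt_succ_of_lt hj))]

theorem sigOfR_eq (n ADJ b c y : ℕ) : sigOfR n (slot n ADJ y) b c y = sigOf n ADJ b c y := by
  unfold sigOfR sigOf
  rw [sumN_congr n _ (fun j => bif adjB n ADJ y j then hsh (slot 32 c j) else 0)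
    (fun j hj => by rw [testBit_row hj])]

/-- the new colours of the first points, the last one first -/
def sigList (n ADJ b c : ℕ) : ℕ → List ℕ
  | 0 => []
  | m + 1 => letN (slot n ADJ m) (fun r => sigOfR n r b c m) :: sigList n ADJ b c m

theorem sigList_length (n ADJ b c : ℕ) : ∀ m, (sigList n ADJ b c m).length = m
  | 0 => rfl
  | m + 1 => by rw [sigList, List.length_cons, sigList_length n ADJ b c m]

/-- the colours packed into a number -/
def packL : List ℕ → ℕ
  | [] => 0
  | v :: l => Nat.add (Nat.shiftLeft v (Nat.mul 32 l.length)) (packL l)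

/-- the packed colouring has the given colours -/
def chkL (c' : ℕ) : List ℕ → Bool
  | [] => true
  | v :: l => Nat.beq (slot 32 c' l.length) v && chkL c' l

theorem chkL_spec (n ADJ b c c' : ℕ) : ∀ m, chkL c' (sigList n ADJ b c m) = true →
    ∀ y < m, slot 32 c' y = sigOf n ADJ b c y := by
  intro m
  induction m with
  | zero => intro _ y hy; omega
  | succ m ih =>
    intro h y hy
    rw [sigList, chkL, Bool.and_eq_true, beq_iff, sigList_length, letN_eq, sigOfR_eq] at h
    rcases Nat.lt_succ_iff_lt_or_eq.mp hy with h' | h'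
    · exact ih h.2 y h'
    · rw [h']
      exact h.1

/-- a number of rounds, each one checked -/
def roundsOKR (n ADJ b : ℕ) : ℕ → ℕ → (ℕ → Bool) → Bool
  | 0, c, k => k c
  | T + 1, c, k => withList (sigList n ADJ b c n) fun sl => withNat (packL sl) fun c' =>
      chkL c' sl && roundsOKR n ADJ b T c' k

/-- the check: for each base point the number of the points of its colour, and a number of rounds -/
def boundOKR (n ADJ : ℕ) : List (ℕ × ℕ × ℕ) → ℕ → Bool
  | [], c => discreteB n c
  | (b, m, T) :: rest, c =>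
      Nat.blt b n && Nat.ble (sumN n fun y => bif Nat.beq (slot 32 c y) (slot 32 c b) then 1 else 0) m &&
        roundsOKR n ADJ b T c fun c' => boundOKR n ADJ rest c'

theorem roundsOKR_spec {n ADJ b : ℕ} {H : Subgroup (Equiv.Perm (Fin n))} (hH : H ≤ AutG n ADJ)
    (hb : ∀ σ ∈ H, ∀ y : Fin n, (σ y).1 = b ↔ y.1 = b) :
    ∀ (T c : ℕ) (k : ℕ → Bool), Inv H c → roundsOKR n ADJ b T c k = true → ∃ c', Inv H c' ∧ k c' = true := by
  intro T
  induction T with
  | zero =>
    intro c k hc h
    exact ⟨c, hc, h⟩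
  | succ T ih =>
    intro c k hc h
    simp only [roundsOKR, withNat_eq, withList_eq, Bool.and_eq_true] at h
    obtain ⟨h1, h2⟩ := h
    apply ih _ k _ h2
    intro σ hσ y
    have e1 := chkL_spec n ADJ b c _ n h1 (σ y).1 (σ y).2
    have e2 := chkL_spec n ADJ b c _ n h1 y.1 y.2
    rw [e1, e2]
    exact sigOf_inv hH hb hc σ hσ y

theorem discrete_bot {n c : ℕ} {H : Subgroup (Equiv.Perm (Fin n))} (hc : Inv H c) (h : discreteB n c = true) :
    H = ⊥ := by
  have hinj : ∀ y y' : Fin n, slot 32 c y.1 = slot 32 c y'.1 → y = y' := by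
    have key : ∀ y y' : Fin n, y'.1 < y.1 → slot 32 c y.1 ≠ slot 32 c y'.1 := by
      intro y y' hlt heq
      have := allN_spec (allN_spec h y.1 y.2) y'.1 hlt
      rw [Bool.not_eq_true', ← Bool.not_eq_true, beq_iff] at this
      exact this heq
    intro y y' heq
    rcases lt_trichotomy y.1 y'.1 with hl | hl | hl
    · exact absurd heq.symm (key y' y hl)
    · exact Fin.ext hl
    · exact absurd heq (key y y' hl)
  rw [eq_bot_iff]
  intro σ hσ
  rw [Subgroup.mem_bot]
  apply Equiv.ext
  intro y
  exact hinj _ _ (hc σ hσ y)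

/-- the soundness of the check -/
theorem card_le_of_boundOKR {n ADJ : ℕ} : ∀ (levels : List (ℕ × ℕ × ℕ)) (c : ℕ)
    (H : Subgroup (Equiv.Perm (Fin n))), H ≤ AutG n ADJ → Inv H c → boundOKR n ADJ levels c = true →
      Nat.card H ≤ (levels.map fun l => l.2.1).prod := by
  intro levels
  induction levels with
  | nil =>
    intro c H _ hc h
    rw [discrete_bot hc h]
    simp
  | cons l rest ih =>
    obtain ⟨b, m, T⟩ := l
    intro c H hH hc h
    simp only [boundOKR, Bool.and_eq_true, blt_iff, Nat.ble_eq] at h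
    obtain ⟨⟨hb, hm⟩, hr⟩ := h
    classical
    set bF : Fin n := ⟨b, hb⟩ with hbF
    set H' : Subgroup (Equiv.Perm (Fin n)) := H ⊓ MulAction.stabilizer (Equiv.Perm (Fin n)) bF with hH'
    have hle : H' ≤ H := inf_le_left
    have hfix : ∀ σ ∈ H', σ bF = bF := fun σ hσ => MulAction.mem_stabilizer_iff.mp hσ.2
    have hb' : ∀ σ ∈ H', ∀ y : Fin n, (σ y).1 = b ↔ y.1 = b := by
      intro σ hσ y
      constructor
      · intro hy
        have : σ y = σ bF := by rw [hfix σ hσ]; exact Fin.ext hy
        exact congrArg Fin.val (σ.injective this)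
      · intro hy
        have : y = bF := Fin.ext hy
        rw [this, hfix σ hσ]
    have hc' : Inv H' c := fun σ hσ y => hc σ (hle hσ) y
    obtain ⟨c', hc'', hk⟩ := roundsOKR_spec (hle.trans hH) hb' T c _ hc' hr
    have hrest := ih c' H' (hle.trans hH) hc'' hk
    let C : Finset (Fin n) := Finset.univ.filter fun y : Fin n => slot 32 c y.1 = slot 32 c b
    have hC : ∀ σ ∈ H, σ bF ∈ C := by
      intro σ hσ
      rw [Finset.mem_filter]
      exact ⟨Finset.mem_univ _, hc σ hσ bF⟩
    have hCcard : C.card ≤ m := by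
      have : C.card = sumN n fun y => bif Nat.beq (slot 32 c y) (slot 32 c b) then 1 else 0 := by
        rw [sumN_eq, Finset.card_filter]
        apply Finset.sum_congr rfl
        intro y _
        by_cases hy : slot 32 c y.1 = slot 32 c b
        · rw [if_pos hy, beq_iff.mpr hy]
          rfl
        · rw [if_neg hy]
          have : Nat.beq (slot 32 c y.1) (slot 32 c b) = false := by
            rw [← Bool.not_eq_true, beq_iff]
            exact hy
          rw [this]
          rfl
      rw [this]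
      exact hm
    rw [List.map_cons, List.prod_cons]
    calc Nat.card H ≤ C.card * Nat.card H' := card_le_mul H bF C hC
      _ ≤ m * (rest.map fun l => l.2.1).prod := Nat.mul_le_mul hCcard hrest

/-- the bound for the group of all automorphisms -/
theorem card_AutG_leR {n ADJ : ℕ} (levels : List (ℕ × ℕ × ℕ)) (h : boundOKR n ADJ levels 0 = true) :
    Nat.card (AutG n ADJ) ≤ (levels.map fun l => l.2.1).prod := by
  apply card_le_of_boundOKR levels 0 (AutG n ADJ) le_rfl _ h
  intro σ _ y
  rw [slot_zero, slot_zero]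

/-- a group of automorphisms fixing the base points is trivial -/
theorem eq_bot_of_boundOKR {n ADJ : ℕ} : ∀ (levels : List (ℕ × ℕ × ℕ)) (c : ℕ)
    (H : Subgroup (Equiv.Perm (Fin n))), H ≤ AutG n ADJ → Inv H c → boundOKR n ADJ levels c = true →
      (∀ l ∈ levels, ∀ σ ∈ H, ∀ hb : l.1 < n, σ ⟨l.1, hb⟩ = ⟨l.1, hb⟩) → H = ⊥ := by
  intro levels
  induction levels with
  | nil =>
    intro c H _ hc h _
    exact discrete_bot hc h
  | cons l rest ih =>
    obtain ⟨b, m, T⟩ := l
    intro c H hH hc h hfix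
    simp only [boundOKR, Bool.and_eq_true, blt_iff, Nat.ble_eq] at h
    obtain ⟨⟨hb, _⟩, hr⟩ := h
    have hfixb : ∀ σ ∈ H, σ ⟨b, hb⟩ = ⟨b, hb⟩ := fun σ hσ => hfix (b, m, T) List.mem_cons_self σ hσ hb
    have hb' : ∀ σ ∈ H, ∀ y : Fin n, (σ y).1 = b ↔ y.1 = b := by
      intro σ hσ y
      constructor
      · intro hy
        have : σ y = σ ⟨b, hb⟩ := by rw [hfixb σ hσ]; exact Fin.ext hy
        exact congrArg Fin.val (σ.injective this)
      · intro hy
        have : y = ⟨b, hb⟩ := Fin.ext hy
        rw [this, hfixb σ hσ]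
    obtain ⟨c', hc'', hk⟩ := roundsOKR_spec hH hb' T c _ hc hr
    exact ih c' H hH hc'' hk (fun l' hl' => hfix l' (List.mem_cons_of_mem _ hl'))

/-- an automorphism fixing the base points is the identity -/
theorem eq_one_of_fix_baseR {n ADJ : ℕ} (levels : List (ℕ × ℕ × ℕ)) (h : boundOKR n ADJ levels 0 = true)
    (g : Equiv.Perm (Fin n)) (hg : g ∈ AutG n ADJ)
    (hfix : ∀ d ∈ levels.map (fun l => l.1), ∀ hd : d < n, g ⟨d, hd⟩ = ⟨d, hd⟩) : g = 1 := by
  have hbot := eq_bot_of_boundOKR levels 0 (Subgroup.zpowers g ⊓ AutG n ADJ) inf_le_right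
    (fun σ _ y => by rw [slot_zero, slot_zero]) h (by
      intro l hl σ hσ hb
      obtain ⟨k, rfl⟩ := Subgroup.mem_zpowers_iff.mp hσ.1
      have hfix' : g ⟨l.1, hb⟩ = ⟨l.1, hb⟩ := hfix l.1 (List.mem_map.mpr ⟨l, hl, rfl⟩) hb
      have hst : g ∈ MulAction.stabilizer (Equiv.Perm (Fin n)) (⟨l.1, hb⟩ : Fin n) :=
        MulAction.mem_stabilizer_iff.mpr hfix'
      exact MulAction.mem_stabilizer_iff.mp (Subgroup.zpow_mem _ hst k))
  have : g ∈ Subgroup.zpowers g ⊓ AutG n ADJ := ⟨Subgroup.mem_zpowers g, hg⟩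
  rw [hbot, Subgroup.mem_bot] at this
  exact this

/-! ### Tables of automorphisms -/

/-- the test for a table to preserve adjacency, reading the rows of the matrix -/
def autBR (n w ADJ t : ℕ) : Bool :=
  allN n fun i => withNat (slot n ADJ i) fun ri => withNat (slot n ADJ (slot w t i)) fun rti =>
    allN n fun j => Nat.testBit rti (slot w t j) == Nat.testBit ri j

theorem P_mem_AutG_R {n w ADJ t : ℕ} (hg : Good n w t) (h : autBR n w ADJ t = true) : P n w t ∈ AutG n ADJ := by
  intro i j
  have h1 := allN_spec h i.1 i.2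
  rw [withNat_eq, withNat_eq] at h1
  have := allN_spec h1 j.1 j.2
  rw [rep_P hg i, rep_P hg j, ← testBit_row (hg.1 j.1 j.2), ← testBit_row j.2]
  exact (beq_iff_eq).mp this

theorem Grp_le_AutG_R {n w ADJ : ℕ} {Y : List ℕ} (hY : ∀ y ∈ Y, Good n w y ∧ autBR n w ADJ y = true) :
    Grp n w Y ≤ AutG n ADJ := by
  unfold Grp
  rw [Subgroup.closure_le]
  rintro g ⟨y, hy, rfl⟩
  exact P_mem_AutG_R (hY y hy).1 (hY y hy).2

end Cfsg.Agent.Helper22.GraphRefine
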