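import Cfsg.Agent.Helper22.GraphRefine2

/-!
# Colour refinement, level by level

The rounds after each base point can be checked in separate declarations, with the colourings between the levels
given as numerals.
-/

set_option autoImplicit false

namespace Cfsg.Agent.Helper22.GraphRefine

open Cfsg.Agent.Helper22.PermPack

/-- the rounds lead from one colouring to another -/
def reachB (n ADJ b T c c' : ℕ) : Bool := roundsOKR n ADJ b T c fun x => Nat.beq x c'

theorem roundsOKR_of_reach {n ADJ b : ℕ} : ∀ (T c c' : ℕ) (k : ℕ → Bool), reachB n ADJ b T c c' = true →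
    k c' = true → roundsOKR n ADJ b T c k = true := by
  intro T
  induction T with
  | zero =>
    intro c c' k h hk
    have e : c = c' := beq_iff.mp h
    rw [e]
    exact hk
  | succ T ih =>
    intro c c' k h hk
    unfold reachB at h
    simp only [roundsOKR, withNat_eq, withList_eq, Bool.and_eq_true] at h ⊢
    exact ⟨h.1, ih _ c' k h.2 hk⟩

/-- the check of one level: the number of the points of the colour of the base point -/
def countB (n b m c : ℕ) : Bool :=
  Nat.blt b n && Nat.ble (sumN n fun y => bif Nat.beq (slot 32 c y) (slot 32 c b) then 1 else 0) m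

theorem boundOKR_cons {n ADJ b m T c c' : ℕ} {rest : List (ℕ × ℕ × ℕ)} (h1 : countB n b m c = true)
    (h2 : reachB n ADJ b T c c' = true) (h3 : boundOKR n ADJ rest c' = true) :
    boundOKR n ADJ ((b, m, T) :: rest) c = true := by
  unfold countB at h1
  rw [Bool.and_eq_true] at h1
  simp only [boundOKR, Bool.and_eq_true]
  exact ⟨⟨h1.1, h1.2⟩, roundsOKR_of_reach T c c' _ h2 h3⟩

theorem boundOKR_nil {n ADJ c : ℕ} (h : discreteB n c = true) : boundOKR n ADJ [] c = true := h

end Cfsg.Agent.Helper22.GraphRefine
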