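import Mathlib
import Cfsg.Agent.Helper28.CD2b

set_option autoImplicit false
set_option linter.unusedSectionVars false
set_option linter.unusedVariables false

/-! Crossed homomorphisms from `Ω(Q)` (over the field with two elements) into the natural module:
the kernel subgroup, the conjugation rule, the norm rules, normalisation at a fixed-point-free
element, and the relation `T a b : r_a r_b ∈ ker f` on vectors. -/

namespace Cfsg.Agent.Helper22.H1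

open Matrix Cfsg.Agent.Helper28.Spin Cfsg.Agent.Helper28.CD2 Cfsg.Agent.Helper28.IsoTransport

variable {ι : Type} [Fintype ι] [DecidableEq ι] (Q : QuadraticForm (ZMod 2) (ι → ZMod 2))

theorem z2_ne_zero_iff (t : ZMod 2) : t ≠ 0 ↔ t = 1 := by
  revert t; decide

theorem vadd_self (v : ι → ZMod 2) : v + v = 0 := by
  funext i
  exact CharTwo.add_self_eq_zero (v i)

theorem vsub_eq_add (a b : ι → ZMod 2) : a - b = a + b := by
  funext i
  simp only [Pi.sub_apply, Pi.add_apply]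
  exact CharTwo.sub_eq_add _ _

theorem z2_two : (2 : ZMod 2) = 0 := by decide

/-- crossed homomorphisms on `Ω` -/
def IsCH (f : ↥(Cfsg.Omega (ZMod 2) ⇑Q) → (ι → ZMod 2)) : Prop :=
  ∀ g h : ↥(Cfsg.Omega (ZMod 2) ⇑Q), f (g * h) = f g + mt Q g.1 *ᵥ f h

/-- fixed-point-free on the natural module -/
def Fpf (g : ↥(Cfsg.isometryGroup (ZMod 2) ⇑Q)) : Prop :=
  ∀ w : ι → ZMod 2, mt Q g *ᵥ w = w → w = 0

theorem exists_sub_of_fpf (M : Matrix ι ι (ZMod 2)) (hfp : ∀ w, M *ᵥ w = w → w = 0)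
    (w : ι → ZMod 2) : ∃ v, M *ᵥ v - v = w := by
  have hinj : Function.Injective (Matrix.toLin' (M - 1)) := by
    rw [← LinearMap.ker_eq_bot, LinearMap.ker_eq_bot']
    intro v hv
    rw [Matrix.toLin'_apply, Matrix.sub_mulVec, Matrix.one_mulVec, sub_eq_zero] at hv
    exact hfp v hv
  obtain ⟨v, hv⟩ := (LinearMap.injective_iff_surjective.mp hinj) w
  refine ⟨v, ?_⟩
  rw [Matrix.toLin'_apply, Matrix.sub_mulVec, Matrix.one_mulVec] at hv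
  exact hv

section ker

variable {Q}
variable {f : ↥(Cfsg.Omega (ZMod 2) ⇑Q) → (ι → ZMod 2)} (hf : IsCH Q f)
include hf

theorem ch_one : f 1 = 0 := by
  have h := hf 1 1
  rw [mul_one] at h
  have h1 : mt Q (1 : ↥(Cfsg.Omega (ZMod 2) ⇑Q)).1 = 1 := rfl
  rw [h1, Matrix.one_mulVec] at h
  exact left_eq_add.mp h

/-- the kernel of a crossed homomorphism, as a subgroup of the isometry group -/
def kerS : Subgroup ↥(Cfsg.isometryGroup (ZMod 2) ⇑Q) where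
  carrier := {g | ∃ hg : g ∈ Cfsg.Omega (ZMod 2) ⇑Q, f ⟨g, hg⟩ = 0}
  one_mem' := ⟨Subgroup.one_mem _, ch_one hf⟩
  mul_mem' := by
    rintro a b ⟨ha, ea⟩ ⟨hb, eb⟩
    refine ⟨Subgroup.mul_mem _ ha hb, ?_⟩
    have h := hf ⟨a, ha⟩ ⟨b, hb⟩
    rw [ea, eb, Matrix.mulVec_zero, add_zero] at h
    exact h
  inv_mem' := by
    rintro a ⟨ha, ea⟩
    refine ⟨Subgroup.inv_mem _ ha, ?_⟩
    have h := hf ⟨a⁻¹, Subgroup.inv_mem _ ha⟩ ⟨a, ha⟩
    have e1 : (⟨a⁻¹, Subgroup.inv_mem _ ha⟩ : ↥(Cfsg.Omega (ZMod 2) ⇑Q)) * ⟨a, ha⟩ = 1 :=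
      Subtype.ext (inv_mul_cancel a)
    rw [e1, ch_one hf, ea, Matrix.mulVec_zero, add_zero] at h
    exact h.symm

theorem mem_kerS_iff (g : ↥(Cfsg.isometryGroup (ZMod 2) ⇑Q)) :
    g ∈ kerS hf ↔ ∃ hg : g ∈ Cfsg.Omega (ZMod 2) ⇑Q, f ⟨g, hg⟩ = 0 := Iff.rfl

theorem kerS_le : kerS hf ≤ Cfsg.Omega (ZMod 2) ⇑Q := fun g hg => hg.1

theorem apply_eq_zero_of_mem (g : ↥(Cfsg.Omega (ZMod 2) ⇑Q)) (hg : g.1 ∈ kerS hf) : f g = 0 := by
  obtain ⟨h1, h2⟩ := hg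
  exact h2

/-- the conjugation rule -/
theorem mem_kerS_of_conj {g k1 k2 : ↥(Cfsg.isometryGroup (ZMod 2) ⇑Q)}
    (hg : g ∈ Cfsg.Omega (ZMod 2) ⇑Q) (h1 : k1 ∈ kerS hf) (h2 : k2 ∈ kerS hf)
    (he : g * k1 = k2 * g) (hfp : Fpf Q k2) : g ∈ kerS hf := by
  obtain ⟨hk1, e1⟩ := h1
  obtain ⟨hk2, e2⟩ := h2
  refine ⟨hg, ?_⟩
  have a1 := hf ⟨g, hg⟩ ⟨k1, hk1⟩
  have a2 := hf ⟨k2, hk2⟩ ⟨g, hg⟩
  have e : (⟨g, hg⟩ : ↥(Cfsg.Omega (ZMod 2) ⇑Q)) * ⟨k1, hk1⟩ = ⟨k2, hk2⟩ * ⟨g, hg⟩ :=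
    Subtype.ext he
  rw [e1, Matrix.mulVec_zero, add_zero] at a1
  rw [e2, zero_add] at a2
  rw [e, a2] at a1
  exact hfp _ a1

/-- value on `g * k` for `k` in the kernel -/
theorem apply_mul_ker {g k : ↥(Cfsg.isometryGroup (ZMod 2) ⇑Q)}
    (hg : g ∈ Cfsg.Omega (ZMod 2) ⇑Q) (hk : k ∈ kerS hf) :
    f ⟨g * k, Subgroup.mul_mem _ hg hk.1⟩ = f ⟨g, hg⟩ := by
  obtain ⟨hk1, e1⟩ := hk
  have a1 := hf ⟨g, hg⟩ ⟨k, hk1⟩
  rw [e1, Matrix.mulVec_zero, add_zero] at a1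
  exact a1

/-- the norm rule for an element of order dividing three -/
theorem norm3 {x : ↥(Cfsg.isometryGroup (ZMod 2) ⇑Q)} (hx : x ∈ Cfsg.Omega (ZMod 2) ⇑Q)
    (h3 : x * x * x = 1) :
    f ⟨x, hx⟩ + mt Q x *ᵥ f ⟨x, hx⟩ + mt Q x *ᵥ (mt Q x *ᵥ f ⟨x, hx⟩) = 0 := by
  have a1 := hf ⟨x, hx⟩ ⟨x, hx⟩
  have a2 := hf (⟨x, hx⟩ * ⟨x, hx⟩) ⟨x, hx⟩
  have e : (⟨x, hx⟩ : ↥(Cfsg.Omega (ZMod 2) ⇑Q)) * ⟨x, hx⟩ * ⟨x, hx⟩ = 1 := Subtype.ext h3
  rw [e, ch_one hf, a1] at a2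
  have hm : mt Q ((⟨x, hx⟩ : ↥(Cfsg.Omega (ZMod 2) ⇑Q)) * ⟨x, hx⟩).1 = mt Q x * mt Q x := rfl
  rw [hm, ← Matrix.mulVec_mulVec] at a2
  exact a2.symm

/-- the norm rule for an element of order dividing two -/
theorem norm2 {x : ↥(Cfsg.isometryGroup (ZMod 2) ⇑Q)} (hx : x ∈ Cfsg.Omega (ZMod 2) ⇑Q)
    (h2 : x * x = 1) :
    f ⟨x, hx⟩ + mt Q x *ᵥ f ⟨x, hx⟩ = 0 := by
  have a1 := hf ⟨x, hx⟩ ⟨x, hx⟩
  have e : (⟨x, hx⟩ : ↥(Cfsg.Omega (ZMod 2) ⇑Q)) * ⟨x, hx⟩ = 1 := Subtype.ext h2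
  rw [e, ch_one hf] at a1
  exact a1.symm

/-- subtracting a principal crossed homomorphism -/
theorem isCH_sub_principal (v : ι → ZMod 2) :
    IsCH Q (fun g => f g - (mt Q g.1 *ᵥ v - v)) := by
  intro g h
  simp only
  rw [hf g h]
  have hm : mt Q (g * h).1 = mt Q g.1 * mt Q h.1 := rfl
  rw [hm, ← Matrix.mulVec_mulVec, Matrix.mulVec_sub, Matrix.mulVec_sub]
  abel

end ker

/-- reduction: it suffices to kill, after normalising at a fixed-point-free `h`, all products of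
two reflections. -/
theorem principal_of (hΩ : Cfsg.Omega (ZMod 2) ⇑Q = Rfl2 Q)
    (h : ↥(Cfsg.isometryGroup (ZMod 2) ⇑Q)) (hh : h ∈ Cfsg.Omega (ZMod 2) ⇑Q) (hfp : Fpf Q h)
    (key : ∀ (f' : ↥(Cfsg.Omega (ZMod 2) ⇑Q) → (ι → ZMod 2)) (hf' : IsCH Q f'), h ∈ kerS hf' →
      ∀ (u v : ι → ZMod 2) (hu : Q u ≠ 0) (hv : Q v ≠ 0), reflO Q u hu * reflO Q v hv ∈ kerS hf')
    (f : ↥(Cfsg.Omega (ZMod 2) ⇑Q) → (ι → ZMod 2)) (hf : IsCH Q f) :
    ∃ v : ι → ZMod 2, ∀ g : ↥(Cfsg.Omega (ZMod 2) ⇑Q), f g = mt Q g.1 *ᵥ v - v := by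
  obtain ⟨v, hv⟩ := exists_sub_of_fpf (mt Q h) hfp (f ⟨h, hh⟩)
  refine ⟨v, ?_⟩
  have hf' := isCH_sub_principal hf v
  have hk : h ∈ kerS hf' := by
    refine ⟨hh, ?_⟩
    simp only
    rw [hv, sub_self]
  have hall := key _ hf' hk
  have hle' : Rfl2 Q ≤ kerS hf' := by
    unfold Rfl2
    rw [Subgroup.closure_le]
    rintro g ⟨u, v, hu, hv, hg⟩
    have : g = reflO Q u hu * reflO Q v hv := Subtype.ext (Units.ext hg)
    rw [this]
    exact hall u v hu hv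
  have hle : Cfsg.Omega (ZMod 2) ⇑Q ≤ kerS hf' := by
    intro g hg
    rw [hΩ] at hg
    exact hle' hg
  intro g
  have := apply_eq_zero_of_mem hf' g (hle g.2)
  exact sub_eq_zero.mp this

/-! ### the total reflection map and the relation `T` -/

/-- the reflection in `a` if `a` is non-singular, and `1` otherwise -/
noncomputable def rr (a : ι → ZMod 2) : ↥(Cfsg.isometryGroup (ZMod 2) ⇑Q) :=
  if h : Q a ≠ 0 then reflO Q a h else 1

theorem rr_of {a : ι → ZMod 2} (ha : Q a ≠ 0) : rr Q a = reflO Q a ha := dif_pos ha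

theorem rr_of_not {a : ι → ZMod 2} (ha : ¬ Q a ≠ 0) : rr Q a = 1 := dif_neg ha

theorem rr_mul_self (a : ι → ZMod 2) : rr Q a * rr Q a = 1 := by
  by_cases ha : Q a ≠ 0
  · rw [rr_of Q ha, reflO_mul_self]
  · rw [rr_of_not Q ha, mul_one]

theorem rr_inv (a : ι → ZMod 2) : (rr Q a)⁻¹ = rr Q a :=
  inv_eq_of_mul_eq_one_left (rr_mul_self Q a)

theorem rr_conj (g : ↥(Cfsg.isometryGroup (ZMod 2) ⇑Q)) (a : ι → ZMod 2) :
    rr Q (mt Q g *ᵥ a) = g * rr Q a * g⁻¹ := by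
  by_cases ha : Q a ≠ 0
  · have ha' : Q (mt Q g *ᵥ a) ≠ 0 := by rw [isom_apply]; exact ha
    rw [rr_of Q ha, rr_of Q ha']
    exact reflO_conj Q g a ha ha'
  · have ha' : ¬ Q (mt Q g *ᵥ a) ≠ 0 := by rw [isom_apply]; exact ha
    rw [rr_of_not Q ha, rr_of_not Q ha', mul_one, mul_inv_cancel]

theorem mt_rr {a : ι → ZMod 2} (ha : Q a ≠ 0) (x : ι → ZMod 2) :
    mt Q (rr Q a) *ᵥ x = x + QuadraticMap.polar ⇑Q a x • a := by
  rw [rr_of Q ha]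
  show Cfsg.reflectionMatrix ⇑Q a *ᵥ x = _
  rw [refl_mulVec, (z2_ne_zero_iff _).mp ha, inv_one, one_mul, vsub_eq_add]

theorem mt_mul' (g h : ↥(Cfsg.isometryGroup (ZMod 2) ⇑Q)) (x : ι → ZMod 2) :
    mt Q (g * h) *ᵥ x = mt Q g *ᵥ (mt Q h *ᵥ x) := by
  rw [mt_mul, Matrix.mulVec_mulVec]

theorem mt_one' (x : ι → ZMod 2) :
    mt Q (1 : ↥(Cfsg.isometryGroup (ZMod 2) ⇑Q)) *ᵥ x = x := by
  rw [mt_one, Matrix.one_mulVec]

theorem polar_self0 (x : ι → ZMod 2) : QuadraticMap.polar ⇑Q x x = 0 :=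
  polar_self_zero Q z2_two x

/-- reflections in orthogonal vectors commute -/
theorem rr_comm {a b : ι → ZMod 2} (hab : QuadraticMap.polar ⇑Q a b = 0) :
    rr Q a * rr Q b = rr Q b * rr Q a := by
  by_cases ha : Q a ≠ 0
  · have h1 := rr_conj Q (rr Q a) b
    rw [mt_rr Q ha, hab, zero_smul, add_zero, rr_inv] at h1
    -- rr b = rr a * rr b * rr a
    calc rr Q a * rr Q b = rr Q a * rr Q b * (rr Q a * rr Q a) := by rw [rr_mul_self, mul_one]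
      _ = (rr Q a * rr Q b * rr Q a) * rr Q a := by group
      _ = rr Q b * rr Q a := by rw [← h1]
  · rw [rr_of_not Q ha, one_mul, mul_one]

/-- for `B(a, b) = 1` : `r_b r_a r_b = r_{a+b}` -/
theorem rr_braid {a b : ι → ZMod 2} (hb : Q b ≠ 0) (hab : QuadraticMap.polar ⇑Q b a = 1) :
    rr Q b * rr Q a * rr Q b = rr Q (a + b) := by
  have h1 := rr_conj Q (rr Q b) a
  rw [mt_rr Q hb, hab, one_smul, rr_inv] at h1
  exact h1.symm

section T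

variable {Q}
variable {f : ↥(Cfsg.Omega (ZMod 2) ⇑Q) → (ι → ZMod 2)} (hf : IsCH Q f)

/-- `T a b` : the product of the reflections in `a` and `b` is killed by `f` -/
def T (a b : ι → ZMod 2) : Prop := rr Q a * rr Q b ∈ kerS hf

theorem T_refl (a : ι → ZMod 2) : T hf a a := by
  unfold T
  rw [rr_mul_self]
  exact Subgroup.one_mem _

theorem T_symm {a b : ι → ZMod 2} (h : T hf a b) : T hf b a := by
  unfold T at *
  have := Subgroup.inv_mem _ h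
  rwa [_root_.mul_inv_rev, rr_inv, rr_inv] at this

theorem T_trans {a b c : ι → ZMod 2} (h1 : T hf a b) (h2 : T hf b c) : T hf a c := by
  unfold T at *
  have := Subgroup.mul_mem _ h1 h2
  have e : rr Q a * rr Q b * (rr Q b * rr Q c) = rr Q a * rr Q c := by
    rw [mul_assoc, ← mul_assoc (rr Q b), rr_mul_self, one_mul]
  rwa [e] at this

theorem T_conj {g : ↥(Cfsg.isometryGroup (ZMod 2) ⇑Q)} (hg : g ∈ kerS hf) {a b : ι → ZMod 2}
    (h : T hf a b) : T hf (mt Q g *ᵥ a) (mt Q g *ᵥ b) := by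
  unfold T at *
  rw [rr_conj, rr_conj]
  have e : g * rr Q a * g⁻¹ * (g * rr Q b * g⁻¹) = g * (rr Q a * rr Q b) * g⁻¹ := by group
  rw [e]
  exact Subgroup.mul_mem _ (Subgroup.mul_mem _ hg h) (Subgroup.inv_mem _ hg)

/-- rule (A): for `h` in the kernel, fixed-point-free, with `h² x = x + h x` at the non-singular
vector `x`, the rotation `r_x r_{hx}` is in the kernel. -/
theorem T_A (hpair : ∀ (u v : ι → ZMod 2) (hu : Q u ≠ 0) (hv : Q v ≠ 0),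
      reflO Q u hu * reflO Q v hv ∈ Cfsg.Omega (ZMod 2) ⇑Q)
    {h : ↥(Cfsg.isometryGroup (ZMod 2) ⇑Q)} (hk : h ∈ kerS hf) (hfp : Fpf Q h)
    (x : ι → ZMod 2) (hx : Q x ≠ 0)
    (h2 : mt Q h *ᵥ (mt Q h *ᵥ x) = x + mt Q h *ᵥ x) : T hf x (mt Q h *ᵥ x) := by
  set x1 := mt Q h *ᵥ x with hx1
  have hQ1 : Q x1 ≠ 0 := by rw [hx1, isom_apply]; exact hx
  have hQ2 : Q (x + x1) = Q x := by rw [← h2, isom_apply, isom_apply]
  have hB : QuadraticMap.polar ⇑Q x1 x = 1 := by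
    have e : QuadraticMap.polar ⇑Q x x1 = Q (x + x1) - Q x - Q x1 := rfl
    rw [QuadraticMap.polar_comm, e, hQ2, hx1, isom_apply, (z2_ne_zero_iff _).mp hx]
    decide
  -- r_{x1} r_x r_{x1} = r_{x + x1} = r_{h x1}
  have hbr := rr_braid Q hQ1 hB
  have hc1 := rr_conj Q h x
  have hc2 := rr_conj Q h x1
  rw [← hx1] at hc1
  rw [h2] at hc2
  -- g = r_x r_{x1};  h g h⁻¹ = r_{x1} r_{x+x1} = r_{x1} r_{x1} r_x r_{x1} = g
  have hcomm : (rr Q x * rr Q x1) * h = h * (rr Q x * rr Q x1) := by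
    have e1 : h * (rr Q x * rr Q x1) * h⁻¹ = rr Q x * rr Q x1 := by
      calc h * (rr Q x * rr Q x1) * h⁻¹ = (h * rr Q x * h⁻¹) * (h * rr Q x1 * h⁻¹) := by group
        _ = rr Q x1 * rr Q (x + x1) := by rw [← hc1, ← hc2]
        _ = rr Q x1 * (rr Q x1 * rr Q x * rr Q x1) := by rw [hbr]
        _ = (rr Q x1 * rr Q x1) * rr Q x * rr Q x1 := by group
        _ = rr Q x * rr Q x1 := by rw [rr_mul_self, one_mul]
    calc (rr Q x * rr Q x1) * h = (h * (rr Q x * rr Q x1) * h⁻¹) * h := by rw [e1]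
      _ = h * (rr Q x * rr Q x1) := by group
  have hmem : rr Q x * rr Q x1 ∈ Cfsg.Omega (ZMod 2) ⇑Q := by
    rw [rr_of Q hx, rr_of Q hQ1]
    exact hpair _ _ _ _
  exact mem_kerS_of_conj hf hmem hk hk hcomm hfp

theorem fpf_conj {h : ↥(Cfsg.isometryGroup (ZMod 2) ⇑Q)} (hfp : Fpf Q h)
    (g : ↥(Cfsg.isometryGroup (ZMod 2) ⇑Q)) : Fpf Q (g * h * g⁻¹) := by
  intro w hw
  rw [mt_mul', mt_mul'] at hw
  have h1 : mt Q h *ᵥ (mt Q g⁻¹ *ᵥ w) = mt Q g⁻¹ *ᵥ w := by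
    have key : mt Q g⁻¹ *ᵥ (mt Q g *ᵥ (mt Q h *ᵥ (mt Q g⁻¹ *ᵥ w))) = mt Q g⁻¹ *ᵥ w := by
      rw [hw]
    rw [← mt_mul' Q g⁻¹ g, inv_mul_cancel, mt_one'] at key
    exact key
  have h2 := hfp _ h1
  have : w = mt Q g *ᵥ (mt Q g⁻¹ *ᵥ w) := by rw [← mt_mul', mul_inv_cancel, mt_one']
  rw [this, h2, Matrix.mulVec_zero]

theorem fpf_of_cubic {h : ↥(Cfsg.isometryGroup (ZMod 2) ⇑Q)}
    (h3 : ∀ v, mt Q h *ᵥ (mt Q h *ᵥ v) = v + mt Q h *ᵥ v) : Fpf Q h := by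
  intro w hw
  have := h3 w
  rw [hw, hw, vadd_self] at this
  exact this

/-- rule (B): orthogonal lines of the `F₄`-structure given by `h` are joined. -/
theorem T_B (hpair : ∀ (u v : ι → ZMod 2) (hu : Q u ≠ 0) (hv : Q v ≠ 0),
      reflO Q u hu * reflO Q v hv ∈ Cfsg.Omega (ZMod 2) ⇑Q)
    {h : ↥(Cfsg.isometryGroup (ZMod 2) ⇑Q)} (hk : h ∈ kerS hf)
    (h3 : ∀ v, mt Q h *ᵥ (mt Q h *ᵥ v) = v + mt Q h *ᵥ v)
    (d e : ι → ZMod 2) (hd : Q d ≠ 0) (he : Q e ≠ 0)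
    (h0 : QuadraticMap.polar ⇑Q d e = 0) (h1 : QuadraticMap.polar ⇑Q d (mt Q h *ᵥ e) = 0) :
    T hf d e := by
  have hfp := fpf_of_cubic h3
  set d1 := mt Q h *ᵥ d with hd1
  set e1 := mt Q h *ᵥ e with he1
  -- h (d + d1) = d
  have hd2 : mt Q h *ᵥ (d + d1) = d := by
    rw [Matrix.mulVec_add, hd1, h3 d, ← hd1, add_comm d d1, ← add_assoc, vadd_self, zero_add]
  have he2 : mt Q h *ᵥ (e + e1) = e := by
    rw [Matrix.mulVec_add, he1, h3 e, ← he1, add_comm e e1, ← add_assoc, vadd_self, zero_add]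
  have hQd2 : Q (d + d1) ≠ 0 := by
    have := isom_apply Q h (d + d1)
    rw [hd2] at this
    rw [← this]; exact hd
  have hQe2 : Q (e + e1) ≠ 0 := by
    have := isom_apply Q h (e + e1)
    rw [he2] at this
    rw [← this]; exact he
  -- the two rotations are in the kernel
  have hTd : T hf (d + d1) d := by
    have := T_A hf hpair hk hfp (d + d1) hQd2 (by rw [hd2, ← hd1, add_comm d d1, add_assoc, vadd_self, add_zero])
    rwa [hd2] at this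
  have hTe : T hf (e + e1) e := by
    have := T_A hf hpair hk hfp (e + e1) hQe2 (by rw [he2, ← he1, add_comm e e1, add_assoc, vadd_self, add_zero])
    rwa [he2] at this
  -- orthogonality
  have hB2 : QuadraticMap.polar ⇑Q d (e + e1) = 0 := by
    rw [QuadraticMap.polar_add_right, h0, h1, add_zero]
  have hc1 := rr_comm Q h0
  have hc2 := rr_comm Q hB2
  -- conjugation by h
  have hcd := rr_conj Q h (d + d1)
  have hce := rr_conj Q h (e + e1)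
  rw [hd2] at hcd
  rw [he2] at hce
  have hmem : rr Q d * rr Q e ∈ Cfsg.Omega (ZMod 2) ⇑Q := by
    rw [rr_of Q hd, rr_of Q he]
    exact hpair _ _ _ _
  have hk2 : (rr Q d * rr Q e) * h * (rr Q d * rr Q e)⁻¹ ∈ kerS hf := by
    have e1' : (rr Q d * rr Q e) * h * (rr Q d * rr Q e)⁻¹ =
        h * ((rr Q (d + d1) * rr Q d) * (rr Q (e + e1) * rr Q e)) := by
      have i1 : (rr Q d * rr Q e)⁻¹ = rr Q e * rr Q d := by
        rw [_root_.mul_inv_rev, rr_inv, rr_inv]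
      have i2 : rr Q d * (rr Q (e + e1) * rr Q e) = (rr Q (e + e1) * rr Q e) * rr Q d := by
        calc rr Q d * (rr Q (e + e1) * rr Q e) = (rr Q d * rr Q (e + e1)) * rr Q e := by group
          _ = (rr Q (e + e1) * rr Q d) * rr Q e := by rw [hc2]
          _ = rr Q (e + e1) * (rr Q d * rr Q e) := by group
          _ = rr Q (e + e1) * (rr Q e * rr Q d) := by rw [hc1]
          _ = (rr Q (e + e1) * rr Q e) * rr Q d := by group
      calc (rr Q d * rr Q e) * h * (rr Q d * rr Q e)⁻¹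
          = (h * rr Q (d + d1) * h⁻¹ * (h * rr Q (e + e1) * h⁻¹)) * h * (rr Q e * rr Q d) := by
            rw [i1, ← hcd, ← hce]
        _ = h * rr Q (d + d1) * ((rr Q (e + e1) * rr Q e) * rr Q d) := by group
        _ = h * rr Q (d + d1) * (rr Q d * (rr Q (e + e1) * rr Q e)) := by rw [i2]
        _ = _ := by group
    rw [e1']
    exact Subgroup.mul_mem _ hk (Subgroup.mul_mem _ hTd hTe)
  have hcj : (rr Q d * rr Q e) * h = ((rr Q d * rr Q e) * h * (rr Q d * rr Q e)⁻¹) * (rr Q d * rr Q e) := by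
    group
  exact mem_kerS_of_conj hf hmem hk hk2 hcj (fpf_conj hfp _)

end T

end Cfsg.Agent.Helper22.H1
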