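import Mathlib
import Cfsg.Agent.Helper22.H1Core

set_option autoImplicit false
set_option linter.unusedSectionVars false
set_option linter.unusedVariables false

/-! Bit codes for vectors over the field with two elements, and the computational closure
argument for crossed homomorphisms on `Ω(Q)`. -/

namespace Cfsg.Agent.Helper22.H1

open Matrix Cfsg.Agent.Helper28.Spin Cfsg.Agent.Helper28.CD2 Cfsg.Agent.Helper28.IsoTransport

variable {ι : Type} [Fintype ι] [DecidableEq ι] {n : ℕ} (e : ι ≃ Fin n)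

/-- the vector with code `x` -/
def vec (x : ℕ) : ι → ZMod 2 := fun i => if x.testBit (e i).val then 1 else 0

theorem vec_xor (x y : ℕ) : vec e (x ^^^ y) = vec e x + vec e y := by
  funext i
  simp only [vec, Pi.add_apply, Nat.testBit_xor]
  cases x.testBit (e i).val <;> cases y.testBit (e i).val <;> decide

theorem vec_zero : vec e 0 = 0 := by
  funext i
  simp [vec]

theorem exists_code (v : ι → ZMod 2) : ∃ x, x < 2 ^ n ∧ vec e x = v := by
  refine ⟨Nat.ofBits (fun j : Fin n => decide (v (e.symm j) = 1)), Nat.ofBits_lt_two_pow _, ?_⟩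
  funext i
  simp only [vec]
  rw [Nat.testBit_ofBits_lt _ _ (e i).isLt]
  simp only [Fin.eta, Equiv.symm_apply_apply, decide_eq_true_eq]
  have : v i = 0 ∨ v i = 1 := by
    generalize v i = t
    revert t; decide
  rcases this with h | h <;> rw [h] <;> decide

theorem mod_eq_zero_of_vec_eq_zero {a : ℕ} (h : vec e a = 0) : a % 2 ^ n = 0 := by
  apply Nat.eq_of_testBit_eq
  intro j
  rw [Nat.zero_testBit, Nat.testBit_mod_two_pow]
  by_cases hj : j < n
  · have h1 := congrFun h (e.symm ⟨j, hj⟩)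
    simp only [vec, Equiv.apply_symm_apply, Pi.zero_apply] at h1
    by_cases hb : a.testBit j
    · rw [if_pos hb] at h1
      exact absurd h1 (by decide)
    · simp [hb]
  · simp [hj]

theorem mod_eq_zero_of_vec_eq {a b : ℕ} (h : vec e a = vec e b) : (a ^^^ b) % 2 ^ n = 0 := by
  apply mod_eq_zero_of_vec_eq_zero e
  rw [vec_xor, h, vadd_self]

section model

variable (Q : QuadraticForm (ZMod 2) (ι → ZMod 2)) (qc : ℕ → Bool)

/-- polar form on codes -/
def bcode (x y : ℕ) : Bool := xor (qc (x ^^^ y)) (xor (qc x) (qc y))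

/-- reflection on codes -/
def rcode (a x : ℕ) : ℕ := if bcode qc a x then x ^^^ a else x

/-- a product of reflections on codes -/
def wcode (w : List ℕ) (x : ℕ) : ℕ := w.foldr (rcode qc) x

/-- the element `h r_d r_{hd}` on codes -/
def kcode (hw : List ℕ) (d z : ℕ) : ℕ := wcode qc hw (rcode qc d (rcode qc (wcode qc hw d) z))

variable (hq : ∀ x, Q (vec e x) = if qc x then 1 else 0)
include hq

theorem Q_ne_zero_iff (x : ℕ) : Q (vec e x) ≠ 0 ↔ qc x = true := by
  rw [hq]
  cases qc x <;> simp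

theorem polar_vec (x y : ℕ) :
    QuadraticMap.polar ⇑Q (vec e x) (vec e y) = if bcode qc x y then 1 else 0 := by
  have e1 : QuadraticMap.polar ⇑Q (vec e x) (vec e y)
      = Q (vec e x + vec e y) - Q (vec e x) - Q (vec e y) := rfl
  rw [e1, ← vec_xor, hq, hq, hq]
  unfold bcode
  cases qc (x ^^^ y) <;> cases qc x <;> cases qc y <;> decide

theorem mt_rr_vec {a : ℕ} (ha : qc a = true) (x : ℕ) :
    mt Q (rr Q (vec e a)) *ᵥ vec e x = vec e (rcode qc a x) := by
  rw [mt_rr Q ((Q_ne_zero_iff e Q qc hq a).mpr ha), polar_vec e Q qc hq]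
  unfold rcode
  by_cases hb : bcode qc a x = true
  · rw [if_pos hb, if_pos hb, one_smul, vec_xor]
  · rw [if_neg hb, if_neg hb, zero_smul, add_zero]

/-- the product of the reflections in a list of codes -/
noncomputable def wG (w : List ℕ) : ↥(Cfsg.isometryGroup (ZMod 2) ⇑Q) :=
  (w.map (fun a => rr Q (vec e a))).prod

omit hq in
theorem wG_nil : wG e Q [] = 1 := rfl

omit hq in
theorem wG_cons (a : ℕ) (w : List ℕ) : wG e Q (a :: w) = rr Q (vec e a) * wG e Q w := by
  unfold wG
  rw [List.map_cons, List.prod_cons]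

theorem mt_wG (w : List ℕ) (hw : ∀ a ∈ w, qc a = true) (x : ℕ) :
    mt Q (wG e Q w) *ᵥ vec e x = vec e (wcode qc w x) := by
  induction w with
  | nil => rw [wG_nil, mt_one']; rfl
  | cons a w ih =>
    rw [wG_cons, mt_mul', ih (fun b hb => hw b (List.mem_cons_of_mem _ hb)),
      mt_rr_vec e Q qc hq (hw a List.mem_cons_self)]
    rfl

theorem wG_mem_Omega
    (hpair : ∀ (u v : ι → ZMod 2) (hu : Q u ≠ 0) (hv : Q v ≠ 0),
      reflO Q u hu * reflO Q v hv ∈ Cfsg.Omega (ZMod 2) ⇑Q) :
    ∀ (k : ℕ) (w : List ℕ), w.length = 2 * k → (∀ a ∈ w, qc a = true) →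
      wG e Q w ∈ Cfsg.Omega (ZMod 2) ⇑Q := by
  intro k
  induction k with
  | zero =>
    intro w hl _
    have : w = [] := List.length_eq_zero_iff.mp (by omega)
    rw [this, wG_nil]
    exact Subgroup.one_mem _
  | succ k ih =>
    intro w hl hw
    match w, hl, hw with
    | [], hl, _ => simp at hl
    | [a], hl, _ => simp at hl; omega
    | a :: b :: w', hl, hw =>
      rw [wG_cons, wG_cons, ← mul_assoc]
      apply Subgroup.mul_mem
      · have ha := (Q_ne_zero_iff e Q qc hq a).mpr (hw a List.mem_cons_self)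
        have hb := (Q_ne_zero_iff e Q qc hq b).mpr
          (hw b (List.mem_cons_of_mem _ List.mem_cons_self))
        rw [rr_of Q ha, rr_of Q hb]
        exact hpair _ _ _ _
      · apply ih
        · simp only [List.length_cons] at hl
          omega
        · intro c hc
          exact hw c (List.mem_cons_of_mem _ (List.mem_cons_of_mem _ hc))

end model

/-! ### the closure computation -/

section closure

variable (n) (qc : ℕ → Bool) (hw : List ℕ) (goodD : List ℕ)

/-- one step of the closure, on codes -/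
def step (x y : ℕ) : Bool :=
  (y == wcode qc hw x) || (!bcode qc x y && !bcode qc x (wcode qc hw y)) ||
    goodD.any (fun d => y == kcode qc hw d x &&
      kcode qc hw d (kcode qc hw d x) == x ^^^ kcode qc hw d x)

/-- one round of the closure, on lists of codes -/
def expand (L : List ℕ) : List ℕ :=
  (List.range (2 ^ n)).filter (fun y => L.contains y || (qc y && L.any (fun x => step qc hw goodD x y)))

end closure

section main

variable (Q : QuadraticForm (ZMod 2) (ι → ZMod 2)) (qc : ℕ → Bool)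
variable (hq : ∀ x, Q (vec e x) = if qc x then 1 else 0)
include hq

theorem principal_of_cubic
    (hΩ : Cfsg.Omega (ZMod 2) ⇑Q = Rfl2 Q)
    (hpair : ∀ (u v : ι → ZMod 2) (hu : Q u ≠ 0) (hv : Q v ≠ 0),
      reflO Q u hu * reflO Q v hv ∈ Cfsg.Omega (ZMod 2) ⇑Q)
    (hw : List ℕ) (hwq : ∀ a ∈ hw, qc a = true) (k : ℕ) (hwlen : hw.length = 2 * k)
    (hcub : ∀ x < 2 ^ n, wcode qc hw (wcode qc hw x) = x ^^^ wcode qc hw x)
    (goodD : List ℕ)
    (hgood : ∀ d ∈ goodD, qc d = true ∧ ∀ z < 2 ^ n, (kcode qc hw d z ^^^ z) % 2 ^ n = 0 → z = 0)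
    (x0 : ℕ) (hx0 : qc x0 = true) (r : ℕ)
    (hall : ∀ x < 2 ^ n, qc x = true → x ∈ (expand n qc hw goodD)^[r] [x0])
    (f : ↥(Cfsg.Omega (ZMod 2) ⇑Q) → (ι → ZMod 2)) (hf : IsCH Q f) :
    ∃ v : ι → ZMod 2, ∀ g : ↥(Cfsg.Omega (ZMod 2) ⇑Q), f g = mt Q g.1 *ᵥ v - v := by
  have hmtw := mt_wG e Q qc hq hw hwq
  have h3 : ∀ v, mt Q (wG e Q hw) *ᵥ (mt Q (wG e Q hw) *ᵥ v) = v + mt Q (wG e Q hw) *ᵥ v := by
    intro v
    obtain ⟨x, hx, rfl⟩ := exists_code e v
    rw [hmtw, hmtw, hcub x hx, vec_xor]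
  have hhΩ := wG_mem_Omega e Q qc hq hpair k hw hwlen hwq
  refine principal_of Q hΩ (wG e Q hw) hhΩ (fpf_of_cubic h3) ?_ f hf
  intro f' hf' hk u v hu hv
  -- soundness of one step
  have hstep : ∀ x y, qc x = true → qc y = true → step qc hw goodD x y = true →
      T hf' (vec e x) (vec e y) := by
    intro x y hx hy hs
    unfold step at hs
    rw [Bool.or_eq_true, Bool.or_eq_true] at hs
    rcases hs with (hs | hs) | hs
    · -- rule (A)
      rw [beq_iff_eq] at hs
      have := T_A hf' hpair hk (fpf_of_cubic h3) (vec e x)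
        ((Q_ne_zero_iff e Q qc hq x).mpr hx) (h3 _)
      rwa [hmtw, ← hs] at this
    · -- rule (B)
      rw [Bool.and_eq_true, Bool.not_eq_true', Bool.not_eq_true'] at hs
      apply T_B hf' hpair hk h3 _ _ ((Q_ne_zero_iff e Q qc hq x).mpr hx)
        ((Q_ne_zero_iff e Q qc hq y).mpr hy)
      · rw [polar_vec e Q qc hq, hs.1]; rfl
      · rw [hmtw, polar_vec e Q qc hq, hs.2]; rfl
    · -- rule (C)
      rw [List.any_eq_true] at hs
      obtain ⟨d, hd, hs⟩ := hs
      rw [Bool.and_eq_true, beq_iff_eq, beq_iff_eq] at hs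
      obtain ⟨hy', hrel⟩ := hs
      obtain ⟨hqd, hfpd⟩ := hgood d hd
      have hQd := (Q_ne_zero_iff e Q qc hq d).mpr hqd
      have hqd1 : qc (wcode qc hw d) = true := by
        rw [← Q_ne_zero_iff e Q qc hq, ← hmtw, isom_apply]
        exact hQd
      -- the rotation at d
      have hTd := T_A hf' hpair hk (fpf_of_cubic h3) (vec e d) hQd (h3 _)
      rw [hmtw] at hTd
      -- the element k
      have hkk : wG e Q hw * (rr Q (vec e d) * rr Q (vec e (wcode qc hw d))) ∈ kerS hf' :=
        Subgroup.mul_mem _ hk hTd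
      have hmtk : ∀ z, mt Q (wG e Q hw * (rr Q (vec e d) * rr Q (vec e (wcode qc hw d)))) *ᵥ
          vec e z = vec e (kcode qc hw d z) := by
        intro z
        rw [mt_mul', mt_mul', mt_rr_vec e Q qc hq hqd1, mt_rr_vec e Q qc hq hqd, hmtw]
        rfl
      have hfpk : Fpf Q (wG e Q hw * (rr Q (vec e d) * rr Q (vec e (wcode qc hw d)))) := by
        intro w hw'
        obtain ⟨z, hz, rfl⟩ := exists_code e w
        rw [hmtk] at hw'
        have := hfpd z hz (mod_eq_zero_of_vec_eq e hw')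
        rw [this, vec_zero]
      have := T_A hf' hpair hkk hfpk (vec e x) ((Q_ne_zero_iff e Q qc hq x).mpr hx)
        (by rw [hmtk, hmtk, hrel, vec_xor])
      rwa [hmtk, ← hy'] at this
  -- soundness of the closure
  have hexp : ∀ L : List ℕ, (∀ x ∈ L, qc x = true ∧ T hf' (vec e x0) (vec e x)) →
      ∀ y ∈ expand n qc hw goodD L, qc y = true ∧ T hf' (vec e x0) (vec e y) := by
    intro L hL y hy
    unfold expand at hy
    rw [List.mem_filter, Bool.or_eq_true] at hy
    rcases hy.2 with h1 | h1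
    · exact hL y (by simpa using h1)
    · rw [Bool.and_eq_true, List.any_eq_true] at h1
      obtain ⟨hqy, x, hxL, hs⟩ := h1
      obtain ⟨hqx, hTx⟩ := hL x hxL
      exact ⟨hqy, T_trans hf' hTx (hstep x y hqx hqy hs)⟩
  have hiter : ∀ r : ℕ, ∀ y ∈ (expand n qc hw goodD)^[r] [x0],
      qc y = true ∧ T hf' (vec e x0) (vec e y) := by
    intro r
    induction r with
    | zero =>
      intro y hy
      simp only [Function.iterate_zero, id_eq, List.mem_singleton] at hy
      rw [hy]
      exact ⟨hx0, T_refl hf' _⟩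
    | succ r ih =>
      intro y hy
      rw [Function.iterate_succ_apply'] at hy
      exact hexp _ ih y hy
  -- conclusion
  obtain ⟨xu, hxu, rfl⟩ := exists_code e u
  obtain ⟨xv, hxv, rfl⟩ := exists_code e v
  have h1 := (hiter r xu (hall xu hxu ((Q_ne_zero_iff e Q qc hq xu).mp hu))).2
  have h2 := (hiter r xv (hall xv hxv ((Q_ne_zero_iff e Q qc hq xv).mp hv))).2
  have := T_trans hf' (T_symm hf' h1) h2
  unfold T at this
  rwa [rr_of Q hu, rr_of Q hv] at this

end main

end Cfsg.Agent.Helper22.H1
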