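import Mathlib
import Cfsg.Agent.Helper28.CD2b

set_option autoImplicit false
set_option linter.unusedSectionVars false
set_option linter.unusedVariables false

/-! Characteristic two: `Ω = ⟨products of two reflections⟩` under a connector hypothesis (instead of
the hypothesis `(|F|, n) ≠ (2, 4)` of `Helper28.CD2`); the proofs are those of `Helper28.CD2`,
`Helper28.CD2b` and `Helper28.Spin10` with the connector lemma replaced by the hypothesis. This
covers the elliptic four-dimensional form over the field with two elements. -/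

namespace Cfsg.Agent.Helper22.H1C

open Module Submodule Matrix Cfsg.Agent.Helper28.Spin Cfsg.Agent.Helper28.IsoTransport
  Cfsg.Agent.Helper28.CD2

variable {F : Type*} [Field F] [Fintype F] {ι : Type} [Fintype ι] [DecidableEq ι]
  (Q : QuadraticForm F (ι → F))

/-- any two distinct orthogonal non-singular vectors of the same norm have a common non-orthogonal
non-singular vector of that norm -/
def Conn : Prop :=
  ∀ a b : ι → F, Q a ≠ 0 → Q a = Q b → QuadraticMap.polar ⇑Q a b = 0 → a ≠ b →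
    ∃ c, Q c = Q a ∧ QuadraticMap.polar ⇑Q a c ≠ 0 ∧ QuadraticMap.polar ⇑Q b c ≠ 0

theorem exists_move_c (h2 : (2 : F) = 0) (hconn : Conn Q) (a b : ι → F) (ha : Q a ≠ 0)
    (hab : Q a = Q b) : ∃ h ∈ Rfl Q, mt Q h *ᵥ a = b := by
  have key : ∀ a b : ι → F, Q a ≠ 0 → Q a = Q b → QuadraticMap.polar ⇑Q a b ≠ 0 →
      ∃ h ∈ Rfl Q, mt Q h *ᵥ a = b := by
    intro a b ha hab hB
    have hQ' : Q (a + b) = QuadraticMap.polar ⇑Q a b := by
      rw [QuadraticMap.map_add (⇑Q), ← hab]
      have : Q a + Q a = 0 := by rw [← two_mul, h2, zero_mul]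
      rw [this, zero_add]
    have hc : Q (a + b) ≠ 0 := by rw [hQ']; exact hB
    refine ⟨reflO Q (a + b) hc, reflO_mem_Rfl Q _ _, ?_⟩
    show Cfsg.reflectionMatrix ⇑Q (a + b) *ᵥ a = b
    rw [refl_move' Q hab hc, neg_eq_self_vec h2]
  by_cases hB : QuadraticMap.polar ⇑Q a b = 0
  · by_cases hne : a = b
    · exact ⟨1, Subgroup.one_mem _, by rw [mt_one, Matrix.one_mulVec, hne]⟩
    · obtain ⟨c, hc1, hc2, hc3⟩ := hconn a b ha hab hB hne
      have hc : Q c ≠ 0 := by rw [hc1]; exact ha
      obtain ⟨h₁, hR₁, hm₁⟩ := key a c ha hc1.symm hc2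
      obtain ⟨h₂, hR₂, hm₂⟩ := key c b hc (by rw [hc1, hab])
        (by rw [QuadraticMap.polar_comm]; exact hc3)
      refine ⟨h₂ * h₁, Subgroup.mul_mem _ hR₂ hR₁, ?_⟩
      rw [mt_mul, ← Matrix.mulVec_mulVec, hm₁, hm₂]
  · exact key a b ha hab hB

theorem Rfl_eq_top_c (h2 : (2 : F) = 0) (hQ : (QuadraticMap.polarBilin Q).Nondegenerate)
    (hconn : Conn Q) : Rfl Q = ⊤ := by
  rw [eq_top_iff]
  intro g _
  by_cases hex : ∃ u : ι → F, Q u ≠ 0
  · obtain ⟨u, hu⟩ := hex
    have hgu : Q (mt Q g *ᵥ u) = Q u := isom_apply Q g u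
    obtain ⟨h, hR, hm⟩ := exists_move_c Q h2 hconn (mt Q g *ᵥ u) u (by rw [hgu]; exact hu) hgu
    have hfix : mt Q (h * g) *ᵥ u = u := by
      rw [mt_mul, ← Matrix.mulVec_mulVec, hm]
    have h1 := stab_le_Rfl Q h2 hQ u hu (h * g) hfix
    have : g = h⁻¹ * (h * g) := by group
    rw [this]
    exact Subgroup.mul_mem _ (Subgroup.inv_mem _ hR) h1
  · push Not at hex
    rw [eq_one_of_forall Q hQ hex g]
    exact Subgroup.one_mem _

/-- a product of two reflections lies in `Ω` -/
theorem reflO_mul_reflO_mem_c (h2 : (2 : F) = 0) (hconn : Conn Q)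
    (a b : ι → F) (ha : Q a ≠ 0) (hb : Q b ≠ 0) :
    reflO Q a ha * reflO Q b hb ∈ Cfsg.Omega F ⇑Q := by
  obtain ⟨t, ht0, ht1⟩ := exists_scale' Q h2 b hb (Q a) ha
  have hb' : Q (t • b) ≠ 0 := by rw [ht1]; exact ha
  rw [← reflO_smul Q b hb ht0 hb']
  by_cases hB : QuadraticMap.polar ⇑Q a (t • b) = 0
  · by_cases hab : a = t • b
    · have : reflO Q (t • b) hb' = reflO Q a ha := by
        congr 1
        exact hab.symm
      rw [this, reflO_mul_self]
      exact Subgroup.one_mem _
    · obtain ⟨c, hc1, hc2, hc3⟩ := hconn a (t • b) ha ht1.symm hB hab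
      have hc : Q c ≠ 0 := by rw [hc1]; exact ha
      have e1 := reflO_mul_of_polar Q h2 a c ha hc hc1.symm hc2
      have e2 := reflO_mul_of_polar Q h2 c (t • b) hc hb' (by rw [hc1, ht1])
        (by rw [QuadraticMap.polar_comm]; exact hc3)
      have e3 := Subgroup.mul_mem _ e1 e2
      have : reflO Q a ha * reflO Q c hc * (reflO Q c hc * reflO Q (t • b) hb') =
          reflO Q a ha * reflO Q (t • b) hb' := by
        rw [mul_assoc, ← mul_assoc (reflO Q c hc), reflO_mul_self, one_mul]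
      rw [this] at e3
      exact e3
  · exact reflO_mul_of_polar Q h2 a (t • b) ha hb' ht1.symm hB

theorem Rfl2_le_Omega_c (h2 : (2 : F) = 0) (hconn : Conn Q) : Rfl2 Q ≤ Cfsg.Omega F ⇑Q := by
  unfold Rfl2
  rw [Subgroup.closure_le]
  rintro g ⟨u, v, hu, hv, hg⟩
  have : g = reflO Q u hu * reflO Q v hv := Subtype.ext (Units.ext hg)
  rw [this]
  exact reflO_mul_reflO_mem_c Q h2 hconn u v hu hv

/-- `Rfl2` has index at most two -/
theorem mem_or_mul_mem_c (h2 : (2 : F) = 0) (hQ : (QuadraticMap.polarBilin Q).Nondegenerate)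
    (hconn : Conn Q) (w : ι → F) (hw : Q w ≠ 0)
    (g : ↥(Cfsg.isometryGroup F ⇑Q)) : g ∈ Rfl2 Q ∨ reflO Q w hw * g ∈ Rfl2 Q := by
  have hg : g ∈ Rfl Q := by rw [Rfl_eq_top_c Q h2 hQ hconn]; trivial
  set r := reflO Q w hw with hr
  have hrr : r * r = 1 := reflO_mul_self Q w hw
  have hrinv : r⁻¹ = r := reflO_inv Q w hw
  unfold Rfl at hg
  induction hg using Subgroup.closure_induction with
  | mem x hx =>
    obtain ⟨v, hv, hx⟩ := hx
    have e : x = reflO Q v hv := Subtype.ext (Units.ext hx)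
    right
    rw [e]
    exact reflO_mul_mem_Rfl2 Q _ _ _ _
  | one => exact Or.inl (Subgroup.one_mem _)
  | mul a b _ _ iha ihb =>
    rcases iha with ha | ha <;> rcases ihb with hb | hb
    · exact Or.inl (Subgroup.mul_mem _ ha hb)
    · right
      have : r * (a * b) = (r * a * r⁻¹) * (r * b) := by group
      rw [this]
      exact Subgroup.mul_mem _ ((Rfl2_normal Q).conj_mem a ha r) hb
    · right
      rw [← mul_assoc]
      exact Subgroup.mul_mem _ ha hb
    · left
      have : a * b = (r * (r * a) * r⁻¹) * (r * b) := by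
        rw [hrinv]
        calc a * b = a * (r * r) * b := by rw [hrr, mul_one]
          _ = (r * r) * a * (r * r) * b := by rw [hrr, one_mul, mul_one]
          _ = _ := by group
      rw [this]
      exact Subgroup.mul_mem _ ((Rfl2_normal Q).conj_mem _ ha r) hb
  | inv a _ iha =>
    rcases iha with ha | ha
    · exact Or.inl (Subgroup.inv_mem _ ha)
    · right
      have : r * a⁻¹ = r * (r * a)⁻¹ * r⁻¹ := by
        rw [hrinv, _root_.mul_inv_rev, hrinv]
        calc r * a⁻¹ = r * a⁻¹ * (r * r) := by rw [hrr, mul_one]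
          _ = _ := by group
      rw [this]
      exact (Rfl2_normal Q).conj_mem _ (Subgroup.inv_mem _ ha) r

theorem Omega_le_Rfl2_c (h2 : (2 : F) = 0) (hQ : (QuadraticMap.polarBilin Q).Nondegenerate)
    (hconn : Conn Q) : Cfsg.Omega F ⇑Q ≤ Rfl2 Q := by
  by_cases hex : ∃ w : ι → F, Q w ≠ 0
  · obtain ⟨w, hw⟩ := hex
    apply Subgroup.Normal.commutator_le_of_self_sup_commutative_eq_top
      (H := Subgroup.zpowers (reflO Q w hw))
    · rw [eq_top_iff]
      intro g _
      rcases mem_or_mul_mem_c Q h2 hQ hconn w hw g with h | h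
      · exact Subgroup.mem_sup_left h
      · have : g = (reflO Q w hw)⁻¹ * (reflO Q w hw * g) := by group
        rw [this]
        apply Subgroup.mul_mem
        · exact Subgroup.mem_sup_right (Subgroup.inv_mem _ (Subgroup.mem_zpowers _))
        · exact Subgroup.mem_sup_left h
    · infer_instance
  · push Not at hex
    intro g _
    rw [eq_one_of_forall Q hQ hex g]
    exact Subgroup.one_mem _

theorem Omega_eq_Rfl2_c (h2 : (2 : F) = 0) (hQ : (QuadraticMap.polarBilin Q).Nondegenerate)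
    (hconn : Conn Q) : Cfsg.Omega F ⇑Q = Rfl2 Q :=
  le_antisymm (Omega_le_Rfl2_c Q h2 hQ hconn) (Rfl2_le_Omega_c Q h2 hconn)

end Cfsg.Agent.Helper22.H1C
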