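import Mathlib
import Cfsg.Agent.Helper22.H1Code

set_option autoImplicit false
set_option linter.unusedSectionVars false
set_option linter.unusedVariables false

/-! Words in reflections (given by codes): products, inverses, equality from the action on codes,
and the two-cube rule for crossed homomorphisms. -/

namespace Cfsg.Agent.Helper22.H1

open Matrix Cfsg.Agent.Helper28.Spin Cfsg.Agent.Helper28.CD2 Cfsg.Agent.Helper28.IsoTransport

variable {ι : Type} [Fintype ι] [DecidableEq ι] {n : ℕ} (e : ι ≃ Fin n)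
variable (Q : QuadraticForm (ZMod 2) (ι → ZMod 2)) (qc : ℕ → Bool)

theorem wG_append (w1 w2 : List ℕ) : wG e Q (w1 ++ w2) = wG e Q w1 * wG e Q w2 := by
  unfold wG
  rw [List.map_append, List.prod_append]

theorem wG_reverse (w : List ℕ) : wG e Q w.reverse = (wG e Q w)⁻¹ := by
  induction w with
  | nil => rw [List.reverse_nil, wG_nil, inv_one]
  | cons a w ih =>
    rw [List.reverse_cons, wG_append, ih, wG_cons, wG_cons, wG_nil, mul_one, _root_.mul_inv_rev,
      rr_inv]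

theorem wG_flatten_mem (K : Subgroup ↥(Cfsg.isometryGroup (ZMod 2) ⇑Q)) (gens : List (List ℕ))
    (hgens : ∀ w ∈ gens, wG e Q w ∈ K) (ws : List (List ℕ)) (hws : ∀ w ∈ ws, w ∈ gens) :
    wG e Q ws.flatten ∈ K := by
  induction ws with
  | nil => rw [List.flatten_nil, wG_nil]; exact Subgroup.one_mem _
  | cons w ws ih =>
    rw [List.flatten_cons, wG_append]
    exact Subgroup.mul_mem _ (hgens w (hws w List.mem_cons_self))
      (ih (fun w' hw' => hws w' (List.mem_cons_of_mem _ hw')))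

section hq

variable (hq : ∀ x, Q (vec e x) = if qc x then 1 else 0)
include hq

theorem wG_eq_of_codes (w1 w2 : List ℕ) (h1 : ∀ a ∈ w1, qc a = true) (h2 : ∀ a ∈ w2, qc a = true)
    (h : ∀ c < 2 ^ n, wcode qc w1 c = wcode qc w2 c) : wG e Q w1 = wG e Q w2 := by
  apply Subtype.ext
  apply Units.ext
  apply matrix_ext_mulVec
  intro x
  obtain ⟨c, hc, rfl⟩ := exists_code e x
  have a1 := mt_wG e Q qc hq w1 h1 c
  have a2 := mt_wG e Q qc hq w2 h2 c
  unfold Cfsg.Agent.Helper28.CD2.mt at a1 a2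
  rw [a1, a2, h c hc]

theorem fpf_wG (w : List ℕ) (h1 : ∀ a ∈ w, qc a = true)
    (h : ∀ z < 2 ^ n, (wcode qc w z ^^^ z) % 2 ^ n = 0 → z = 0) : Fpf Q (wG e Q w) := by
  intro x hx
  obtain ⟨z, hz, rfl⟩ := exists_code e x
  rw [mt_wG e Q qc hq w h1] at hx
  rw [h z hz (mod_eq_zero_of_vec_eq e hx), vec_zero]

end hq

/-- the two-cube rule -/
theorem mem_kerS_of_two_cubes {f : ↥(Cfsg.Omega (ZMod 2) ⇑Q) → (ι → ZMod 2)} (hf : IsCH Q f)
    {g k1 k2 : ↥(Cfsg.isometryGroup (ZMod 2) ⇑Q)} (hg : g ∈ Cfsg.Omega (ZMod 2) ⇑Q)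
    (hk1 : k1 ∈ kerS hf) (hk2 : k2 ∈ kerS hf)
    (h31 : (g * k1) * (g * k1) * (g * k1) = 1) (h32 : (g * k2) * (g * k2) * (g * k2) = 1)
    (hlin : ∀ w : ι → ZMod 2, w + mt Q (g * k1) *ᵥ w + mt Q (g * k1) *ᵥ (mt Q (g * k1) *ᵥ w) = 0 →
      w + mt Q (g * k2) *ᵥ w + mt Q (g * k2) *ᵥ (mt Q (g * k2) *ᵥ w) = 0 → w = 0) :
    g ∈ kerS hf := by
  refine ⟨hg, ?_⟩
  have a1 := norm3 hf (Subgroup.mul_mem _ hg hk1.1) h31
  have a2 := norm3 hf (Subgroup.mul_mem _ hg hk2.1) h32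
  rw [apply_mul_ker hf hg hk1] at a1
  rw [apply_mul_ker hf hg hk2] at a2
  exact hlin _ a1 a2

end Cfsg.Agent.Helper22.H1
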