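import Mathlib
import Cfsg.Agent.Helper22.H1Word
import Cfsg.Agent.Helper22.H1Conn
import Cfsg.Agent.Helper28.Spin6
import Cfsg.Agent.S2171

set_option autoImplicit false
set_option linter.unusedSectionVars false
set_option linter.unusedVariables false

/-! The three concrete cases: `Ω⁺(8,2)`, `Ω⁻(6,2)`, `Ω⁻(4,2)` on their natural modules: every
crossed homomorphism is principal. -/

namespace Cfsg.Agent.Helper22.H1

open Matrix Cfsg.Agent.Helper28.Spin Cfsg.Agent.Helper28.CD2 Cfsg.Agent.Helper28.IsoTransport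

theorem b2z_mul (p q : Bool) :
    (if p then (1 : ZMod 2) else 0) * (if q then 1 else 0) = if (p && q) then 1 else 0 := by
  cases p <;> cases q <;> decide

theorem b2z_add (p q : Bool) :
    (if p then (1 : ZMod 2) else 0) + (if q then 1 else 0) = if (xor p q) then 1 else 0 := by
  cases p <;> cases q <;> decide

theorem b2z_sq (p : Bool) : (if p then (1 : ZMod 2) else 0) ^ 2 = if p then 1 else 0 := by
  cases p <;> decide

/-! ### dimension 8, plus type -/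


def e8 : Fin 4 ⊕ Fin 4 ≃ Fin (4 + 4) := finSumFinEquiv

def qc8 (x : ℕ) : Bool :=
  xor (xor (xor (x.testBit 0 && x.testBit 4) (x.testBit 1 && x.testBit 5))
    (x.testBit 2 && x.testBit 6)) (x.testBit 3 && x.testBit 7)

theorem hq8 (x : ℕ) : QfPlus 4 (ZMod 2) (vec e8 x) = if qc8 x then 1 else 0 := by
  show Cfsg.quadFormPlus 4 (ZMod 2) (vec e8 x) = _
  unfold Cfsg.quadFormPlus
  rw [Fin.sum_univ_four]
  show (if x.testBit 0 then (1 : ZMod 2) else 0) * (if x.testBit 4 then 1 else 0)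
    + (if x.testBit 1 then (1 : ZMod 2) else 0) * (if x.testBit 5 then 1 else 0)
    + (if x.testBit 2 then (1 : ZMod 2) else 0) * (if x.testBit 6 then 1 else 0)
    + (if x.testBit 3 then (1 : ZMod 2) else 0) * (if x.testBit 7 then 1 else 0) = _
  rw [b2z_mul, b2z_mul, b2z_mul, b2z_mul, b2z_add, b2z_add, b2z_add]
  rfl

def hw8 : List ℕ := [17, 35, 19, 34, 68, 140, 76, 136]

theorem hwq8 : ∀ a ∈ hw8, qc8 a = true := by decide

set_option maxRecDepth 100000 in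
theorem hcub8 : ∀ x < 2 ^ (4 + 4), wcode qc8 hw8 (wcode qc8 hw8 x) = x ^^^ wcode qc8 hw8 x := by
  decide +kernel

set_option maxRecDepth 100000 in
theorem hall8 : ∀ x < 2 ^ (4 + 4), qc8 x = true → x ∈ (expand (4 + 4) qc8 hw8 [])^[2] [17] := by
  decide +kernel

theorem plus8 (f : ↥(Cfsg.Omega (ZMod 2) ⇑(QfPlus 4 (ZMod 2))) → (Fin 4 ⊕ Fin 4 → ZMod 2))
    (hf : IsCH (QfPlus 4 (ZMod 2)) f) :
    ∃ v : Fin 4 ⊕ Fin 4 → ZMod 2, ∀ g : ↥(Cfsg.Omega (ZMod 2) ⇑(QfPlus 4 (ZMod 2))),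
      f g = mt (QfPlus 4 (ZMod 2)) g.1 *ᵥ v - v := by
  have hQ : (QuadraticMap.polarBilin (QfPlus 4 (ZMod 2))).Nondegenerate := QfPlus_nondeg 4
  have hcard : Fintype.card (ZMod 2) ≠ 2 ∨ Fintype.card (Fin 4 ⊕ Fin 4) ≠ 4 := Or.inr (by simp)
  exact principal_of_cubic e8 (QfPlus 4 (ZMod 2)) qc8 hq8
    (Omega_eq_Rfl2 _ z2_two hQ hcard)
    (fun u v hu hv => reflO_mul_reflO_mem _ z2_two hQ hcard u v hu hv)
    hw8 hwq8 4 rfl hcub8 [] (by simp) 17 (by decide) 2 hall8 f hf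


/-! ### dimension 6, minus type -/


def e6 : (Fin 2 ⊕ Fin 2) ⊕ Fin 2 ≃ Fin (2 + 2 + 2) :=
  (Equiv.sumCongr finSumFinEquiv (Equiv.refl (Fin 2))).trans finSumFinEquiv

def qc6 (x : ℕ) : Bool :=
  xor (xor (x.testBit 0 && x.testBit 2) (x.testBit 1 && x.testBit 3))
    (xor (xor (x.testBit 4) (x.testBit 4 && x.testBit 5)) (x.testBit 5))

theorem hq6 (x : ℕ) : QfMinus 2 (ZMod 2) 1 1 (vec e6 x) = if qc6 x then 1 else 0 := by
  show Cfsg.quadFormMinus 2 (ZMod 2) 1 1 (vec e6 x) = _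
  unfold Cfsg.quadFormMinus
  rw [Fin.sum_univ_two]
  show ((if x.testBit 0 then (1 : ZMod 2) else 0) * (if x.testBit 2 then 1 else 0)
    + (if x.testBit 1 then (1 : ZMod 2) else 0) * (if x.testBit 3 then 1 else 0))
    + ((if x.testBit 4 then (1 : ZMod 2) else 0) ^ 2
      + 1 * (if x.testBit 4 then (1 : ZMod 2) else 0) * (if x.testBit 5 then 1 else 0)
      + 1 * (if x.testBit 5 then (1 : ZMod 2) else 0) ^ 2) = _
  rw [one_mul, one_mul, b2z_sq, b2z_sq, b2z_mul, b2z_mul, b2z_mul, b2z_add, b2z_add,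
    b2z_add, b2z_add]
  rfl

def hw6 : List ℕ := [5, 11, 7, 10, 16, 32]

theorem hwq6 : ∀ a ∈ hw6, qc6 a = true := by decide

set_option maxRecDepth 100000 in
theorem hcub6 : ∀ x < 2 ^ (2 + 2 + 2), wcode qc6 hw6 (wcode qc6 hw6 x) = x ^^^ wcode qc6 hw6 x := by
  decide +kernel

set_option maxRecDepth 100000 in
theorem hgood6 : ∀ d ∈ [5, 17], qc6 d = true ∧
    ∀ z < 2 ^ (2 + 2 + 2), (kcode qc6 hw6 d z ^^^ z) % 2 ^ (2 + 2 + 2) = 0 → z = 0 := by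
  decide +kernel

set_option maxRecDepth 100000 in
theorem hall6 : ∀ x < 2 ^ (2 + 2 + 2), qc6 x = true →
    x ∈ (expand (2 + 2 + 2) qc6 hw6 [5, 17])^[3] [5] := by
  decide +kernel

theorem minus6 (f : ↥(Cfsg.Omega (ZMod 2) ⇑(QfMinus 2 (ZMod 2) 1 1)) →
      ((Fin 2 ⊕ Fin 2) ⊕ Fin 2 → ZMod 2))
    (hf : IsCH (QfMinus 2 (ZMod 2) 1 1) f) :
    ∃ v : (Fin 2 ⊕ Fin 2) ⊕ Fin 2 → ZMod 2,
      ∀ g : ↥(Cfsg.Omega (ZMod 2) ⇑(QfMinus 2 (ZMod 2) 1 1)),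
      f g = mt (QfMinus 2 (ZMod 2) 1 1) g.1 *ᵥ v - v := by
  have hQ : (QuadraticMap.polarBilin (QfMinus 2 (ZMod 2) 1 1)).Nondegenerate :=
    Cfsg.Agent.S2171.QfMinus_nondeg_of 2 1 1 (by decide)
  have hcard : Fintype.card (ZMod 2) ≠ 2 ∨ Fintype.card ((Fin 2 ⊕ Fin 2) ⊕ Fin 2) ≠ 4 :=
    Or.inr (by simp)
  exact principal_of_cubic e6 (QfMinus 2 (ZMod 2) 1 1) qc6 hq6
    (Omega_eq_Rfl2 _ z2_two hQ hcard)
    (fun u v hu hv => reflO_mul_reflO_mem _ z2_two hQ hcard u v hu hv)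
    hw6 hwq6 3 rfl hcub6 [5, 17] hgood6 5 (by decide) 3 hall6 f hf


/-! ### dimension 4, minus type -/


def e4 : (Fin 1 ⊕ Fin 1) ⊕ Fin 2 ≃ Fin (1 + 1 + 2) :=
  (Equiv.sumCongr finSumFinEquiv (Equiv.refl (Fin 2))).trans finSumFinEquiv

def qc4 (x : ℕ) : Bool :=
  xor (x.testBit 0 && x.testBit 1)
    (xor (xor (x.testBit 2) (x.testBit 2 && x.testBit 3)) (x.testBit 3))

theorem hq4 (x : ℕ) : QfMinus 1 (ZMod 2) 1 1 (vec e4 x) = if qc4 x then 1 else 0 := by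
  show Cfsg.quadFormMinus 1 (ZMod 2) 1 1 (vec e4 x) = _
  unfold Cfsg.quadFormMinus
  rw [Fin.sum_univ_one]
  show ((if x.testBit 0 then (1 : ZMod 2) else 0) * (if x.testBit 1 then 1 else 0))
    + ((if x.testBit 2 then (1 : ZMod 2) else 0) ^ 2
      + 1 * (if x.testBit 2 then (1 : ZMod 2) else 0) * (if x.testBit 3 then 1 else 0)
      + 1 * (if x.testBit 3 then (1 : ZMod 2) else 0) ^ 2) = _
  rw [one_mul, one_mul, b2z_sq, b2z_sq, b2z_mul, b2z_mul, b2z_add, b2z_add,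
    b2z_add]
  rfl

set_option synthInstance.maxSize 2000 in
set_option synthInstance.maxHeartbeats 400000 in
set_option maxRecDepth 100000 in
theorem conn4_code : ∀ a < 2 ^ (1 + 1 + 2), ∀ b < 2 ^ (1 + 1 + 2), qc4 a = true → qc4 b = true →
    bcode qc4 a b = false → a ≠ b →
    ∃ c < 2 ^ (1 + 1 + 2), qc4 c = true ∧ bcode qc4 a c = true ∧ bcode qc4 b c = true := by
  decide +kernel

theorem conn4 : H1C.Conn (QfMinus 1 (ZMod 2) 1 1) := by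
  intro a b ha hab hB hne
  obtain ⟨xa, hxa, rfl⟩ := exists_code e4 a
  obtain ⟨xb, hxb, rfl⟩ := exists_code e4 b
  have hqa := (Q_ne_zero_iff e4 _ qc4 hq4 xa).mp ha
  have hqb : qc4 xb = true := (Q_ne_zero_iff e4 _ qc4 hq4 xb).mp (hab ▸ ha)
  have hbc : bcode qc4 xa xb = false := by
    rw [polar_vec e4 _ qc4 hq4] at hB
    cases h : bcode qc4 xa xb
    · rfl
    · rw [h] at hB; simp at hB
  obtain ⟨c, hc, hqc, h1, h2⟩ := conn4_code xa hxa xb hxb hqa hqb hbc (fun h => hne (by rw [h]))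
  refine ⟨vec e4 c, ?_, ?_, ?_⟩
  · rw [hq4, hq4, hqc, hqa]
  · rw [polar_vec e4 _ qc4 hq4, h1]; decide
  · rw [polar_vec e4 _ qc4 hq4, h2]; decide

def hw4 : List ℕ := [3, 4, 5, 8]

def gens4 : List (List ℕ) := [[3, 4, 5, 8], [8, 5, 4, 3], [3, 5], [5, 3]]

def tab4 : List (ℕ × List (List ℕ)) :=
  [(3, []),
   (4, [[3, 4, 5, 8], [5, 3], [8, 5, 4, 3], [3, 5], [3, 4, 5, 8]]),
   (5, [[3, 5]]),
   (6, [[5, 3]]),
   (8, [[3, 5], [8, 5, 4, 3], [5, 3], [3, 4, 5, 8], [3, 5]]),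
   (9, [[3, 5], [3, 4, 5, 8], [5, 3], [8, 5, 4, 3]]),
   (10, [[3, 4, 5, 8], [3, 5], [8, 5, 4, 3], [5, 3]]),
   (12, [[3, 4, 5, 8], [5, 3], [8, 5, 4, 3], [5, 3]]),
   (13, [[8, 5, 4, 3], [3, 5], [3, 4, 5, 8]]),
   (14, [[8, 5, 4, 3], [5, 3], [3, 4, 5, 8]])]

theorem hwq4 : ∀ a ∈ hw4, qc4 a = true := by decide

set_option maxRecDepth 100000 in
theorem fpf4 : ∀ z < 2 ^ (1 + 1 + 2), (wcode qc4 hw4 z ^^^ z) % 2 ^ (1 + 1 + 2) = 0 → z = 0 := by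
  decide +kernel

set_option maxRecDepth 100000 in
theorem cube1_4 : ∀ c < 2 ^ (1 + 1 + 2),
    wcode qc4 ([3, 5] ++ [3, 5] ++ [3, 5]) c = wcode qc4 [] c := by
  decide +kernel

set_option maxRecDepth 100000 in
theorem cube2_4 : ∀ c < 2 ^ (1 + 1 + 2),
    wcode qc4 (([3, 5] ++ [8, 5, 4, 3]) ++ ([3, 5] ++ [8, 5, 4, 3]) ++ ([3, 5] ++ [8, 5, 4, 3])) c
      = wcode qc4 [] c := by
  decide +kernel

set_option maxRecDepth 100000 in
theorem lin4 : ∀ c < 2 ^ (1 + 1 + 2),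
    (c ^^^ wcode qc4 [3, 5] c ^^^ wcode qc4 [3, 5] (wcode qc4 [3, 5] c)) % 2 ^ (1 + 1 + 2) = 0 →
    (c ^^^ wcode qc4 ([3, 5] ++ [8, 5, 4, 3]) c ^^^
      wcode qc4 ([3, 5] ++ [8, 5, 4, 3]) (wcode qc4 ([3, 5] ++ [8, 5, 4, 3]) c)) % 2 ^ (1 + 1 + 2) = 0 →
    c = 0 := by
  decide +kernel

set_option synthInstance.maxSize 2000 in
set_option synthInstance.maxHeartbeats 400000 in
set_option maxRecDepth 100000 in
theorem tab4_ok : ∀ y < 2 ^ (1 + 1 + 2), qc4 y = true → ∃ t ∈ tab4, t.1 = y ∧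
    (∀ w ∈ t.2, w ∈ gens4) ∧ (∀ a ∈ t.2.flatten, qc4 a = true) ∧
    ∀ c < 2 ^ (1 + 1 + 2), wcode qc4 [3, y] c = wcode qc4 t.2.flatten c := by
  decide +kernel

theorem minus4 (f : ↥(Cfsg.Omega (ZMod 2) ⇑(QfMinus 1 (ZMod 2) 1 1)) →
      ((Fin 1 ⊕ Fin 1) ⊕ Fin 2 → ZMod 2))
    (hf : IsCH (QfMinus 1 (ZMod 2) 1 1) f) :
    ∃ v : (Fin 1 ⊕ Fin 1) ⊕ Fin 2 → ZMod 2,
      ∀ g : ↥(Cfsg.Omega (ZMod 2) ⇑(QfMinus 1 (ZMod 2) 1 1)),
      f g = mt (QfMinus 1 (ZMod 2) 1 1) g.1 *ᵥ v - v := by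
  have hQ : (QuadraticMap.polarBilin (QfMinus 1 (ZMod 2) 1 1)).Nondegenerate :=
    Cfsg.Agent.S2171.QfMinus_nondeg_of 1 1 1 (by decide)
  have hΩ := H1C.Omega_eq_Rfl2_c (QfMinus 1 (ZMod 2) 1 1) z2_two hQ conn4
  have hpair : ∀ (u v : (Fin 1 ⊕ Fin 1) ⊕ Fin 2 → ZMod 2) (hu : QfMinus 1 (ZMod 2) 1 1 u ≠ 0)
      (hv : QfMinus 1 (ZMod 2) 1 1 v ≠ 0),
      reflO (QfMinus 1 (ZMod 2) 1 1) u hu * reflO (QfMinus 1 (ZMod 2) 1 1) v hv ∈
        Cfsg.Omega (ZMod 2) ⇑(QfMinus 1 (ZMod 2) 1 1) :=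
    fun u v hu hv => H1C.reflO_mul_reflO_mem_c (QfMinus 1 (ZMod 2) 1 1) z2_two conn4 u v hu hv
  have hmemΩ := wG_mem_Omega e4 (QfMinus 1 (ZMod 2) 1 1) qc4 hq4 hpair
  refine principal_of (QfMinus 1 (ZMod 2) 1 1) hΩ (wG e4 (QfMinus 1 (ZMod 2) 1 1) hw4)
    (hmemΩ 2 hw4 rfl hwq4) (fpf_wG e4 _ qc4 hq4 hw4 hwq4 fpf4) ?_ f hf
  intro f' hf' hk u v hu hv
  -- the inverse of h
  have hkH : wG e4 (QfMinus 1 (ZMod 2) 1 1) [8, 5, 4, 3] ∈ kerS hf' := by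
    have : wG e4 (QfMinus 1 (ZMod 2) 1 1) [8, 5, 4, 3] =
        (wG e4 (QfMinus 1 (ZMod 2) 1 1) hw4)⁻¹ := wG_reverse e4 _ hw4
    rw [this]
    exact Subgroup.inv_mem _ hk
  -- the rotation g
  have hg : wG e4 (QfMinus 1 (ZMod 2) 1 1) [3, 5] ∈ kerS hf' := by
    have hq35 : ∀ a ∈ [3, 5], qc4 a = true := by decide
    have hq8543 : ∀ a ∈ [8, 5, 4, 3], qc4 a = true := by decide
    have hqW2 : ∀ a ∈ [3, 5] ++ [8, 5, 4, 3], qc4 a = true := by decide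
    apply mem_kerS_of_two_cubes (QfMinus 1 (ZMod 2) 1 1) hf' (k1 := 1)
      (k2 := wG e4 (QfMinus 1 (ZMod 2) 1 1) [8, 5, 4, 3]) (hmemΩ 1 [3, 5] rfl hq35)
      (Subgroup.one_mem _) hkH
    · rw [mul_one, ← wG_append, ← wG_append,
        wG_eq_of_codes e4 _ qc4 hq4 _ [] (by decide) (by simp) cube1_4, wG_nil]
    · rw [← wG_append, ← wG_append, ← wG_append,
        wG_eq_of_codes e4 _ qc4 hq4 _ [] (by decide) (by simp) cube2_4, wG_nil]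
    · intro w h1 h2
      obtain ⟨c, hc, rfl⟩ := exists_code e4 w
      rw [mul_one, mt_wG e4 _ qc4 hq4 _ hq35, mt_wG e4 _ qc4 hq4 _ hq35, ← vec_xor, ← vec_xor] at h1
      rw [← wG_append, mt_wG e4 _ qc4 hq4 _ hqW2, mt_wG e4 _ qc4 hq4 _ hqW2, ← vec_xor,
        ← vec_xor] at h2
      rw [lin4 c hc (mod_eq_zero_of_vec_eq_zero e4 h1) (mod_eq_zero_of_vec_eq_zero e4 h2), vec_zero]
  have hG : wG e4 (QfMinus 1 (ZMod 2) 1 1) [5, 3] ∈ kerS hf' := by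
    have : wG e4 (QfMinus 1 (ZMod 2) 1 1) [5, 3] =
        (wG e4 (QfMinus 1 (ZMod 2) 1 1) [3, 5])⁻¹ := wG_reverse e4 _ [3, 5]
    rw [this]
    exact Subgroup.inv_mem _ hg
  have hgens : ∀ w ∈ gens4, wG e4 (QfMinus 1 (ZMod 2) 1 1) w ∈ kerS hf' := by
    intro w hw
    simp only [gens4, List.mem_cons, List.not_mem_nil, or_false] at hw
    rcases hw with rfl | rfl | rfl | rfl
    · exact hk
    · exact hkH
    · exact hg
    · exact hG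
  have hT : ∀ y < 2 ^ (1 + 1 + 2), qc4 y = true → T hf' (vec e4 3) (vec e4 y) := by
    intro y hy hqy
    obtain ⟨t, ht, rfl, hw1, hw2, hw3⟩ := tab4_ok y hy hqy
    unfold T
    have e1 : rr (QfMinus 1 (ZMod 2) 1 1) (vec e4 3) * rr (QfMinus 1 (ZMod 2) 1 1) (vec e4 t.1) =
        wG e4 (QfMinus 1 (ZMod 2) 1 1) [3, t.1] := by
      rw [wG_cons, wG_cons, wG_nil, mul_one]
    have hq3t : ∀ a ∈ [3, t.1], qc4 a = true := by
      intro a ha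
      simp only [List.mem_cons, List.not_mem_nil, or_false] at ha
      rcases ha with rfl | rfl
      · decide
      · exact hqy
    rw [e1, wG_eq_of_codes e4 _ qc4 hq4 [3, t.1] t.2.flatten hq3t hw2 hw3]
    exact wG_flatten_mem e4 _ _ gens4 hgens t.2 hw1
  obtain ⟨xu, hxu, rfl⟩ := exists_code e4 u
  obtain ⟨xv, hxv, rfl⟩ := exists_code e4 v
  have h1 := hT xu hxu ((Q_ne_zero_iff e4 _ qc4 hq4 xu).mp hu)
  have h2 := hT xv hxv ((Q_ne_zero_iff e4 _ qc4 hq4 xv).mp hv)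
  have := T_trans hf' (T_symm hf' h1) h2
  unfold T at this
  rwa [rr_of _ hu, rr_of _ hv] at this


end Cfsg.Agent.Helper22.H1
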