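import Cfsg.Agent.Helper22.Frames
import Cfsg.Agent.Helper27.LeechCount
import Cfsg.Agent.Helper27.LeechIndex
import Cfsg.Prelude.Def_SporadicCombinatorics

/-!
# Coordinate frames of the rank-24 lattice: every vector of sum of squares 64 is congruent modulo twice the
lattice to exactly 48 such vectors, and every class modulo twice the lattice has a representative of sum of
squares at most 64.
-/

set_option autoImplicit false

namespace Cfsg.Agent.Helper22.LeechFrames

open Cfsg Cfsg.Agent.Helper27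

/-- doubling -/
def dbl : (GolayPt → ℤ) →+ (GolayPt → ℤ) := nsmulAddMonoidHom 2

theorem dbl_apply (x : GolayPt → ℤ) : dbl x = (2 : ℕ) • x := rfl

/-- twice the lattice -/
def leech2 : AddSubgroup (GolayPt → ℤ) := leechLattice.map dbl

theorem mem_leech2 (y : GolayPt → ℤ) : y ∈ leech2 ↔ ∃ z ∈ leechLattice, (2 : ℕ) • z = y := by
  rw [leech2, AddSubgroup.mem_map]
  rfl

theorem leech2_le : leech2 ≤ leechLattice := by
  intro y hy
  obtain ⟨z, hz, rfl⟩ := (mem_leech2 y).mp hy
  exact leechLattice.nsmul_mem hz 2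

/-- reduction modulo 2 -/
def red2 : (GolayPt → ℤ) →+ (GolayPt → ZMod 2) := (Int.castAddHom (ZMod 2)).compLeft GolayPt

theorem red2_apply (x : GolayPt → ℤ) (i : GolayPt) : red2 x i = (x i : ZMod 2) := rfl

theorem red2_surjective : Function.Surjective red2 := by
  intro c
  refine ⟨fun i => ((c i).val : ℤ), ?_⟩
  funext i
  rw [red2_apply]
  simp

theorem red2_ker : red2.ker = dbl.range := by
  ext x
  rw [AddMonoidHom.mem_ker, AddMonoidHom.mem_range]
  constructor
  · intro h
    refine ⟨fun i => x i / 2, ?_⟩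
    funext i
    have := congrFun h i
    rw [red2_apply, Pi.zero_apply, ZMod.intCast_zmod_eq_zero_iff_dvd] at this
    rw [dbl_apply]
    simp only [Pi.smul_apply, nsmul_eq_mul, Nat.cast_ofNat]
    omega
  · rintro ⟨z, rfl⟩
    funext i
    rw [red2_apply, dbl_apply, Pi.zero_apply, ZMod.intCast_zmod_eq_zero_iff_dvd]
    simp only [Pi.smul_apply, nsmul_eq_mul, Nat.cast_ofNat]
    exact ⟨z i, rfl⟩

theorem dbl_range_index : dbl.range.index = 2 ^ 24 := by
  rw [← red2_ker, AddSubgroup.index_ker, AddMonoidHom.range_eq_top.mpr red2_surjective]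
  rw [Nat.card_congr (AddSubgroup.topEquiv (G := GolayPt → ZMod 2)).toEquiv, Nat.card_eq_fintype_card,
    Fintype.card_fun, ZMod.card]
  rfl

theorem dbl_ker : dbl.ker = ⊥ := by
  rw [AddMonoidHom.ker_eq_bot_iff]
  intro x y h
  funext i
  have := congrFun h i
  rw [dbl_apply, dbl_apply] at this
  simp only [Pi.smul_apply, nsmul_eq_mul, Nat.cast_ofNat] at this
  omega

theorem leech2_relIndex : leech2.relIndex leechLattice = 2 ^ 24 := by
  have h1 := AddSubgroup.relIndex_mul_index leech2_le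
  have h2 : leech2.index = leechLattice.index * 2 ^ 24 := by
    rw [leech2, AddSubgroup.index_map, dbl_ker, sup_bot_eq, dbl_range_index]
  rw [h2, leech_index] at h1
  have : leech2.relIndex leechLattice * 2 ^ 36 = 2 ^ 24 * 2 ^ 36 := by rw [h1]; ring
  exact Nat.eq_of_mul_eq_mul_right (by norm_num) this

/-- the classes of the lattice modulo twice the lattice -/
abbrev Cls : Type := ↥leechLattice ⧸ leech2.addSubgroupOf leechLattice

theorem card_Cls : Nat.card Cls = 2 ^ 24 := leech2_relIndex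

/-- the class of a vector (0 outside the lattice) -/
noncomputable def cls (x : GolayPt → ℤ) : Cls := by
  classical
  exact if h : x ∈ leechLattice then QuotientAddGroup.mk ⟨x, h⟩ else 0

theorem cls_eq_iff {x y : GolayPt → ℤ} (hx : x ∈ leechLattice) (hy : y ∈ leechLattice) :
    cls x = cls y ↔ ∃ z ∈ leechLattice, x - y = (2 : ℕ) • z := by
  rw [cls, cls, dif_pos hx, dif_pos hy, QuotientAddGroup.eq, AddSubgroup.mem_addSubgroupOf, mem_leech2]
  constructor
  · rintro ⟨z, hz, e⟩
    refine ⟨-z, leechLattice.neg_mem hz, ?_⟩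
    have e' : (2 : ℕ) • z = -x + y := e
    rw [smul_neg, e']
    abel
  · rintro ⟨z, hz, e⟩
    refine ⟨-z, leechLattice.neg_mem hz, ?_⟩
    show (2 : ℕ) • -z = -x + y
    rw [smul_neg, ← e]
    abel

theorem form_eq (x : GolayPt → ℤ) : Matrix.toBilin' (1 : Matrix GolayPt GolayPt ℤ) x x = sqNorm x := by
  rw [Matrix.toBilin'_apply', Matrix.one_mulVec, sqNorm, dotProduct]
  exact Finset.sum_congr rfl (fun i _ => (sq (x i)).symm)

theorem leech_frames :
    (∀ x ∈ leechLattice, sqNorm x = 64 → (cross x).ncard = 48) ∧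
    (∀ x ∈ leechLattice, ∃ y ∈ leechLattice, sqNorm y ≤ 64 ∧ ∃ z ∈ leechLattice, x - y = (2 : ℕ) • z) := by
  have hfin : Finite Cls := Nat.finite_of_card_ne_zero (by rw [card_Cls]; norm_num)
  have : Fintype Cls := Fintype.ofFinite Cls
  have hQ : Fintype.card Cls ≤ 2 ^ 24 := by rw [← Nat.card_eq_fintype_card, card_Cls]
  have hrank : Module.finrank ℤ (GolayPt → ℤ) = 24 := by
    rw [Module.finrank_fintype_fun_eq_card]
    decide
  have hsym : ∀ u v : GolayPt → ℤ, Matrix.toBilin' (1 : Matrix GolayPt GolayPt ℤ) u v =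
      Matrix.toBilin' (1 : Matrix GolayPt GolayPt ℤ) v u := by
    intro u v
    rw [Matrix.toBilin'_apply', Matrix.toBilin'_apply', Matrix.one_mulVec, Matrix.one_mulVec, dotProduct_comm]
  have hmin : ∀ u ∈ leechLattice, u ≠ 0 → 4 * 8 ≤ Matrix.toBilin' (1 : Matrix GolayPt GolayPt ℤ) u u := by
    intro u hu h0
    rw [form_eq]
    exact sqNorm_ge hu h0
  have e4 : {u : GolayPt → ℤ | u ∈ leechLattice ∧ Matrix.toBilin' (1 : Matrix GolayPt GolayPt ℤ) u u = 4 * 8} =
      {u | u ∈ leechLattice ∧ sqNorm u = 32} := by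
    ext u; simp only [Set.mem_ofPred_eq, form_eq]; norm_num
  have e6 : {u : GolayPt → ℤ | u ∈ leechLattice ∧ Matrix.toBilin' (1 : Matrix GolayPt GolayPt ℤ) u u = 6 * 8} =
      {u | u ∈ leechLattice ∧ sqNorm u = 48} := by
    ext u; simp only [Set.mem_ofPred_eq, form_eq]; norm_num
  have e8 : {u : GolayPt → ℤ | u ∈ leechLattice ∧ Matrix.toBilin' (1 : Matrix GolayPt GolayPt ℤ) u u = 8 * 8} =
      {u | u ∈ leechLattice ∧ sqNorm u = 64} := by
    ext u; simp only [Set.mem_ofPred_eq, form_eq]; norm_num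
  obtain ⟨r1, r2⟩ := Frames.frames_main (Matrix.toBilin' (1 : Matrix GolayPt GolayPt ℤ)) hrank hsym leechLattice 8
    (by norm_num) hmin hQ cls (fun x hx y hy => cls_eq_iff hx hy)
    (by rw [e4]; exact leech_ncard_32) (by rw [e6]; exact leech_ncard_48) (by rw [e8]; exact leech_ncard_64)
  constructor
  · intro x hx h64
    rw [← r1 x hx (by rw [form_eq, h64]; norm_num)]
    congr 1
    ext y
    simp only [cross, Set.mem_ofPred_eq, form_eq, h64]
    constructor
    · rintro ⟨hy, hn, hz⟩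
      exact ⟨hy, by rw [hn]; norm_num, ((cls_eq_iff hx hy).mpr hz).symm⟩
    · rintro ⟨hy, hn, hc⟩
      exact ⟨hy, by rw [hn]; norm_num, (cls_eq_iff hx hy).mp hc.symm⟩
  · intro x hx
    obtain ⟨y, hy, hn, hc⟩ := r2 (cls x)
    rw [form_eq] at hn
    exact ⟨y, hy, by linarith, (cls_eq_iff hx hy).mp hc.symm⟩

end Cfsg.Agent.Helper22.LeechFrames
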