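import Cfsg.Agent.Helper22.QuadForm
import Cfsg.Agent.Helper22.LeechFrames

/-!
# The lattice modulo twice itself as a module for its automorphism group
-/

set_option autoImplicit false

namespace Cfsg.Agent.Helper22.LeechMod2

open Cfsg Cfsg.Agent.Helper27 Cfsg.Agent.Helper22.Co0Mono Cfsg.Agent.Helper22.CrossStab
  Cfsg.Agent.Helper22.Co0Center
  Cfsg.Agent.Helper22.LeechShapes Cfsg.Agent.Helper22.Norm6Trans Cfsg.Agent.Helper22.Norm8Trans
  Cfsg.Agent.Helper22.MinTrans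
  Cfsg.Agent.Helper22.Co0Order Cfsg.Agent.Helper22.Summands Cfsg.Agent.Helper22.Census
  Cfsg.Agent.Helper22.MinGen Cfsg.Agent.Helper22.QuadForm Cfsg.Agent.Helper22.LeechFrames

theorem sqNorm_nonneg (x : GolayPt → ℤ) : 0 ≤ sqNorm x := Finset.sum_nonneg fun _ _ => sq_nonneg _

theorem sqNorm_two_smul (x : GolayPt → ℤ) : sqNorm ((2 : ℤ) • x) = 4 * sqNorm x := by
  simp only [sqNorm, Pi.smul_apply, smul_eq_mul, Finset.mul_sum]
  apply Finset.sum_congr rfl
  intro i _
  ring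

theorem eq_zero_of_sqNorm {x : GolayPt → ℤ} (h : sqNorm x = 0) : x = 0 := n0_eq h

/-! ### Faithfulness -/

section Faithful

variable (g : ↥Co0)
  (hg : ∀ v : ↥leechLattice, ∃ w : ↥leechLattice,
    ((g • v : ↥leechLattice) : GolayPt → ℤ) - (v : GolayPt → ℤ) = 2 • (w : GolayPt → ℤ))
include hg

theorem min_pm (v : ↥leechLattice) (hv : sqNorm (v : GolayPt → ℤ) = 32) : g • v = v ∨ g • v = -v := by
  obtain ⟨w, hw⟩ := hg v
  have h1 := Summands.sqNorm_sub ((g • v : ↥leechLattice) : GolayPt → ℤ) (v : GolayPt → ℤ)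
  have h2 := sqNorm_add ((g • v : ↥leechLattice) : GolayPt → ℤ) (v : GolayPt → ℤ)
  have h3 := sqNorm_nonneg (((g • v : ↥leechLattice) : GolayPt → ℤ) + (v : GolayPt → ℤ))
  rw [co0_norm, hv] at h1 h2
  have hw' : ((g • v : ↥leechLattice) : GolayPt → ℤ) - (v : GolayPt → ℤ) = (2 : ℤ) • (w : GolayPt → ℤ) := by
    rw [hw, two_nsmul, two_zsmul]
  rw [hw', sqNorm_two_smul] at h1
  by_cases h0 : (w : GolayPt → ℤ) = 0
  · left
    rw [h0, smul_zero, sub_eq_zero] at hw'
    exact Subtype.ext hw'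
  · right
    have h4 := sqNorm_ge w.2 h0
    have h5 : sqNorm (((g • v : ↥leechLattice) : GolayPt → ℤ) + (v : GolayPt → ℤ)) = 0 := by omega
    have h6 := eq_zero_of_sqNorm h5
    apply Subtype.ext
    show ((g • v : ↥leechLattice) : GolayPt → ℤ) = -(v : GolayPt → ℤ)
    exact eq_neg_of_add_eq_zero_left h6

omit hg in
theorem dot_smul_smul (a b : ℤ) (x y : GolayPt → ℤ) : dotInt (a • x) (b • y) = a * b * dotInt x y := by
  simp only [dotInt, Pi.smul_apply, smul_eq_mul, Finset.mul_sum]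
  apply Finset.sum_congr rfl
  intro i _
  ring

omit hg in
theorem sign_unique {v v' : ↥leechLattice}
    (hd : dotInt (v : GolayPt → ℤ) (v' : GolayPt → ℤ) ≠ 0) {a b : ℤ} (ha : a = 1 ∨ a = -1) (hb : b = 1 ∨ b = -1)
    (h1 : g • v = a • v) (h2 : g • v' = b • v') : a = b := by
  have h := co0_dot g v v'
  rw [h1, h2] at h
  have e1 : ((a • v : ↥leechLattice) : GolayPt → ℤ) = a • (v : GolayPt → ℤ) := rfl
  have e2 : ((b • v' : ↥leechLattice) : GolayPt → ℤ) = b • (v' : GolayPt → ℤ) := rfl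
  rw [e1, e2, dot_smul_smul] at h
  rcases ha with rfl | rfl <;> rcases hb with rfl | rfl
  · rfl
  · exfalso; apply hd; linarith
  · exfalso; apply hd; linarith
  · rfl

theorem min_sign (v : ↥leechLattice) (hv : sqNorm (v : GolayPt → ℤ) = 32) :
    ∃ a : ℤ, (a = 1 ∨ a = -1) ∧ g • v = a • v := by
  rcases min_pm g hg v hv with h | h
  · exact ⟨1, Or.inl rfl, by rw [h, one_smul]⟩
  · exact ⟨-1, Or.inr rfl, by rw [h, neg_smul, one_smul]⟩

omit hg in
/-- two orthogonal minimal vectors have a common non-orthogonal minimal vector -/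
theorem exists_link (v v' : ↥leechLattice) (hv : sqNorm (v : GolayPt → ℤ) = 32)
    (hv' : sqNorm (v' : GolayPt → ℤ) = 32) (hd : dotInt (v : GolayPt → ℤ) (v' : GolayPt → ℤ) = 0) :
    ∃ a : ↥leechLattice, sqNorm (a : GolayPt → ℤ) = 32 ∧ dotInt (v : GolayPt → ℤ) (a : GolayPt → ℤ) = 16 ∧
      dotInt (v' : GolayPt → ℤ) (a : GolayPt → ℤ) = 16 := by
  have hz : sqNorm ((v + v' : ↥leechLattice) : GolayPt → ℤ) = 64 := by
    show sqNorm ((v : GolayPt → ℤ) + (v' : GolayPt → ℤ)) = 64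
    rw [sqNorm_add, hv, hv', hd]
    norm_num
  have hT := ncard_T64 (v + v') hz
  have hex : ∃ a ∈ T (v + v'), a ∉ ({v, v'} : Set ↥leechLattice) := by
    by_contra hc
    have hsub : T (v + v') ⊆ ({v, v'} : Set ↥leechLattice) := by
      intro a ha
      by_contra hna
      exact hc ⟨a, ha, hna⟩
    have h1 := Set.ncard_le_ncard hsub (Set.toFinite _)
    have h2 : ({v, v'} : Set ↥leechLattice).ncard ≤ 2 := by
      have := Set.ncard_insert_le v ({v'} : Set ↥leechLattice)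
      rw [Set.ncard_singleton] at this
      exact this
    omega
  obtain ⟨a, ⟨ha1, ha2⟩, hane⟩ := hex
  rw [Set.mem_insert_iff, Set.mem_singleton_iff, not_or] at hane
  have e1 : ((v + v' : ↥leechLattice) : GolayPt → ℤ) = (v : GolayPt → ℤ) + (v' : GolayPt → ℤ) := rfl
  rw [Summands.sqNorm_sub, hz, ha1, e1] at ha2
  have hsplit : dotInt ((v : GolayPt → ℤ) + (v' : GolayPt → ℤ)) (a : GolayPt → ℤ) =
      dotInt (v : GolayPt → ℤ) (a : GolayPt → ℤ) + dotInt (v' : GolayPt → ℤ) (a : GolayPt → ℤ) := by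
    simp only [dotInt, Pi.add_apply, ← Finset.sum_add_distrib]
    apply Finset.sum_congr rfl
    intro i _
    ring
  rw [hsplit] at ha2
  have c1 := dot_cases (v := v) (w := a) hv ha1
  have c2 := dot_cases (v := v') (w := a) hv' ha1
  have n1 : dotInt (v : GolayPt → ℤ) (a : GolayPt → ℤ) ≠ 32 := by
    intro h
    have : a ∈ X v 32 := ⟨ha1, h⟩
    rw [X32 v hv, Set.mem_singleton_iff] at this
    exact hane.1 this
  have n2 : dotInt (v' : GolayPt → ℤ) (a : GolayPt → ℤ) ≠ 32 := by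
    intro h
    have : a ∈ X v' 32 := ⟨ha1, h⟩
    rw [X32 v' hv', Set.mem_singleton_iff] at this
    exact hane.2 this
  simp only [Finset.mem_insert, Finset.mem_singleton] at c1 c2
  refine ⟨a, ha1, ?_, ?_⟩ <;> omega

theorem all_sign : ∃ a : ℤ, (a = 1 ∨ a = -1) ∧ ∀ x : ↥leechLattice, g • x = a • x := by
  obtain ⟨a, ha, h0⟩ := min_sign g hg a01 n3
  refine ⟨a, ha, ?_⟩
  have hmin : ∀ v : ↥leechLattice, sqNorm (v : GolayPt → ℤ) = 32 → g • v = a • v := by
    intro v hv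
    obtain ⟨b, hb, h1⟩ := min_sign g hg v hv
    by_cases hd : dotInt (a01 : GolayPt → ℤ) (v : GolayPt → ℤ) = 0
    · obtain ⟨c, hc, d1, d2⟩ := exists_link a01 v n3 hv hd
      obtain ⟨e, he, h2⟩ := min_sign g hg c hc
      have k1 : a = e := sign_unique g (by rw [d1]; norm_num) ha he h0 h2
      have k2 : b = e := sign_unique g (by rw [d2]; norm_num) hb he h1 h2
      rw [h1, k2, ← k1]
    · have k : a = b := sign_unique g hd ha hb h0 h1
      rw [h1, k]
  intro x
  induction x using lattice_induction with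
  | h0 => rw [co0_zero, smul_zero]
  | hmin v hv => exact hmin v hv
  | hadd p q ihp ihq => rw [co0_add, ihp, ihq, smul_add]
  | hneg p ihp => rw [co0_neg, ihp, smul_neg]

theorem mem_center : g ∈ Subgroup.center ↥Co0 := by
  obtain ⟨a, ha, h⟩ := all_sign g hg
  rcases ha with rfl | rfl
  · have : g = 1 := by
      apply Subtype.ext
      apply Equiv.ext
      intro x
      have := h x
      rw [one_smul] at this
      exact this
    rw [this]
    exact Subgroup.one_mem _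
  · have : g = negCo := by
      apply Subtype.ext
      apply Equiv.ext
      intro x
      have h1 := h x
      rw [neg_smul, one_smul, ← negCo_smul] at h1
      exact h1
    rw [this]
    exact negCo_mem_center

end Faithful

/-! ### Irreducibility -/

def a02 : ↥leechLattice := ⟨pv (pt 0) (pt 2) 4 4, pv_mem _ _ (Or.inl rfl) (Or.inl rfl)⟩
def d01 : ↥leechLattice := ⟨pv (pt 0) (pt 1) 4 (-4), pv_mem _ _ (Or.inl rfl) (Or.inr rfl)⟩

theorem k1 : sqNorm ((D0 - d01 : ↥leechLattice) : GolayPt → ℤ) = 48 := by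
  show sqNorm (d0 - pv (pt 0) (pt 1) 4 (-4)) = 48
  decide +kernel
theorem k2 : sqNorm (d01 : GolayPt → ℤ) = 32 := by
  show sqNorm (pv (pt 0) (pt 1) 4 (-4)) = 32
  decide +kernel
theorem k3 : sqNorm ((a56 + a02 : ↥leechLattice) : GolayPt → ℤ) = 64 := by
  show sqNorm (pv (pt 5) (pt 6) 4 4 + pv (pt 0) (pt 2) 4 4) = 64
  decide +kernel
theorem k4 : sqNorm ((a01 - a02 : ↥leechLattice) : GolayPt → ℤ) = 32 := by
  show sqNorm (pv (pt 0) (pt 1) 4 4 - pv (pt 0) (pt 2) 4 4) = 32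
  decide +kernel

theorem irreducible (M : AddSubgroup (GolayPt → ℤ)) (h2 : ∀ v ∈ leechLattice, (2 : ℤ) • v ∈ M)
    (hle : M ≤ leechLattice)
    (hinv : ∀ g : ↥Co0, ∀ v : ↥leechLattice, (v : GolayPt → ℤ) ∈ M → ((g • v : ↥leechLattice) : GolayPt → ℤ) ∈ M) :
    (∀ x ∈ M, ∃ w ∈ leechLattice, x = (2 : ℤ) • w) ∨ M = leechLattice := by
  by_cases hall : ∀ x ∈ M, ∃ w ∈ leechLattice, x = (2 : ℤ) • w
  · exact Or.inl hall
  right
  rw [not_forall] at hall
  obtain ⟨x, hx⟩ := hall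
  rw [Classical.not_imp] at hx
  obtain ⟨hxM, hxn⟩ := hx
  -- a minimal vector in `M` suffices
  have of_min : ∀ v : ↥leechLattice, sqNorm (v : GolayPt → ℤ) = 32 → (v : GolayPt → ℤ) ∈ M → M = leechLattice := by
    intro v hv hvM
    apply le_antisymm hle
    rw [← closure_eq]
    unfold MinGen.M
    rw [AddSubgroup.closure_le]
    rintro y ⟨hy, hyn⟩
    obtain ⟨g, hg⟩ := min_transitive v ⟨y, hy⟩ hv hyn
    have := hinv g v hvM
    rw [hg] at this
    exact this
  obtain ⟨y, hy, hyn, z, hz, hxyz⟩ := leech_frames.2 x (hle hxM)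
  have hyM : y ∈ M := by
    have : y = x - (2 : ℤ) • z := by
      rw [two_zsmul, ← two_nsmul, ← hxyz]
      abel
    rw [this]
    exact M.sub_mem hxM (h2 z hz)
  have hy0 : y ≠ 0 := by
    intro h0
    apply hxn
    refine ⟨z, hz, ?_⟩
    rw [h0, sub_zero] at hxyz
    rw [hxyz, two_zsmul, two_nsmul]
  have h1 := sqNorm_ge hy hy0
  obtain ⟨c, hc⟩ := sqNorm_dvd hy
  have hcases : sqNorm y = 32 ∨ sqNorm y = 48 ∨ sqNorm y = 64 := by omega
  rcases hcases with h | h | h
  · exact of_min ⟨y, hy⟩ h hyM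
  · -- all vectors of sum of squares 48 lie in `M`
    have hall48 : ∀ u : ↥leechLattice, sqNorm (u : GolayPt → ℤ) = 48 → (u : GolayPt → ℤ) ∈ M := by
      intro u hu
      obtain ⟨g, hg⟩ := norm6_transitive ⟨y, hy⟩ u h hu
      have := hinv g ⟨y, hy⟩ hyM
      rw [hg] at this
      exact this
    have m1 := hall48 D0 sqNorm_d0
    have m2 := hall48 (D0 - d01) k1
    apply of_min d01 k2
    have e : (d01 : GolayPt → ℤ) = (D0 : GolayPt → ℤ) - ((D0 - d01 : ↥leechLattice) : GolayPt → ℤ) := by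
      show (d01 : GolayPt → ℤ) = (D0 : GolayPt → ℤ) - ((D0 : GolayPt → ℤ) - (d01 : GolayPt → ℤ))
      abel
    rw [e]
    exact M.sub_mem m1 m2
  · have hall64 : ∀ u : ↥leechLattice, sqNorm (u : GolayPt → ℤ) = 64 → (u : GolayPt → ℤ) ∈ M := by
      intro u hu
      obtain ⟨g, hg⟩ := norm8_transitive ⟨y, hy⟩ u h hu
      have := hinv g ⟨y, hy⟩ hyM
      rw [hg] at this
      exact this
    have m1 := hall64 (a56 + a01) m5
    have m2 := hall64 (a56 + a02) k3
    apply of_min (a01 - a02) k4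
    have e : ((a01 - a02 : ↥leechLattice) : GolayPt → ℤ) =
        ((a56 + a01 : ↥leechLattice) : GolayPt → ℤ) - ((a56 + a02 : ↥leechLattice) : GolayPt → ℤ) := by
      show (a01 : GolayPt → ℤ) - (a02 : GolayPt → ℤ) =
        ((a56 : GolayPt → ℤ) + (a01 : GolayPt → ℤ)) - ((a56 : GolayPt → ℤ) + (a02 : GolayPt → ℤ))
      abel
    rw [e]
    exact M.sub_mem m1 m2

end Cfsg.Agent.Helper22.LeechMod2
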