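import Cfsg.Agent.Helper22.Co3Orbit
import Cfsg.Agent.Helper22.LeechMod2

/-!
# The hundred minimal vectors attached to two vectors of sum of squares 48 with inner product `-32`
-/

set_option autoImplicit false

namespace Cfsg.Agent.Helper22.HS100

open Cfsg Cfsg.Agent.Helper27 Cfsg.Agent.Helper22.Co0Mono Cfsg.Agent.Helper22.CrossStab
  Cfsg.Agent.Helper22.Co0Center Cfsg.Agent.Helper22.MinTrans Cfsg.Agent.Helper22.Norm6Trans
  Cfsg.Agent.Helper22.Co0Order Cfsg.Agent.Helper22.Summands Cfsg.Agent.Helper22.Census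
  Cfsg.Agent.Helper22.QuadForm Cfsg.Agent.Helper22.LeechMod2 Cfsg.Agent.Helper22.Co3Orbit
  Cfsg.Agent.Helper22.GolayComb Cfsg.Agent.Helper22.Design
open scoped Pointwise

/-! ### Generalities on inner products -/

theorem dot_add_left (a b c : GolayPt → ℤ) : dotInt (a + b) c = dotInt a c + dotInt b c := by
  simp only [dotInt, Pi.add_apply, ← Finset.sum_add_distrib]
  apply Finset.sum_congr rfl
  intro i _
  ring

theorem dot_add_right (a b c : GolayPt → ℤ) : dotInt a (b + c) = dotInt a b + dotInt a c := by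
  rw [dot_comm', dot_add_left, dot_comm' b, dot_comm' c]

theorem dot_neg_left (a b : GolayPt → ℤ) : dotInt (-a) b = -dotInt a b := by
  simp only [dotInt, Pi.neg_apply, neg_mul, Finset.sum_neg_distrib]

theorem dot_neg_right' (a b : GolayPt → ℤ) : dotInt a (-b) = -dotInt a b := by
  rw [dot_comm', dot_neg_left, dot_comm']

theorem dot_self (a : GolayPt → ℤ) : dotInt a a = sqNorm a := by
  simp only [dotInt, sqNorm]
  apply Finset.sum_congr rfl
  intro i _
  ring

theorem sqNorm_neg' (a : GolayPt → ℤ) : sqNorm (-a) = sqNorm a := by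
  simp only [sqNorm, Pi.neg_apply, neg_sq]

/-- the hundred vectors -/
def S (v w : ↥leechLattice) : Set ↥leechLattice :=
  {x | sqNorm (x : GolayPt → ℤ) = 32 ∧ dotInt (v : GolayPt → ℤ) (x : GolayPt → ℤ) = 24 ∧
    dotInt (w : GolayPt → ℤ) (x : GolayPt → ℤ) = -24}

theorem smul_mem_S (g : ↥Co0) {v w x : ↥leechLattice} (hx : x ∈ S v w) : g • x ∈ S (g • v) (g • w) :=
  ⟨by rw [co0_norm, hx.1], by rw [co0_dot, hx.2.1], by rw [co0_dot, hx.2.2]⟩

theorem ncard_S_smul (g : ↥Co0) (v w : ↥leechLattice) : (S (g • v) (g • w)).ncard = (S v w).ncard := by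
  have himg : (fun x : ↥leechLattice => g • x) '' S v w = S (g • v) (g • w) := by
    ext y
    constructor
    · rintro ⟨x, hx, rfl⟩
      exact smul_mem_S g hx
    · intro hy
      refine ⟨g⁻¹ • y, ?_, smul_inv_smul g y⟩
      have := smul_mem_S g⁻¹ hy
      rwa [inv_smul_smul, inv_smul_smul] at this
  rw [← himg]
  exact Set.ncard_image_of_injective _ (MulAction.injective g)

/-! ### The standard pair -/

/-- `(1, 5, 1^22)` -/
def D1 : ↥leechLattice := D0 - d01

theorem D1_coe : (D1 : GolayPt → ℤ) = d0 - pv (pt 0) (pt 1) 4 (-4) := rfl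

theorem sqNorm_D1 : sqNorm (D1 : GolayPt → ℤ) = 48 := k1

theorem sqNorm_D0 : sqNorm (D0 : GolayPt → ℤ) = 48 := sqNorm_d0

theorem dot_D0_D1 : dotInt (D0 : GolayPt → ℤ) (D1 : GolayPt → ℤ) = 32 := by
  show dotInt d0 (d0 - pv (pt 0) (pt 1) 4 (-4)) = 32
  decide +kernel

theorem dot_D0_d01 : dotInt (D0 : GolayPt → ℤ) (d01 : GolayPt → ℤ) = 16 := by
  show dotInt d0 (pv (pt 0) (pt 1) 4 (-4)) = 16
  decide +kernel

theorem neg_d01_mem_W : -d01 ∈ W D0 := by
  refine ⟨?_, ?_⟩
  · show sqNorm (-(d01 : GolayPt → ℤ)) = 32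
    rw [sqNorm_neg', k2]
  · show dotInt (D0 : GolayPt → ℤ) (-(d01 : GolayPt → ℤ)) = -16
    rw [dot_neg_right', dot_D0_d01]

/-- every pair is equivalent to the standard pair -/
theorem to_std (v w : ↥leechLattice) (hv : sqNorm (v : GolayPt → ℤ) = 48) (hw : sqNorm (w : GolayPt → ℤ) = 48)
    (hvw : dotInt (v : GolayPt → ℤ) (w : GolayPt → ℤ) = -32) : ∃ g : ↥Co0, g • v = D0 ∧ g • w = -D1 := by
  obtain ⟨g1, hg1⟩ := norm6_to_d0 v hv
  have hg1' : g1 • v = D0 := Subtype.ext hg1
  have hw1 : sqNorm ((g1 • w : ↥leechLattice) : GolayPt → ℤ) = 48 := by rw [co0_norm, hw]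
  have hd1 : dotInt (D0 : GolayPt → ℤ) ((g1 • w : ↥leechLattice) : GolayPt → ℤ) = -32 := by
    rw [← hg1', co0_dot, hvw]
  have hx1 : -(D0 + g1 • w) ∈ W D0 := by
    refine ⟨?_, ?_⟩
    · show sqNorm (-((D0 : GolayPt → ℤ) + ((g1 • w : ↥leechLattice) : GolayPt → ℤ))) = 32
      rw [sqNorm_neg', sqNorm_add, sqNorm_D0, hw1, hd1]
      norm_num
    · show dotInt (D0 : GolayPt → ℤ) (-((D0 : GolayPt → ℤ) + ((g1 • w : ↥leechLattice) : GolayPt → ℤ))) = -16
      rw [dot_neg_right', dot_add_right, dot_self, sqNorm_D0, hd1]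
      norm_num
  obtain ⟨g2, hg2D, hg2x⟩ := W_transitive D0 sqNorm_D0 hx1 neg_d01_mem_W
  refine ⟨g2 * g1, ?_, ?_⟩
  · rw [mul_smul, hg1', hg2D]
  · rw [mul_smul]
    rw [co0_neg, co0_add, hg2D, neg_inj] at hg2x
    -- `D0 + g2 • g1 • w = d01`
    have : g2 • g1 • w = d01 - D0 := eq_sub_of_add_eq' hg2x
    rw [this]
    show d01 - D0 = -(D0 - d01)
    abel

/-! ### The standard hundred -/

/-- the hundred in the ambient space -/
def S0 : Set (GolayPt → ℤ) := {y | y ∈ Sm ∧ y (pt 0) = y (pt 1)}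

theorem dot_D1 (y : GolayPt → ℤ) : dotInt (D1 : GolayPt → ℤ) y = dotInt d0 y - 4 * y (pt 0) + 4 * y (pt 1) := by
  classical
  rw [D1_coe]
  have h01 : pt 0 ≠ pt 1 := by decide
  simp only [dotInt, pv, Pi.sub_apply, Pi.add_apply, Pi.single_apply, sub_mul, add_mul, Finset.sum_sub_distrib,
    Finset.sum_add_distrib, ite_mul, zero_mul, Finset.sum_ite_eq', Finset.mem_univ, if_true]
  ring

theorem mem_S_std (y : ↥leechLattice) : y ∈ S D0 (-D1) ↔ (y : GolayPt → ℤ) ∈ S0 := by
  unfold S S0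
  simp only [Set.mem_ofPred_eq, mem_Sm_iff]
  have e1 : ((-D1 : ↥leechLattice) : GolayPt → ℤ) = -(D1 : GolayPt → ℤ) := rfl
  have e2 : (D0 : GolayPt → ℤ) = d0 := rfl
  rw [e1, dot_neg_left, dot_D1, e2, dot_d0]
  constructor
  · rintro ⟨h1, h2, h3⟩
    exact ⟨⟨y.2, h1, h2⟩, by linarith⟩
  · rintro ⟨⟨_, h1, h2⟩, h3⟩
    exact ⟨h1, h2, by linarith⟩

/-- the three families -/
noncomputable def FB : Finset (GolayPt → ℤ) := (octThrough {pt 0, pt 1}).image fB

noncomputable def FC : Finset (GolayPt → ℤ) :=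
  ((Finset.univ.erase (pt 0)).erase (pt 1)).image fun j => d0 - fA j

theorem fA_zero {j : GolayPt} (hj : j ≠ pt 0) : fA j (pt 0) = 4 := by
  unfold fA
  simp [Pi.single_eq_of_ne (Ne.symm hj)]

theorem fA_one (j : GolayPt) : fA j (pt 1) = if j = pt 1 then 4 else 0 := by
  unfold fA
  have h01 : pt 1 ≠ pt 0 := by decide
  simp only [Pi.add_apply, Pi.single_apply, if_neg h01, add_zero]
  by_cases h : j = pt 1
  · rw [if_pos h, if_pos h.symm]
  · rw [if_neg h, if_neg (Ne.symm h)]

theorem d0_zero : d0 (pt 0) = 5 := by unfold d0; rw [if_pos rfl]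
theorem d0_one : d0 (pt 1) = 1 := by
  unfold d0
  rw [if_neg (by decide)]

theorem mem_S0_iff (y : GolayPt → ℤ) : y ∈ S0 ↔ y = fA (pt 1) ∨ y ∈ FB ∨ y ∈ FC := by
  classical
  have h10 : pt 1 ≠ pt 0 := by decide
  constructor
  · rintro ⟨hy, h01⟩
    have hpar : y (pt 0) % 2 = 0 ∨ y (pt 0) % 2 = 1 := by omega
    rcases hpar with hp | hp
    · rcases even_Sm hy hp with ⟨j, hj, rfl⟩ | ⟨O, hO, h0, rfl⟩
      · left
        rw [fA_zero hj, fA_one] at h01
        by_cases h : j = pt 1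
        · rw [h]
        · rw [if_neg h] at h01
          norm_num at h01
      · right; left
        unfold FB
        rw [Finset.mem_image]
        refine ⟨O, ?_, rfl⟩
        rw [mem_octThrough]
        refine ⟨hO, ?_⟩
        have h1 : pt 1 ∈ O := by
          by_contra hc
          unfold fB at h01
          rw [if_pos h0, if_neg hc] at h01
          norm_num at h01
        intro p hp
        rw [Finset.mem_insert, Finset.mem_singleton] at hp
        rcases hp with rfl | rfl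
        · exact h0
        · exact h1
    · have hy' := sub_mem_Sm hy
      have hp' : (d0 - y) (pt 0) % 2 = 0 := by
        show (d0 (pt 0) - y (pt 0)) % 2 = 0
        rw [d0_zero]
        omega
      rcases even_Sm hy' hp' with ⟨j, hj, hj'⟩ | ⟨O, hO, h0, hO'⟩
      · right; right
        have ey : y = d0 - fA j := by rw [← hj']; abel
        unfold FC
        rw [Finset.mem_image]
        refine ⟨j, ?_, ey.symm⟩
        rw [Finset.mem_erase, Finset.mem_erase]
        refine ⟨?_, hj, Finset.mem_univ _⟩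
        intro hj1
        rw [ey] at h01
        have : d0 (pt 0) - fA j (pt 0) = d0 (pt 1) - fA j (pt 1) := h01
        rw [fA_zero hj, fA_one, if_pos hj1, d0_zero, d0_one] at this
        norm_num at this
      · exfalso
        have ey : y = d0 - fB O := by rw [← hO']; abel
        rw [ey] at h01
        have : d0 (pt 0) - fB O (pt 0) = d0 (pt 1) - fB O (pt 1) := h01
        unfold fB at this
        rw [if_pos h0, d0_zero, d0_one] at this
        split_ifs at this <;> norm_num at this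
  · rintro (rfl | h | h)
    · refine ⟨fA_mem_Sm h10, ?_⟩
      rw [fA_zero h10, fA_one, if_pos rfl]
    · unfold FB at h
      rw [Finset.mem_image] at h
      obtain ⟨O, hO, rfl⟩ := h
      rw [mem_octThrough] at hO
      have h0 : pt 0 ∈ O := hO.2 (by simp)
      have h1 : pt 1 ∈ O := hO.2 (by simp)
      refine ⟨fB_mem_Sm hO.1 h0, ?_⟩
      unfold fB
      rw [if_pos h0, if_pos h1]
    · unfold FC at h
      rw [Finset.mem_image] at h
      obtain ⟨j, hj, rfl⟩ := h
      rw [Finset.mem_erase, Finset.mem_erase] at hj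
      refine ⟨sub_mem_Sm (fA_mem_Sm hj.2.1), ?_⟩
      show d0 (pt 0) - fA j (pt 0) = d0 (pt 1) - fA j (pt 1)
      rw [fA_zero hj.2.1, fA_one, if_neg hj.1, d0_zero, d0_one]
      norm_num

theorem card_FB : FB.card = 77 := by
  classical
  unfold FB
  rw [Finset.card_image_of_injective _ fB_injective]
  exact lam2_5824 GolayComb.card_golayPt octads_steiner {pt 0, pt 1} (Finset.card_pair (by decide))

theorem card_FC : FC.card = 22 := by
  classical
  unfold FC
  rw [Finset.card_image_of_injective]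
  · rw [Finset.card_erase_of_mem, Finset.card_erase_of_mem (Finset.mem_univ _), Finset.card_univ,
      GolayComb.card_golayPt]
    rw [Finset.mem_erase]
    exact ⟨by decide, Finset.mem_univ _⟩
  · intro j j' h
    apply fA_injective
    have : d0 - fA j = d0 - fA j' := h
    exact sub_right_injective this

theorem FB_zero {y : GolayPt → ℤ} (hy : y ∈ FB) : y (pt 0) = 2 := by
  classical
  unfold FB at hy
  rw [Finset.mem_image] at hy
  obtain ⟨O, hO, rfl⟩ := hy
  rw [mem_octThrough] at hO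
  unfold fB
  rw [if_pos (hO.2 (by simp))]

theorem FC_zero {y : GolayPt → ℤ} (hy : y ∈ FC) : y (pt 0) = 1 := by
  classical
  unfold FC at hy
  rw [Finset.mem_image] at hy
  obtain ⟨j, hj, rfl⟩ := hy
  rw [Finset.mem_erase, Finset.mem_erase] at hj
  show d0 (pt 0) - fA j (pt 0) = 1
  rw [fA_zero hj.2.1, d0_zero]
  norm_num

theorem ncard_S0 : S0.ncard = 100 := by
  classical
  have h10 : pt 1 ≠ pt 0 := by decide
  have hset : S0 = ↑(({fA (pt 1)} : Finset (GolayPt → ℤ)) ∪ (FB ∪ FC)) := by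
    ext y
    rw [mem_S0_iff, Finset.mem_coe, Finset.mem_union, Finset.mem_union, Finset.mem_singleton]
  rw [hset, Set.ncard_coe_finset, Finset.card_union_of_disjoint, Finset.card_union_of_disjoint, card_FB, card_FC,
    Finset.card_singleton]
  · rw [Finset.disjoint_left]
    intro y h1 h2
    have := FB_zero h1
    rw [FC_zero h2] at this
    norm_num at this
  · rw [Finset.disjoint_left]
    intro y h1 h2
    rw [Finset.mem_singleton] at h1
    rw [Finset.mem_union] at h2
    have h4 : y (pt 0) = 4 := by rw [h1, fA_zero h10]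
    rcases h2 with h2 | h2
    · rw [FB_zero h2] at h4
      norm_num at h4
    · rw [FC_zero h2] at h4
      norm_num at h4

theorem ncard_S_std : (S D0 (-D1)).ncard = 100 := by
  rw [← ncard_S0, ← Set.ncard_image_of_injective _ Subtype.val_injective]
  congr 1
  ext y
  constructor
  · rintro ⟨x, hx, rfl⟩
    exact (mem_S_std x).mp hx
  · intro hy
    exact ⟨⟨y, hy.1.1⟩, (mem_S_std ⟨y, hy.1.1⟩).mpr hy, rfl⟩

/-- the number of the hundred -/
theorem ncard_S (v w : ↥leechLattice) (hv : sqNorm (v : GolayPt → ℤ) = 48) (hw : sqNorm (w : GolayPt → ℤ) = 48)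
    (hvw : dotInt (v : GolayPt → ℤ) (w : GolayPt → ℤ) = -32) : (S v w).ncard = 100 := by
  obtain ⟨g, hg1, hg2⟩ := to_std v w hv hw hvw
  rw [← ncard_S_smul g v w, hg1, hg2, ncard_S_std]

/-! ### The stabiliser of a standard triple -/

/-- the standard triple -/
def t0 : ↥leechLattice × ↥leechLattice × ↥leechLattice := (D0, -D1, a01)

theorem pv_out (a b : ℤ) {i : GolayPt} (h0 : i ≠ pt 0) (h1 : i ≠ pt 1) : pv (pt 0) (pt 1) a b i = 0 := by
  unfold pv
  simp [Pi.single_eq_of_ne h0, Pi.single_eq_of_ne h1]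

theorem d0_out {i : GolayPt} (h0 : i ≠ pt 0) : d0 i = 1 := by
  unfold d0
  rw [if_neg h0]

theorem sp_fix {σ : Equiv.Perm GolayPt} (h0 : σ (pt 0) = pt 0) (h1 : σ (pt 1) = pt 1) (x : GolayPt → ℤ)
    (hx : ∀ i j, i ≠ pt 0 → i ≠ pt 1 → j ≠ pt 0 → j ≠ pt 1 → x i = x j) : signedPerm σ ∅ x = x := by
  funext i
  simp only [signedPerm, Finset.notMem_empty, if_false]
  by_cases hi0 : i = pt 0
  · rw [hi0]
    congr 1
    rw [Equiv.symm_apply_eq, h0]
  · by_cases hi1 : i = pt 1
    · rw [hi1]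
      congr 1
      rw [Equiv.symm_apply_eq, h1]
    · apply hx
      · intro h
        apply hi0
        rw [Equiv.symm_apply_eq] at h
        rw [h, h0]
      · intro h
        apply hi1
        rw [Equiv.symm_apply_eq] at h
        rw [h, h1]
      · exact hi0
      · exact hi1

theorem smul_t0_iff (g : ↥Co0) : g • t0 = t0 ↔ g • D0 = D0 ∧ g • D1 = D1 ∧ g • a01 = a01 := by
  unfold t0
  rw [Prod.smul_mk, Prod.smul_mk, Prod.mk.injEq, Prod.mk.injEq, co0_neg, neg_inj]

theorem e_eq : e = a01 + (D0 - D1) := by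
  apply Subtype.ext
  show (Pi.single (pt 0) 8 : GolayPt → ℤ) = pv (pt 0) (pt 1) 4 4 + (d0 - (d0 - pv (pt 0) (pt 1) 4 (-4)))
  decide +kernel

theorem piCo_fix {σ : Equiv.Perm GolayPt} (hσ : σ ∈ M24) (h0 : σ (pt 0) = pt 0) (h1 : σ (pt 1) = pt 1) :
    piCo σ hσ • t0 = t0 := by
  rw [smul_t0_iff]
  refine ⟨?_, ?_, ?_⟩
  · apply Subtype.ext
    rw [piCo_smul]
    apply sp_fix h0 h1
    intro i j hi0 _ hj0 _
    show d0 i = d0 j
    rw [d0_out hi0, d0_out hj0]
  · apply Subtype.ext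
    rw [piCo_smul]
    apply sp_fix h0 h1
    intro i j hi0 hi1 hj0 hj1
    show d0 i - pv (pt 0) (pt 1) 4 (-4) i = d0 j - pv (pt 0) (pt 1) 4 (-4) j
    rw [d0_out hi0, d0_out hj0, pv_out _ _ hi0 hi1, pv_out _ _ hj0 hj1]
  · apply Subtype.ext
    rw [piCo_smul]
    apply sp_fix h0 h1
    intro i j hi0 hi1 hj0 hj1
    show pv (pt 0) (pt 1) 4 4 i = pv (pt 0) (pt 1) 4 4 j
    rw [pv_out _ _ hi0 hi1, pv_out _ _ hj0 hj1]

theorem d0_pos (q : GolayPt) : 0 < d0 q := by
  unfold d0
  split_ifs <;> norm_num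

theorem D1_apply (q : GolayPt) : (D1 : GolayPt → ℤ) q = if q = pt 1 then 5 else 1 := by
  rw [D1_coe]
  show d0 q - pv (pt 0) (pt 1) 4 (-4) q = _
  by_cases h1 : q = pt 1
  · rw [if_pos h1, h1]
    decide +kernel
  · rw [if_neg h1]
    by_cases h0 : q = pt 0
    · rw [h0]
      decide +kernel
    · rw [d0_out h0, pv_out _ _ h0 h1]
      norm_num

/-- the elements of the stabiliser of the standard triple are coordinate permutations -/
theorem stab_t0 {g : ↥Co0} (hg : g • t0 = t0) :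
    ∃ (σ : Equiv.Perm GolayPt) (hσ : σ ∈ M24), σ (pt 0) = pt 0 ∧ σ (pt 1) = pt 1 ∧ g = piCo σ hσ := by
  obtain ⟨h1, h2, h3⟩ := (smul_t0_iff g).mp hg
  have he : g • e = e := by
    rw [e_eq, co0_add, co0_sub, h1, h2, h3]
  obtain ⟨σ, hσ, c, -, hgv⟩ := cross_mono (presCross_of_stab he)
  have hD0 := hgv D0
  rw [h1] at hD0
  have hc : c = ∅ := by
    apply Finset.eq_empty_of_forall_notMem
    intro i hi
    have := congrFun hD0 i
    simp only [signedPerm, if_pos hi] at this
    have p1 := d0_pos i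
    have p2 := d0_pos (σ.symm i)
    have e0 : (D0 : GolayPt → ℤ) = d0 := rfl
    rw [e0] at this
    linarith
  subst hc
  have hs0 : σ (pt 0) = pt 0 := by
    have := congrFun hD0 (pt 0)
    simp only [signedPerm, Finset.notMem_empty, if_false] at this
    have e0 : (D0 : GolayPt → ℤ) = d0 := rfl
    rw [e0, d0_zero] at this
    by_contra hne
    have hne' : σ.symm (pt 0) ≠ pt 0 := by
      intro h
      apply hne
      rw [Equiv.symm_apply_eq] at h
      exact h.symm
    rw [d0_out hne'] at this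
    norm_num at this
  have hs1 : σ (pt 1) = pt 1 := by
    have hD1 := hgv D1
    rw [h2] at hD1
    have := congrFun hD1 (pt 1)
    simp only [signedPerm, Finset.notMem_empty, if_false] at this
    rw [D1_apply, D1_apply, if_pos rfl] at this
    by_contra hne
    have hne' : σ.symm (pt 1) ≠ pt 1 := by
      intro h
      apply hne
      rw [Equiv.symm_apply_eq] at h
      exact h.symm
    rw [if_neg hne'] at this
    norm_num at this
  refine ⟨σ, hσ, hs0, hs1, ?_⟩
  apply Subtype.ext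
  apply Equiv.ext
  intro v
  apply Subtype.ext
  show ((g • v : ↥leechLattice) : GolayPt → ℤ) = ((piCo σ hσ • v : ↥leechLattice) : GolayPt → ℤ)
  rw [hgv v, piCo_smul]

theorem piCo_injective {σ τ : Equiv.Perm GolayPt} (hσ : σ ∈ M24) (hτ : τ ∈ M24) (h : piCo σ hσ = piCo τ hτ) :
    σ = τ := by
  apply Equiv.ext
  intro i
  have h1 : ((piCo σ hσ • E8 i : ↥leechLattice) : GolayPt → ℤ) = ((piCo τ hτ • E8 i : ↥leechLattice) : GolayPt → ℤ) := by
    rw [h]
  rw [piCo_smul, piCo_smul] at h1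
  have e8 : (E8 i : GolayPt → ℤ) = Pi.single i 8 := rfl
  rw [e8, signedPerm_single, signedPerm_single] at h1
  simp only [Finset.notMem_empty, if_false] at h1
  have := congrFun h1 (σ i)
  rw [Pi.single_eq_same] at this
  by_contra hne
  rw [Pi.single_eq_of_ne hne] at this
  norm_num at this

theorem card_stab_t0 : Nat.card (MulAction.stabilizer ↥Co0 t0) = 443520 := by
  rw [← card_stabilizer2_M24 (pt 0) (pt 1) (by decide)]
  symm
  apply Nat.card_eq_of_bijective
    (fun σ : ↥(MulAction.stabilizer M24 (pt 0) ⊓ MulAction.stabilizer M24 (pt 1)) =>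
      (⟨piCo σ.1.1 σ.1.2, MulAction.mem_stabilizer_iff.mpr
        (piCo_fix σ.1.2 (MulAction.mem_stabilizer_iff.mp (Subgroup.mem_inf.mp σ.2).1)
          (MulAction.mem_stabilizer_iff.mp (Subgroup.mem_inf.mp σ.2).2))⟩ : MulAction.stabilizer ↥Co0 t0))
  constructor
  · intro σ τ h
    apply Subtype.ext
    apply Subtype.ext
    apply piCo_injective σ.1.2 τ.1.2
    exact congrArg (fun x : MulAction.stabilizer ↥Co0 t0 => (x : ↥Co0)) h
  · rintro ⟨g, hg⟩
    obtain ⟨σ, hσ, h0, h1, rfl⟩ := stab_t0 (MulAction.mem_stabilizer_iff.mp hg)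
    refine ⟨⟨⟨σ, hσ⟩, Subgroup.mem_inf.mpr ⟨MulAction.mem_stabilizer_iff.mpr h0,
      MulAction.mem_stabilizer_iff.mpr h1⟩⟩, rfl⟩

/-! ### The triples -/

/-- the vectors of sum of squares 48 of inner product `-32` with `v` -/
def P (v : ↥leechLattice) : Set ↥leechLattice :=
  {w | sqNorm (w : GolayPt → ℤ) = 48 ∧ dotInt (v : GolayPt → ℤ) (w : GolayPt → ℤ) = -32}

theorem ncard_P (v : ↥leechLattice) (hv : sqNorm (v : GolayPt → ℤ) = 48) : (P v).ncard = 11178 := by
  rw [← ncard_W v hv]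
  have himg : (fun x : ↥leechLattice => -x - v) '' W v = P v := by
    ext w
    constructor
    · rintro ⟨x, ⟨hx1, hx2⟩, rfl⟩
      refine ⟨?_, ?_⟩
      · show sqNorm (-(x : GolayPt → ℤ) - (v : GolayPt → ℤ)) = 48
        rw [Summands.sqNorm_sub, sqNorm_neg', hx1, hv, dot_neg_left, dot_comm', hx2]
        norm_num
      · show dotInt (v : GolayPt → ℤ) (-(x : GolayPt → ℤ) - (v : GolayPt → ℤ)) = -32
        rw [sub_eq_add_neg, dot_add_right, dot_neg_right', dot_neg_right', hx2, dot_self, hv]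
        norm_num
    · rintro ⟨hw1, hw2⟩
      refine ⟨-w - v, ⟨?_, ?_⟩, ?_⟩
      rotate_left 2
      · show -(-w - v) - v = w
        rw [neg_sub, sub_neg_eq_add, add_sub_cancel_left]
      · show sqNorm (-(w : GolayPt → ℤ) - (v : GolayPt → ℤ)) = 32
        rw [Summands.sqNorm_sub, sqNorm_neg', hw1, hv, dot_neg_left, dot_comm', hw2]
        norm_num
      · show dotInt (v : GolayPt → ℤ) (-(w : GolayPt → ℤ) - (v : GolayPt → ℤ)) = -16
        rw [sub_eq_add_neg, dot_add_right, dot_neg_right', dot_neg_right', hw2, dot_self, hv]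
        norm_num
  rw [← himg]
  apply Set.ncard_image_of_injective
  intro a b h
  have : -a - v = -b - v := h
  have h2 : -a = -b := sub_left_injective this
  exact neg_injective h2

theorem finite_P (v : ↥leechLattice) : (P v).Finite := finite_L48.subset fun _ hw => hw.1

theorem finite_S (v w : ↥leechLattice) : (S v w).Finite := finite_L32.subset fun _ hx => hx.1

/-- the triples -/
def TT : Set (↥leechLattice × ↥leechLattice × ↥leechLattice) :=
  {t | t.1 ∈ L 48 ∧ t.2 ∈ {q : ↥leechLattice × ↥leechLattice | q.1 ∈ P t.1 ∧ q.2 ∈ S t.1 q.1}}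

theorem mem_TT (v w x : ↥leechLattice) : (v, w, x) ∈ TT ↔ sqNorm (v : GolayPt → ℤ) = 48 ∧
    sqNorm (w : GolayPt → ℤ) = 48 ∧ dotInt (v : GolayPt → ℤ) (w : GolayPt → ℤ) = -32 ∧ x ∈ S v w := by
  unfold TT P L
  simp only [Set.mem_ofPred_eq, and_assoc]

theorem ncard_TT : TT.ncard = 16773120 * (11178 * 100) := by
  have h := ncard_fibered (L 48) finite_L48
    (fun v : ↥leechLattice => {q : ↥leechLattice × ↥leechLattice | q.1 ∈ P v ∧ q.2 ∈ S v q.1}) (11178 * 100) ?_ ?_
  · rw [ncard_L48] at h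
    exact h
  · intro v hv
    have h2 := ncard_fibered (P v) (finite_P v) (fun w => S v w) 100 (fun w hw => ncard_S v w hv hw.1 hw.2)
      (fun w _ => finite_S v w)
    rw [ncard_P v hv] at h2
    exact h2
  · intro v hv
    apply Set.finite_of_ncard_ne_zero
    have h2 := ncard_fibered (P v) (finite_P v) (fun w => S v w) 100 (fun w hw => ncard_S v w hv hw.1 hw.2)
      (fun w _ => finite_S v w)
    rw [ncard_P v hv] at h2
    rw [h2]
    norm_num

theorem finite_TT : TT.Finite := Set.finite_of_ncard_ne_zero (by rw [ncard_TT]; norm_num)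

theorem t0_mem : t0 ∈ TT := by
  unfold t0
  rw [mem_TT]
  refine ⟨sqNorm_D0, ?_, ?_, ?_⟩
  · show sqNorm (-(D1 : GolayPt → ℤ)) = 48
    rw [sqNorm_neg', sqNorm_D1]
  · show dotInt (D0 : GolayPt → ℤ) (-(D1 : GolayPt → ℤ)) = -32
    rw [dot_neg_right', dot_D0_D1]
  · rw [mem_S_std, mem_S0_iff]
    left
    show pv (pt 0) (pt 1) 4 4 = fA (pt 1)
    decide +kernel

theorem smul_mem_TT (g : ↥Co0) {t : ↥leechLattice × ↥leechLattice × ↥leechLattice} (ht : t ∈ TT) : g • t ∈ TT := by
  obtain ⟨v, w, x⟩ := t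
  rw [mem_TT] at ht
  show (g • v, g • w, g • x) ∈ TT
  rw [mem_TT]
  exact ⟨by rw [co0_norm, ht.1], by rw [co0_norm, ht.2.1], by rw [co0_dot, ht.2.2.1], smul_mem_S g ht.2.2.2⟩

theorem orbit_t0 : MulAction.orbit ↥Co0 t0 = TT := by
  apply Set.eq_of_subset_of_ncard_le
  · rintro t ⟨g, rfl⟩
    exact smul_mem_TT g t0_mem
  · have h1 := Subgroup.card_mul_index (MulAction.stabilizer ↥Co0 t0)
    rw [MulAction.index_stabilizer, card_stab_t0, card_Co0] at h1
    rw [ncard_TT]
    omega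
  · exact finite_TT

/-- the automorphism group is transitive on the triples -/
theorem TT_transitive {t t' : ↥leechLattice × ↥leechLattice × ↥leechLattice} (ht : t ∈ TT) (ht' : t' ∈ TT) :
    ∃ g : ↥Co0, g • t = t' := by
  rw [← orbit_t0] at ht ht'
  obtain ⟨g1, rfl⟩ := ht
  obtain ⟨g2, rfl⟩ := ht'
  refine ⟨g2 * g1⁻¹, ?_⟩
  rw [mul_smul, inv_smul_smul]

theorem S_transitive (v w : ↥leechLattice) (hv : sqNorm (v : GolayPt → ℤ) = 48) (hw : sqNorm (w : GolayPt → ℤ) = 48)
    (hvw : dotInt (v : GolayPt → ℤ) (w : GolayPt → ℤ) = -32) {x x' : ↥leechLattice} (hx : x ∈ S v w)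
    (hx' : x' ∈ S v w) : ∃ g : ↥Co0, g • v = v ∧ g • w = w ∧ g • x = x' := by
  obtain ⟨g, hg⟩ := TT_transitive ((mem_TT v w x).mpr ⟨hv, hw, hvw, hx⟩) ((mem_TT v w x').mpr ⟨hv, hw, hvw, hx'⟩)
  have h : (g • v, g • w, g • x) = (v, w, x') := hg
  rw [Prod.mk.injEq, Prod.mk.injEq] at h
  exact ⟨g, h.1, h.2.1, h.2.2⟩

end Cfsg.Agent.Helper22.HS100
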