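import Cfsg.Agent.Helper22.HS100

/-!
# The rank 3 action on the hundred vectors
-/

set_option autoImplicit false

namespace Cfsg.Agent.Helper22.HS100b

open Cfsg Cfsg.Agent.Helper27 Cfsg.Agent.Helper22.Co0Mono Cfsg.Agent.Helper22.CrossStab
  Cfsg.Agent.Helper22.Co0Center Cfsg.Agent.Helper22.MinTrans Cfsg.Agent.Helper22.Norm6Trans
  Cfsg.Agent.Helper22.Co0Order Cfsg.Agent.Helper22.Summands Cfsg.Agent.Helper22.Census
  Cfsg.Agent.Helper22.QuadForm Cfsg.Agent.Helper22.LeechMod2 Cfsg.Agent.Helper22.Co3Orbit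
  Cfsg.Agent.Helper22.GolayComb Cfsg.Agent.Helper22.Design Cfsg.Agent.Helper22.HS100
open scoped Pointwise

/-- the vectors of the hundred of inner product 8 with `x` -/
def A22 (v w x : ↥leechLattice) : Set ↥leechLattice :=
  {y | y ∈ S v w ∧ dotInt (x : GolayPt → ℤ) (y : GolayPt → ℤ) = 8}

/-- the other vectors of the hundred, apart from `x` -/
def A77 (v w x : ↥leechLattice) : Set ↥leechLattice :=
  {y | y ∈ S v w ∧ y ≠ x ∧ dotInt (x : GolayPt → ℤ) (y : GolayPt → ℤ) ≠ 8}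

theorem smul_S_iff (g : ↥Co0) (v w y : ↥leechLattice) : g • y ∈ S (g • v) (g • w) ↔ y ∈ S v w := by
  constructor
  · intro h
    have := smul_mem_S g⁻¹ h
    rwa [inv_smul_smul, inv_smul_smul, inv_smul_smul] at this
  · exact smul_mem_S g

theorem ncard_A22_smul (g : ↥Co0) (v w x : ↥leechLattice) :
    (A22 (g • v) (g • w) (g • x)).ncard = (A22 v w x).ncard := by
  have himg : (fun y : ↥leechLattice => g • y) '' A22 v w x = A22 (g • v) (g • w) (g • x) := by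
    ext z
    constructor
    · rintro ⟨y, ⟨hy1, hy2⟩, rfl⟩
      exact ⟨smul_mem_S g hy1, by rw [co0_dot, hy2]⟩
    · rintro ⟨hz1, hz2⟩
      refine ⟨g⁻¹ • z, ⟨?_, ?_⟩, smul_inv_smul g z⟩
      · rw [← smul_S_iff g, smul_inv_smul]
        exact hz1
      · rw [← co0_dot g, smul_inv_smul]
        exact hz2
  rw [← himg]
  exact Set.ncard_image_of_injective _ (MulAction.injective g)

theorem ncard_A77_smul (g : ↥Co0) (v w x : ↥leechLattice) :
    (A77 (g • v) (g • w) (g • x)).ncard = (A77 v w x).ncard := by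
  have himg : (fun y : ↥leechLattice => g • y) '' A77 v w x = A77 (g • v) (g • w) (g • x) := by
    ext z
    constructor
    · rintro ⟨y, ⟨hy1, hy2, hy3⟩, rfl⟩
      refine ⟨smul_mem_S g hy1, ?_, by rw [co0_dot]; exact hy3⟩
      intro h
      exact hy2 (MulAction.injective g h)
    · rintro ⟨hz1, hz2, hz3⟩
      refine ⟨g⁻¹ • z, ⟨?_, ?_, ?_⟩, smul_inv_smul g z⟩
      · rw [← smul_S_iff g, smul_inv_smul]
        exact hz1
      · intro h
        apply hz2
        rw [← h, smul_inv_smul]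
      · rw [← co0_dot g, smul_inv_smul]
        exact hz3
  rw [← himg]
  exact Set.ncard_image_of_injective _ (MulAction.injective g)

/-! ### The standard triple -/

theorem a01_coe : (a01 : GolayPt → ℤ) = fA (pt 1) := by
  show pv (pt 0) (pt 1) 4 4 = fA (pt 1)
  decide +kernel

theorem dot_a01 (y : GolayPt → ℤ) : dotInt (a01 : GolayPt → ℤ) y = 4 * y (pt 0) + 4 * y (pt 1) := by
  classical
  show dotInt (pv (pt 0) (pt 1) 4 4) y = _
  simp only [dotInt, pv, Pi.add_apply, Pi.single_apply, add_mul, Finset.sum_add_distrib, ite_mul, zero_mul,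
    Finset.sum_ite_eq', Finset.mem_univ, if_true]

theorem fA_one_zero : fA (pt 1) (pt 0) = 4 := fA_zero (by decide)

/-- the three cases for a vector of the standard hundred -/
theorem std_cases {y : ↥leechLattice} (hy : y ∈ S D0 (-D1)) :
    (y = a01) ∨ ((y : GolayPt → ℤ) ∈ FB ∧ dotInt (a01 : GolayPt → ℤ) (y : GolayPt → ℤ) = 16) ∨
      ((y : GolayPt → ℤ) ∈ FC ∧ dotInt (a01 : GolayPt → ℤ) (y : GolayPt → ℤ) = 8) := by
  have h0 := (mem_S_std y).mp hy
  have h01 : (y : GolayPt → ℤ) (pt 0) = (y : GolayPt → ℤ) (pt 1) := h0.2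
  rcases (mem_S0_iff _).mp h0 with h | h | h
  · left
    apply Subtype.ext
    rw [h, a01_coe]
  · right; left
    refine ⟨h, ?_⟩
    rw [dot_a01, ← h01, FB_zero h]
    norm_num
  · right; right
    refine ⟨h, ?_⟩
    rw [dot_a01, ← h01, FC_zero h]
    norm_num

theorem a01_mem : a01 ∈ S D0 (-D1) := by
  rw [mem_S_std, mem_S0_iff]
  exact Or.inl a01_coe

theorem dot_a01_self : dotInt (a01 : GolayPt → ℤ) (a01 : GolayPt → ℤ) = 32 := by
  rw [dot_self, n3]

theorem A22_std : Subtype.val '' A22 D0 (-D1) a01 = (FC : Set (GolayPt → ℤ)) := by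
  ext z
  constructor
  · rintro ⟨y, ⟨hy1, hy2⟩, rfl⟩
    rcases std_cases hy1 with h | ⟨_, h⟩ | ⟨h, _⟩
    · rw [h, dot_a01_self] at hy2
      norm_num at hy2
    · rw [h] at hy2
      norm_num at hy2
    · exact h
  · intro hz
    have hz0 : z ∈ S0 := (mem_S0_iff z).mpr (Or.inr (Or.inr hz))
    have hzS : (⟨z, hz0.1.1⟩ : ↥leechLattice) ∈ S D0 (-D1) := (mem_S_std _).mpr hz0
    refine ⟨⟨z, hz0.1.1⟩, ⟨hzS, ?_⟩, rfl⟩
    show dotInt (a01 : GolayPt → ℤ) z = 8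
    rw [dot_a01, ← hz0.2, FC_zero hz]
    norm_num

theorem A77_std : Subtype.val '' A77 D0 (-D1) a01 = (FB : Set (GolayPt → ℤ)) := by
  ext z
  constructor
  · rintro ⟨y, ⟨hy1, hy2, hy3⟩, rfl⟩
    rcases std_cases hy1 with h | ⟨h, _⟩ | ⟨_, h⟩
    · exact absurd h hy2
    · exact h
    · exact absurd h hy3
  · intro hz
    have hz0 : z ∈ S0 := (mem_S0_iff z).mpr (Or.inr (Or.inl hz))
    have hzS : (⟨z, hz0.1.1⟩ : ↥leechLattice) ∈ S D0 (-D1) := (mem_S_std _).mpr hz0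
    have hd : dotInt (a01 : GolayPt → ℤ) z = 16 := by
      rw [dot_a01, ← hz0.2, FB_zero hz]
      norm_num
    refine ⟨⟨z, hz0.1.1⟩, ⟨hzS, ?_, ?_⟩, rfl⟩
    · intro h
      have h2 : dotInt (a01 : GolayPt → ℤ) z = 32 := by
        have : z = (a01 : GolayPt → ℤ) := congrArg Subtype.val h
        rw [this, dot_a01_self]
      rw [hd] at h2
      norm_num at h2
    · show dotInt (a01 : GolayPt → ℤ) z ≠ 8
      rw [hd]
      norm_num

theorem ncard_A22_std : (A22 D0 (-D1) a01).ncard = 22 := by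
  rw [← Set.ncard_image_of_injective _ Subtype.val_injective, A22_std, Set.ncard_coe_finset, card_FC]

theorem ncard_A77_std : (A77 D0 (-D1) a01).ncard = 77 := by
  rw [← Set.ncard_image_of_injective _ Subtype.val_injective, A77_std, Set.ncard_coe_finset, card_FB]

/-! ### Transitivity of the stabiliser of the standard triple -/

theorem sp_apply (σ : Equiv.Perm GolayPt) (y : GolayPt → ℤ) (i : GolayPt) : signedPerm σ ∅ y i = y (σ.symm i) := by
  simp only [signedPerm, Finset.notMem_empty, if_false]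

theorem symm_eq_iff (σ : Equiv.Perm GolayPt) (i j : GolayPt) : σ.symm i = j ↔ i = σ j := by
  rw [Equiv.symm_apply_eq]

theorem sp_fA {σ : Equiv.Perm GolayPt} (h0 : σ (pt 0) = pt 0) (j : GolayPt) :
    signedPerm σ ∅ (fA j) = fA (σ j) := by
  unfold fA
  funext i
  rw [sp_apply]
  simp only [Pi.add_apply, Pi.single_apply, symm_eq_iff, h0]

theorem sp_d0 {σ : Equiv.Perm GolayPt} (h0 : σ (pt 0) = pt 0) : signedPerm σ ∅ d0 = d0 := by
  funext i
  rw [sp_apply]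
  unfold d0
  simp only [symm_eq_iff, h0]

theorem sp_fB (σ : Equiv.Perm GolayPt) (O : Finset GolayPt) : signedPerm σ ∅ (fB O) = fB (σ • O) := by
  funext i
  rw [sp_apply]
  unfold fB
  have : σ.symm i ∈ O ↔ i ∈ σ • O := by
    rw [← mem_smul_finset_perm σ O (σ.symm i), Equiv.apply_symm_apply]
  simp only [this]

theorem inj5 {a b c : GolayPt} (ha0 : a ≠ pt 0) (ha1 : a ≠ pt 1) (hb0 : b ≠ pt 0) (hb1 : b ≠ pt 1)
    (hc0 : c ≠ pt 0) (hc1 : c ≠ pt 1) (hab : a ≠ b) (hac : a ≠ c) (hbc : b ≠ c) :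
    Function.Injective ![pt 0, pt 1, a, b, c] := by
  have h01 : pt 0 ≠ pt 1 := by decide
  intro i k h
  fin_cases i <;> fin_cases k <;> simp at h ⊢ <;> first | exact absurd h ‹_› | exact absurd h.symm ‹_›

theorem exists_three {s : Finset GolayPt} (h : 2 < s.card) :
    ∃ a ∈ s, ∃ b ∈ s, ∃ c ∈ s, a ≠ b ∧ a ≠ c ∧ b ≠ c := Finset.two_lt_card.mp h

/-- a permutation in `M24` fixing the first two points and moving `j` to `j'` -/
theorem exists_move_point {j j' : GolayPt} (hj0 : j ≠ pt 0) (hj1 : j ≠ pt 1) (hj0' : j' ≠ pt 0) (hj1' : j' ≠ pt 1) :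
    ∃ σ ∈ M24, σ (pt 0) = pt 0 ∧ σ (pt 1) = pt 1 ∧ σ j = j' := by
  classical
  have key : ∀ q : GolayPt, q ≠ pt 0 → q ≠ pt 1 → ∃ b c : GolayPt, b ≠ pt 0 ∧ b ≠ pt 1 ∧ c ≠ pt 0 ∧ c ≠ pt 1 ∧
      q ≠ b ∧ q ≠ c ∧ b ≠ c := by
    intro q _ _
    have hcard : 2 < (((Finset.univ.erase (pt 0)).erase (pt 1)).erase q).card := by
      have h1 : (Finset.univ.erase (pt 0) : Finset GolayPt).card = 23 := by
        rw [Finset.card_erase_of_mem (Finset.mem_univ _), Finset.card_univ, GolayComb.card_golayPt]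
      have h2 := Finset.pred_card_le_card_erase (s := (Finset.univ.erase (pt 0) : Finset GolayPt)) (a := pt 1)
      have h3 := Finset.pred_card_le_card_erase (s := ((Finset.univ.erase (pt 0)).erase (pt 1) : Finset GolayPt)) (a := q)
      omega
    obtain ⟨a, ha, b, hb, c, hc, hab, hac, hbc⟩ := exists_three hcard
    simp only [Finset.mem_erase, Finset.mem_univ, and_true] at ha hb hc
    by_cases hqa : q = a
    · exact ⟨b, c, hb.2.2, hb.2.1, hc.2.2, hc.2.1, Ne.symm hb.1, Ne.symm hc.1, hbc⟩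
    · by_cases hqb : q = b
      · exact ⟨a, c, ha.2.2, ha.2.1, hc.2.2, hc.2.1, Ne.symm ha.1, Ne.symm hc.1, hac⟩
      · exact ⟨a, b, ha.2.2, ha.2.1, hb.2.2, hb.2.1, Ne.symm ha.1, Ne.symm hb.1, hab⟩
  obtain ⟨b, c, hb0, hb1, hc0, hc1, hjb, hjc, hbc⟩ := key j hj0 hj1
  obtain ⟨b', c', hb0', hb1', hc0', hc1', hjb', hjc', hbc'⟩ := key j' hj0' hj1'
  obtain ⟨σ, hσ, h⟩ := exists_M24_map_five ![pt 0, pt 1, j, b, c] ![pt 0, pt 1, j', b', c']
    (inj5 hj0 hj1 hb0 hb1 hc0 hc1 hjb hjc hbc) (inj5 hj0' hj1' hb0' hb1' hc0' hc1' hjb' hjc' hbc')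
  exact ⟨σ, hσ, h 0, h 1, h 2⟩

/-- a permutation in `M24` fixing the first two points and moving an octad through them to another -/
theorem exists_move_octad {O O' : Finset GolayPt} (hO : O ∈ octThrough {pt 0, pt 1})
    (hO' : O' ∈ octThrough {pt 0, pt 1}) : ∃ σ ∈ M24, σ (pt 0) = pt 0 ∧ σ (pt 1) = pt 1 ∧ σ • O = O' := by
  classical
  rw [mem_octThrough] at hO hO'
  have key : ∀ Q : Finset GolayPt, Q ∈ octads → ({pt 0, pt 1} : Finset GolayPt) ⊆ Q →
      ∃ a b c : GolayPt, a ∈ Q ∧ b ∈ Q ∧ c ∈ Q ∧ a ≠ pt 0 ∧ a ≠ pt 1 ∧ b ≠ pt 0 ∧ b ≠ pt 1 ∧ c ≠ pt 0 ∧ c ≠ pt 1 ∧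
        a ≠ b ∧ a ≠ c ∧ b ≠ c := by
    intro Q hQ _
    have hcard : 2 < ((Q.erase (pt 0)).erase (pt 1)).card := by
      have h2 := Finset.pred_card_le_card_erase (s := Q) (a := pt 0)
      have h3 := Finset.pred_card_le_card_erase (s := Q.erase (pt 0)) (a := pt 1)
      have := hQ.2
      omega
    obtain ⟨a, ha, b, hb, c, hc, hab, hac, hbc⟩ := exists_three hcard
    simp only [Finset.mem_erase] at ha hb hc
    exact ⟨a, b, c, ha.2.2, hb.2.2, hc.2.2, ha.2.1, ha.1, hb.2.1, hb.1, hc.2.1, hc.1, hab, hac, hbc⟩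
  obtain ⟨a, b, c, ha, hb, hc, ha0, ha1, hb0, hb1, hc0, hc1, hab, hac, hbc⟩ := key O hO.1 hO.2
  obtain ⟨a', b', c', ha', hb', hc', ha0', ha1', hb0', hb1', hc0', hc1', hab', hac', hbc'⟩ := key O' hO'.1 hO'.2
  have hx := inj5 ha0 ha1 hb0 hb1 hc0 hc1 hab hac hbc
  obtain ⟨σ, hσ, h⟩ := exists_M24_map_five ![pt 0, pt 1, a, b, c] ![pt 0, pt 1, a', b', c'] hx
    (inj5 ha0' ha1' hb0' hb1' hc0' hc1' hab' hac' hbc')
  have h0O : pt 0 ∈ O := hO.2 (by simp)
  have h1O : pt 1 ∈ O := hO.2 (by simp)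
  have h0O' : pt 0 ∈ O' := hO'.2 (by simp)
  have h1O' : pt 1 ∈ O' := hO'.2 (by simp)
  refine ⟨σ, hσ, h 0, h 1, ?_⟩
  apply smul_octad_eq hσ hO.1 hO'.1 ![pt 0, pt 1, a, b, c] hx
  · intro i
    fin_cases i
    · exact h0O
    · exact h1O
    · exact ha
    · exact hb
    · exact hc
  · intro i
    rw [h i]
    fin_cases i
    · exact h0O'
    · exact h1O'
    · exact ha'
    · exact hb'
    · exact hc'

theorem std_trans {y y' : ↥leechLattice} (hy : y ∈ S D0 (-D1)) (hy' : y' ∈ S D0 (-D1)) (hne : y ≠ a01)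
    (hne' : y' ≠ a01)
    (hiff : dotInt (a01 : GolayPt → ℤ) (y : GolayPt → ℤ) = 8 ↔ dotInt (a01 : GolayPt → ℤ) (y' : GolayPt → ℤ) = 8) :
    ∃ g : ↥Co0, g • t0 = t0 ∧ g • y = y' := by
  classical
  rcases std_cases hy with h | ⟨h, hd⟩ | ⟨h, hd⟩
  · exact absurd h hne
  · rcases std_cases hy' with h' | ⟨h', hd'⟩ | ⟨h', hd'⟩
    · exact absurd h' hne'
    · unfold FB at h h'
      rw [Finset.mem_image] at h h'
      obtain ⟨O, hO, hOy⟩ := h
      obtain ⟨O', hO', hOy'⟩ := h'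
      obtain ⟨σ, hσ, h0, h1, hσO⟩ := exists_move_octad hO hO'
      refine ⟨piCo σ hσ, piCo_fix hσ h0 h1, ?_⟩
      apply Subtype.ext
      rw [piCo_smul, ← hOy, ← hOy', sp_fB, hσO]
    · exfalso
      have := hiff.mpr hd'
      rw [hd] at this
      norm_num at this
  · rcases std_cases hy' with h' | ⟨h', hd'⟩ | ⟨h', hd'⟩
    · exact absurd h' hne'
    · exfalso
      have := hiff.mp hd
      rw [hd'] at this
      norm_num at this
    · unfold FC at h h'
      rw [Finset.mem_image] at h h'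
      obtain ⟨j, hj, hjy⟩ := h
      obtain ⟨j', hj', hjy'⟩ := h'
      simp only [Finset.mem_erase, Finset.mem_univ, and_true] at hj hj'
      obtain ⟨σ, hσ, h0, h1, hσj⟩ := exists_move_point hj.2 hj.1 hj'.2 hj'.1
      refine ⟨piCo σ hσ, piCo_fix hσ h0 h1, ?_⟩
      apply Subtype.ext
      rw [piCo_smul, ← hjy, ← hjy']
      have : signedPerm σ ∅ (d0 - fA j) = signedPerm σ ∅ d0 - signedPerm σ ∅ (fA j) := by
        funext i
        simp only [sp_apply, Pi.sub_apply]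
      rw [this, sp_d0 h0, sp_fA h0, hσj]

/-! ### The general statement -/

theorem rank3 (v w x : ↥leechLattice) (hv : sqNorm (v : GolayPt → ℤ) = 48) (hw : sqNorm (w : GolayPt → ℤ) = 48)
    (hvw : dotInt (v : GolayPt → ℤ) (w : GolayPt → ℤ) = -32) (hx : x ∈ S v w) :
    (A22 v w x).ncard = 22 ∧ (A77 v w x).ncard = 77 ∧
      ∀ y ∈ S v w, ∀ y' ∈ S v w, y ≠ x → y' ≠ x →
        (dotInt (x : GolayPt → ℤ) (y : GolayPt → ℤ) = 8 ↔ dotInt (x : GolayPt → ℤ) (y' : GolayPt → ℤ) = 8) →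
        ∃ g : ↥Co0, g • v = v ∧ g • w = w ∧ g • x = x ∧ g • y = y' := by
  obtain ⟨g0, hg0⟩ := TT_transitive ((mem_TT v w x).mpr ⟨hv, hw, hvw, hx⟩) t0_mem
  have h3 : (g0 • v, g0 • w, g0 • x) = (D0, -D1, a01) := hg0
  rw [Prod.mk.injEq, Prod.mk.injEq] at h3
  obtain ⟨e1, e2, e3⟩ := h3
  refine ⟨?_, ?_, ?_⟩
  · rw [← ncard_A22_smul g0, e1, e2, e3, ncard_A22_std]
  · rw [← ncard_A77_smul g0, e1, e2, e3, ncard_A77_std]
  · intro y hy y' hy' hne hne' hiff
    have hyS : g0 • y ∈ S D0 (-D1) := by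
      have := smul_mem_S g0 hy
      rwa [e1, e2] at this
    have hyS' : g0 • y' ∈ S D0 (-D1) := by
      have := smul_mem_S g0 hy'
      rwa [e1, e2] at this
    have hn : g0 • y ≠ a01 := by
      rw [← e3]
      intro h
      exact hne (MulAction.injective g0 h)
    have hn' : g0 • y' ≠ a01 := by
      rw [← e3]
      intro h
      exact hne' (MulAction.injective g0 h)
    have hiff' : dotInt (a01 : GolayPt → ℤ) ((g0 • y : ↥leechLattice) : GolayPt → ℤ) = 8 ↔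
        dotInt (a01 : GolayPt → ℤ) ((g0 • y' : ↥leechLattice) : GolayPt → ℤ) = 8 := by
      rw [← e3, co0_dot, co0_dot]
      exact hiff
    obtain ⟨h, ht, hyy⟩ := std_trans hyS hyS' hn hn' hiff'
    obtain ⟨f1, f2, f3⟩ := (smul_t0_iff h).mp ht
    have f2' : h • (-D1) = -D1 := by rw [co0_neg, f2]
    refine ⟨g0⁻¹ * h * g0, ?_, ?_, ?_, ?_⟩
    · rw [mul_smul, mul_smul, e1, f1, ← e1, inv_smul_smul]
    · rw [mul_smul, mul_smul, e2, f2', ← e2, inv_smul_smul]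
    · rw [mul_smul, mul_smul, e3, f3, ← e3, inv_smul_smul]
    · rw [mul_smul, mul_smul, hyy, inv_smul_smul]

end Cfsg.Agent.Helper22.HS100b
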