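import Cfsg.Agent.Helper22.HSK

/-!
# The stabiliser of a set of fifty points in the group on a hundred points (definitions)
-/

set_option autoImplicit false

namespace Cfsg.Agent.Helper22.HS352

open Cfsg.Agent.Helper22.HSK

/-- a set of fifty of the hundred points, as a mask -/
def S50 : ℕ := 0xef6ae76b4e9b3cba404001ed1

/-- the permutations of the hundred points preserving the set of fifty points -/
def stab50 : Subgroup (Equiv.Perm (Fin 100)) where
  carrier := {σ | ∀ i : Fin 100, S50.testBit (σ i).1 = S50.testBit i.1}
  mul_mem' := by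
    intro a b ha hb i
    show S50.testBit (a (b i)).1 = _
    rw [ha, hb]
  one_mem' := fun _ => rfl
  inv_mem' := by
    intro a ha i
    have e : a (a⁻¹ i) = i := by simp
    have := ha (a⁻¹ i)
    rw [e] at this
    exact this.symm

theorem mem_stab50 (σ : Equiv.Perm (Fin 100)) :
    σ ∈ stab50 ↔ ∀ i : Fin 100, S50.testBit (σ i).1 = S50.testBit i.1 := Iff.rfl

/-- the stabiliser of the set of fifty points in the group on a hundred points -/
noncomputable def H50 : Subgroup (Equiv.Perm (Fin 100)) := K ⊓ stab50

theorem mem_H50 (σ : Equiv.Perm (Fin 100)) :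
    σ ∈ H50 ↔ σ ∈ K ∧ ∀ i : Fin 100, S50.testBit (σ i).1 = S50.testBit i.1 := Iff.rfl

end Cfsg.Agent.Helper22.HS352
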