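import Cfsg.Agent.Helper22.HS100

/-!
# An involution without fixed points on the hundred vectors
-/

set_option autoImplicit false

namespace Cfsg.Agent.Helper22.HSInvol

open Cfsg Cfsg.Agent.Helper27 Cfsg.Agent.Helper22.Co0Mono Cfsg.Agent.Helper22.CrossStab
  Cfsg.Agent.Helper22.Co0Center Cfsg.Agent.Helper22.MinTrans Cfsg.Agent.Helper22.Norm6Trans
  Cfsg.Agent.Helper22.Co0Order Cfsg.Agent.Helper22.Summands Cfsg.Agent.Helper22.Census
  Cfsg.Agent.Helper22.QuadForm Cfsg.Agent.Helper22.LeechMod2 Cfsg.Agent.Helper22.Co3Orbit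
  Cfsg.Agent.Helper22.HS100 Cfsg.Agent.Helper22.Co2Trans

/-- the dodecad word -/
def c : GolayPt → ZMod 2 := qrWord 0

/-- the complementary dodecad word -/
def c1 : GolayPt → ZMod 2 := qrWord 0 + 1

theorem c_mem : c ∈ golayCode := Submodule.subset_span (Or.inl ⟨0, rfl⟩)

theorem c1_mem : c1 ∈ golayCode := golayCode.add_mem c_mem one_mem_golayCode

/-- `2` on the dodecad -/
def vfn : GolayPt → ℤ := fun p => 2 * ((c p).val : ℤ)

def v1 : ↥leechLattice := ⟨vfn, two_word_mem c_mem⟩

def w1 : ↥leechLattice := -v1 + a01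

theorem sqNorm_v1 : sqNorm (v1 : GolayPt → ℤ) = 48 := by
  show sqNorm vfn = 48
  decide +kernel

theorem sqNorm_w1 : sqNorm (w1 : GolayPt → ℤ) = 48 := by
  show sqNorm (-vfn + pv (pt 0) (pt 1) 4 4) = 48
  decide +kernel

theorem dot_v1_w1 : dotInt (v1 : GolayPt → ℤ) (w1 : GolayPt → ℤ) = -32 := by
  show dotInt vfn (-vfn + pv (pt 0) (pt 1) 4 4) = -32
  decide +kernel

/-- the sign change on the complementary dodecad -/
def eps : ↥Co0 := epsCo c1 c1_mem

theorem eps_v1 : eps • v1 = v1 := by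
  apply Subtype.ext
  show signedPerm 1 (support₂ c1) vfn = vfn
  decide +kernel

theorem eps_w1 : eps • w1 = w1 := by
  apply Subtype.ext
  show signedPerm 1 (support₂ c1) (-vfn + pv (pt 0) (pt 1) 4 4) = -vfn + pv (pt 0) (pt 1) 4 4
  decide +kernel

theorem eps_mul : eps * eps = 1 := by
  apply Subtype.ext
  apply Equiv.ext
  intro x
  apply Subtype.ext
  show ((eps • (eps • x) : ↥leechLattice) : GolayPt → ℤ) = (x : GolayPt → ℤ)
  unfold eps
  rw [epsCo_smul, epsCo_smul]
  funext p
  have e1 : ∀ q : GolayPt, (Equiv.symm (1 : Equiv.Perm GolayPt)) q = q := fun q => rfl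
  by_cases hp : p ∈ support₂ c1 <;> simp [signedPerm, hp, e1]

theorem eps_ne : eps ≠ 1 := by
  intro h
  have h1 : ((eps • E8 (pt 5) : ↥leechLattice) : GolayPt → ℤ) = (E8 (pt 5) : GolayPt → ℤ) := by
    rw [h, one_smul]
  have h2 := congrFun h1 (pt 5)
  revert h2
  show ¬ signedPerm 1 (support₂ c1) (Pi.single (pt 5) 8) (pt 5) = (Pi.single (pt 5) 8 : GolayPt → ℤ) (pt 5)
  decide +kernel

theorem orderOf_eps : orderOf eps = 2 := by
  have : Fact (Nat.Prime 2) := ⟨Nat.prime_two⟩
  apply orderOf_eq_prime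
  · rw [pow_two, eps_mul]
  · exact eps_ne

/-- vectors fixed by the sign change vanish on the complementary dodecad -/
theorem zero_of_fixed {y : ↥leechLattice} (h : eps • y = y) {p : GolayPt} (hp : p ∈ support₂ c1) :
    (y : GolayPt → ℤ) p = 0 := by
  have h1 : signedPerm 1 (support₂ c1) (y : GolayPt → ℤ) p = (y : GolayPt → ℤ) p :=
    congrFun (congrArg Subtype.val h) p
  have e1 : ∀ q : GolayPt, (Equiv.symm (1 : Equiv.Perm GolayPt)) q = q := fun q => rfl
  simp only [signedPerm, e1, if_pos hp] at h1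
  omega

theorem pt5_mem : pt 5 ∈ support₂ c1 := by decide +kernel

theorem vfn_le (p : GolayPt) : vfn p ≤ 2 ∧ -2 ≤ vfn p := by
  have : ∀ p : GolayPt, vfn p ≤ 2 ∧ -2 ≤ vfn p := by decide +kernel
  exact this p

theorem card_supp_c : (support₂ c).card = 12 := by decide +kernel

theorem supp_compl (p : GolayPt) : p ∈ support₂ c1 ↔ p ∉ support₂ c := by
  have : ∀ p : GolayPt, p ∈ support₂ c1 ↔ p ∉ support₂ c := by decide +kernel
  exact this p

/-- no octad lies inside the dodecad -/
theorem no_octad_in {O : Finset GolayPt} (hO : O ∈ octads) (hsub : O ⊆ support₂ c) : False := by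
  classical
  obtain ⟨⟨w, hw, rfl⟩, hcard⟩ := hO
  have hmem : w + c ∈ golayCode := golayCode.add_mem hw c_mem
  have hsupp : support₂ (w + c) = support₂ c \ support₂ w := by
    ext p
    have hp : p ∈ support₂ w → p ∈ support₂ c := fun h => hsub h
    simp only [support₂, Finset.mem_filter, Finset.mem_univ, true_and, Finset.mem_sdiff, Pi.add_apply] at hp ⊢
    have h2 : ∀ a b : ZMod 2, (a ≠ 0 → b ≠ 0) → (a + b ≠ 0 ↔ b ≠ 0 ∧ ¬ a ≠ 0) := by decide
    exact h2 _ _ hp
  have hnorm : hammingNorm (w + c) = 4 := by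
    have : hammingNorm (w + c) = (support₂ (w + c)).card := rfl
    rw [this, hsupp, Finset.card_sdiff_of_subset hsub, card_supp_c, hcard]
  rcases golay_weights hmem with h | h | h | h | h <;> rw [hnorm] at h <;> norm_num at h

theorem no_fixed {y : ↥leechLattice} (hy : y ∈ S v1 w1) : eps • y ≠ y := by
  classical
  intro hfix
  obtain ⟨hn, hd, -⟩ := hy
  have hd' : dotInt vfn (y : GolayPt → ℤ) = 24 := hd
  rcases min_shapes y.2 hn with h | h | h
  · obtain ⟨i, j, hij, hi, hj, hrest⟩ := h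
    have hsum : dotInt vfn (y : GolayPt → ℤ) = vfn i * (y : GolayPt → ℤ) i + vfn j * (y : GolayPt → ℤ) j := by
      unfold dotInt
      rw [← Finset.sum_subset (Finset.subset_univ {i, j}) (fun p _ hp => by
        simp only [Finset.mem_insert, Finset.mem_singleton, not_or] at hp
        rw [hrest p hp.1 hp.2, mul_zero]), Finset.sum_pair hij]
    rw [hsum] at hd'
    have b1 := vfn_le i
    have b2 := vfn_le j
    rcases hi with hi | hi <;> rcases hj with hj | hj <;> rw [hi, hj] at hd' <;> omega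
  · obtain ⟨O, hO, hval, hzero⟩ := h
    apply no_octad_in hO
    intro p hp
    by_contra hc
    have h0 := zero_of_fixed hfix ((supp_compl p).mpr hc)
    rcases hval p hp with h' | h' <;> omega
  · have h0 := zero_of_fixed hfix pt5_mem
    have := shapeC_entry h (pt 5)
    omega

/-- the general statement -/
theorem exists_invol (v w : ↥leechLattice) (hv : sqNorm (v : GolayPt → ℤ) = 48) (hw : sqNorm (w : GolayPt → ℤ) = 48)
    (hvw : dotInt (v : GolayPt → ℤ) (w : GolayPt → ℤ) = -32) :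
    ∃ g : ↥Co0, g • v = v ∧ g • w = w ∧ orderOf g = 2 ∧ ∀ x ∈ S v w, g • x ≠ x := by
  obtain ⟨h1, a1, a2⟩ := to_std v w hv hw hvw
  obtain ⟨h2, b1, b2⟩ := to_std v1 w1 sqNorm_v1 sqNorm_w1 dot_v1_w1
  -- `h` carries `(v, w)` to `(v1, w1)`
  have e1 : (h2⁻¹ * h1) • v = v1 := by rw [mul_smul, a1, ← b1, inv_smul_smul]
  have e2 : (h2⁻¹ * h1) • w = w1 := by rw [mul_smul, a2, ← b2, inv_smul_smul]
  generalize h2⁻¹ * h1 = h at e1 e2
  refine ⟨h⁻¹ * eps * h, ?_, ?_, ?_, ?_⟩
  · rw [mul_smul, mul_smul, e1, eps_v1, ← e1, inv_smul_smul]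
  · rw [mul_smul, mul_smul, e2, eps_w1, ← e2, inv_smul_smul]
  · have : Fact (Nat.Prime 2) := ⟨Nat.prime_two⟩
    apply orderOf_eq_prime
    · rw [pow_two]
      calc h⁻¹ * eps * h * (h⁻¹ * eps * h) = h⁻¹ * (eps * eps) * h := by group
        _ = 1 := by rw [eps_mul]; group
    · intro hone
      apply eps_ne
      have : eps = h * (h⁻¹ * eps * h) * h⁻¹ := by group
      rw [this, hone]
      group
  · intro x hx hfix
    have hx' : h • x ∈ S v1 w1 := by
      have := smul_mem_S h hx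
      rwa [e1, e2] at this
    apply no_fixed hx'
    rw [mul_smul, mul_smul] at hfix
    have := congrArg (fun z => h • z) hfix
    simp only [smul_inv_smul] at this
    exact this

end Cfsg.Agent.Helper22.HSInvol
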