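import Cfsg.Agent.Helper22.HSKData
import Cfsg.Agent.Helper22.HSGraph

/-!
# Kernel facts about the group of order 44352000 on a hundred points
-/

set_option autoImplicit false

namespace Cfsg.Agent.Helper22.HSK

open Cfsg.Agent.Helper22.PermPack Cfsg.Agent.Helper22.HSKData Cfsg.Agent.Helper22.GraphRefine
  Cfsg.Agent.Helper22.HSGraph

/-! ### The group -/

theorem zu_goodK : zu.all (goodB 100 7) = true := by decide +kernel

theorem gens_goodK : gens.all (goodB 100 7) = true := by decide +kernel

theorem chain_okK : chainOK 100 7 gens levels = true := by decide +kernel

theorem prod_levels : (levels.map fun L => L.m).prod = 44352000 := by decide +kernel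

theorem slp_okK : slpOK 100 7 zu slp = true := by decide +kernel

theorem gens_subK : (gens.all fun y => zu.contains y || slp.any fun e => e.1 == y) = true := by decide +kernel

theorem zu_subK : (zu.all fun y => gens.contains y) = true := by decide +kernel

theorem zu_autK : zu.all (autB 100 7 adjHS) = true := by decide +kernel

/-- a table agrees with the product along a path -/
def isPath (ls : List Lv) (t : ℕ) (p : List ℕ) : Bool :=
  pathValid ls p && withNat t fun t' => withList (pathTabs 100 7 ls p) fun ts =>
    allN 100 fun i => Nat.beq (slot 7 t' i) (compLook 7 ts i)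

/-! ### The element of order seven -/

/-- the table of a power -/
def upow (e : ℕ) : ℕ := upows.getD e 0

/-- the check of the powers -/
def upowsB : Bool :=
  (allN 100 fun i => Nat.beq (slot 7 (upow 0) i) i) &&
    (allN 6 fun e => withNat (upow e) fun a => withNat (upow (e + 1)) fun b =>
      allN 100 fun i => Nat.beq (slot 7 b i) (slot 7 uT (slot 7 a i))) &&
    (withNat (upow 6) fun a => allN 100 fun i => Nat.beq (slot 7 uT (slot 7 a i)) i) &&
    !(Nat.beq (slot 7 uT 0) 0)

theorem upows_okK : upowsB = true := by decide +kernel

/-- the check of the normalising element -/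
def nB : Bool :=
  goodB 100 7 nT && isPath levels nT nPath &&
    withNat (upow 3) fun u3 => allN 100 fun i => Nat.beq (slot 7 nT (slot 7 uT i)) (slot 7 u3 (slot 7 nT i))

theorem n_okK : nB = true := by decide +kernel

/-! ### The subgroup of order 512 -/

theorem sY_goodK : sY.all (goodB 100 7) = true := by decide +kernel

theorem schain_okK : chainOK 100 7 sY slevels = true := by decide +kernel

theorem prod_slevels : (slevels.map fun L => L.m).prod = 512 := by decide +kernel

/-- the generators of the subgroup lie in the group -/
def ssubB : Bool := allN sY.length fun j => isPath levels (sY.getD j 0) (sPaths.getD j [])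

theorem ssub_okK : ssubB = true := by decide +kernel

theorem zS_okK : isPath slevels zT zSPath = true := by decide +kernel

/-- the check of the centre: an element commuting with the generators is the identity or the involution -/
def centreB : Bool :=
  allN 64 fun k0 => allN 2 fun k1 => allN 4 fun k2 =>
    withList (pathTabs 100 7 slevels [k0, k1, k2]) fun ts =>
      !(sY.all fun y => allN 100 fun i => Nat.beq (slot 7 y (compLook 7 ts i)) (compLook 7 ts (slot 7 y i))) ||
        (allN 100 fun i => Nat.beq (compLook 7 ts i) i) ||
        (allN 100 fun i => Nat.beq (compLook 7 ts i) (slot 7 zT i))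

theorem centre_okK : centreB = true := by decide +kernel

/-- the involution commutes with the generators of the subgroup -/
def zcommB : Bool :=
  sY.all fun y => allN 100 fun i => Nat.beq (slot 7 y (slot 7 zT i)) (slot 7 zT (slot 7 y i))

theorem zcomm_okK : zcommB = true := by decide +kernel

/-! ### The conjugates of the involution -/

/-- the table of a conjugate -/
def cls (j : ℕ) : ℕ := slot 700 (clsParts.getD (Nat.div j 525) 0) (Nat.mod j 525)

/-- the check of the conjugation on the list of conjugates -/
def clsB : Bool :=
  Nat.beq (cls 0) zT &&
    allN 5775 fun j => withNat (slot 13 conjZ j) fun jz => withNat (slot 13 conjU j) fun ju =>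
      Nat.blt jz 5775 && Nat.blt ju 5775 &&
        withNat (cls j) fun c => withNat (cls jz) fun cz => withNat (cls ju) fun cu =>
          allN 100 fun i =>
            Nat.beq (slot 7 zT (slot 7 c i)) (slot 7 cz (slot 7 zT i)) &&
              Nat.beq (slot 7 uT (slot 7 c i)) (slot 7 cu (slot 7 uT i))

theorem cls_okK : clsB = true := by decide +kernel

/-- the value of a word in a table and the powers of the element of order seven -/
def relLook (c : ℕ) : List ℕ → ℕ → ℕ
  | [], i => i
  | e :: L, i => slot 7 c (slot 7 (upow e) (relLook c L i))

/-- the relations hold for the involution -/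
def relsB : Bool :=
  rels.all fun L => (L.all fun e => Nat.blt e 7) && allN 100 fun i => Nat.beq (relLook zT L i) i

theorem rels_okK : relsB = true := by decide +kernel

/-- the other conjugates violate a relation -/
def filterB : Bool :=
  allN 5775 fun j => good14.contains j ||
    withNat (cls j) fun c => withNat (slot 10 wits j) fun e =>
      withList (rels.getD (Nat.mod e 8) []) fun L => withNat (Nat.div e 8) fun i =>
        Nat.blt (Nat.mod e 8) rels.length && Nat.blt i 100 && !(Nat.beq (relLook c L i) i)

theorem filter_okK : filterB = true := by decide +kernel

/-! ### The outer involution -/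

/-- the check of the outer involution -/
def tB : Bool :=
  goodB 100 7 tT && (allN 100 fun i => Nat.beq (slot 7 tT (slot 7 tT i)) i) &&
    pathValid levels tzPath && pathValid levels tuPath &&
    (withList (pathTabs 100 7 levels tzPath) fun ts =>
      allN 100 fun i => Nat.beq (slot 7 tT (slot 7 zT i)) (compLook 7 ts (slot 7 tT i))) &&
    (withList (pathTabs 100 7 levels tuPath) fun ts =>
      allN 100 fun i => Nat.beq (slot 7 tT (slot 7 uT i)) (compLook 7 ts (slot 7 tT i))) &&
    (levels.all fun L => Nat.beq (slot 7 tT L.b) L.b) && !(Nat.beq (slot 7 tT 2) 2)

theorem t_okK : tB = true := by decide +kernel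

end Cfsg.Agent.Helper22.HSK
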