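import Cfsg.Agent.Helper22.HSKChk

/-!
# Kernel facts about the group of order 44352000 on a hundred points: transitivity
-/

set_option autoImplicit false

namespace Cfsg.Agent.Helper22.HSK

open Cfsg.Agent.Helper22.PermPack Cfsg.Agent.Helper22.HSKData

/-- the check of the transitivity -/
def transB : Bool := allN 100 fun γ => withNat (slot 7 L0.pos γ) fun k =>
  pathValid levels [k, 0, 0, 0, 0] && Nat.beq (pathLook 100 7 levels [k, 0, 0, 0, 0] 0) γ

theorem trans_okK : transB = true := by decide +kernel

/-- each point but the first one is moved by a strong generator fixing the first one -/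
def moveB : Bool := allN 100 fun a => Nat.beq a 0 ||
  gens.any fun y => Nat.beq (slot 7 y 0) 0 && !(Nat.beq (slot 7 y a) a)

theorem move_okK : moveB = true := by decide +kernel

end Cfsg.Agent.Helper22.HSK
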