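import Cfsg.Agent.Helper22.HSGraph

/-!
# The graph on a hundred points is strongly regular with parameters (100, 22, 0, 6)
-/

set_option autoImplicit false

namespace Cfsg.Agent.Helper22.HSSrg

open Cfsg.Agent.Helper22.PermPack Cfsg.Agent.Helper22.GraphRefine Cfsg.Agent.Helper22.HSGraph

/-- the number of the common neighbours -/
def cmn (i j : ℕ) : ℕ := sumN 100 fun z => bif (adjB 100 adjHS i z && adjB 100 adjHS j z) then 1 else 0

/-- the valency -/
def valN (i : ℕ) : ℕ := sumN 100 fun z => bif adjB 100 adjHS i z then 1 else 0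

theorem symm_okK : (allN 100 fun i => allN 100 fun j =>
    (adjB 100 adjHS i j == adjB 100 adjHS j i) && (!(Nat.beq i j) || !(adjB 100 adjHS i j))) = true := by
  decide +kernel

theorem val_okK : (allN 100 fun i => Nat.beq (valN i) 22) = true := by decide +kernel

theorem cmn_okK : (allN 100 fun i => allN 100 fun j =>
    Nat.beq i j || Nat.beq (cmn i j) (bif adjB 100 adjHS i j then 0 else 6)) = true := by
  decide +kernel

attribute [local irreducible] adjHS

theorem adjB_symm (i j : Fin 100) : adjB 100 adjHS i.1 j.1 = adjB 100 adjHS j.1 i.1 := by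
  have h := allN_spec (allN_spec symm_okK i.1 i.2) j.1 j.2
  rw [Bool.and_eq_true] at h
  exact beq_iff_eq.mp h.1

theorem adjB_irrefl (i : Fin 100) : adjB 100 adjHS i.1 i.1 = false := by
  have h := allN_spec (allN_spec symm_okK i.1 i.2) i.1 i.2
  rw [Bool.and_eq_true, Bool.or_eq_true] at h
  rcases h.2 with h' | h'
  · rw [Nat.beq_refl] at h'
    exact absurd h' (by decide)
  · rwa [Bool.not_eq_true'] at h'

/-- the graph on a hundred points -/
def hsGraph : SimpleGraph (Fin 100) where
  Adj i j := adjB 100 adjHS i.1 j.1 = true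
  symm := ⟨by
    intro i j h
    show adjB 100 adjHS j.1 i.1 = true
    rw [← adjB_symm]
    exact h⟩
  loopless := ⟨by
    intro i h
    change adjB 100 adjHS i.1 i.1 = true at h
    rw [adjB_irrefl] at h
    exact Bool.false_ne_true h⟩

theorem hsGraph_adj (i j : Fin 100) : hsGraph.Adj i j ↔ adjB 100 adjHS i.1 j.1 = true := Iff.rfl

instance : DecidableRel hsGraph.Adj := fun i j =>
  decidable_of_iff (adjB 100 adjHS i.1 j.1 = true) (hsGraph_adj i j).symm

theorem card_common (i j : Fin 100) [Fintype ↥(hsGraph.commonNeighbors i j)] :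
    Fintype.card ↥(hsGraph.commonNeighbors i j) = cmn i.1 j.1 := by
  classical
  rw [Fintype.card_of_subtype (Finset.univ.filter fun z : Fin 100 =>
    (adjB 100 adjHS i.1 z.1 && adjB 100 adjHS j.1 z.1) = true)]
  · rw [Finset.card_filter, cmn, sumN_eq]
    apply Finset.sum_congr rfl
    intro z _
    generalize (adjB 100 adjHS i.1 z.1 && adjB 100 adjHS j.1 z.1) = t
    cases t <;> rfl
  · intro z
    rw [Finset.mem_filter, SimpleGraph.mem_commonNeighbors, hsGraph_adj, hsGraph_adj, Bool.and_eq_true]
    exact ⟨fun h => h.2, fun h => ⟨Finset.mem_univ _, h⟩⟩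

theorem hsGraph_srg [DecidableRel hsGraph.Adj] : hsGraph.IsSRGWith 100 22 0 6 where
  card := Fintype.card_fin 100
  regular := by
    intro v
    classical
    rw [SimpleGraph.degree, SimpleGraph.neighborFinset_eq_filter, Finset.card_filter]
    have h : valN v.1 = 22 := Nat.eq_of_beq_eq_true (allN_spec val_okK v.1 v.2)
    rw [← h, valN, sumN_eq]
    apply Finset.sum_congr rfl
    intro z _
    by_cases hz : adjB 100 adjHS v.1 z.1 = true
    · rw [if_pos ((hsGraph_adj v z).mpr hz), hz]
      rfl
    · rw [if_neg (fun h' => hz ((hsGraph_adj v z).mp h'))]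
      rw [Bool.not_eq_true] at hz
      rw [hz]
      rfl
  of_adj := by
    intro v w hvw
    rw [card_common]
    have h := allN_spec (allN_spec cmn_okK v.1 v.2) w.1 w.2
    rw [Bool.or_eq_true] at h
    rcases h with h | h
    · have : v = w := Fin.ext (Nat.eq_of_beq_eq_true h)
      exact absurd hvw (this ▸ hsGraph.loopless.irrefl v)
    · have h' := Nat.eq_of_beq_eq_true h
      rw [(hsGraph_adj v w).mp hvw] at h'
      exact h'
  of_not_adj := by
    intro v w hne hvw
    rw [card_common]
    have h := allN_spec (allN_spec cmn_okK v.1 v.2) w.1 w.2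
    rw [Bool.or_eq_true] at h
    rcases h with h | h
    · exact absurd (Fin.ext (Nat.eq_of_beq_eq_true h)) hne
    · have hf : adjB 100 adjHS v.1 w.1 = false := by
        rw [← Bool.not_eq_true]
        exact fun h' => hvw ((hsGraph_adj v w).mpr h')
      have h' := Nat.eq_of_beq_eq_true h
      rw [hf] at h'
      exact h'

end Cfsg.Agent.Helper22.HSSrg
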