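import Cfsg.Agent.Helper22.Hexacode

/-!
# Monomial automorphisms of the hexacode: model-level computations over `Fin 4`.
-/

set_option autoImplicit false

namespace Cfsg.Agent.Helper22.HexMono

open Cfsg Cfsg.Agent.Helper22.F4 Cfsg.Agent.Helper22.Hexa

/-- decoding from the first three coordinates -/
def dec3 (m : Fin 6 → Fin 4) : P :=
  (add4 (mul4 2 (m 0)) (mul4 3 (m 1)), add4 (add4 (mul4 3 (m 0)) (mul4 3 (m 1))) (m 2), add4 (m 1) (m 2))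

theorem dec3_enc : ∀ p : P, dec3 (encM p) = p := by decide +kernel

/-- membership test for the model code -/
def inC (m : Fin 6 → Fin 4) : Bool := decide (encM (dec3 m) = m)

theorem inC_iff (m : Fin 6 → Fin 4) : inC m = true ↔ ∃ p : P, encM p = m := by
  rw [inC, decide_eq_true_iff]
  constructor
  · intro h; exact ⟨_, h⟩
  · rintro ⟨p, rfl⟩
    rw [dec3_enc]

/-- the monomial action on model words; `s` is the inverse of the permutation -/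
def actF (s : Fin 6 → Fin 6) (c m : Fin 6 → Fin 4) : Fin 6 → Fin 4 := fun i => mul4 (c i) (m (s i))

/-- the monomial map preserves the model code -/
def goodM (s : Fin 6 → Fin 6) (c : Fin 6 → Fin 4) : Bool :=
  inC (actF s c G1) && inC (actF s c G2) && inC (actF s c G3)

/-- a transposition as a function -/
def swF (a b : Fin 6) (i : Fin 6) : Fin 6 := if i = a then b else if i = b then a else i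

theorem swap_eq_swF (a b i : Fin 6) : Equiv.swap a b i = swF a b i := Equiv.swap_apply_def a b i

theorem diag_only : ∀ a0 a1 a2 a3 a4 a5 : Fin 4, a0 ≠ 0 → a1 ≠ 0 → a2 ≠ 0 → a3 ≠ 0 → a4 ≠ 0 → a5 ≠ 0 →
    goodM id ![a0, a1, a2, a3, a4, a5] = true → a0 = a1 ∧ a0 = a2 ∧ a0 = a3 ∧ a0 = a4 ∧ a0 = a5 := by
  decide +kernel

theorem no01 : ∀ a0 a1 a2 a3 a4 a5 : Fin 4, a0 ≠ 0 → a1 ≠ 0 → a2 ≠ 0 → a3 ≠ 0 → a4 ≠ 0 → a5 ≠ 0 →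
    ¬ (goodM (swF 0 1) ![a0, a1, a2, a3, a4, a5] = true) := by
  decide +kernel

/-- the scalar vectors realising the three-cycles -/
def witL : List (List (Fin 4)) := [
  [0,0,0,0,0,0],
  [0,0,0,0,0,0],
  [0,0,0,0,0,0],
  [0,0,0,0,0,0],
  [0,0,0,0,0,0],
  [0,0,0,0,0,0],
  [0,0,0,0,0,0],
  [0,0,0,0,0,0],
  [1,1,1,1,3,2],
  [1,1,1,1,2,3],
  [1,1,3,2,1,1],
  [1,1,2,3,1,1],
  [0,0,0,0,0,0],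
  [1,1,1,1,2,3],
  [0,0,0,0,0,0],
  [1,1,1,1,3,2],
  [1,3,2,1,3,2],
  [1,2,3,1,3,2],
  [0,0,0,0,0,0],
  [1,1,1,1,3,2],
  [1,1,1,1,2,3],
  [0,0,0,0,0,0],
  [1,2,1,3,2,3],
  [1,3,1,2,2,3],
  [0,0,0,0,0,0],
  [1,1,2,3,1,1],
  [1,3,3,2,2,1],
  [1,2,3,2,3,1],
  [0,0,0,0,0,0],
  [1,1,3,2,1,1],
  [0,0,0,0,0,0],
  [1,1,3,2,1,1],
  [1,2,2,3,1,3],
  [1,3,2,3,1,2],
  [1,1,2,3,1,1],
  [0,0,0,0,0,0],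
  [0,0,0,0,0,0],
  [0,0,0,0,0,0],
  [1,1,1,1,2,3],
  [1,1,1,1,3,2],
  [1,1,2,3,1,1],
  [1,1,3,2,1,1],
  [0,0,0,0,0,0],
  [0,0,0,0,0,0],
  [0,0,0,0,0,0],
  [0,0,0,0,0,0],
  [0,0,0,0,0,0],
  [0,0,0,0,0,0],
  [1,1,1,1,3,2],
  [0,0,0,0,0,0],
  [0,0,0,0,0,0],
  [1,1,1,1,2,3],
  [1,3,2,3,1,2],
  [1,2,3,2,3,1],
  [1,1,1,1,2,3],
  [0,0,0,0,0,0],
  [1,1,1,1,3,2],
  [0,0,0,0,0,0],
  [1,2,2,3,1,3],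
  [1,3,3,2,2,1],
  [1,1,3,2,1,1],
  [0,0,0,0,0,0],
  [1,3,1,2,2,3],
  [1,2,3,1,3,2],
  [0,0,0,0,0,0],
  [1,1,2,3,1,1],
  [1,1,2,3,1,1],
  [0,0,0,0,0,0],
  [1,2,1,3,2,3],
  [1,3,2,1,3,2],
  [1,1,3,2,1,1],
  [0,0,0,0,0,0],
  [0,0,0,0,0,0],
  [1,1,1,1,3,2],
  [0,0,0,0,0,0],
  [1,1,1,1,2,3],
  [1,3,3,2,2,1],
  [1,2,2,3,1,3],
  [1,1,1,1,2,3],
  [0,0,0,0,0,0],
  [0,0,0,0,0,0],
  [1,1,1,1,3,2],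
  [1,3,1,2,2,3],
  [1,2,1,3,2,3],
  [0,0,0,0,0,0],
  [0,0,0,0,0,0],
  [0,0,0,0,0,0],
  [0,0,0,0,0,0],
  [0,0,0,0,0,0],
  [0,0,0,0,0,0],
  [1,1,1,1,3,2],
  [1,1,1,1,2,3],
  [0,0,0,0,0,0],
  [0,0,0,0,0,0],
  [1,3,2,2,2,2],
  [1,2,3,3,3,3],
  [1,3,2,1,3,2],
  [1,3,2,3,1,2],
  [0,0,0,0,0,0],
  [1,2,3,3,3,3],
  [0,0,0,0,0,0],
  [1,3,2,2,2,2],
  [1,2,3,1,3,2],
  [1,2,3,2,3,1],
  [0,0,0,0,0,0],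
  [1,3,2,2,2,2],
  [1,2,3,3,3,3],
  [0,0,0,0,0,0],
  [0,0,0,0,0,0],
  [1,1,1,1,2,3],
  [1,1,1,1,3,2],
  [0,0,0,0,0,0],
  [1,2,3,2,3,1],
  [1,3,2,3,1,2],
  [1,1,1,1,3,2],
  [0,0,0,0,0,0],
  [1,1,1,1,2,3],
  [0,0,0,0,0,0],
  [1,2,3,1,3,2],
  [1,3,2,1,3,2],
  [1,1,1,1,2,3],
  [1,1,1,1,3,2],
  [0,0,0,0,0,0],
  [0,0,0,0,0,0],
  [1,2,3,3,3,3],
  [1,3,2,2,2,2],
  [0,0,0,0,0,0],
  [0,0,0,0,0,0],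
  [0,0,0,0,0,0],
  [0,0,0,0,0,0],
  [0,0,0,0,0,0],
  [0,0,0,0,0,0],
  [1,2,1,3,2,3],
  [1,2,2,3,1,3],
  [1,3,2,2,2,2],
  [0,0,0,0,0,0],
  [0,0,0,0,0,0],
  [1,2,3,3,3,3],
  [1,3,1,2,2,3],
  [1,3,3,2,2,1],
  [1,2,3,3,3,3],
  [0,0,0,0,0,0],
  [1,3,2,2,2,2],
  [0,0,0,0,0,0],
  [0,0,0,0,0,0],
  [1,1,3,2,1,1],
  [1,3,2,1,3,2],
  [1,2,1,3,2,3],
  [0,0,0,0,0,0],
  [1,1,2,3,1,1],
  [1,1,2,3,1,1],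
  [0,0,0,0,0,0],
  [1,3,2,3,1,2],
  [1,2,2,3,1,3],
  [0,0,0,0,0,0],
  [1,1,3,2,1,1],
  [1,3,3,2,2,1],
  [1,3,1,2,2,3],
  [0,0,0,0,0,0],
  [1,3,2,2,2,2],
  [0,0,0,0,0,0],
  [1,2,3,3,3,3],
  [1,2,3,2,3,1],
  [1,2,3,1,3,2],
  [1,2,3,3,3,3],
  [0,0,0,0,0,0],
  [0,0,0,0,0,0],
  [1,3,2,2,2,2],
  [0,0,0,0,0,0],
  [0,0,0,0,0,0],
  [0,0,0,0,0,0],
  [0,0,0,0,0,0],
  [0,0,0,0,0,0],
  [0,0,0,0,0,0],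
  [1,1,3,2,1,1],
  [1,1,2,3,1,1],
  [1,3,2,2,2,2],
  [1,2,3,3,3,3],
  [0,0,0,0,0,0],
  [0,0,0,0,0,0],
  [0,0,0,0,0,0],
  [1,1,2,3,1,1],
  [1,2,3,1,3,2],
  [1,3,1,2,2,3],
  [1,1,3,2,1,1],
  [0,0,0,0,0,0],
  [1,1,3,2,1,1],
  [0,0,0,0,0,0],
  [1,2,3,2,3,1],
  [1,3,3,2,2,1],
  [1,1,2,3,1,1],
  [0,0,0,0,0,0],
  [1,2,2,3,1,3],
  [1,2,1,3,2,3],
  [0,0,0,0,0,0],
  [1,2,3,3,3,3],
  [1,3,2,2,2,2],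
  [0,0,0,0,0,0],
  [1,3,2,3,1,2],
  [1,3,2,1,3,2],
  [1,3,2,2,2,2],
  [0,0,0,0,0,0],
  [1,2,3,3,3,3],
  [0,0,0,0,0,0],
  [1,1,2,3,1,1],
  [1,1,3,2,1,1],
  [1,2,3,3,3,3],
  [1,3,2,2,2,2],
  [0,0,0,0,0,0],
  [0,0,0,0,0,0],
  [0,0,0,0,0,0],
  [0,0,0,0,0,0],
  [0,0,0,0,0,0],
  [0,0,0,0,0,0],
  [0,0,0,0,0,0],
  [0,0,0,0,0,0]]

/-- the scalar vector for the three-cycle `swap a b * swap b c` -/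
def witF (a b c : Fin 6) : Fin 6 → Fin 4 := fun i => (witL.getD (a.val * 36 + b.val * 6 + c.val) []).getD i.val 0

theorem three_ok : ∀ a b c : Fin 6, a ≠ b → b ≠ c → a ≠ c →
    (∀ i, witF a b c i ≠ 0) ∧ goodM (fun i => swF b c (swF a b i)) (witF a b c) = true := by
  decide +kernel

theorem vec_eta (c : Fin 6 → Fin 4) : c = ![c 0, c 1, c 2, c 3, c 4, c 5] := by
  funext i
  fin_cases i <;> rfl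

end Cfsg.Agent.Helper22.HexMono
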