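import Cfsg.Prelude.Def_SporadicCombinatorics
import Cfsg.Agent.Helper22.F4
import Mathlib

set_option autoImplicit false
open Cfsg

namespace Cfsg.Agent.Helper22.Hexa

open Cfsg.Agent.Helper22.F4

/-- Parameter space of the hexacode. -/
abbrev P := Fin 4 × Fin 4 × Fin 4

def G1 : Fin 6 → Fin 4 := ![2,3,3,2,3,2]
def G2 : Fin 6 → Fin 4 := ![3,2,2,3,3,2]
def G3 : Fin 6 → Fin 4 := ![3,2,3,2,2,3]

/-- Model words over `Fin 4`. -/
def encM (c : P) : Fin 6 → Fin 4 := fun i =>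
  add4 (add4 (mul4 c.1 (G1 i)) (mul4 c.2.1 (G2 i))) (mul4 c.2.2 (G3 i))

variable {F : Type*} [Field F] [Fintype F]

/-- The actual words. -/
def enc (ω : F) (c : P) : Fin 6 → F := fun i => el ω (encM c i)

variable {ω : F}

theorem el_G1 (hF : Fintype.card F = 4) (hω : ω ^ 2 + ω + 1 = 0) (i : Fin 6) :
    el ω (G1 i) = ![ω, ω ^ 2, ω ^ 2, ω, ω ^ 2, ω] i := by
  have h3 := el_three hF hω
  fin_cases i <;> simp [G1, ← h3] <;> rfl

theorem el_G2 (hF : Fintype.card F = 4) (hω : ω ^ 2 + ω + 1 = 0) (i : Fin 6) :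
    el ω (G2 i) = ![ω ^ 2, ω, ω, ω ^ 2, ω ^ 2, ω] i := by
  have h3 := el_three hF hω
  fin_cases i <;> simp [G2, ← h3] <;> rfl

theorem el_G3 (hF : Fintype.card F = 4) (hω : ω ^ 2 + ω + 1 = 0) (i : Fin 6) :
    el ω (G3 i) = ![ω ^ 2, ω, ω ^ 2, ω, ω, ω ^ 2] i := by
  have h3 := el_three hF hω
  fin_cases i <;> simp [G3, ← h3] <;> rfl

theorem enc_eq (hF : Fintype.card F = 4) (hω : ω ^ 2 + ω + 1 = 0) (c : P) :
    enc ω c = el ω c.1 • ![ω, ω ^ 2, ω ^ 2, ω, ω ^ 2, ω] + el ω c.2.1 • ![ω ^ 2, ω, ω, ω ^ 2, ω ^ 2, ω]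
      + el ω c.2.2 • ![ω ^ 2, ω, ω ^ 2, ω, ω, ω ^ 2] := by
  funext i
  simp only [enc, encM, Pi.add_apply, Pi.smul_apply, smul_eq_mul]
  rw [el_add hF, el_add hF, el_mul hF hω, el_mul hF hω, el_mul hF hω, el_G1 hF hω, el_G2 hF hω,
    el_G3 hF hω]

theorem mem_hexacode_iff (hF : Fintype.card F = 4) (hω : ω ^ 2 + ω + 1 = 0) (x : Fin 6 → F) :
    x ∈ hexacode F ω ↔ ∃ c : P, enc ω c = x := by
  unfold hexacode
  rw [Submodule.mem_span_triple]
  constructor
  · rintro ⟨a, b, c, rfl⟩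
    obtain ⟨a', rfl⟩ := (el_bijective hF hω).2 a
    obtain ⟨b', rfl⟩ := (el_bijective hF hω).2 b
    obtain ⟨c', rfl⟩ := (el_bijective hF hω).2 c
    exact ⟨(a', b', c'), enc_eq hF hω _⟩
  · rintro ⟨c, rfl⟩
    exact ⟨_, _, _, (enc_eq hF hω c).symm⟩

theorem encM_injective : Function.Injective encM := by decide +kernel

theorem enc_injective (hF : Fintype.card F = 4) (hω : ω ^ 2 + ω + 1 = 0) :
    Function.Injective (enc ω) := by
  intro c d h
  apply encM_injective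
  funext i
  exact el_injective hF hω (congrFun h i)

theorem enc_zero : enc ω (0, 0, 0) = 0 := by
  funext i
  have : encM (0, 0, 0) i = 0 := by revert i; decide
  simp [enc, this, el_zero]

theorem weight_enc [DecidableEq F] (hF : Fintype.card F = 4) (hω : ω ^ 2 + ω + 1 = 0) (c : P) :
    (Finset.univ.filter fun i => enc ω c i ≠ 0).card =
      (Finset.univ.filter fun i => encM c i ≠ 0).card := by
  congr 1
  ext i
  simp only [Finset.mem_filter, Finset.mem_univ, true_and, enc, ne_eq, el_eq_zero_iff hF hω]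

end Cfsg.Agent.Helper22.Hexa
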