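import Cfsg.Agent.Helper22.Triad

/-!
# Ordered six-tuples of points under `M24`

`M24` has two orbits on ordered six-tuples of distinct points: those lying in an octad and the others.
Also a version of `exists_M24_venn` with extra fixed points.
-/

set_option autoImplicit false

namespace Cfsg.Agent.Helper22.Hexad6

open Cfsg Cfsg.Agent.Helper27 Cfsg.Agent.Helper22.Flag Cfsg.Agent.Helper22.KSets
  Cfsg.Agent.Helper22.Triad
open scoped Pointwise

/-- the two standard positions of an ordered six-tuple of distinct points -/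
theorem exists_std6 {x1 x2 x3 x4 x5 x6 : GolayPt} (hnd : [x1, x2, x3, x4, x5, x6].Nodup) :
    ((∃ o ∈ octads, ({x1, x2, x3, x4, x5, x6} : Finset GolayPt) ⊆ o) → ∃ g ∈ M24, g x1 = pt 0 ∧ g x2 = pt 1 ∧
      g x3 = pt 2 ∧ g x4 = pt 3 ∧ g x5 = pt 4 ∧ g x6 = pt 7) ∧
    (¬ (∃ o ∈ octads, ({x1, x2, x3, x4, x5, x6} : Finset GolayPt) ⊆ o) → ∃ g ∈ M24, g x1 = pt 0 ∧ g x2 = pt 1 ∧
      g x3 = pt 2 ∧ g x4 = pt 3 ∧ g x5 = pt 4 ∧ g x6 = pt 5) := by
  have hnd5 : [x1, x2, x3, x4, x5].Nodup := by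
    have : [x1, x2, x3, x4, x5, x6] = [x1, x2, x3, x4, x5] ++ [x6] := rfl
    rw [this] at hnd
    exact (List.nodup_append.mp hnd).1
  have hx6 : ∀ x ∈ [x1, x2, x3, x4, x5], x ≠ x6 := by
    intro x hx h
    have : [x1, x2, x3, x4, x5, x6] = [x1, x2, x3, x4, x5] ++ [x6] := rfl
    rw [this] at hnd
    exact (List.disjoint_of_nodup_append hnd) hx (by rw [h]; simp)
  obtain ⟨g, hg, g1, g2, g3, g4, g5, hoct⟩ := exists_std5 hnd5
  obtain ⟨o5, ho5, hsub⟩ := exists_octad_superset {x1, x2, x3, x4, x5} (Finset.card_le_five)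
  have m1 : x1 ∈ o5 := hsub (by simp)
  have m2 : x2 ∈ o5 := hsub (by simp)
  have m3 : x3 ∈ o5 := hsub (by simp)
  have m4 : x4 ∈ o5 := hsub (by simp)
  have m5 : x5 ∈ o5 := hsub (by simp)
  have hgo := hoct o5 ho5 m1 m2 m3 m4 m5
  have hu3 : ∀ i, i = 0 ∨ i = 1 ∨ i = 2 ∨ i = 3 ∨ i = 4 → g x6 ≠ pt i := by
    rintro i (rfl | rfl | rfl | rfl | rfl)
    · rw [← g1]; exact fun h => hx6 x1 (by simp) (g.injective h).symm
    · rw [← g2]; exact fun h => hx6 x2 (by simp) (g.injective h).symm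
    · rw [← g3]; exact fun h => hx6 x3 (by simp) (g.injective h).symm
    · rw [← g4]; exact fun h => hx6 x4 (by simp) (g.injective h).symm
    · rw [← g5]; exact fun h => hx6 x5 (by simp) (g.injective h).symm
  have hmem : ∀ i, i = 0 ∨ i = 1 ∨ i = 2 ∨ i = 3 ∨ i = 4 → pt i ∈ maskSet oct5 := by
    rintro i (rfl | rfl | rfl | rfl | rfl) <;> (rw [pt_mem_maskSet (by norm_num)]; decide)
  constructor
  · rintro ⟨o, ho, hTU⟩
    have hoo : o = o5 := by
      apply octad_eq_of_inter ho ho5
      have : ({x1, x2, x3, x4, x5} : Finset GolayPt) ⊆ o ∩ o5 := by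
        intro q hq
        rw [Finset.mem_inter]
        refine ⟨hTU ?_, hsub hq⟩
        simp only [Finset.mem_insert, Finset.mem_singleton] at hq ⊢
        tauto
      refine le_trans ?_ (Finset.card_le_card this)
      have h5 := List.toFinset_card_of_nodup hnd5
      simp only [List.toFinset_cons, List.toFinset_nil, insert_empty_eq, List.length_cons, List.length_nil] at h5
      exact h5.ge
    have m6 : x6 ∈ o5 := hoo ▸ hTU (by simp)
    have hgu3 : g x6 ∈ maskSet 5248 := by
      have h1 : g x6 ∈ maskSet oct5 := by rw [← hgo, mem_smul_iff]; exact m6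
      rw [mem_maskSet] at h1 ⊢
      rcases oct5_split _ (idx_lt _) h1 with h | h | h | h | h | h
      · exact absurd (by rw [← h, pt_idx]) (hu3 0 (by simp))
      · exact absurd (by rw [← h, pt_idx]) (hu3 1 (by simp))
      · exact absurd (by rw [← h, pt_idx]) (hu3 2 (by simp))
      · exact absurd (by rw [← h, pt_idx]) (hu3 3 (by simp))
      · exact absurd (by rw [← h, pt_idx]) (hu3 4 (by simp))
      · exact h
    obtain ⟨k, hk, hkf, hky⟩ := exists_z3 hgu3
    refine ⟨k * g, M24.mul_mem hk hg, ?_, ?_, ?_, ?_, ?_, ?_⟩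
    · rw [Equiv.Perm.mul_apply, g1, hkf 0 (by simp)]
    · rw [Equiv.Perm.mul_apply, g2, hkf 1 (by simp)]
    · rw [Equiv.Perm.mul_apply, g3, hkf 2 (by simp)]
    · rw [Equiv.Perm.mul_apply, g4, hkf 3 (by simp)]
    · rw [Equiv.Perm.mul_apply, g5, hkf 4 (by simp)]
    · rw [Equiv.Perm.mul_apply, hky]
  · intro hno
    have m6 : x6 ∉ o5 := by
      intro m6
      apply hno
      refine ⟨o5, ho5, ?_⟩
      intro q hq
      simp only [Finset.mem_insert, Finset.mem_singleton] at hq
      rcases hq with rfl | rfl | rfl | rfl | rfl | rfl <;> assumption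
    have hgu3 : g x6 ∉ maskSet oct5 := by rw [← hgo, mem_smul_iff]; exact m6
    obtain ⟨k, hk, hkf, hky⟩ := OctSplit.exists_fix_move hgu3
    refine ⟨k * g, M24.mul_mem hk hg, ?_, ?_, ?_, ?_, ?_, ?_⟩
    · rw [Equiv.Perm.mul_apply, g1, hkf _ (hmem 0 (by simp))]
    · rw [Equiv.Perm.mul_apply, g2, hkf _ (hmem 1 (by simp))]
    · rw [Equiv.Perm.mul_apply, g3, hkf _ (hmem 2 (by simp))]
    · rw [Equiv.Perm.mul_apply, g4, hkf _ (hmem 3 (by simp))]
    · rw [Equiv.Perm.mul_apply, g5, hkf _ (hmem 4 (by simp))]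
    · rw [Equiv.Perm.mul_apply, hky]

/-- `M24` is transitive on ordered six-tuples of distinct points of each of the two kinds -/
theorem exists_map6 {x1 x2 x3 x4 x5 x6 y1 y2 y3 y4 y5 y6 : GolayPt} (hx : [x1, x2, x3, x4, x5, x6].Nodup)
    (hy : [y1, y2, y3, y4, y5, y6].Nodup)
    (h : (∃ o ∈ octads, ({x1, x2, x3, x4, x5, x6} : Finset GolayPt) ⊆ o) ↔
      (∃ o ∈ octads, ({y1, y2, y3, y4, y5, y6} : Finset GolayPt) ⊆ o)) :
    ∃ g ∈ M24, g x1 = y1 ∧ g x2 = y2 ∧ g x3 = y3 ∧ g x4 = y4 ∧ g x5 = y5 ∧ g x6 = y6 := by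
  by_cases hin : ∃ o ∈ octads, ({x1, x2, x3, x4, x5, x6} : Finset GolayPt) ⊆ o
  · obtain ⟨g, hg, a1, a2, a3, a4, a5, a6⟩ := (exists_std6 hx).1 hin
    obtain ⟨g', hg', b1, b2, b3, b4, b5, b6⟩ := (exists_std6 hy).1 (h.mp hin)
    refine ⟨g'⁻¹ * g, M24.mul_mem (M24.inv_mem hg') hg, ?_, ?_, ?_, ?_, ?_, ?_⟩ <;>
      rw [Equiv.Perm.mul_apply, Equiv.Perm.inv_eq_iff_eq]
    · rw [a1, b1]
    · rw [a2, b2]
    · rw [a3, b3]
    · rw [a4, b4]
    · rw [a5, b5]
    · rw [a6, b6]
  · obtain ⟨g, hg, a1, a2, a3, a4, a5, a6⟩ := (exists_std6 hx).2 hin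
    obtain ⟨g', hg', b1, b2, b3, b4, b5, b6⟩ := (exists_std6 hy).2 (fun h' => hin (h.mpr h'))
    refine ⟨g'⁻¹ * g, M24.mul_mem (M24.inv_mem hg') hg, ?_, ?_, ?_, ?_, ?_, ?_⟩ <;>
      rw [Equiv.Perm.mul_apply, Equiv.Perm.inv_eq_iff_eq]
    · rw [a1, b1]
    · rw [a2, b2]
    · rw [a3, b3]
    · rw [a4, b4]
    · rw [a5, b5]
    · rw [a6, b6]

/-- `exists_M24_venn` with a list of extra fixed points -/
theorem exists_M24_venn_fix (F : List GolayPt) (hF : F.Nodup) (s x y : Finset GolayPt)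
    (hFs : ∀ f ∈ F, f ∉ s ∧ f ∉ x ∧ f ∉ y) (hxy : x.card = y.card)
    (hint : (s ∩ x).card = (s ∩ y).card) (h5 : F.length + (s ∪ x).card ≤ 5) :
    ∃ g ∈ M24, (∀ f ∈ F, g f = f) ∧ g • s = s ∧ g • x = y := by
  have hs : ∀ z : Finset GolayPt, s ∩ z ∪ s \ z = s := by
    intro z; ext a; simp only [Finset.mem_union, Finset.mem_inter, Finset.mem_sdiff]; tauto
  have hz : ∀ z : Finset GolayPt, s ∩ z ∪ z \ s = z := by
    intro z; ext a; simp only [Finset.mem_union, Finset.mem_inter, Finset.mem_sdiff]; tauto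
  have hd1 : ∀ z : Finset GolayPt, Disjoint (s ∩ z) (s \ z) := by
    intro z; rw [Finset.disjoint_left]; intro a h1 h2
    rw [Finset.mem_inter] at h1; rw [Finset.mem_sdiff] at h2; exact h2.2 h1.2
  have hd2 : ∀ z : Finset GolayPt, Disjoint (s ∩ z ∪ s \ z) (z \ s) := by
    intro z; rw [hs, Finset.disjoint_left]; intro a h1 h2
    rw [Finset.mem_sdiff] at h2; exact h2.2 h1
  have hc1 : ∀ z : Finset GolayPt, (s \ z).card = s.card - (s ∩ z).card := by
    intro z; rw [Finset.card_sdiff, Finset.inter_comm]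
  have hc2 : ∀ z : Finset GolayPt, (z \ s).card = z.card - (s ∩ z).card := by
    intro z; rw [Finset.card_sdiff]
  have hun : ∀ z : Finset GolayPt, (s ∪ z).card = (s ∩ z).card + (s \ z).card + (z \ s).card := by
    intro z
    rw [← Finset.card_union_of_disjoint (hd1 z), ← Finset.card_union_of_disjoint (hd2 z), hs]
    congr 1
    ext a; simp only [Finset.mem_union, Finset.mem_sdiff]; tauto
  have hnd0 : ∀ z : Finset GolayPt, ((s ∩ z).toList ++ (s \ z).toList ++ (z \ s).toList).Nodup := by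
    intro z
    refine List.Nodup.append (List.Nodup.append (Finset.nodup_toList _) (Finset.nodup_toList _) ?_)
      (Finset.nodup_toList _) ?_
    · intro a h1 h2
      rw [Finset.mem_toList] at h1 h2
      exact Finset.disjoint_left.mp (hd1 z) h1 h2
    · intro a h1 h2
      rw [List.mem_append, Finset.mem_toList, Finset.mem_toList] at h1
      rw [Finset.mem_toList] at h2
      exact Finset.disjoint_left.mp (hd2 z) (Finset.mem_union.mpr h1) h2
  have hnd : ∀ z : Finset GolayPt, (∀ f ∈ F, f ∉ s ∧ f ∉ z) →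
      (F ++ ((s ∩ z).toList ++ (s \ z).toList ++ (z \ s).toList)).Nodup := by
    intro z hFz
    refine List.Nodup.append hF (hnd0 z) ?_
    intro a h1 h2
    rw [List.mem_append, List.mem_append, Finset.mem_toList, Finset.mem_toList, Finset.mem_toList,
      Finset.mem_inter, Finset.mem_sdiff, Finset.mem_sdiff] at h2
    have := hFz a h1
    tauto
  have hlen : ∀ z : Finset GolayPt,
      ((s ∩ z).toList ++ (s \ z).toList ++ (z \ s).toList).length = (s ∪ z).card := by
    intro z
    rw [List.length_append, List.length_append, Finset.length_toList, Finset.length_toList,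
      Finset.length_toList, hun]
  obtain ⟨g, hg, hmap⟩ := exists_M24_map_list _ _ (hnd x (fun f hf => ⟨(hFs f hf).1, (hFs f hf).2.1⟩))
    (hnd y (fun f hf => ⟨(hFs f hf).1, (hFs f hf).2.2⟩))
    (by simp only [List.length_append, Finset.length_toList, hc1, hc2, hint, hxy])
    (by rw [List.length_append, hlen]; exact h5)
  rw [List.map_append] at hmap
  have h0 := List.append_inj hmap (by rw [List.length_map])
  have hmap' := h0.2
  rw [List.map_append, List.map_append] at hmap'
  have h12 := List.append_inj hmap' (by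
    rw [List.length_append, List.length_append, List.length_map, List.length_map, Finset.length_toList,
      Finset.length_toList, Finset.length_toList, Finset.length_toList, hc1, hc1, hint])
  have h1 := List.append_inj h12.1 (by
    rw [List.length_map, Finset.length_toList, Finset.length_toList, hint])
  have hA : g • (s ∩ x) = s ∩ y := by
    rw [← toList_map_toFinset, h1.1, Finset.toList_toFinset]
  have hB : g • (s \ x) = s \ y := by
    rw [← toList_map_toFinset, h1.2, Finset.toList_toFinset]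
  have hC : g • (x \ s) = y \ s := by
    rw [← toList_map_toFinset, h12.2, Finset.toList_toFinset]
  refine ⟨g, hg, ?_, ?_, ?_⟩
  · intro f hf
    have := h0.1
    have h2 : ∀ (L : List GolayPt), L.map g = L → ∀ f ∈ L, g f = f := by
      intro L
      induction L with
      | nil => intro _ f hf; simp at hf
      | cons a L ih =>
        intro h f hf
        rw [List.map_cons, List.cons.injEq] at h
        rcases List.mem_cons.mp hf with rfl | hf'
        · exact h.1
        · exact ih h.2 f hf'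
    exact h2 F this f hf
  · conv_lhs => rw [← hs x]
    rw [Finset.smul_finset_union, hA, hB, hs]
  · conv_lhs => rw [← hz x]
    rw [Finset.smul_finset_union, hA, hC, hz]

end Cfsg.Agent.Helper22.Hexad6
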