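import Cfsg.Agent.Helper22.IcoCount
import Cfsg.Agent.Helper22.IcoData

/-!
# The tables of the four generating reflections

The reflection in the representative `a` maps the representative `j` to a unit multiple of the representative given by
the table; this is checked in the model, by the kernel.
-/

set_option autoImplicit false

namespace Cfsg.Agent.Helper22.Ico

open Cfsg.Agent.Helper22.PermPack Cfsg.Agent.Helper22.IcoData

namespace V3

open Q

/-- twice the Hermitian product -/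
def ipRaw (x r : V3) : Q := add (add (mul x.x (conj r.x)) (mul x.y (conj r.y))) (mul x.z (conj r.z))

/-- eight times the reflection of `x` in `r` -/
def refl8 (r x : V3) : V3 :=
  ⟨sub (zsmul 8 x.x) (mul (ipRaw x r) r.x), sub (zsmul 8 x.y) (mul (ipRaw x r) r.y),
    sub (zsmul 8 x.z) (mul (ipRaw x r) r.z)⟩

/-- eight times the multiple of a vector -/
def scale4 (u : Q) (r : V3) : V3 := ⟨zsmul 4 (mul u r.x), zsmul 4 (mul u r.y), zsmul 4 (mul u r.z)⟩

/-- the representative with a given index -/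
def Rget (j : ℕ) : V3 := repsLit.getD j ⟨zero, zero, zero⟩

/-- the unit with a given index -/
def Uget (j : ℕ) : Q := Ulist.getD j zero

/-- the indices of the units, for the four generating reflections, seven bits each -/
def units4 : List ℕ := [
  0xcbbf7eea9628c57b0458b722a24516e458b7192244cae45d57b6a965df458db3b41f65df54bbc34045b0e14b13ee00459cc658ddbb78702c5bbf7e3c74e9efdd224102366cefdf468c386cd9bd7b264ebd7060b162ddbebd6952972e9d38f1d93272e7264ad5a7cf9d3b264ebd62c560c1f3e83c6edddb1ae55b5515abe0d343f64cabd16ba762eef5d1a1b7652f7dbb7870c387bf7e3c74e9efde9d3dfbf66cefdf468c386cd9bd7b264ebd7060b162ddbebd6952972e9d393b365fbfb3649c5a1c3f7ee3462996e1f0e10edccad76169d30aed6e3c5b50a0db8f163376c68db66b18f1d93272e7264ad5a7cf9d3b264ebd62c560c1f3e83c6edddb1ae55b5515abe0d343f64cabd16ba762eeef56bb7929d00,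
  0x89f7481c8a640515d3c36890ebbd91e11ab45860d38032d923982e0c9fe7081c1e405dc0aa0528958760813a3f46b19ebde69d81428cf282ba88a2e00039d52b329cc29b1692e5cc26f5d93e9389ad809c79148c59219c77277392cad10d00732064d8899670eceef96895c63898009d731536387553a2e6893820b89efda906c9df9f72c182956541eb1a796056834a63340e0c9c459aa189efaac2038e6afea9ea490e64c0c24007a09cc3280692e8b8efcc7f4eddf2777e34f66b182ed77eb46358abb220357f1d8218e3dc3321e391fda343c3d455e8766f9f6e1cc77e71e236a7d62e3cbdf34aa05a2d653d29ed6f43be6a71a2d68cbdd641863b3c0f2dbd08d4f9caad168378ba790fb69ba5a537312c,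
  0x1dfbf7ef262c16cc9700efdfbf7efdfbf7efdfbf7efdfbf7efdfbf7efdfbf7efdfbf7efdfbf7efdfbf7efdfbf7efdfbf7efdfbf7efdfbf7efdfbf7efdfbf7efdfbf7efdfbf7efdfbf7efdfbf7efdfbf7efdfbf7efdfbf7efdfbf7efdfbf7efdfbf7efdfbf7efdfbf7efdfbf7efdfbf7efdfbf7efdfbf7efdfbf7efdfbf7efdfbf7efdfbf7efdfbf7efdfbf7efdfbf7efdfbf7efdfbf7efdfbf7efdfbf7efdfbf7efdfbf7efdfbf7efdfbf7efdfbf7efdfbf7efdfbf7efdfbf7952a54a952a54a7af5ebd7af5ebd78f1e3c78f1e3c76eddbb76eddbb74e9d3a74e9d3a5ab56ad5ab56adefdfbf7efdfbf7efdfbf7efdfbf7efdfbf7efdfbf7efdfbf7efdfbf7efdfbf7efdfbf7efdfbf7efdfbf700000000000000,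
  0x1df2f46cb756c31abbf119d92ddbb849dae09b3244852babee53b82cddf26f000908812a5410aed98dab90c277ee0e512090409ddf569ebb7a6d6ee7d78e2adc26ec259a972c606868a7527d0ef96b4c9fc7bdcdd5266944b72837605ea7cb8f2e6eea7ae5106cb8b260c296ab2c911a34a6cea4e543d6d3dd899152ac4cf456829db65ea9aba6359b7b452afdeadfd57b85d29dbaf39977203d162fed9f62be7b3535d97562fbce9965631b78911ae4055fc563bf4b36aedbc3df81eb577bbebf5fb5d69992e0d124d77df6f058c366f75e634605b27f6b3b9df16bc592e5f8cb31d8bd72fe0064f0d7b5bb8e253dede9e9dbbdcc9d3a73c17f660838b0f25f6b0d7d32ae6f79cdd62b97adc2b57496283d2da4]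

/-- the check of a table -/
def tabOK (a t u : ℕ) : Bool := allN 315 fun j =>
  Nat.blt (slot 9 t j) 315 && Nat.blt (slot 7 u j) 120 &&
    decide (refl8 (Rget a) (Rget j) = scale4 (Uget (slot 7 u j)) (Rget (slot 9 t j)))

/-- the check of the four tables -/
def tabsOK : Bool := allN 4 fun i => tabOK (genIdx.getD i 0) (gens4.getD i 0) (units4.getD i 0)

theorem tabs_okK : tabsOK = true := by decide +kernel

end V3

end Cfsg.Agent.Helper22.Ico
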