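import Cfsg.Agent.Helper22.IcoConj
import Cfsg.Agent.Helper22.IcoTab

/-!
# The action of the group generated by the reflections on the 315 reflections
-/

set_option autoImplicit false

namespace Cfsg.Agent.Helper22.Ico

open Quaternion Cfsg.Spor Cfsg.Agent.Helper22.PermPack Cfsg.Agent.Helper22.IcoData

/-- the reflection with a given index -/
noncomputable def rf (j : ℕ) : Equiv.Perm icoLeech := reflOf (V3.Rget j).ι

theorem Rget_mem {j : ℕ} (hj : j < 315) : V3.Rget j ∈ V3.repsLit := by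
  unfold V3.Rget
  have h : j < V3.repsLit.length := by rw [V3.length_repsLit]; exact hj
  rw [List.getD_eq_getElem _ _ h]
  exact List.getElem_mem h

theorem isMin_Rget {j : ℕ} (hj : j < 315) : IsMin (V3.Rget j).ι := V3.isMin_of_mem (Rget_mem hj)

theorem rf_mem {j : ℕ} (hj : j < 315) : rf j ∈ twoJ2 := reflOf_mem (isMin_Rget hj)

theorem Rget_inj {i j : ℕ} (hi : i < 315) (hj : j < 315) (h : V3.Rget i = V3.Rget j) : i = j := by
  unfold V3.Rget at h
  have hi' : i < V3.repsLit.length := by rw [V3.length_repsLit]; exact hi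
  have hj' : j < V3.repsLit.length := by rw [V3.length_repsLit]; exact hj
  rw [List.getD_eq_getElem _ _ hi', List.getD_eq_getElem _ _ hj'] at h
  exact (List.Nodup.getElem_inj_iff V3.nodup_repsLit).mp h

theorem rf_inj {i j : ℕ} (hi : i < 315) (hj : j < 315) (h : rf i = rf j) : i = j :=
  Rget_inj hi hj ((reflOf_eq_iff (Rget_mem hi) (Rget_mem hj)).mp h)

theorem exists_Rget {r : V3} (hr : r ∈ V3.repsLit) : ∃ j < 315, V3.Rget j = r := by
  obtain ⟨j, hj, e⟩ := List.mem_iff_getElem.mp hr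
  refine ⟨j, by rw [← V3.length_repsLit]; exact hj, ?_⟩
  unfold V3.Rget
  rw [List.getD_eq_getElem _ _ hj, e]

theorem isIcoReflection_iff_rf (f : Equiv.Perm icoLeech) : IsIcoReflection f ↔ ∃ j < 315, f = rf j := by
  rw [isIcoReflection_iff_rep]
  constructor
  · rintro ⟨r, hr, rfl⟩
    obtain ⟨j, hj, rfl⟩ := exists_Rget hr
    exact ⟨j, hj, rfl⟩
  · rintro ⟨j, hj, rfl⟩
    exact ⟨V3.Rget j, Rget_mem hj, rfl⟩

theorem twoJ2_eq : twoJ2 = Subgroup.closure {f | ∃ j < 315, f = rf j} := by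
  unfold twoJ2
  congr 1
  ext f
  exact isIcoReflection_iff_rf f

/-- the vector of the lattice with a given index -/
noncomputable def Rv (j : ℕ) (hj : j < 315) : icoLeech := ⟨(V3.Rget j).ι, (isMin_Rget hj).1⟩

theorem conj_rf {g : Equiv.Perm icoLeech} (hg : g ∈ twoJ2) {j : ℕ} (hj : j < 315) :
    g * rf j * g⁻¹ = reflOf (g (Rv j hj)).1 :=
  (isLin_of_mem hg).conj_reflOf (Rv j hj) (isMin_Rget hj)

theorem exists_conj (g : twoJ2) (j : Fin 315) : ∃ k : Fin 315, g.1 * rf j.1 * g.1⁻¹ = rf k.1 := by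
  have h1 := conj_rf g.2 j.2
  have h2 : IsIcoReflection (g.1 * rf j.1 * g.1⁻¹) := by
    rw [h1, isIcoReflection_iff]
    exact ⟨_, (isLin_of_mem g.2).isMin (Rv j.1 j.2) (isMin_Rget j.2), rfl⟩
  obtain ⟨k, hk, e⟩ := (isIcoReflection_iff_rf _).mp h2
  exact ⟨⟨k, hk⟩, e⟩

/-- the action on the indices of the reflections -/
noncomputable def act (g : twoJ2) (j : Fin 315) : Fin 315 := Classical.choose (exists_conj g j)

theorem act_spec (g : twoJ2) (j : Fin 315) : g.1 * rf j.1 * g.1⁻¹ = rf (act g j).1 :=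
  Classical.choose_spec (exists_conj g j)

theorem act_unique {g : twoJ2} {j k : Fin 315} (h : g.1 * rf j.1 * g.1⁻¹ = rf k.1) : act g j = k := by
  apply Fin.ext
  apply rf_inj (act g j).2 k.2
  rw [← act_spec, h]

theorem act_one (j : Fin 315) : act 1 j = j := by
  apply act_unique
  simp

theorem act_mul (g h : twoJ2) (j : Fin 315) : act (g * h) j = act g (act h j) := by
  apply act_unique
  rw [← act_spec g, ← act_spec h]
  simp only [Subgroup.coe_mul, mul_inv_rev, mul_assoc]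

/-- the action on the reflections, as a homomorphism -/
noncomputable def ρ : twoJ2 →* Equiv.Perm (Fin 315) where
  toFun g :=
    { toFun := act g
      invFun := act g⁻¹
      left_inv := fun j => by rw [← act_mul, inv_mul_cancel, act_one]
      right_inv := fun j => by rw [← act_mul, mul_inv_cancel, act_one] }
  map_one' := by
    ext j : 1
    exact act_one j
  map_mul' g h := by
    ext j : 1
    exact act_mul g h j

theorem ρ_apply (g : twoJ2) (j : Fin 315) : ρ g j = act g j := rfl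

theorem ρ_spec (g : twoJ2) (j : Fin 315) : g.1 * rf j.1 * g.1⁻¹ = rf (ρ g j).1 := act_spec g j

theorem ρ_eq_iff (g : twoJ2) (j k : Fin 315) : ρ g j = k ↔ g.1 * rf j.1 * g.1⁻¹ = rf k.1 := by
  constructor
  · rintro rfl
    exact ρ_spec g j
  · exact act_unique

/-! ### The tables of the generating reflections -/

namespace V3

open Q

theorem ι_ipRaw (x r : V3) : Q.ι (ipRaw x r) = (2 : ℝ) • qip x.ι r.ι := by
  unfold ipRaw qip
  rw [Fin.sum_univ_three, ι_add, ι_add, ι_mul, ι_mul, ι_mul, ι_conj, ι_conj, ι_conj, ι_zero, ι_one, ι_two,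
    ι_zero, ι_one, ι_two, smul_add, smul_add]

theorem ι_refl8 (r x : V3) : (refl8 r x).ι = (8 : ℝ) • qrefl r.ι x.ι := by
  have key : ∀ a b : Q, Q.ι (sub (zsmul 8 a) (mul (ipRaw x r) b)) =
      (8 : ℝ) • (Q.ι a - ((1 / 2 : ℝ) • qip x.ι r.ι) * Q.ι b) := by
    intro a b
    rw [ι_sub, ι_zsmul, ι_mul, ι_ipRaw, smul_sub, smul_mul_assoc, smul_mul_assoc, smul_smul, smul_smul,
      ← Int.cast_smul_eq_zsmul ℝ]
    norm_num
  funext t
  fin_cases t
  · exact key x.x r.x
  · exact key x.y r.y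
  · exact key x.z r.z

theorem ι_scale4 (u : Q) (r : V3) : (scale4 u r).ι = (8 : ℝ) • (Q.ι u • r.ι) := by
  have key : ∀ b : Q, Q.ι (zsmul 4 (mul u b)) = (8 : ℝ) • (Q.ι u * Q.ι b) := by
    intro b
    rw [ι_zsmul, ι_mul, ← Int.cast_smul_eq_zsmul ℝ, smul_smul]
    norm_num
  funext t
  fin_cases t
  · exact key r.x
  · exact key r.y
  · exact key r.z

theorem qrefl_of_refl8 {r x s : V3} {u : Q} (h : refl8 r x = scale4 u s) : qrefl r.ι x.ι = Q.ι u • s.ι := by
  have h1 : (8 : ℝ) • qrefl r.ι x.ι = (8 : ℝ) • (Q.ι u • s.ι) := by rw [← ι_refl8, ← ι_scale4, h]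
  exact smul_right_injective _ (by norm_num : (8 : ℝ) ≠ 0) h1

end V3

theorem Uget_mem {j : ℕ} (hj : j < 120) : V3.Uget j ∈ Q.Ulist := by
  unfold V3.Uget
  have h : j < Q.Ulist.length := by rw [Q.length_Ulist]; exact hj
  rw [List.getD_eq_getElem _ _ h]
  exact List.getElem_mem h

/-- a table describes the conjugation by a reflection -/
theorem rf_conj_of_tabOK {a t u : ℕ} (ha : a < 315) (h : V3.tabOK a t u = true) {j : ℕ} (hj : j < 315) :
    slot 9 t j < 315 ∧ rf a * rf j * (rf a)⁻¹ = rf (slot 9 t j) := by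
  have h1 := allN_spec h j hj
  rw [Bool.and_eq_true, Bool.and_eq_true, blt_iff, blt_iff, decide_eq_true_eq] at h1
  obtain ⟨⟨h2, h3⟩, h4⟩ := h1
  refine ⟨h2, ?_⟩
  rw [conj_rf (rf_mem ha) hj]
  have e : ((rf a) (Rv j hj)).1 = Q.ι (V3.Uget (slot 7 u j)) • (V3.Rget (slot 9 t j)).ι := by
    show ((reflOf (V3.Rget a).ι) (Rv j hj)).1 = _
    rw [reflOf_apply (isMin_Rget ha)]
    exact V3.qrefl_of_refl8 h4
  rw [e]
  obtain ⟨k1, k2, k3⟩ := unit_of_mem_Ulist (Uget_mem h3)
  exact reflOf_smul k1 k2 k3 (isMin_Rget h2)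

end Cfsg.Agent.Helper22.Ico
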