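import Cfsg.Agent.Helper22.IcoCentK
import Cfsg.Agent.Helper22.IcoGroup
import Cfsg.Agent.Helper14.Frattini
import Cfsg.Agent.Helper1.PGroup
import Cfsg.Agent.Helper3.ExtraspecialEquiv
import Cfsg.Agent.Helper13.A5Pres

/-!
# The point stabiliser of the group of order 604800 on 315 points

The point stabiliser, of order 1920, has a normal extraspecial subgroup of order 32 with quotient the
alternating group of degree five.
-/

set_option autoImplicit false
set_option maxRecDepth 8000

namespace Cfsg.Agent.Helper22.IcoCent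

open Cfsg Cfsg.Agent.Helper22.PermPack Cfsg.Agent.Helper22.IcoData Cfsg.Agent.Helper22.IcoCentData
  Cfsg.Agent.Helper22.IcoGroup
open scoped commutatorElement

theorem allN_of_forall {n : ℕ} {f : ℕ → Bool} (h : ∀ i < n, f i = true) : allN n f = true := by
  induction n with
  | zero => rfl
  | succ n ih =>
    rw [allN_succ, h n (Nat.lt_succ_self n), ih (fun i hi => h i (Nat.lt_succ_of_lt hi))]
    rfl

theorem allN_iff {n : ℕ} {f : ℕ → Bool} : allN n f = true ↔ ∀ i < n, f i = true :=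
  ⟨fun h i hi => allN_spec h i hi, allN_of_forall⟩

theorem qY_good : ∀ y ∈ qY, Good 315 9 y :=
  fun y hy => good_of_goodB (List.all_eq_true.mp qY_goodK y hy)

/-- the subgroup of order 32 -/
noncomputable def Qp : Subgroup (Pm 315) := Grp 315 9 qY

theorem card_Qp : Nat.card Qp = 32 := by
  rw [← prod_qlevels]
  exact (chain_sound qlevels qY qY_good qchain_okK).1

theorem qpath_mem (p : List ℕ) (hp : pathValid qlevels p = true) :
    ∃ g ∈ Qp, Rep (pathLook 315 9 qlevels p) g :=
  (chain_sound qlevels qY qY_good qchain_okK).2 p hp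

/-- a table that is the product along a path is the table of this product -/
theorem eq_of_isPath {ls : List Lv} {t : ℕ} {p : List ℕ} (ht : Good 315 9 t) (h : isPath ls t p = true)
    {g : Pm 315} (hg : Rep (pathLook 315 9 ls p) g) : P 315 9 t = g := by
  unfold isPath at h
  rw [Bool.and_eq_true, withNat_eq, withList_eq] at h
  apply rep_unique (rep_P ht)
  apply rep_congr hg
  intro i hi
  exact beq_iff.mp (allN_spec h.2 i hi)

theorem isPath_valid {ls : List Lv} {t : ℕ} {p : List ℕ} (h : isPath ls t p = true) : pathValid ls p = true := by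
  unfold isPath at h
  rw [Bool.and_eq_true] at h
  exact h.1

/-! ### The elements -/

theorem els_spec (k : ℕ) (hk : k < 32) : Good 315 9 (els.getD k 0) ∧ P 315 9 (els.getD k 0) ∈ Qp := by
  have h := els_okK
  unfold elsB at h
  have hk0 : k / 2 < 16 := by omega
  have hk1 : k % 2 < 2 := by omega
  have h2 := allN_spec (allN_spec h (k / 2) hk0) (k % 2) hk1
  have hkk : 2 * (k / 2) + k % 2 = k := by omega
  rw [hkk, Bool.and_eq_true] at h2
  have hgood := good_of_goodB h2.1
  refine ⟨hgood, ?_⟩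
  obtain ⟨g, hg, hrep⟩ := qpath_mem _ (isPath_valid h2.2)
  rw [eq_of_isPath hgood h2.2 hrep]
  exact hg

theorem els_good (a : ℕ) (ha : a ∈ els) : Good 315 9 a := by
  obtain ⟨k, hk, rfl⟩ := List.mem_iff_getElem.mp ha
  rw [els_length] at hk
  have := (els_spec k hk).1
  rwa [List.getD_eq_getElem _ _ (by rw [els_length]; exact hk)] at this

theorem els_mem (a : ℕ) (ha : a ∈ els) : P 315 9 a ∈ Qp := by
  obtain ⟨k, hk, rfl⟩ := List.mem_iff_getElem.mp ha
  rw [els_length] at hk
  have := (els_spec k hk).2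
  rwa [List.getD_eq_getElem _ _ (by rw [els_length]; exact hk)] at this

theorem eq_of_sameT {a b : ℕ} (ha : Good 315 9 a) (hb : Good 315 9 b) (h : sameT a b = true) :
    P 315 9 a = P 315 9 b := by
  apply rep_unique (rep_P ha)
  apply rep_congr (rep_P hb)
  intro i hi
  exact beq_iff.mp (allN_spec h i hi)

theorem sameT_of_eq {a b : ℕ} (ha : Good 315 9 a) (hb : Good 315 9 b) (h : P 315 9 a = P 315 9 b) :
    sameT a b = true := by
  apply allN_of_forall
  intro i hi
  rw [beq_iff]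
  have h1 := rep_P ha ⟨i, hi⟩
  have h2 := rep_P hb ⟨i, hi⟩
  rw [← h1, ← h2, h]

/-- the map from the list of elements -/
noncomputable def elOf (k : Fin 32) : ↥Qp := ⟨P 315 9 (els.getD k.1 0), (els_spec k.1 k.2).2⟩

theorem elOf_injective : Function.Injective elOf := by
  intro i j hij
  have h1 : P 315 9 (els.getD i.1 0) = P 315 9 (els.getD j.1 0) := congrArg Subtype.val hij
  have h2 := sameT_of_eq (els_spec i.1 i.2).1 (els_spec j.1 j.2).1 h1
  have h3 := allN_spec (allN_spec distinct_okK i.1 i.2) j.1 j.2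
  rw [h2] at h3
  simp only [Bool.not_true, Bool.or_false, beq_iff] at h3
  exact Fin.ext h3

instance : Finite ↥Qp := Nat.finite_of_card_ne_zero (by rw [card_Qp]; norm_num)

theorem elOf_surjective : Function.Surjective elOf := by
  have hb : Function.Bijective elOf := by
    rw [Nat.bijective_iff_injective_and_card]
    refine ⟨elOf_injective, ?_⟩
    rw [card_Qp, Nat.card_eq_fintype_card, Fintype.card_fin]
  exact hb.2

theorem exists_el {g : Pm 315} (hg : g ∈ Qp) : ∃ a ∈ els, g = P 315 9 a := by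
  obtain ⟨k, hk⟩ := elOf_surjective ⟨g, hg⟩
  refine ⟨els.getD k.1 0, ?_, ?_⟩
  · rw [List.getD_eq_getElem _ _ (by rw [els_length]; exact k.2)]
    exact List.getElem_mem _
  · exact (congrArg Subtype.val hk).symm

/-! ### The structure -/

theorem zT_spec : Good 315 9 zT ∧ P 315 9 zT ∈ Qp ∧ P 315 9 zT ≠ 1 ∧ P 315 9 zT * P 315 9 zT = 1 ∧
    ∃ a ∈ els, ∃ b ∈ els, P 315 9 a * P 315 9 b = P 315 9 zT * (P 315 9 b * P 315 9 a) := by
  have h := z_okK
  unfold zB at h
  simp only [Bool.and_eq_true, List.any_eq_true, Bool.not_eq_true'] at h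
  obtain ⟨⟨⟨⟨h1, a, ha, h2⟩, a', ha', b', hb', h3, -⟩, h4⟩, h5⟩ := h
  have hz := good_of_goodB h1
  refine ⟨hz, ?_, ?_, ?_, a', ha', b', hb', ?_⟩
  · rw [← eq_of_sameT (els_good a ha) hz h2]
    exact els_mem a ha
  · intro h1'
    have h6 : isIdT zT = true := by
      apply allN_of_forall
      intro i hi
      rw [beq_iff]
      have := rep_P hz ⟨i, hi⟩
      rw [h1'] at this
      exact this.symm
    rw [h6] at h4
    exact Bool.noConfusion h4
  · apply rep_unique (rep_mul (rep_P hz) (rep_P hz))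
    apply rep_congr rep_one
    intro i hi
    exact beq_iff.mp (allN_spec h5 i hi)
  · apply rep_unique (rep_mul (rep_P (els_good a' ha')) (rep_P (els_good b' hb')))
    apply rep_congr (rep_mul (rep_P hz) (rep_mul (rep_P (els_good b' hb')) (rep_P (els_good a' ha'))))
    intro i hi
    exact beq_iff.mp (allN_spec h3 i hi)

/-- the central involution -/
noncomputable def zP : Pm 315 := P 315 9 zT

theorem zP_mem : zP ∈ Qp := zT_spec.2.1

theorem zP_ne : zP ≠ 1 := zT_spec.2.2.1

theorem zP_mul : zP * zP = 1 := zT_spec.2.2.2.1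

theorem comm_of_commT {a b : ℕ} (ha : Good 315 9 a) (hb : Good 315 9 b) (h : commT a b = true) :
    P 315 9 a * P 315 9 b = P 315 9 b * P 315 9 a := by
  apply rep_unique (rep_mul (rep_P ha) (rep_P hb))
  apply rep_congr (rep_mul (rep_P hb) (rep_P ha))
  intro i hi
  exact beq_iff.mp (allN_spec h i hi)

theorem commT_of_comm {a b : ℕ} (ha : Good 315 9 a) (hb : Good 315 9 b)
    (h : P 315 9 a * P 315 9 b = P 315 9 b * P 315 9 a) : commT a b = true := by
  apply allN_of_forall
  intro i hi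
  rw [beq_iff]
  have h1 : ((P 315 9 a * P 315 9 b) ⟨i, hi⟩).1 = slot 9 a (slot 9 b i) :=
    rep_mul (rep_P ha) (rep_P hb) ⟨i, hi⟩
  have h2 : ((P 315 9 b * P 315 9 a) ⟨i, hi⟩).1 = slot 9 b (slot 9 a i) :=
    rep_mul (rep_P hb) (rep_P ha) ⟨i, hi⟩
  rw [← h1, ← h2, h]

theorem struct_spec (a : ℕ) (ha : a ∈ els) :
    (P 315 9 a * P 315 9 a = 1 ∨ P 315 9 a * P 315 9 a = zP) ∧ zP * P 315 9 a = P 315 9 a * zP ∧
    (P 315 9 a = 1 ∨ P 315 9 a = zP ∨ ∃ b ∈ els, P 315 9 a * P 315 9 b ≠ P 315 9 b * P 315 9 a) ∧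
    ∀ b ∈ els, P 315 9 a * P 315 9 b = P 315 9 b * P 315 9 a ∨
      P 315 9 a * P 315 9 b = zP * (P 315 9 b * P 315 9 a) := by
  have h := struct_okK
  unfold structB at h
  rw [withList_eq] at h
  have h1 := List.all_eq_true.mp h a ha
  simp only [Bool.and_eq_true, Bool.or_eq_true, List.any_eq_true, List.all_eq_true,
    Bool.not_eq_true'] at h1
  obtain ⟨⟨⟨h1, h2⟩, h3⟩, h4⟩ := h1
  have hz := zT_spec.1
  have hga := els_good a ha
  refine ⟨?_, comm_of_commT hz hga h2, ?_, ?_⟩
  · unfold sqT at h1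
    rw [Bool.or_eq_true] at h1
    rcases h1 with h1 | h1
    · left
      apply rep_unique (rep_mul (rep_P hga) (rep_P hga))
      apply rep_congr rep_one
      intro i hi
      exact beq_iff.mp (allN_spec h1 i hi)
    · right
      apply rep_unique (rep_mul (rep_P hga) (rep_P hga))
      apply rep_congr (rep_P hz)
      intro i hi
      exact beq_iff.mp (allN_spec h1 i hi)
  · rcases h3 with (h3 | h3) | ⟨b, hb, h3⟩
    · left
      apply rep_unique (rep_P hga)
      apply rep_congr rep_one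
      intro i hi
      exact beq_iff.mp (allN_spec h3 i hi)
    · right; left
      exact eq_of_sameT hga hz h3
    · right; right
      refine ⟨b, hb, fun hcomm => ?_⟩
      rw [commT_of_comm hga (els_good b hb) hcomm] at h3
      exact Bool.noConfusion h3
  · intro b hb
    rcases h4 b hb with h4 | h4
    · left
      exact comm_of_commT hga (els_good b hb) h4
    · right
      apply rep_unique (rep_mul (rep_P hga) (rep_P (els_good b hb)))
      apply rep_congr (rep_mul (rep_P hz) (rep_mul (rep_P (els_good b hb)) (rep_P hga)))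
      intro i hi
      exact beq_iff.mp (allN_spec h4 i hi)

/-- the subgroup is extraspecial -/
theorem isExtraspecial_Qp : IsExtraspecial 2 ↥Qp := by
  have : Fact (Nat.Prime 2) := ⟨Nat.prime_two⟩
  have hP : IsPGroup 2 ↥Qp := IsPGroup.of_card (n := 5) (by rw [card_Qp]; norm_num)
  have hcen : ∀ g : ↥Qp, g ∈ Subgroup.center ↥Qp ↔ (g : Pm 315) = 1 ∨ (g : Pm 315) = zP := by
    intro g
    rw [Subgroup.mem_center_iff]
    obtain ⟨a, ha, hga⟩ := exists_el g.2
    obtain ⟨-, h2, h3, -⟩ := struct_spec a ha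
    constructor
    · intro hg
      rw [hga]
      rcases h3 with h3 | h3 | ⟨b, hb, h3⟩
      · exact Or.inl h3
      · exact Or.inr h3
      · exfalso
        apply h3
        have := congrArg Subtype.val (hg ⟨P 315 9 b, els_mem b hb⟩)
        rw [← hga]
        exact this.symm
    · rintro (hg | hg) q
      · apply Subtype.ext
        show (q : Pm 315) * g = g * q
        rw [hg, mul_one, one_mul]
      · apply Subtype.ext
        show (q : Pm 315) * g = g * q
        obtain ⟨b, hb, hqb⟩ := exists_el q.2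
        rw [hg, hqb]
        exact ((struct_spec b hb).2.1).symm
  have hzc : (⟨zP, zP_mem⟩ : ↥Qp) ∈ Subgroup.center ↥Qp := (hcen _).2 (Or.inr rfl)
  have hcenZ : Subgroup.center ↥Qp = Subgroup.zpowers (⟨zP, zP_mem⟩ : ↥Qp) := by
    apply le_antisymm
    · intro g hg
      rcases (hcen g).1 hg with h | h
      · have : g = 1 := Subtype.ext h
        rw [this]; exact Subgroup.one_mem _
      · have : g = ⟨zP, zP_mem⟩ := Subtype.ext h
        rw [this]; exact Subgroup.mem_zpowers _
    · rw [Subgroup.zpowers_le]; exact hzc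
  have hordz : orderOf (⟨zP, zP_mem⟩ : ↥Qp) = 2 := by
    apply orderOf_eq_prime
    · apply Subtype.ext
      show zP ^ 2 = 1
      rw [pow_two, zP_mul]
    · intro h
      exact zP_ne (congrArg Subtype.val h)
  have hcomm : ∀ a b : ↥Qp, ⁅a, b⁆ ∈ Subgroup.center ↥Qp := by
    intro a b
    rw [hcen]
    obtain ⟨a', ha', haa⟩ := exists_el a.2
    obtain ⟨b', hb', hbb⟩ := exists_el b.2
    show ⁅(a : Pm 315), (b : Pm 315)⁆ = 1 ∨ ⁅(a : Pm 315), (b : Pm 315)⁆ = zP
    rw [haa, hbb]
    rcases (struct_spec a' ha').2.2.2 b' hb' with h | h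
    · left
      rw [commutatorElement_def, h]
      group
    · right
      rw [commutatorElement_def, h]
      group
  have hpow : ∀ a : ↥Qp, a ^ 2 ∈ Subgroup.center ↥Qp := by
    intro a
    rw [hcen]
    obtain ⟨a', ha', haa⟩ := exists_el a.2
    show (a : Pm 315) ^ 2 = 1 ∨ (a : Pm 315) ^ 2 = zP
    rw [haa, pow_two]
    exact (struct_spec a' ha').1
  have hcle : commutator ↥Qp ≤ Subgroup.center ↥Qp := by
    rw [commutator_def, Subgroup.commutator_le]
    intro a _ b _
    exact hcomm a b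
  have hcge : Subgroup.center ↥Qp ≤ commutator ↥Qp := by
    rw [hcenZ, Subgroup.zpowers_le]
    obtain ⟨a, ha, b, hb, hab⟩ := zT_spec.2.2.2.2
    have e2 : (⟨zP, zP_mem⟩ : ↥Qp) = ⁅(⟨P 315 9 a, els_mem a ha⟩ : ↥Qp), ⟨P 315 9 b, els_mem b hb⟩⁆ := by
      apply Subtype.ext
      show zP = ⁅P 315 9 a, P 315 9 b⁆
      rw [commutatorElement_def, hab]
      show zP = zP * _ * _ * _
      group
    rw [e2, commutator_def]
    exact Subgroup.commutator_mem_commutator (Subgroup.mem_top _) (Subgroup.mem_top _)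
  have hceq : commutator ↥Qp = Subgroup.center ↥Qp := le_antisymm hcle hcge
  refine ⟨⟨hP, ?_, hceq⟩, ?_⟩
  · apply le_antisymm
    · exact Cfsg.Agent.Helper14.frattini_le_of_elemAb 2 _ hcomm hpow
    · rw [← hceq]
      exact Cfsg.Agent.Helper1.IsPGroup.commutator_le_frattini hP
  · rw [hcenZ, Nat.card_zpowers, hordz]

/-! ### Normality -/

theorem Qp_le : Qp ≤ G1 := by
  unfold Qp Grp
  rw [Subgroup.closure_le]
  rintro g ⟨y, hy, rfl⟩
  obtain ⟨j, hj, hjy⟩ := List.mem_iff_getElem.mp hy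
  have h := allN_spec qsub_okK j hj
  rw [List.getD_eq_getElem _ _ hj, hjy] at h
  obtain ⟨g, hg, hrep⟩ := path_mem1 _ (isPath_valid h)
  rw [eq_of_isPath (qY_good y hy) h hrep]
  exact hg

theorem conj_gen (y : ℕ) (hy : y ∈ gens1) (q : ℕ) (hq : q ∈ qY) :
    P 315 9 y * P 315 9 q * (P 315 9 y)⁻¹ ∈ Qp := by
  obtain ⟨a, ha, hay⟩ := List.mem_iff_getElem.mp hy
  obtain ⟨b, hb, hbq⟩ := List.mem_iff_getElem.mp hq
  have h := norm_okK
  unfold normB at h
  rw [withList_eq] at h
  have h2 := allN_spec (allN_spec h a ha) b hb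
  have e1 : gens1'.getD a 0 = y := by
    rw [← hay]
    exact List.getD_eq_getElem _ _ ha
  have e2 : qY.getD b 0 = q := by
    rw [← hbq]
    exact List.getD_eq_getElem _ _ hb
  rw [withList_eq, Bool.and_eq_true, withNat_eq, withNat_eq, withList_eq, e1, e2] at h2
  obtain ⟨g, hg, hrep⟩ := qpath_mem _ h2.1
  have hyg := gens1_good y hy
  have hqg := qY_good q hq
  have h3 : P 315 9 y * P 315 9 q = g * P 315 9 y := by
    apply rep_unique (rep_mul (rep_P hyg) (rep_P hqg))
    apply rep_congr (rep_mul hrep (rep_P hyg))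
    intro i hi
    exact beq_iff.mp (allN_spec h2.2 i hi)
  rw [h3, mul_inv_cancel_right]
  exact hg

theorem gen_mem_normalizer (y : ℕ) (hy : y ∈ gens1) : P 315 9 y ∈ Subgroup.normalizer (Qp : Set (Pm 315)) := by
  rw [Subgroup.mem_normalizer_iff_map_conj_eq]
  apply Subgroup.eq_of_le_of_card_ge
  · unfold Qp Grp
    rw [MonoidHom.map_closure, Subgroup.closure_le]
    rintro _ ⟨g, ⟨q, hq, rfl⟩, rfl⟩
    exact conj_gen y hy q hq
  · rw [Subgroup.card_map_of_injective (MulAut.conj (P 315 9 y)).injective]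

theorem G1_le_normalizer : G1 ≤ Subgroup.normalizer (Qp : Set (Pm 315)) := by
  unfold G1 Grp
  rw [Subgroup.closure_le]
  rintro g ⟨y, hy, rfl⟩
  exact gen_mem_normalizer y hy

instance normal_Qp : (Qp.subgroupOf G1).Normal :=
  (Subgroup.normal_subgroupOf_iff_le_normalizer Qp_le).mpr G1_le_normalizer

/-! ### The quotient -/

theorem a5_spec : ∃ a ∈ G1, ∃ b ∈ G1, a * a = 1 ∧ b ^ 5 = 1 ∧ (a * b) ^ 3 = 1 ∧ a ∉ Qp := by
  have h := a5_okK
  unfold a5B at h
  simp only [Bool.and_eq_true, withList_eq] at h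
  obtain ⟨⟨hpa, hpb⟩, ⟨⟨h2, h5⟩, h3⟩, hne⟩ := h
  obtain ⟨a, ha, hra⟩ := path_mem1 _ hpa
  obtain ⟨b, hb, hrb⟩ := path_mem1 _ hpb
  refine ⟨a, ha, b, hb, ?_, ?_, ?_, ?_⟩
  · apply rep_unique (rep_mul hra hra)
    apply rep_congr rep_one
    intro i hi
    exact beq_iff.mp (allN_spec h2 i hi)
  · have e : b ^ 5 = b * (b * (b * (b * b))) := by
      rw [pow_succ, pow_succ, pow_succ, pow_succ, pow_one]
      simp only [mul_assoc]
    rw [e]
    apply rep_unique (rep_mul hrb (rep_mul hrb (rep_mul hrb (rep_mul hrb hrb))))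
    apply rep_congr rep_one
    intro i hi
    exact beq_iff.mp (allN_spec h5 i hi)
  · have e : (a * b) ^ 3 = a * (b * (a * (b * (a * b)))) := by
      rw [pow_succ, pow_succ, pow_one]
      simp only [mul_assoc]
    rw [e]
    apply rep_unique (rep_mul hra (rep_mul hrb (rep_mul hra (rep_mul hrb (rep_mul hra hrb)))))
    apply rep_congr rep_one
    intro i hi
    exact beq_iff.mp (allN_spec h3 i hi)
  · intro haQ
    obtain ⟨e, he, hae⟩ := exists_el haQ
    have h4 := List.all_eq_true.mp hne e he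
    have h6 : (allN 315 fun i => Nat.beq (slot 9 e i) (compLook 9 (pathTabs 315 9 tail pa) i)) = true := by
      apply allN_of_forall
      intro i hi
      rw [beq_iff]
      have h7 := rep_P (els_good e he) ⟨i, hi⟩
      have h8 := hra ⟨i, hi⟩
      rw [← hae] at h7
      rw [← h7, h8]
      rfl
    rw [h6] at h4
    exact Bool.noConfusion h4

instance : Finite ↥G1 := Nat.finite_of_card_ne_zero (by rw [card_G1]; norm_num)

theorem card_Q1 : Nat.card ↥(Qp.subgroupOf G1) = 32 := by
  rw [Nat.card_congr (Subgroup.subgroupOfEquivOfLe Qp_le).toEquiv, card_Qp]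

theorem card_quot : Nat.card (↥G1 ⧸ Qp.subgroupOf G1) = 60 := by
  have h := Subgroup.card_eq_card_quotient_mul_card_subgroup (Qp.subgroupOf G1)
  rw [card_G1, card_Q1] at h
  omega

theorem quot_equiv : Nonempty (↥G1 ⧸ Qp.subgroupOf G1 ≃* alternatingGroup (Fin 5)) := by
  obtain ⟨a, ha, b, hb, haa, hb5, hab3, haQ⟩ := a5_spec
  let a' : ↥G1 ⧸ Qp.subgroupOf G1 := QuotientGroup.mk (⟨a, ha⟩ : ↥G1)
  let b' : ↥G1 ⧸ Qp.subgroupOf G1 := QuotientGroup.mk (⟨b, hb⟩ : ↥G1)
  have h1 : a' * a' = 1 := by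
    show (QuotientGroup.mk (⟨a, ha⟩ : ↥G1) : ↥G1 ⧸ Qp.subgroupOf G1) * QuotientGroup.mk (⟨a, ha⟩ : ↥G1) = 1
    rw [← QuotientGroup.mk_mul, ← QuotientGroup.mk_one]
    congr 1
    exact Subtype.ext haa
  have h2 : b' ^ 5 = 1 := by
    show (QuotientGroup.mk (⟨b, hb⟩ : ↥G1) : ↥G1 ⧸ Qp.subgroupOf G1) ^ 5 = 1
    rw [← QuotientGroup.mk_pow, ← QuotientGroup.mk_one]
    congr 1
    exact Subtype.ext hb5
  have h3 : (a' * b') ^ 3 = 1 := by
    show ((QuotientGroup.mk (⟨a, ha⟩ : ↥G1) : ↥G1 ⧸ Qp.subgroupOf G1) * QuotientGroup.mk (⟨b, hb⟩ : ↥G1)) ^ 3 = 1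
    rw [← QuotientGroup.mk_mul, ← QuotientGroup.mk_pow, ← QuotientGroup.mk_one]
    congr 1
    exact Subtype.ext hab3
  have hne : a' ≠ 1 := by
    intro h
    have h4 : (⟨a, ha⟩ : ↥G1) ∈ Qp.subgroupOf G1 := (QuotientGroup.eq_one_iff _).mp h
    rw [Subgroup.mem_subgroupOf] at h4
    exact haQ h4
  obtain ⟨φ, hφx, -⟩ := Cfsg.Agent.Helper13.A5Pres.exists_hom a' b' h1 h2 h3
  have hinj : Function.Injective φ := by
    rw [← MonoidHom.ker_eq_bot_iff]
    haveI : IsSimpleGroup (alternatingGroup (Fin 5)) := alternatingGroup.isSimpleGroup (by simp)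
    rcases (inferInstance : φ.ker.Normal).eq_bot_or_eq_top with h | h
    · exact h
    · exfalso
      have : Cfsg.Agent.Helper13.A5Pres.x0 ∈ φ.ker := by rw [h]; trivial
      rw [MonoidHom.mem_ker, hφx] at this
      exact hne this
  have hbij : Function.Bijective φ := by
    apply hinj.bijective_of_nat_card_le
    rw [card_quot, Nat.card_eq_fintype_card]
    decide
  exact ⟨(MulEquiv.ofBijective φ hbij).symm⟩

/-! ### The shape -/

/-- a normal extraspecial subgroup of order 32 with quotient the alternating group of degree five -/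
def Shape32 (K : Type*) [Group K] : Prop :=
  ∃ (Q : Subgroup K) (_ : Q.Normal), Nat.card Q = 32 ∧ IsExtraspecial 2 Q ∧
    Nonempty (K ⧸ Q ≃* alternatingGroup (Fin 5))

theorem Shape32.of_equiv {K K' : Type*} [Group K] [Group K'] (h : Shape32 K) (e : K ≃* K') : Shape32 K' := by
  obtain ⟨Q, hQn, hcard, hex, ⟨q⟩⟩ := h
  have hQ'n : (Q.map e.toMonoidHom).Normal := hQn.map e.toMonoidHom e.surjective
  let eQ : Q ≃* Q.map e.toMonoidHom := e.subgroupMap Q
  refine ⟨Q.map e.toMonoidHom, hQ'n, ?_, ?_, ?_⟩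
  · rw [← Nat.card_congr eQ.toEquiv, hcard]
  · exact Cfsg.Agent.Helper3.ExtraspecialEquiv.isExtraspecial_of_mulEquiv eQ hex
  · exact ⟨(QuotientGroup.congr Q (Q.map e.toMonoidHom) e rfl).symm.trans q⟩

theorem shape32_G1 : Shape32 ↥G1 :=
  ⟨Qp.subgroupOf G1, normal_Qp, card_Q1,
    Cfsg.Agent.Helper3.ExtraspecialEquiv.isExtraspecial_of_mulEquiv (Subgroup.subgroupOfEquivOfLe Qp_le).symm
      isExtraspecial_Qp, quot_equiv⟩

end Cfsg.Agent.Helper22.IcoCent
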