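import Cfsg.Agent.Helper22.IcoJ2

/-!
# The centre of the group generated by the reflections of the icosian Leech lattice
-/

set_option autoImplicit false

namespace Cfsg.Agent.Helper22.Ico

open Quaternion Cfsg.Spor

/-! ### Minus one -/

/-- the negation, as a permutation of the lattice -/
noncomputable def negPerm : Equiv.Perm icoLeech where
  toFun x := ⟨-x.1, icoLeech_neg x.2⟩
  invFun x := ⟨-x.1, icoLeech_neg x.2⟩
  left_inv x := Subtype.ext (neg_neg x.1)
  right_inv x := Subtype.ext (neg_neg x.1)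

theorem negPerm_apply (x : icoLeech) : (negPerm x).1 = -x.1 := rfl

theorem two_star : star (2 : ℍ[ℝ]) = 2 := by
  rw [show (2 : ℍ[ℝ]) = ((2 : ℝ) : ℍ[ℝ]) by norm_cast, Quaternion.star_coe]

theorem qip_single (y : Vec) {v : Vec} {s : Fin 3} (hv : ∀ t, t ≠ s → v t = 0) : qip y v = y s * star (v s) := by
  unfold qip
  rw [Finset.sum_eq_single s]
  · intro t _ hts
    rw [hv t hts, star_zero, mul_zero]
  · intro h
    exact absurd (Finset.mem_univ s) h

theorem e2_ne {s t : Fin 3} (h : t ≠ s) : e2 s t = 0 := Pi.single_eq_of_ne h _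

theorem e2_same (s : Fin 3) : e2 s s = 2 := Pi.single_eq_same s 2

theorem isMin_e2 (s : Fin 3) : IsMin (e2 s) := by
  refine ⟨e2_mem s, ?_⟩
  rw [qip_e2, e2_same, two_star]
  norm_num

theorem qrefl_e2_apply (s : Fin 3) (x : Vec) (t : Fin 3) :
    qrefl (e2 s) x t = if t = s then -x t else x t := by
  have h1 : qip x (e2 s) = x s * 2 := by
    rw [qip_single x (fun t ht => e2_ne ht), e2_same, two_star]
  unfold qrefl
  rw [h1, mul_two, half_smul_add]
  split_ifs with h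
  · rw [h, e2_same, mul_two]
    abel
  · rw [e2_ne h, mul_zero, sub_zero]

theorem negPerm_eq : negPerm = reflOf (e2 0) * reflOf (e2 1) * reflOf (e2 2) := by
  ext x : 1
  apply Subtype.ext
  show -x.1 = (reflOf (e2 0) (reflOf (e2 1) (reflOf (e2 2) x))).1
  rw [reflOf_apply (isMin_e2 0), reflOf_apply (isMin_e2 1), reflOf_apply (isMin_e2 2)]
  funext t
  rw [qrefl_e2_apply, qrefl_e2_apply, qrefl_e2_apply]
  fin_cases t <;> simp

theorem negPerm_mem : negPerm ∈ twoJ2 := by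
  rw [negPerm_eq]
  exact twoJ2.mul_mem (twoJ2.mul_mem (reflOf_mem (isMin_e2 0)) (reflOf_mem (isMin_e2 1))) (reflOf_mem (isMin_e2 2))

theorem neg_one_mem_icosians : (-1 : ℍ[ℝ]) ∈ icosians := Subring.neg_mem _ (Subring.one_mem _)

theorem IsLin.map_neg {g : Equiv.Perm icoLeech} (hg : IsLin g) (x : icoLeech) :
    (g ⟨-x.1, icoLeech_neg x.2⟩).1 = -(g x).1 := by
  have h := hg.map_smul (-1) neg_one_mem_icosians x
  have e : (⟨(-1 : ℍ[ℝ]) • x.1, icoLeech_smul neg_one_mem_icosians x.2⟩ : icoLeech) = ⟨-x.1, icoLeech_neg x.2⟩ :=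
    Subtype.ext (neg_one_smul _ _)
  rw [e, neg_one_smul] at h
  exact h

theorem negPerm_comm {g : Equiv.Perm icoLeech} (hg : g ∈ twoJ2) : g * negPerm = negPerm * g := by
  ext x : 1
  apply Subtype.ext
  show (g (negPerm x)).1 = (negPerm (g x)).1
  rw [negPerm_apply]
  exact (isLin_of_mem hg).map_neg x

/-- minus one, as an element of the group -/
noncomputable def zJ : twoJ2 := ⟨negPerm, negPerm_mem⟩

theorem zJ_mem_center : zJ ∈ Subgroup.center twoJ2 := by
  rw [Subgroup.mem_center_iff]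
  intro g
  exact Subtype.ext (negPerm_comm g.2)

theorem two_ne_zero' : (2 : ℍ[ℝ]) ≠ 0 := by
  intro h
  have h' : ((2 : ℝ) : ℍ[ℝ]) = ((0 : ℝ) : ℍ[ℝ]) := by rw [Quaternion.coe_zero, ← h]; norm_cast
  have := Quaternion.coe_injective h'
  norm_num at this

theorem negPerm_ne_one : negPerm ≠ 1 := by
  intro h
  have h1 := congrArg (fun f : Equiv.Perm icoLeech => (f ⟨e2 0, e2_mem 0⟩).1 0) h
  simp only [negPerm_apply, Equiv.Perm.coe_one, id_eq, Pi.neg_apply, e2_same] at h1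
  have h2 : (2 : ℍ[ℝ]) + 2 = 0 := by
    nth_rewrite 1 [← h1]
    exact neg_add_cancel 2
  have h3 : (2 : ℍ[ℝ]) * 2 = 0 := by rw [mul_two]; exact h2
  exact two_ne_zero' (mul_self_eq_zero.mp h3)

/-! ### The central elements -/

theorem half_four : (1 / 2 : ℝ) • (4 : ℍ[ℝ]) = 2 := by
  rw [show (4 : ℍ[ℝ]) = 2 + 2 by norm_num, half_smul_add]

theorem qrefl_self {r : Vec} (h4 : qip r r = 4) : qrefl r r = -r := by
  rw [qrefl_eq, h4, half_four, two_smul]
  abel

theorem add_self_of_reflOf_eq {w r : Vec} (hw : IsMin w) (hr : IsMin r) (h : reflOf w = reflOf r) :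
    w + w = ((1 / 2 : ℝ) • qip w r) • r := by
  have h1 := reflOf_apply hw ⟨w, hw.1⟩
  have h2 := reflOf_apply hr ⟨w, hw.1⟩
  rw [h, h2] at h1
  simp only at h1
  rw [qrefl_self hw.2, qrefl_eq] at h1
  have h3 : ((1 / 2 : ℝ) • qip w r) • r = w - -w := by
    rw [← h1]
    abel
  rw [h3]
  abel

theorem add_self_cancel {a b : ℍ[ℝ]} (h : a + a = b + b) : a = b := by
  have h1 : (2 : ℍ[ℝ]) * a = 2 * b := by rw [two_mul, two_mul, h]
  exact mul_left_cancel₀ two_ne_zero' h1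

/-- a central element: linear and commuting with all reflections -/
structure IsCentral (g : Equiv.Perm icoLeech) : Prop where
  lin : IsLin g
  comm : ∀ r : Vec, IsMin r → g * reflOf r = reflOf r * g

namespace IsCentral

variable {g : Equiv.Perm icoLeech}

theorem line (hg : IsCentral g) (r : icoLeech) (hr : IsMin r.1) :
    (g r).1 + (g r).1 = ((1 / 2 : ℝ) • qip (g r).1 r.1) • r.1 := by
  apply add_self_of_reflOf_eq (hg.lin.isMin r hr) hr
  rw [← hg.lin.conj_reflOf r hr, hg.comm r.1 hr]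
  group

/-- twice a basis vector, as a vector of the lattice -/
noncomputable def E (s : Fin 3) : icoLeech := ⟨e2 s, e2_mem s⟩

theorem coord_E_ne (hg : IsCentral g) {s t : Fin 3} (h : t ≠ s) : (g (E s)).1 t = 0 := by
  have h1 := congrFun (hg.line (E s) (isMin_e2 s)) t
  simp only [Pi.add_apply, Pi.smul_apply, smul_eq_mul] at h1
  have h2 : (E s).1 t = 0 := e2_ne h
  rw [h2, mul_zero] at h1
  have h3 : (g (E s)).1 t + (g (E s)).1 t = 0 + 0 := by rw [h1, add_zero]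
  exact add_self_cancel h3

theorem coord_mul (hg : IsCentral g) (x : icoLeech) (s : Fin 3) :
    (g x).1 s * star ((g (E s)).1 s) = x.1 s * 2 := by
  have h := hg.lin.map_ip x (E s)
  rw [qip_single _ (fun t ht => hg.coord_E_ne ht)] at h
  rw [h]
  show qip x.1 (e2 s) = _
  rw [qip_single _ (fun t ht => e2_ne ht), e2_same, two_star]

/-- the multiplier of a coordinate -/
noncomputable def β (g : Equiv.Perm icoLeech) (s : Fin 3) : ℍ[ℝ] := (1 / 2 : ℝ) • (g (E s)).1 s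

theorem a_mul_star (hg : IsCentral g) (s : Fin 3) : (g (E s)).1 s * star ((g (E s)).1 s) = 4 := by
  rw [hg.coord_mul (E s) s]
  show e2 s s * 2 = 4
  rw [e2_same]
  norm_num

theorem star_mul_a (hg : IsCentral g) (s : Fin 3) : star ((g (E s)).1 s) * (g (E s)).1 s = 4 := by
  have h := hg.a_mul_star s
  rw [Quaternion.self_mul_star] at h
  rw [Quaternion.star_mul_self, h]

theorem coord (hg : IsCentral g) (x : icoLeech) (s : Fin 3) : (g x).1 s = x.1 s * β g s := by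
  have h1 : (g x).1 s * star ((g (E s)).1 s) * (g (E s)).1 s = x.1 s * 2 * (g (E s)).1 s := by
    rw [hg.coord_mul x s]
  rw [mul_assoc, hg.star_mul_a s] at h1
  -- (g x) s * 4 = x s * 2 * a
  unfold β
  rw [mul_smul_comm]
  have h2 : (g x).1 s * 4 = (4 : ℝ) • (g x).1 s := by
    rw [show (4 : ℍ[ℝ]) = ((4 : ℝ) : ℍ[ℝ]) by norm_cast, ← Quaternion.coe_commutes, ← Quaternion.coe_mul_eq_smul]
  have h3 : x.1 s * 2 * (g (E s)).1 s = (2 : ℝ) • (x.1 s * (g (E s)).1 s) := by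
    rw [show (2 : ℍ[ℝ]) = ((2 : ℝ) : ℍ[ℝ]) by norm_cast, ← Quaternion.coe_commutes, mul_assoc,
      Quaternion.coe_mul_eq_smul]
  rw [h2, h3] at h1
  have h4 : (g x).1 s = (1 / 4 : ℝ) • ((4 : ℝ) • (g x).1 s) := by
    rw [smul_smul]
    norm_num
  rw [h4, h1, smul_smul]
  norm_num

theorem β_mul_star (hg : IsCentral g) (s : Fin 3) : β g s * star (β g s) = 1 := by
  unfold β
  rw [Quaternion.star_smul, smul_mul_smul_comm, hg.a_mul_star s,
    show (4 : ℍ[ℝ]) = ((4 : ℝ) : ℍ[ℝ]) by norm_cast, ← Quaternion.coe_smul]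
  norm_num

/-- two multipliers are equal, by a minimal vector with two opposite coordinates -/
theorem β_eq (hg : IsCentral g) (r : icoLeech) (hr : IsMin r.1) {s t : Fin 3} {p : ℍ[ℝ]} (hp : p ≠ 0)
    (hs : r.1 s = p) (ht : r.1 t = -p) : β g s = β g t := by
  have h := hg.line r hr
  have h1 := congrFun h s
  have h2 := congrFun h t
  simp only [Pi.add_apply, Pi.smul_apply, smul_eq_mul] at h1 h2
  rw [hg.coord r s, hs] at h1
  rw [hg.coord r t, ht, mul_neg, neg_mul, ← neg_add, neg_inj] at h2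
  have h3 : p * (β g s + β g s) = p * (β g t + β g t) := by
    rw [mul_add, mul_add, h1, h2]
  exact add_self_cancel (mul_left_cancel₀ hp h3)

/-- a multiplier commutes with a coordinate of a minimal vector that has a coordinate equal to one -/
theorem β_comm (hg : IsCentral g) (r : icoLeech) (hr : IsMin r.1) {s t : Fin 3} (hs : r.1 s = 1)
    (hst : β g s = β g t) : r.1 t * β g s = β g s * r.1 t := by
  have h := hg.line r hr
  have h1 := congrFun h s
  have h2 := congrFun h t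
  simp only [Pi.add_apply, Pi.smul_apply, smul_eq_mul] at h1 h2
  rw [hg.coord r s, hs, one_mul, mul_one] at h1
  rw [hg.coord r t, ← h1, ← hst, ← mul_add, add_mul] at h2
  have h3 : r.1 t * β g s + r.1 t * β g s = β g s * r.1 t + β g s * r.1 t := by
    rw [← mul_add]
    exact h2
  exact add_self_cancel h3

end IsCentral

/-! ### Four minimal vectors -/

namespace V3

open Q

/-- the vector `(h, -h, 0)` -/
def v01 : V3 := ⟨H, neg H, zero⟩

/-- the vector `(0, h, -h)` -/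
def v12 : V3 := ⟨zero, H, neg H⟩

/-- a minimal vector with the coordinates `1` and `i` -/
def vI : V3 := ⟨one, ⟨⟨-1, 0⟩, ⟨-1, 0⟩, ⟨-1, 0⟩, ⟨1, -2⟩⟩, ⟨⟨0, 0⟩, ⟨2, 0⟩, ⟨0, 0⟩, ⟨0, 0⟩⟩⟩

/-- a minimal vector with the coordinates `1` and `j` -/
def vJ : V3 := ⟨one, ⟨⟨-1, 0⟩, ⟨-1, 0⟩, ⟨-1, 2⟩, ⟨1, 0⟩⟩, ⟨⟨0, 0⟩, ⟨0, 0⟩, ⟨2, 0⟩, ⟨0, 0⟩⟩⟩

theorem four_min : ∀ v ∈ [v01, v12, vI, vJ], inΛ v = true ∧ nrm v = ⟨16, 0⟩ := by decide +kernel

theorem isMin_of_four {v : V3} (hv : v ∈ [v01, v12, vI, vJ]) : IsMin v.ι :=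
  ⟨(mem_icoLeech_iff v).mpr (four_min v hv).1, qip_of_nrm_eq (four_min v hv).2⟩

end V3

/-- the quaternion unit `j` -/
def qJ : ℍ[ℝ] := ⟨0, 0, 1, 0⟩

theorem ι_qI' : Q.ι ⟨⟨0, 0⟩, ⟨2, 0⟩, ⟨0, 0⟩, ⟨0, 0⟩⟩ = qI := by
  ext <;> simp [Q.ι_re, Q.ι_imI, Q.ι_imJ, Q.ι_imK, qI, Z5.toReal]

theorem ι_qJ' : Q.ι ⟨⟨0, 0⟩, ⟨0, 0⟩, ⟨2, 0⟩, ⟨0, 0⟩⟩ = qJ := by
  ext <;> simp [Q.ι_re, Q.ι_imI, Q.ι_imJ, Q.ι_imK, qJ, Z5.toReal]

theorem icoH_ne_zero : icoH ≠ 0 := by
  intro h
  have := Q.H_mul_star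
  rw [h, zero_mul] at this
  exact two_ne_zero' this.symm

theorem qI_re : qI.re = 0 := rfl
theorem qI_imI : qI.imI = 1 := rfl
theorem qI_imJ : qI.imJ = 0 := rfl
theorem qI_imK : qI.imK = 0 := rfl
theorem qJ_re : qJ.re = 0 := rfl
theorem qJ_imI : qJ.imI = 0 := rfl
theorem qJ_imJ : qJ.imJ = 1 := rfl
theorem qJ_imK : qJ.imK = 0 := rfl

theorem real_of_comm {α : ℍ[ℝ]} (hi : qI * α = α * qI) (hj : qJ * α = α * qJ) : α = ((α.re : ℝ) : ℍ[ℝ]) := by
  have h1 : (qI * α).imJ = (α * qI).imJ := by rw [hi]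
  have h2 : (qI * α).imK = (α * qI).imK := by rw [hi]
  have h3 : (qJ * α).imK = (α * qJ).imK := by rw [hj]
  simp only [Quaternion.imJ_mul, Quaternion.imK_mul, qI_re, qI_imI, qI_imJ, qI_imK, qJ_re, qJ_imI, qJ_imJ,
    qJ_imK] at h1 h2 h3
  ext
  · simp
  · simp only [Quaternion.imI_coe]
    linarith
  · simp only [Quaternion.imJ_coe]
    linarith
  · simp only [Quaternion.imK_coe]
    linarith

namespace IsCentral

variable {g : Equiv.Perm icoLeech}

theorem β_all (hg : IsCentral g) : β g 1 = β g 0 ∧ β g 2 = β g 0 := by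
  have h01 : β g 0 = β g 1 := by
    have hm := V3.isMin_of_four (v := V3.v01) (by simp)
    exact hg.β_eq ⟨V3.v01.ι, hm.1⟩ hm icoH_ne_zero (by show V3.v01.ι 0 = icoH; rw [V3.ι_zero]; exact Q.ι_H)
      (by show V3.v01.ι 1 = -icoH; rw [V3.ι_one]; show Q.ι (Q.neg Q.H) = _; rw [Q.ι_neg, Q.ι_H])
  have h12 : β g 1 = β g 2 := by
    have hm := V3.isMin_of_four (v := V3.v12) (by simp)
    exact hg.β_eq ⟨V3.v12.ι, hm.1⟩ hm icoH_ne_zero (by show V3.v12.ι 1 = icoH; rw [V3.ι_one]; exact Q.ι_H)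
      (by show V3.v12.ι 2 = -icoH; rw [V3.ι_two]; show Q.ι (Q.neg Q.H) = _; rw [Q.ι_neg, Q.ι_H])
  exact ⟨h01.symm, by rw [← h12, ← h01]⟩

theorem β_real (hg : IsCentral g) : β g 0 = (((β g 0).re : ℝ) : ℍ[ℝ]) := by
  have h02 : β g 0 = β g 2 := hg.β_all.2.symm
  have hI : qI * β g 0 = β g 0 * qI := by
    have hm := V3.isMin_of_four (v := V3.vI) (by simp)
    have := hg.β_comm ⟨V3.vI.ι, hm.1⟩ hm (s := 0) (t := 2)
      (by show V3.vI.ι 0 = 1; rw [V3.ι_zero]; exact Q.ι_one) h02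
    have e : (⟨V3.vI.ι, hm.1⟩ : icoLeech).1 2 = qI := by
      show V3.vI.ι 2 = qI
      rw [V3.ι_two]
      exact ι_qI'
    rwa [e] at this
  have hJ : qJ * β g 0 = β g 0 * qJ := by
    have hm := V3.isMin_of_four (v := V3.vJ) (by simp)
    have := hg.β_comm ⟨V3.vJ.ι, hm.1⟩ hm (s := 0) (t := 2)
      (by show V3.vJ.ι 0 = 1; rw [V3.ι_zero]; exact Q.ι_one) h02
    have e : (⟨V3.vJ.ι, hm.1⟩ : icoLeech).1 2 = qJ := by
      show V3.vJ.ι 2 = qJ
      rw [V3.ι_two]
      exact ι_qJ'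
    rwa [e] at this
  exact real_of_comm hI hJ

theorem β_pm (hg : IsCentral g) : β g 0 = 1 ∨ β g 0 = -1 := by
  have h1 := hg.β_mul_star 0
  have h2 := hg.β_real
  rw [h2, Quaternion.star_coe, ← Quaternion.coe_mul] at h1
  have h3 : (β g 0).re * (β g 0).re = 1 := by
    have : (((β g 0).re * (β g 0).re : ℝ) : ℍ[ℝ]) = ((1 : ℝ) : ℍ[ℝ]) := by rw [h1]; norm_cast
    exact Quaternion.coe_injective this
  rcases mul_self_eq_one_iff.mp h3 with h | h
  · left
    rw [h2, h]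
    norm_cast
  · right
    rw [h2, h]
    norm_cast

theorem eq_one_or (hg : IsCentral g) : g = 1 ∨ g = negPerm := by
  have hβ : ∀ s, β g s = β g 0 := by
    intro s
    fin_cases s
    · rfl
    · exact hg.β_all.1
    · exact hg.β_all.2
  rcases hg.β_pm with h | h
  · left
    ext x : 1
    apply Subtype.ext
    funext s
    rw [hg.coord x s, hβ s, h, mul_one]
    rfl
  · right
    ext x : 1
    apply Subtype.ext
    funext s
    rw [hg.coord x s, hβ s, h, mul_neg, mul_one]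
    rfl

end IsCentral

theorem isCentral_of_mem_center {g : twoJ2} (hg : g ∈ Subgroup.center twoJ2) : IsCentral g.1 := by
  refine ⟨isLin_of_mem g.2, fun r hr => ?_⟩
  have := Subgroup.mem_center_iff.mp hg ⟨reflOf r, reflOf_mem hr⟩
  exact (congrArg Subtype.val this).symm

theorem center_cases {g : twoJ2} (hg : g ∈ Subgroup.center twoJ2) : g = 1 ∨ g = zJ := by
  rcases (isCentral_of_mem_center hg).eq_one_or with h | h
  · left
    exact Subtype.ext h
  · right
    exact Subtype.ext h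

theorem zJ_ne_one : zJ ≠ 1 := by
  intro h
  exact negPerm_ne_one (congrArg Subtype.val h)

theorem card_center : Nat.card (Subgroup.center twoJ2) = 2 := by
  rw [Nat.card_eq_two_iff]
  refine ⟨1, ⟨zJ, zJ_mem_center⟩, ?_, ?_⟩
  · intro h
    exact zJ_ne_one (congrArg Subtype.val h).symm
  · ext g
    simp only [Set.mem_insert_iff, Set.mem_singleton_iff, Set.mem_univ, iff_true]
    rcases center_cases g.2 with h | h
    · left
      exact Subtype.ext h
    · right
      exact Subtype.ext h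

theorem card_twoJ2 : Nat.card twoJ2 = 1209600 := by
  rw [Subgroup.card_eq_card_quotient_mul_card_subgroup (Subgroup.center twoJ2), card_center]
  have : Nat.card (twoJ2 ⧸ Subgroup.center twoJ2) = 604800 := card_J2
  rw [this]

end Cfsg.Agent.Helper22.Ico
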