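import Cfsg.Agent.Helper22.IcoCent
import Cfsg.Agent.Helper22.IcoCenter

/-!
# The centraliser of a reflection in the Hall–Janko group
-/

set_option autoImplicit false
set_option maxRecDepth 8000

namespace Cfsg.Agent.Helper22.Ico

open Quaternion Cfsg Cfsg.Spor Cfsg.Agent.Helper22.PermPack Cfsg.Agent.Helper22.IcoData
  Cfsg.Agent.Helper22.IcoGroup Cfsg.Agent.Helper22.IcoCent

/-! ### A reflection is not minus a reflection -/

/-- the sum of the diagonal coordinates of the images of twice the basis vectors -/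
noncomputable def trE (f : Equiv.Perm icoLeech) : ℍ[ℝ] := ∑ s, (f (IsCentral.E s)).1 s

theorem qip_e2_left (s : Fin 3) (r : Vec) : qip (e2 s) r = 2 * star (r s) := by
  unfold qip
  rw [Finset.sum_eq_single s]
  · rw [e2_same]
  · intro t _ hts
    rw [e2_ne hts, zero_mul]
  · intro h
    exact absurd (Finset.mem_univ s) h

theorem trE_reflOf {r : Vec} (hr : IsMin r) : trE (reflOf r) = 2 := by
  unfold trE
  have h1 : ∀ s, (reflOf r (IsCentral.E s)).1 s = 2 - star (r s) * r s := by
    intro s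
    rw [reflOf_apply hr]
    show qrefl r (e2 s) s = _
    unfold qrefl
    rw [qip_e2_left, e2_same, two_mul, half_smul_add]
  simp_rw [h1]
  rw [Finset.sum_sub_distrib]
  have h4 : ∑ s : Fin 3, star (r s) * r s = 4 := by
    have h := hr.2
    unfold qip at h
    rw [← h]
    apply Finset.sum_congr rfl
    intro s _
    rw [Quaternion.star_mul_self, Quaternion.self_mul_star]
  rw [h4]
  simp only [Finset.sum_const, Finset.card_univ, Fintype.card_fin]
  norm_num

theorem trE_neg (f : Equiv.Perm icoLeech) : trE (negPerm * f) = -trE f := by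
  unfold trE
  rw [← Finset.sum_neg_distrib]
  rfl

theorem rf_ne_neg {j k : ℕ} (hj : j < 315) (hk : k < 315) : rf k ≠ negPerm * rf j := by
  intro h
  have h1 := congrArg trE h
  rw [trE_neg, rf, rf, trE_reflOf (isMin_Rget hk), trE_reflOf (isMin_Rget hj)] at h1
  have h2 : (2 : ℍ[ℝ]) + 2 = 0 := by
    nth_rewrite 1 [h1]
    exact neg_add_cancel 2
  have h3 : (2 : ℍ[ℝ]) * 2 = 0 := by rw [mul_two]; exact h2
  rcases mul_eq_zero.mp h3 with h4 | h4 <;> exact two_ne_zero' h4

/-! ### The centraliser of the first reflection in the group of permutations -/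

/-- the first reflection -/
noncomputable def r0 : twoJ2 := ⟨rf 0, rf_mem (by norm_num)⟩

/-- its permutation of the 315 points -/
noncomputable def τ0 : Pm 315 := ρ r0

theorem τ0_mem : τ0 ∈ G := by
  rw [← range_ρ]
  exact ⟨r0, rfl⟩

theorem fix_iff (x : twoJ2) : ρ x 0 = 0 ↔ x * r0 = r0 * x := by
  rw [ρ_eq_iff]
  constructor
  · intro h
    apply Subtype.ext
    show x.1 * rf 0 = rf 0 * x.1
    have h' : x.1 * rf 0 * x.1⁻¹ = rf 0 := h
    calc x.1 * rf 0 = (x.1 * rf 0 * x.1⁻¹) * x.1 := by group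
      _ = rf 0 * x.1 := by rw [h']
  · intro h
    have h' : x.1 * rf 0 = rf 0 * x.1 := congrArg Subtype.val h
    show x.1 * rf 0 * x.1⁻¹ = rf 0
    rw [h']
    group

theorem comm_iff (x : twoJ2) : ρ x * τ0 = τ0 * ρ x ↔ ρ x 0 = 0 := by
  constructor
  · intro h
    have h1 : x * r0 * x⁻¹ * r0⁻¹ ∈ ρ.ker := by
      rw [MonoidHom.mem_ker, map_mul, map_mul, map_mul, map_inv, map_inv]
      show ρ x * τ0 * (ρ x)⁻¹ * τ0⁻¹ = 1
      rw [h]
      group
    rw [ker_ρ] at h1
    rcases center_cases h1 with h2 | h2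
    · rw [fix_iff]
      calc x * r0 = (x * r0 * x⁻¹ * r0⁻¹) * (r0 * x) := by group
        _ = r0 * x := by rw [h2, one_mul]
    · exfalso
      have h3 : x * r0 * x⁻¹ = zJ * r0 := by
        calc x * r0 * x⁻¹ = (x * r0 * x⁻¹ * r0⁻¹) * r0 := by group
          _ = zJ * r0 := by rw [h2]
      have h4 : x.1 * rf 0 * x.1⁻¹ = negPerm * rf 0 := congrArg Subtype.val h3
      have h5 := ρ_spec x 0
      have h6 : x.1 * rf 0 * x.1⁻¹ = rf (ρ x 0).1 := h5
      rw [h4] at h6
      exact rf_ne_neg (by norm_num) (ρ x 0).2 h6.symm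
  · intro h
    rw [fix_iff] at h
    show ρ x * ρ r0 = ρ r0 * ρ x
    rw [← map_mul, ← map_mul, h]

theorem mem_G1_of_fix {g : Pm 315} (hg : g ∈ G) (h0 : g 0 = 0) : g ∈ G1 := by
  have h1 : Nat.card (MulAction.stabilizer ↥G (0 : Fin 315)) = 1920 := by
    have h2 := MulAction.index_stabilizer ↥G (0 : Fin 315)
    rw [MulAction.orbit_eq_univ, Set.ncard_univ, Nat.card_eq_fintype_card, Fintype.card_fin] at h2
    have h3 := Subgroup.card_mul_index (MulAction.stabilizer ↥G (0 : Fin 315))
    rw [h2, card_G] at h3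
    omega
  have h4 : G1 = (MulAction.stabilizer ↥G (0 : Fin 315)).map G.subtype := by
    apply Subgroup.eq_of_le_of_card_ge
    · intro y hy
      refine ⟨⟨y, G1_le hy⟩, ?_, rfl⟩
      rw [SetLike.mem_coe, MulAction.mem_stabilizer_iff]
      exact G1_fix y hy
    · rw [Subgroup.card_map_of_injective G.subtype_injective, h1, card_G1]
  rw [h4]
  refine ⟨⟨g, hg⟩, ?_, rfl⟩
  rw [SetLike.mem_coe, MulAction.mem_stabilizer_iff]
  exact h0

/-- the centraliser of the first reflection is the point stabiliser -/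
noncomputable def centEquiv : ↥(Subgroup.centralizer {(⟨τ0, τ0_mem⟩ : ↥G)}) ≃* ↥G1 where
  toFun c := ⟨c.1.1, by
    have hc := Subgroup.mem_centralizer_iff.mp c.2 ⟨τ0, τ0_mem⟩ rfl
    have hc' : τ0 * c.1.1 = c.1.1 * τ0 := congrArg Subtype.val hc
    have hG : c.1.1 ∈ ρ.range := by
      rw [range_ρ]
      exact c.1.2
    obtain ⟨x, hx⟩ := hG
    apply mem_G1_of_fix c.1.2
    rw [← hx, ← comm_iff, hx, hc']⟩
  invFun g := ⟨⟨g.1, G1_le g.2⟩, by
    rw [Subgroup.mem_centralizer_iff]
    intro y hy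
    rw [Set.mem_singleton_iff] at hy
    rw [hy]
    apply Subtype.ext
    show τ0 * g.1 = g.1 * τ0
    have hG : g.1 ∈ ρ.range := by
      rw [range_ρ]
      exact G1_le g.2
    obtain ⟨x, hx⟩ := hG
    have := (comm_iff x).mpr (by rw [hx]; exact G1_fix g.1 g.2)
    rw [hx] at this
    exact this.symm⟩
  left_inv c := rfl
  right_inv g := rfl
  map_mul' c d := rfl

/-! ### Transport of centralisers -/

/-- an isomorphism maps centralisers to centralisers -/
def centCongr {A B : Type*} [Group A] [Group B] (e : A ≃* B) (x : A) :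
    ↥(Subgroup.centralizer {x}) ≃* ↥(Subgroup.centralizer {e x}) where
  toFun c := ⟨e c.1, by
    rw [Subgroup.mem_centralizer_iff]
    intro y hy
    rw [Set.mem_singleton_iff] at hy
    rw [hy, ← map_mul, ← map_mul, Subgroup.mem_centralizer_iff.mp c.2 x rfl]⟩
  invFun d := ⟨e.symm d.1, by
    rw [Subgroup.mem_centralizer_iff]
    intro y hy
    rw [Set.mem_singleton_iff] at hy
    rw [hy]
    apply e.injective
    rw [map_mul, map_mul, e.apply_symm_apply]
    exact Subgroup.mem_centralizer_iff.mp d.2 (e x) rfl⟩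
  left_inv c := Subtype.ext (e.symm_apply_apply c.1)
  right_inv d := Subtype.ext (e.apply_symm_apply d.1)
  map_mul' c d := Subtype.ext (map_mul e c.1 d.1)

theorem shape32_of_eq {A : Type*} [Group A] {x y : A} (h : x = y)
    (hs : Shape32 ↥(Subgroup.centralizer {x})) : Shape32 ↥(Subgroup.centralizer {y}) := h ▸ hs

theorem J2iso_mk (x : twoJ2) : (J2iso (QuotientGroup.mk x) : Pm 315) = ρ x := rfl

/-- the centraliser of a reflection in the Hall–Janko group -/
theorem shape32_centralizer (f : Equiv.Perm icoLeech) (hf : IsIcoReflection f) (hfm : f ∈ twoJ2) :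
    Shape32 ↥(Subgroup.centralizer {(QuotientGroup.mk ⟨f, hfm⟩ : J2)}) := by
  have hr0 : IsIcoReflection (rf 0) := (isIcoReflection_iff_rf _).mpr ⟨0, by norm_num, rfl⟩
  obtain ⟨g, hg, hgf⟩ := exists_conj_refl (rf 0) f hr0 hf
  -- the centraliser of the first reflection
  have h1 : Shape32 ↥(Subgroup.centralizer {(⟨τ0, τ0_mem⟩ : ↥G)}) := shape32_G1.of_equiv centEquiv.symm
  have e1 : J2iso (QuotientGroup.mk r0) = ⟨τ0, τ0_mem⟩ := Subtype.ext (J2iso_mk r0)
  have h2 : Shape32 ↥(Subgroup.centralizer {(QuotientGroup.mk r0 : J2)}) :=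
    (shape32_of_eq e1.symm h1).of_equiv (centCongr J2iso (QuotientGroup.mk r0)).symm
  have h3 := h2.of_equiv (centCongr (MulAut.conj (QuotientGroup.mk ⟨g, hg⟩ : J2)) (QuotientGroup.mk r0))
  refine shape32_of_eq ?_ h3
  rw [MulAut.conj_apply, ← QuotientGroup.mk_inv, ← QuotientGroup.mk_mul, ← QuotientGroup.mk_mul]
  congr 1
  exact Subtype.ext hgf

end Cfsg.Agent.Helper22.Ico
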