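import Cfsg.Agent.Helper22.IcoData

/-!
# Kernel facts about the stabiliser chain of the group of order 604800 on 315 points
-/

set_option autoImplicit false

namespace Cfsg.Agent.Helper22.IcoGroup

open Cfsg.Agent.Helper22.PermPack Cfsg.Agent.Helper22.IcoData

theorem gens_goodK : gens.all (goodB 315 9) = true := by decide +kernel

theorem gens4_goodK : gens4.all (goodB 315 9) = true := by decide +kernel

theorem chain_okK : chainOK 315 9 gens levels = true := by decide +kernel

theorem prod_levels : (levels.map fun L => L.m).prod = 604800 := by decide +kernel

theorem slp_okK : slpOK 315 9 gens4 slp = true := by decide +kernel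

theorem gens_subK : (gens.all fun y => gens4.contains y || slp.any fun e => e.1 == y) = true := by decide +kernel

theorem gens4_subK : (gens4.all fun y => gens.contains y) = true := by decide +kernel

/-! ### Transitivity -/

/-- the check of the transitivity -/
def transB : Bool := allN 315 fun γ => withNat (slot 9 L0.pos γ) fun k =>
  pathValid levels [k, 0, 0] && Nat.beq (pathLook 315 9 levels [k, 0, 0] 0) γ

theorem trans_okK : transB = true := by decide +kernel

/-! ### The orbits of the point stabiliser -/

/-- the label of a point -/
def lab (γ : ℕ) : ℕ := slot 9 labs γ

/-- the representatives of the orbits of the point stabiliser -/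
def root (l : ℕ) : ℕ := slot 9 roots l

/-- the path to a point -/
def pp (γ : ℕ) : List ℕ := decodePath 9 2 (slot 18 pps γ)

/-- the lower levels -/
def tail : List Lv := [L1, L2]

/-- the check of the orbits of the point stabiliser -/
def primB : Bool := allN 315 fun γ => withNat (lab γ) fun l =>
  cond (Nat.beq γ 0) (Nat.beq l 0)
    (Nat.blt 0 l && Nat.blt l 6 && withList (pp γ) fun p =>
      pathValid tail p && Nat.beq (pathLook 315 9 tail p (root l)) γ)

theorem prim_okK : primB = true := by decide +kernel

/-- the sizes of the orbits of the point stabiliser -/
def labCount (l : ℕ) : ℕ := ((List.range 315).filter fun γ => lab γ == l).length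

theorem labCountK : (List.range 6).map labCount = [1, 80, 10, 160, 32, 32] := by decide +kernel

/-! ### The elements of order seven -/

/-- the seventh power of a function -/
def pow7 (f : ℕ → ℕ) (i : ℕ) : ℕ := f (f (f (f (f (f (f i))))))

/-- the check of the factorisations of the generators -/
def sevenB : Bool := (List.range gens.length).all fun j =>
  withList (sevens.getD j ([], [])).1 fun pu => withList (sevens.getD j ([], [])).2 fun pv =>
    pathValid levels pu && pathValid levels pv &&
      withList (pathTabs 315 9 levels pu) fun tu => withList (pathTabs 315 9 levels pv) fun tv =>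
        withNat (gens.getD j 0) fun y =>
          (allN 315 fun i => Nat.beq (pow7 (compLook 9 tu) i) i) &&
            (allN 315 fun i => Nat.beq (pow7 (compLook 9 tv) i) i) &&
              (allN 315 fun i => Nat.beq (slot 9 y i) (compLook 9 tu (compLook 9 tv i)))

theorem seven_okK : sevenB = true := by decide +kernel

end Cfsg.Agent.Helper22.IcoGroup
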