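import Cfsg.Agent.Helper22.IcoCentData
import Cfsg.Agent.Helper22.IcoGroupK

/-!
# Kernel facts about the normal subgroup of order 32 of the point stabiliser
-/

set_option autoImplicit false

namespace Cfsg.Agent.Helper22.IcoCent

open Cfsg.Agent.Helper22.PermPack Cfsg.Agent.Helper22.IcoData Cfsg.Agent.Helper22.IcoCentData
  Cfsg.Agent.Helper22.IcoGroup

theorem qY_goodK : qY.all (goodB 315 9) = true := by decide +kernel

theorem qchain_okK : chainOK 315 9 qY qlevels = true := by decide +kernel

theorem prod_qlevels : (qlevels.map fun L => L.m).prod = 32 := by decide +kernel

/-- two tables agree -/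
def sameT (a b : ℕ) : Bool := allN 315 fun i => Nat.beq (slot 9 a i) (slot 9 b i)

/-- a table agrees with the product along a path -/
def isPath (ls : List Lv) (t : ℕ) (p : List ℕ) : Bool :=
  pathValid ls p && withNat t fun t' => withList (pathTabs 315 9 ls p) fun ts =>
    allN 315 fun i => Nat.beq (slot 9 t' i) (compLook 9 ts i)

/-- the generators lie in the point stabiliser -/
def qsubB : Bool := allN qY.length fun j => isPath tail (qY.getD j 0) (qpaths.getD j [])

theorem qsub_okK : qsubB = true := by decide +kernel

/-- the generators of the point stabiliser -/
def gens1' : List ℕ := gens.filter fun y => Nat.beq (slot 9 y L0.b) L0.b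

/-- the conjugates of the generators -/
def normB : Bool := withList gens1' fun Y1 => allN Y1.length fun a => allN qY.length fun b =>
  withList (ncert.getD (a * qY.length + b) []) fun p => pathValid qlevels p &&
    withNat (Y1.getD a 0) fun y => withNat (qY.getD b 0) fun q => withList (pathTabs 315 9 qlevels p) fun ts =>
      allN 315 fun i => Nat.beq (slot 9 y (slot 9 q i)) (compLook 9 ts (slot 9 y i))

theorem norm_okK : normB = true := by decide +kernel

/-- the list of the elements -/
def elsB : Bool := allN 16 fun k0 => allN 2 fun k1 =>
  goodB 315 9 (els.getD (2 * k0 + k1) 0) && isPath qlevels (els.getD (2 * k0 + k1) 0) [k0, k1]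

theorem els_okK : elsB = true := by decide +kernel

theorem els_length : els.length = 32 := by decide +kernel

/-- the elements are distinct -/
def distinctB : Bool := allN 32 fun i => allN 32 fun j =>
  Nat.beq i j || !sameT (els.getD i 0) (els.getD j 0)

theorem distinct_okK : distinctB = true := by decide +kernel

/-- the composition of two tables agrees with a third composition -/
def commT (a b : ℕ) : Bool := allN 315 fun i => Nat.beq (slot 9 a (slot 9 b i)) (slot 9 b (slot 9 a i))

/-- the commutator of two tables is the central involution -/
def commzT (a b : ℕ) : Bool :=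
  allN 315 fun i => Nat.beq (slot 9 a (slot 9 b i)) (slot 9 zT (slot 9 b (slot 9 a i)))

/-- a table is the identity -/
def isIdT (a : ℕ) : Bool := allN 315 fun i => Nat.beq (slot 9 a i) i

/-- the square of a table is the identity or the central involution -/
def sqT (a : ℕ) : Bool :=
  (allN 315 fun i => Nat.beq (slot 9 a (slot 9 a i)) i) ||
    (allN 315 fun i => Nat.beq (slot 9 a (slot 9 a i)) (slot 9 zT i))

/-- commutators and squares -/
def structB : Bool := withList els fun E => E.all fun a => sqT a && commT zT a &&
  (isIdT a || sameT a zT || E.any fun b => !commT a b) && E.all fun b => commT a b || commzT a b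

theorem struct_okK : structB = true := by decide +kernel

/-- the central involution is an element, and a commutator -/
def zB : Bool := goodB 315 9 zT && (els.any fun a => sameT a zT) &&
  (els.any fun a => els.any fun b => commzT a b && !commT a b) && !isIdT zT &&
    allN 315 fun i => Nat.beq (slot 9 zT (slot 9 zT i)) i

theorem z_okK : zB = true := by decide +kernel

/-- the complement: generators of orders two and five with a product of order three -/
def a5B : Bool := pathValid tail pa && pathValid tail pb &&
  withList (pathTabs 315 9 tail pa) fun ta => withList (pathTabs 315 9 tail pb) fun tb =>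
    (allN 315 fun i => Nat.beq (compLook 9 ta (compLook 9 ta i)) i) &&
    (allN 315 fun i => Nat.beq (compLook 9 tb (compLook 9 tb (compLook 9 tb (compLook 9 tb (compLook 9 tb i))))) i) &&
    (allN 315 fun i => Nat.beq (compLook 9 ta (compLook 9 tb (compLook 9 ta (compLook 9 tb
      (compLook 9 ta (compLook 9 tb i)))))) i) &&
    els.all fun e => !(allN 315 fun i => Nat.beq (slot 9 e i) (compLook 9 ta i))

theorem a5_okK : a5B = true := by decide +kernel

end Cfsg.Agent.Helper22.IcoCent
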