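import Cfsg.Agent.Helper22.IcoK1

/-!
# The representatives of the minimal vectors of the icosian Leech lattice
-/

set_option autoImplicit false

namespace Cfsg.Agent.Helper22.Ico

open Quaternion Cfsg.Spor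

namespace V3

open Q

/-! ### The representatives -/

/-- the representatives with three nonzero coordinates, the first being one -/
def repsA0 : List V3 := c1list.flatMap fun y => c1list.filterMap fun z =>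
  if (tr y + tr z == 24) && inΛ ⟨one, y, z⟩ then some ⟨one, y, z⟩ else none

/-- the representatives with three nonzero coordinates, the second being the first unit -/
def repsA1 : List V3 := c1list.flatMap fun y => c1list.filterMap fun z =>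
  if (tr y + tr z == 24) && (tr y != 8) && inΛ ⟨y, one, z⟩ then some ⟨y, one, z⟩ else none

/-- the representatives with three nonzero coordinates, the third being the first unit -/
def repsA2 : List V3 := c1list.flatMap fun y => c1list.filterMap fun z =>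
  if (tr y + tr z == 24) && (tr y != 8) && (tr z != 8) && inΛ ⟨y, z, one⟩ then some ⟨y, z, one⟩ else none

/-- the representatives with first coordinate zero -/
def repsB0 : List V3 := Ulist.filterMap fun b =>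
  if inΛ ⟨zero, H, mulI b H⟩ then some ⟨zero, H, mulI b H⟩ else none

/-- the representatives with second coordinate zero -/
def repsB1 : List V3 := Ulist.filterMap fun b =>
  if inΛ ⟨H, zero, mulI b H⟩ then some ⟨H, zero, mulI b H⟩ else none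

/-- the representatives with third coordinate zero -/
def repsB2 : List V3 := Ulist.filterMap fun b =>
  if inΛ ⟨H, mulI b H, zero⟩ then some ⟨H, mulI b H, zero⟩ else none

/-- the representatives with one nonzero coordinate -/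
def repsC : List V3 := [⟨two, zero, zero⟩, ⟨zero, two, zero⟩, ⟨zero, zero, two⟩]

/-- the representatives of the minimal vectors -/
def reps : List V3 := repsA0 ++ repsA1 ++ repsA2 ++ repsB0 ++ repsB1 ++ repsB2 ++ repsC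

/-- the list of the representatives -/
def repsLit : List V3 := [
⟨⟨⟨2, 0⟩, ⟨0, 0⟩, ⟨0, 0⟩, ⟨0, 0⟩⟩, ⟨⟨-2, 0⟩, ⟨0, 0⟩, ⟨0, 0⟩, ⟨0, 0⟩⟩, ⟨⟨-1, 0⟩, ⟨-1, 0⟩, ⟨1, 0⟩, ⟨-1, 2⟩⟩⟩,
⟨⟨⟨2, 0⟩, ⟨0, 0⟩, ⟨0, 0⟩, ⟨0, 0⟩⟩, ⟨⟨-2, 0⟩, ⟨0, 0⟩, ⟨0, 0⟩, ⟨0, 0⟩⟩, ⟨⟨-1, 0⟩, ⟨-1, 2⟩, ⟨-1, 0⟩, ⟨1, 0⟩⟩⟩,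
⟨⟨⟨2, 0⟩, ⟨0, 0⟩, ⟨0, 0⟩, ⟨0, 0⟩⟩, ⟨⟨-2, 0⟩, ⟨0, 0⟩, ⟨0, 0⟩, ⟨0, 0⟩⟩, ⟨⟨-1, 0⟩, ⟨1, 0⟩, ⟨-1, 2⟩, ⟨-1, 0⟩⟩⟩,
⟨⟨⟨2, 0⟩, ⟨0, 0⟩, ⟨0, 0⟩, ⟨0, 0⟩⟩, ⟨⟨-2, 0⟩, ⟨0, 0⟩, ⟨0, 0⟩, ⟨0, 0⟩⟩, ⟨⟨-1, 2⟩, ⟨1, 0⟩, ⟨1, 0⟩, ⟨1, 0⟩⟩⟩,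
⟨⟨⟨2, 0⟩, ⟨0, 0⟩, ⟨0, 0⟩, ⟨0, 0⟩⟩, ⟨⟨-2, 0⟩, ⟨0, 0⟩, ⟨0, 0⟩, ⟨0, 0⟩⟩, ⟨⟨1, -2⟩, ⟨-1, 0⟩, ⟨-1, 0⟩, ⟨-1, 0⟩⟩⟩,
⟨⟨⟨2, 0⟩, ⟨0, 0⟩, ⟨0, 0⟩, ⟨0, 0⟩⟩, ⟨⟨-2, 0⟩, ⟨0, 0⟩, ⟨0, 0⟩, ⟨0, 0⟩⟩, ⟨⟨1, 0⟩, ⟨-1, 0⟩, ⟨1, -2⟩, ⟨1, 0⟩⟩⟩,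
⟨⟨⟨2, 0⟩, ⟨0, 0⟩, ⟨0, 0⟩, ⟨0, 0⟩⟩, ⟨⟨-2, 0⟩, ⟨0, 0⟩, ⟨0, 0⟩, ⟨0, 0⟩⟩, ⟨⟨1, 0⟩, ⟨1, -2⟩, ⟨1, 0⟩, ⟨-1, 0⟩⟩⟩,
⟨⟨⟨2, 0⟩, ⟨0, 0⟩, ⟨0, 0⟩, ⟨0, 0⟩⟩, ⟨⟨-2, 0⟩, ⟨0, 0⟩, ⟨0, 0⟩, ⟨0, 0⟩⟩, ⟨⟨1, 0⟩, ⟨1, 0⟩, ⟨-1, 0⟩, ⟨1, -2⟩⟩⟩,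
⟨⟨⟨2, 0⟩, ⟨0, 0⟩, ⟨0, 0⟩, ⟨0, 0⟩⟩, ⟨⟨-1, 0⟩, ⟨-1, 0⟩, ⟨-1, 0⟩, ⟨1, -2⟩⟩, ⟨⟨0, 0⟩, ⟨-2, 0⟩, ⟨0, 0⟩, ⟨0, 0⟩⟩⟩,
⟨⟨⟨2, 0⟩, ⟨0, 0⟩, ⟨0, 0⟩, ⟨0, 0⟩⟩, ⟨⟨-1, 0⟩, ⟨-1, 0⟩, ⟨-1, 0⟩, ⟨1, -2⟩⟩, ⟨⟨0, 0⟩, ⟨2, 0⟩, ⟨0, 0⟩, ⟨0, 0⟩⟩⟩,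
⟨⟨⟨2, 0⟩, ⟨0, 0⟩, ⟨0, 0⟩, ⟨0, 0⟩⟩, ⟨⟨-1, 0⟩, ⟨-1, 0⟩, ⟨-1, 2⟩, ⟨1, 0⟩⟩, ⟨⟨0, 0⟩, ⟨0, 0⟩, ⟨-2, 0⟩, ⟨0, 0⟩⟩⟩,
⟨⟨⟨2, 0⟩, ⟨0, 0⟩, ⟨0, 0⟩, ⟨0, 0⟩⟩, ⟨⟨-1, 0⟩, ⟨-1, 0⟩, ⟨-1, 2⟩, ⟨1, 0⟩⟩, ⟨⟨0, 0⟩, ⟨0, 0⟩, ⟨2, 0⟩, ⟨0, 0⟩⟩⟩,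
⟨⟨⟨2, 0⟩, ⟨0, 0⟩, ⟨0, 0⟩, ⟨0, 0⟩⟩, ⟨⟨-1, 0⟩, ⟨-1, 0⟩, ⟨1, -2⟩, ⟨-1, 0⟩⟩, ⟨⟨0, 0⟩, ⟨0, 0⟩, ⟨0, 0⟩, ⟨-2, 0⟩⟩⟩,
⟨⟨⟨2, 0⟩, ⟨0, 0⟩, ⟨0, 0⟩, ⟨0, 0⟩⟩, ⟨⟨-1, 0⟩, ⟨-1, 0⟩, ⟨1, -2⟩, ⟨-1, 0⟩⟩, ⟨⟨0, 0⟩, ⟨0, 0⟩, ⟨0, 0⟩, ⟨2, 0⟩⟩⟩,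
⟨⟨⟨2, 0⟩, ⟨0, 0⟩, ⟨0, 0⟩, ⟨0, 0⟩⟩, ⟨⟨-1, 0⟩, ⟨-1, 0⟩, ⟨1, 0⟩, ⟨-1, 2⟩⟩, ⟨⟨-2, 0⟩, ⟨0, 0⟩, ⟨0, 0⟩, ⟨0, 0⟩⟩⟩,
⟨⟨⟨2, 0⟩, ⟨0, 0⟩, ⟨0, 0⟩, ⟨0, 0⟩⟩, ⟨⟨-1, 0⟩, ⟨-1, 0⟩, ⟨1, 0⟩, ⟨-1, 2⟩⟩, ⟨⟨2, 0⟩, ⟨0, 0⟩, ⟨0, 0⟩, ⟨0, 0⟩⟩⟩,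
⟨⟨⟨2, 0⟩, ⟨0, 0⟩, ⟨0, 0⟩, ⟨0, 0⟩⟩, ⟨⟨-1, 0⟩, ⟨-1, 2⟩, ⟨-1, 0⟩, ⟨1, 0⟩⟩, ⟨⟨-2, 0⟩, ⟨0, 0⟩, ⟨0, 0⟩, ⟨0, 0⟩⟩⟩,
⟨⟨⟨2, 0⟩, ⟨0, 0⟩, ⟨0, 0⟩, ⟨0, 0⟩⟩, ⟨⟨-1, 0⟩, ⟨-1, 2⟩, ⟨-1, 0⟩, ⟨1, 0⟩⟩, ⟨⟨2, 0⟩, ⟨0, 0⟩, ⟨0, 0⟩, ⟨0, 0⟩⟩⟩,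
⟨⟨⟨2, 0⟩, ⟨0, 0⟩, ⟨0, 0⟩, ⟨0, 0⟩⟩, ⟨⟨-1, 0⟩, ⟨-1, 2⟩, ⟨1, 0⟩, ⟨-1, 0⟩⟩, ⟨⟨0, 0⟩, ⟨-2, 0⟩, ⟨0, 0⟩, ⟨0, 0⟩⟩⟩,
⟨⟨⟨2, 0⟩, ⟨0, 0⟩, ⟨0, 0⟩, ⟨0, 0⟩⟩, ⟨⟨-1, 0⟩, ⟨-1, 2⟩, ⟨1, 0⟩, ⟨-1, 0⟩⟩, ⟨⟨0, 0⟩, ⟨2, 0⟩, ⟨0, 0⟩, ⟨0, 0⟩⟩⟩,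
⟨⟨⟨2, 0⟩, ⟨0, 0⟩, ⟨0, 0⟩, ⟨0, 0⟩⟩, ⟨⟨-1, 0⟩, ⟨1, -2⟩, ⟨-1, 0⟩, ⟨-1, 0⟩⟩, ⟨⟨0, 0⟩, ⟨0, 0⟩, ⟨-2, 0⟩, ⟨0, 0⟩⟩⟩,
⟨⟨⟨2, 0⟩, ⟨0, 0⟩, ⟨0, 0⟩, ⟨0, 0⟩⟩, ⟨⟨-1, 0⟩, ⟨1, -2⟩, ⟨-1, 0⟩, ⟨-1, 0⟩⟩, ⟨⟨0, 0⟩, ⟨0, 0⟩, ⟨2, 0⟩, ⟨0, 0⟩⟩⟩,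
⟨⟨⟨2, 0⟩, ⟨0, 0⟩, ⟨0, 0⟩, ⟨0, 0⟩⟩, ⟨⟨-1, 0⟩, ⟨1, -2⟩, ⟨1, 0⟩, ⟨1, 0⟩⟩, ⟨⟨0, 0⟩, ⟨0, 0⟩, ⟨0, 0⟩, ⟨-2, 0⟩⟩⟩,
⟨⟨⟨2, 0⟩, ⟨0, 0⟩, ⟨0, 0⟩, ⟨0, 0⟩⟩, ⟨⟨-1, 0⟩, ⟨1, -2⟩, ⟨1, 0⟩, ⟨1, 0⟩⟩, ⟨⟨0, 0⟩, ⟨0, 0⟩, ⟨0, 0⟩, ⟨2, 0⟩⟩⟩,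
⟨⟨⟨2, 0⟩, ⟨0, 0⟩, ⟨0, 0⟩, ⟨0, 0⟩⟩, ⟨⟨-1, 0⟩, ⟨1, 0⟩, ⟨-1, 0⟩, ⟨-1, 2⟩⟩, ⟨⟨0, 0⟩, ⟨0, 0⟩, ⟨0, 0⟩, ⟨-2, 0⟩⟩⟩,
⟨⟨⟨2, 0⟩, ⟨0, 0⟩, ⟨0, 0⟩, ⟨0, 0⟩⟩, ⟨⟨-1, 0⟩, ⟨1, 0⟩, ⟨-1, 0⟩, ⟨-1, 2⟩⟩, ⟨⟨0, 0⟩, ⟨0, 0⟩, ⟨0, 0⟩, ⟨2, 0⟩⟩⟩,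
⟨⟨⟨2, 0⟩, ⟨0, 0⟩, ⟨0, 0⟩, ⟨0, 0⟩⟩, ⟨⟨-1, 0⟩, ⟨1, 0⟩, ⟨-1, 2⟩, ⟨-1, 0⟩⟩, ⟨⟨-2, 0⟩, ⟨0, 0⟩, ⟨0, 0⟩, ⟨0, 0⟩⟩⟩,
⟨⟨⟨2, 0⟩, ⟨0, 0⟩, ⟨0, 0⟩, ⟨0, 0⟩⟩, ⟨⟨-1, 0⟩, ⟨1, 0⟩, ⟨-1, 2⟩, ⟨-1, 0⟩⟩, ⟨⟨2, 0⟩, ⟨0, 0⟩, ⟨0, 0⟩, ⟨0, 0⟩⟩⟩,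
⟨⟨⟨2, 0⟩, ⟨0, 0⟩, ⟨0, 0⟩, ⟨0, 0⟩⟩, ⟨⟨-1, 0⟩, ⟨1, 0⟩, ⟨1, -2⟩, ⟨1, 0⟩⟩, ⟨⟨0, 0⟩, ⟨-2, 0⟩, ⟨0, 0⟩, ⟨0, 0⟩⟩⟩,
⟨⟨⟨2, 0⟩, ⟨0, 0⟩, ⟨0, 0⟩, ⟨0, 0⟩⟩, ⟨⟨-1, 0⟩, ⟨1, 0⟩, ⟨1, -2⟩, ⟨1, 0⟩⟩, ⟨⟨0, 0⟩, ⟨2, 0⟩, ⟨0, 0⟩, ⟨0, 0⟩⟩⟩,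
⟨⟨⟨2, 0⟩, ⟨0, 0⟩, ⟨0, 0⟩, ⟨0, 0⟩⟩, ⟨⟨-1, 0⟩, ⟨1, 0⟩, ⟨1, 0⟩, ⟨1, -2⟩⟩, ⟨⟨0, 0⟩, ⟨0, 0⟩, ⟨-2, 0⟩, ⟨0, 0⟩⟩⟩,
⟨⟨⟨2, 0⟩, ⟨0, 0⟩, ⟨0, 0⟩, ⟨0, 0⟩⟩, ⟨⟨-1, 0⟩, ⟨1, 0⟩, ⟨1, 0⟩, ⟨1, -2⟩⟩, ⟨⟨0, 0⟩, ⟨0, 0⟩, ⟨2, 0⟩, ⟨0, 0⟩⟩⟩,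
⟨⟨⟨2, 0⟩, ⟨0, 0⟩, ⟨0, 0⟩, ⟨0, 0⟩⟩, ⟨⟨-1, 1⟩, ⟨-1, 1⟩, ⟨-1, 1⟩, ⟨-1, 1⟩⟩, ⟨⟨0, -1⟩, ⟨0, 1⟩, ⟨0, 1⟩, ⟨0, 1⟩⟩⟩,
⟨⟨⟨2, 0⟩, ⟨0, 0⟩, ⟨0, 0⟩, ⟨0, 0⟩⟩, ⟨⟨-1, 1⟩, ⟨-1, 1⟩, ⟨-1, 1⟩, ⟨-1, 1⟩⟩, ⟨⟨0, 1⟩, ⟨0, -1⟩, ⟨0, -1⟩, ⟨0, -1⟩⟩⟩,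
⟨⟨⟨2, 0⟩, ⟨0, 0⟩, ⟨0, 0⟩, ⟨0, 0⟩⟩, ⟨⟨-1, 1⟩, ⟨-1, 1⟩, ⟨1, -1⟩, ⟨1, -1⟩⟩, ⟨⟨0, -1⟩, ⟨0, -1⟩, ⟨0, -1⟩, ⟨0, 1⟩⟩⟩,
⟨⟨⟨2, 0⟩, ⟨0, 0⟩, ⟨0, 0⟩, ⟨0, 0⟩⟩, ⟨⟨-1, 1⟩, ⟨-1, 1⟩, ⟨1, -1⟩, ⟨1, -1⟩⟩, ⟨⟨0, 1⟩, ⟨0, 1⟩, ⟨0, 1⟩, ⟨0, -1⟩⟩⟩,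
⟨⟨⟨2, 0⟩, ⟨0, 0⟩, ⟨0, 0⟩, ⟨0, 0⟩⟩, ⟨⟨-1, 1⟩, ⟨1, -1⟩, ⟨-1, 1⟩, ⟨1, -1⟩⟩, ⟨⟨0, -1⟩, ⟨0, 1⟩, ⟨0, -1⟩, ⟨0, -1⟩⟩⟩,
⟨⟨⟨2, 0⟩, ⟨0, 0⟩, ⟨0, 0⟩, ⟨0, 0⟩⟩, ⟨⟨-1, 1⟩, ⟨1, -1⟩, ⟨-1, 1⟩, ⟨1, -1⟩⟩, ⟨⟨0, 1⟩, ⟨0, -1⟩, ⟨0, 1⟩, ⟨0, 1⟩⟩⟩,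
⟨⟨⟨2, 0⟩, ⟨0, 0⟩, ⟨0, 0⟩, ⟨0, 0⟩⟩, ⟨⟨-1, 1⟩, ⟨1, -1⟩, ⟨1, -1⟩, ⟨-1, 1⟩⟩, ⟨⟨0, -1⟩, ⟨0, -1⟩, ⟨0, 1⟩, ⟨0, -1⟩⟩⟩,
⟨⟨⟨2, 0⟩, ⟨0, 0⟩, ⟨0, 0⟩, ⟨0, 0⟩⟩, ⟨⟨-1, 1⟩, ⟨1, -1⟩, ⟨1, -1⟩, ⟨-1, 1⟩⟩, ⟨⟨0, 1⟩, ⟨0, 1⟩, ⟨0, -1⟩, ⟨0, 1⟩⟩⟩,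
⟨⟨⟨2, 0⟩, ⟨0, 0⟩, ⟨0, 0⟩, ⟨0, 0⟩⟩, ⟨⟨-1, 2⟩, ⟨-1, 0⟩, ⟨-1, 0⟩, ⟨1, 0⟩⟩, ⟨⟨0, 0⟩, ⟨0, 0⟩, ⟨0, 0⟩, ⟨-2, 0⟩⟩⟩,
⟨⟨⟨2, 0⟩, ⟨0, 0⟩, ⟨0, 0⟩, ⟨0, 0⟩⟩, ⟨⟨-1, 2⟩, ⟨-1, 0⟩, ⟨-1, 0⟩, ⟨1, 0⟩⟩, ⟨⟨0, 0⟩, ⟨0, 0⟩, ⟨0, 0⟩, ⟨2, 0⟩⟩⟩,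
⟨⟨⟨2, 0⟩, ⟨0, 0⟩, ⟨0, 0⟩, ⟨0, 0⟩⟩, ⟨⟨-1, 2⟩, ⟨-1, 0⟩, ⟨1, 0⟩, ⟨-1, 0⟩⟩, ⟨⟨0, 0⟩, ⟨0, 0⟩, ⟨-2, 0⟩, ⟨0, 0⟩⟩⟩,
⟨⟨⟨2, 0⟩, ⟨0, 0⟩, ⟨0, 0⟩, ⟨0, 0⟩⟩, ⟨⟨-1, 2⟩, ⟨-1, 0⟩, ⟨1, 0⟩, ⟨-1, 0⟩⟩, ⟨⟨0, 0⟩, ⟨0, 0⟩, ⟨2, 0⟩, ⟨0, 0⟩⟩⟩,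
⟨⟨⟨2, 0⟩, ⟨0, 0⟩, ⟨0, 0⟩, ⟨0, 0⟩⟩, ⟨⟨-1, 2⟩, ⟨1, 0⟩, ⟨-1, 0⟩, ⟨-1, 0⟩⟩, ⟨⟨0, 0⟩, ⟨-2, 0⟩, ⟨0, 0⟩, ⟨0, 0⟩⟩⟩,
⟨⟨⟨2, 0⟩, ⟨0, 0⟩, ⟨0, 0⟩, ⟨0, 0⟩⟩, ⟨⟨-1, 2⟩, ⟨1, 0⟩, ⟨-1, 0⟩, ⟨-1, 0⟩⟩, ⟨⟨0, 0⟩, ⟨2, 0⟩, ⟨0, 0⟩, ⟨0, 0⟩⟩⟩,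
⟨⟨⟨2, 0⟩, ⟨0, 0⟩, ⟨0, 0⟩, ⟨0, 0⟩⟩, ⟨⟨-1, 2⟩, ⟨1, 0⟩, ⟨1, 0⟩, ⟨1, 0⟩⟩, ⟨⟨-2, 0⟩, ⟨0, 0⟩, ⟨0, 0⟩, ⟨0, 0⟩⟩⟩,
⟨⟨⟨2, 0⟩, ⟨0, 0⟩, ⟨0, 0⟩, ⟨0, 0⟩⟩, ⟨⟨-1, 2⟩, ⟨1, 0⟩, ⟨1, 0⟩, ⟨1, 0⟩⟩, ⟨⟨2, 0⟩, ⟨0, 0⟩, ⟨0, 0⟩, ⟨0, 0⟩⟩⟩,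
⟨⟨⟨2, 0⟩, ⟨0, 0⟩, ⟨0, 0⟩, ⟨0, 0⟩⟩, ⟨⟨0, -1⟩, ⟨0, -1⟩, ⟨0, -1⟩, ⟨0, 1⟩⟩, ⟨⟨-1, 1⟩, ⟨-1, 1⟩, ⟨1, -1⟩, ⟨1, -1⟩⟩⟩,
⟨⟨⟨2, 0⟩, ⟨0, 0⟩, ⟨0, 0⟩, ⟨0, 0⟩⟩, ⟨⟨0, -1⟩, ⟨0, -1⟩, ⟨0, -1⟩, ⟨0, 1⟩⟩, ⟨⟨1, -1⟩, ⟨1, -1⟩, ⟨-1, 1⟩, ⟨-1, 1⟩⟩⟩,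
⟨⟨⟨2, 0⟩, ⟨0, 0⟩, ⟨0, 0⟩, ⟨0, 0⟩⟩, ⟨⟨0, -1⟩, ⟨0, -1⟩, ⟨0, 1⟩, ⟨0, -1⟩⟩, ⟨⟨-1, 1⟩, ⟨1, -1⟩, ⟨1, -1⟩, ⟨-1, 1⟩⟩⟩,
⟨⟨⟨2, 0⟩, ⟨0, 0⟩, ⟨0, 0⟩, ⟨0, 0⟩⟩, ⟨⟨0, -1⟩, ⟨0, -1⟩, ⟨0, 1⟩, ⟨0, -1⟩⟩, ⟨⟨1, -1⟩, ⟨-1, 1⟩, ⟨-1, 1⟩, ⟨1, -1⟩⟩⟩,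
⟨⟨⟨2, 0⟩, ⟨0, 0⟩, ⟨0, 0⟩, ⟨0, 0⟩⟩, ⟨⟨0, -1⟩, ⟨0, 1⟩, ⟨0, -1⟩, ⟨0, -1⟩⟩, ⟨⟨-1, 1⟩, ⟨1, -1⟩, ⟨-1, 1⟩, ⟨1, -1⟩⟩⟩,
⟨⟨⟨2, 0⟩, ⟨0, 0⟩, ⟨0, 0⟩, ⟨0, 0⟩⟩, ⟨⟨0, -1⟩, ⟨0, 1⟩, ⟨0, -1⟩, ⟨0, -1⟩⟩, ⟨⟨1, -1⟩, ⟨-1, 1⟩, ⟨1, -1⟩, ⟨-1, 1⟩⟩⟩,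
⟨⟨⟨2, 0⟩, ⟨0, 0⟩, ⟨0, 0⟩, ⟨0, 0⟩⟩, ⟨⟨0, -1⟩, ⟨0, 1⟩, ⟨0, 1⟩, ⟨0, 1⟩⟩, ⟨⟨-1, 1⟩, ⟨-1, 1⟩, ⟨-1, 1⟩, ⟨-1, 1⟩⟩⟩,
⟨⟨⟨2, 0⟩, ⟨0, 0⟩, ⟨0, 0⟩, ⟨0, 0⟩⟩, ⟨⟨0, -1⟩, ⟨0, 1⟩, ⟨0, 1⟩, ⟨0, 1⟩⟩, ⟨⟨1, -1⟩, ⟨1, -1⟩, ⟨1, -1⟩, ⟨1, -1⟩⟩⟩,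
⟨⟨⟨2, 0⟩, ⟨0, 0⟩, ⟨0, 0⟩, ⟨0, 0⟩⟩, ⟨⟨0, 0⟩, ⟨-2, 0⟩, ⟨0, 0⟩, ⟨0, 0⟩⟩, ⟨⟨-1, 0⟩, ⟨-1, 0⟩, ⟨-1, 0⟩, ⟨1, -2⟩⟩⟩,
⟨⟨⟨2, 0⟩, ⟨0, 0⟩, ⟨0, 0⟩, ⟨0, 0⟩⟩, ⟨⟨0, 0⟩, ⟨-2, 0⟩, ⟨0, 0⟩, ⟨0, 0⟩⟩, ⟨⟨-1, 0⟩, ⟨-1, 2⟩, ⟨1, 0⟩, ⟨-1, 0⟩⟩⟩,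
⟨⟨⟨2, 0⟩, ⟨0, 0⟩, ⟨0, 0⟩, ⟨0, 0⟩⟩, ⟨⟨0, 0⟩, ⟨-2, 0⟩, ⟨0, 0⟩, ⟨0, 0⟩⟩, ⟨⟨-1, 0⟩, ⟨1, 0⟩, ⟨1, -2⟩, ⟨1, 0⟩⟩⟩,
⟨⟨⟨2, 0⟩, ⟨0, 0⟩, ⟨0, 0⟩, ⟨0, 0⟩⟩, ⟨⟨0, 0⟩, ⟨-2, 0⟩, ⟨0, 0⟩, ⟨0, 0⟩⟩, ⟨⟨-1, 2⟩, ⟨1, 0⟩, ⟨-1, 0⟩, ⟨-1, 0⟩⟩⟩,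
⟨⟨⟨2, 0⟩, ⟨0, 0⟩, ⟨0, 0⟩, ⟨0, 0⟩⟩, ⟨⟨0, 0⟩, ⟨-2, 0⟩, ⟨0, 0⟩, ⟨0, 0⟩⟩, ⟨⟨1, -2⟩, ⟨-1, 0⟩, ⟨1, 0⟩, ⟨1, 0⟩⟩⟩,
⟨⟨⟨2, 0⟩, ⟨0, 0⟩, ⟨0, 0⟩, ⟨0, 0⟩⟩, ⟨⟨0, 0⟩, ⟨-2, 0⟩, ⟨0, 0⟩, ⟨0, 0⟩⟩, ⟨⟨1, 0⟩, ⟨-1, 0⟩, ⟨-1, 2⟩, ⟨-1, 0⟩⟩⟩,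
⟨⟨⟨2, 0⟩, ⟨0, 0⟩, ⟨0, 0⟩, ⟨0, 0⟩⟩, ⟨⟨0, 0⟩, ⟨-2, 0⟩, ⟨0, 0⟩, ⟨0, 0⟩⟩, ⟨⟨1, 0⟩, ⟨1, -2⟩, ⟨-1, 0⟩, ⟨1, 0⟩⟩⟩,
⟨⟨⟨2, 0⟩, ⟨0, 0⟩, ⟨0, 0⟩, ⟨0, 0⟩⟩, ⟨⟨0, 0⟩, ⟨-2, 0⟩, ⟨0, 0⟩, ⟨0, 0⟩⟩, ⟨⟨1, 0⟩, ⟨1, 0⟩, ⟨1, 0⟩, ⟨-1, 2⟩⟩⟩,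
⟨⟨⟨2, 0⟩, ⟨0, 0⟩, ⟨0, 0⟩, ⟨0, 0⟩⟩, ⟨⟨0, 0⟩, ⟨0, 0⟩, ⟨-2, 0⟩, ⟨0, 0⟩⟩, ⟨⟨-1, 0⟩, ⟨-1, 0⟩, ⟨-1, 2⟩, ⟨1, 0⟩⟩⟩,
⟨⟨⟨2, 0⟩, ⟨0, 0⟩, ⟨0, 0⟩, ⟨0, 0⟩⟩, ⟨⟨0, 0⟩, ⟨0, 0⟩, ⟨-2, 0⟩, ⟨0, 0⟩⟩, ⟨⟨-1, 0⟩, ⟨1, -2⟩, ⟨-1, 0⟩, ⟨-1, 0⟩⟩⟩,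
⟨⟨⟨2, 0⟩, ⟨0, 0⟩, ⟨0, 0⟩, ⟨0, 0⟩⟩, ⟨⟨0, 0⟩, ⟨0, 0⟩, ⟨-2, 0⟩, ⟨0, 0⟩⟩, ⟨⟨-1, 0⟩, ⟨1, 0⟩, ⟨1, 0⟩, ⟨1, -2⟩⟩⟩,
⟨⟨⟨2, 0⟩, ⟨0, 0⟩, ⟨0, 0⟩, ⟨0, 0⟩⟩, ⟨⟨0, 0⟩, ⟨0, 0⟩, ⟨-2, 0⟩, ⟨0, 0⟩⟩, ⟨⟨-1, 2⟩, ⟨-1, 0⟩, ⟨1, 0⟩, ⟨-1, 0⟩⟩⟩,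
⟨⟨⟨2, 0⟩, ⟨0, 0⟩, ⟨0, 0⟩, ⟨0, 0⟩⟩, ⟨⟨0, 0⟩, ⟨0, 0⟩, ⟨-2, 0⟩, ⟨0, 0⟩⟩, ⟨⟨1, -2⟩, ⟨1, 0⟩, ⟨-1, 0⟩, ⟨1, 0⟩⟩⟩,
⟨⟨⟨2, 0⟩, ⟨0, 0⟩, ⟨0, 0⟩, ⟨0, 0⟩⟩, ⟨⟨0, 0⟩, ⟨0, 0⟩, ⟨-2, 0⟩, ⟨0, 0⟩⟩, ⟨⟨1, 0⟩, ⟨-1, 0⟩, ⟨-1, 0⟩, ⟨-1, 2⟩⟩⟩,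
⟨⟨⟨2, 0⟩, ⟨0, 0⟩, ⟨0, 0⟩, ⟨0, 0⟩⟩, ⟨⟨0, 0⟩, ⟨0, 0⟩, ⟨-2, 0⟩, ⟨0, 0⟩⟩, ⟨⟨1, 0⟩, ⟨-1, 2⟩, ⟨1, 0⟩, ⟨1, 0⟩⟩⟩,
⟨⟨⟨2, 0⟩, ⟨0, 0⟩, ⟨0, 0⟩, ⟨0, 0⟩⟩, ⟨⟨0, 0⟩, ⟨0, 0⟩, ⟨-2, 0⟩, ⟨0, 0⟩⟩, ⟨⟨1, 0⟩, ⟨1, 0⟩, ⟨1, -2⟩, ⟨-1, 0⟩⟩⟩,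
⟨⟨⟨2, 0⟩, ⟨0, 0⟩, ⟨0, 0⟩, ⟨0, 0⟩⟩, ⟨⟨0, 0⟩, ⟨0, 0⟩, ⟨0, 0⟩, ⟨-2, 0⟩⟩, ⟨⟨-1, 0⟩, ⟨-1, 0⟩, ⟨1, -2⟩, ⟨-1, 0⟩⟩⟩,
⟨⟨⟨2, 0⟩, ⟨0, 0⟩, ⟨0, 0⟩, ⟨0, 0⟩⟩, ⟨⟨0, 0⟩, ⟨0, 0⟩, ⟨0, 0⟩, ⟨-2, 0⟩⟩, ⟨⟨-1, 0⟩, ⟨1, -2⟩, ⟨1, 0⟩, ⟨1, 0⟩⟩⟩,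
⟨⟨⟨2, 0⟩, ⟨0, 0⟩, ⟨0, 0⟩, ⟨0, 0⟩⟩, ⟨⟨0, 0⟩, ⟨0, 0⟩, ⟨0, 0⟩, ⟨-2, 0⟩⟩, ⟨⟨-1, 0⟩, ⟨1, 0⟩, ⟨-1, 0⟩, ⟨-1, 2⟩⟩⟩,
⟨⟨⟨2, 0⟩, ⟨0, 0⟩, ⟨0, 0⟩, ⟨0, 0⟩⟩, ⟨⟨0, 0⟩, ⟨0, 0⟩, ⟨0, 0⟩, ⟨-2, 0⟩⟩, ⟨⟨-1, 2⟩, ⟨-1, 0⟩, ⟨-1, 0⟩, ⟨1, 0⟩⟩⟩,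
⟨⟨⟨2, 0⟩, ⟨0, 0⟩, ⟨0, 0⟩, ⟨0, 0⟩⟩, ⟨⟨0, 0⟩, ⟨0, 0⟩, ⟨0, 0⟩, ⟨-2, 0⟩⟩, ⟨⟨1, -2⟩, ⟨1, 0⟩, ⟨1, 0⟩, ⟨-1, 0⟩⟩⟩,
⟨⟨⟨2, 0⟩, ⟨0, 0⟩, ⟨0, 0⟩, ⟨0, 0⟩⟩, ⟨⟨0, 0⟩, ⟨0, 0⟩, ⟨0, 0⟩, ⟨-2, 0⟩⟩, ⟨⟨1, 0⟩, ⟨-1, 0⟩, ⟨1, 0⟩, ⟨1, -2⟩⟩⟩,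
⟨⟨⟨2, 0⟩, ⟨0, 0⟩, ⟨0, 0⟩, ⟨0, 0⟩⟩, ⟨⟨0, 0⟩, ⟨0, 0⟩, ⟨0, 0⟩, ⟨-2, 0⟩⟩, ⟨⟨1, 0⟩, ⟨-1, 2⟩, ⟨-1, 0⟩, ⟨-1, 0⟩⟩⟩,
⟨⟨⟨2, 0⟩, ⟨0, 0⟩, ⟨0, 0⟩, ⟨0, 0⟩⟩, ⟨⟨0, 0⟩, ⟨0, 0⟩, ⟨0, 0⟩, ⟨-2, 0⟩⟩, ⟨⟨1, 0⟩, ⟨1, 0⟩, ⟨-1, 2⟩, ⟨1, 0⟩⟩⟩,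
⟨⟨⟨2, 0⟩, ⟨0, 0⟩, ⟨0, 0⟩, ⟨0, 0⟩⟩, ⟨⟨0, 0⟩, ⟨0, 0⟩, ⟨0, 0⟩, ⟨2, 0⟩⟩, ⟨⟨-1, 0⟩, ⟨-1, 0⟩, ⟨1, -2⟩, ⟨-1, 0⟩⟩⟩,
⟨⟨⟨2, 0⟩, ⟨0, 0⟩, ⟨0, 0⟩, ⟨0, 0⟩⟩, ⟨⟨0, 0⟩, ⟨0, 0⟩, ⟨0, 0⟩, ⟨2, 0⟩⟩, ⟨⟨-1, 0⟩, ⟨1, -2⟩, ⟨1, 0⟩, ⟨1, 0⟩⟩⟩,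
⟨⟨⟨2, 0⟩, ⟨0, 0⟩, ⟨0, 0⟩, ⟨0, 0⟩⟩, ⟨⟨0, 0⟩, ⟨0, 0⟩, ⟨0, 0⟩, ⟨2, 0⟩⟩, ⟨⟨-1, 0⟩, ⟨1, 0⟩, ⟨-1, 0⟩, ⟨-1, 2⟩⟩⟩,
⟨⟨⟨2, 0⟩, ⟨0, 0⟩, ⟨0, 0⟩, ⟨0, 0⟩⟩, ⟨⟨0, 0⟩, ⟨0, 0⟩, ⟨0, 0⟩, ⟨2, 0⟩⟩, ⟨⟨-1, 2⟩, ⟨-1, 0⟩, ⟨-1, 0⟩, ⟨1, 0⟩⟩⟩,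
⟨⟨⟨2, 0⟩, ⟨0, 0⟩, ⟨0, 0⟩, ⟨0, 0⟩⟩, ⟨⟨0, 0⟩, ⟨0, 0⟩, ⟨0, 0⟩, ⟨2, 0⟩⟩, ⟨⟨1, -2⟩, ⟨1, 0⟩, ⟨1, 0⟩, ⟨-1, 0⟩⟩⟩,
⟨⟨⟨2, 0⟩, ⟨0, 0⟩, ⟨0, 0⟩, ⟨0, 0⟩⟩, ⟨⟨0, 0⟩, ⟨0, 0⟩, ⟨0, 0⟩, ⟨2, 0⟩⟩, ⟨⟨1, 0⟩, ⟨-1, 0⟩, ⟨1, 0⟩, ⟨1, -2⟩⟩⟩,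
⟨⟨⟨2, 0⟩, ⟨0, 0⟩, ⟨0, 0⟩, ⟨0, 0⟩⟩, ⟨⟨0, 0⟩, ⟨0, 0⟩, ⟨0, 0⟩, ⟨2, 0⟩⟩, ⟨⟨1, 0⟩, ⟨-1, 2⟩, ⟨-1, 0⟩, ⟨-1, 0⟩⟩⟩,
⟨⟨⟨2, 0⟩, ⟨0, 0⟩, ⟨0, 0⟩, ⟨0, 0⟩⟩, ⟨⟨0, 0⟩, ⟨0, 0⟩, ⟨0, 0⟩, ⟨2, 0⟩⟩, ⟨⟨1, 0⟩, ⟨1, 0⟩, ⟨-1, 2⟩, ⟨1, 0⟩⟩⟩,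
⟨⟨⟨2, 0⟩, ⟨0, 0⟩, ⟨0, 0⟩, ⟨0, 0⟩⟩, ⟨⟨0, 0⟩, ⟨0, 0⟩, ⟨2, 0⟩, ⟨0, 0⟩⟩, ⟨⟨-1, 0⟩, ⟨-1, 0⟩, ⟨-1, 2⟩, ⟨1, 0⟩⟩⟩,
⟨⟨⟨2, 0⟩, ⟨0, 0⟩, ⟨0, 0⟩, ⟨0, 0⟩⟩, ⟨⟨0, 0⟩, ⟨0, 0⟩, ⟨2, 0⟩, ⟨0, 0⟩⟩, ⟨⟨-1, 0⟩, ⟨1, -2⟩, ⟨-1, 0⟩, ⟨-1, 0⟩⟩⟩,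
⟨⟨⟨2, 0⟩, ⟨0, 0⟩, ⟨0, 0⟩, ⟨0, 0⟩⟩, ⟨⟨0, 0⟩, ⟨0, 0⟩, ⟨2, 0⟩, ⟨0, 0⟩⟩, ⟨⟨-1, 0⟩, ⟨1, 0⟩, ⟨1, 0⟩, ⟨1, -2⟩⟩⟩,
⟨⟨⟨2, 0⟩, ⟨0, 0⟩, ⟨0, 0⟩, ⟨0, 0⟩⟩, ⟨⟨0, 0⟩, ⟨0, 0⟩, ⟨2, 0⟩, ⟨0, 0⟩⟩, ⟨⟨-1, 2⟩, ⟨-1, 0⟩, ⟨1, 0⟩, ⟨-1, 0⟩⟩⟩,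
⟨⟨⟨2, 0⟩, ⟨0, 0⟩, ⟨0, 0⟩, ⟨0, 0⟩⟩, ⟨⟨0, 0⟩, ⟨0, 0⟩, ⟨2, 0⟩, ⟨0, 0⟩⟩, ⟨⟨1, -2⟩, ⟨1, 0⟩, ⟨-1, 0⟩, ⟨1, 0⟩⟩⟩,
⟨⟨⟨2, 0⟩, ⟨0, 0⟩, ⟨0, 0⟩, ⟨0, 0⟩⟩, ⟨⟨0, 0⟩, ⟨0, 0⟩, ⟨2, 0⟩, ⟨0, 0⟩⟩, ⟨⟨1, 0⟩, ⟨-1, 0⟩, ⟨-1, 0⟩, ⟨-1, 2⟩⟩⟩,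
⟨⟨⟨2, 0⟩, ⟨0, 0⟩, ⟨0, 0⟩, ⟨0, 0⟩⟩, ⟨⟨0, 0⟩, ⟨0, 0⟩, ⟨2, 0⟩, ⟨0, 0⟩⟩, ⟨⟨1, 0⟩, ⟨-1, 2⟩, ⟨1, 0⟩, ⟨1, 0⟩⟩⟩,
⟨⟨⟨2, 0⟩, ⟨0, 0⟩, ⟨0, 0⟩, ⟨0, 0⟩⟩, ⟨⟨0, 0⟩, ⟨0, 0⟩, ⟨2, 0⟩, ⟨0, 0⟩⟩, ⟨⟨1, 0⟩, ⟨1, 0⟩, ⟨1, -2⟩, ⟨-1, 0⟩⟩⟩,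
⟨⟨⟨2, 0⟩, ⟨0, 0⟩, ⟨0, 0⟩, ⟨0, 0⟩⟩, ⟨⟨0, 0⟩, ⟨2, 0⟩, ⟨0, 0⟩, ⟨0, 0⟩⟩, ⟨⟨-1, 0⟩, ⟨-1, 0⟩, ⟨-1, 0⟩, ⟨1, -2⟩⟩⟩,
⟨⟨⟨2, 0⟩, ⟨0, 0⟩, ⟨0, 0⟩, ⟨0, 0⟩⟩, ⟨⟨0, 0⟩, ⟨2, 0⟩, ⟨0, 0⟩, ⟨0, 0⟩⟩, ⟨⟨-1, 0⟩, ⟨-1, 2⟩, ⟨1, 0⟩, ⟨-1, 0⟩⟩⟩,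
⟨⟨⟨2, 0⟩, ⟨0, 0⟩, ⟨0, 0⟩, ⟨0, 0⟩⟩, ⟨⟨0, 0⟩, ⟨2, 0⟩, ⟨0, 0⟩, ⟨0, 0⟩⟩, ⟨⟨-1, 0⟩, ⟨1, 0⟩, ⟨1, -2⟩, ⟨1, 0⟩⟩⟩,
⟨⟨⟨2, 0⟩, ⟨0, 0⟩, ⟨0, 0⟩, ⟨0, 0⟩⟩, ⟨⟨0, 0⟩, ⟨2, 0⟩, ⟨0, 0⟩, ⟨0, 0⟩⟩, ⟨⟨-1, 2⟩, ⟨1, 0⟩, ⟨-1, 0⟩, ⟨-1, 0⟩⟩⟩,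
⟨⟨⟨2, 0⟩, ⟨0, 0⟩, ⟨0, 0⟩, ⟨0, 0⟩⟩, ⟨⟨0, 0⟩, ⟨2, 0⟩, ⟨0, 0⟩, ⟨0, 0⟩⟩, ⟨⟨1, -2⟩, ⟨-1, 0⟩, ⟨1, 0⟩, ⟨1, 0⟩⟩⟩,
⟨⟨⟨2, 0⟩, ⟨0, 0⟩, ⟨0, 0⟩, ⟨0, 0⟩⟩, ⟨⟨0, 0⟩, ⟨2, 0⟩, ⟨0, 0⟩, ⟨0, 0⟩⟩, ⟨⟨1, 0⟩, ⟨-1, 0⟩, ⟨-1, 2⟩, ⟨-1, 0⟩⟩⟩,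
⟨⟨⟨2, 0⟩, ⟨0, 0⟩, ⟨0, 0⟩, ⟨0, 0⟩⟩, ⟨⟨0, 0⟩, ⟨2, 0⟩, ⟨0, 0⟩, ⟨0, 0⟩⟩, ⟨⟨1, 0⟩, ⟨1, -2⟩, ⟨-1, 0⟩, ⟨1, 0⟩⟩⟩,
⟨⟨⟨2, 0⟩, ⟨0, 0⟩, ⟨0, 0⟩, ⟨0, 0⟩⟩, ⟨⟨0, 0⟩, ⟨2, 0⟩, ⟨0, 0⟩, ⟨0, 0⟩⟩, ⟨⟨1, 0⟩, ⟨1, 0⟩, ⟨1, 0⟩, ⟨-1, 2⟩⟩⟩,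
⟨⟨⟨2, 0⟩, ⟨0, 0⟩, ⟨0, 0⟩, ⟨0, 0⟩⟩, ⟨⟨0, 1⟩, ⟨0, -1⟩, ⟨0, -1⟩, ⟨0, -1⟩⟩, ⟨⟨-1, 1⟩, ⟨-1, 1⟩, ⟨-1, 1⟩, ⟨-1, 1⟩⟩⟩,
⟨⟨⟨2, 0⟩, ⟨0, 0⟩, ⟨0, 0⟩, ⟨0, 0⟩⟩, ⟨⟨0, 1⟩, ⟨0, -1⟩, ⟨0, -1⟩, ⟨0, -1⟩⟩, ⟨⟨1, -1⟩, ⟨1, -1⟩, ⟨1, -1⟩, ⟨1, -1⟩⟩⟩,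
⟨⟨⟨2, 0⟩, ⟨0, 0⟩, ⟨0, 0⟩, ⟨0, 0⟩⟩, ⟨⟨0, 1⟩, ⟨0, -1⟩, ⟨0, 1⟩, ⟨0, 1⟩⟩, ⟨⟨-1, 1⟩, ⟨1, -1⟩, ⟨-1, 1⟩, ⟨1, -1⟩⟩⟩,
⟨⟨⟨2, 0⟩, ⟨0, 0⟩, ⟨0, 0⟩, ⟨0, 0⟩⟩, ⟨⟨0, 1⟩, ⟨0, -1⟩, ⟨0, 1⟩, ⟨0, 1⟩⟩, ⟨⟨1, -1⟩, ⟨-1, 1⟩, ⟨1, -1⟩, ⟨-1, 1⟩⟩⟩,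
⟨⟨⟨2, 0⟩, ⟨0, 0⟩, ⟨0, 0⟩, ⟨0, 0⟩⟩, ⟨⟨0, 1⟩, ⟨0, 1⟩, ⟨0, -1⟩, ⟨0, 1⟩⟩, ⟨⟨-1, 1⟩, ⟨1, -1⟩, ⟨1, -1⟩, ⟨-1, 1⟩⟩⟩,
⟨⟨⟨2, 0⟩, ⟨0, 0⟩, ⟨0, 0⟩, ⟨0, 0⟩⟩, ⟨⟨0, 1⟩, ⟨0, 1⟩, ⟨0, -1⟩, ⟨0, 1⟩⟩, ⟨⟨1, -1⟩, ⟨-1, 1⟩, ⟨-1, 1⟩, ⟨1, -1⟩⟩⟩,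
⟨⟨⟨2, 0⟩, ⟨0, 0⟩, ⟨0, 0⟩, ⟨0, 0⟩⟩, ⟨⟨0, 1⟩, ⟨0, 1⟩, ⟨0, 1⟩, ⟨0, -1⟩⟩, ⟨⟨-1, 1⟩, ⟨-1, 1⟩, ⟨1, -1⟩, ⟨1, -1⟩⟩⟩,
⟨⟨⟨2, 0⟩, ⟨0, 0⟩, ⟨0, 0⟩, ⟨0, 0⟩⟩, ⟨⟨0, 1⟩, ⟨0, 1⟩, ⟨0, 1⟩, ⟨0, -1⟩⟩, ⟨⟨1, -1⟩, ⟨1, -1⟩, ⟨-1, 1⟩, ⟨-1, 1⟩⟩⟩,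
⟨⟨⟨2, 0⟩, ⟨0, 0⟩, ⟨0, 0⟩, ⟨0, 0⟩⟩, ⟨⟨1, -2⟩, ⟨-1, 0⟩, ⟨-1, 0⟩, ⟨-1, 0⟩⟩, ⟨⟨-2, 0⟩, ⟨0, 0⟩, ⟨0, 0⟩, ⟨0, 0⟩⟩⟩,
⟨⟨⟨2, 0⟩, ⟨0, 0⟩, ⟨0, 0⟩, ⟨0, 0⟩⟩, ⟨⟨1, -2⟩, ⟨-1, 0⟩, ⟨-1, 0⟩, ⟨-1, 0⟩⟩, ⟨⟨2, 0⟩, ⟨0, 0⟩, ⟨0, 0⟩, ⟨0, 0⟩⟩⟩,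
⟨⟨⟨2, 0⟩, ⟨0, 0⟩, ⟨0, 0⟩, ⟨0, 0⟩⟩, ⟨⟨1, -2⟩, ⟨-1, 0⟩, ⟨1, 0⟩, ⟨1, 0⟩⟩, ⟨⟨0, 0⟩, ⟨-2, 0⟩, ⟨0, 0⟩, ⟨0, 0⟩⟩⟩,
⟨⟨⟨2, 0⟩, ⟨0, 0⟩, ⟨0, 0⟩, ⟨0, 0⟩⟩, ⟨⟨1, -2⟩, ⟨-1, 0⟩, ⟨1, 0⟩, ⟨1, 0⟩⟩, ⟨⟨0, 0⟩, ⟨2, 0⟩, ⟨0, 0⟩, ⟨0, 0⟩⟩⟩,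
⟨⟨⟨2, 0⟩, ⟨0, 0⟩, ⟨0, 0⟩, ⟨0, 0⟩⟩, ⟨⟨1, -2⟩, ⟨1, 0⟩, ⟨-1, 0⟩, ⟨1, 0⟩⟩, ⟨⟨0, 0⟩, ⟨0, 0⟩, ⟨-2, 0⟩, ⟨0, 0⟩⟩⟩,
⟨⟨⟨2, 0⟩, ⟨0, 0⟩, ⟨0, 0⟩, ⟨0, 0⟩⟩, ⟨⟨1, -2⟩, ⟨1, 0⟩, ⟨-1, 0⟩, ⟨1, 0⟩⟩, ⟨⟨0, 0⟩, ⟨0, 0⟩, ⟨2, 0⟩, ⟨0, 0⟩⟩⟩,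
⟨⟨⟨2, 0⟩, ⟨0, 0⟩, ⟨0, 0⟩, ⟨0, 0⟩⟩, ⟨⟨1, -2⟩, ⟨1, 0⟩, ⟨1, 0⟩, ⟨-1, 0⟩⟩, ⟨⟨0, 0⟩, ⟨0, 0⟩, ⟨0, 0⟩, ⟨-2, 0⟩⟩⟩,
⟨⟨⟨2, 0⟩, ⟨0, 0⟩, ⟨0, 0⟩, ⟨0, 0⟩⟩, ⟨⟨1, -2⟩, ⟨1, 0⟩, ⟨1, 0⟩, ⟨-1, 0⟩⟩, ⟨⟨0, 0⟩, ⟨0, 0⟩, ⟨0, 0⟩, ⟨2, 0⟩⟩⟩,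
⟨⟨⟨2, 0⟩, ⟨0, 0⟩, ⟨0, 0⟩, ⟨0, 0⟩⟩, ⟨⟨1, -1⟩, ⟨-1, 1⟩, ⟨-1, 1⟩, ⟨1, -1⟩⟩, ⟨⟨0, -1⟩, ⟨0, -1⟩, ⟨0, 1⟩, ⟨0, -1⟩⟩⟩,
⟨⟨⟨2, 0⟩, ⟨0, 0⟩, ⟨0, 0⟩, ⟨0, 0⟩⟩, ⟨⟨1, -1⟩, ⟨-1, 1⟩, ⟨-1, 1⟩, ⟨1, -1⟩⟩, ⟨⟨0, 1⟩, ⟨0, 1⟩, ⟨0, -1⟩, ⟨0, 1⟩⟩⟩,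
⟨⟨⟨2, 0⟩, ⟨0, 0⟩, ⟨0, 0⟩, ⟨0, 0⟩⟩, ⟨⟨1, -1⟩, ⟨-1, 1⟩, ⟨1, -1⟩, ⟨-1, 1⟩⟩, ⟨⟨0, -1⟩, ⟨0, 1⟩, ⟨0, -1⟩, ⟨0, -1⟩⟩⟩,
⟨⟨⟨2, 0⟩, ⟨0, 0⟩, ⟨0, 0⟩, ⟨0, 0⟩⟩, ⟨⟨1, -1⟩, ⟨-1, 1⟩, ⟨1, -1⟩, ⟨-1, 1⟩⟩, ⟨⟨0, 1⟩, ⟨0, -1⟩, ⟨0, 1⟩, ⟨0, 1⟩⟩⟩,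
⟨⟨⟨2, 0⟩, ⟨0, 0⟩, ⟨0, 0⟩, ⟨0, 0⟩⟩, ⟨⟨1, -1⟩, ⟨1, -1⟩, ⟨-1, 1⟩, ⟨-1, 1⟩⟩, ⟨⟨0, -1⟩, ⟨0, -1⟩, ⟨0, -1⟩, ⟨0, 1⟩⟩⟩,
⟨⟨⟨2, 0⟩, ⟨0, 0⟩, ⟨0, 0⟩, ⟨0, 0⟩⟩, ⟨⟨1, -1⟩, ⟨1, -1⟩, ⟨-1, 1⟩, ⟨-1, 1⟩⟩, ⟨⟨0, 1⟩, ⟨0, 1⟩, ⟨0, 1⟩, ⟨0, -1⟩⟩⟩,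
⟨⟨⟨2, 0⟩, ⟨0, 0⟩, ⟨0, 0⟩, ⟨0, 0⟩⟩, ⟨⟨1, -1⟩, ⟨1, -1⟩, ⟨1, -1⟩, ⟨1, -1⟩⟩, ⟨⟨0, -1⟩, ⟨0, 1⟩, ⟨0, 1⟩, ⟨0, 1⟩⟩⟩,
⟨⟨⟨2, 0⟩, ⟨0, 0⟩, ⟨0, 0⟩, ⟨0, 0⟩⟩, ⟨⟨1, -1⟩, ⟨1, -1⟩, ⟨1, -1⟩, ⟨1, -1⟩⟩, ⟨⟨0, 1⟩, ⟨0, -1⟩, ⟨0, -1⟩, ⟨0, -1⟩⟩⟩,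
⟨⟨⟨2, 0⟩, ⟨0, 0⟩, ⟨0, 0⟩, ⟨0, 0⟩⟩, ⟨⟨1, 0⟩, ⟨-1, 0⟩, ⟨-1, 0⟩, ⟨-1, 2⟩⟩, ⟨⟨0, 0⟩, ⟨0, 0⟩, ⟨-2, 0⟩, ⟨0, 0⟩⟩⟩,
⟨⟨⟨2, 0⟩, ⟨0, 0⟩, ⟨0, 0⟩, ⟨0, 0⟩⟩, ⟨⟨1, 0⟩, ⟨-1, 0⟩, ⟨-1, 0⟩, ⟨-1, 2⟩⟩, ⟨⟨0, 0⟩, ⟨0, 0⟩, ⟨2, 0⟩, ⟨0, 0⟩⟩⟩,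
⟨⟨⟨2, 0⟩, ⟨0, 0⟩, ⟨0, 0⟩, ⟨0, 0⟩⟩, ⟨⟨1, 0⟩, ⟨-1, 0⟩, ⟨-1, 2⟩, ⟨-1, 0⟩⟩, ⟨⟨0, 0⟩, ⟨-2, 0⟩, ⟨0, 0⟩, ⟨0, 0⟩⟩⟩,
⟨⟨⟨2, 0⟩, ⟨0, 0⟩, ⟨0, 0⟩, ⟨0, 0⟩⟩, ⟨⟨1, 0⟩, ⟨-1, 0⟩, ⟨-1, 2⟩, ⟨-1, 0⟩⟩, ⟨⟨0, 0⟩, ⟨2, 0⟩, ⟨0, 0⟩, ⟨0, 0⟩⟩⟩,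
⟨⟨⟨2, 0⟩, ⟨0, 0⟩, ⟨0, 0⟩, ⟨0, 0⟩⟩, ⟨⟨1, 0⟩, ⟨-1, 0⟩, ⟨1, -2⟩, ⟨1, 0⟩⟩, ⟨⟨-2, 0⟩, ⟨0, 0⟩, ⟨0, 0⟩, ⟨0, 0⟩⟩⟩,
⟨⟨⟨2, 0⟩, ⟨0, 0⟩, ⟨0, 0⟩, ⟨0, 0⟩⟩, ⟨⟨1, 0⟩, ⟨-1, 0⟩, ⟨1, -2⟩, ⟨1, 0⟩⟩, ⟨⟨2, 0⟩, ⟨0, 0⟩, ⟨0, 0⟩, ⟨0, 0⟩⟩⟩,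
⟨⟨⟨2, 0⟩, ⟨0, 0⟩, ⟨0, 0⟩, ⟨0, 0⟩⟩, ⟨⟨1, 0⟩, ⟨-1, 0⟩, ⟨1, 0⟩, ⟨1, -2⟩⟩, ⟨⟨0, 0⟩, ⟨0, 0⟩, ⟨0, 0⟩, ⟨-2, 0⟩⟩⟩,
⟨⟨⟨2, 0⟩, ⟨0, 0⟩, ⟨0, 0⟩, ⟨0, 0⟩⟩, ⟨⟨1, 0⟩, ⟨-1, 0⟩, ⟨1, 0⟩, ⟨1, -2⟩⟩, ⟨⟨0, 0⟩, ⟨0, 0⟩, ⟨0, 0⟩, ⟨2, 0⟩⟩⟩,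
⟨⟨⟨2, 0⟩, ⟨0, 0⟩, ⟨0, 0⟩, ⟨0, 0⟩⟩, ⟨⟨1, 0⟩, ⟨-1, 2⟩, ⟨-1, 0⟩, ⟨-1, 0⟩⟩, ⟨⟨0, 0⟩, ⟨0, 0⟩, ⟨0, 0⟩, ⟨-2, 0⟩⟩⟩,
⟨⟨⟨2, 0⟩, ⟨0, 0⟩, ⟨0, 0⟩, ⟨0, 0⟩⟩, ⟨⟨1, 0⟩, ⟨-1, 2⟩, ⟨-1, 0⟩, ⟨-1, 0⟩⟩, ⟨⟨0, 0⟩, ⟨0, 0⟩, ⟨0, 0⟩, ⟨2, 0⟩⟩⟩,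
⟨⟨⟨2, 0⟩, ⟨0, 0⟩, ⟨0, 0⟩, ⟨0, 0⟩⟩, ⟨⟨1, 0⟩, ⟨-1, 2⟩, ⟨1, 0⟩, ⟨1, 0⟩⟩, ⟨⟨0, 0⟩, ⟨0, 0⟩, ⟨-2, 0⟩, ⟨0, 0⟩⟩⟩,
⟨⟨⟨2, 0⟩, ⟨0, 0⟩, ⟨0, 0⟩, ⟨0, 0⟩⟩, ⟨⟨1, 0⟩, ⟨-1, 2⟩, ⟨1, 0⟩, ⟨1, 0⟩⟩, ⟨⟨0, 0⟩, ⟨0, 0⟩, ⟨2, 0⟩, ⟨0, 0⟩⟩⟩,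
⟨⟨⟨2, 0⟩, ⟨0, 0⟩, ⟨0, 0⟩, ⟨0, 0⟩⟩, ⟨⟨1, 0⟩, ⟨1, -2⟩, ⟨-1, 0⟩, ⟨1, 0⟩⟩, ⟨⟨0, 0⟩, ⟨-2, 0⟩, ⟨0, 0⟩, ⟨0, 0⟩⟩⟩,
⟨⟨⟨2, 0⟩, ⟨0, 0⟩, ⟨0, 0⟩, ⟨0, 0⟩⟩, ⟨⟨1, 0⟩, ⟨1, -2⟩, ⟨-1, 0⟩, ⟨1, 0⟩⟩, ⟨⟨0, 0⟩, ⟨2, 0⟩, ⟨0, 0⟩, ⟨0, 0⟩⟩⟩,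
⟨⟨⟨2, 0⟩, ⟨0, 0⟩, ⟨0, 0⟩, ⟨0, 0⟩⟩, ⟨⟨1, 0⟩, ⟨1, -2⟩, ⟨1, 0⟩, ⟨-1, 0⟩⟩, ⟨⟨-2, 0⟩, ⟨0, 0⟩, ⟨0, 0⟩, ⟨0, 0⟩⟩⟩,
⟨⟨⟨2, 0⟩, ⟨0, 0⟩, ⟨0, 0⟩, ⟨0, 0⟩⟩, ⟨⟨1, 0⟩, ⟨1, -2⟩, ⟨1, 0⟩, ⟨-1, 0⟩⟩, ⟨⟨2, 0⟩, ⟨0, 0⟩, ⟨0, 0⟩, ⟨0, 0⟩⟩⟩,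
⟨⟨⟨2, 0⟩, ⟨0, 0⟩, ⟨0, 0⟩, ⟨0, 0⟩⟩, ⟨⟨1, 0⟩, ⟨1, 0⟩, ⟨-1, 0⟩, ⟨1, -2⟩⟩, ⟨⟨-2, 0⟩, ⟨0, 0⟩, ⟨0, 0⟩, ⟨0, 0⟩⟩⟩,
⟨⟨⟨2, 0⟩, ⟨0, 0⟩, ⟨0, 0⟩, ⟨0, 0⟩⟩, ⟨⟨1, 0⟩, ⟨1, 0⟩, ⟨-1, 0⟩, ⟨1, -2⟩⟩, ⟨⟨2, 0⟩, ⟨0, 0⟩, ⟨0, 0⟩, ⟨0, 0⟩⟩⟩,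
⟨⟨⟨2, 0⟩, ⟨0, 0⟩, ⟨0, 0⟩, ⟨0, 0⟩⟩, ⟨⟨1, 0⟩, ⟨1, 0⟩, ⟨-1, 2⟩, ⟨1, 0⟩⟩, ⟨⟨0, 0⟩, ⟨0, 0⟩, ⟨0, 0⟩, ⟨-2, 0⟩⟩⟩,
⟨⟨⟨2, 0⟩, ⟨0, 0⟩, ⟨0, 0⟩, ⟨0, 0⟩⟩, ⟨⟨1, 0⟩, ⟨1, 0⟩, ⟨-1, 2⟩, ⟨1, 0⟩⟩, ⟨⟨0, 0⟩, ⟨0, 0⟩, ⟨0, 0⟩, ⟨2, 0⟩⟩⟩,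
⟨⟨⟨2, 0⟩, ⟨0, 0⟩, ⟨0, 0⟩, ⟨0, 0⟩⟩, ⟨⟨1, 0⟩, ⟨1, 0⟩, ⟨1, -2⟩, ⟨-1, 0⟩⟩, ⟨⟨0, 0⟩, ⟨0, 0⟩, ⟨-2, 0⟩, ⟨0, 0⟩⟩⟩,
⟨⟨⟨2, 0⟩, ⟨0, 0⟩, ⟨0, 0⟩, ⟨0, 0⟩⟩, ⟨⟨1, 0⟩, ⟨1, 0⟩, ⟨1, -2⟩, ⟨-1, 0⟩⟩, ⟨⟨0, 0⟩, ⟨0, 0⟩, ⟨2, 0⟩, ⟨0, 0⟩⟩⟩,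
⟨⟨⟨2, 0⟩, ⟨0, 0⟩, ⟨0, 0⟩, ⟨0, 0⟩⟩, ⟨⟨1, 0⟩, ⟨1, 0⟩, ⟨1, 0⟩, ⟨-1, 2⟩⟩, ⟨⟨0, 0⟩, ⟨-2, 0⟩, ⟨0, 0⟩, ⟨0, 0⟩⟩⟩,
⟨⟨⟨2, 0⟩, ⟨0, 0⟩, ⟨0, 0⟩, ⟨0, 0⟩⟩, ⟨⟨1, 0⟩, ⟨1, 0⟩, ⟨1, 0⟩, ⟨-1, 2⟩⟩, ⟨⟨0, 0⟩, ⟨2, 0⟩, ⟨0, 0⟩, ⟨0, 0⟩⟩⟩,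
⟨⟨⟨2, 0⟩, ⟨0, 0⟩, ⟨0, 0⟩, ⟨0, 0⟩⟩, ⟨⟨2, 0⟩, ⟨0, 0⟩, ⟨0, 0⟩, ⟨0, 0⟩⟩, ⟨⟨-1, 0⟩, ⟨-1, 0⟩, ⟨1, 0⟩, ⟨-1, 2⟩⟩⟩,
⟨⟨⟨2, 0⟩, ⟨0, 0⟩, ⟨0, 0⟩, ⟨0, 0⟩⟩, ⟨⟨2, 0⟩, ⟨0, 0⟩, ⟨0, 0⟩, ⟨0, 0⟩⟩, ⟨⟨-1, 0⟩, ⟨-1, 2⟩, ⟨-1, 0⟩, ⟨1, 0⟩⟩⟩,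
⟨⟨⟨2, 0⟩, ⟨0, 0⟩, ⟨0, 0⟩, ⟨0, 0⟩⟩, ⟨⟨2, 0⟩, ⟨0, 0⟩, ⟨0, 0⟩, ⟨0, 0⟩⟩, ⟨⟨-1, 0⟩, ⟨1, 0⟩, ⟨-1, 2⟩, ⟨-1, 0⟩⟩⟩,
⟨⟨⟨2, 0⟩, ⟨0, 0⟩, ⟨0, 0⟩, ⟨0, 0⟩⟩, ⟨⟨2, 0⟩, ⟨0, 0⟩, ⟨0, 0⟩, ⟨0, 0⟩⟩, ⟨⟨-1, 2⟩, ⟨1, 0⟩, ⟨1, 0⟩, ⟨1, 0⟩⟩⟩,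
⟨⟨⟨2, 0⟩, ⟨0, 0⟩, ⟨0, 0⟩, ⟨0, 0⟩⟩, ⟨⟨2, 0⟩, ⟨0, 0⟩, ⟨0, 0⟩, ⟨0, 0⟩⟩, ⟨⟨1, -2⟩, ⟨-1, 0⟩, ⟨-1, 0⟩, ⟨-1, 0⟩⟩⟩,
⟨⟨⟨2, 0⟩, ⟨0, 0⟩, ⟨0, 0⟩, ⟨0, 0⟩⟩, ⟨⟨2, 0⟩, ⟨0, 0⟩, ⟨0, 0⟩, ⟨0, 0⟩⟩, ⟨⟨1, 0⟩, ⟨-1, 0⟩, ⟨1, -2⟩, ⟨1, 0⟩⟩⟩,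
⟨⟨⟨2, 0⟩, ⟨0, 0⟩, ⟨0, 0⟩, ⟨0, 0⟩⟩, ⟨⟨2, 0⟩, ⟨0, 0⟩, ⟨0, 0⟩, ⟨0, 0⟩⟩, ⟨⟨1, 0⟩, ⟨1, -2⟩, ⟨1, 0⟩, ⟨-1, 0⟩⟩⟩,
⟨⟨⟨2, 0⟩, ⟨0, 0⟩, ⟨0, 0⟩, ⟨0, 0⟩⟩, ⟨⟨2, 0⟩, ⟨0, 0⟩, ⟨0, 0⟩, ⟨0, 0⟩⟩, ⟨⟨1, 0⟩, ⟨1, 0⟩, ⟨-1, 0⟩, ⟨1, -2⟩⟩⟩,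
⟨⟨⟨-1, 0⟩, ⟨-1, 0⟩, ⟨-1, 0⟩, ⟨1, -2⟩⟩, ⟨⟨2, 0⟩, ⟨0, 0⟩, ⟨0, 0⟩, ⟨0, 0⟩⟩, ⟨⟨0, 0⟩, ⟨-2, 0⟩, ⟨0, 0⟩, ⟨0, 0⟩⟩⟩,
⟨⟨⟨-1, 0⟩, ⟨-1, 0⟩, ⟨-1, 0⟩, ⟨1, -2⟩⟩, ⟨⟨2, 0⟩, ⟨0, 0⟩, ⟨0, 0⟩, ⟨0, 0⟩⟩, ⟨⟨0, 0⟩, ⟨2, 0⟩, ⟨0, 0⟩, ⟨0, 0⟩⟩⟩,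
⟨⟨⟨-1, 0⟩, ⟨-1, 0⟩, ⟨-1, 2⟩, ⟨1, 0⟩⟩, ⟨⟨2, 0⟩, ⟨0, 0⟩, ⟨0, 0⟩, ⟨0, 0⟩⟩, ⟨⟨0, 0⟩, ⟨0, 0⟩, ⟨-2, 0⟩, ⟨0, 0⟩⟩⟩,
⟨⟨⟨-1, 0⟩, ⟨-1, 0⟩, ⟨-1, 2⟩, ⟨1, 0⟩⟩, ⟨⟨2, 0⟩, ⟨0, 0⟩, ⟨0, 0⟩, ⟨0, 0⟩⟩, ⟨⟨0, 0⟩, ⟨0, 0⟩, ⟨2, 0⟩, ⟨0, 0⟩⟩⟩,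
⟨⟨⟨-1, 0⟩, ⟨-1, 0⟩, ⟨1, -2⟩, ⟨-1, 0⟩⟩, ⟨⟨2, 0⟩, ⟨0, 0⟩, ⟨0, 0⟩, ⟨0, 0⟩⟩, ⟨⟨0, 0⟩, ⟨0, 0⟩, ⟨0, 0⟩, ⟨-2, 0⟩⟩⟩,
⟨⟨⟨-1, 0⟩, ⟨-1, 0⟩, ⟨1, -2⟩, ⟨-1, 0⟩⟩, ⟨⟨2, 0⟩, ⟨0, 0⟩, ⟨0, 0⟩, ⟨0, 0⟩⟩, ⟨⟨0, 0⟩, ⟨0, 0⟩, ⟨0, 0⟩, ⟨2, 0⟩⟩⟩,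
⟨⟨⟨-1, 0⟩, ⟨-1, 0⟩, ⟨1, 0⟩, ⟨-1, 2⟩⟩, ⟨⟨2, 0⟩, ⟨0, 0⟩, ⟨0, 0⟩, ⟨0, 0⟩⟩, ⟨⟨-2, 0⟩, ⟨0, 0⟩, ⟨0, 0⟩, ⟨0, 0⟩⟩⟩,
⟨⟨⟨-1, 0⟩, ⟨-1, 0⟩, ⟨1, 0⟩, ⟨-1, 2⟩⟩, ⟨⟨2, 0⟩, ⟨0, 0⟩, ⟨0, 0⟩, ⟨0, 0⟩⟩, ⟨⟨2, 0⟩, ⟨0, 0⟩, ⟨0, 0⟩, ⟨0, 0⟩⟩⟩,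
⟨⟨⟨-1, 0⟩, ⟨-1, 2⟩, ⟨-1, 0⟩, ⟨1, 0⟩⟩, ⟨⟨2, 0⟩, ⟨0, 0⟩, ⟨0, 0⟩, ⟨0, 0⟩⟩, ⟨⟨-2, 0⟩, ⟨0, 0⟩, ⟨0, 0⟩, ⟨0, 0⟩⟩⟩,
⟨⟨⟨-1, 0⟩, ⟨-1, 2⟩, ⟨-1, 0⟩, ⟨1, 0⟩⟩, ⟨⟨2, 0⟩, ⟨0, 0⟩, ⟨0, 0⟩, ⟨0, 0⟩⟩, ⟨⟨2, 0⟩, ⟨0, 0⟩, ⟨0, 0⟩, ⟨0, 0⟩⟩⟩,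
⟨⟨⟨-1, 0⟩, ⟨-1, 2⟩, ⟨1, 0⟩, ⟨-1, 0⟩⟩, ⟨⟨2, 0⟩, ⟨0, 0⟩, ⟨0, 0⟩, ⟨0, 0⟩⟩, ⟨⟨0, 0⟩, ⟨-2, 0⟩, ⟨0, 0⟩, ⟨0, 0⟩⟩⟩,
⟨⟨⟨-1, 0⟩, ⟨-1, 2⟩, ⟨1, 0⟩, ⟨-1, 0⟩⟩, ⟨⟨2, 0⟩, ⟨0, 0⟩, ⟨0, 0⟩, ⟨0, 0⟩⟩, ⟨⟨0, 0⟩, ⟨2, 0⟩, ⟨0, 0⟩, ⟨0, 0⟩⟩⟩,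
⟨⟨⟨-1, 0⟩, ⟨1, -2⟩, ⟨-1, 0⟩, ⟨-1, 0⟩⟩, ⟨⟨2, 0⟩, ⟨0, 0⟩, ⟨0, 0⟩, ⟨0, 0⟩⟩, ⟨⟨0, 0⟩, ⟨0, 0⟩, ⟨-2, 0⟩, ⟨0, 0⟩⟩⟩,
⟨⟨⟨-1, 0⟩, ⟨1, -2⟩, ⟨-1, 0⟩, ⟨-1, 0⟩⟩, ⟨⟨2, 0⟩, ⟨0, 0⟩, ⟨0, 0⟩, ⟨0, 0⟩⟩, ⟨⟨0, 0⟩, ⟨0, 0⟩, ⟨2, 0⟩, ⟨0, 0⟩⟩⟩,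
⟨⟨⟨-1, 0⟩, ⟨1, -2⟩, ⟨1, 0⟩, ⟨1, 0⟩⟩, ⟨⟨2, 0⟩, ⟨0, 0⟩, ⟨0, 0⟩, ⟨0, 0⟩⟩, ⟨⟨0, 0⟩, ⟨0, 0⟩, ⟨0, 0⟩, ⟨-2, 0⟩⟩⟩,
⟨⟨⟨-1, 0⟩, ⟨1, -2⟩, ⟨1, 0⟩, ⟨1, 0⟩⟩, ⟨⟨2, 0⟩, ⟨0, 0⟩, ⟨0, 0⟩, ⟨0, 0⟩⟩, ⟨⟨0, 0⟩, ⟨0, 0⟩, ⟨0, 0⟩, ⟨2, 0⟩⟩⟩,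
⟨⟨⟨-1, 0⟩, ⟨1, 0⟩, ⟨-1, 0⟩, ⟨-1, 2⟩⟩, ⟨⟨2, 0⟩, ⟨0, 0⟩, ⟨0, 0⟩, ⟨0, 0⟩⟩, ⟨⟨0, 0⟩, ⟨0, 0⟩, ⟨0, 0⟩, ⟨-2, 0⟩⟩⟩,
⟨⟨⟨-1, 0⟩, ⟨1, 0⟩, ⟨-1, 0⟩, ⟨-1, 2⟩⟩, ⟨⟨2, 0⟩, ⟨0, 0⟩, ⟨0, 0⟩, ⟨0, 0⟩⟩, ⟨⟨0, 0⟩, ⟨0, 0⟩, ⟨0, 0⟩, ⟨2, 0⟩⟩⟩,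
⟨⟨⟨-1, 0⟩, ⟨1, 0⟩, ⟨-1, 2⟩, ⟨-1, 0⟩⟩, ⟨⟨2, 0⟩, ⟨0, 0⟩, ⟨0, 0⟩, ⟨0, 0⟩⟩, ⟨⟨-2, 0⟩, ⟨0, 0⟩, ⟨0, 0⟩, ⟨0, 0⟩⟩⟩,
⟨⟨⟨-1, 0⟩, ⟨1, 0⟩, ⟨-1, 2⟩, ⟨-1, 0⟩⟩, ⟨⟨2, 0⟩, ⟨0, 0⟩, ⟨0, 0⟩, ⟨0, 0⟩⟩, ⟨⟨2, 0⟩, ⟨0, 0⟩, ⟨0, 0⟩, ⟨0, 0⟩⟩⟩,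
⟨⟨⟨-1, 0⟩, ⟨1, 0⟩, ⟨1, -2⟩, ⟨1, 0⟩⟩, ⟨⟨2, 0⟩, ⟨0, 0⟩, ⟨0, 0⟩, ⟨0, 0⟩⟩, ⟨⟨0, 0⟩, ⟨-2, 0⟩, ⟨0, 0⟩, ⟨0, 0⟩⟩⟩,
⟨⟨⟨-1, 0⟩, ⟨1, 0⟩, ⟨1, -2⟩, ⟨1, 0⟩⟩, ⟨⟨2, 0⟩, ⟨0, 0⟩, ⟨0, 0⟩, ⟨0, 0⟩⟩, ⟨⟨0, 0⟩, ⟨2, 0⟩, ⟨0, 0⟩, ⟨0, 0⟩⟩⟩,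
⟨⟨⟨-1, 0⟩, ⟨1, 0⟩, ⟨1, 0⟩, ⟨1, -2⟩⟩, ⟨⟨2, 0⟩, ⟨0, 0⟩, ⟨0, 0⟩, ⟨0, 0⟩⟩, ⟨⟨0, 0⟩, ⟨0, 0⟩, ⟨-2, 0⟩, ⟨0, 0⟩⟩⟩,
⟨⟨⟨-1, 0⟩, ⟨1, 0⟩, ⟨1, 0⟩, ⟨1, -2⟩⟩, ⟨⟨2, 0⟩, ⟨0, 0⟩, ⟨0, 0⟩, ⟨0, 0⟩⟩, ⟨⟨0, 0⟩, ⟨0, 0⟩, ⟨2, 0⟩, ⟨0, 0⟩⟩⟩,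
⟨⟨⟨-1, 1⟩, ⟨-1, 1⟩, ⟨-1, 1⟩, ⟨-1, 1⟩⟩, ⟨⟨2, 0⟩, ⟨0, 0⟩, ⟨0, 0⟩, ⟨0, 0⟩⟩, ⟨⟨0, -1⟩, ⟨0, 1⟩, ⟨0, 1⟩, ⟨0, 1⟩⟩⟩,
⟨⟨⟨-1, 1⟩, ⟨-1, 1⟩, ⟨-1, 1⟩, ⟨-1, 1⟩⟩, ⟨⟨2, 0⟩, ⟨0, 0⟩, ⟨0, 0⟩, ⟨0, 0⟩⟩, ⟨⟨0, 1⟩, ⟨0, -1⟩, ⟨0, -1⟩, ⟨0, -1⟩⟩⟩,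
⟨⟨⟨-1, 1⟩, ⟨-1, 1⟩, ⟨1, -1⟩, ⟨1, -1⟩⟩, ⟨⟨2, 0⟩, ⟨0, 0⟩, ⟨0, 0⟩, ⟨0, 0⟩⟩, ⟨⟨0, -1⟩, ⟨0, -1⟩, ⟨0, -1⟩, ⟨0, 1⟩⟩⟩,
⟨⟨⟨-1, 1⟩, ⟨-1, 1⟩, ⟨1, -1⟩, ⟨1, -1⟩⟩, ⟨⟨2, 0⟩, ⟨0, 0⟩, ⟨0, 0⟩, ⟨0, 0⟩⟩, ⟨⟨0, 1⟩, ⟨0, 1⟩, ⟨0, 1⟩, ⟨0, -1⟩⟩⟩,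
⟨⟨⟨-1, 1⟩, ⟨1, -1⟩, ⟨-1, 1⟩, ⟨1, -1⟩⟩, ⟨⟨2, 0⟩, ⟨0, 0⟩, ⟨0, 0⟩, ⟨0, 0⟩⟩, ⟨⟨0, -1⟩, ⟨0, 1⟩, ⟨0, -1⟩, ⟨0, -1⟩⟩⟩,
⟨⟨⟨-1, 1⟩, ⟨1, -1⟩, ⟨-1, 1⟩, ⟨1, -1⟩⟩, ⟨⟨2, 0⟩, ⟨0, 0⟩, ⟨0, 0⟩, ⟨0, 0⟩⟩, ⟨⟨0, 1⟩, ⟨0, -1⟩, ⟨0, 1⟩, ⟨0, 1⟩⟩⟩,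
⟨⟨⟨-1, 1⟩, ⟨1, -1⟩, ⟨1, -1⟩, ⟨-1, 1⟩⟩, ⟨⟨2, 0⟩, ⟨0, 0⟩, ⟨0, 0⟩, ⟨0, 0⟩⟩, ⟨⟨0, -1⟩, ⟨0, -1⟩, ⟨0, 1⟩, ⟨0, -1⟩⟩⟩,
⟨⟨⟨-1, 1⟩, ⟨1, -1⟩, ⟨1, -1⟩, ⟨-1, 1⟩⟩, ⟨⟨2, 0⟩, ⟨0, 0⟩, ⟨0, 0⟩, ⟨0, 0⟩⟩, ⟨⟨0, 1⟩, ⟨0, 1⟩, ⟨0, -1⟩, ⟨0, 1⟩⟩⟩,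
⟨⟨⟨-1, 2⟩, ⟨-1, 0⟩, ⟨-1, 0⟩, ⟨1, 0⟩⟩, ⟨⟨2, 0⟩, ⟨0, 0⟩, ⟨0, 0⟩, ⟨0, 0⟩⟩, ⟨⟨0, 0⟩, ⟨0, 0⟩, ⟨0, 0⟩, ⟨-2, 0⟩⟩⟩,
⟨⟨⟨-1, 2⟩, ⟨-1, 0⟩, ⟨-1, 0⟩, ⟨1, 0⟩⟩, ⟨⟨2, 0⟩, ⟨0, 0⟩, ⟨0, 0⟩, ⟨0, 0⟩⟩, ⟨⟨0, 0⟩, ⟨0, 0⟩, ⟨0, 0⟩, ⟨2, 0⟩⟩⟩,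
⟨⟨⟨-1, 2⟩, ⟨-1, 0⟩, ⟨1, 0⟩, ⟨-1, 0⟩⟩, ⟨⟨2, 0⟩, ⟨0, 0⟩, ⟨0, 0⟩, ⟨0, 0⟩⟩, ⟨⟨0, 0⟩, ⟨0, 0⟩, ⟨-2, 0⟩, ⟨0, 0⟩⟩⟩,
⟨⟨⟨-1, 2⟩, ⟨-1, 0⟩, ⟨1, 0⟩, ⟨-1, 0⟩⟩, ⟨⟨2, 0⟩, ⟨0, 0⟩, ⟨0, 0⟩, ⟨0, 0⟩⟩, ⟨⟨0, 0⟩, ⟨0, 0⟩, ⟨2, 0⟩, ⟨0, 0⟩⟩⟩,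
⟨⟨⟨-1, 2⟩, ⟨1, 0⟩, ⟨-1, 0⟩, ⟨-1, 0⟩⟩, ⟨⟨2, 0⟩, ⟨0, 0⟩, ⟨0, 0⟩, ⟨0, 0⟩⟩, ⟨⟨0, 0⟩, ⟨-2, 0⟩, ⟨0, 0⟩, ⟨0, 0⟩⟩⟩,
⟨⟨⟨-1, 2⟩, ⟨1, 0⟩, ⟨-1, 0⟩, ⟨-1, 0⟩⟩, ⟨⟨2, 0⟩, ⟨0, 0⟩, ⟨0, 0⟩, ⟨0, 0⟩⟩, ⟨⟨0, 0⟩, ⟨2, 0⟩, ⟨0, 0⟩, ⟨0, 0⟩⟩⟩,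
⟨⟨⟨-1, 2⟩, ⟨1, 0⟩, ⟨1, 0⟩, ⟨1, 0⟩⟩, ⟨⟨2, 0⟩, ⟨0, 0⟩, ⟨0, 0⟩, ⟨0, 0⟩⟩, ⟨⟨-2, 0⟩, ⟨0, 0⟩, ⟨0, 0⟩, ⟨0, 0⟩⟩⟩,
⟨⟨⟨-1, 2⟩, ⟨1, 0⟩, ⟨1, 0⟩, ⟨1, 0⟩⟩, ⟨⟨2, 0⟩, ⟨0, 0⟩, ⟨0, 0⟩, ⟨0, 0⟩⟩, ⟨⟨2, 0⟩, ⟨0, 0⟩, ⟨0, 0⟩, ⟨0, 0⟩⟩⟩,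
⟨⟨⟨0, -1⟩, ⟨0, -1⟩, ⟨0, -1⟩, ⟨0, 1⟩⟩, ⟨⟨2, 0⟩, ⟨0, 0⟩, ⟨0, 0⟩, ⟨0, 0⟩⟩, ⟨⟨-1, 1⟩, ⟨-1, 1⟩, ⟨1, -1⟩, ⟨1, -1⟩⟩⟩,
⟨⟨⟨0, -1⟩, ⟨0, -1⟩, ⟨0, -1⟩, ⟨0, 1⟩⟩, ⟨⟨2, 0⟩, ⟨0, 0⟩, ⟨0, 0⟩, ⟨0, 0⟩⟩, ⟨⟨1, -1⟩, ⟨1, -1⟩, ⟨-1, 1⟩, ⟨-1, 1⟩⟩⟩,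
⟨⟨⟨0, -1⟩, ⟨0, -1⟩, ⟨0, 1⟩, ⟨0, -1⟩⟩, ⟨⟨2, 0⟩, ⟨0, 0⟩, ⟨0, 0⟩, ⟨0, 0⟩⟩, ⟨⟨-1, 1⟩, ⟨1, -1⟩, ⟨1, -1⟩, ⟨-1, 1⟩⟩⟩,
⟨⟨⟨0, -1⟩, ⟨0, -1⟩, ⟨0, 1⟩, ⟨0, -1⟩⟩, ⟨⟨2, 0⟩, ⟨0, 0⟩, ⟨0, 0⟩, ⟨0, 0⟩⟩, ⟨⟨1, -1⟩, ⟨-1, 1⟩, ⟨-1, 1⟩, ⟨1, -1⟩⟩⟩,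
⟨⟨⟨0, -1⟩, ⟨0, 1⟩, ⟨0, -1⟩, ⟨0, -1⟩⟩, ⟨⟨2, 0⟩, ⟨0, 0⟩, ⟨0, 0⟩, ⟨0, 0⟩⟩, ⟨⟨-1, 1⟩, ⟨1, -1⟩, ⟨-1, 1⟩, ⟨1, -1⟩⟩⟩,
⟨⟨⟨0, -1⟩, ⟨0, 1⟩, ⟨0, -1⟩, ⟨0, -1⟩⟩, ⟨⟨2, 0⟩, ⟨0, 0⟩, ⟨0, 0⟩, ⟨0, 0⟩⟩, ⟨⟨1, -1⟩, ⟨-1, 1⟩, ⟨1, -1⟩, ⟨-1, 1⟩⟩⟩,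
⟨⟨⟨0, -1⟩, ⟨0, 1⟩, ⟨0, 1⟩, ⟨0, 1⟩⟩, ⟨⟨2, 0⟩, ⟨0, 0⟩, ⟨0, 0⟩, ⟨0, 0⟩⟩, ⟨⟨-1, 1⟩, ⟨-1, 1⟩, ⟨-1, 1⟩, ⟨-1, 1⟩⟩⟩,
⟨⟨⟨0, -1⟩, ⟨0, 1⟩, ⟨0, 1⟩, ⟨0, 1⟩⟩, ⟨⟨2, 0⟩, ⟨0, 0⟩, ⟨0, 0⟩, ⟨0, 0⟩⟩, ⟨⟨1, -1⟩, ⟨1, -1⟩, ⟨1, -1⟩, ⟨1, -1⟩⟩⟩,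
⟨⟨⟨0, 1⟩, ⟨0, -1⟩, ⟨0, -1⟩, ⟨0, -1⟩⟩, ⟨⟨2, 0⟩, ⟨0, 0⟩, ⟨0, 0⟩, ⟨0, 0⟩⟩, ⟨⟨-1, 1⟩, ⟨-1, 1⟩, ⟨-1, 1⟩, ⟨-1, 1⟩⟩⟩,
⟨⟨⟨0, 1⟩, ⟨0, -1⟩, ⟨0, -1⟩, ⟨0, -1⟩⟩, ⟨⟨2, 0⟩, ⟨0, 0⟩, ⟨0, 0⟩, ⟨0, 0⟩⟩, ⟨⟨1, -1⟩, ⟨1, -1⟩, ⟨1, -1⟩, ⟨1, -1⟩⟩⟩,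
⟨⟨⟨0, 1⟩, ⟨0, -1⟩, ⟨0, 1⟩, ⟨0, 1⟩⟩, ⟨⟨2, 0⟩, ⟨0, 0⟩, ⟨0, 0⟩, ⟨0, 0⟩⟩, ⟨⟨-1, 1⟩, ⟨1, -1⟩, ⟨-1, 1⟩, ⟨1, -1⟩⟩⟩,
⟨⟨⟨0, 1⟩, ⟨0, -1⟩, ⟨0, 1⟩, ⟨0, 1⟩⟩, ⟨⟨2, 0⟩, ⟨0, 0⟩, ⟨0, 0⟩, ⟨0, 0⟩⟩, ⟨⟨1, -1⟩, ⟨-1, 1⟩, ⟨1, -1⟩, ⟨-1, 1⟩⟩⟩,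
⟨⟨⟨0, 1⟩, ⟨0, 1⟩, ⟨0, -1⟩, ⟨0, 1⟩⟩, ⟨⟨2, 0⟩, ⟨0, 0⟩, ⟨0, 0⟩, ⟨0, 0⟩⟩, ⟨⟨-1, 1⟩, ⟨1, -1⟩, ⟨1, -1⟩, ⟨-1, 1⟩⟩⟩,
⟨⟨⟨0, 1⟩, ⟨0, 1⟩, ⟨0, -1⟩, ⟨0, 1⟩⟩, ⟨⟨2, 0⟩, ⟨0, 0⟩, ⟨0, 0⟩, ⟨0, 0⟩⟩, ⟨⟨1, -1⟩, ⟨-1, 1⟩, ⟨-1, 1⟩, ⟨1, -1⟩⟩⟩,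
⟨⟨⟨0, 1⟩, ⟨0, 1⟩, ⟨0, 1⟩, ⟨0, -1⟩⟩, ⟨⟨2, 0⟩, ⟨0, 0⟩, ⟨0, 0⟩, ⟨0, 0⟩⟩, ⟨⟨-1, 1⟩, ⟨-1, 1⟩, ⟨1, -1⟩, ⟨1, -1⟩⟩⟩,
⟨⟨⟨0, 1⟩, ⟨0, 1⟩, ⟨0, 1⟩, ⟨0, -1⟩⟩, ⟨⟨2, 0⟩, ⟨0, 0⟩, ⟨0, 0⟩, ⟨0, 0⟩⟩, ⟨⟨1, -1⟩, ⟨1, -1⟩, ⟨-1, 1⟩, ⟨-1, 1⟩⟩⟩,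
⟨⟨⟨1, -2⟩, ⟨-1, 0⟩, ⟨-1, 0⟩, ⟨-1, 0⟩⟩, ⟨⟨2, 0⟩, ⟨0, 0⟩, ⟨0, 0⟩, ⟨0, 0⟩⟩, ⟨⟨-2, 0⟩, ⟨0, 0⟩, ⟨0, 0⟩, ⟨0, 0⟩⟩⟩,
⟨⟨⟨1, -2⟩, ⟨-1, 0⟩, ⟨-1, 0⟩, ⟨-1, 0⟩⟩, ⟨⟨2, 0⟩, ⟨0, 0⟩, ⟨0, 0⟩, ⟨0, 0⟩⟩, ⟨⟨2, 0⟩, ⟨0, 0⟩, ⟨0, 0⟩, ⟨0, 0⟩⟩⟩,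
⟨⟨⟨1, -2⟩, ⟨-1, 0⟩, ⟨1, 0⟩, ⟨1, 0⟩⟩, ⟨⟨2, 0⟩, ⟨0, 0⟩, ⟨0, 0⟩, ⟨0, 0⟩⟩, ⟨⟨0, 0⟩, ⟨-2, 0⟩, ⟨0, 0⟩, ⟨0, 0⟩⟩⟩,
⟨⟨⟨1, -2⟩, ⟨-1, 0⟩, ⟨1, 0⟩, ⟨1, 0⟩⟩, ⟨⟨2, 0⟩, ⟨0, 0⟩, ⟨0, 0⟩, ⟨0, 0⟩⟩, ⟨⟨0, 0⟩, ⟨2, 0⟩, ⟨0, 0⟩, ⟨0, 0⟩⟩⟩,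
⟨⟨⟨1, -2⟩, ⟨1, 0⟩, ⟨-1, 0⟩, ⟨1, 0⟩⟩, ⟨⟨2, 0⟩, ⟨0, 0⟩, ⟨0, 0⟩, ⟨0, 0⟩⟩, ⟨⟨0, 0⟩, ⟨0, 0⟩, ⟨-2, 0⟩, ⟨0, 0⟩⟩⟩,
⟨⟨⟨1, -2⟩, ⟨1, 0⟩, ⟨-1, 0⟩, ⟨1, 0⟩⟩, ⟨⟨2, 0⟩, ⟨0, 0⟩, ⟨0, 0⟩, ⟨0, 0⟩⟩, ⟨⟨0, 0⟩, ⟨0, 0⟩, ⟨2, 0⟩, ⟨0, 0⟩⟩⟩,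
⟨⟨⟨1, -2⟩, ⟨1, 0⟩, ⟨1, 0⟩, ⟨-1, 0⟩⟩, ⟨⟨2, 0⟩, ⟨0, 0⟩, ⟨0, 0⟩, ⟨0, 0⟩⟩, ⟨⟨0, 0⟩, ⟨0, 0⟩, ⟨0, 0⟩, ⟨-2, 0⟩⟩⟩,
⟨⟨⟨1, -2⟩, ⟨1, 0⟩, ⟨1, 0⟩, ⟨-1, 0⟩⟩, ⟨⟨2, 0⟩, ⟨0, 0⟩, ⟨0, 0⟩, ⟨0, 0⟩⟩, ⟨⟨0, 0⟩, ⟨0, 0⟩, ⟨0, 0⟩, ⟨2, 0⟩⟩⟩,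
⟨⟨⟨1, -1⟩, ⟨-1, 1⟩, ⟨-1, 1⟩, ⟨1, -1⟩⟩, ⟨⟨2, 0⟩, ⟨0, 0⟩, ⟨0, 0⟩, ⟨0, 0⟩⟩, ⟨⟨0, -1⟩, ⟨0, -1⟩, ⟨0, 1⟩, ⟨0, -1⟩⟩⟩,
⟨⟨⟨1, -1⟩, ⟨-1, 1⟩, ⟨-1, 1⟩, ⟨1, -1⟩⟩, ⟨⟨2, 0⟩, ⟨0, 0⟩, ⟨0, 0⟩, ⟨0, 0⟩⟩, ⟨⟨0, 1⟩, ⟨0, 1⟩, ⟨0, -1⟩, ⟨0, 1⟩⟩⟩,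
⟨⟨⟨1, -1⟩, ⟨-1, 1⟩, ⟨1, -1⟩, ⟨-1, 1⟩⟩, ⟨⟨2, 0⟩, ⟨0, 0⟩, ⟨0, 0⟩, ⟨0, 0⟩⟩, ⟨⟨0, -1⟩, ⟨0, 1⟩, ⟨0, -1⟩, ⟨0, -1⟩⟩⟩,
⟨⟨⟨1, -1⟩, ⟨-1, 1⟩, ⟨1, -1⟩, ⟨-1, 1⟩⟩, ⟨⟨2, 0⟩, ⟨0, 0⟩, ⟨0, 0⟩, ⟨0, 0⟩⟩, ⟨⟨0, 1⟩, ⟨0, -1⟩, ⟨0, 1⟩, ⟨0, 1⟩⟩⟩,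
⟨⟨⟨1, -1⟩, ⟨1, -1⟩, ⟨-1, 1⟩, ⟨-1, 1⟩⟩, ⟨⟨2, 0⟩, ⟨0, 0⟩, ⟨0, 0⟩, ⟨0, 0⟩⟩, ⟨⟨0, -1⟩, ⟨0, -1⟩, ⟨0, -1⟩, ⟨0, 1⟩⟩⟩,
⟨⟨⟨1, -1⟩, ⟨1, -1⟩, ⟨-1, 1⟩, ⟨-1, 1⟩⟩, ⟨⟨2, 0⟩, ⟨0, 0⟩, ⟨0, 0⟩, ⟨0, 0⟩⟩, ⟨⟨0, 1⟩, ⟨0, 1⟩, ⟨0, 1⟩, ⟨0, -1⟩⟩⟩,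
⟨⟨⟨1, -1⟩, ⟨1, -1⟩, ⟨1, -1⟩, ⟨1, -1⟩⟩, ⟨⟨2, 0⟩, ⟨0, 0⟩, ⟨0, 0⟩, ⟨0, 0⟩⟩, ⟨⟨0, -1⟩, ⟨0, 1⟩, ⟨0, 1⟩, ⟨0, 1⟩⟩⟩,
⟨⟨⟨1, -1⟩, ⟨1, -1⟩, ⟨1, -1⟩, ⟨1, -1⟩⟩, ⟨⟨2, 0⟩, ⟨0, 0⟩, ⟨0, 0⟩, ⟨0, 0⟩⟩, ⟨⟨0, 1⟩, ⟨0, -1⟩, ⟨0, -1⟩, ⟨0, -1⟩⟩⟩,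
⟨⟨⟨1, 0⟩, ⟨-1, 0⟩, ⟨-1, 0⟩, ⟨-1, 2⟩⟩, ⟨⟨2, 0⟩, ⟨0, 0⟩, ⟨0, 0⟩, ⟨0, 0⟩⟩, ⟨⟨0, 0⟩, ⟨0, 0⟩, ⟨-2, 0⟩, ⟨0, 0⟩⟩⟩,
⟨⟨⟨1, 0⟩, ⟨-1, 0⟩, ⟨-1, 0⟩, ⟨-1, 2⟩⟩, ⟨⟨2, 0⟩, ⟨0, 0⟩, ⟨0, 0⟩, ⟨0, 0⟩⟩, ⟨⟨0, 0⟩, ⟨0, 0⟩, ⟨2, 0⟩, ⟨0, 0⟩⟩⟩,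
⟨⟨⟨1, 0⟩, ⟨-1, 0⟩, ⟨-1, 2⟩, ⟨-1, 0⟩⟩, ⟨⟨2, 0⟩, ⟨0, 0⟩, ⟨0, 0⟩, ⟨0, 0⟩⟩, ⟨⟨0, 0⟩, ⟨-2, 0⟩, ⟨0, 0⟩, ⟨0, 0⟩⟩⟩,
⟨⟨⟨1, 0⟩, ⟨-1, 0⟩, ⟨-1, 2⟩, ⟨-1, 0⟩⟩, ⟨⟨2, 0⟩, ⟨0, 0⟩, ⟨0, 0⟩, ⟨0, 0⟩⟩, ⟨⟨0, 0⟩, ⟨2, 0⟩, ⟨0, 0⟩, ⟨0, 0⟩⟩⟩,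
⟨⟨⟨1, 0⟩, ⟨-1, 0⟩, ⟨1, -2⟩, ⟨1, 0⟩⟩, ⟨⟨2, 0⟩, ⟨0, 0⟩, ⟨0, 0⟩, ⟨0, 0⟩⟩, ⟨⟨-2, 0⟩, ⟨0, 0⟩, ⟨0, 0⟩, ⟨0, 0⟩⟩⟩,
⟨⟨⟨1, 0⟩, ⟨-1, 0⟩, ⟨1, -2⟩, ⟨1, 0⟩⟩, ⟨⟨2, 0⟩, ⟨0, 0⟩, ⟨0, 0⟩, ⟨0, 0⟩⟩, ⟨⟨2, 0⟩, ⟨0, 0⟩, ⟨0, 0⟩, ⟨0, 0⟩⟩⟩,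
⟨⟨⟨1, 0⟩, ⟨-1, 0⟩, ⟨1, 0⟩, ⟨1, -2⟩⟩, ⟨⟨2, 0⟩, ⟨0, 0⟩, ⟨0, 0⟩, ⟨0, 0⟩⟩, ⟨⟨0, 0⟩, ⟨0, 0⟩, ⟨0, 0⟩, ⟨-2, 0⟩⟩⟩,
⟨⟨⟨1, 0⟩, ⟨-1, 0⟩, ⟨1, 0⟩, ⟨1, -2⟩⟩, ⟨⟨2, 0⟩, ⟨0, 0⟩, ⟨0, 0⟩, ⟨0, 0⟩⟩, ⟨⟨0, 0⟩, ⟨0, 0⟩, ⟨0, 0⟩, ⟨2, 0⟩⟩⟩,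
⟨⟨⟨1, 0⟩, ⟨-1, 2⟩, ⟨-1, 0⟩, ⟨-1, 0⟩⟩, ⟨⟨2, 0⟩, ⟨0, 0⟩, ⟨0, 0⟩, ⟨0, 0⟩⟩, ⟨⟨0, 0⟩, ⟨0, 0⟩, ⟨0, 0⟩, ⟨-2, 0⟩⟩⟩,
⟨⟨⟨1, 0⟩, ⟨-1, 2⟩, ⟨-1, 0⟩, ⟨-1, 0⟩⟩, ⟨⟨2, 0⟩, ⟨0, 0⟩, ⟨0, 0⟩, ⟨0, 0⟩⟩, ⟨⟨0, 0⟩, ⟨0, 0⟩, ⟨0, 0⟩, ⟨2, 0⟩⟩⟩,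
⟨⟨⟨1, 0⟩, ⟨-1, 2⟩, ⟨1, 0⟩, ⟨1, 0⟩⟩, ⟨⟨2, 0⟩, ⟨0, 0⟩, ⟨0, 0⟩, ⟨0, 0⟩⟩, ⟨⟨0, 0⟩, ⟨0, 0⟩, ⟨-2, 0⟩, ⟨0, 0⟩⟩⟩,
⟨⟨⟨1, 0⟩, ⟨-1, 2⟩, ⟨1, 0⟩, ⟨1, 0⟩⟩, ⟨⟨2, 0⟩, ⟨0, 0⟩, ⟨0, 0⟩, ⟨0, 0⟩⟩, ⟨⟨0, 0⟩, ⟨0, 0⟩, ⟨2, 0⟩, ⟨0, 0⟩⟩⟩,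
⟨⟨⟨1, 0⟩, ⟨1, -2⟩, ⟨-1, 0⟩, ⟨1, 0⟩⟩, ⟨⟨2, 0⟩, ⟨0, 0⟩, ⟨0, 0⟩, ⟨0, 0⟩⟩, ⟨⟨0, 0⟩, ⟨-2, 0⟩, ⟨0, 0⟩, ⟨0, 0⟩⟩⟩,
⟨⟨⟨1, 0⟩, ⟨1, -2⟩, ⟨-1, 0⟩, ⟨1, 0⟩⟩, ⟨⟨2, 0⟩, ⟨0, 0⟩, ⟨0, 0⟩, ⟨0, 0⟩⟩, ⟨⟨0, 0⟩, ⟨2, 0⟩, ⟨0, 0⟩, ⟨0, 0⟩⟩⟩,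
⟨⟨⟨1, 0⟩, ⟨1, -2⟩, ⟨1, 0⟩, ⟨-1, 0⟩⟩, ⟨⟨2, 0⟩, ⟨0, 0⟩, ⟨0, 0⟩, ⟨0, 0⟩⟩, ⟨⟨-2, 0⟩, ⟨0, 0⟩, ⟨0, 0⟩, ⟨0, 0⟩⟩⟩,
⟨⟨⟨1, 0⟩, ⟨1, -2⟩, ⟨1, 0⟩, ⟨-1, 0⟩⟩, ⟨⟨2, 0⟩, ⟨0, 0⟩, ⟨0, 0⟩, ⟨0, 0⟩⟩, ⟨⟨2, 0⟩, ⟨0, 0⟩, ⟨0, 0⟩, ⟨0, 0⟩⟩⟩,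
⟨⟨⟨1, 0⟩, ⟨1, 0⟩, ⟨-1, 0⟩, ⟨1, -2⟩⟩, ⟨⟨2, 0⟩, ⟨0, 0⟩, ⟨0, 0⟩, ⟨0, 0⟩⟩, ⟨⟨-2, 0⟩, ⟨0, 0⟩, ⟨0, 0⟩, ⟨0, 0⟩⟩⟩,
⟨⟨⟨1, 0⟩, ⟨1, 0⟩, ⟨-1, 0⟩, ⟨1, -2⟩⟩, ⟨⟨2, 0⟩, ⟨0, 0⟩, ⟨0, 0⟩, ⟨0, 0⟩⟩, ⟨⟨2, 0⟩, ⟨0, 0⟩, ⟨0, 0⟩, ⟨0, 0⟩⟩⟩,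
⟨⟨⟨1, 0⟩, ⟨1, 0⟩, ⟨-1, 2⟩, ⟨1, 0⟩⟩, ⟨⟨2, 0⟩, ⟨0, 0⟩, ⟨0, 0⟩, ⟨0, 0⟩⟩, ⟨⟨0, 0⟩, ⟨0, 0⟩, ⟨0, 0⟩, ⟨-2, 0⟩⟩⟩,
⟨⟨⟨1, 0⟩, ⟨1, 0⟩, ⟨-1, 2⟩, ⟨1, 0⟩⟩, ⟨⟨2, 0⟩, ⟨0, 0⟩, ⟨0, 0⟩, ⟨0, 0⟩⟩, ⟨⟨0, 0⟩, ⟨0, 0⟩, ⟨0, 0⟩, ⟨2, 0⟩⟩⟩,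
⟨⟨⟨1, 0⟩, ⟨1, 0⟩, ⟨1, -2⟩, ⟨-1, 0⟩⟩, ⟨⟨2, 0⟩, ⟨0, 0⟩, ⟨0, 0⟩, ⟨0, 0⟩⟩, ⟨⟨0, 0⟩, ⟨0, 0⟩, ⟨-2, 0⟩, ⟨0, 0⟩⟩⟩,
⟨⟨⟨1, 0⟩, ⟨1, 0⟩, ⟨1, -2⟩, ⟨-1, 0⟩⟩, ⟨⟨2, 0⟩, ⟨0, 0⟩, ⟨0, 0⟩, ⟨0, 0⟩⟩, ⟨⟨0, 0⟩, ⟨0, 0⟩, ⟨2, 0⟩, ⟨0, 0⟩⟩⟩,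
⟨⟨⟨1, 0⟩, ⟨1, 0⟩, ⟨1, 0⟩, ⟨-1, 2⟩⟩, ⟨⟨2, 0⟩, ⟨0, 0⟩, ⟨0, 0⟩, ⟨0, 0⟩⟩, ⟨⟨0, 0⟩, ⟨-2, 0⟩, ⟨0, 0⟩, ⟨0, 0⟩⟩⟩,
⟨⟨⟨1, 0⟩, ⟨1, 0⟩, ⟨1, 0⟩, ⟨-1, 2⟩⟩, ⟨⟨2, 0⟩, ⟨0, 0⟩, ⟨0, 0⟩, ⟨0, 0⟩⟩, ⟨⟨0, 0⟩, ⟨2, 0⟩, ⟨0, 0⟩, ⟨0, 0⟩⟩⟩,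
⟨⟨⟨-1, 1⟩, ⟨-1, 1⟩, ⟨-1, 1⟩, ⟨-1, 1⟩⟩, ⟨⟨0, -1⟩, ⟨0, 1⟩, ⟨0, 1⟩, ⟨0, 1⟩⟩, ⟨⟨2, 0⟩, ⟨0, 0⟩, ⟨0, 0⟩, ⟨0, 0⟩⟩⟩,
⟨⟨⟨-1, 1⟩, ⟨-1, 1⟩, ⟨-1, 1⟩, ⟨-1, 1⟩⟩, ⟨⟨0, 1⟩, ⟨0, -1⟩, ⟨0, -1⟩, ⟨0, -1⟩⟩, ⟨⟨2, 0⟩, ⟨0, 0⟩, ⟨0, 0⟩, ⟨0, 0⟩⟩⟩,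
⟨⟨⟨-1, 1⟩, ⟨-1, 1⟩, ⟨1, -1⟩, ⟨1, -1⟩⟩, ⟨⟨0, -1⟩, ⟨0, -1⟩, ⟨0, -1⟩, ⟨0, 1⟩⟩, ⟨⟨2, 0⟩, ⟨0, 0⟩, ⟨0, 0⟩, ⟨0, 0⟩⟩⟩,
⟨⟨⟨-1, 1⟩, ⟨-1, 1⟩, ⟨1, -1⟩, ⟨1, -1⟩⟩, ⟨⟨0, 1⟩, ⟨0, 1⟩, ⟨0, 1⟩, ⟨0, -1⟩⟩, ⟨⟨2, 0⟩, ⟨0, 0⟩, ⟨0, 0⟩, ⟨0, 0⟩⟩⟩,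
⟨⟨⟨-1, 1⟩, ⟨1, -1⟩, ⟨-1, 1⟩, ⟨1, -1⟩⟩, ⟨⟨0, -1⟩, ⟨0, 1⟩, ⟨0, -1⟩, ⟨0, -1⟩⟩, ⟨⟨2, 0⟩, ⟨0, 0⟩, ⟨0, 0⟩, ⟨0, 0⟩⟩⟩,
⟨⟨⟨-1, 1⟩, ⟨1, -1⟩, ⟨-1, 1⟩, ⟨1, -1⟩⟩, ⟨⟨0, 1⟩, ⟨0, -1⟩, ⟨0, 1⟩, ⟨0, 1⟩⟩, ⟨⟨2, 0⟩, ⟨0, 0⟩, ⟨0, 0⟩, ⟨0, 0⟩⟩⟩,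
⟨⟨⟨-1, 1⟩, ⟨1, -1⟩, ⟨1, -1⟩, ⟨-1, 1⟩⟩, ⟨⟨0, -1⟩, ⟨0, -1⟩, ⟨0, 1⟩, ⟨0, -1⟩⟩, ⟨⟨2, 0⟩, ⟨0, 0⟩, ⟨0, 0⟩, ⟨0, 0⟩⟩⟩,
⟨⟨⟨-1, 1⟩, ⟨1, -1⟩, ⟨1, -1⟩, ⟨-1, 1⟩⟩, ⟨⟨0, 1⟩, ⟨0, 1⟩, ⟨0, -1⟩, ⟨0, 1⟩⟩, ⟨⟨2, 0⟩, ⟨0, 0⟩, ⟨0, 0⟩, ⟨0, 0⟩⟩⟩,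
⟨⟨⟨0, -1⟩, ⟨0, -1⟩, ⟨0, -1⟩, ⟨0, 1⟩⟩, ⟨⟨-1, 1⟩, ⟨-1, 1⟩, ⟨1, -1⟩, ⟨1, -1⟩⟩, ⟨⟨2, 0⟩, ⟨0, 0⟩, ⟨0, 0⟩, ⟨0, 0⟩⟩⟩,
⟨⟨⟨0, -1⟩, ⟨0, -1⟩, ⟨0, -1⟩, ⟨0, 1⟩⟩, ⟨⟨1, -1⟩, ⟨1, -1⟩, ⟨-1, 1⟩, ⟨-1, 1⟩⟩, ⟨⟨2, 0⟩, ⟨0, 0⟩, ⟨0, 0⟩, ⟨0, 0⟩⟩⟩,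
⟨⟨⟨0, -1⟩, ⟨0, -1⟩, ⟨0, 1⟩, ⟨0, -1⟩⟩, ⟨⟨-1, 1⟩, ⟨1, -1⟩, ⟨1, -1⟩, ⟨-1, 1⟩⟩, ⟨⟨2, 0⟩, ⟨0, 0⟩, ⟨0, 0⟩, ⟨0, 0⟩⟩⟩,
⟨⟨⟨0, -1⟩, ⟨0, -1⟩, ⟨0, 1⟩, ⟨0, -1⟩⟩, ⟨⟨1, -1⟩, ⟨-1, 1⟩, ⟨-1, 1⟩, ⟨1, -1⟩⟩, ⟨⟨2, 0⟩, ⟨0, 0⟩, ⟨0, 0⟩, ⟨0, 0⟩⟩⟩,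
⟨⟨⟨0, -1⟩, ⟨0, 1⟩, ⟨0, -1⟩, ⟨0, -1⟩⟩, ⟨⟨-1, 1⟩, ⟨1, -1⟩, ⟨-1, 1⟩, ⟨1, -1⟩⟩, ⟨⟨2, 0⟩, ⟨0, 0⟩, ⟨0, 0⟩, ⟨0, 0⟩⟩⟩,
⟨⟨⟨0, -1⟩, ⟨0, 1⟩, ⟨0, -1⟩, ⟨0, -1⟩⟩, ⟨⟨1, -1⟩, ⟨-1, 1⟩, ⟨1, -1⟩, ⟨-1, 1⟩⟩, ⟨⟨2, 0⟩, ⟨0, 0⟩, ⟨0, 0⟩, ⟨0, 0⟩⟩⟩,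
⟨⟨⟨0, -1⟩, ⟨0, 1⟩, ⟨0, 1⟩, ⟨0, 1⟩⟩, ⟨⟨-1, 1⟩, ⟨-1, 1⟩, ⟨-1, 1⟩, ⟨-1, 1⟩⟩, ⟨⟨2, 0⟩, ⟨0, 0⟩, ⟨0, 0⟩, ⟨0, 0⟩⟩⟩,
⟨⟨⟨0, -1⟩, ⟨0, 1⟩, ⟨0, 1⟩, ⟨0, 1⟩⟩, ⟨⟨1, -1⟩, ⟨1, -1⟩, ⟨1, -1⟩, ⟨1, -1⟩⟩, ⟨⟨2, 0⟩, ⟨0, 0⟩, ⟨0, 0⟩, ⟨0, 0⟩⟩⟩,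
⟨⟨⟨0, 1⟩, ⟨0, -1⟩, ⟨0, -1⟩, ⟨0, -1⟩⟩, ⟨⟨-1, 1⟩, ⟨-1, 1⟩, ⟨-1, 1⟩, ⟨-1, 1⟩⟩, ⟨⟨2, 0⟩, ⟨0, 0⟩, ⟨0, 0⟩, ⟨0, 0⟩⟩⟩,
⟨⟨⟨0, 1⟩, ⟨0, -1⟩, ⟨0, -1⟩, ⟨0, -1⟩⟩, ⟨⟨1, -1⟩, ⟨1, -1⟩, ⟨1, -1⟩, ⟨1, -1⟩⟩, ⟨⟨2, 0⟩, ⟨0, 0⟩, ⟨0, 0⟩, ⟨0, 0⟩⟩⟩,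
⟨⟨⟨0, 1⟩, ⟨0, -1⟩, ⟨0, 1⟩, ⟨0, 1⟩⟩, ⟨⟨-1, 1⟩, ⟨1, -1⟩, ⟨-1, 1⟩, ⟨1, -1⟩⟩, ⟨⟨2, 0⟩, ⟨0, 0⟩, ⟨0, 0⟩, ⟨0, 0⟩⟩⟩,
⟨⟨⟨0, 1⟩, ⟨0, -1⟩, ⟨0, 1⟩, ⟨0, 1⟩⟩, ⟨⟨1, -1⟩, ⟨-1, 1⟩, ⟨1, -1⟩, ⟨-1, 1⟩⟩, ⟨⟨2, 0⟩, ⟨0, 0⟩, ⟨0, 0⟩, ⟨0, 0⟩⟩⟩,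
⟨⟨⟨0, 1⟩, ⟨0, 1⟩, ⟨0, -1⟩, ⟨0, 1⟩⟩, ⟨⟨-1, 1⟩, ⟨1, -1⟩, ⟨1, -1⟩, ⟨-1, 1⟩⟩, ⟨⟨2, 0⟩, ⟨0, 0⟩, ⟨0, 0⟩, ⟨0, 0⟩⟩⟩,
⟨⟨⟨0, 1⟩, ⟨0, 1⟩, ⟨0, -1⟩, ⟨0, 1⟩⟩, ⟨⟨1, -1⟩, ⟨-1, 1⟩, ⟨-1, 1⟩, ⟨1, -1⟩⟩, ⟨⟨2, 0⟩, ⟨0, 0⟩, ⟨0, 0⟩, ⟨0, 0⟩⟩⟩,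
⟨⟨⟨0, 1⟩, ⟨0, 1⟩, ⟨0, 1⟩, ⟨0, -1⟩⟩, ⟨⟨-1, 1⟩, ⟨-1, 1⟩, ⟨1, -1⟩, ⟨1, -1⟩⟩, ⟨⟨2, 0⟩, ⟨0, 0⟩, ⟨0, 0⟩, ⟨0, 0⟩⟩⟩,
⟨⟨⟨0, 1⟩, ⟨0, 1⟩, ⟨0, 1⟩, ⟨0, -1⟩⟩, ⟨⟨1, -1⟩, ⟨1, -1⟩, ⟨-1, 1⟩, ⟨-1, 1⟩⟩, ⟨⟨2, 0⟩, ⟨0, 0⟩, ⟨0, 0⟩, ⟨0, 0⟩⟩⟩,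
⟨⟨⟨1, -1⟩, ⟨-1, 1⟩, ⟨-1, 1⟩, ⟨1, -1⟩⟩, ⟨⟨0, -1⟩, ⟨0, -1⟩, ⟨0, 1⟩, ⟨0, -1⟩⟩, ⟨⟨2, 0⟩, ⟨0, 0⟩, ⟨0, 0⟩, ⟨0, 0⟩⟩⟩,
⟨⟨⟨1, -1⟩, ⟨-1, 1⟩, ⟨-1, 1⟩, ⟨1, -1⟩⟩, ⟨⟨0, 1⟩, ⟨0, 1⟩, ⟨0, -1⟩, ⟨0, 1⟩⟩, ⟨⟨2, 0⟩, ⟨0, 0⟩, ⟨0, 0⟩, ⟨0, 0⟩⟩⟩,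
⟨⟨⟨1, -1⟩, ⟨-1, 1⟩, ⟨1, -1⟩, ⟨-1, 1⟩⟩, ⟨⟨0, -1⟩, ⟨0, 1⟩, ⟨0, -1⟩, ⟨0, -1⟩⟩, ⟨⟨2, 0⟩, ⟨0, 0⟩, ⟨0, 0⟩, ⟨0, 0⟩⟩⟩,
⟨⟨⟨1, -1⟩, ⟨-1, 1⟩, ⟨1, -1⟩, ⟨-1, 1⟩⟩, ⟨⟨0, 1⟩, ⟨0, -1⟩, ⟨0, 1⟩, ⟨0, 1⟩⟩, ⟨⟨2, 0⟩, ⟨0, 0⟩, ⟨0, 0⟩, ⟨0, 0⟩⟩⟩,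
⟨⟨⟨1, -1⟩, ⟨1, -1⟩, ⟨-1, 1⟩, ⟨-1, 1⟩⟩, ⟨⟨0, -1⟩, ⟨0, -1⟩, ⟨0, -1⟩, ⟨0, 1⟩⟩, ⟨⟨2, 0⟩, ⟨0, 0⟩, ⟨0, 0⟩, ⟨0, 0⟩⟩⟩,
⟨⟨⟨1, -1⟩, ⟨1, -1⟩, ⟨-1, 1⟩, ⟨-1, 1⟩⟩, ⟨⟨0, 1⟩, ⟨0, 1⟩, ⟨0, 1⟩, ⟨0, -1⟩⟩, ⟨⟨2, 0⟩, ⟨0, 0⟩, ⟨0, 0⟩, ⟨0, 0⟩⟩⟩,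
⟨⟨⟨1, -1⟩, ⟨1, -1⟩, ⟨1, -1⟩, ⟨1, -1⟩⟩, ⟨⟨0, -1⟩, ⟨0, 1⟩, ⟨0, 1⟩, ⟨0, 1⟩⟩, ⟨⟨2, 0⟩, ⟨0, 0⟩, ⟨0, 0⟩, ⟨0, 0⟩⟩⟩,
⟨⟨⟨1, -1⟩, ⟨1, -1⟩, ⟨1, -1⟩, ⟨1, -1⟩⟩, ⟨⟨0, 1⟩, ⟨0, -1⟩, ⟨0, -1⟩, ⟨0, -1⟩⟩, ⟨⟨2, 0⟩, ⟨0, 0⟩, ⟨0, 0⟩, ⟨0, 0⟩⟩⟩,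
⟨⟨⟨0, 0⟩, ⟨0, 0⟩, ⟨0, 0⟩, ⟨0, 0⟩⟩, ⟨⟨1, -2⟩, ⟨1, 0⟩, ⟨1, 0⟩, ⟨1, 0⟩⟩, ⟨⟨-1, 2⟩, ⟨-1, 0⟩, ⟨-1, 0⟩, ⟨-1, 0⟩⟩⟩,
⟨⟨⟨0, 0⟩, ⟨0, 0⟩, ⟨0, 0⟩, ⟨0, 0⟩⟩, ⟨⟨1, -2⟩, ⟨1, 0⟩, ⟨1, 0⟩, ⟨1, 0⟩⟩, ⟨⟨1, 0⟩, ⟨-1, 2⟩, ⟨-1, 0⟩, ⟨1, 0⟩⟩⟩,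
⟨⟨⟨0, 0⟩, ⟨0, 0⟩, ⟨0, 0⟩, ⟨0, 0⟩⟩, ⟨⟨1, -2⟩, ⟨1, 0⟩, ⟨1, 0⟩, ⟨1, 0⟩⟩, ⟨⟨1, 0⟩, ⟨-1, 0⟩, ⟨1, 0⟩, ⟨-1, 2⟩⟩⟩,
⟨⟨⟨0, 0⟩, ⟨0, 0⟩, ⟨0, 0⟩, ⟨0, 0⟩⟩, ⟨⟨1, -2⟩, ⟨1, 0⟩, ⟨1, 0⟩, ⟨1, 0⟩⟩, ⟨⟨1, 0⟩, ⟨1, 0⟩, ⟨-1, 2⟩, ⟨-1, 0⟩⟩⟩,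
⟨⟨⟨0, 0⟩, ⟨0, 0⟩, ⟨0, 0⟩, ⟨0, 0⟩⟩, ⟨⟨1, -2⟩, ⟨1, 0⟩, ⟨1, 0⟩, ⟨1, 0⟩⟩, ⟨⟨-1, 0⟩, ⟨-1, 0⟩, ⟨1, -2⟩, ⟨1, 0⟩⟩⟩,
⟨⟨⟨0, 0⟩, ⟨0, 0⟩, ⟨0, 0⟩, ⟨0, 0⟩⟩, ⟨⟨1, -2⟩, ⟨1, 0⟩, ⟨1, 0⟩, ⟨1, 0⟩⟩, ⟨⟨-1, 0⟩, ⟨1, 0⟩, ⟨-1, 0⟩, ⟨1, -2⟩⟩⟩,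
⟨⟨⟨0, 0⟩, ⟨0, 0⟩, ⟨0, 0⟩, ⟨0, 0⟩⟩, ⟨⟨1, -2⟩, ⟨1, 0⟩, ⟨1, 0⟩, ⟨1, 0⟩⟩, ⟨⟨-1, 0⟩, ⟨1, -2⟩, ⟨1, 0⟩, ⟨-1, 0⟩⟩⟩,
⟨⟨⟨0, 0⟩, ⟨0, 0⟩, ⟨0, 0⟩, ⟨0, 0⟩⟩, ⟨⟨1, -2⟩, ⟨1, 0⟩, ⟨1, 0⟩, ⟨1, 0⟩⟩, ⟨⟨1, -2⟩, ⟨1, 0⟩, ⟨1, 0⟩, ⟨1, 0⟩⟩⟩,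
⟨⟨⟨1, -2⟩, ⟨1, 0⟩, ⟨1, 0⟩, ⟨1, 0⟩⟩, ⟨⟨0, 0⟩, ⟨0, 0⟩, ⟨0, 0⟩, ⟨0, 0⟩⟩, ⟨⟨-1, 2⟩, ⟨-1, 0⟩, ⟨-1, 0⟩, ⟨-1, 0⟩⟩⟩,
⟨⟨⟨1, -2⟩, ⟨1, 0⟩, ⟨1, 0⟩, ⟨1, 0⟩⟩, ⟨⟨0, 0⟩, ⟨0, 0⟩, ⟨0, 0⟩, ⟨0, 0⟩⟩, ⟨⟨1, 0⟩, ⟨-1, 2⟩, ⟨-1, 0⟩, ⟨1, 0⟩⟩⟩,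
⟨⟨⟨1, -2⟩, ⟨1, 0⟩, ⟨1, 0⟩, ⟨1, 0⟩⟩, ⟨⟨0, 0⟩, ⟨0, 0⟩, ⟨0, 0⟩, ⟨0, 0⟩⟩, ⟨⟨1, 0⟩, ⟨-1, 0⟩, ⟨1, 0⟩, ⟨-1, 2⟩⟩⟩,
⟨⟨⟨1, -2⟩, ⟨1, 0⟩, ⟨1, 0⟩, ⟨1, 0⟩⟩, ⟨⟨0, 0⟩, ⟨0, 0⟩, ⟨0, 0⟩, ⟨0, 0⟩⟩, ⟨⟨1, 0⟩, ⟨1, 0⟩, ⟨-1, 2⟩, ⟨-1, 0⟩⟩⟩,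
⟨⟨⟨1, -2⟩, ⟨1, 0⟩, ⟨1, 0⟩, ⟨1, 0⟩⟩, ⟨⟨0, 0⟩, ⟨0, 0⟩, ⟨0, 0⟩, ⟨0, 0⟩⟩, ⟨⟨-1, 0⟩, ⟨-1, 0⟩, ⟨1, -2⟩, ⟨1, 0⟩⟩⟩,
⟨⟨⟨1, -2⟩, ⟨1, 0⟩, ⟨1, 0⟩, ⟨1, 0⟩⟩, ⟨⟨0, 0⟩, ⟨0, 0⟩, ⟨0, 0⟩, ⟨0, 0⟩⟩, ⟨⟨-1, 0⟩, ⟨1, 0⟩, ⟨-1, 0⟩, ⟨1, -2⟩⟩⟩,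
⟨⟨⟨1, -2⟩, ⟨1, 0⟩, ⟨1, 0⟩, ⟨1, 0⟩⟩, ⟨⟨0, 0⟩, ⟨0, 0⟩, ⟨0, 0⟩, ⟨0, 0⟩⟩, ⟨⟨-1, 0⟩, ⟨1, -2⟩, ⟨1, 0⟩, ⟨-1, 0⟩⟩⟩,
⟨⟨⟨1, -2⟩, ⟨1, 0⟩, ⟨1, 0⟩, ⟨1, 0⟩⟩, ⟨⟨0, 0⟩, ⟨0, 0⟩, ⟨0, 0⟩, ⟨0, 0⟩⟩, ⟨⟨1, -2⟩, ⟨1, 0⟩, ⟨1, 0⟩, ⟨1, 0⟩⟩⟩,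
⟨⟨⟨1, -2⟩, ⟨1, 0⟩, ⟨1, 0⟩, ⟨1, 0⟩⟩, ⟨⟨-1, 2⟩, ⟨-1, 0⟩, ⟨-1, 0⟩, ⟨-1, 0⟩⟩, ⟨⟨0, 0⟩, ⟨0, 0⟩, ⟨0, 0⟩, ⟨0, 0⟩⟩⟩,
⟨⟨⟨1, -2⟩, ⟨1, 0⟩, ⟨1, 0⟩, ⟨1, 0⟩⟩, ⟨⟨1, 0⟩, ⟨-1, 2⟩, ⟨-1, 0⟩, ⟨1, 0⟩⟩, ⟨⟨0, 0⟩, ⟨0, 0⟩, ⟨0, 0⟩, ⟨0, 0⟩⟩⟩,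
⟨⟨⟨1, -2⟩, ⟨1, 0⟩, ⟨1, 0⟩, ⟨1, 0⟩⟩, ⟨⟨1, 0⟩, ⟨-1, 0⟩, ⟨1, 0⟩, ⟨-1, 2⟩⟩, ⟨⟨0, 0⟩, ⟨0, 0⟩, ⟨0, 0⟩, ⟨0, 0⟩⟩⟩,
⟨⟨⟨1, -2⟩, ⟨1, 0⟩, ⟨1, 0⟩, ⟨1, 0⟩⟩, ⟨⟨1, 0⟩, ⟨1, 0⟩, ⟨-1, 2⟩, ⟨-1, 0⟩⟩, ⟨⟨0, 0⟩, ⟨0, 0⟩, ⟨0, 0⟩, ⟨0, 0⟩⟩⟩,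
⟨⟨⟨1, -2⟩, ⟨1, 0⟩, ⟨1, 0⟩, ⟨1, 0⟩⟩, ⟨⟨-1, 0⟩, ⟨-1, 0⟩, ⟨1, -2⟩, ⟨1, 0⟩⟩, ⟨⟨0, 0⟩, ⟨0, 0⟩, ⟨0, 0⟩, ⟨0, 0⟩⟩⟩,
⟨⟨⟨1, -2⟩, ⟨1, 0⟩, ⟨1, 0⟩, ⟨1, 0⟩⟩, ⟨⟨-1, 0⟩, ⟨1, 0⟩, ⟨-1, 0⟩, ⟨1, -2⟩⟩, ⟨⟨0, 0⟩, ⟨0, 0⟩, ⟨0, 0⟩, ⟨0, 0⟩⟩⟩,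
⟨⟨⟨1, -2⟩, ⟨1, 0⟩, ⟨1, 0⟩, ⟨1, 0⟩⟩, ⟨⟨-1, 0⟩, ⟨1, -2⟩, ⟨1, 0⟩, ⟨-1, 0⟩⟩, ⟨⟨0, 0⟩, ⟨0, 0⟩, ⟨0, 0⟩, ⟨0, 0⟩⟩⟩,
⟨⟨⟨1, -2⟩, ⟨1, 0⟩, ⟨1, 0⟩, ⟨1, 0⟩⟩, ⟨⟨1, -2⟩, ⟨1, 0⟩, ⟨1, 0⟩, ⟨1, 0⟩⟩, ⟨⟨0, 0⟩, ⟨0, 0⟩, ⟨0, 0⟩, ⟨0, 0⟩⟩⟩,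
⟨⟨⟨4, 0⟩, ⟨0, 0⟩, ⟨0, 0⟩, ⟨0, 0⟩⟩, ⟨⟨0, 0⟩, ⟨0, 0⟩, ⟨0, 0⟩, ⟨0, 0⟩⟩, ⟨⟨0, 0⟩, ⟨0, 0⟩, ⟨0, 0⟩, ⟨0, 0⟩⟩⟩,
⟨⟨⟨0, 0⟩, ⟨0, 0⟩, ⟨0, 0⟩, ⟨0, 0⟩⟩, ⟨⟨4, 0⟩, ⟨0, 0⟩, ⟨0, 0⟩, ⟨0, 0⟩⟩, ⟨⟨0, 0⟩, ⟨0, 0⟩, ⟨0, 0⟩, ⟨0, 0⟩⟩⟩,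
⟨⟨⟨0, 0⟩, ⟨0, 0⟩, ⟨0, 0⟩, ⟨0, 0⟩⟩, ⟨⟨0, 0⟩, ⟨0, 0⟩, ⟨0, 0⟩, ⟨0, 0⟩⟩, ⟨⟨4, 0⟩, ⟨0, 0⟩, ⟨0, 0⟩, ⟨0, 0⟩⟩⟩]

theorem reps_eq : reps = repsLit := by decide +kernel

theorem length_repsLit : repsLit.length = 315 := by decide +kernel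

end V3

end Cfsg.Agent.Helper22.Ico
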