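import Cfsg.Agent.Helper22.IcoK2
import Cfsg.Agent.Helper22.IcoReps

/-!
# The classification of the minimal vectors of the icosian Leech lattice

Every vector `w` of the lattice with `w · w = 4` is a unit multiple of one of 315 representatives.
-/

set_option autoImplicit false

namespace Cfsg.Agent.Helper22.Ico

open Quaternion Cfsg.Spor

namespace Q

theorem tr_zero : tr zero = 0 := by decide

theorem tr_one : tr one = 8 := by decide

theorem tr_ge {x : Q} (hx : inI x = true) (h0 : x ≠ zero) : 8 ≤ tr x := by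
  by_contra hlt
  have hm := mem_L16 hx (by omega)
  rcases L16_tr x hm with h | h | h | h
  · exact h0 h
  all_goals omega

theorem inI_conj {x : Q} (hx : inI x = true) : inI (conj x) = true := by
  rw [inI_iff] at hx ⊢
  simp only [conj, Z5.neg]
  omega

theorem unit_of_tr {x : Q} (hx : inI x = true) (h8 : tr x = 8) :
    ι x * star (ι x) = 1 ∧ star (ι x) * ι x = 1 := by
  have hn := L16_nrm x (mem_L16 hx (by omega)) h8
  have h1 : normSq (ι x) = 1 := by
    rw [normSq_ι, hn]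
    simp only [Z5.toReal]
    push_cast
    norm_num
  rw [Quaternion.self_mul_star, Quaternion.star_mul_self, h1]
  norm_cast

theorem nrm_eq_of_normSq {x y : Q} (h : normSq (ι x) = normSq (ι y)) : nrm x = nrm y := by
  rw [normSq_ι, normSq_ι] at h
  apply Z5.toReal_inj
  linarith

theorem tr_eq_of_nrm {x y : Q} (h : nrm x = nrm y) : tr x = tr y := by
  rw [tr_eq, tr_eq, h]

theorem mulI_conj_nrm {u x : Q} (hu : inI u = true) (h8 : tr u = 8) (hx : inI x = true) :
    nrm (mulI (conj u) x) = nrm x := by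
  apply nrm_eq_of_normSq
  rw [(mulI_spec (inI_conj hu) hx).2.2, map_mul, ι_conj, Quaternion.normSq_star]
  have h1 : normSq (ι u) = 1 := by
    have := (unit_of_tr hu h8).1
    rw [Quaternion.self_mul_star] at this
    have h' : ((normSq (ι u) : ℝ) : ℍ[ℝ]) = ((1 : ℝ) : ℍ[ℝ]) := by rw [this]; norm_cast
    exact Quaternion.coe_injective h'
  rw [h1, one_mul]

theorem mulI_conj_self {u : Q} (hu : inI u = true) (h8 : tr u = 8) : mulI (conj u) u = one := by
  apply ι_inj
  rw [(mulI_spec (inI_conj hu) hu).2.2, ι_conj, (unit_of_tr hu h8).2, ι_one]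

theorem normSq_icoH : normSq icoH = 2 := by
  have := H_mul_star
  rw [Quaternion.self_mul_star] at this
  have h' : ((normSq icoH : ℝ) : ℍ[ℝ]) = ((2 : ℝ) : ℍ[ℝ]) := by rw [this]; norm_cast
  exact Quaternion.coe_injective h'

theorem tr_mulI_H {a : Q} (ha : inI a = true) : tr (mulI a H) = 2 * tr a := by
  have h : normSq (ι (mulI a H)) = 2 * normSq (ι a) := by
    rw [(mulI_spec ha inI_H).2.2, map_mul, ι_H, normSq_icoH, mul_comm]
  rw [normSq_ι, normSq_ι] at h
  have e : (nrm (mulI a H)) = Z5.add (nrm a) (nrm a) := by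
    apply Z5.toReal_inj
    rw [Z5.toReal_add]
    linarith
  rw [tr_eq, tr_eq, e]
  simp only [Z5.add]
  ring

theorem mulI_zero_left (x : Q) : mulI zero x = zero := by
  simp [mulI, mul, zero, halve, Z5.mul, Z5.add, Z5.sub, Z5.halve]

theorem mulI_zero_right (x : Q) : mulI x zero = zero := by
  simp [mulI, mul, zero, halve, Z5.mul, Z5.add, Z5.sub, Z5.halve]

theorem add_zero_right (x : Q) : add x zero = x := by
  simp [add, zero, Z5.add]

theorem mulI_assoc_H {u a : Q} (hu : inI u = true) (ha : inI a = true) :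
    mulI u (mulI a H) = mulI (mulI u a) H := by
  have h1 := mulI_spec ha inI_H
  have h2 := mulI_spec hu ha
  apply ι_inj
  rw [(mulI_spec hu h1.2.1).2.2, h1.2.2, (mulI_spec h2.2.1 inI_H).2.2, h2.2.2, mul_assoc]

end Q

namespace V3

open Q

/-- left multiplication of a vector by an icosian -/
def smulV (a : Q) (v : V3) : V3 := ⟨mulI a v.x, mulI a v.y, mulI a v.z⟩

theorem inΛ_inI {v : V3} (hv : inΛ v = true) : inI v.x = true ∧ inI v.y = true ∧ inI v.z = true := by
  unfold inΛ at hv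
  simp only [Bool.and_eq_true] at hv
  exact ⟨hv.1.1.1.1.1, hv.1.1.1.1.2, hv.1.1.1.2⟩

theorem ι_smulV {a : Q} (ha : inI a = true) {v : V3} (hv : inΛ v = true) : (smulV a v).ι = Q.ι a • v.ι := by
  obtain ⟨hx, hy, hz⟩ := inΛ_inI hv
  funext t
  fin_cases t
  · exact (mulI_spec ha hx).2.2
  · exact (mulI_spec ha hy).2.2
  · exact (mulI_spec ha hz).2.2

theorem inΛ_smulV {a : Q} (ha : inI a = true) {v : V3} (hv : inΛ v = true) : inΛ (smulV a v) = true := by
  rw [← mem_icoLeech_iff, ι_smulV ha hv]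
  exact icoLeech_smul (ι_mem ha) ((mem_icoLeech_iff v).mpr hv)

theorem ι_eq_smul {u : Q} (hu : inI u = true) (h8 : tr u = 8) {v : V3} (hv : inΛ v = true) :
    v.ι = Q.ι u • (smulV (conj u) v).ι := by
  rw [ι_smulV (inI_conj hu) hv, smul_smul, ι_conj, (unit_of_tr hu h8).1, one_smul]

/-! ### Membership in the lists of representatives -/

theorem inI_of_mem_L16 {x : Q} (h : x ∈ L16) : inI x = true := by
  unfold L16 at h
  rw [List.mem_filterMap] at h
  obtain ⟨l, _, hl⟩ := h
  split at hl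
  · split_ifs at hl with hI
    simp only [Option.some.injEq] at hl
    rw [← hl]
    exact hI
  · simp at hl

theorem mem_A0 {y z : Q} (hy : y ∈ c1list) (hz : z ∈ c1list) (ht : tr y + tr z = 24)
    (hΛ : inΛ ⟨one, y, z⟩ = true) : (⟨one, y, z⟩ : V3) ∈ reps := by
  have : (⟨one, y, z⟩ : V3) ∈ repsA0 := by
    unfold repsA0
    rw [List.mem_flatMap]
    refine ⟨y, hy, ?_⟩
    rw [List.mem_filterMap]
    refine ⟨z, hz, ?_⟩
    rw [if_pos]
    rw [Bool.and_eq_true, beq_iff_eq]
    exact ⟨ht, hΛ⟩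
  unfold reps
  simp only [List.mem_append]
  exact Or.inl (Or.inl (Or.inl (Or.inl (Or.inl (Or.inl this)))))

theorem mem_A1 {y z : Q} (hy : y ∈ c1list) (hz : z ∈ c1list) (ht : tr y + tr z = 24) (h8 : tr y ≠ 8)
    (hΛ : inΛ ⟨y, one, z⟩ = true) : (⟨y, one, z⟩ : V3) ∈ reps := by
  have : (⟨y, one, z⟩ : V3) ∈ repsA1 := by
    unfold repsA1
    rw [List.mem_flatMap]
    refine ⟨y, hy, ?_⟩
    rw [List.mem_filterMap]
    refine ⟨z, hz, ?_⟩
    rw [if_pos]
    rw [Bool.and_eq_true, Bool.and_eq_true, beq_iff_eq, bne_iff_ne]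
    exact ⟨⟨ht, h8⟩, hΛ⟩
  unfold reps
  simp only [List.mem_append]
  exact Or.inl (Or.inl (Or.inl (Or.inl (Or.inl (Or.inr this)))))

theorem mem_A2 {y z : Q} (hy : y ∈ c1list) (hz : z ∈ c1list) (ht : tr y + tr z = 24) (h8 : tr y ≠ 8)
    (h8' : tr z ≠ 8) (hΛ : inΛ ⟨y, z, one⟩ = true) : (⟨y, z, one⟩ : V3) ∈ reps := by
  have : (⟨y, z, one⟩ : V3) ∈ repsA2 := by
    unfold repsA2
    rw [List.mem_flatMap]
    refine ⟨y, hy, ?_⟩
    rw [List.mem_filterMap]
    refine ⟨z, hz, ?_⟩
    rw [if_pos]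
    rw [Bool.and_eq_true, Bool.and_eq_true, Bool.and_eq_true, beq_iff_eq, bne_iff_ne, bne_iff_ne]
    exact ⟨⟨⟨ht, h8⟩, h8'⟩, hΛ⟩
  unfold reps
  simp only [List.mem_append]
  exact Or.inl (Or.inl (Or.inl (Or.inl (Or.inr this))))

theorem mem_B0 {b : Q} (hb : b ∈ Ulist) (hΛ : inΛ ⟨zero, H, mulI b H⟩ = true) :
    (⟨zero, H, mulI b H⟩ : V3) ∈ reps := by
  have : (⟨zero, H, mulI b H⟩ : V3) ∈ repsB0 := by
    unfold repsB0
    rw [List.mem_filterMap]
    exact ⟨b, hb, by rw [if_pos hΛ]⟩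
  unfold reps
  simp only [List.mem_append]
  exact Or.inl (Or.inl (Or.inl (Or.inr this)))

theorem mem_B1 {b : Q} (hb : b ∈ Ulist) (hΛ : inΛ ⟨H, zero, mulI b H⟩ = true) :
    (⟨H, zero, mulI b H⟩ : V3) ∈ reps := by
  have : (⟨H, zero, mulI b H⟩ : V3) ∈ repsB1 := by
    unfold repsB1
    rw [List.mem_filterMap]
    exact ⟨b, hb, by rw [if_pos hΛ]⟩
  unfold reps
  simp only [List.mem_append]
  exact Or.inl (Or.inl (Or.inr this))

theorem mem_B2 {b : Q} (hb : b ∈ Ulist) (hΛ : inΛ ⟨H, mulI b H, zero⟩ = true) :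
    (⟨H, mulI b H, zero⟩ : V3) ∈ reps := by
  have : (⟨H, mulI b H, zero⟩ : V3) ∈ repsB2 := by
    unfold repsB2
    rw [List.mem_filterMap]
    exact ⟨b, hb, by rw [if_pos hΛ]⟩
  unfold reps
  simp only [List.mem_append]
  exact Or.inl (Or.inr this)

theorem mem_C0 : (⟨two, zero, zero⟩ : V3) ∈ reps := by
  have : (⟨two, zero, zero⟩ : V3) ∈ repsC := by
    unfold repsC
    simp only [List.mem_cons, true_or, or_true]
  unfold reps
  rw [List.mem_append]
  exact Or.inr this

theorem mem_C1 : (⟨zero, two, zero⟩ : V3) ∈ reps := by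
  have : (⟨zero, two, zero⟩ : V3) ∈ repsC := by
    unfold repsC
    simp only [List.mem_cons, true_or, or_true]
  unfold reps
  rw [List.mem_append]
  exact Or.inr this

theorem mem_C2 : (⟨zero, zero, two⟩ : V3) ∈ reps := by
  have : (⟨zero, zero, two⟩ : V3) ∈ repsC := by
    unfold repsC
    simp only [List.mem_cons, true_or, or_true]
  unfold reps
  rw [List.mem_append]
  exact Or.inr this

/-- the coordinates -/
def coord (v : V3) : Fin 3 → Q := ![v.x, v.y, v.z]

theorem ι_coord (v : V3) (t : Fin 3) : v.ι t = Q.ι (coord v t) := by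
  fin_cases t <;> rfl

/-- a coordinate of small norm of a vector of the lattice with a coordinate one lies in the list -/
theorem mem_c1list_of {v : V3} (hv : inΛ v = true) {s t : Fin 3} (hs : coord v s = one) (hI : inI (coord v t) = true)
    (h16 : tr (coord v t) ≤ 16) (h8 : 8 ≤ tr (coord v t)) : coord v t ∈ c1list := by
  rw [mem_c1list]
  refine ⟨mem_L16 hI h16, ?_, ?_⟩
  · intro h0
    rw [h0, tr_zero] at h8
    omega
  · have := icoLeech_diff ((mem_icoLeech_iff v).mpr hv) t s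
    rw [ι_coord, ι_coord, hs, ← ι_sub] at this
    exact inIh_iff.mp this

theorem tr_sum {v : V3} (hn : nrm v = ⟨16, 0⟩) : tr v.x + tr v.y + tr v.z = 32 := by
  rw [tr_eq, tr_eq, tr_eq]
  unfold nrm at hn
  simp only [Z5.add, Z5.mk.injEq] at hn
  omega

end V3

end Cfsg.Agent.Helper22.Ico
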