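import Cfsg.Agent.Helper22.IcoClass

/-!
# Every minimal vector of the icosian Leech lattice is a unit multiple of a representative
-/

set_option autoImplicit false

namespace Cfsg.Agent.Helper22.Ico

open Quaternion Cfsg.Spor

namespace V3

open Q

theorem ι_qtwo : Q.ι two = 2 := by
  have e : two = add one one := by decide
  rw [e, Q.ι_add, Q.ι_one, one_add_one_eq_two]

theorem mulI_one_left {x : Q} (hx : inI x = true) : mulI one x = x := by
  apply Q.ι_inj
  rw [(mulI_spec inI_one hx).2.2, Q.ι_one, one_mul]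

/-- the case of three nonzero coordinates -/
theorem exists_rep_A {v : V3} (hv : inΛ v = true) (hn : nrm v = ⟨16, 0⟩) (hx0 : v.x ≠ zero) (hy0 : v.y ≠ zero)
    (hz0 : v.z ≠ zero) : ∃ u : Q, ∃ r ∈ reps, inI u = true ∧ tr u = 8 ∧ v.ι = Q.ι u • r.ι := by
  obtain ⟨hx, hy, hz⟩ := inΛ_inI hv
  have hs := tr_sum hn
  have gx := tr_ge hx hx0
  have gy := tr_ge hy hy0
  have gz := tr_ge hz hz0
  have vx := L16_tr _ (mem_L16 hx (by omega))
  have vy := L16_tr _ (mem_L16 hy (by omega))
  have vz := L16_tr _ (mem_L16 hz (by omega))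
  -- a general step: normalising by a unit coordinate
  have key : ∀ u : Q, inI u = true → tr u = 8 →
      inΛ (smulV (conj u) v) = true ∧ v.ι = Q.ι u • (smulV (conj u) v).ι ∧
        tr (smulV (conj u) v).x = tr v.x ∧ tr (smulV (conj u) v).y = tr v.y ∧ tr (smulV (conj u) v).z = tr v.z := by
    intro u hu h8
    exact ⟨inΛ_smulV (inI_conj hu) hv, ι_eq_smul hu h8 hv, tr_eq_of_nrm (mulI_conj_nrm hu h8 hx),
      tr_eq_of_nrm (mulI_conj_nrm hu h8 hy), tr_eq_of_nrm (mulI_conj_nrm hu h8 hz)⟩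
  by_cases h8x : tr v.x = 8
  · obtain ⟨hv', hι, tx, ty, tz⟩ := key v.x hx h8x
    obtain ⟨hx', hy', hz'⟩ := inΛ_inI hv'
    have e0 : (smulV (conj v.x) v).x = one := mulI_conj_self hx h8x
    have ey : (smulV (conj v.x) v).y ∈ c1list :=
      mem_c1list_of hv' (s := 0) (t := 1) e0 hy' (by show tr (smulV (conj v.x) v).y ≤ 16; omega)
        (by show 8 ≤ tr (smulV (conj v.x) v).y; omega)
    have ez : (smulV (conj v.x) v).z ∈ c1list :=
      mem_c1list_of hv' (s := 0) (t := 2) e0 hz' (by show tr (smulV (conj v.x) v).z ≤ 16; omega)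
        (by show 8 ≤ tr (smulV (conj v.x) v).z; omega)
    have hform : smulV (conj v.x) v = ⟨one, (smulV (conj v.x) v).y, (smulV (conj v.x) v).z⟩ := by
      rw [← e0]
    refine ⟨v.x, smulV (conj v.x) v, ?_, hx, h8x, hι⟩
    rw [hform]
    refine mem_A0 ey ez (by omega) ?_
    rw [← hform]
    exact hv'
  by_cases h8y : tr v.y = 8
  · obtain ⟨hv', hι, tx, ty, tz⟩ := key v.y hy h8y
    obtain ⟨hx', hy', hz'⟩ := inΛ_inI hv'
    have e0 : (smulV (conj v.y) v).y = one := mulI_conj_self hy h8y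
    have ex : (smulV (conj v.y) v).x ∈ c1list :=
      mem_c1list_of hv' (s := 1) (t := 0) e0 hx' (by show tr (smulV (conj v.y) v).x ≤ 16; omega)
        (by show 8 ≤ tr (smulV (conj v.y) v).x; omega)
    have ez : (smulV (conj v.y) v).z ∈ c1list :=
      mem_c1list_of hv' (s := 1) (t := 2) e0 hz' (by show tr (smulV (conj v.y) v).z ≤ 16; omega)
        (by show 8 ≤ tr (smulV (conj v.y) v).z; omega)
    have hform : smulV (conj v.y) v = ⟨(smulV (conj v.y) v).x, one, (smulV (conj v.y) v).z⟩ := by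
      rw [← e0]
    refine ⟨v.y, smulV (conj v.y) v, ?_, hy, h8y, hι⟩
    rw [hform]
    refine mem_A1 ex ez (by omega) (by omega) ?_
    rw [← hform]
    exact hv'
  have h8z : tr v.z = 8 := by
    rcases vx with h | h | h | h <;> rcases vy with h' | h' | h' | h' <;> rcases vz with h'' | h'' | h'' | h'' <;>
      first | omega | (exfalso; first | exact hx0 h | exact hy0 h' | exact hz0 h'')
  obtain ⟨hv', hι, tx, ty, tz⟩ := key v.z hz h8z
  obtain ⟨hx', hy', hz'⟩ := inΛ_inI hv'
  have e0 : (smulV (conj v.z) v).z = one := mulI_conj_self hz h8z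
  have ex : (smulV (conj v.z) v).x ∈ c1list :=
    mem_c1list_of hv' (s := 2) (t := 0) e0 hx' (by show tr (smulV (conj v.z) v).x ≤ 16; omega)
      (by show 8 ≤ tr (smulV (conj v.z) v).x; omega)
  have ey : (smulV (conj v.z) v).y ∈ c1list :=
    mem_c1list_of hv' (s := 2) (t := 1) e0 hy' (by show tr (smulV (conj v.z) v).y ≤ 16; omega)
      (by show 8 ≤ tr (smulV (conj v.z) v).y; omega)
  have hform : smulV (conj v.z) v = ⟨(smulV (conj v.z) v).x, (smulV (conj v.z) v).y, one⟩ := by
    rw [← e0]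
  refine ⟨v.z, smulV (conj v.z) v, ?_, hz, h8z, hι⟩
  rw [hform]
  refine mem_A2 ex ey (by omega) (by omega) (by omega) ?_
  rw [← hform]
  exact hv'

theorem add_zero_left (x : Q) : add zero x = x := by
  simp [add, zero, Z5.add]

theorem unit_mul_mem {a b : Q} (ha : inI a = true) (ha8 : tr a = 8) (hb : inI b = true) (hb8 : tr b = 8) :
    mulI (conj a) b ∈ Ulist := by
  rw [mem_Ulist]
  have ht : tr (mulI (conj a) b) = 8 := by rw [tr_eq_of_nrm (mulI_conj_nrm ha ha8 hb), hb8]
  exact ⟨mem_L16 (mulI_spec (inI_conj ha) hb).2.1 (by omega), ht⟩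

theorem exists_of_leftIdeal {x : Q} (h : Q.ι x ∈ leftIdeal icoH) : ∃ a : Q, inI a = true ∧ x = mulI a H := by
  obtain ⟨a, ha, e⟩ := h
  obtain ⟨A, hA, rfl⟩ := (mem_icosians_iff _).mp ha
  refine ⟨A, hA, ?_⟩
  apply Q.ι_inj
  rw [(mulI_spec hA inI_H).2.2, ι_H, e]

theorem zero_or_ge {a : Q} (ha : inI a = true) : a = zero ∨ 8 ≤ tr a := by
  by_cases h : a = zero
  · exact Or.inl h
  · exact Or.inr (tr_ge ha h)

/-- the case of two nonzero coordinates, after the normalisation -/
theorem caseB_aux {a b : Q} (ha : inI a = true) (ha8 : tr a = 8) (hb : inI b = true) :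
    mulI (conj a) (mulI a H) = H ∧ mulI (conj a) (mulI b H) = mulI (mulI (conj a) b) H ∧
      mulI (conj a) zero = zero := by
  refine ⟨?_, mulI_assoc_H (inI_conj ha) hb, mulI_zero_right _⟩
  rw [mulI_assoc_H (inI_conj ha) ha, mulI_conj_self ha ha8, mulI_one_left inI_H]

/-- the case of one nonzero coordinate -/
theorem caseC_aux {a : Q} (ha : inI a = true) (h16 : tr a = 16) (hb : inIhb (mulI a H) = true) :
    ∃ u : Q, inI u = true ∧ tr u = 8 ∧ Q.ι (mulI a H) = Q.ι u * Q.ι two ∧ Q.ι zero = Q.ι u * Q.ι zero := by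
  obtain ⟨u, hu, e⟩ := L16_two a (mem_L16 ha (by omega)) h16 hb
  rw [mem_Ulist] at hu
  refine ⟨u, inI_of_mem_L16 hu.1, hu.2, ?_, ?_⟩
  · rw [e, Q.ι_add, ι_qtwo, mul_two]
  · rw [Q.ι_zero, mul_zero]

/-- the case of a zero coordinate -/
theorem exists_rep_B {v : V3} (hv : inΛ v = true) (hn : nrm v = ⟨16, 0⟩)
    (h0 : v.x = zero ∨ v.y = zero ∨ v.z = zero) :
    ∃ u : Q, ∃ r ∈ reps, inI u = true ∧ tr u = 8 ∧ v.ι = Q.ι u • r.ι := by
  have hs := tr_sum hn
  have hmem := (mem_icoLeech_iff v).mpr hv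
  have hall : ∀ t, v.ι t ∈ leftIdeal icoH := by
    intro t
    rcases h0 with h | h | h
    · have := icoLeech_diff hmem t 0
      rwa [V3.ι_zero, h, Q.ι_zero, sub_zero] at this
    · have := icoLeech_diff hmem t 1
      rwa [V3.ι_one, h, Q.ι_zero, sub_zero] at this
    · have := icoLeech_diff hmem t 2
      rwa [V3.ι_two, h, Q.ι_zero, sub_zero] at this
  obtain ⟨a, ha, hxa⟩ := exists_of_leftIdeal (hall 0)
  obtain ⟨b, hb, hyb⟩ := exists_of_leftIdeal (hall 1)
  obtain ⟨c, hc, hzc⟩ := exists_of_leftIdeal (hall 2)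
  obtain ⟨x, y, z⟩ := v
  simp only at hxa hyb hzc
  subst hxa hyb hzc
  simp only [tr_mulI_H ha, tr_mulI_H hb, tr_mulI_H hc] at hs
  have hsum : inIhb (add (add (mulI a H) (mulI b H)) (mulI c H)) = true := by
    unfold inΛ at hv
    simp only [Bool.and_eq_true] at hv
    exact hv.2
  have ta := tr_nonneg a
  have tb := tr_nonneg b
  have tc := tr_nonneg c
  rcases zero_or_ge ha with a0 | a8 <;> rcases zero_or_ge hb with b0 | b8 <;> rcases zero_or_ge hc with c0 | c8
  · subst a0 b0 c0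
    simp only [tr_zero] at hs
    omega
  · -- only the third coordinate
    subst a0 b0
    simp only [tr_zero] at hs
    rw [mulI_zero_left, add_zero_left, add_zero_left] at hsum
    obtain ⟨u, hu, hu8, e1, e2⟩ := caseC_aux hc (by omega) hsum
    refine ⟨u, ⟨zero, zero, two⟩, mem_C2, hu, hu8, ?_⟩
    funext t
    fin_cases t
    · rw [mulI_zero_left]; exact e2
    · rw [mulI_zero_left]; exact e2
    · exact e1
  · -- only the second coordinate
    subst a0 c0
    simp only [tr_zero] at hs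
    rw [mulI_zero_left, add_zero_left, add_zero_right] at hsum
    obtain ⟨u, hu, hu8, e1, e2⟩ := caseC_aux hb (by omega) hsum
    refine ⟨u, ⟨zero, two, zero⟩, mem_C1, hu, hu8, ?_⟩
    funext t
    fin_cases t
    · rw [mulI_zero_left]; exact e2
    · exact e1
    · rw [mulI_zero_left]; exact e2
  · -- the second and the third coordinates
    subst a0
    simp only [tr_zero] at hs
    have hb8 : tr b = 8 := by omega
    have hc8 : tr c = 8 := by omega
    obtain ⟨e1, e2, e3⟩ := caseB_aux hb hb8 hc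
    have hv' := inΛ_smulV (inI_conj hb) hv
    have hι := ι_eq_smul hb hb8 hv
    have hform : smulV (conj b) ⟨mulI zero H, mulI b H, mulI c H⟩ = ⟨zero, H, mulI (mulI (conj b) c) H⟩ := by
      simp only [smulV, mulI_zero_left, e1, e2, e3]
    rw [hform] at hv' hι
    exact ⟨b, _, mem_B0 (unit_mul_mem hb hb8 hc hc8) hv', hb, hb8, hι⟩
  · -- only the first coordinate
    subst b0 c0
    simp only [tr_zero] at hs
    rw [mulI_zero_left, add_zero_right, add_zero_right] at hsum
    obtain ⟨u, hu, hu8, e1, e2⟩ := caseC_aux ha (by omega) hsum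
    refine ⟨u, ⟨two, zero, zero⟩, mem_C0, hu, hu8, ?_⟩
    funext t
    fin_cases t
    · exact e1
    · rw [mulI_zero_left]; exact e2
    · rw [mulI_zero_left]; exact e2
  · -- the first and the third coordinates
    subst b0
    simp only [tr_zero] at hs
    have ha8 : tr a = 8 := by omega
    have hc8 : tr c = 8 := by omega
    obtain ⟨e1, e2, e3⟩ := caseB_aux ha ha8 hc
    have hv' := inΛ_smulV (inI_conj ha) hv
    have hι := ι_eq_smul ha ha8 hv
    have hform : smulV (conj a) ⟨mulI a H, mulI zero H, mulI c H⟩ = ⟨H, zero, mulI (mulI (conj a) c) H⟩ := by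
      simp only [smulV, mulI_zero_left, e1, e2, e3]
    rw [hform] at hv' hι
    exact ⟨a, _, mem_B1 (unit_mul_mem ha ha8 hc hc8) hv', ha, ha8, hι⟩
  · -- the first and the second coordinates
    subst c0
    simp only [tr_zero] at hs
    have ha8 : tr a = 8 := by omega
    have hb8 : tr b = 8 := by omega
    obtain ⟨e1, e2, e3⟩ := caseB_aux ha ha8 hb
    have hv' := inΛ_smulV (inI_conj ha) hv
    have hι := ι_eq_smul ha ha8 hv
    have hform : smulV (conj a) ⟨mulI a H, mulI b H, mulI zero H⟩ = ⟨H, mulI (mulI (conj a) b) H, zero⟩ := by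
      simp only [smulV, mulI_zero_left, e1, e2, e3]
    rw [hform] at hv' hι
    exact ⟨a, _, mem_B2 (unit_mul_mem ha ha8 hb hb8) hv', ha, ha8, hι⟩
  · -- three nonzero coordinates: impossible
    omega

/-- every minimal vector is a unit multiple of a representative -/
theorem exists_rep {w : Vec} (hw : w ∈ icoLeech) (h4 : qip w w = 4) :
    ∃ u : Q, ∃ r ∈ reps, inI u = true ∧ tr u = 8 ∧ w = Q.ι u • r.ι := by
  obtain ⟨v, hv, rfl⟩ := exists_of_mem_icoLeech hw
  have hn := nrm_eq_of_qip h4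
  by_cases h0 : v.x = zero ∨ v.y = zero ∨ v.z = zero
  · exact exists_rep_B hv hn h0
  · simp only [not_or] at h0
    exact exists_rep_A hv hn h0.1 h0.2.1 h0.2.2

end V3

end Cfsg.Agent.Helper22.Ico
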