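import Cfsg.Agent.Helper22.IcoCount

/-!
# The group generated by the reflections acts on the reflections by conjugation
-/

set_option autoImplicit false

namespace Cfsg.Agent.Helper22.Ico

open Quaternion Cfsg.Spor

theorem perm_apply_inv {α : Type*} (g : Equiv.Perm α) (x : α) : g (g⁻¹ x) = x := g.apply_symm_apply x

theorem perm_inv_apply {α : Type*} (g : Equiv.Perm α) (x : α) : g⁻¹ (g x) = x := g.symm_apply_apply x

theorem qrefl_add (r x y : Vec) : qrefl r (x + y) = qrefl r x + qrefl r y := by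
  rw [qrefl_eq, qrefl_eq, qrefl_eq, qip_add_left, smul_add, add_smul]
  abel

theorem qrefl_smul_left (r : Vec) (a : ℍ[ℝ]) (x : Vec) : qrefl r (a • x) = a • qrefl r x := by
  rw [qrefl_eq, qrefl_eq, qip_smul_left, smul_sub, smul_smul, mul_smul_comm]

/-- additive, linear over the icosians, and isometric -/
structure IsLin (g : Equiv.Perm icoLeech) : Prop where
  map_add : ∀ x y : icoLeech, ((g ⟨x.1 + y.1, icoLeech_add x.2 y.2⟩ : icoLeech) : Vec) = (g x).1 + (g y).1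
  map_smul : ∀ (a : ℍ[ℝ]) (ha : a ∈ icosians) (x : icoLeech),
    ((g ⟨a • x.1, icoLeech_smul ha x.2⟩ : icoLeech) : Vec) = a • (g x).1
  map_ip : ∀ x y : icoLeech, qip (g x).1 (g y).1 = qip x.1 y.1

theorem isLin_one : IsLin 1 := ⟨fun _ _ => rfl, fun _ _ _ => rfl, fun _ _ => rfl⟩

theorem IsLin.mul {g h : Equiv.Perm icoLeech} (hg : IsLin g) (hh : IsLin h) : IsLin (g * h) := by
  refine ⟨fun x y => ?_, fun a ha x => ?_, fun x y => ?_⟩
  · have e : h ⟨x.1 + y.1, icoLeech_add x.2 y.2⟩ = ⟨(h x).1 + (h y).1, icoLeech_add (h x).2 (h y).2⟩ :=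
      Subtype.ext (hh.map_add x y)
    show (g (h ⟨x.1 + y.1, _⟩)).1 = (g (h x)).1 + (g (h y)).1
    rw [e, hg.map_add]
  · have e : h ⟨a • x.1, icoLeech_smul ha x.2⟩ = ⟨a • (h x).1, icoLeech_smul ha (h x).2⟩ :=
      Subtype.ext (hh.map_smul a ha x)
    show (g (h ⟨a • x.1, _⟩)).1 = a • (g (h x)).1
    rw [e, hg.map_smul a ha]
  · show qip (g (h x)).1 (g (h y)).1 = qip x.1 y.1
    rw [hg.map_ip, hh.map_ip]

theorem IsLin.inv {g : Equiv.Perm icoLeech} (hg : IsLin g) : IsLin g⁻¹ := by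
  refine ⟨fun x y => ?_, fun a ha x => ?_, fun x y => ?_⟩
  · have e : g ⟨(g⁻¹ x).1 + (g⁻¹ y).1, icoLeech_add (g⁻¹ x).2 (g⁻¹ y).2⟩ = ⟨x.1 + y.1, icoLeech_add x.2 y.2⟩ := by
      apply Subtype.ext
      rw [hg.map_add, perm_apply_inv, perm_apply_inv]
    rw [← e, perm_inv_apply]
  · have e : g ⟨a • (g⁻¹ x).1, icoLeech_smul ha (g⁻¹ x).2⟩ = ⟨a • x.1, icoLeech_smul ha x.2⟩ := by
      apply Subtype.ext
      rw [hg.map_smul a ha, perm_apply_inv]
    rw [← e, perm_inv_apply]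
  · have := hg.map_ip (g⁻¹ x) (g⁻¹ y)
    rw [perm_apply_inv, perm_apply_inv] at this
    exact this.symm

theorem isLin_reflOf {r : Vec} (hr : IsMin r) : IsLin (reflOf r) := by
  refine ⟨fun x y => ?_, fun a ha x => ?_, fun x y => ?_⟩
  · rw [reflOf_apply hr, reflOf_apply hr, reflOf_apply hr, qrefl_add]
  · rw [reflOf_apply hr, reflOf_apply hr, qrefl_smul_left]
  · rw [reflOf_apply hr, reflOf_apply hr, qip_qrefl_qrefl hr.2]

theorem reflOf_mem {r : Vec} (hr : IsMin r) : reflOf r ∈ twoJ2 :=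
  Subgroup.subset_closure ((isIcoReflection_iff _).mpr ⟨r, hr, rfl⟩)

theorem isLin_of_mem {g : Equiv.Perm icoLeech} (hg : g ∈ twoJ2) : IsLin g := by
  unfold twoJ2 at hg
  induction hg using Subgroup.closure_induction with
  | mem f hf =>
    obtain ⟨r, hr, rfl⟩ := (isIcoReflection_iff f).mp hf
    exact isLin_reflOf hr
  | one => exact isLin_one
  | mul x y _ _ hx hy => exact hx.mul hy
  | inv x _ hx => exact hx.inv

theorem IsLin.map_sub_smul {g : Equiv.Perm icoLeech} (hg : IsLin g) (y r : icoLeech) {c : ℍ[ℝ]}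
    (hc : c ∈ icosians) (h : y.1 - c • r.1 ∈ icoLeech) :
    ((g ⟨y.1 - c • r.1, h⟩ : icoLeech) : Vec) = (g y).1 - c • (g r).1 := by
  have e : y = ⟨(⟨y.1 - c • r.1, h⟩ : icoLeech).1 + (⟨c • r.1, icoLeech_smul hc r.2⟩ : icoLeech).1,
      icoLeech_add h (icoLeech_smul hc r.2)⟩ := by
    apply Subtype.ext
    show y.1 = y.1 - c • r.1 + c • r.1
    rw [sub_add_cancel]
  have h1 := hg.map_add ⟨y.1 - c • r.1, h⟩ ⟨c • r.1, icoLeech_smul hc r.2⟩
  rw [← e, hg.map_smul c hc r] at h1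
  rw [h1, add_sub_cancel_right]

theorem IsLin.isMin {g : Equiv.Perm icoLeech} (hg : IsLin g) (r : icoLeech) (hr : IsMin r.1) : IsMin (g r).1 :=
  ⟨(g r).2, by rw [hg.map_ip]; exact hr.2⟩

/-- the conjugate of a reflection is the reflection in the image of the vector -/
theorem IsLin.conj_reflOf {g : Equiv.Perm icoLeech} (hg : IsLin g) (r : icoLeech) (hr : IsMin r.1) :
    g * reflOf r.1 * g⁻¹ = reflOf (g r).1 := by
  ext x : 1
  apply Subtype.ext
  rw [reflOf_apply (hg.isMin r hr)]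
  show (g (reflOf r.1 (g⁻¹ x))).1 = qrefl (g r).1 x.1
  obtain ⟨c, hc, e⟩ := qip_even (g⁻¹ x).2 r.2
  have hc' : (1 / 2 : ℝ) • qip (g⁻¹ x).1 r.1 = c := by rw [e, half_smul_add]
  have hmem : (g⁻¹ x).1 - c • r.1 ∈ icoLeech := icoLeech_sub (g⁻¹ x).2 (icoLeech_smul hc r.2)
  have e2 : reflOf r.1 (g⁻¹ x) = ⟨(g⁻¹ x).1 - c • r.1, hmem⟩ := by
    apply Subtype.ext
    rw [reflOf_apply hr, qrefl_eq, hc']
  rw [e2, hg.map_sub_smul _ r hc hmem, perm_apply_inv, qrefl_eq]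
  have e3 : qip x.1 (g r).1 = qip (g⁻¹ x).1 r.1 := by
    have := hg.map_ip (g⁻¹ x) r
    rw [perm_apply_inv] at this
    exact this
  rw [e3, hc']

end Cfsg.Agent.Helper22.Ico
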