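import Cfsg.Agent.Helper22.IcoReps

/-!
# Kernel facts about the representatives of the minimal vectors
-/

set_option autoImplicit false

namespace Cfsg.Agent.Helper22.Ico

namespace V3

open Q

/-- the model of the matrix of a line -/
def Mraw (v : V3) : List Q :=
  [mul (conj v.x) v.x, mul (conj v.x) v.y, mul (conj v.x) v.z,
   mul (conj v.y) v.x, mul (conj v.y) v.y, mul (conj v.y) v.z,
   mul (conj v.z) v.x, mul (conj v.z) v.y, mul (conj v.z) v.z]

theorem nodup_Mraw_K : (repsLit.map Mraw).Nodup := by decide +kernel

theorem repsLit_min_K : (repsLit.all fun r => inΛ r && nrm r == ⟨16, 0⟩) = true := by decide +kernel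

end V3

namespace Q

theorem length_Ulist : Ulist.length = 120 := by decide +kernel

theorem nodup_Ulist : Ulist.Nodup := by decide +kernel

end Q

end Cfsg.Agent.Helper22.Ico
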