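import Cfsg.Agent.Helper22.IcoMin

/-!
# The reflections of the icosian Leech lattice
-/

set_option autoImplicit false

namespace Cfsg.Agent.Helper22.Ico

open Quaternion Cfsg.Spor

theorem star_mem_icosians {a : ℍ[ℝ]} (ha : a ∈ icosians) : star a ∈ icosians := by
  obtain ⟨A, hA, rfl⟩ := (Q.mem_icosians_iff _).mp ha
  rw [← Q.ι_conj]
  refine Q.ι_mem ?_
  rw [Q.inI_iff] at hA ⊢
  simp only [Q.conj, Z5.neg]
  omega

theorem qip_add_left (x y r : Vec) : qip (x + y) r = qip x r + qip y r := by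
  unfold qip
  rw [← Finset.sum_add_distrib]
  apply Finset.sum_congr rfl
  intro t _
  simp only [Pi.add_apply, add_mul]

theorem qip_add_right (x r s : Vec) : qip x (r + s) = qip x r + qip x s := by
  unfold qip
  rw [← Finset.sum_add_distrib]
  apply Finset.sum_congr rfl
  intro t _
  simp only [Pi.add_apply, star_add, mul_add]

theorem qip_neg_left (x r : Vec) : qip (-x) r = -qip x r := by
  unfold qip
  rw [← Finset.sum_neg_distrib]
  apply Finset.sum_congr rfl
  intro t _
  simp only [Pi.neg_apply, neg_mul]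

theorem qip_neg_right (x r : Vec) : qip x (-r) = -qip x r := by
  unfold qip
  rw [← Finset.sum_neg_distrib]
  apply Finset.sum_congr rfl
  intro t _
  simp only [Pi.neg_apply, star_neg, mul_neg]

theorem qip_sub_left (x y r : Vec) : qip (x - y) r = qip x r - qip y r := by
  rw [sub_eq_add_neg, qip_add_left, qip_neg_left, sub_eq_add_neg]

theorem qip_sub_right (x r s : Vec) : qip x (r - s) = qip x r - qip x s := by
  rw [sub_eq_add_neg, qip_add_right, qip_neg_right, sub_eq_add_neg]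

theorem star_qip (x r : Vec) : star (qip x r) = qip r x := by
  unfold qip
  rw [star_sum]
  apply Finset.sum_congr rfl
  intro t _
  rw [star_mul, star_star]

theorem qip_mem_icosians {x r : Vec} (hx : x ∈ icoLeech) (hr : r ∈ icoLeech) : qip x r ∈ icosians := by
  unfold qip
  apply Subring.sum_mem
  intro t _
  exact Subring.mul_mem _ (hx.1 t) (star_mem_icosians (hr.1 t))

theorem mul_star_leftIdeal {q : ℍ[ℝ]} (hq : q * star q = 2) {x y : ℍ[ℝ]} (hx : x ∈ leftIdeal q)
    (hy : y ∈ leftIdeal q) : ∃ c ∈ icosians, x * star y = c + c := by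
  obtain ⟨a, ha, rfl⟩ := hx
  obtain ⟨b, hb, rfl⟩ := hy
  refine ⟨a * star b, Subring.mul_mem _ ha (star_mem_icosians hb), ?_⟩
  rw [star_mul, ← mul_assoc, mul_assoc a, hq, mul_assoc, two_mul, mul_add]

/-- the inner product of two vectors of the lattice is twice an icosian -/
theorem qip_even {x r : Vec} (hx : x ∈ icoLeech) (hr : r ∈ icoLeech) : ∃ c ∈ icosians, qip x r = c + c := by
  have hid : qip x r + qip x r + qip x r = (x 0 + x 1 + x 2) * star (r 0 + r 1 + r 2) +
      (x 0 - x 1) * star (r 0 - r 1) + (x 1 - x 2) * star (r 1 - r 2) + (x 0 - x 2) * star (r 0 - r 2) := by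
    unfold qip
    rw [Fin.sum_univ_three]
    simp only [star_add, star_sub]
    noncomm_ring
  have hb : star icoH * star (star icoH) = 2 := by rw [star_star]; exact Q.star_mul_H
  obtain ⟨c1, hc1, e1⟩ := mul_star_leftIdeal hb hx.2.2.2 hr.2.2.2
  obtain ⟨c2, hc2, e2⟩ := mul_star_leftIdeal Q.H_mul_star (icoLeech_diff hx 0 1) (icoLeech_diff hr 0 1)
  obtain ⟨c3, hc3, e3⟩ := mul_star_leftIdeal Q.H_mul_star (icoLeech_diff hx 1 2) (icoLeech_diff hr 1 2)
  obtain ⟨c4, hc4, e4⟩ := mul_star_leftIdeal Q.H_mul_star (icoLeech_diff hx 0 2) (icoLeech_diff hr 0 2)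
  rw [e1, e2, e3, e4] at hid
  refine ⟨c1 + c2 + c3 + c4 - qip x r, ?_, ?_⟩
  · exact Subring.sub_mem _ (Subring.add_mem _ (Subring.add_mem _ (Subring.add_mem _ hc1 hc2) hc3) hc4)
      (qip_mem_icosians hx hr)
  · have : qip x r = (c1 + c1 + (c2 + c2) + (c3 + c3) + (c4 + c4)) - (qip x r + qip x r) := by
      rw [← hid]
      abel
    calc qip x r = (c1 + c1 + (c2 + c2) + (c3 + c3) + (c4 + c4)) - (qip x r + qip x r) := this
      _ = c1 + c2 + c3 + c4 - qip x r + (c1 + c2 + c3 + c4 - qip x r) := by abel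

theorem qrefl_eq (r x : Vec) : qrefl r x = x - ((1 / 2 : ℝ) • qip x r) • r := by
  funext t
  simp only [qrefl, Pi.sub_apply, Pi.smul_apply, smul_eq_mul]

theorem qrefl_mem {r x : Vec} (hr : r ∈ icoLeech) (hx : x ∈ icoLeech) : qrefl r x ∈ icoLeech := by
  obtain ⟨c, hc, e⟩ := qip_even hx hr
  have hc' : (1 / 2 : ℝ) • qip x r = c := by
    rw [e, ← two_smul ℝ c, smul_smul]
    norm_num
  rw [qrefl_eq, hc']
  exact icoLeech_sub hx (icoLeech_smul hc hr)

theorem qip_qrefl_left (r x y : Vec) :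
    qip (qrefl r x) y = qip x y - ((1 / 2 : ℝ) • qip x r) * qip r y := by
  rw [qrefl_eq, qip_sub_left, qip_smul_left]

theorem half_smul_add (a : ℍ[ℝ]) : (1 / 2 : ℝ) • (a + a) = a := by
  rw [← two_smul ℝ a, smul_smul]
  norm_num

theorem qip_qrefl_right (r x y : Vec) :
    qip y (qrefl r x) = qip y x - qip y r * ((1 / 2 : ℝ) • qip r x) := by
  rw [qrefl_eq, qip_sub_right, qip_smul_right, Quaternion.star_smul, star_qip]

theorem half_mul_four (a : ℍ[ℝ]) : ((1 / 2 : ℝ) • a) * 4 = a + a := by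
  rw [smul_mul_assoc, show (4 : ℍ[ℝ]) = 2 + 2 by norm_num, mul_add, mul_two, smul_add, half_smul_add]

theorem qip_qrefl_self {r : Vec} (h4 : qip r r = 4) (x : Vec) : qip (qrefl r x) r = -qip x r := by
  rw [qip_qrefl_left, h4, half_mul_four]
  abel

theorem qrefl_qrefl {r : Vec} (h4 : qip r r = 4) (x : Vec) : qrefl r (qrefl r x) = x := by
  rw [qrefl_eq r (qrefl r x), qip_qrefl_self h4, qrefl_eq, smul_neg, neg_smul]
  abel

theorem qip_qrefl_qrefl {r : Vec} (h4 : qip r r = 4) (x y : Vec) :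
    qip (qrefl r x) (qrefl r y) = qip x y := by
  rw [qip_qrefl_left, qip_qrefl_right, qip_qrefl_right, h4, mul_sub, ← mul_assoc, half_mul_four]
  have h1 : (qip x r + qip x r) * ((1 / 2 : ℝ) • qip r y) = qip x r * qip r y := by
    rw [mul_smul_comm, add_mul, half_smul_add]
  have h2 : ((1 / 2 : ℝ) • qip x r) * qip r y = qip x r * ((1 / 2 : ℝ) • qip r y) := by
    rw [smul_mul_assoc, mul_smul_comm]
  rw [h1, h2]
  have h3 : qip x r * ((1 / 2 : ℝ) • qip r y) + qip x r * ((1 / 2 : ℝ) • qip r y) = qip x r * qip r y := by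
    rw [← add_mul, h1]
  rw [← h3]
  abel

end Cfsg.Agent.Helper22.Ico
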