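import Cfsg.Agent.Helper22.IcoClass2
import Cfsg.Agent.Helper22.IcoCountK
import Cfsg.Agent.Helper22.IcoRefl

/-!
# Counting the minimal vectors and the reflections of the icosian Leech lattice
-/

set_option autoImplicit false

namespace Cfsg.Agent.Helper22.Ico

open Quaternion Cfsg.Spor

/-- the reflection in a minimal vector, as a permutation of the lattice -/
noncomputable def reflPerm (r : Vec) (hr : r ∈ icoLeech) (h4 : qip r r = 4) : Equiv.Perm icoLeech where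
  toFun x := ⟨qrefl r x.1, qrefl_mem hr x.2⟩
  invFun x := ⟨qrefl r x.1, qrefl_mem hr x.2⟩
  left_inv x := Subtype.ext (qrefl_qrefl h4 x.1)
  right_inv x := Subtype.ext (qrefl_qrefl h4 x.1)

theorem reflPerm_apply (r : Vec) (hr : r ∈ icoLeech) (h4 : qip r r = 4) (x : icoLeech) :
    ((reflPerm r hr h4 x : icoLeech) : Vec) = qrefl r x.1 := rfl

/-- the minimal vectors -/
def IsMin (r : Vec) : Prop := r ∈ icoLeech ∧ qip r r = 4

open Classical in
/-- the reflection in a vector, the identity when the vector is not minimal -/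
noncomputable def reflOf (r : Vec) : Equiv.Perm icoLeech :=
  if h : IsMin r then reflPerm r h.1 h.2 else 1

theorem reflOf_apply {r : Vec} (h : IsMin r) (x : icoLeech) : ((reflOf r x : icoLeech) : Vec) = qrefl r x.1 := by
  unfold reflOf
  rw [dif_pos h]
  rfl

theorem isIcoReflection_iff (f : Equiv.Perm icoLeech) : IsIcoReflection f ↔ ∃ r : Vec, IsMin r ∧ f = reflOf r := by
  constructor
  · rintro ⟨r, h4, hf⟩
    refine ⟨r.1, ⟨r.2, h4⟩, ?_⟩
    ext x : 1
    apply Subtype.ext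
    rw [hf x, reflOf_apply ⟨r.2, h4⟩]
  · rintro ⟨r, hr, rfl⟩
    exact ⟨⟨r, hr.1⟩, hr.2, fun x => reflOf_apply hr x⟩

theorem qrefl_smul {a : ℍ[ℝ]} (ha : star a * a = 1) (r x : Vec) : qrefl (a • r) x = qrefl r x := by
  rw [qrefl_eq, qrefl_eq, qip_smul_right, smul_smul, ← smul_mul_assoc, mul_assoc, ha, mul_one]

theorem isMin_smul {a : ℍ[ℝ]} (hI : a ∈ icosians) (ha : a * star a = 1) {r : Vec} (hr : IsMin r) :
    IsMin (a • r) := by
  refine ⟨icoLeech_smul hI hr.1, ?_⟩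
  have h4 : qip r r = ((4 : ℝ) : ℍ[ℝ]) := by rw [hr.2]; norm_cast
  rw [qip_smul_smul ha r h4]
  norm_cast

theorem reflOf_smul {a : ℍ[ℝ]} (hI : a ∈ icosians) (ha : a * star a = 1) (ha' : star a * a = 1) {r : Vec}
    (hr : IsMin r) : reflOf (a • r) = reflOf r := by
  ext x : 1
  apply Subtype.ext
  rw [reflOf_apply (isMin_smul hI ha hr), reflOf_apply hr, qrefl_smul ha']

/-! ### The matrix of a line -/

/-- the matrix `star (v s) * v t`, which depends only on the line of `v` -/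
noncomputable def Mq (v : Vec) (s t : Fin 3) : ℍ[ℝ] := star (v s) * v t

theorem Mq_smul {a : ℍ[ℝ]} (ha : star a * a = 1) (v : Vec) : Mq (a • v) = Mq v := by
  funext s t
  simp only [Mq, Pi.smul_apply, smul_eq_mul, star_mul]
  rw [mul_assoc, ← mul_assoc (star a), ha, one_mul]

/-- twice a vector of the standard basis -/
noncomputable def e2 (s : Fin 3) : Vec := Pi.single s 2

theorem two_mem_icosians : (2 : ℍ[ℝ]) ∈ icosians := by
  rw [show (2 : ℍ[ℝ]) = 1 + 1 by norm_num]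
  exact Subring.add_mem _ (Subring.one_mem _) (Subring.one_mem _)

theorem icoH_mem : icoH ∈ icosians := by
  rw [← Q.ι_H]
  exact Q.ι_mem Q.inI_H

theorem two_mem_leftIdeal : (2 : ℍ[ℝ]) ∈ leftIdeal icoH :=
  ⟨star icoH, star_mem_icosians icoH_mem, Q.star_mul_H.symm⟩

theorem two_mem_leftIdeal' : (2 : ℍ[ℝ]) ∈ leftIdeal (star icoH) :=
  ⟨icoH, icoH_mem, Q.H_mul_star.symm⟩

theorem e2_mem (s : Fin 3) : e2 s ∈ icoLeech := by
  have hz := leftIdeal_zero icoH
  have hz' := leftIdeal_zero (star icoH)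
  have h2 := two_mem_leftIdeal
  have h2' := two_mem_leftIdeal'
  have hn := leftIdeal_neg h2
  refine ⟨?_, ?_, ?_, ?_⟩
  · intro t
    unfold e2
    by_cases hts : t = s
    · rw [hts, Pi.single_eq_same]
      exact two_mem_icosians
    · rw [Pi.single_eq_of_ne hts]
      exact Subring.zero_mem _
  · fin_cases s <;> simp [e2] <;> assumption
  · fin_cases s <;> simp [e2] <;> assumption
  · fin_cases s <;> simp [e2] <;> assumption

theorem qip_e2 (s : Fin 3) (r : Vec) : qip (e2 s) r = 2 * star (r s) := by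
  unfold qip e2
  rw [Finset.sum_eq_single s]
  · rw [Pi.single_eq_same]
  · intro t _ hts
    rw [Pi.single_eq_of_ne hts, zero_mul]
  · intro h
    exact absurd (Finset.mem_univ s) h

theorem qrefl_e2 (r : Vec) (s t : Fin 3) : qrefl r (e2 s) t = e2 s t - Mq r s t := by
  unfold qrefl Mq
  rw [qip_e2, two_mul, half_smul_add]

theorem Mq_eq_of_reflOf_eq {r r' : Vec} (hr : IsMin r) (hr' : IsMin r') (h : reflOf r = reflOf r') : Mq r = Mq r' := by
  funext s t
  have h1 := reflOf_apply hr ⟨e2 s, e2_mem s⟩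
  have h2 := reflOf_apply hr' ⟨e2 s, e2_mem s⟩
  rw [h] at h1
  rw [h1] at h2
  have h3 := congrFun h2 t
  simp only [qrefl_e2] at h3
  exact sub_right_injective h3

/-! ### The model -/

namespace V3

open Q


theorem mul_conj_eq {a b c d : Q} (h : star (Q.ι a) * Q.ι b = star (Q.ι c) * Q.ι d) :
    mul (conj a) b = mul (conj c) d := by
  apply Q.ι_inj
  rw [ι_mul, ι_mul, ι_conj, ι_conj, h]

theorem Mraw_eq_of_Mq {v w : V3} (h : Mq v.ι = Mq w.ι) : Mraw v = Mraw w := by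
  have h' : ∀ s t, star (v.ι s) * v.ι t = star (w.ι s) * w.ι t := fun s t => congrFun (congrFun h s) t
  unfold Mraw
  rw [mul_conj_eq (h' 0 0), mul_conj_eq (h' 0 1), mul_conj_eq (h' 0 2),
    mul_conj_eq (h' 1 0), mul_conj_eq (h' 1 1), mul_conj_eq (h' 1 2),
    mul_conj_eq (h' 2 0), mul_conj_eq (h' 2 1), mul_conj_eq (h' 2 2)]

theorem nodup_Mraw : (repsLit.map Mraw).Nodup := nodup_Mraw_K

theorem nodup_repsLit : repsLit.Nodup := List.Nodup.of_map _ nodup_Mraw

theorem eq_of_Mraw {v w : V3} (hv : v ∈ repsLit) (hw : w ∈ repsLit) (h : Mraw v = Mraw w) : v = w :=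
  List.inj_on_of_nodup_map nodup_Mraw hv hw h

theorem repsLit_min : ∀ r ∈ repsLit, inΛ r = true ∧ nrm r = ⟨16, 0⟩ := by
  have h : (repsLit.all fun r => inΛ r && nrm r == ⟨16, 0⟩) = true := repsLit_min_K
  intro r hr
  have := List.all_eq_true.mp h r hr
  rwa [Bool.and_eq_true, beq_iff_eq] at this

theorem isMin_of_mem {r : V3} (hr : r ∈ repsLit) : IsMin r.ι :=
  ⟨(mem_icoLeech_iff r).mpr (repsLit_min r hr).1, qip_of_nrm_eq (repsLit_min r hr).2⟩

end V3

namespace Q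


theorem mem_Ulist_iff {u : Q} : u ∈ Ulist ↔ inI u = true ∧ tr u = 8 := by
  rw [mem_Ulist]
  constructor
  · rintro ⟨h1, h2⟩
    exact ⟨V3.inI_of_mem_L16 h1, h2⟩
  · rintro ⟨h1, h2⟩
    exact ⟨mem_L16 h1 (by omega), h2⟩

end Q

/-! ### The counts -/

/-- the parametrisation of the minimal vectors -/
noncomputable def minMap (p : Q × V3) : Vec := Q.ι p.1 • p.2.ι

theorem unit_of_mem_Ulist {u : Q} (hu : u ∈ Q.Ulist) :
    Q.ι u ∈ icosians ∧ Q.ι u * star (Q.ι u) = 1 ∧ star (Q.ι u) * Q.ι u = 1 := by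
  obtain ⟨h1, h2⟩ := Q.mem_Ulist_iff.mp hu
  exact ⟨Q.ι_mem h1, (Q.unit_of_tr h1 h2).1, (Q.unit_of_tr h1 h2).2⟩

theorem exists_minMap {w : Vec} (hw : IsMin w) : ∃ u ∈ Q.Ulist, ∃ r ∈ V3.repsLit, w = Q.ι u • r.ι := by
  obtain ⟨u, r, hr, hu, h8, e⟩ := V3.exists_rep hw.1 hw.2
  rw [V3.reps_eq] at hr
  exact ⟨u, Q.mem_Ulist_iff.mpr ⟨hu, h8⟩, r, hr, e⟩

theorem isMin_minMap {u : Q} (hu : u ∈ Q.Ulist) {r : V3} (hr : r ∈ V3.repsLit) : IsMin (Q.ι u • r.ι) := by
  obtain ⟨h1, h2, _⟩ := unit_of_mem_Ulist hu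
  exact isMin_smul h1 h2 (V3.isMin_of_mem hr)

theorem four_ne_zero' : (4 : ℍ[ℝ]) ≠ 0 := by
  intro h
  have h' : ((4 : ℝ) : ℍ[ℝ]) = ((0 : ℝ) : ℍ[ℝ]) := by rw [Quaternion.coe_zero, ← h]; norm_cast
  have := Quaternion.coe_injective h'
  norm_num at this

theorem minMap_inj {u u' : Q} (hu : u ∈ Q.Ulist) (hu' : u' ∈ Q.Ulist) {r r' : V3} (hr : r ∈ V3.repsLit)
    (hr' : r' ∈ V3.repsLit) (h : Q.ι u • r.ι = Q.ι u' • r'.ι) : u = u' ∧ r = r' := by
  have hM : Mq r.ι = Mq r'.ι := by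
    rw [← Mq_smul (unit_of_mem_Ulist hu).2.2 r.ι, ← Mq_smul (unit_of_mem_Ulist hu').2.2 r'.ι, h]
  have e : r = r' := V3.eq_of_Mraw hr hr' (V3.Mraw_eq_of_Mq hM)
  subst e
  refine ⟨?_, rfl⟩
  have h1 := congrArg (fun v => qip v r.ι) h
  simp only [qip_smul_left, (V3.isMin_of_mem hr).2] at h1
  exact Q.ι_inj (mul_right_cancel₀ four_ne_zero' h1)

/-- the finite set of the units -/
def UF : Finset Q := Q.Ulist.toFinset

/-- the finite set of the representatives -/
def repsF : Finset V3 := V3.repsLit.toFinset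

theorem mem_UF {u : Q} : u ∈ UF ↔ u ∈ Q.Ulist := List.mem_toFinset

theorem mem_repsF {r : V3} : r ∈ repsF ↔ r ∈ V3.repsLit := List.mem_toFinset

theorem card_UF : UF.card = 120 := by
  unfold UF
  rw [List.toFinset_card_of_nodup Q.nodup_Ulist, Q.length_Ulist]

theorem card_repsF : repsF.card = 315 := by
  unfold repsF
  rw [List.toFinset_card_of_nodup V3.nodup_repsLit, V3.length_repsLit]

attribute [irreducible] UF repsF

theorem setOf_isMin_eq :
    {r : Vec | r ∈ icoLeech ∧ qip r r = 4} = minMap '' ((UF ×ˢ repsF : Finset (Q × V3)) : Set (Q × V3)) := by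
  ext w
  simp only [Set.mem_ofPred_eq, Set.mem_image, Finset.mem_coe, Finset.mem_product, mem_UF, mem_repsF, Prod.exists]
  constructor
  · intro hw
    obtain ⟨u, hu, r, hr, e⟩ := exists_minMap hw
    exact ⟨u, r, ⟨hu, hr⟩, e.symm⟩
  · rintro ⟨u, r, ⟨hu, hr⟩, rfl⟩
    exact isMin_minMap hu hr

theorem injOn_minMap : Set.InjOn minMap ((UF ×ˢ repsF : Finset (Q × V3)) : Set (Q × V3)) := by
  intro p hp p' hp' h
  rw [Finset.mem_coe, Finset.mem_product, mem_UF, mem_repsF] at hp hp'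
  obtain ⟨e1, e2⟩ := minMap_inj hp.1 hp'.1 hp.2 hp'.2 h
  exact Prod.ext e1 e2

theorem ncard_isMin : {r : Vec | r ∈ icoLeech ∧ qip r r = 4}.ncard = 37800 := by
  rw [setOf_isMin_eq, Set.InjOn.ncard_image injOn_minMap, Set.ncard_coe_finset, Finset.card_product, card_UF,
    card_repsF]

theorem reflOf_eq_iff {r r' : V3} (hr : r ∈ V3.repsLit) (hr' : r' ∈ V3.repsLit) :
    reflOf r.ι = reflOf r'.ι ↔ r = r' := by
  constructor
  · intro h
    exact V3.eq_of_Mraw hr hr' (V3.Mraw_eq_of_Mq (Mq_eq_of_reflOf_eq (V3.isMin_of_mem hr) (V3.isMin_of_mem hr') h))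
  · rintro rfl
    rfl

theorem isIcoReflection_iff_rep (f : Equiv.Perm icoLeech) :
    IsIcoReflection f ↔ ∃ r ∈ V3.repsLit, f = reflOf r.ι := by
  rw [isIcoReflection_iff]
  constructor
  · rintro ⟨w, hw, rfl⟩
    obtain ⟨u, hu, r, hr, rfl⟩ := exists_minMap hw
    obtain ⟨h1, h2, h3⟩ := unit_of_mem_Ulist hu
    exact ⟨r, hr, reflOf_smul h1 h2 h3 (V3.isMin_of_mem hr)⟩
  · rintro ⟨r, hr, rfl⟩
    exact ⟨r.ι, V3.isMin_of_mem hr, rfl⟩

theorem ncard_refl : {f : Equiv.Perm icoLeech | IsIcoReflection f}.ncard = 315 := by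
  have e : {f : Equiv.Perm icoLeech | IsIcoReflection f} =
      (fun r : V3 => reflOf r.ι) '' ((repsF : Finset V3) : Set V3) := by
    ext f
    simp only [Set.mem_ofPred_eq, Set.mem_image, Finset.mem_coe, mem_repsF]
    rw [isIcoReflection_iff_rep]
    constructor
    · rintro ⟨r, hr, rfl⟩
      exact ⟨r, hr, rfl⟩
    · rintro ⟨r, hr, rfl⟩
      exact ⟨r, hr, rfl⟩
  have hinj : Set.InjOn (fun r : V3 => reflOf r.ι) ((repsF : Finset V3) : Set V3) := by
    intro r hr r' hr' h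
    rw [Finset.mem_coe, mem_repsF] at hr hr'
    exact (reflOf_eq_iff hr hr').mp h
  rw [e, Set.InjOn.ncard_image hinj, Set.ncard_coe_finset, card_repsF]

end Cfsg.Agent.Helper22.Ico
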