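import Cfsg.Agent.Helper22.IcoRing2

/-!
# The icosians of small norm

The trace of four times the norm is a positive definite quadratic form in the eight integer coefficients; the
icosians with this trace at most sixteen are enumerated.
-/

set_option autoImplicit false

namespace Cfsg.Agent.Helper22.Ico

open Quaternion Cfsg.Spor

namespace Z5

/-- the trace of the square -/
def q (z : Z5) : ℤ := 2 * z.a * z.a + 2 * z.a * z.b + 3 * z.b * z.b

theorem q_nonneg (z : Z5) : 0 ≤ z.q := by
  unfold q
  nlinarith [sq_nonneg (z.a + z.b), sq_nonneg z.a, sq_nonneg z.b]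

theorem q_eq_zero {z : Z5} (h : z.q = 0) : z = ⟨0, 0⟩ := by
  obtain ⟨a, b⟩ := z
  unfold q at h
  simp only at h
  have hb : b = 0 := by nlinarith [sq_nonneg (a + b), sq_nonneg a, sq_nonneg b]
  subst hb
  have ha : a = 0 := by nlinarith [sq_nonneg a]
  subst ha
  rfl

/-- the pairs with trace at most sixteen -/
def pairs16 : List Z5 :=
  (List.range 9).flatMap fun i => (List.range 5).filterMap fun j =>
    if (⟨(i : ℤ) - 4, (j : ℤ) - 2⟩ : Z5).q ≤ 16 then some ⟨(i : ℤ) - 4, (j : ℤ) - 2⟩ else none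

theorem mem_pairs16 {z : Z5} (h : z.q ≤ 16) : z ∈ pairs16 := by
  obtain ⟨a, b⟩ := z
  have h' : 2 * a * a + 2 * a * b + 3 * b * b ≤ 16 := h
  have hb1 : -2 ≤ b := by nlinarith [sq_nonneg (a + b), sq_nonneg a, sq_nonneg b]
  have hb2 : b ≤ 2 := by nlinarith [sq_nonneg (a + b), sq_nonneg a, sq_nonneg b]
  have ha1 : -4 ≤ a := by nlinarith [sq_nonneg (a + b), sq_nonneg a, sq_nonneg b]
  have ha2 : a ≤ 4 := by nlinarith [sq_nonneg (a + b), sq_nonneg a, sq_nonneg b]
  clear h
  interval_cases a <;> interval_cases b <;> first | (exfalso; omega) | decide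

end Z5

namespace Q

/-- the trace of four times the norm -/
def tr (x : Q) : ℤ := x.c0.q + x.c1.q + x.c2.q + x.c3.q

theorem tr_eq (x : Q) : tr x = 2 * (nrm x).a + (nrm x).b := by
  simp only [tr, Z5.q, nrm, Z5.add, Z5.mul]
  ring

theorem tr_nonneg (x : Q) : 0 ≤ tr x := by
  unfold tr
  have := x.c0.q_nonneg
  have := x.c1.q_nonneg
  have := x.c2.q_nonneg
  have := x.c3.q_nonneg
  omega

theorem eq_zero_of_tr {x : Q} (h : tr x = 0) : x = zero := by
  unfold tr at h
  have h0 := x.c0.q_nonneg
  have h1 := x.c1.q_nonneg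
  have h2 := x.c2.q_nonneg
  have h3 := x.c3.q_nonneg
  obtain ⟨c0, c1, c2, c3⟩ := x
  simp only at h h0 h1 h2 h3
  have e0 := Z5.q_eq_zero (show c0.q = 0 by omega)
  have e1 := Z5.q_eq_zero (show c1.q = 0 by omega)
  have e2 := Z5.q_eq_zero (show c2.q = 0 by omega)
  have e3 := Z5.q_eq_zero (show c3.q = 0 by omega)
  subst e0 e1 e2 e3
  rfl

/-- the lists of `k` coefficients with total trace at most `B` -/
def enum : ℕ → ℤ → List (List Z5)
  | 0, _ => [[]]
  | k + 1, B => Z5.pairs16.flatMap fun z => if z.q ≤ B then (enum k (B - z.q)).map (z :: ·) else []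

theorem mem_enum : ∀ (k : ℕ) (B : ℤ) (l : List Z5), l.length = k → (l.map Z5.q).sum ≤ B → B ≤ 16 → l ∈ enum k B := by
  intro k
  induction k with
  | zero =>
    intro B l hl _ _
    rw [List.length_eq_zero_iff] at hl
    subst hl
    simp [enum]
  | succ k ih =>
    intro B l hl hs hB
    obtain ⟨z, l', rfl⟩ := List.exists_cons_of_length_eq_add_one hl
    simp only [List.map_cons, List.sum_cons] at hs
    have hnn : 0 ≤ (l'.map Z5.q).sum := by
      apply List.sum_nonneg
      intro y hy
      obtain ⟨w, _, rfl⟩ := List.mem_map.mp hy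
      exact w.q_nonneg
    have hz := z.q_nonneg
    simp only [enum, List.mem_flatMap]
    refine ⟨z, Z5.mem_pairs16 (by omega), ?_⟩
    rw [if_pos (by omega)]
    refine List.mem_map.mpr ⟨l', ih _ l' (by simpa using hl) (by omega) (by omega), rfl⟩

/-- the icosians with trace at most sixteen -/
def L16 : List Q :=
  (enum 4 16).filterMap fun l =>
    match l with
    | [c0, c1, c2, c3] => if inI ⟨c0, c1, c2, c3⟩ then some ⟨c0, c1, c2, c3⟩ else none
    | _ => none

theorem mem_L16 {x : Q} (hx : inI x = true) (ht : tr x ≤ 16) : x ∈ L16 := by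
  obtain ⟨c0, c1, c2, c3⟩ := x
  unfold L16
  rw [List.mem_filterMap]
  refine ⟨[c0, c1, c2, c3], mem_enum 4 16 _ rfl ?_ le_rfl, ?_⟩
  · simp only [List.map_cons, List.map_nil, List.sum_cons, List.sum_nil]
    unfold tr at ht
    simp only at ht
    omega
  · simp only [hx, if_true]

theorem length_L16 : L16.length = 961 := by decide +kernel

end Q

end Cfsg.Agent.Helper22.Ico
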