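import Cfsg.Agent.Helper22.IcoMin

/-!
# Kernel facts about the icosians of small norm, I
-/

set_option autoImplicit false

namespace Cfsg.Agent.Helper22.Ico

open Quaternion Cfsg.Spor

namespace Q

/-- the units -/
def Ulist : List Q := L16.filter fun x => tr x == 8

/-- twice one -/
def two : Q := ⟨⟨4, 0⟩, ⟨0, 0⟩, ⟨0, 0⟩, ⟨0, 0⟩⟩

/-- the nonzero elements of small norm congruent to one -/
def c1list : List Q := L16.filter fun x => (x != zero) && inIh (sub x one)

theorem mem_Ulist {x : Q} : x ∈ Ulist ↔ x ∈ L16 ∧ tr x = 8 := by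
  unfold Ulist
  rw [List.mem_filter, beq_iff_eq]

theorem mem_c1list {x : Q} : x ∈ c1list ↔ x ∈ L16 ∧ x ≠ zero ∧ inIh (sub x one) = true := by
  unfold c1list
  rw [List.mem_filter, Bool.and_eq_true, bne_iff_ne]

theorem L16_tr : ∀ x ∈ L16, x = zero ∨ tr x = 8 ∨ tr x = 12 ∨ tr x = 16 := by
  have h : (L16.all fun x => x == zero || tr x == 8 || tr x == 12 || tr x == 16) = true := by decide +kernel
  intro x hx
  have := List.all_eq_true.mp h x hx
  simpa [Bool.or_eq_true, beq_iff_eq, or_assoc] using this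

theorem L16_nrm : ∀ x ∈ L16, tr x = 8 → nrm x = ⟨4, 0⟩ := by
  have h : (L16.all fun x => tr x != 8 || nrm x == ⟨4, 0⟩) = true := by decide +kernel
  intro x hx h8
  have := List.all_eq_true.mp h x hx
  simpa [h8] using this

end Q

end Cfsg.Agent.Helper22.Ico
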