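import Cfsg.Agent.Helper22.IcoK1

/-!
# Kernel facts about the icosians of small norm, II
-/

set_option autoImplicit false

namespace Cfsg.Agent.Helper22.Ico

open Quaternion Cfsg.Spor

namespace Q

theorem L16_two : ∀ a ∈ L16, tr a = 16 → inIhb (mulI a H) = true → ∃ u ∈ Ulist, mulI a H = add u u := by
  have h : (L16.all fun a => tr a != 16 || !inIhb (mulI a H) || Ulist.any fun u => mulI a H == add u u) = true := by
    decide +kernel
  intro a ha h16 hb
  have := List.all_eq_true.mp h a ha
  simp only [h16, hb, bne_self_eq_false, Bool.not_true, Bool.false_or, List.any_eq_true, beq_iff_eq] at this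
  exact this

end Q

end Cfsg.Agent.Helper22.Ico
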