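import Cfsg.Agent.Helper22.IcoEnum

/-!
# The icosian Leech lattice in the model
-/

set_option autoImplicit false

namespace Cfsg.Agent.Helper22.Ico

open Quaternion Cfsg.Spor

namespace Q

/-- the icosian `h` -/
def H : Q := ⟨⟨1, -2⟩, ⟨1, 0⟩, ⟨1, 0⟩, ⟨1, 0⟩⟩

theorem ι_H : ι H = icoH := by
  ext <;> simp [ι_re, ι_imI, ι_imJ, ι_imK, H, icoH, Z5.toReal, sqrt5_eq] <;> ring

theorem inI_H : inI H = true := by decide

theorem H_mul_star : icoH * star icoH = 2 := by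
  rw [Quaternion.self_mul_star, Quaternion.normSq_def']
  simp only [icoH]
  have : ((-Real.sqrt 5 / 2) ^ 2 + (1 / 2) ^ 2 + (1 / 2) ^ 2 + (1 / 2) ^ 2 : ℝ) = 2 := by
    nlinarith [sqrt5_sq]
  rw [this]
  norm_cast

theorem star_mul_H : star icoH * icoH = 2 := by
  rw [Quaternion.star_mul_self, Quaternion.normSq_def']
  simp only [icoH]
  have : ((-Real.sqrt 5 / 2) ^ 2 + (1 / 2) ^ 2 + (1 / 2) ^ 2 + (1 / 2) ^ 2 : ℝ) = 2 := by
    nlinarith [sqrt5_sq]
  rw [this]
  norm_cast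

theorem isEven_zsmul4 (x : Q) : isEven (zsmul 4 x) = true := by
  simp only [isEven, Z5.isEven, zsmul, Z5.zsmul, Bool.and_eq_true, beq_iff_eq]
  omega

theorem halve_zsmul4 (x : Q) : halve (zsmul 4 x) = zsmul 2 x := by
  simp only [halve, Z5.halve, zsmul, Z5.zsmul, mk.injEq, Z5.mk.injEq]
  omega

theorem isEven_zsmul2 (x : Q) : isEven (zsmul 2 x) = true := by
  simp only [isEven, Z5.isEven, zsmul, Z5.zsmul, Bool.and_eq_true, beq_iff_eq]
  omega

theorem halve_zsmul2 (x : Q) : halve (zsmul 2 x) = x := by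
  obtain ⟨⟨a0, b0⟩, ⟨a1, b1⟩, ⟨a2, b2⟩, ⟨a3, b3⟩⟩ := x
  simp only [halve, Z5.halve, zsmul, Z5.zsmul, mk.injEq, Z5.mk.injEq]
  omega

/-- membership in the left ideal generated by an element of norm two -/
def inLI (g x : Q) : Bool :=
  isEven (mul x (conj g)) && isEven (halve (mul x (conj g))) && inI (halve (halve (mul x (conj g))))

theorem inLI_iff (g : Q) (hg : ι g * star (ι g) = 2) (hg' : star (ι g) * ι g = 2) {x : Q} :
    ι x ∈ leftIdeal (ι g) ↔ inLI g x = true := by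
  constructor
  · rintro ⟨a, ha, hxa⟩
    obtain ⟨A, hA, rfl⟩ := (mem_icosians_iff _).mp ha
    have e : mul x (conj g) = zsmul 4 A := by
      apply ι_inj
      rw [ι_mul, ι_conj, hxa, mul_assoc, hg, ι_zsmul, ← Int.cast_smul_eq_zsmul ℝ, mul_two, smul_add, ← add_smul]
      norm_num
    unfold inLI
    rw [e, isEven_zsmul4, halve_zsmul4, isEven_zsmul2, halve_zsmul2, hA]
    rfl
  · intro h
    unfold inLI at h
    rw [Bool.and_eq_true, Bool.and_eq_true] at h
    obtain ⟨⟨h1, h2⟩, h3⟩ := h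
    refine ⟨ι (halve (halve (mul x (conj g)))), ι_mem h3, ?_⟩
    have e1 : ι (halve (halve (mul x (conj g)))) = (1 / 2 : ℝ) • (ι x * star (ι g)) := by
      rw [ι_halve h2, ι_halve h1, ι_mul, ι_conj, smul_smul, smul_smul]
      norm_num
    rw [e1, smul_mul_assoc, mul_assoc, hg', mul_two, smul_add, ← add_smul]
    norm_num

/-- membership in `I h` -/
def inIh (x : Q) : Bool := inLI H x

/-- membership in the left ideal of the conjugate of `h` -/
def inIhb (x : Q) : Bool := inLI (conj H) x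

theorem inIh_iff {x : Q} : ι x ∈ leftIdeal icoH ↔ inIh x = true := by
  have := inLI_iff H (by rw [ι_H]; exact H_mul_star) (by rw [ι_H]; exact star_mul_H) (x := x)
  rwa [ι_H] at this

theorem inIhb_iff {x : Q} : ι x ∈ leftIdeal (star icoH) ↔ inIhb x = true := by
  have := inLI_iff (conj H) (by rw [ι_conj, ι_H, star_star]; exact star_mul_H)
    (by rw [ι_conj, ι_H, star_star]; exact H_mul_star) (x := x)
  rwa [ι_conj, ι_H] at this

end Q

/-- the triples of elements of the model -/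
structure V3 where
  /-- the first coordinate -/
  x : Q
  /-- the second coordinate -/
  y : Q
  /-- the third coordinate -/
  z : Q
deriving DecidableEq

namespace V3

open Q

/-- the real vector -/
noncomputable def ι (v : V3) : Fin 3 → ℍ[ℝ] := ![Q.ι v.x, Q.ι v.y, Q.ι v.z]

theorem ι_zero (v : V3) : v.ι 0 = Q.ι v.x := rfl
theorem ι_one (v : V3) : v.ι 1 = Q.ι v.y := rfl
theorem ι_two (v : V3) : v.ι 2 = Q.ι v.z := rfl

theorem ι_inj {v w : V3} (h : v.ι = w.ι) : v = w := by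
  have h0 := congrFun h 0
  have h1 := congrFun h 1
  have h2 := congrFun h 2
  rw [ι_zero, ι_zero] at h0
  rw [ι_one, ι_one] at h1
  rw [ι_two, ι_two] at h2
  cases v
  cases w
  simp only [mk.injEq]
  exact ⟨Q.ι_inj h0, Q.ι_inj h1, Q.ι_inj h2⟩

/-- the conditions of the icosian Leech lattice -/
def inΛ (v : V3) : Bool :=
  inI v.x && inI v.y && inI v.z && inIh (sub v.x v.y) && inIh (sub v.y v.z) && inIhb (add (add v.x v.y) v.z)

theorem mem_icoLeech_iff (v : V3) : v.ι ∈ icoLeech ↔ inΛ v = true := by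
  unfold icoLeech inΛ
  simp only [Set.mem_ofPred_eq, Bool.and_eq_true]
  rw [ι_zero, ι_one, ι_two, ← ι_sub, ← ι_sub, ← ι_add, ← ι_add, inIh_iff, inIh_iff, inIhb_iff]
  constructor
  · rintro ⟨h1, h2, h3, h4⟩
    have hx := h1 0
    have hy := h1 1
    have hz := h1 2
    rw [ι_zero] at hx
    rw [ι_one] at hy
    rw [ι_two] at hz
    obtain ⟨X, hX, e⟩ := (mem_icosians_iff _).mp hx
    obtain ⟨Y, hY, e'⟩ := (mem_icosians_iff _).mp hy
    obtain ⟨Z, hZ, e''⟩ := (mem_icosians_iff _).mp hz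
    have hX' : inI v.x = true := by rw [Q.ι_inj e]; exact hX
    have hY' : inI v.y = true := by rw [Q.ι_inj e']; exact hY
    have hZ' : inI v.z = true := by rw [Q.ι_inj e'']; exact hZ
    exact ⟨⟨⟨⟨⟨hX', hY'⟩, hZ'⟩, h2⟩, h3⟩, h4⟩
  · rintro ⟨⟨⟨⟨⟨hX, hY⟩, hZ⟩, h2⟩, h3⟩, h4⟩
    refine ⟨?_, h2, h3, h4⟩
    intro t
    fin_cases t
    · exact ι_mem hX
    · exact ι_mem hY
    · exact ι_mem hZ

theorem exists_of_mem_icoLeech {w : Fin 3 → ℍ[ℝ]} (hw : w ∈ icoLeech) : ∃ v : V3, inΛ v = true ∧ w = v.ι := by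
  obtain ⟨X, hX, e⟩ := (mem_icosians_iff _).mp (hw.1 0)
  obtain ⟨Y, hY, e'⟩ := (mem_icosians_iff _).mp (hw.1 1)
  obtain ⟨Z, hZ, e''⟩ := (mem_icosians_iff _).mp (hw.1 2)
  have hwv : w = (⟨X, Y, Z⟩ : V3).ι := by
    funext t
    fin_cases t
    · exact e
    · exact e'
    · exact e''
  refine ⟨⟨X, Y, Z⟩, ?_, hwv⟩
  rw [← mem_icoLeech_iff, ← hwv]
  exact hw

/-- four times the norm -/
def nrm (v : V3) : Z5 := ((Q.nrm v.x).add (Q.nrm v.y)).add (Q.nrm v.z)

theorem qip_self (v : V3) : qip v.ι v.ι = (((nrm v).toReal / 4 : ℝ) : ℍ[ℝ]) := by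
  unfold qip
  rw [Fin.sum_univ_three, ι_zero, ι_one, ι_two, Quaternion.self_mul_star, Quaternion.self_mul_star,
    Quaternion.self_mul_star, normSq_ι, normSq_ι, normSq_ι, nrm, Z5.toReal_add, Z5.toReal_add,
    ← Quaternion.coe_add, ← Quaternion.coe_add]
  congr 1
  ring

theorem nrm_eq_of_qip {v : V3} (h : qip v.ι v.ι = 4) : nrm v = ⟨16, 0⟩ := by
  rw [qip_self] at h
  have h' : (nrm v).toReal / 4 = 4 := by
    have h4 : ((((nrm v).toReal / 4 : ℝ)) : ℍ[ℝ]) = ((4 : ℝ) : ℍ[ℝ]) := by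
      rw [h]
      norm_cast
    exact Quaternion.coe_injective h4
  apply Z5.toReal_inj
  simp only [Z5.toReal]
  push_cast
  simp only [Z5.toReal] at h'
  linarith

theorem qip_of_nrm_eq {v : V3} (h : nrm v = ⟨16, 0⟩) : qip v.ι v.ι = 4 := by
  rw [qip_self, h]
  have e : ((⟨16, 0⟩ : Z5).toReal / 4 : ℝ) = 4 := by
    simp only [Z5.toReal]
    push_cast
    norm_num
  rw [e]
  norm_cast

end V3

end Cfsg.Agent.Helper22.Ico
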