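import Cfsg.Agent.Helper22.IcoLat

/-!
# The minimal vectors of the icosian Leech lattice, up to unit multiples

Closure properties of the lattice, the units, and the list of the representatives of the minimal vectors.
-/

set_option autoImplicit false

namespace Cfsg.Agent.Helper22.Ico

open Quaternion Cfsg.Spor

/-! ### Left ideals and the lattice -/

theorem leftIdeal_zero (q : ℍ[ℝ]) : (0 : ℍ[ℝ]) ∈ leftIdeal q := ⟨0, Subring.zero_mem _, by rw [zero_mul]⟩

theorem leftIdeal_add {q x y : ℍ[ℝ]} (hx : x ∈ leftIdeal q) (hy : y ∈ leftIdeal q) : x + y ∈ leftIdeal q := by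
  obtain ⟨a, ha, rfl⟩ := hx
  obtain ⟨b, hb, rfl⟩ := hy
  exact ⟨a + b, Subring.add_mem _ ha hb, by rw [add_mul]⟩

theorem leftIdeal_neg {q x : ℍ[ℝ]} (hx : x ∈ leftIdeal q) : -x ∈ leftIdeal q := by
  obtain ⟨a, ha, rfl⟩ := hx
  exact ⟨-a, Subring.neg_mem _ ha, by rw [neg_mul]⟩

theorem leftIdeal_sub {q x y : ℍ[ℝ]} (hx : x ∈ leftIdeal q) (hy : y ∈ leftIdeal q) : x - y ∈ leftIdeal q := by
  rw [sub_eq_add_neg]
  exact leftIdeal_add hx (leftIdeal_neg hy)

theorem leftIdeal_mul {q x a : ℍ[ℝ]} (ha : a ∈ icosians) (hx : x ∈ leftIdeal q) : a * x ∈ leftIdeal q := by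
  obtain ⟨b, hb, rfl⟩ := hx
  exact ⟨a * b, Subring.mul_mem _ ha hb, by rw [mul_assoc]⟩

theorem leftIdeal_sub_icosians {q : ℍ[ℝ]} (hq : q ∈ icosians) {x : ℍ[ℝ]} (hx : x ∈ leftIdeal q) : x ∈ icosians := by
  obtain ⟨b, hb, rfl⟩ := hx
  exact Subring.mul_mem _ hb hq

/-- the vectors of quaternions -/
abbrev Vec : Type := Fin 3 → ℍ[ℝ]

theorem icoLeech_add {v w : Vec} (hv : v ∈ icoLeech) (hw : w ∈ icoLeech) : v + w ∈ icoLeech := by
  obtain ⟨h1, h2, h3, h4⟩ := hv
  obtain ⟨k1, k2, k3, k4⟩ := hw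
  refine ⟨fun t => Subring.add_mem _ (h1 t) (k1 t), ?_, ?_, ?_⟩
  · have := leftIdeal_add h2 k2
    simp only [Pi.add_apply]
    convert this using 1
    abel
  · have := leftIdeal_add h3 k3
    simp only [Pi.add_apply]
    convert this using 1
    abel
  · have := leftIdeal_add h4 k4
    simp only [Pi.add_apply]
    convert this using 1
    abel

theorem icoLeech_neg {v : Vec} (hv : v ∈ icoLeech) : -v ∈ icoLeech := by
  obtain ⟨h1, h2, h3, h4⟩ := hv
  refine ⟨fun t => Subring.neg_mem _ (h1 t), ?_, ?_, ?_⟩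
  · have := leftIdeal_neg h2
    simp only [Pi.neg_apply]
    convert this using 1
    abel
  · have := leftIdeal_neg h3
    simp only [Pi.neg_apply]
    convert this using 1
    abel
  · have := leftIdeal_neg h4
    simp only [Pi.neg_apply]
    convert this using 1
    abel

theorem icoLeech_sub {v w : Vec} (hv : v ∈ icoLeech) (hw : w ∈ icoLeech) : v - w ∈ icoLeech := by
  rw [sub_eq_add_neg]
  exact icoLeech_add hv (icoLeech_neg hw)

theorem icoLeech_zero : (0 : Vec) ∈ icoLeech := by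
  refine ⟨fun t => Subring.zero_mem _, ?_, ?_, ?_⟩
  · simp only [Pi.zero_apply, sub_zero]; exact leftIdeal_zero _
  · simp only [Pi.zero_apply, sub_zero]; exact leftIdeal_zero _
  · simp only [Pi.zero_apply, add_zero]; exact leftIdeal_zero _

theorem icoLeech_smul {a : ℍ[ℝ]} (ha : a ∈ icosians) {v : Vec} (hv : v ∈ icoLeech) : a • v ∈ icoLeech := by
  obtain ⟨h1, h2, h3, h4⟩ := hv
  refine ⟨fun t => Subring.mul_mem _ ha (h1 t), ?_, ?_, ?_⟩
  · have := leftIdeal_mul ha h2
    simp only [Pi.smul_apply, smul_eq_mul]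
    rwa [mul_sub] at this
  · have := leftIdeal_mul ha h3
    simp only [Pi.smul_apply, smul_eq_mul]
    rwa [mul_sub] at this
  · have := leftIdeal_mul ha h4
    simp only [Pi.smul_apply, smul_eq_mul]
    rwa [mul_add, mul_add] at this

theorem icoLeech_diff {v : Vec} (hv : v ∈ icoLeech) (s t : Fin 3) : v s - v t ∈ leftIdeal icoH := by
  obtain ⟨_, h2, h3, _⟩ := hv
  have h20 : v 1 - v 0 ∈ leftIdeal icoH := by
    have := leftIdeal_neg h2
    rwa [neg_sub] at this
  have h21 : v 2 - v 1 ∈ leftIdeal icoH := by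
    have := leftIdeal_neg h3
    rwa [neg_sub] at this
  have h02 : v 0 - v 2 ∈ leftIdeal icoH := by
    have := leftIdeal_add h2 h3
    rwa [sub_add_sub_cancel] at this
  have h20' : v 2 - v 0 ∈ leftIdeal icoH := by
    have := leftIdeal_neg h02
    rwa [neg_sub] at this
  fin_cases s <;> fin_cases t
  · simp only [Fin.zero_eta, sub_self]; exact leftIdeal_zero _
  · exact h2
  · exact h02
  · exact h20
  · simp only [Fin.mk_one, sub_self]; exact leftIdeal_zero _
  · exact h3
  · exact h20'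
  · exact h21
  · simp only [Fin.reduceFinMk, sub_self]; exact leftIdeal_zero _

theorem qip_smul_left (a : ℍ[ℝ]) (x r : Vec) : qip (a • x) r = a * qip x r := by
  unfold qip
  rw [Finset.mul_sum]
  apply Finset.sum_congr rfl
  intro t _
  simp only [Pi.smul_apply, smul_eq_mul, mul_assoc]

theorem qip_smul_right (a : ℍ[ℝ]) (x r : Vec) : qip x (a • r) = qip x r * star a := by
  unfold qip
  rw [Finset.sum_mul]
  apply Finset.sum_congr rfl
  intro t _
  simp only [Pi.smul_apply, smul_eq_mul, star_mul, mul_assoc]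

theorem qip_smul_smul {a : ℍ[ℝ]} (ha : a * star a = 1) (x : Vec) {c : ℝ} (hx : qip x x = (c : ℍ[ℝ])) :
    qip (a • x) (a • x) = (c : ℍ[ℝ]) := by
  rw [qip_smul_left, qip_smul_right, hx, Quaternion.coe_commutes, ← mul_assoc, ha, one_mul]

end Cfsg.Agent.Helper22.Ico
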