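import Cfsg.Agent.Helper22.IcoZ5

/-!
# The model of the quaternions with coefficients in `½ ℤ[τ]`
-/

set_option autoImplicit false

namespace Cfsg.Agent.Helper22.Ico

open Quaternion Cfsg.Spor

/-- the quaternion `½ (c₀ + c₁ i + c₂ j + c₃ k)` -/
structure Q where
  /-- twice the real part -/
  c0 : Z5
  /-- twice the coefficient of `i` -/
  c1 : Z5
  /-- twice the coefficient of `j` -/
  c2 : Z5
  /-- twice the coefficient of `k` -/
  c3 : Z5
deriving DecidableEq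

namespace Q

/-- zero -/
def zero : Q := ⟨⟨0, 0⟩, ⟨0, 0⟩, ⟨0, 0⟩, ⟨0, 0⟩⟩
/-- one -/
def one : Q := ⟨⟨2, 0⟩, ⟨0, 0⟩, ⟨0, 0⟩, ⟨0, 0⟩⟩
/-- addition -/
def add (x y : Q) : Q := ⟨x.c0.add y.c0, x.c1.add y.c1, x.c2.add y.c2, x.c3.add y.c3⟩
/-- negation -/
def neg (x : Q) : Q := ⟨x.c0.neg, x.c1.neg, x.c2.neg, x.c3.neg⟩
/-- subtraction -/
def sub (x y : Q) : Q := ⟨x.c0.sub y.c0, x.c1.sub y.c1, x.c2.sub y.c2, x.c3.sub y.c3⟩
/-- conjugation -/
def conj (x : Q) : Q := ⟨x.c0, x.c1.neg, x.c2.neg, x.c3.neg⟩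
/-- the product of the coefficient vectors: twice the product of the quaternions -/
def mul (x y : Q) : Q :=
  ⟨(((x.c0.mul y.c0).sub (x.c1.mul y.c1)).sub (x.c2.mul y.c2)).sub (x.c3.mul y.c3),
   (((x.c0.mul y.c1).add (x.c1.mul y.c0)).add (x.c2.mul y.c3)).sub (x.c3.mul y.c2),
   (((x.c0.mul y.c2).sub (x.c1.mul y.c3)).add (x.c2.mul y.c0)).add (x.c3.mul y.c1),
   (((x.c0.mul y.c3).add (x.c1.mul y.c2)).sub (x.c2.mul y.c1)).add (x.c3.mul y.c0)⟩
/-- four times the norm -/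
def nrm (x : Q) : Z5 := (((x.c0.mul x.c0).add (x.c1.mul x.c1)).add (x.c2.mul x.c2)).add (x.c3.mul x.c3)

/-- the real quaternion -/
noncomputable def ι (x : Q) : ℍ[ℝ] := ⟨x.c0.toReal / 2, x.c1.toReal / 2, x.c2.toReal / 2, x.c3.toReal / 2⟩

theorem ι_re (x : Q) : (ι x).re = x.c0.toReal / 2 := rfl
theorem ι_imI (x : Q) : (ι x).imI = x.c1.toReal / 2 := rfl
theorem ι_imJ (x : Q) : (ι x).imJ = x.c2.toReal / 2 := rfl
theorem ι_imK (x : Q) : (ι x).imK = x.c3.toReal / 2 := rfl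

theorem ι_zero : ι zero = 0 := by
  ext <;> simp [ι_re, ι_imI, ι_imJ, ι_imK, zero, Z5.toReal]

theorem ι_one : ι one = 1 := by
  ext <;> simp [ι_re, ι_imI, ι_imJ, ι_imK, one, Z5.toReal]

theorem ι_add (x y : Q) : ι (add x y) = ι x + ι y := by
  ext <;> simp only [Quaternion.re_add, Quaternion.imI_add, Quaternion.imJ_add, Quaternion.imK_add, ι_re, ι_imI,
    ι_imJ, ι_imK, add, Z5.toReal_add] <;> ring

theorem ι_neg (x : Q) : ι (neg x) = -ι x := by
  ext <;> simp only [Quaternion.re_neg, Quaternion.imI_neg, Quaternion.imJ_neg, Quaternion.imK_neg, ι_re, ι_imI,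
    ι_imJ, ι_imK, neg, Z5.toReal_neg] <;> ring

theorem ι_sub (x y : Q) : ι (sub x y) = ι x - ι y := by
  ext <;> simp only [Quaternion.re_sub, Quaternion.imI_sub, Quaternion.imJ_sub, Quaternion.imK_sub, ι_re, ι_imI,
    ι_imJ, ι_imK, sub, Z5.toReal_sub] <;> ring

theorem ι_conj (x : Q) : ι (conj x) = star (ι x) := by
  ext <;> simp only [Quaternion.re_star, Quaternion.imI_star, Quaternion.imJ_star, Quaternion.imK_star, ι_re, ι_imI,
    ι_imJ, ι_imK, conj, Z5.toReal_neg] <;> ring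

theorem ι_mul (x y : Q) : ι (mul x y) = (2 : ℝ) • (ι x * ι y) := by
  ext <;> simp only [Quaternion.re_smul, Quaternion.imI_smul, Quaternion.imJ_smul, Quaternion.imK_smul,
    Quaternion.re_mul, Quaternion.imI_mul, Quaternion.imJ_mul, Quaternion.imK_mul, ι_re, ι_imI,
    ι_imJ, ι_imK, mul, Z5.toReal_add, Z5.toReal_sub, Z5.toReal_mul, smul_eq_mul] <;> ring

theorem ι_inj {x y : Q} (h : ι x = ι y) : x = y := by
  have h0 := congrArg QuaternionAlgebra.re h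
  have h1 := congrArg QuaternionAlgebra.imI h
  have h2 := congrArg QuaternionAlgebra.imJ h
  have h3 := congrArg QuaternionAlgebra.imK h
  simp only [ι_re, ι_imI, ι_imJ, ι_imK] at h0 h1 h2 h3
  have e0 : x.c0 = y.c0 := Z5.toReal_inj (by linarith)
  have e1 : x.c1 = y.c1 := Z5.toReal_inj (by linarith)
  have e2 : x.c2 = y.c2 := Z5.toReal_inj (by linarith)
  have e3 : x.c3 = y.c3 := Z5.toReal_inj (by linarith)
  cases x
  cases y
  simp only [mk.injEq]
  exact ⟨e0, e1, e2, e3⟩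

theorem normSq_ι (x : Q) : normSq (ι x) = (nrm x).toReal / 4 := by
  rw [Quaternion.normSq_def']
  simp only [ι_re, ι_imI, ι_imJ, ι_imK, nrm, Z5.toReal_add, Z5.toReal_mul]
  ring

end Q

end Cfsg.Agent.Helper22.Ico
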