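import Cfsg.Agent.Helper22.IcoQ

/-!
# The icosians in the model

An element of the model is an icosian if and only if its coefficients satisfy four parity conditions.
-/

set_option autoImplicit false

namespace Cfsg.Agent.Helper22.Ico

open Quaternion Cfsg.Spor

namespace Z5

/-- division by two -/
def halve (x : Z5) : Z5 := ⟨x.a / 2, x.b / 2⟩
/-- both coefficients are even -/
def isEven (x : Z5) : Bool := x.a % 2 == 0 && x.b % 2 == 0
/-- multiplication by an integer -/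
def zsmul (n : ℤ) (x : Z5) : Z5 := ⟨n * x.a, n * x.b⟩

theorem toReal_halve {x : Z5} (h : isEven x = true) : (halve x).toReal = x.toReal / 2 := by
  obtain ⟨a, b⟩ := x
  simp only [isEven, Bool.and_eq_true, beq_iff_eq] at h
  obtain ⟨k, hk⟩ : ∃ k, a = 2 * k := ⟨a / 2, by omega⟩
  obtain ⟨l, hl⟩ : ∃ l, b = 2 * l := ⟨b / 2, by omega⟩
  subst hk hl
  have e1 : 2 * k / 2 = k := by omega
  have e2 : 2 * l / 2 = l := by omega
  simp only [toReal, halve, e1, e2]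
  push_cast
  ring

theorem toReal_zsmul (n : ℤ) (x : Z5) : (zsmul n x).toReal = n * x.toReal := by
  simp only [toReal, zsmul]
  push_cast
  ring

end Z5

namespace Q

/-- division by two -/
def halve (x : Q) : Q := ⟨x.c0.halve, x.c1.halve, x.c2.halve, x.c3.halve⟩
/-- all coefficients are even -/
def isEven (x : Q) : Bool := x.c0.isEven && x.c1.isEven && x.c2.isEven && x.c3.isEven
/-- multiplication by an integer -/
def zsmul (n : ℤ) (x : Q) : Q := ⟨x.c0.zsmul n, x.c1.zsmul n, x.c2.zsmul n, x.c3.zsmul n⟩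

theorem ι_halve {x : Q} (h : isEven x = true) : ι (halve x) = (1 / 2 : ℝ) • ι x := by
  simp only [isEven, Bool.and_eq_true] at h
  obtain ⟨⟨⟨h0, h1⟩, h2⟩, h3⟩ := h
  ext <;> simp only [Quaternion.re_smul, Quaternion.imI_smul, Quaternion.imJ_smul, Quaternion.imK_smul, ι_re, ι_imI,
    ι_imJ, ι_imK, halve, Z5.toReal_halve h0, Z5.toReal_halve h1, Z5.toReal_halve h2, Z5.toReal_halve h3,
    smul_eq_mul] <;> ring

theorem ι_zsmul (n : ℤ) (x : Q) : ι (zsmul n x) = n • ι x := by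
  rw [← Int.cast_smul_eq_zsmul ℝ]
  ext <;> simp only [Quaternion.re_smul, Quaternion.imI_smul, Quaternion.imJ_smul, Quaternion.imK_smul, ι_re, ι_imI,
    ι_imJ, ι_imK, zsmul, Z5.toReal_zsmul, smul_eq_mul] <;> ring

/-- the parity conditions of the icosians -/
def inI (x : Q) : Bool :=
  (x.c0.a + x.c1.a + x.c2.a + x.c3.a) % 2 == 0 && (x.c0.b + x.c2.a + x.c2.b + x.c3.a) % 2 == 0 &&
    (x.c1.a + x.c1.b + x.c2.b + x.c3.a) % 2 == 0 && (x.c1.b + x.c2.a + x.c3.a + x.c3.b) % 2 == 0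

theorem inI_iff (x : Q) : inI x = true ↔
    (x.c0.a + x.c1.a + x.c2.a + x.c3.a) % 2 = 0 ∧ (x.c0.b + x.c2.a + x.c2.b + x.c3.a) % 2 = 0 ∧
      (x.c1.a + x.c1.b + x.c2.b + x.c3.a) % 2 = 0 ∧ (x.c1.b + x.c2.a + x.c3.a + x.c3.b) % 2 = 0 := by
  simp only [inI, Bool.and_eq_true, beq_iff_eq, and_assoc]

theorem inI_zero : inI zero = true := by decide

theorem inI_one : inI one = true := by decide

theorem inI_add {x y : Q} (hx : inI x = true) (hy : inI y = true) : inI (add x y) = true := by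
  rw [inI_iff] at hx hy ⊢
  simp only [add, Z5.add]
  omega

theorem inI_neg {x : Q} (hx : inI x = true) : inI (neg x) = true := by
  rw [inI_iff] at hx ⊢
  simp only [neg, Z5.neg]
  omega

theorem inI_sub {x y : Q} (hx : inI x = true) (hy : inI y = true) : inI (sub x y) = true := by
  rw [inI_iff] at hx hy ⊢
  simp only [sub, Z5.sub]
  omega

theorem inI_zsmul (n : ℤ) {x : Q} (hx : inI x = true) : inI (zsmul n x) = true := by
  rw [inI_iff] at hx ⊢
  simp only [zsmul, Z5.zsmul]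
  have e1 : n * x.c0.a + n * x.c1.a + n * x.c2.a + n * x.c3.a = n * (x.c0.a + x.c1.a + x.c2.a + x.c3.a) := by ring
  have e2 : n * x.c0.b + n * x.c2.a + n * x.c2.b + n * x.c3.a = n * (x.c0.b + x.c2.a + x.c2.b + x.c3.a) := by ring
  have e3 : n * x.c1.a + n * x.c1.b + n * x.c2.b + n * x.c3.a = n * (x.c1.a + x.c1.b + x.c2.b + x.c3.a) := by ring
  have e4 : n * x.c1.b + n * x.c2.a + n * x.c3.a + n * x.c3.b = n * (x.c1.b + x.c2.a + x.c3.a + x.c3.b) := by ring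
  rw [e1, e2, e3, e4]
  refine ⟨?_, ?_, ?_, ?_⟩ <;> rw [Int.mul_emod] <;> simp [hx.1, hx.2.1, hx.2.2.1, hx.2.2.2]

/-- the generator `i` -/
def gI : Q := ⟨⟨0, 0⟩, ⟨2, 0⟩, ⟨0, 0⟩, ⟨0, 0⟩⟩
/-- the generator `½ (1 + σ i + τ k)` -/
def gW : Q := ⟨⟨1, 0⟩, ⟨1, -1⟩, ⟨0, 0⟩, ⟨0, 1⟩⟩

theorem ι_gI : ι gI = qI := by
  ext <;> simp [ι_re, ι_imI, ι_imJ, ι_imK, gI, qI, Z5.toReal]

theorem ι_gW : ι gW = ⟨1 / 2, sig / 2, 0, tau / 2⟩ := by
  ext <;> simp [ι_re, ι_imI, ι_imJ, ι_imK, gW, Z5.toReal, sig_eq] <;> ring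

/-- the basis -/
def bas : Fin 8 → Q :=
  ![⟨⟨-1, 1⟩, ⟨0, -1⟩, ⟨0, 0⟩, ⟨-1, 0⟩⟩, ⟨⟨-1, 0⟩, ⟨0, 1⟩, ⟨1, -1⟩, ⟨0, 0⟩⟩, ⟨⟨-1, 0⟩, ⟨0, 0⟩, ⟨0, 1⟩, ⟨1, -1⟩⟩,
    ⟨⟨-1, 0⟩, ⟨0, 0⟩, ⟨0, 1⟩, ⟨-1, 1⟩⟩, ⟨⟨1, 0⟩, ⟨1, 0⟩, ⟨1, 0⟩, ⟨1, 0⟩⟩, ⟨⟨0, 0⟩, ⟨2, 0⟩, ⟨0, 0⟩, ⟨0, 0⟩⟩,
    ⟨⟨0, 0⟩, ⟨0, 0⟩, ⟨2, 0⟩, ⟨0, 0⟩⟩, ⟨⟨0, 0⟩, ⟨0, 0⟩, ⟨0, 0⟩, ⟨2, 0⟩⟩]

/-- the words of the elements of the basis in the two generators -/
def basWords : Fin 8 → List Bool :=
  ![[false, false, true, true, false, true, true], [false, true, true, false, true, false, true, true],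
    [true, false, true, true, false, true, false, true],
    [false, false, false, true, false, true, false, true, true, false, true, false],
    [false, false, false, true, false, true, false, true, true, false], [false],
    [false, true, false, true, true, false, true, false, true, true, false, true],
    [false, false, true, false, true, true, false, true, false, true, true, false, true]]

/-- the generators -/
def gen : Bool → Q
  | true => gW
  | false => gI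

/-- the product of a word, when all the intermediate products are integral -/
def evalW : Q → List Bool → Option Q
  | x, [] => some x
  | x, g :: w => if isEven (mul x (gen g)) then evalW (halve (mul x (gen g))) w else none

theorem evalW_bas : ∀ k, evalW one (basWords k) = some (bas k) := by decide +kernel

theorem gen_mem (g : Bool) : ι (gen g) ∈ icosians := by
  cases g
  · show ι gI ∈ icosians
    rw [ι_gI]
    exact Subring.subset_closure (Or.inl rfl)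
  · show ι gW ∈ icosians
    rw [ι_gW]
    exact Subring.subset_closure (Or.inr rfl)

theorem evalW_mem : ∀ (w : List Bool) (x y : Q), ι x ∈ icosians → evalW x w = some y → ι y ∈ icosians := by
  intro w
  induction w with
  | nil =>
    intro x y hx h
    simp only [evalW, Option.some.injEq] at h
    rwa [← h]
  | cons g w ih =>
    intro x y hx h
    simp only [evalW] at h
    split_ifs at h with he
    refine ih _ y ?_ h
    rw [ι_halve he, ι_mul, smul_smul]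
    norm_num
    exact Subring.mul_mem _ hx (gen_mem g)

theorem bas_mem (k : Fin 8) : ι (bas k) ∈ icosians :=
  evalW_mem _ one _ (by rw [ι_one]; exact Subring.one_mem _) (evalW_bas k)

/-- the integral combination of the elements of the basis -/
def comb (n : Fin 8 → ℤ) : Q :=
  add (zsmul (n 0) (bas 0)) (add (zsmul (n 1) (bas 1)) (add (zsmul (n 2) (bas 2)) (add (zsmul (n 3) (bas 3))
    (add (zsmul (n 4) (bas 4)) (add (zsmul (n 5) (bas 5)) (add (zsmul (n 6) (bas 6)) (zsmul (n 7) (bas 7))))))))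

theorem exists_comb {x : Q} (hx : inI x = true) : ∃ n : Fin 8 → ℤ, x = comb n := by
  rw [inI_iff] at hx
  obtain ⟨h1, h2, h3, h4⟩ := hx
  obtain ⟨⟨a0, b0⟩, ⟨a1, b1⟩, ⟨a2, b2⟩, ⟨a3, b3⟩⟩ := x
  simp only at h1 h2 h3 h4
  refine ⟨![b0, b0 + b1, (b0 + b1 + b2 - b3) / 2, (b0 + b1 + b2 + b3) / 2,
    a0 + b0 + (b0 + b1) + (b0 + b1 + b2 - b3) / 2 + (b0 + b1 + b2 + b3) / 2,
    (a1 - (a0 + b0 + (b0 + b1) + (b0 + b1 + b2 - b3) / 2 + (b0 + b1 + b2 + b3) / 2)) / 2,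
    (a2 - (b0 + b1) - (a0 + b0 + (b0 + b1) + (b0 + b1 + b2 - b3) / 2 + (b0 + b1 + b2 + b3) / 2)) / 2,
    (a3 + b0 - (b0 + b1 + b2 - b3) / 2 + (b0 + b1 + b2 + b3) / 2 -
      (a0 + b0 + (b0 + b1) + (b0 + b1 + b2 - b3) / 2 + (b0 + b1 + b2 + b3) / 2)) / 2], ?_⟩
  simp only [comb, bas, add, zsmul, Z5.add, Z5.zsmul, Matrix.cons_val_zero, Matrix.cons_val_one, Matrix.cons_val,
    mk.injEq, Z5.mk.injEq]
  refine ⟨⟨?_, ?_⟩, ⟨?_, ?_⟩, ⟨?_, ?_⟩, ⟨?_, ?_⟩⟩ <;> omega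

end Q

end Cfsg.Agent.Helper22.Ico
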