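import Cfsg.Agent.Helper22.IcoRing

/-!
# The icosians are the elements of the model satisfying the parity conditions
-/

set_option autoImplicit false

namespace Cfsg.Agent.Helper22.Ico

open Quaternion Cfsg.Spor

namespace Q

theorem ι_comb (n : Fin 8 → ℤ) : ι (comb n) = ∑ k, n k • ι (bas k) := by
  simp only [comb, ι_add, ι_zsmul, Fin.sum_univ_eight]
  abel

theorem inI_bas : ∀ k, inI (bas k) = true := by decide +kernel

theorem inI_comb (n : Fin 8 → ℤ) : inI (comb n) = true := by
  unfold comb
  exact inI_add (inI_zsmul _ (inI_bas 0)) (inI_add (inI_zsmul _ (inI_bas 1)) (inI_add (inI_zsmul _ (inI_bas 2))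
    (inI_add (inI_zsmul _ (inI_bas 3)) (inI_add (inI_zsmul _ (inI_bas 4)) (inI_add (inI_zsmul _ (inI_bas 5))
      (inI_add (inI_zsmul _ (inI_bas 6)) (inI_zsmul _ (inI_bas 7))))))))

/-- the span of the basis -/
noncomputable def L : AddSubgroup ℍ[ℝ] := AddSubgroup.closure (Set.range fun k => ι (bas k))

theorem mem_L_of_inI {x : Q} (hx : inI x = true) : ι x ∈ L := by
  obtain ⟨n, rfl⟩ := exists_comb hx
  rw [ι_comb]
  apply AddSubgroup.sum_mem
  intro k _
  exact AddSubgroup.zsmul_mem _ (AddSubgroup.subset_closure (Set.mem_range_self k)) _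

theorem exists_of_mem_L {y : ℍ[ℝ]} (hy : y ∈ L) : ∃ x, inI x = true ∧ y = ι x := by
  unfold L at hy
  induction hy using AddSubgroup.closure_induction with
  | mem y hy =>
    obtain ⟨k, rfl⟩ := hy
    exact ⟨bas k, inI_bas k, rfl⟩
  | zero => exact ⟨zero, inI_zero, ι_zero.symm⟩
  | add y z _ _ ihy ihz =>
    obtain ⟨x, hx, rfl⟩ := ihy
    obtain ⟨x', hx', rfl⟩ := ihz
    exact ⟨add x x', inI_add hx hx', (ι_add x x').symm⟩
  | neg y _ ih =>
    obtain ⟨x, hx, rfl⟩ := ih
    exact ⟨neg x, inI_neg hx, (ι_neg x).symm⟩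

theorem L_le : L ≤ icosians.toAddSubgroup := by
  unfold L
  rw [AddSubgroup.closure_le]
  rintro _ ⟨k, rfl⟩
  exact bas_mem k

theorem bas_mul : ∀ i j, (isEven (mul (bas i) (bas j)) && inI (halve (mul (bas i) (bas j)))) = true := by
  decide +kernel

theorem bas_mul_mem (i j : Fin 8) : ι (bas i) * ι (bas j) ∈ L := by
  have h := bas_mul i j
  rw [Bool.and_eq_true] at h
  have e : ι (bas i) * ι (bas j) = ι (halve (mul (bas i) (bas j))) := by
    rw [ι_halve h.1, ι_mul, smul_smul]
    norm_num
  rw [e]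
  exact mem_L_of_inI h.2

theorem L_mul_mem {y z : ℍ[ℝ]} (hy : y ∈ L) (hz : z ∈ L) : y * z ∈ L := by
  unfold L at hy
  induction hy using AddSubgroup.closure_induction with
  | mem y hy =>
    obtain ⟨i, rfl⟩ := hy
    unfold L at hz
    induction hz using AddSubgroup.closure_induction with
    | mem z hz =>
      obtain ⟨j, rfl⟩ := hz
      exact bas_mul_mem i j
    | zero => rw [mul_zero]; exact L.zero_mem
    | add z z' _ _ ih ih' => rw [mul_add]; exact L.add_mem ih ih'
    | neg z _ ih => rw [mul_neg]; exact L.neg_mem ih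
  | zero => rw [zero_mul]; exact L.zero_mem
  | add y y' _ _ ih ih' => rw [add_mul]; exact L.add_mem ih ih'
  | neg y _ ih => rw [neg_mul]; exact L.neg_mem ih

/-- the span of the basis as a subring -/
noncomputable def LR : Subring ℍ[ℝ] where
  carrier := L
  mul_mem' := L_mul_mem
  one_mem' := by
    have := mem_L_of_inI inI_one
    rwa [ι_one] at this
  add_mem' := L.add_mem
  zero_mem' := L.zero_mem
  neg_mem' := L.neg_mem

theorem inI_gI : inI gI = true := by decide

theorem inI_gW : inI gW = true := by decide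

theorem icosians_le : icosians ≤ LR := by
  unfold icosians
  rw [Subring.closure_le]
  rintro y (rfl | hy)
  · rw [← ι_gI]
    exact mem_L_of_inI inI_gI
  · have hy' : y = ι gW := by
      rw [ι_gW]
      exact hy
    rw [hy']
    exact mem_L_of_inI inI_gW

/-- the icosians are the elements of the model with the parity conditions -/
theorem mem_icosians_iff (y : ℍ[ℝ]) : y ∈ icosians ↔ ∃ x, inI x = true ∧ y = ι x := by
  constructor
  · intro hy
    exact exists_of_mem_L (icosians_le hy)
  · rintro ⟨x, hx, rfl⟩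
    exact L_le (mem_L_of_inI hx)

theorem ι_mem {x : Q} (hx : inI x = true) : ι x ∈ icosians := (mem_icosians_iff _).mpr ⟨x, hx, rfl⟩

/-- the product of two icosians in the model -/
def mulI (x y : Q) : Q := halve (mul x y)

theorem mulI_spec {x y : Q} (hx : inI x = true) (hy : inI y = true) :
    isEven (mul x y) = true ∧ inI (mulI x y) = true ∧ ι (mulI x y) = ι x * ι y := by
  obtain ⟨z, hz, hxy⟩ := (mem_icosians_iff _).mp (Subring.mul_mem _ (ι_mem hx) (ι_mem hy))
  have e : mul x y = add z z := by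
    apply ι_inj
    rw [ι_mul, ι_add, hxy, two_smul]
  have hev : isEven (add z z) = true := by
    simp only [isEven, Z5.isEven, add, Z5.add, Bool.and_eq_true, beq_iff_eq]
    omega
  have hh : halve (add z z) = z := by
    obtain ⟨⟨a0, b0⟩, ⟨a1, b1⟩, ⟨a2, b2⟩, ⟨a3, b3⟩⟩ := z
    simp only [halve, Z5.halve, add, Z5.add, mk.injEq, Z5.mk.injEq]
    omega
  unfold mulI
  rw [e]
  exact ⟨hev, by rw [hh]; exact hz, by rw [hh, hxy]⟩

end Q

end Cfsg.Agent.Helper22.Ico
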