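import Mathlib
import Cfsg.Prelude.Def_Spor_J2

/-!
# A computable model of the icosians

`Z5` is the ring `ℤ[τ]` (pairs `a + b τ`), `Q` is the set of quaternions `½ (c₀ + c₁ i + c₂ j + c₃ k)` with
`c_t ∈ ℤ[τ]`; `Q.ι` maps them to the real quaternions.  No algebraic structure is proved on the model: all identities
are transported along the injective map `ι`.
-/

set_option autoImplicit false

namespace Cfsg.Agent.Helper22.Ico

open Quaternion Cfsg.Spor

theorem sqrt5_sq : Real.sqrt 5 * Real.sqrt 5 = 5 := Real.mul_self_sqrt (by norm_num)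

theorem tau_sq : tau * tau = tau + 1 := by
  unfold tau
  linear_combination (1 / 4 : ℝ) * sqrt5_sq

theorem sig_eq : sig = 1 - tau := by
  unfold sig tau
  ring

theorem sqrt5_eq : Real.sqrt 5 = 2 * tau - 1 := by
  unfold tau
  ring

theorem irrational_tau : Irrational tau := by
  have h5 : Irrational (Real.sqrt 5) := by
    have := Nat.Prime.irrational_sqrt (show Nat.Prime 5 by norm_num)
    simpa using this
  have h : tau = ((1 / 2 : ℚ) : ℝ) + ((1 / 2 : ℚ) : ℝ) * Real.sqrt 5 := by
    unfold tau
    push_cast
    ring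
  rw [h]
  exact (h5.ratCast_mul (by norm_num)).ratCast_add _

/-- the ring `ℤ[τ]` -/
structure Z5 where
  /-- the rational part -/
  a : ℤ
  /-- the coefficient of `τ` -/
  b : ℤ
deriving DecidableEq

namespace Z5

/-- addition -/
def add (x y : Z5) : Z5 := ⟨x.a + y.a, x.b + y.b⟩
/-- negation -/
def neg (x : Z5) : Z5 := ⟨-x.a, -x.b⟩
/-- subtraction -/
def sub (x y : Z5) : Z5 := ⟨x.a - y.a, x.b - y.b⟩
/-- multiplication -/
def mul (x y : Z5) : Z5 := ⟨x.a * y.a + x.b * y.b, x.a * y.b + x.b * y.a + x.b * y.b⟩
/-- the Galois conjugate -/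
def gal (x : Z5) : Z5 := ⟨x.a + x.b, -x.b⟩

/-- the real number -/
noncomputable def toReal (x : Z5) : ℝ := x.a + x.b * tau

theorem toReal_add (x y : Z5) : (add x y).toReal = x.toReal + y.toReal := by
  simp only [toReal, add]
  push_cast
  ring

theorem toReal_neg (x : Z5) : (neg x).toReal = -x.toReal := by
  simp only [toReal, neg]
  push_cast
  ring

theorem toReal_sub (x y : Z5) : (sub x y).toReal = x.toReal - y.toReal := by
  simp only [toReal, sub]
  push_cast
  ring

theorem toReal_mul (x y : Z5) : (mul x y).toReal = x.toReal * y.toReal := by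
  simp only [toReal, mul]
  push_cast
  linear_combination (-(x.b : ℝ) * y.b) * tau_sq

theorem toReal_inj {x y : Z5} (h : x.toReal = y.toReal) : x = y := by
  have hb : x.b = y.b := by
    by_contra hne
    have hne' : ((x.b : ℝ) - y.b) ≠ 0 := by
      intro h0
      apply hne
      have : (x.b : ℝ) = y.b := by linarith
      exact_mod_cast this
    have ht : tau = ((y.a - x.a : ℤ) : ℝ) / ((x.b - y.b : ℤ) : ℝ) := by
      unfold toReal at h
      push_cast
      field_simp
      linarith
    have hq : tau = (((y.a - x.a : ℤ) / (x.b - y.b : ℤ) : ℚ) : ℝ) := by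
      rw [ht]
      push_cast
      rfl
    exact irrational_tau.ne_rat _ hq
  have ha : x.a = y.a := by
    unfold toReal at h
    rw [hb] at h
    have : (x.a : ℝ) = y.a := by linarith
    exact_mod_cast this
  cases x
  cases y
  simp only [mk.injEq]
  exact ⟨ha, hb⟩

theorem gal_mul (x y : Z5) : gal (mul x y) = mul (gal x) (gal y) := by
  simp only [gal, mul, mk.injEq]
  constructor <;> ring

theorem gal_add (x y : Z5) : gal (add x y) = add (gal x) (gal y) := by
  simp only [gal, add, mk.injEq]
  constructor <;> ring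

end Z5

end Cfsg.Agent.Helper22.Ico
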