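import Cfsg.Agent.Helper22.StabOrbits

/-!
The sum-of-squares invariant of a set of points against a family of sets.
-/

set_option autoImplicit false

namespace Cfsg.Agent.Helper22.StabOrbits

open Cfsg
open scoped Pointwise

/-- `∑_{a ∈ A} |o ∩ a|²` -/
def invTO (A : Finset (Finset GolayPt)) (o : Finset GolayPt) : ℕ := A.sum (fun a => (o ∩ a).card ^ 2)

theorem invTO_smul (g : Equiv.Perm GolayPt) (A : Finset (Finset GolayPt)) (o : Finset GolayPt) :
    invTO (g • A) (g • o) = invTO A o := by
  unfold invTO
  rw [sum_smul_family]
  apply Finset.sum_congr rfl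
  intro a _
  rw [← Finset.smul_finset_inter, Finset.card_smul_finset]

theorem invS_eq (A X : Finset (Finset GolayPt)) : invS A X = X.sum (invTO A) := rfl

end Cfsg.Agent.Helper22.StabOrbits
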