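import Cfsg.Agent.Helper22.J2Data
import Cfsg.Agent.Helper22.PrimSimple

/-!
# A simple group of order 604800 of permutations of a hundred points
-/

set_option autoImplicit false

namespace Cfsg.Agent.Helper22.J2Simple

open Cfsg.Agent.Helper22.PermChain Cfsg.Agent.Helper22.J2Data Cfsg.Agent.Helper22.PrimSimple MulAction

theorem gens_good : ∀ y ∈ gens, goodB y = true := by
  have h : gens.all goodB = true := by decide +kernel
  exact fun y hy => List.all_eq_true.mp h y hy

theorem chain_ok : chainOK gens levels = true := by decide +kernel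

theorem prod_levels : (levels.map fun L => L.orb.length).prod = 604800 := by decide +kernel

/-- the group -/
noncomputable def G : Subgroup Pm := Grp gens

theorem card_G : Nat.card G = 604800 := by
  rw [← prod_levels]
  exact (chain_sound levels gens gens_good chain_ok).1

theorem path_mem (p : List ℕ) (hp : pathValid levels p = true) : ∃ g ∈ G, Rep (pathLook levels p) g :=
  (chain_sound levels gens gens_good chain_ok).2 p hp

/-- the generators fixing the first base point -/
def gens1 : List ℕ := gens.filter fun y => look y 0 == 0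

/-- the lower levels -/
def tail : List Lvl := [L1, L2, L3]

theorem gens1_sub : ∀ y ∈ gens1, y ∈ gens := fun _ hy => (List.mem_filter.mp hy).1

theorem gens1_good : ∀ y ∈ gens1, goodB y = true := fun y hy => gens_good y (gens1_sub y hy)

theorem gens1_fix : ∀ y ∈ gens1, look y 0 = 0 := fun y hy => by simpa using (List.mem_filter.mp hy).2

theorem chain_ok1 : chainOK gens1 tail = true := by decide +kernel

/-- the point stabiliser -/
noncomputable def G1 : Subgroup Pm := Grp gens1

theorem G1_le : G1 ≤ G := Grp_mono gens1_sub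

theorem G1_fix : ∀ g ∈ G1, g (0 : Fin 100) = 0 := Grp_fix gens1_good (by norm_num) gens1_fix

theorem path_mem1 (p : List ℕ) (hp : pathValid tail p = true) : ∃ g ∈ G1, Rep (pathLook tail p) g :=
  (chain_sound tail gens1 gens1_good chain_ok1).2 p hp

/-! ### Transitivity -/

/-- the check of the transitivity -/
def transB : Bool := all100 fun γ => pathValid levels [γ, 1, 2, 3] && pathLook levels [γ, 1, 2, 3] 0 == γ

theorem trans_ok : transB = true := by decide +kernel

theorem exists_map (γ : Fin 100) : ∃ g ∈ G, g 0 = γ := by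
  have h := all100_spec trans_ok γ.1 γ.2
  rw [Bool.and_eq_true] at h
  obtain ⟨g, hg, hrep⟩ := path_mem _ h.1
  refine ⟨g, hg, Fin.ext ?_⟩
  rw [hrep]
  exact beq_iff_eq.mp h.2

instance : IsPretransitive ↥G (Fin 100) := by
  refine ⟨fun x y => ?_⟩
  obtain ⟨g, hg, hgx⟩ := exists_map x
  obtain ⟨g', hg', hgy⟩ := exists_map y
  refine ⟨⟨g' * g⁻¹, G.mul_mem hg' (G.inv_mem hg)⟩, ?_⟩
  show (g' * g⁻¹) x = y
  rw [← hgx, ← hgy]
  simp

/-! ### Primitivity -/

/-- the label of a point -/
def lab (γ : ℕ) : ℕ := labs.getD γ 0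

/-- the representatives of the two orbits of the point stabiliser -/
def root (l : ℕ) : ℕ := if l = 1 then 1 else 7

/-- the check of the orbits of the point stabiliser -/
def primB : Bool := all100 fun γ =>
  if γ == 0 then lab γ == 0 else
    ((lab γ == 1 || lab γ == 2) && pathValid tail (pps.getD γ []) &&
      pathLook tail (pps.getD γ []) (root (lab γ)) == γ)

theorem prim_ok : primB = true := by decide +kernel

theorem root_lt (l : ℕ) : root l < 100 := by
  unfold root
  split <;> norm_num

theorem prim_spec (γ : Fin 100) (hγ : γ ≠ 0) : (lab γ.1 = 1 ∨ lab γ.1 = 2) ∧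
    ∃ g ∈ G1, g ⟨root (lab γ.1), root_lt _⟩ = γ := by
  have h := all100_spec prim_ok γ.1 γ.2
  have hne : (γ.1 == 0) = false := by
    rw [beq_eq_false_iff_ne]
    intro h0
    exact hγ (Fin.ext h0)
  rw [hne] at h
  simp only [Bool.false_eq_true, if_false, Bool.and_eq_true, Bool.or_eq_true, beq_iff_eq] at h
  obtain ⟨⟨h1, h2⟩, h3⟩ := h
  refine ⟨h1, ?_⟩
  obtain ⟨g, hg, hrep⟩ := path_mem1 _ h2
  refine ⟨g, hg, Fin.ext ?_⟩
  rw [hrep]
  exact h3

theorem lab_zero : lab 0 = 0 := by decide +kernel

/-- the labelling function -/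
def f (y : Fin 100) : Fin 3 := ⟨lab y.1 % 3, Nat.mod_lt _ (by norm_num)⟩

theorem f_zero : f 0 = 0 := by decide +kernel

theorem f_eq_zero_iff (y : Fin 100) : f y = 0 ↔ y = 0 := by
  constructor
  · intro h
    by_contra hne
    obtain ⟨h1, -⟩ := prim_spec y hne
    have h2 : lab y.1 % 3 = 0 := congrArg Fin.val h
    omega
  · rintro rfl
    exact f_zero

instance : IsPreprimitive ↥G (Fin 100) := by
  apply isPreprimitive_of_labels (0 : Fin 100) f ![1, 63, 36]
  · intro y y' hyy
    by_cases hy : y = 0
    · subst hy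
      rw [f_zero] at hyy
      have hy' : y' = 0 := (f_eq_zero_iff y').mp hyy.symm
      subst hy'
      exact ⟨1, Subgroup.one_mem _, one_smul _ _⟩
    · have hy' : y' ≠ 0 := by
        intro h0
        subst h0
        rw [f_zero] at hyy
        exact hy ((f_eq_zero_iff y).mp hyy)
      obtain ⟨l1, g, hg, hgy⟩ := prim_spec y hy
      obtain ⟨l1', g', hg', hgy'⟩ := prim_spec y' hy'
      have hlab : lab y.1 = lab y'.1 := by
        have h2 : lab y.1 % 3 = lab y'.1 % 3 := congrArg Fin.val hyy
        omega
      have hmem : g' * g⁻¹ ∈ G1 := G1.mul_mem hg' (G1.inv_mem hg)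
      refine ⟨⟨g' * g⁻¹, G1_le hmem⟩, ?_, ?_⟩
      · rw [mem_stabilizer_iff]
        exact G1_fix _ hmem
      · show (g' * g⁻¹) y = y'
        have hroot : (⟨root (lab y.1), root_lt _⟩ : Fin 100) = ⟨root (lab y'.1), root_lt _⟩ := by
          apply Fin.ext
          show root (lab y.1) = root (lab y'.1)
          rw [hlab]
        rw [← hgy, ← hgy', hroot]
        show g' (g.symm (g _)) = g' _
        rw [Equiv.symm_apply_apply]
  · intro i
    have h1 : {y : Fin 100 | f y = i} = ↑(Finset.univ.filter fun y : Fin 100 => f y = i) := by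
      ext y
      simp
    rw [h1, Set.ncard_coe_finset]
    fin_cases i <;> decide +kernel
  · rw [f_zero]
    rfl
  · rw [f_zero, Nat.card_eq_fintype_card, Fintype.card_fin]
    decide

/-! ### The elements of order five -/

/-- the check of the factorisations of the generators -/
def fiveB : Bool := (List.range gens.length).all fun j =>
  pathValid levels (fives.getD j ([], [])).1 && pathValid levels (fives.getD j ([], [])).2 &&
    (all100 fun i => pathLook levels (fives.getD j ([], [])).1 (pathLook levels (fives.getD j ([], [])).1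
      (pathLook levels (fives.getD j ([], [])).1 (pathLook levels (fives.getD j ([], [])).1
        (pathLook levels (fives.getD j ([], [])).1 i)))) == i) &&
    (all100 fun i => pathLook levels (fives.getD j ([], [])).2 (pathLook levels (fives.getD j ([], [])).2
      (pathLook levels (fives.getD j ([], [])).2 (pathLook levels (fives.getD j ([], [])).2
        (pathLook levels (fives.getD j ([], [])).2 i)))) == i) &&
    (all100 fun i => look (gens.getD j 0) i ==
      pathLook levels (fives.getD j ([], [])).1 (pathLook levels (fives.getD j ([], [])).2 i))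

theorem five_ok : fiveB = true := by decide +kernel

theorem pow_five_of_rep {fn : ℕ → ℕ} {g : Pm} (h : Rep fn g) (h5 : ∀ i < 100, fn (fn (fn (fn (fn i)))) = i) :
    g ^ 5 = 1 := by
  have h1 : g ^ 5 = g * (g * (g * (g * g))) := by
    rw [pow_succ, pow_succ, pow_succ, pow_succ, pow_one]
    simp only [mul_assoc]
  rw [h1]
  apply rep_unique (rep_mul h (rep_mul h (rep_mul h (rep_mul h h))))
  apply rep_congr rep_one
  intro i hi
  exact h5 i hi

theorem five_spec (y : ℕ) (hy : y ∈ gens) : ∃ u ∈ G, ∃ v ∈ G, u ^ 5 = 1 ∧ v ^ 5 = 1 ∧ P y = u * v := by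
  obtain ⟨j, hj, hjy⟩ := List.mem_iff_getElem.mp hy
  have h := List.all_eq_true.mp five_ok j (List.mem_range.mpr hj)
  rw [List.getD_eq_getElem _ _ hj, hjy] at h
  simp only [Bool.and_eq_true] at h
  obtain ⟨⟨⟨⟨h1, h2⟩, h3⟩, h4⟩, h5⟩ := h
  obtain ⟨u, hu, hurep⟩ := path_mem _ h1
  obtain ⟨v, hv, hvrep⟩ := path_mem _ h2
  refine ⟨u, hu, v, hv, ?_, ?_, ?_⟩
  · exact pow_five_of_rep hurep (fun i hi => beq_iff_eq.mp (all100_spec h3 i hi))
  · exact pow_five_of_rep hvrep (fun i hi => beq_iff_eq.mp (all100_spec h4 i hi))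
  · apply rep_unique (rep_P (gens_good y hy))
    apply rep_congr (rep_mul hurep hvrep)
    intro i hi
    exact beq_iff_eq.mp (all100_spec h5 i hi)

/-! ### Simplicity -/

instance : Finite ↥G := Nat.finite_of_card_ne_zero (by rw [card_G]; norm_num)

theorem simple_G : IsSimpleGroup ↥G := by
  have hnt : Nontrivial ↥G := Finite.one_lt_card_iff_nontrivial.mp (by rw [card_G]; norm_num)
  refine ⟨fun N hNn => ?_⟩
  by_cases hbot : N = ⊥
  · exact Or.inl hbot
  right
  have hNt : IsPretransitive N (Fin 100) := normal_transitive N hbot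
  -- the index is prime to five
  have h100 : 100 ∣ Nat.card N := by
    have h1 := MulAction.index_stabilizer N (0 : Fin 100)
    have h3 : orbit N (0 : Fin 100) = Set.univ := MulAction.orbit_eq_univ N _
    rw [h3, Set.ncard_univ, Nat.card_eq_fintype_card, Fintype.card_fin] at h1
    have h4 := Subgroup.index_dvd_card (stabilizer N (0 : Fin 100))
    rwa [h1] at h4
  have hidx : N.index ∣ 6048 := by
    obtain ⟨m, hm⟩ := h100
    have h1 := Subgroup.card_mul_index N
    rw [card_G, hm] at h1
    exact ⟨m, by nlinarith⟩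
  have hcop : Nat.Coprime N.index 5 := Nat.Coprime.coprime_dvd_left hidx (by norm_num)
  have hfive : ∀ u : ↥G, u ^ 5 = 1 → u ∈ N := by
    intro u hu
    have h1 : ((u : ↥G) : ↥G ⧸ N) ^ 5 = 1 := by rw [← QuotientGroup.mk_pow, hu, QuotientGroup.mk_one]
    have h2 : ((u : ↥G) : ↥G ⧸ N) ^ N.index = 1 := by
      rw [← QuotientGroup.mk_pow]
      exact (QuotientGroup.eq_one_iff _).mpr (Subgroup.pow_index_mem N u)
    have h3 : orderOf ((u : ↥G) : ↥G ⧸ N) ∣ Nat.gcd N.index 5 :=
      Nat.dvd_gcd (orderOf_dvd_of_pow_eq_one h2) (orderOf_dvd_of_pow_eq_one h1)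
    rw [hcop, Nat.dvd_one, orderOf_eq_one_iff] at h3
    exact (QuotientGroup.eq_one_iff u).mp h3
  -- the generators lie in the normal subgroup
  have hgen : ∀ y ∈ gens, P y ∈ N.map G.subtype := by
    intro y hy
    obtain ⟨u, hu, v, hv, hu5, hv5, huv⟩ := five_spec y hy
    have hu' : (⟨u, hu⟩ : ↥G) ∈ N := hfive _ (Subtype.ext hu5)
    have hv' : (⟨v, hv⟩ : ↥G) ∈ N := hfive _ (Subtype.ext hv5)
    exact ⟨⟨u, hu⟩ * ⟨v, hv⟩, N.mul_mem hu' hv', huv.symm⟩
  have hle : G ≤ N.map G.subtype := by
    unfold G Grp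
    rw [Subgroup.closure_le]
    rintro g ⟨y, hy, rfl⟩
    exact hgen y hy
  rw [eq_top_iff]
  intro g _
  obtain ⟨n, hn, hng⟩ := hle g.2
  have h1 : n = g := Subtype.ext hng
  rwa [← h1]

/-- there is a simple group of order 604800 of permutations of a hundred points -/
theorem exists_J2 : ∃ H : Subgroup (Equiv.Perm (Fin 100)), IsSimpleGroup ↥H ∧ Nat.card ↥H = 604800 :=
  ⟨G, simple_G, card_G⟩

end Cfsg.Agent.Helper22.J2Simple
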