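import Cfsg.Agent.Helper27.LeechCount

/-!
# Counting lattice vectors of given sum of squares by the class of their residues
-/

set_option autoImplicit false

namespace Cfsg.Agent.Helper22.LeechShapes

open Cfsg Cfsg.Agent.Helper27

/-- `x` lies in the class of parity `m` and codeword number `k` -/
def InClass (x : GolayPt → ℤ) (m : ℤ) (k : ℕ) : Prop :=
  ∀ p, x p % 4 = (m + 2 * bitZ (cw k) (idx p)) % 4

theorem parity_of_inClass {x : GolayPt → ℤ} {m m' : ℤ} {k k' : ℕ} (hm : m = 0 ∨ m = 1) (hm' : m' = 0 ∨ m' = 1)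
    (h : InClass x m k) (h' : InClass x m' k') : m = m' := by
  have a := h (pt 0)
  have b := h' (pt 0)
  rw [a] at b
  have hb1 := bitZ_cases (cw k) (idx (pt 0))
  have hb2 := bitZ_cases (cw k') (idx (pt 0))
  omega

/-- the lattice vectors of sum of squares `N ≤ 64` in a set of classes -/
theorem ncard_classes (N : ℤ) (hN : N ≤ 64) (S : Finset (ℤ × ℕ))
    (hS : S ⊆ ({0, 1} : Finset ℤ) ×ˢ Finset.range 4096) :
    {x : GolayPt → ℤ | x ∈ leechLattice ∧ sqNorm x = N ∧ ∃ mk ∈ S, InClass x mk.1 mk.2}.ncard =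
      ∑ mk ∈ S, cnt (canon mk.1 (popc 24 (cw mk.2))) N (4 * mk.1) := by
  classical
  let E : (Fin 24 → ℤ) ≃ (GolayPt → ℤ) := ptE.arrowCongr (Equiv.refl ℤ)
  let F : Finset (Fin 24 → ℤ) := S.biUnion fun mk => vecs 24 (resF mk.1 mk.2) N (4 * mk.1)
  have hset : {x : GolayPt → ℤ | x ∈ leechLattice ∧ sqNorm x = N ∧ ∃ mk ∈ S, InClass x mk.1 mk.2} =
      ↑(F.map E.toEmbedding) := by
    ext x
    rw [Finset.mem_coe, Finset.mem_map_equiv, Finset.mem_biUnion]
    have hE : E.symm x = fun i : Fin 24 => x (pt i) := rfl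
    rw [hE]
    constructor
    · rintro ⟨hx, hn, ⟨m, k⟩, hmk, hcl⟩
      obtain ⟨m', hm', k', hk', hres, hsum⟩ := (mem_leech_iff_res x).mp hx
      have hmk' := Finset.mem_product.mp (hS hmk)
      have e1 : m = 0 ∨ m = 1 := by simpa using hmk'.1
      have e2 : m' = 0 ∨ m' = 1 := by simpa using hm'
      have hmm : m = m' := parity_of_inClass e1 e2 hcl hres
      refine ⟨(m, k), hmk, ?_⟩
      rw [mem_vecs_comp]
      refine ⟨?_, hcl, hn, hmm ▸ hsum⟩
      intro p
      have h1 : x p ^ 2 ≤ sqNorm x :=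
        Finset.single_le_sum (f := fun p => x p ^ 2) (fun i _ => sq_nonneg _) (Finset.mem_univ p)
      rw [Finset.mem_Icc]
      constructor <;> nlinarith
    · rintro ⟨⟨m, k⟩, hmk, hv⟩
      rw [mem_vecs_comp] at hv
      obtain ⟨hm, hk⟩ := Finset.mem_product.mp (hS hmk)
      exact ⟨(mem_leech_iff_res x).mpr ⟨m, hm, k, hk, hv.2.1, hv.2.2.2⟩, hv.2.2.1, (m, k), hmk, hv.2.1⟩
  rw [hset, Set.ncard_coe_finset, Finset.card_map, Finset.card_biUnion]
  · apply Finset.sum_congr rfl
    intro mk _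
    rw [card_vecs 24 _ _ _]
    exact cnt_perm (resF_perm mk.1 mk.2) _ _
  · rintro ⟨m, k⟩ hmk ⟨m', k'⟩ hmk' hne
    have h1 := Finset.mem_product.mp (hS hmk)
    have h2 := Finset.mem_product.mp (hS hmk')
    exact vecs_disjoint N h1.1 h2.1 (Finset.mem_range.mp h1.2) (Finset.mem_range.mp h2.2) hne

/-- classes of parity `m` whose codeword has a weight with the property `P` -/
def classSet (m : ℕ) (P : ℕ → Bool) : Finset (ℤ × ℕ) :=
  ((Finset.range 4096).filter (fun k => P (popc 24 (cw k)) = true)).image (fun k => ((m : ℤ), k))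

theorem mem_classSet {m : ℕ} {P : ℕ → Bool} {mk : ℤ × ℕ} :
    mk ∈ classSet m P ↔ mk.1 = (m : ℤ) ∧ mk.2 < 4096 ∧ P (popc 24 (cw mk.2)) = true := by
  obtain ⟨a, k⟩ := mk
  simp only [classSet, Finset.mem_image, Finset.mem_filter, Finset.mem_range, Prod.mk.injEq]
  constructor
  · rintro ⟨k', ⟨h1, h2⟩, rfl, rfl⟩
    exact ⟨rfl, h1, h2⟩
  · rintro ⟨rfl, h1, h2⟩
    exact ⟨k, ⟨h1, h2⟩, rfl, rfl⟩

theorem classSet_sub {m : ℕ} (hm : m < 2) (P : ℕ → Bool) :
    classSet m P ⊆ ({0, 1} : Finset ℤ) ×ˢ Finset.range 4096 := by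
  intro mk h
  obtain ⟨h1, h2, _⟩ := mem_classSet.mp h
  rw [Finset.mem_product, Finset.mem_range, h1]
  refine ⟨?_, h2⟩
  interval_cases m <;> simp

/-- the count over the classes of parity `m` with a weight property, in computable form -/
theorem ncard_classSet (n : ℕ) (hn : n < 65) (m : ℕ) (hm : m < 2) (P : ℕ → Bool) (g : ℕ → ℕ → ℕ)
    (hg : ∀ a b c d : ℕ, (mkRow a b c d).getD n 0 = if n = 32 then b else if n = 48 then c else if n = 64 then d else
      if n = 0 then a else 0)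
    (hg' : ∀ m w, g m w = if n = 32 then g32 m w else if n = 48 then g48 m w else if n = 64 then g64 m w else
      if n = 0 then (if m = 0 ∧ w = 0 then 1 else 0) else 0) :
    {x : GolayPt → ℤ | x ∈ leechLattice ∧ sqNorm x = (n : ℤ) ∧ ∃ mk ∈ classSet m P, InClass x mk.1 mk.2}.ncard =
      sumBelow (fun k => if P (popc 24 (cw k)) then g m (popc 24 (cw k)) else 0) 4096 := by
  rw [ncard_classes (n : ℤ) (by omega) _ (classSet_sub hm P), classSet, Finset.sum_image, Finset.sum_filter,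
    sumBelow_eq]
  · apply Finset.sum_congr rfl
    intro k hk
    split_ifs with h
    · rw [cnt_canon hm (Finset.mem_range.mp hk) hn, hg, hg']
    · rfl
  · intro a _ b _ hab
    exact (Prod.mk.inj hab).2

theorem sq_le_sqNorm (x : GolayPt → ℤ) (p : GolayPt) : x p ^ 2 ≤ sqNorm x :=
  Finset.single_le_sum (f := fun p => x p ^ 2) (fun i _ => sq_nonneg _) (Finset.mem_univ p)

theorem sum_bitZ (n : ℕ) : ∑ p : GolayPt, bitZ n (idx p) = (popc 24 n : ℤ) := by
  rw [popc_eq_sum, ← Equiv.sum_comp ptE, Finset.sum_range]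
  push_cast
  apply Finset.sum_congr rfl
  intro i _
  show bitZ n (idx (pt i)) = _
  rw [idx_pt i.2, bitZ]

/-! ### integer facts -/

theorem int_bound {a N : ℤ} (h : a ^ 2 ≤ N) (hN : N ≤ 48) : -6 ≤ a ∧ a ≤ 6 := by
  constructor <;> nlinarith

theorem L1 {a b : ℤ} (hb : b = 0 ∨ b = 1) (h : a % 4 = (2 * b) % 4) : 4 * b ≤ a ^ 2 := by
  rcases hb with rfl | rfl
  · nlinarith [sq_nonneg a]
  · have : a ≤ -2 ∨ 2 ≤ a := by omega
    rcases this with h1 | h1 <;> nlinarith

theorem L2 {a b : ℤ} (hb : b = 0 ∨ b = 1) (he : a ^ 2 = 4 * b) : a = 0 ∨ a = 2 ∨ a = -2 := by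
  have hbd : -6 ≤ a ∧ a ≤ 6 := int_bound (N := 4) (by rcases hb with rfl | rfl <;> omega) (by norm_num)
  obtain ⟨h1, h2⟩ := hbd
  rcases hb with rfl | rfl <;> interval_cases a <;> omega

theorem L3 {a b : ℤ} (hb : b = 0 ∨ b = 1) (h : a % 4 = (2 * b) % 4) (hne : ¬ |a| = 4) :
    a ^ 2 - 4 * b = 0 ∨ 32 ≤ a ^ 2 - 4 * b := by
  by_cases hbd : -8 < a ∧ a < 8
  · obtain ⟨h1, h2⟩ := hbd
    rcases hb with rfl | rfl <;> interval_cases a <;> simp_all
  · right
    have : a ≤ -8 ∨ 8 ≤ a := by omega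
    rcases hb with rfl | rfl <;> rcases this with h1 | h1 <;> nlinarith

theorem L4 {a : ℤ} (h : a % 2 = 1) : 0 ≤ a ^ 2 - 1 := by
  have : a ≤ -1 ∨ 1 ≤ a := by omega
  rcases this with h1 | h1 <;> nlinarith

theorem L5 {a : ℤ} (h : a % 2 = 1) (hle : a ^ 2 - 1 ≤ 24) (h5 : ¬ |a| = 5) :
    a ^ 2 - 1 = if |a| = 3 then 8 else 0 := by
  have hbd : -6 ≤ a ∧ a ≤ 6 := int_bound (N := 25) (by omega) (by norm_num)
  obtain ⟨h1, h2⟩ := hbd
  interval_cases a <;> simp_all

theorem L6 {a : ℤ} (h : a % 2 = 1) (h3 : ¬ |a| = 3) : a ^ 2 - 1 = 0 ∨ 24 ≤ a ^ 2 - 1 := by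
  by_cases hbd : -5 < a ∧ a < 5
  · obtain ⟨h1, h2⟩ := hbd
    interval_cases a <;> simp_all
  · right
    have : a ≤ -5 ∨ 5 ≤ a := by omega
    rcases this with h1 | h1 <;> nlinarith


theorem L7 {a : ℤ} (h : a % 4 = 0) : (32 : ℤ) ∣ a ^ 2 - 4 * a := by
  obtain ⟨c, rfl⟩ : ∃ c, a = 4 * c := ⟨a / 4, by omega⟩
  rcases Int.even_or_odd' c with ⟨e, rfl | rfl⟩
  · exact ⟨2 * e ^ 2 - e, by ring⟩
  · exact ⟨2 * e ^ 2 + e, by ring⟩

/-! ### sums -/

theorem sum_split (F : GolayPt → ℤ) (i : GolayPt) :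
    ∑ p, F p = F i + ∑ p ∈ Finset.univ \ {i}, F p :=
  Finset.sum_eq_add_sum_sdiff_singleton_of_mem (Finset.mem_univ i) F

theorem sum_update (F : ℤ → ℤ) (x : GolayPt → ℤ) (i : GolayPt) (b : ℤ) :
    ∑ p, F (Function.update x i b p) = ∑ p, F (x p) - F (x i) + F b := by
  rw [sum_split (fun p => F (Function.update x i b p)) i, sum_split (fun p => F (x p)) i, Function.update_self]
  have : ∑ p ∈ Finset.univ \ {i}, F (Function.update x i b p) = ∑ p ∈ Finset.univ \ {i}, F (x p) := by
    apply Finset.sum_congr rfl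
    intro p hp
    rw [Finset.mem_sdiff, Finset.mem_singleton] at hp
    rw [Function.update_of_ne hp.2]
  rw [this]
  ring

theorem sqNorm_update (x : GolayPt → ℤ) (i : GolayPt) (b : ℤ) :
    sqNorm (Function.update x i b) = sqNorm x - x i ^ 2 + b ^ 2 :=
  sum_update (fun a => a ^ 2) x i b

theorem update_mem {x : GolayPt → ℤ} (hx : x ∈ leechLattice) (i : GolayPt) (b : ℤ) (h : (b - x i) % 8 = 0) :
    Function.update x i b ∈ leechLattice := by
  obtain ⟨m, hm, k, hk, hres, hsum⟩ := (mem_leech_iff_res x).mp hx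
  refine (mem_leech_iff_res _).mpr ⟨m, hm, k, hk, ?_, ?_⟩
  · intro p
    by_cases hp : p = i
    · subst hp
      rw [Function.update_self, ← hres p]
      omega
    · rw [Function.update_of_ne hp]
      exact hres p
  · have := sum_update (fun a => a) x i b
    rw [this]
    omega

theorem sum_sq_sub_one (x : GolayPt → ℤ) : ∑ p, (x p ^ 2 - 1) = sqNorm x - 24 := by
  rw [Finset.sum_sub_distrib, Finset.sum_const, Finset.card_univ, show Fintype.card GolayPt = 24 from by decide]
  simp [sqNorm]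

/-- an odd vector one of whose squares accounts for the whole excess has its other coordinates `±1` -/
theorem others_one {x : GolayPt → ℤ} (hodd : ∀ p, x p % 2 = 1) (i : GolayPt) (h : sqNorm x = x i ^ 2 + 23) :
    ∀ p, p ≠ i → x p = 1 ∨ x p = -1 := by
  have h1 := sum_sq_sub_one x
  rw [sum_split (fun p => x p ^ 2 - 1) i] at h1
  have h0 : ∑ p ∈ Finset.univ \ {i}, (x p ^ 2 - 1) = 0 := by linarith
  rw [Finset.sum_eq_zero_iff_of_nonneg (fun p _ => L4 (hodd p))] at h0
  intro p hp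
  have := h0 p (by rw [Finset.mem_sdiff, Finset.mem_singleton]; exact ⟨Finset.mem_univ p, hp⟩)
  have hbd : -6 ≤ x p ∧ x p ≤ 6 := int_bound (N := 1) (by omega) (by norm_num)
  obtain ⟨h2, h3⟩ := hbd
  generalize x p = a at *
  interval_cases a <;> omega


/-! ### The even shapes -/

theorem bit_nonneg (n i : ℕ) : 0 ≤ bitZ n i := by
  rcases bitZ_cases n i with h | h <;> rw [h] <;> norm_num

/-- for an even class, the defect of a vector against the weight of its codeword -/
theorem even_defect {x : GolayPt → ℤ} {k : ℕ} (hcl : InClass x 0 k) :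
    (∀ p, 0 ≤ x p ^ 2 - 4 * bitZ (cw k) (idx p)) ∧
      ∑ p, (x p ^ 2 - 4 * bitZ (cw k) (idx p)) = sqNorm x - 4 * (popc 24 (cw k) : ℤ) := by
  constructor
  · intro p
    have := hcl p
    rw [zero_add] at this
    have := L1 (bitZ_cases (cw k) (idx p)) this
    omega
  · rw [Finset.sum_sub_distrib, ← Finset.mul_sum, sum_bitZ]
    rfl

theorem setA_eq : {x : GolayPt → ℤ | x ∈ leechLattice ∧ sqNorm x = 48 ∧ ∀ i, x i = 0 ∨ x i = 2 ∨ x i = -2} =
    {x : GolayPt → ℤ | x ∈ leechLattice ∧ sqNorm x = ((48 : ℕ) : ℤ) ∧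
      ∃ mk ∈ classSet 0 (fun w => w == 12), InClass x mk.1 mk.2} := by
  ext x
  simp only [Set.mem_ofPred_eq]
  constructor
  · rintro ⟨hx, hn, hs⟩
    obtain ⟨m, hm, k, hk, hres, hsum⟩ := (mem_leech_iff_res x).mp hx
    have hm' : m = 0 ∨ m = 1 := by simpa using hm
    have hm0 : m = 0 := by
      have h1 := hres (pt 0)
      have hb := bitZ_cases (cw k) (idx (pt 0))
      rcases hs (pt 0) with h | h | h <;> rw [h] at h1 <;> omega
    subst hm0
    have hsq : ∀ p, x p ^ 2 - 4 * bitZ (cw k) (idx p) = 0 := by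
      intro p
      have h1 := hres p
      have hb := bitZ_cases (cw k) (idx p)
      rcases hs p with h | h | h <;> rw [h] at h1 ⊢ <;> omega
    have hpop : popc 24 (cw k) = 12 := by
      have := (even_defect hres).2
      rw [Finset.sum_eq_zero (fun p _ => hsq p), hn] at this
      omega
    refine ⟨hx, by rw [hn]; rfl, (((0 : ℕ) : ℤ), k), mem_classSet.mpr ⟨rfl, Finset.mem_range.mp hk, ?_⟩, ?_⟩
    · simp [hpop]
    · exact hres
  · rintro ⟨hx, hn, ⟨a, k⟩, hmk, hcl⟩
    obtain ⟨h1, h2, h3⟩ := mem_classSet.mp hmk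
    simp only at h1 h2 h3 hcl
    subst h1
    rw [Nat.cast_zero] at hcl
    have hpop : popc 24 (cw k) = 12 := by simpa using h3
    have hn' : sqNorm x = 48 := by rw [hn]; rfl
    obtain ⟨hd1, hd2⟩ := even_defect hcl
    rw [hn', hpop] at hd2
    have hz := (Finset.sum_eq_zero_iff_of_nonneg (fun p _ => hd1 p)).mp (by rw [hd2]; norm_num)
    refine ⟨hx, hn', fun p => ?_⟩
    have := hz p (Finset.mem_univ p)
    exact L2 (bitZ_cases (cw k) (idx p)) (by omega)

theorem setC_eq : {x : GolayPt → ℤ | x ∈ leechLattice ∧ sqNorm x = 48 ∧ ∃ i, |x i| = 4} =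
    {x : GolayPt → ℤ | x ∈ leechLattice ∧ sqNorm x = ((48 : ℕ) : ℤ) ∧
      ∃ mk ∈ classSet 0 (fun w => w == 8), InClass x mk.1 mk.2} := by
  ext x
  simp only [Set.mem_ofPred_eq]
  constructor
  · rintro ⟨hx, hn, i, hi⟩
    obtain ⟨m, hm, k, hk, hres, hsum⟩ := (mem_leech_iff_res x).mp hx
    have hm' : m = 0 ∨ m = 1 := by simpa using hm
    have hi' : x i = 4 ∨ x i = -4 := (abs_eq (by norm_num)).mp hi
    have hm0 : m = 0 := by
      have h1 := hres i
      have hb := bitZ_cases (cw k) (idx i)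
      rcases hi' with h | h <;> rw [h] at h1 <;> omega
    subst hm0
    obtain ⟨hd1, hd2⟩ := even_defect hres
    rw [hn] at hd2
    have hsum0 : 0 ≤ ∑ p, (x p ^ 2 - 4 * bitZ (cw k) (idx p)) := Finset.sum_nonneg (fun p _ => hd1 p)
    have hpop : popc 24 (cw k) = 8 := by
      rcases cw_weights (Finset.mem_range.mp hk) with h | h | h | h | h
      · -- weight 0
        exfalso
        have hb0 : ∀ p, bitZ (cw k) (idx p) = 0 := by
          have := sum_bitZ (cw k)
          rw [h] at this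
          have hz := (Finset.sum_eq_zero_iff_of_nonneg (fun p _ => bit_nonneg (cw k) (idx p))).mp
            (by rw [this]; norm_num)
          exact fun p => hz p (Finset.mem_univ p)
        have hdvd : (32 : ℤ) ∣ ∑ p, (x p ^ 2 - 4 * x p) := by
          apply Finset.dvd_sum
          intro p _
          apply L7
          have := hres p
          rw [hb0 p] at this
          omega
        rw [Finset.sum_sub_distrib, ← Finset.mul_sum] at hdvd
        have hn2 : ∑ p, x p ^ 2 = 48 := hn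
        rw [hn2] at hdvd
        omega
      · exact h
      · exfalso
        rw [h] at hd2
        have hz := (Finset.sum_eq_zero_iff_of_nonneg (fun p _ => hd1 p)).mp (by rw [hd2]; norm_num)
        have h1 := hz i (Finset.mem_univ i)
        have hb := bitZ_cases (cw k) (idx i)
        rcases hi' with h' | h' <;> rw [h'] at h1 <;> omega
      · rw [h] at hd2; omega
      · rw [h] at hd2; omega
    refine ⟨hx, by rw [hn]; rfl, (((0 : ℕ) : ℤ), k), mem_classSet.mpr ⟨rfl, Finset.mem_range.mp hk, ?_⟩, ?_⟩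
    · simp [hpop]
    · exact hres
  · rintro ⟨hx, hn, ⟨a, k⟩, hmk, hcl⟩
    obtain ⟨h1, h2, h3⟩ := mem_classSet.mp hmk
    simp only at h1 h2 h3 hcl
    subst h1
    rw [Nat.cast_zero] at hcl
    have hpop : popc 24 (cw k) = 8 := by simpa using h3
    have hn' : sqNorm x = 48 := by rw [hn]; rfl
    obtain ⟨hd1, hd2⟩ := even_defect hcl
    rw [hn', hpop] at hd2
    refine ⟨hx, hn', ?_⟩
    by_contra hne
    rw [not_exists] at hne
    have hall : ∀ p, x p ^ 2 - 4 * bitZ (cw k) (idx p) = 0 := by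
      intro p
      have hc := hcl p
      rw [zero_add] at hc
      rcases L3 (bitZ_cases (cw k) (idx p)) hc (hne p) with h | h
      · exact h
      · exfalso
        have := Finset.single_le_sum (f := fun p => x p ^ 2 - 4 * bitZ (cw k) (idx p)) (fun p _ => hd1 p)
          (Finset.mem_univ p)
        rw [hd2] at this
        omega
    rw [Finset.sum_eq_zero (fun p _ => hall p)] at hd2
    omega


/-! ### The odd shapes -/

/-- the odd lattice vectors of a given sum of squares -/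
def oddSet (n : ℕ) : Set (GolayPt → ℤ) :=
  {x | x ∈ leechLattice ∧ sqNorm x = ((n : ℕ) : ℤ) ∧ ∃ mk ∈ classSet 1 (fun _ => true), InClass x mk.1 mk.2}

theorem odd_of_mem {n : ℕ} {x : GolayPt → ℤ} (h : x ∈ oddSet n) : ∀ p, x p % 2 = 1 := by
  obtain ⟨_, _, ⟨a, k⟩, hmk, hcl⟩ := h
  obtain ⟨h1, _, _⟩ := mem_classSet.mp hmk
  simp only at h1 hcl
  subst h1
  intro p
  have := hcl p
  have hb := bitZ_cases (cw k) (idx p)
  push_cast at this
  omega

theorem mem_oddSet {n : ℕ} {x : GolayPt → ℤ} (hx : x ∈ leechLattice) (hn : sqNorm x = (n : ℤ)) {i : GolayPt}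
    (hi : x i % 2 = 1) : x ∈ oddSet n := by
  obtain ⟨m, hm, k, hk, hres, hsum⟩ := (mem_leech_iff_res x).mp hx
  have hm' : m = 0 ∨ m = 1 := by simpa using hm
  have hm1 : m = 1 := by
    have h1 := hres i
    have hb := bitZ_cases (cw k) (idx i)
    omega
  subst hm1
  refine ⟨hx, hn, (((1 : ℕ) : ℤ), k), mem_classSet.mpr ⟨rfl, Finset.mem_range.mp hk, rfl⟩, ?_⟩
  show InClass x ((1 : ℕ) : ℤ) k
  rw [Nat.cast_one]
  exact hres

theorem abs_odd {a : ℤ} {c : ℤ} (hc : c % 2 = 1) (h : |a| = c) : a % 2 = 1 := by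
  rcases abs_cases a with ⟨h1, _⟩ | ⟨h1, _⟩ <;> omega

theorem set32_eq : {x : GolayPt → ℤ | x ∈ leechLattice ∧ sqNorm x = 32 ∧ ∃ i, |x i| = 3} = oddSet 32 := by
  ext x
  constructor
  · rintro ⟨hx, hn, i, hi⟩
    exact mem_oddSet hx (by rw [hn]; rfl) (abs_odd (by norm_num) hi)
  · intro h
    have hodd := odd_of_mem h
    obtain ⟨hx, hn, _⟩ := h
    have hn' : sqNorm x = 32 := by rw [hn]; rfl
    refine ⟨hx, hn', ?_⟩
    by_contra hne
    rw [not_exists] at hne
    have hs := sum_sq_sub_one x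
    rw [hn'] at hs
    have hall : ∀ p, x p ^ 2 - 1 = 0 := by
      intro p
      rcases L6 (hodd p) (hne p) with h | h
      · exact h
      · exfalso
        have := Finset.single_le_sum (f := fun p => x p ^ 2 - 1) (fun p _ => L4 (hodd p)) (Finset.mem_univ p)
        rw [hs] at this
        omega
    rw [Finset.sum_eq_zero (fun p _ => hall p)] at hs
    omega

/-- the shape of a vector with a coordinate of absolute value `c` and sum of squares `c ^ 2 + 23` -/
theorem shape_of {x : GolayPt → ℤ} (hodd : ∀ p, x p % 2 = 1) {c : ℤ} (hc : 0 ≤ c) {i : GolayPt} (hi : |x i| = c)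
    (hn : sqNorm x = c ^ 2 + 23) : (x i = c ∨ x i = -c) ∧ ∀ p, p ≠ i → x p = 1 ∨ x p = -1 := by
  have hi' := (abs_eq hc).mp hi
  refine ⟨hi', others_one hodd i ?_⟩
  rcases hi' with h | h <;> rw [hn, h] <;> ring

def setB : Set (GolayPt → ℤ) :=
  {x | x ∈ leechLattice ∧ sqNorm x = 48 ∧ ∃ i j k, i ≠ j ∧ j ≠ k ∧ i ≠ k ∧ |x i| = 3 ∧ |x j| = 3 ∧ |x k| = 3}

def setD : Set (GolayPt → ℤ) := {x | x ∈ leechLattice ∧ sqNorm x = 48 ∧ ∃ i, |x i| = 5}

theorem shapeD {x : GolayPt → ℤ} (h : x ∈ setD) :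
    ∃ i, (x i = 5 ∨ x i = -5) ∧ ∀ p, p ≠ i → x p = 1 ∨ x p = -1 := by
  obtain ⟨hx, hn, i, hi⟩ := h
  have hodd := odd_of_mem (mem_oddSet (n := 48) hx (by rw [hn]; rfl) (abs_odd (by norm_num) hi))
  exact ⟨i, shape_of hodd (by norm_num) hi (by rw [hn]; norm_num)⟩

theorem union_eq : setD ∪ setB = oddSet 48 := by
  ext x
  constructor
  · rintro (⟨hx, hn, i, hi⟩ | ⟨hx, hn, i, _, _, _, _, _, hi, _⟩)
    · exact mem_oddSet hx (by rw [hn]; rfl) (abs_odd (by norm_num) hi)
    · exact mem_oddSet hx (by rw [hn]; rfl) (abs_odd (by norm_num) hi)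
  · intro h
    have hodd := odd_of_mem h
    obtain ⟨hx, hn, _⟩ := h
    have hn' : sqNorm x = 48 := by rw [hn]; rfl
    by_cases h5 : ∃ i, |x i| = 5
    · exact Or.inl ⟨hx, hn', h5⟩
    · right
      rw [not_exists] at h5
      have hs := sum_sq_sub_one x
      rw [hn'] at hs
      have hall : ∀ p, x p ^ 2 - 1 = if |x p| = 3 then 8 else 0 := by
        intro p
        apply L5 (hodd p) _ (h5 p)
        have := Finset.single_le_sum (f := fun p => x p ^ 2 - 1) (fun p _ => L4 (hodd p)) (Finset.mem_univ p)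
        rw [hs] at this
        omega
      rw [Finset.sum_congr rfl (fun p _ => hall p), Finset.sum_ite, Finset.sum_const, Finset.sum_const_zero,
        add_zero, nsmul_eq_mul] at hs
      have hcard : (Finset.univ.filter (fun p => |x p| = 3)).card = 3 := by omega
      obtain ⟨i, j, k, hij, hik, hjk, he⟩ := Finset.card_eq_three.mp hcard
      have hmem : ∀ p, p ∈ ({i, j, k} : Finset GolayPt) → |x p| = 3 := by
        intro p hp
        rw [← he, Finset.mem_filter] at hp
        exact hp.2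
      exact ⟨hx, hn', i, j, k, hij, hjk, hik, hmem i (by simp), hmem j (by simp), hmem k (by simp)⟩

theorem disj : Disjoint setD setB := by
  rw [Set.disjoint_left]
  rintro x hD ⟨_, _, i, _, _, _, _, _, hi, _⟩
  obtain ⟨i0, h0, hrest⟩ := shapeD hD
  by_cases h : i = i0
  · subst h
    rcases h0 with h | h <;> rw [h] at hi <;> norm_num at hi
  · rcases hrest i h with h | h <;> rw [h] at hi <;> norm_num at hi

/-! ### The bijection between the shapes `(±5, ±1^23)` and `(∓3, ±1^23)` -/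

def phi (a : ℤ) : ℤ := if a = 5 then -3 else if a = -5 then 3 else a

def psi (a : ℤ) : ℤ := if a = -3 then 5 else if a = 3 then -5 else a

theorem comp_eq_update (F : ℤ → ℤ) (hF1 : F 1 = 1) (hF2 : F (-1) = -1) {x : GolayPt → ℤ} {i : GolayPt}
    (h : ∀ p, p ≠ i → x p = 1 ∨ x p = -1) : (fun p => F (x p)) = Function.update x i (F (x i)) := by
  funext p
  by_cases hp : p = i
  · subst hp
    rw [Function.update_self]
  · rw [Function.update_of_ne hp]
    rcases h p hp with h1 | h1 <;> rw [h1]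
    · exact hF1
    · exact hF2

theorem bij : Set.BijOn (fun x p => phi (x p)) setD {x : GolayPt → ℤ | x ∈ leechLattice ∧ sqNorm x = 32 ∧ ∃ i, |x i| = 3} := by
  refine Set.InvOn.bijOn (f' := fun y p => psi (y p)) ⟨?_, ?_⟩ ?_ ?_
  · -- left inverse
    intro x hx
    obtain ⟨i, h0, hrest⟩ := shapeD hx
    funext p
    show psi (phi (x p)) = x p
    by_cases hp : p = i
    · subst hp
      rcases h0 with h | h <;> rw [h] <;> decide
    · rcases hrest p hp with h | h <;> rw [h] <;> decide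
  · -- right inverse
    intro y hy
    have hodd := odd_of_mem (set32_eq ▸ hy : y ∈ oddSet 32)
    obtain ⟨hx, hn, i, hi⟩ := hy
    obtain ⟨h0, hrest⟩ := shape_of hodd (by norm_num) hi (by rw [hn]; norm_num)
    funext p
    show phi (psi (y p)) = y p
    by_cases hp : p = i
    · subst hp
      rcases h0 with h | h <;> rw [h] <;> decide
    · rcases hrest p hp with h | h <;> rw [h] <;> decide
  · -- maps to
    intro x hx
    obtain ⟨i, h0, hrest⟩ := shapeD hx
    obtain ⟨hxl, hn, _⟩ := hx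
    show (fun p => phi (x p)) ∈ _
    rw [comp_eq_update phi (by decide) (by decide) hrest]
    refine ⟨update_mem hxl i _ ?_, ?_, i, ?_⟩
    · rcases h0 with h | h <;> rw [h] <;> decide
    · rw [sqNorm_update, hn]
      rcases h0 with h | h <;> rw [h] <;> decide
    · rw [Function.update_self]
      rcases h0 with h | h <;> rw [h] <;> decide
  · -- maps back
    intro y hy
    have hodd := odd_of_mem (set32_eq ▸ hy : y ∈ oddSet 32)
    obtain ⟨hyl, hn, i, hi⟩ := hy
    obtain ⟨h0, hrest⟩ := shape_of hodd (by norm_num) hi (by rw [hn]; norm_num)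
    show (fun p => psi (y p)) ∈ _
    rw [comp_eq_update psi (by decide) (by decide) hrest]
    refine ⟨update_mem hyl i _ ?_, ?_, i, ?_⟩
    · rcases h0 with h | h <;> rw [h] <;> decide
    · rw [sqNorm_update, hn]
      rcases h0 with h | h <;> rw [h] <;> decide
    · rw [Function.update_self]
      rcases h0 with h | h <;> rw [h] <;> decide


/-! ### The counts -/

theorem ncard_setA :
    {x : GolayPt → ℤ | x ∈ leechLattice ∧ sqNorm x = 48 ∧ ∀ i, x i = 0 ∨ x i = 2 ∨ x i = -2}.ncard = 5275648 := by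
  rw [setA_eq, ncard_classSet 48 (by decide) 0 (by decide) (fun w => w == 12) g48 (fun a b c d => rfl)
    (fun m w => rfl)]
  decide +kernel

theorem ncard_setC :
    {x : GolayPt → ℤ | x ∈ leechLattice ∧ sqNorm x = 48 ∧ ∃ i, |x i| = 4}.ncard = 3108864 := by
  rw [setC_eq, ncard_classSet 48 (by decide) 0 (by decide) (fun w => w == 8) g48 (fun a b c d => rfl)
    (fun m w => rfl)]
  decide +kernel

theorem ncard_odd48 : (oddSet 48).ncard = 8388608 := by
  rw [oddSet, ncard_classSet 48 (by decide) 1 (by decide) (fun _ => true) g48 (fun a b c d => rfl)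
    (fun m w => rfl)]
  decide +kernel

theorem ncard_odd32 : (oddSet 32).ncard = 98304 := by
  rw [oddSet, ncard_classSet 32 (by decide) 1 (by decide) (fun _ => true) g32 (fun a b c d => rfl)
    (fun m w => rfl)]
  decide +kernel

theorem ncard_setD : setD.ncard = 98304 := by
  rw [bij.ncard_eq, set32_eq, ncard_odd32]

theorem ncard_setB : setB.ncard = 8290304 := by
  have hfin : (oddSet 48).Finite := Set.finite_of_ncard_ne_zero (by rw [ncard_odd48]; norm_num)
  have hD : setD.Finite := hfin.subset (union_eq ▸ Set.subset_union_left)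
  have hB : setB.Finite := hfin.subset (union_eq ▸ Set.subset_union_right)
  have := Set.ncard_union_eq disj hD hB
  rw [union_eq, ncard_odd48, ncard_setD] at this
  omega

end Cfsg.Agent.Helper22.LeechShapes
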