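import Cfsg.Agent.Helper22.OctList
import Cfsg.Agent.Helper22.GolayComb
import Cfsg.Agent.Helper22.Flag
import Cfsg.Agent.Helper27.M24Descent

/-!
# Sextets coded by four-point masks

A sextet is coded by the mask of its tetrad through the point `0`.  This file provides the code-level
action of tables, the soundness of descent certificates for orbits of subgroups of `M24` on sextets,
and counting of sextets by computable invariants.
-/

set_option autoImplicit false

namespace Cfsg.Agent.Helper22.SextetCode

open Cfsg Cfsg.Agent.Helper27 Cfsg.Agent.Helper22.Flag Cfsg.Agent.Helper22.GolayComb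
  Cfsg.Agent.Helper22.OctList
open scoped Pointwise

/-! ### Sextets and the group -/

theorem sextet_disjoint {S : Finset (Finset GolayPt)} (hS : S ∈ sextets) {t u : Finset GolayPt} (ht : t ∈ S)
    (hu : u ∈ S) (h : t ≠ u) : Disjoint t u := by
  have ho : t ∪ u ∈ octads := hS.2.2 t ht u hu h
  rw [← Finset.card_union_eq_card_add_card, ho.2, hS.2.1 t ht, hS.2.1 u hu]

theorem sextet_eq_of_mem {S : Finset (Finset GolayPt)} (hS : S ∈ sextets) {t u : Finset GolayPt} (ht : t ∈ S)
    (hu : u ∈ S) {p : GolayPt} (hpt : p ∈ t) (hpu : p ∈ u) : t = u := by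
  by_contra h
  exact Finset.disjoint_left.mp (sextet_disjoint hS ht hu h) hpt hpu

theorem smul_sextet_mem {g : Equiv.Perm GolayPt} (hg : g ∈ M24) {S : Finset (Finset GolayPt)} (hS : S ∈ sextets) :
    g • S ∈ sextets := by
  refine ⟨by rw [Finset.card_smul_finset]; exact hS.1, ?_, ?_⟩
  · intro t ht
    obtain ⟨t', ht', rfl⟩ := Finset.mem_smul_finset.mp ht
    rw [Finset.card_smul_finset]
    exact hS.2.1 t' ht'
  · intro t ht u hu htu
    obtain ⟨t', ht', rfl⟩ := Finset.mem_smul_finset.mp ht
    obtain ⟨u', hu', rfl⟩ := Finset.mem_smul_finset.mp hu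
    rw [← Finset.smul_finset_union, octads_smul_iff hg]
    exact hS.2.2 t' ht' u' hu' (fun h => htu (by rw [h]))

theorem smul_sextetOf {g : Equiv.Perm GolayPt} (hg : g ∈ M24) {t : Finset GolayPt} (ht : t.card = 4) :
    g • sextetOf t = sextetOf (g • t) :=
  eq_sextetOf (by rw [Finset.card_smul_finset]; exact ht) (smul_sextet_mem hg (sextetOf_mem ht))
    (Finset.smul_mem_smul_finset (mem_sextetOf_self t))

theorem card_of_mem_sextetOf {t u : Finset GolayPt} (ht : t.card = 4) (hu : u ∈ sextetOf t) : u.card = 4 :=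
  (sextetOf_mem ht).2.1 u hu

theorem sextetOf_eq_of_mem {t u : Finset GolayPt} (ht : t.card = 4) (hu : u ∈ sextetOf t) :
    sextetOf u = sextetOf t :=
  (eq_sextetOf (card_of_mem_sextetOf ht hu) (sextetOf_mem ht) hu).symm

/-! ### Masks -/

theorem maskSet_injOn {a b : ℕ} (ha : a < 2 ^ 24) (hb : b < 2 ^ 24) (h : maskSet a = maskSet b) : a = b :=
  decW_injOn ha hb (support₂_injective h)

theorem maskSet_xor_of_and {o n : ℕ} (h : o &&& n = n) : maskSet (o ^^^ n) = maskSet o \ maskSet n := by
  have := maskSet_xor_and o n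
  rwa [h] at this

theorem maskSet_subset_of_and {o n : ℕ} (h : o &&& n = n) : maskSet n ⊆ maskSet o := by
  have := maskSet_and o n
  rw [h] at this
  rw [this]
  exact Finset.inter_subset_left

theorem mem_sextetOf_xor {o n : ℕ} (ho : isOct o = true) (h : o &&& n = n) :
    maskSet (o ^^^ n) ∈ sextetOf (maskSet n) := by
  rw [maskSet_xor_of_and h, sextetOf, Finset.mem_insert, Finset.mem_image]
  right
  exact ⟨maskSet o, (mem_octThrough _ _).mpr ⟨maskSet_mem_octads ho, maskSet_subset_of_and h⟩, rfl⟩

/-- index of the lowest set bit among the first `fuel` candidates from `i` on -/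
def lowBitAux (m : ℕ) : ℕ → ℕ → ℕ
  | 0, i => i
  | fuel + 1, i => if m.testBit i then i else lowBitAux m fuel (i + 1)

/-- index of the lowest set bit (below `24`) -/
def lowBit (m : ℕ) : ℕ := lowBitAux m 24 0

/-- the listed octads through the points `0` and `a` -/
def octsAt (a : ℕ) : List ℕ := oct0By.getD a []

theorem mem_octsAt {a o : ℕ} (h : o ∈ octsAt a) : isOct o = true := by
  unfold octsAt at h
  rw [List.getD_eq_getElem?_getD] at h
  by_cases ha : a < oct0By.length
  · rw [List.getElem?_eq_getElem ha, Option.getD_some] at h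
    have h1 := List.all_eq_true.mp oct0By_ok _ (List.getElem_mem ha)
    exact List.all_eq_true.mp h1 o h
  · rw [List.getElem?_eq_none (by omega), Option.getD_none] at h
    simp at h

/-- the masks of the six tetrads of the sextet of a four-point mask containing the point `0` -/
def sextetMasks (n : ℕ) : List ℕ :=
  n :: (((octsAt (lowBit (n - 1))).filter (fun o => o &&& n == n)).map (fun o => o ^^^ n))

/-- the tetrad through the point `0` of the sextet of a four-point mask -/
def canon (n : ℕ) : ℕ :=
  if n.testBit 0 then n else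
    match (octsAt (lowBit n)).find? (fun o => o &&& n == n) with
    | some o => o ^^^ n
    | none => n

/-- the computed list of tetrads is complete -/
def sextOK (n : ℕ) : Bool :=
  ((sextetMasks n).length == 6) && ((sextetMasks n).foldl (· ||| ·) 0 == onesMask)

theorem mem_sextetMasks {n m : ℕ} (hm : m ∈ sextetMasks n) : maskSet m ∈ sextetOf (maskSet n) := by
  rw [sextetMasks, List.mem_cons, List.mem_map] at hm
  rcases hm with rfl | ⟨o, ho, rfl⟩
  · exact mem_sextetOf_self _
  · rw [List.mem_filter, beq_iff_eq] at ho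
    exact mem_sextetOf_xor (mem_octsAt ho.1) ho.2

theorem canon_mem (n : ℕ) : maskSet (canon n) ∈ sextetOf (maskSet n) := by
  unfold canon
  split
  · exact mem_sextetOf_self _
  · split
    · rename_i o ho
      have h1 := List.find?_some ho
      have h2 := List.mem_of_find?_eq_some ho
      rw [beq_iff_eq] at h1
      exact mem_sextetOf_xor (mem_octsAt h2) h1
    · exact mem_sextetOf_self _

theorem sextetOf_canon {n : ℕ} (hn : popc 24 n = 4) : sextetOf (maskSet (canon n)) = sextetOf (maskSet n) :=
  sextetOf_eq_of_mem (by rw [card_maskSet, hn]) (canon_mem n)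

theorem popc_canon {n : ℕ} (hn : popc 24 n = 4) : popc 24 (canon n) = 4 := by
  rw [← card_maskSet]
  exact card_of_mem_sextetOf (by rw [card_maskSet, hn]) (canon_mem n)

theorem mem_maskSet_foldl (L : List ℕ) (a : ℕ) (p : GolayPt) :
    p ∈ maskSet (L.foldl (· ||| ·) a) ↔ p ∈ maskSet a ∨ ∃ m ∈ L, p ∈ maskSet m := by
  induction L generalizing a with
  | nil => simp
  | cons b L ih =>
    rw [List.foldl_cons, ih, maskSet_or, Finset.mem_union]
    simp only [List.mem_cons, exists_eq_or_imp]
    tauto

theorem sextetOf_eq_masks {n : ℕ} (hn : popc 24 n = 4) (hok : sextOK n = true) :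
    sextetOf (maskSet n) = ((sextetMasks n).map maskSet).toFinset ∧ ((sextetMasks n).map maskSet).Nodup := by
  rw [sextOK, Bool.and_eq_true, beq_iff_eq, beq_iff_eq] at hok
  obtain ⟨hlen, hor⟩ := hok
  have h4 : (maskSet n).card = 4 := by rw [card_maskSet, hn]
  have hS := sextetOf_mem h4
  have hsub : ((sextetMasks n).map maskSet).toFinset ⊆ sextetOf (maskSet n) := by
    intro t ht
    rw [List.mem_toFinset, List.mem_map] at ht
    obtain ⟨m, hm, rfl⟩ := ht
    exact mem_sextetMasks hm
  have heq : sextetOf (maskSet n) = ((sextetMasks n).map maskSet).toFinset := by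
    apply Finset.Subset.antisymm _ hsub
    intro t ht
    have htne : t.Nonempty := by
      rw [← Finset.card_pos, hS.2.1 t ht]; norm_num
    obtain ⟨p, hp⟩ := htne
    have hpu : p ∈ maskSet ((sextetMasks n).foldl (· ||| ·) 0) := by
      rw [hor, maskSet_ones]; exact Finset.mem_univ _
    rw [mem_maskSet_foldl] at hpu
    rcases hpu with h0 | ⟨m, hm, hpm⟩
    · rw [mem_maskSet] at h0
      simp at h0
    · have := sextet_eq_of_mem hS ht (mem_sextetMasks hm) hp hpm
      rw [this, List.mem_toFinset, List.mem_map]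
      exact ⟨m, hm, rfl⟩
  refine ⟨heq, ?_⟩
  have hcard : ((sextetMasks n).map maskSet).toFinset.card = ((sextetMasks n).map maskSet).length := by
    rw [← heq, hS.1, List.length_map, hlen]
  rw [List.card_toFinset] at hcard
  have := (List.dedup_sublist ((sextetMasks n).map maskSet)).eq_of_length hcard
  rw [← this]
  exact List.nodup_dedup _

/-- sums over the sextet of a mask are computed on the list of its tetrad masks -/
theorem sum_sextetOf {n : ℕ} (hn : popc 24 n = 4) (hok : sextOK n = true) (φ : Finset GolayPt → ℕ) :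
    (sextetOf (maskSet n)).sum φ = ((sextetMasks n).map (fun m => φ (maskSet m))).sum := by
  obtain ⟨heq, hnd⟩ := sextetOf_eq_masks hn hok
  rw [heq, List.sum_toFinset _ hnd, List.map_map]
  rfl

/-! ### The list of codes -/

theorem canonL_spec {n : ℕ} (hn : n ∈ canonL) : n < 2 ^ 24 ∧ popc 24 n = 4 ∧ n.testBit 0 = true := by
  have := List.all_eq_true.mp canonL_ok n hn
  simp only [Bool.and_eq_true, Nat.blt_eq, beq_iff_eq] at this
  exact ⟨this.1.1, this.1.2, this.2⟩

theorem canonL_nodup : canonL.Nodup := by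
  have h := List.isChain_iff_pairwise.mp canonL_sorted
  exact h.imp (fun hab => ne_of_lt hab)

theorem pt0_mem_of_testBit {n : ℕ} (h : n.testBit 0 = true) : pt 0 ∈ maskSet n := by
  rw [pt_mem_maskSet (by norm_num)]; exact h

/-- the sextet coded by a mask -/
noncomputable def dec (n : ℕ) : Finset (Finset GolayPt) := sextetOf (maskSet n)

theorem dec_mem {n : ℕ} (hn : popc 24 n = 4) : dec n ∈ sextets := sextetOf_mem (by rw [card_maskSet, hn])

theorem dec_inj {n n' : ℕ} (hn : n < 2 ^ 24) (hn' : n' < 2 ^ 24) (h4 : popc 24 n = 4) (h4' : popc 24 n' = 4)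
    (h0 : n.testBit 0 = true) (h0' : n'.testBit 0 = true) (h : dec n = dec n') : n = n' := by
  apply maskSet_injOn hn hn'
  have h1 : maskSet n ∈ dec n' := h ▸ mem_sextetOf_self _
  exact sextet_eq_of_mem (dec_mem h4') h1 (mem_sextetOf_self _) (pt0_mem_of_testBit h0) (pt0_mem_of_testBit h0')

theorem dec_injOn : Set.InjOn dec (canonL.toFinset : Set ℕ) := by
  intro n hn n' hn' h
  rw [Finset.mem_coe, List.mem_toFinset] at hn hn'
  obtain ⟨a1, a2, a3⟩ := canonL_spec hn
  obtain ⟨b1, b2, b3⟩ := canonL_spec hn'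
  exact dec_inj a1 b1 a2 b2 a3 b3 h

theorem image_dec : canonL.toFinset.image dec = sextetsFin := by
  apply Finset.eq_of_subset_of_card_le
  · intro X hX
    rw [Finset.mem_image] at hX
    obtain ⟨n, hn, rfl⟩ := hX
    rw [List.mem_toFinset] at hn
    rw [mem_sextetsFin]
    exact dec_mem (canonL_spec hn).2.1
  · rw [Finset.card_image_of_injOn dec_injOn, List.toFinset_card_of_nodup canonL_nodup, canonL_length]
    have := sextets_ncard
    rw [show sextets = ((sextetsFin : Finset (Finset (Finset GolayPt))) : Set (Finset (Finset GolayPt))) from by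
      ext S; simp [mem_sextetsFin], Set.ncard_coe_finset] at this
    rw [this]

/-- every sextet is coded -/
theorem exists_code {X : Finset (Finset GolayPt)} (hX : X ∈ sextets) : ∃ n ∈ canonL, dec n = X := by
  have : X ∈ canonL.toFinset.image dec := by rw [image_dec, mem_sextetsFin]; exact hX
  rw [Finset.mem_image] at this
  obtain ⟨n, hn, rfl⟩ := this
  exact ⟨n, List.mem_toFinset.mp hn, rfl⟩

/-- the list of codes is complete -/
theorem mem_canonL {n : ℕ} (hn : n < 2 ^ 24) (h4 : popc 24 n = 4) (h0 : n.testBit 0 = true) : n ∈ canonL := by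
  obtain ⟨n', hn', h⟩ := exists_code (dec_mem h4)
  obtain ⟨b1, b2, b3⟩ := canonL_spec hn'
  rw [← dec_inj b1 hn b2 h4 b3 h0 h]
  exact hn'

/-- counting sextets by a computable property -/
theorem ncard_sextets (Q : Finset (Finset GolayPt) → Prop) (q : ℕ → Bool)
    (h : ∀ n ∈ canonL, (Q (dec n) ↔ q n = true)) :
    {X : Finset (Finset GolayPt) | X ∈ sextets ∧ Q X}.ncard = canonL.countP q := by
  classical
  have hset : {X : Finset (Finset GolayPt) | X ∈ sextets ∧ Q X} =
      ↑((canonL.toFinset.filter (fun n => q n = true)).image dec) := by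
    ext X
    simp only [Set.mem_ofPred_eq, Finset.coe_image, Finset.coe_filter, List.mem_toFinset, Set.mem_image]
    constructor
    · rintro ⟨hX, hQ⟩
      obtain ⟨n, hn, rfl⟩ := exists_code hX
      exact ⟨n, ⟨hn, (h n hn).mp hQ⟩, rfl⟩
    · rintro ⟨n, ⟨hn, hq⟩, rfl⟩
      exact ⟨dec_mem (canonL_spec hn).2.1, (h n hn).mpr hq⟩
  rw [hset, Set.ncard_coe_finset, Finset.card_image_of_injOn (dec_injOn.mono (by
    intro n hn
    rw [Finset.mem_coe, Finset.mem_filter] at hn
    exact hn.1)), ← List.toFinset_filter, List.toFinset_card_of_nodup (canonL_nodup.filter _),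
    List.countP_eq_length_filter]

/-! ### Descent -/

/-- a descent certificate for an orbit on sextets: `cls` lists the codes of the class -/
def sextDescOK (cert : List ℕ → Bool) (gens : List (List ℕ)) (cls : List ℕ) (dmin : ℕ) : Bool :=
  gens.all (fun T => validTbl T && cert T) &&
  cls.all (fun n => (n == dmin) ||
    gens.any (fun T => Nat.blt (canon (applyTbl T n)) n && (canon (applyTbl T n)).testBit 0))

theorem dec_applyTbl {T : List ℕ} (hv : validTbl T = true) (hT : tblPerm T hv ∈ M24) {n : ℕ}
    (h4 : popc 24 n = 4) : dec (canon (applyTbl T n)) = (tblPerm T hv)⁻¹ • dec n := by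
  have h4' : popc 24 (applyTbl T n) = 4 := by
    rw [← card_maskSet, maskSet_applyTbl hv, Finset.card_smul_finset, card_maskSet, h4]
  rw [dec, sextetOf_canon h4', maskSet_applyTbl hv, dec,
    smul_sextetOf (M24.inv_mem hT) (by rw [card_maskSet, h4])]

theorem sextDesc_sound {H : Subgroup (Equiv.Perm GolayPt)} {cert : List ℕ → Bool} (hc : CertSound H cert)
    (hH : H ≤ M24) {gens : List (List ℕ)} {q : ℕ → Bool} {cls : List ℕ} {dmin : ℕ}
    (Q : Finset (Finset GolayPt) → Prop)
    (hQ : ∀ g ∈ H, ∀ X ∈ sextets, Q X → Q (g • X)) (hq : ∀ n ∈ canonL, (Q (dec n) ↔ q n = true))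
    (hcls : ∀ n ∈ canonL, q n = true → n ∈ cls)
    (h : sextDescOK cert gens cls dmin = true) :
    ∀ n : ℕ, n ∈ canonL → q n = true → ∃ g ∈ H, g • dec n = dec dmin := by
  simp only [sextDescOK, Bool.and_eq_true] at h
  obtain ⟨hgens, hall⟩ := h
  rw [List.all_eq_true] at hgens hall
  intro n
  induction n using Nat.strong_induction_on with
  | _ n ih =>
    intro hn hqn
    have := hall n (hcls n hn hqn)
    simp only [Bool.or_eq_true, beq_iff_eq, List.any_eq_true, Bool.and_eq_true,
      Nat.blt_eq] at this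
    rcases this with h1 | h1
    · exact ⟨1, H.one_mem, by rw [h1, one_smul]⟩
    · obtain ⟨T, hT, hlt, hbit⟩ := h1
      have hT' := hgens T hT
      rw [Bool.and_eq_true] at hT'
      obtain ⟨hv, hcert⟩ := hT'
      have hTH := hc T hv hcert
      obtain ⟨a1, a2, a3⟩ := canonL_spec hn
      have h4' : popc 24 (applyTbl T n) = 4 := by
        rw [← card_maskSet, maskSet_applyTbl hv, Finset.card_smul_finset, card_maskSet, a2]
      have hdec := dec_applyTbl hv (hH hTH) a2
      have hn' : canon (applyTbl T n) ∈ canonL :=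
        mem_canonL (lt_trans hlt a1) (popc_canon h4') hbit
      have hq' : q (canon (applyTbl T n)) = true := by
        rw [← hq _ hn', hdec]
        exact hQ _ (H.inv_mem hTH) _ (dec_mem a2) ((hq n hn).mpr hqn)
      obtain ⟨g, hg, hgs⟩ := ih _ hlt hn' hq'
      refine ⟨g * (tblPerm T hv)⁻¹, H.mul_mem hg (H.inv_mem hTH), ?_⟩
      rw [mul_smul, ← hdec, hgs]

/-- transitivity on a class of sextets from a descent certificate -/
theorem sext_orbit {H : Subgroup (Equiv.Perm GolayPt)} {cert : List ℕ → Bool} (hc : CertSound H cert)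
    (hH : H ≤ M24) {gens : List (List ℕ)} {q : ℕ → Bool} {cls : List ℕ} {dmin : ℕ}
    (Q : Finset (Finset GolayPt) → Prop)
    (hQ : ∀ g ∈ H, ∀ X ∈ sextets, Q X → Q (g • X)) (hq : ∀ n ∈ canonL, (Q (dec n) ↔ q n = true))
    (hcls : ∀ n ∈ canonL, q n = true → n ∈ cls)
    (h : sextDescOK cert gens cls dmin = true) {X Y : Finset (Finset GolayPt)} (hX : X ∈ sextets)
    (hY : Y ∈ sextets) (hQX : Q X) (hQY : Q Y) : ∃ g ∈ H, g • X = Y := by
  obtain ⟨n, hn, rfl⟩ := exists_code hX
  obtain ⟨n', hn', rfl⟩ := exists_code hY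
  obtain ⟨g, hg, hgs⟩ := sextDesc_sound hc hH Q hQ hq hcls h n hn ((hq n hn).mp hQX)
  obtain ⟨g', hg', hgs'⟩ := sextDesc_sound hc hH Q hQ hq hcls h n' hn' ((hq n' hn').mp hQY)
  refine ⟨g'⁻¹ * g, H.mul_mem (H.inv_mem hg') hg, ?_⟩
  rw [mul_smul, hgs, ← hgs', inv_smul_smul]

/-! ### Tables of values -/

/-- the codes with a given value in a table of values -/
def clsOf (tbl : List ℕ) (j : ℕ) : List ℕ := ((canonL.zip tbl).filter (fun p => p.2 == j)).map (fun p => p.1)

theorem mem_zip_map {α β : Type*} (f : α → β) (l : List α) {a : α} (h : a ∈ l) : (a, f a) ∈ l.zip (l.map f) := by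
  induction l with
  | nil => simp at h
  | cons b l ih =>
    rw [List.map_cons, List.zip_cons_cons, List.mem_cons]
    rcases List.mem_cons.mp h with rfl | h'
    · left; rfl
    · right; exact ih h'

theorem mem_clsOf {f : ℕ → ℕ} {tbl : List ℕ} (htbl : canonL.map f = tbl) {n j : ℕ} (hn : n ∈ canonL)
    (h : f n = j) : n ∈ clsOf tbl j := by
  rw [clsOf, List.mem_map]
  refine ⟨(n, f n), ?_, rfl⟩
  rw [List.mem_filter]
  refine ⟨?_, by simp [h]⟩
  rw [← htbl]
  exact mem_zip_map f canonL hn

theorem countP_eq_count {f : ℕ → ℕ} {tbl : List ℕ} (htbl : canonL.map f = tbl) (j : ℕ) :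
    canonL.countP (fun n => f n == j) = tbl.count j := by
  rw [← htbl, List.count, List.countP_map]
  rfl

/-! ### Invariants -/

theorem canonL_sextOK : canonL.all sextOK = true := by decide +kernel

/-- sums over a coded sextet are computed on the list of its tetrad masks -/
theorem sum_dec {n : ℕ} (hn : n ∈ canonL) (φ : Finset GolayPt → ℕ) (φ' : ℕ → ℕ)
    (hφ : ∀ m, φ (maskSet m) = φ' m) : (dec n).sum φ = ((sextetMasks n).map φ').sum := by
  rw [dec, sum_sextetOf (canonL_spec hn).2.1 (List.all_eq_true.mp canonL_sextOK n hn)]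
  congr 1
  exact List.map_congr_left (fun m _ => hφ m)

theorem sum_smul (g : Equiv.Perm GolayPt) (X : Finset (Finset GolayPt)) (φ : Finset GolayPt → ℕ) :
    (g • X).sum φ = X.sum (fun t => φ (g • t)) := by
  rw [← Finset.image_smul, Finset.sum_image (fun a _ b _ h => MulAction.injective g h)]

/-- transport of a family along a group element -/
theorem ncard_smul_set' {G α : Type*} [Group G] [MulAction G α] (g : G) (A A' : Set α)
    (h : ∀ b, b ∈ A ↔ g • b ∈ A') : A.ncard = A'.ncard := by
  have : A' = (fun b => g • b) '' A := by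
    ext b'
    simp only [Set.mem_image]
    constructor
    · intro hb'
      refine ⟨g⁻¹ • b', ?_, smul_inv_smul g b'⟩
      rw [h, smul_inv_smul]
      exact hb'
    · rintro ⟨b, hb, rfl⟩
      exact (h b).mp hb
  rw [this, Set.ncard_image_of_injective _ (MulAction.injective g)]

theorem sextets_smul_iff {g : Equiv.Perm GolayPt} (hg : g ∈ M24) (X : Finset (Finset GolayPt)) :
    g • X ∈ sextets ↔ X ∈ sextets := by
  constructor
  · intro h
    have := smul_sextet_mem (M24.inv_mem hg) h
    rwa [inv_smul_smul] at this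
  · exact smul_sextet_mem hg

end Cfsg.Agent.Helper22.SextetCode
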