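import Cfsg.Agent.Helper27.M12
import Cfsg.Agent.Helper27.FaithfulPerm
import Cfsg.Agent.Helper22.MaxStab
import Cfsg.Agent.Helper22.SextetCode

/-!
# The stabiliser of a pair of points of the complement in the stabiliser of a dodecad and one of its points is the
symmetric group of degree five.
-/

set_option autoImplicit false

namespace Cfsg.Agent.Helper22.M11S5

open Cfsg Cfsg.Agent.Helper27 Cfsg.Agent.Helper22.Flag Cfsg.Agent.Helper22.SextetCode
open scoped Pointwise

/-- the five points `r` of `d` for which some octad meets `d` exactly in `{p, r}` and contains the set `t` -/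
noncomputable def fiveSet (d : Finset GolayPt) (p : GolayPt) (t : Finset GolayPt) : Finset GolayPt := by
  classical
  exact d.filter (fun r => r ≠ p ∧ ∃ O ∈ octads, O ∩ d = {p, r} ∧ t ⊆ O)

theorem mem_fiveSet (d : Finset GolayPt) (p : GolayPt) (t : Finset GolayPt) (r : GolayPt) :
    r ∈ fiveSet d p t ↔ r ∈ d ∧ r ≠ p ∧ ∃ O ∈ octads, O ∩ d = {p, r} ∧ t ⊆ O := by
  classical
  rw [fiveSet, Finset.mem_filter]

theorem smul_pair (g : Equiv.Perm GolayPt) (a b : GolayPt) : g • ({a, b} : Finset GolayPt) = {g a, g b} := by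
  rw [Finset.smul_finset_insert, Finset.smul_finset_singleton]
  rfl

theorem smul_fiveSet_subset {g : Equiv.Perm GolayPt} (hg : g ∈ M24) (d : Finset GolayPt) (p : GolayPt)
    (t : Finset GolayPt) : g • fiveSet d p t ⊆ fiveSet (g • d) (g p) (g • t) := by
  intro x hx
  obtain ⟨r, hr, rfl⟩ := Finset.mem_smul_finset.mp hx
  rw [mem_fiveSet] at hr ⊢
  obtain ⟨hrd, hrp, O, hO, hOd, htO⟩ := hr
  refine ⟨Finset.smul_mem_smul_finset hrd, fun h => hrp (g.injective h), g • O, (octads_smul_iff hg O).mpr hO, ?_,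
    Finset.smul_finset_subset_smul_finset htO⟩
  rw [← Finset.smul_finset_inter, hOd, smul_pair]
  rfl

theorem smul_fiveSet {g : Equiv.Perm GolayPt} (hg : g ∈ M24) (d : Finset GolayPt) (p : GolayPt)
    (t : Finset GolayPt) : g • fiveSet d p t = fiveSet (g • d) (g p) (g • t) := by
  apply Finset.Subset.antisymm (smul_fiveSet_subset hg d p t)
  have h := smul_fiveSet_subset (M24.inv_mem hg) (g • d) (g p) (g • t)
  rw [inv_smul_smul, inv_smul_smul] at h
  have hp : g⁻¹ (g p) = p := by simp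
  rw [hp] at h
  intro x hx
  have := h (Finset.smul_mem_smul_finset (a := g⁻¹) hx)
  rw [← smul_inv_smul g x]
  exact Finset.smul_mem_smul_finset this

/-! ### The standard configuration -/

/-- octads witnessing the five points -/
def witL : List (ℕ × ℕ) := [(6, 13893731), (7, 2494627), (9, 4424227), (10, 8983587), (14, 3719203)]

theorem witL_ok : witL.all (fun w => isOct w.2 && (w.2 &&& dod0 == 1 ||| 2 ^ w.1) && (w.2 &&& 34 == 34) &&
    Nat.blt w.1 24 && dod0.testBit w.1 && (w.1 != 0)) = true := by decide +kernel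

theorem wit_complete : ∀ j < 24, (18112 : ℕ).testBit j = true → ∃ w ∈ witL, w.1 = j := by decide +kernel

set_option maxRecDepth 100000 in
theorem only5 : ∀ k < 4096, (popc 24 (cw k) == 8 && (cw k).testBit 1 && (cw k).testBit 5) = true →
    ∀ j < 24, j ≠ 0 → cw k &&& dod0 = 1 ||| 2 ^ j → (18112 : ℕ).testBit j = true := by decide +kernel

theorem pair_eq_maskSet {j : ℕ} (hj : j < 24) : ({pt 0, pt j} : Finset GolayPt) = maskSet (1 ||| 2 ^ j) := by
  rw [maskSet_or, maskSet_two_pow hj]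
  have : (1 : ℕ) = 2 ^ 0 := rfl
  rw [this, maskSet_two_pow (by norm_num)]
  rfl

theorem t0_eq : ({pt 1, pt 5} : Finset GolayPt) = maskSet 34 := by
  have : (34 : ℕ) = 2 ^ 1 ||| 2 ^ 5 := by decide
  rw [this, maskSet_or, maskSet_two_pow (by norm_num), maskSet_two_pow (by norm_num)]
  rfl

theorem fiveSet_std : fiveSet (maskSet dod0) (pt 0) (maskSet 34) = maskSet 18112 := by
  ext r
  rw [mem_fiveSet]
  constructor
  · rintro ⟨hrd, hr0, O, hO, hOd, htO⟩
    obtain ⟨k, hk, hpop, rfl⟩ := (mem_wordsOfWeight_iff 8 O).mp hO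
    have hj := idx_lt r
    have hr : r = pt (idx r) := (pt_idx r).symm
    have hj0 : idx r ≠ 0 := by
      intro h
      apply hr0
      rw [hr, h]
    have h1 : (cw k).testBit 1 = true := by
      have : pt 1 ∈ maskSet (cw k) := htO (by rw [mem_maskSet, idx_pt (by norm_num)]; decide)
      rwa [mem_maskSet, idx_pt (by norm_num)] at this
    have h5 : (cw k).testBit 5 = true := by
      have : pt 5 ∈ maskSet (cw k) := htO (by rw [mem_maskSet, idx_pt (by norm_num)]; decide)
      rwa [mem_maskSet, idx_pt (by norm_num)] at this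
    have hand : cw k &&& dod0 = 1 ||| 2 ^ idx r := by
      apply maskSet_injOn
      · exact lt_of_le_of_lt Nat.and_le_right (by decide)
      · have h2 : (2 : ℕ) ^ idx r < 2 ^ 24 := Nat.pow_lt_pow_right (by norm_num) hj
        exact Nat.or_lt_two_pow (by norm_num) h2
      · rw [maskSet_and, ← pair_eq_maskSet hj, ← hr]
        exact hOd
    rw [mem_maskSet]
    refine only5 k hk ?_ (idx r) hj hj0 hand
    rw [Bool.and_eq_true, Bool.and_eq_true, beq_iff_eq]
    exact ⟨⟨hpop, h1⟩, h5⟩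
  · intro hbit
    rw [mem_maskSet] at hbit
    obtain ⟨w, hw, hwj⟩ := wit_complete (idx r) (idx_lt r) hbit
    have hok := List.all_eq_true.mp witL_ok w hw
    simp only [Bool.and_eq_true, beq_iff_eq, Nat.blt_eq, bne_iff_ne, ne_eq] at hok
    obtain ⟨⟨⟨⟨⟨ho, hand⟩, h34⟩, h24⟩, hd⟩, hne⟩ := hok
    rw [hwj] at hand hd hne
    have hr : r = pt (idx r) := (pt_idx r).symm
    refine ⟨by rw [mem_maskSet]; exact hd, ?_, maskSet w.2, maskSet_mem_octads ho, ?_, ?_⟩
    · intro h
      apply hne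
      rw [h, idx_pt (by norm_num)]
    · rw [← maskSet_and, hand, ← pair_eq_maskSet (idx_lt r), ← hr]
    · exact maskSet_subset_of_and h34

theorem card_fiveSet_std : (fiveSet (maskSet dod0) (pt 0) (maskSet 34)).card = 5 := by
  rw [fiveSet_std, card_maskSet]
  decide +kernel

/-! ### Transport -/

theorem exists_third {d : Finset GolayPt} (hd : d ∈ dodecads) (q q' : GolayPt) :
    ∃ z, z ∉ d ∧ z ≠ q ∧ z ≠ q' := by
  have h1 : (d ∪ {q, q'}).card < (Finset.univ : Finset GolayPt).card := by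
    have h2 := Finset.card_union_le d {q, q'}
    have h3 : ({q, q'} : Finset GolayPt).card ≤ 2 := Finset.card_le_two
    have h4 : (Finset.univ : Finset GolayPt).card = 24 := by decide
    rw [hd.2] at h2
    omega
  obtain ⟨z, -, hz⟩ := Finset.exists_mem_notMem_of_card_lt_card h1
  simp only [Finset.mem_union, Finset.mem_insert, Finset.mem_singleton, not_or] at hz
  exact ⟨z, hz.1, hz.2.1, hz.2.2⟩

theorem inj3 {a b c : GolayPt} (hab : a ≠ b) (hac : a ≠ c) (hbc : b ≠ c) : Function.Injective ![a, b, c] := by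
  intro i j h
  fin_cases i <;> fin_cases j <;> simp_all

/-- two-fold transitivity of the stabiliser of a dodecad and one of its points on the complement -/
theorem exists_map2 {d : Finset GolayPt} (hd : d ∈ dodecads) {p : GolayPt} (hp : p ∈ d) {q q' r r' : GolayPt}
    (hq : q ∉ d) (hq' : q' ∉ d) (hqq : q ≠ q') (hr : r ∉ d) (hr' : r' ∉ d) (hrr : r ≠ r') :
    ∃ k ∈ fixH (stabP d) {p}, k q = r ∧ k q' = r' := by
  obtain ⟨z, hz, hzq, hzq'⟩ := exists_third hd q q'
  obtain ⟨w, hw, hwr, hwr'⟩ := exists_third hd r r'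
  obtain ⟨k, hk, hmap⟩ := stabP_pt_three_transitive hd hp ![q, q', z] ![r, r', w]
    (inj3 hqq (Ne.symm hzq) (Ne.symm hzq')) (inj3 hrr (Ne.symm hwr) (Ne.symm hwr'))
    (fun i => by fin_cases i <;> simp [hq, hq', hz]) (fun i => by fin_cases i <;> simp [hr, hr', hw])
  exact ⟨k, hk, hmap 0, hmap 1⟩

theorem pt1_notMem : pt 1 ∉ maskSet dod0 := by
  rw [mem_maskSet, idx_pt (by norm_num)]; decide

theorem pt5_notMem : pt 5 ∉ maskSet dod0 := by
  rw [mem_maskSet, idx_pt (by norm_num)]; decide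

theorem pt0_mem : pt 0 ∈ maskSet dod0 := by
  rw [mem_maskSet, idx_pt (by norm_num)]; decide

theorem pt1_ne_pt5 : pt 1 ≠ pt 5 := by
  intro h
  have := congrArg idx h
  rw [idx_pt (by norm_num), idx_pt (by norm_num)] at this
  omega

theorem notMem_smul {g : Equiv.Perm GolayPt} {d : Finset GolayPt} {q : GolayPt} (hq : q ∉ d) : g q ∉ g • d := by
  intro h
  exact hq ((mem_smul_iff g q d).mp h)

theorem exists_to_std {d : Finset GolayPt} (hd : d ∈ dodecads) {p q q' : GolayPt} (hp : p ∈ d) (hq : q ∉ d)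
    (hq' : q' ∉ d) (hqq : q ≠ q') :
    ∃ g ∈ M24, g • d = maskSet dod0 ∧ g p = pt 0 ∧ g • ({q, q'} : Finset GolayPt) = maskSet 34 := by
  obtain ⟨g1, hg1, hg1d, hg1p⟩ := exists_smul_eq_dod0_pt hd hp
  have hd0 : maskSet dod0 ∈ dodecads := by rw [← hg1d]; exact (dodecads_smul_iff hg1 d).mpr hd
  have h1 : g1 q ∉ maskSet dod0 := by rw [← hg1d]; exact notMem_smul hq
  have h2 : g1 q' ∉ maskSet dod0 := by rw [← hg1d]; exact notMem_smul hq'
  obtain ⟨k, hk, hk1, hk2⟩ := exists_map2 hd0 pt0_mem h1 h2 (fun h => hqq (g1.injective h)) pt1_notMem pt5_notMem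
    pt1_ne_pt5
  rw [mem_fixH, mem_stabP] at hk
  refine ⟨k * g1, M24.mul_mem hk.1.1 hg1, ?_, ?_, ?_⟩
  · rw [mul_smul, hg1d, hk.1.2]
  · rw [Equiv.Perm.mul_apply, hg1p]
    exact hk.2 _ (Finset.mem_singleton_self _)
  · rw [smul_pair, Equiv.Perm.mul_apply, Equiv.Perm.mul_apply, hk1, hk2, t0_eq]

theorem card_fiveSet {d : Finset GolayPt} (hd : d ∈ dodecads) {p q q' : GolayPt} (hp : p ∈ d) (hq : q ∉ d)
    (hq' : q' ∉ d) (hqq : q ≠ q') : (fiveSet d p {q, q'}).card = 5 := by
  obtain ⟨g, hg, hgd, hgp, hgt⟩ := exists_to_std hd hp hq hq' hqq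
  rw [← Finset.card_smul_finset g, smul_fiveSet hg, hgd, hgp, hgt]
  exact card_fiveSet_std

/-! ### The order -/

theorem orbit_pair {d : Finset GolayPt} (hd : d ∈ dodecads) {p q q' : GolayPt} (hp : p ∈ d) (hq : q ∉ d)
    (hq' : q' ∉ d) (hqq : q ≠ q') :
    MulAction.orbit ↥(MulAction.stabilizer ↥M24 d ⊓ MulAction.stabilizer ↥M24 p) ({q, q'} : Finset GolayPt) =
      ↑(Finset.powersetCard 2 (Finset.univ \ d)) := by
  ext t
  rw [Finset.mem_coe, Finset.mem_powersetCard]
  constructor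
  · rintro ⟨k, rfl⟩
    have hk := k.2
    rw [Subgroup.mem_inf] at hk
    have hkd : ((k : ↥M24) : Equiv.Perm GolayPt) • d = d := hk.1
    constructor
    · intro x hx
      rw [Finset.mem_sdiff]
      refine ⟨Finset.mem_univ _, ?_⟩
      have hx' : x ∈ ((k : ↥M24) : Equiv.Perm GolayPt) • ({q, q'} : Finset GolayPt) := hx
      rw [smul_pair] at hx'
      rw [← hkd]
      rcases Finset.mem_insert.mp hx' with rfl | hx'
      · exact notMem_smul hq
      · rw [Finset.mem_singleton] at hx'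
        rw [hx']
        exact notMem_smul hq'
    · show (((k : ↥M24) : Equiv.Perm GolayPt) • ({q, q'} : Finset GolayPt)).card = 2
      rw [Finset.card_smul_finset, Finset.card_pair hqq]
  · rintro ⟨hsub, hcard⟩
    obtain ⟨r, r', hrr, rfl⟩ := Finset.card_eq_two.mp hcard
    have hr : r ∉ d := (Finset.mem_sdiff.mp (hsub (Finset.mem_insert_self _ _))).2
    have hr' : r' ∉ d :=
      (Finset.mem_sdiff.mp (hsub (Finset.mem_insert_of_mem (Finset.mem_singleton_self _)))).2
    obtain ⟨k, hk, hk1, hk2⟩ := exists_map2 hd hp hq hq' hqq hr hr' hrr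
    rw [mem_fixH, mem_stabP] at hk
    refine ⟨⟨⟨k, hk.1.1⟩, ?_⟩, ?_⟩
    · rw [Subgroup.mem_inf]
      exact ⟨hk.1.2, hk.2 p (Finset.mem_singleton_self _)⟩
    · show k • ({q, q'} : Finset GolayPt) = {r, r'}
      rw [smul_pair, hk1, hk2]

theorem card_pair_stab {d : Finset GolayPt} (hd : d ∈ dodecads) {p q q' : GolayPt} (hp : p ∈ d) (hq : q ∉ d)
    (hq' : q' ∉ d) (hqq : q ≠ q') :
    Nat.card ↥(MulAction.stabilizer ↥M24 d ⊓ MulAction.stabilizer ↥M24 p ⊓
      MulAction.stabilizer ↥M24 ({q, q'} : Finset GolayPt)) = 120 := by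
  have h1 := Cfsg.Agent.Helper22.MaxStab.relIndex_stabilizer
    (MulAction.stabilizer ↥M24 d ⊓ MulAction.stabilizer ↥M24 p) ({q, q'} : Finset GolayPt)
  rw [orbit_pair hd hp hq hq' hqq, Set.ncard_coe_finset, Finset.card_powersetCard, Finset.card_sdiff_of_subset
    (Finset.subset_univ d), hd.2] at h1
  have hu : (Finset.univ : Finset GolayPt).card = 24 := by decide
  rw [hu] at h1
  have h2 := Subgroup.relIndex_mul_relIndex ⊥
    (MulAction.stabilizer ↥M24 d ⊓ MulAction.stabilizer ↥M24 p ⊓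
      MulAction.stabilizer ↥M24 ({q, q'} : Finset GolayPt))
    (MulAction.stabilizer ↥M24 d ⊓ MulAction.stabilizer ↥M24 p) bot_le inf_le_left
  rw [Subgroup.relIndex_bot_left, Subgroup.relIndex_bot_left, Subgroup.inf_relIndex_left, h1,
    card_stabilizer_dodecad_pt hd hp] at h2
  have : Nat.choose (24 - 12) 2 = 66 := by decide
  rw [this] at h2
  omega

/-- the isomorphism with the symmetric group of degree five -/
theorem iso_S5 {d : Finset GolayPt} (hd : d ∈ dodecads) {p q q' : GolayPt} (hp : p ∈ d) (hq : q ∉ d)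
    (hq' : q' ∉ d) (hqq : q ≠ q') :
    Nonempty (↥(MulAction.stabilizer ↥M24 d ⊓ MulAction.stabilizer ↥M24 p ⊓
      MulAction.stabilizer ↥M24 ({q, q'} : Finset GolayPt)) ≃* Equiv.Perm (Fin 5)) := by
  classical
  have hs5 := card_fiveSet hd hp hq hq' hqq
  have hmem : ∀ g : ↥(MulAction.stabilizer ↥M24 d ⊓ MulAction.stabilizer ↥M24 p ⊓
      MulAction.stabilizer ↥M24 ({q, q'} : Finset GolayPt)),
      ((g : ↥M24) : Equiv.Perm GolayPt) • d = d ∧ ((g : ↥M24) : Equiv.Perm GolayPt) p = p ∧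
        ((g : ↥M24) : Equiv.Perm GolayPt) • ({q, q'} : Finset GolayPt) = {q, q'} := by
    intro g
    have h := g.2
    rw [Subgroup.mem_inf, Subgroup.mem_inf] at h
    exact ⟨h.1.1, h.1.2, h.2⟩
  apply mulEquiv_perm_of_faithful (fiveSet d p {q, q'}) 5 hs5
  · intro g r hr
    obtain ⟨h1, h2, h3⟩ := hmem g
    show ((g : ↥M24) : Equiv.Perm GolayPt) r ∈ fiveSet d p {q, q'}
    have := smul_fiveSet (g : ↥M24).2 d p {q, q'}
    rw [h1, h2, h3] at this
    rw [← this]
    exact Finset.smul_mem_smul_finset hr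
  · intro g hfix
    obtain ⟨h1, h2, h3⟩ := hmem g
    let e := Finset.equivFinOfCardEq hs5
    let x : Fin 5 → GolayPt := fun i => ((e.symm i : ↥(fiveSet d p {q, q'})) : GolayPt)
    have hx : Function.Injective x := Subtype.val_injective.comp e.symm.injective
    have hxd : ∀ i, x i ∈ d := fun i => ((mem_fiveSet d p {q, q'} _).mp (e.symm i).2).1
    obtain ⟨k, -, -, huniq⟩ := stabP_sharp5 hd x x hx hx hxd hxd
    have hg : ((g : ↥M24) : Equiv.Perm GolayPt) = k := by
      apply huniq _ ((mem_stabP _ _).mpr ⟨(g : ↥M24).2, h1⟩)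
      intro i
      exact hfix _ (e.symm i).2
    have h1' : (1 : Equiv.Perm GolayPt) = k := huniq 1 (Subgroup.one_mem _) (fun i => rfl)
    apply Subtype.ext
    apply Subtype.ext
    rw [hg, ← h1']
    rfl
  · rw [card_pair_stab hd hp hq hq' hqq]
    rfl

end Cfsg.Agent.Helper22.M11S5
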