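import Cfsg.Agent.Helper22.Flag2

/-!
The pointwise stabiliser of three points of a dodecad in the dodecad stabiliser: order 72, transitive on the
complementary dodecad.
-/

set_option autoImplicit false

namespace Cfsg.Agent.Helper22.M9

open Cfsg Cfsg.Agent.Helper27 Cfsg.Agent.Helper22.Flag
open scoped Pointwise

theorem inj5' {α : Type*} (a b c e f : α) (hab : a ≠ b) (hac : a ≠ c) (hae : a ≠ e) (haf : a ≠ f)
    (hbc : b ≠ c) (hbe : b ≠ e) (hbf : b ≠ f) (hce : c ≠ e) (hcf : c ≠ f) (hef : e ≠ f) :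
    Function.Injective ![a, b, c, e, f] := by
  intro i j hij
  fin_cases i <;> fin_cases j <;>
    first
    | rfl
    | exact absurd hij hab | exact absurd hij.symm hab
    | exact absurd hij hac | exact absurd hij.symm hac
    | exact absurd hij hae | exact absurd hij.symm hae
    | exact absurd hij haf | exact absurd hij.symm haf
    | exact absurd hij hbc | exact absurd hij.symm hbc
    | exact absurd hij hbe | exact absurd hij.symm hbe
    | exact absurd hij hbf | exact absurd hij.symm hbf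
    | exact absurd hij hce | exact absurd hij.symm hce
    | exact absurd hij hcf | exact absurd hij.symm hcf
    | exact absurd hij hef | exact absurd hij.symm hef

theorem exists_five_with_three {s : Finset GolayPt} (h : 5 ≤ s.card) {a b c : GolayPt} (ha : a ∈ s) (hb : b ∈ s)
    (hc : c ∈ s) (hab : a ≠ b) (hac : a ≠ c) (hbc : b ≠ c) :
    ∃ x : Fin 5 → GolayPt, Function.Injective x ∧ (∀ i, x i ∈ s) ∧ x 0 = a ∧ x 1 = b ∧ x 2 = c := by
  classical
  have hb' : b ∈ s.erase a := Finset.mem_erase.mpr ⟨hab.symm, hb⟩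
  have hc' : c ∈ (s.erase a).erase b := Finset.mem_erase.mpr ⟨hbc.symm, Finset.mem_erase.mpr ⟨hac.symm, hc⟩⟩
  have h2 : 2 ≤ (((s.erase a).erase b).erase c).card := by
    rw [Finset.card_erase_of_mem hc', Finset.card_erase_of_mem hb', Finset.card_erase_of_mem ha]; omega
  obtain ⟨t, hts, htc⟩ := Finset.exists_subset_card_eq h2
  obtain ⟨e1, e2, he12, rfl⟩ := Finset.card_eq_two.mp htc
  have hm : ∀ z ∈ ({e1, e2} : Finset GolayPt), z ∈ s ∧ z ≠ a ∧ z ≠ b ∧ z ≠ c := by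
    intro z hz
    have h1 := hts hz
    rw [Finset.mem_erase, Finset.mem_erase, Finset.mem_erase] at h1
    exact ⟨h1.2.2.2, h1.2.2.1, h1.2.1, h1.1⟩
  have h1 := hm e1 (by simp)
  have h2 := hm e2 (by simp)
  refine ⟨![a, b, c, e1, e2], ?_, ?_, rfl, rfl, rfl⟩
  · exact inj5' a b c e1 e2 hab hac h1.2.1.symm h2.2.1.symm hbc h1.2.2.1.symm
      h2.2.2.1.symm h1.2.2.2.symm h2.2.2.2.symm he12
  · intro i
    fin_cases i
    · exact ha
    · exact hb
    · exact hc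
    · exact h1.1
    · exact h2.1

theorem std_inj : Function.Injective ![pt 0, pt 2, pt 3, pt 4, pt 6] := by decide

theorem std_mem : ∀ i, ![pt 0, pt 2, pt 3, pt 4, pt 6] i ∈ maskSet dod0 := by
  intro i
  fin_cases i <;> (simp only [mem_maskSet]; decide)

/-- move a dodecad with three of its points to the standard position -/
theorem exists_flag {d : Finset GolayPt} (hd : d ∈ dodecads) {p q r : GolayPt} (hp : p ∈ d) (hq : q ∈ d) (hr : r ∈ d)
    (hpq : p ≠ q) (hpr : p ≠ r) (hqr : q ≠ r) :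
    ∃ g ∈ M24, g • d = maskSet dod0 ∧ g p = pt 0 ∧ g q = pt 2 ∧ g r = pt 3 := by
  obtain ⟨g1, hg1, hg1d⟩ := exists_smul_eq_dod0 hd
  have hm : ∀ z ∈ d, g1 z ∈ maskSet dod0 := by
    intro z hz
    rw [← hg1d, mem_smul_iff]; exact hz
  obtain ⟨u, hu, hud, hu0, hu1, hu2⟩ := exists_five_with_three (s := maskSet dod0)
    (by rw [card_maskSet]; decide) (hm p hp) (hm q hq) (hm r hr)
    (fun h => hpq (g1.injective h)) (fun h => hpr (g1.injective h)) (fun h => hqr (g1.injective h))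
  obtain ⟨k, hk, hku, _⟩ := stabP_sharp5 maskSet_dod0_mem u _ hu std_inj hud std_mem
  obtain ⟨hkM, hkd⟩ := (mem_stabP _ k).mp hk
  refine ⟨k * g1, M24.mul_mem hkM hg1, ?_, ?_, ?_, ?_⟩
  · rw [mul_smul, hg1d, hkd]
  · rw [Equiv.Perm.mul_apply, ← hu0]; exact hku 0
  · rw [Equiv.Perm.mul_apply, ← hu1]; exact hku 1
  · rw [Equiv.Perm.mul_apply, ← hu2]; exact hku 2

theorem hfix : ∀ f ∈ [3, 2, 0], f < 24 := by decide

theorem card_std : Nat.card (fixH H12 (ptsOf [3, 2, 0])) = 72 := by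
  have h3 := card_fixH_insert H12 (ptsOf [3, 2, 0]) (pt 4)
  have h4 := card_fixH_insert H12 (ptsOf [4, 3, 2, 0]) (pt 6)
  rw [← ptsOf_cons, orbit_ncard_of_eq orbit12_eq3] at h3
  rw [← ptsOf_cons, orbit_ncard_of_eq orbit12_eq4, fixH12_base_eq_bot] at h4
  have e3 : popc 24 (dod0 ^^^ (dod0 &&& tblMask [3, 2, 0])) = 9 := by decide +kernel
  have e4 : popc 24 (dod0 ^^^ (dod0 &&& tblMask [4, 3, 2, 0])) = 8 := by decide +kernel
  rw [e3, h4, e4] at h3
  simpa using h3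

/-- elements of the three-point stabiliser moving the points of the complementary dodecad to the point `1` -/
def compTrans : List (List ℕ) := [
  [0,1,2,3,4,5,6,7,8,9,10,11,12,13,14,15,16,17,18,19,20,21,22,23],
  [0,19,2,3,4,15,7,13,11,14,6,9,17,10,8,5,21,1,23,12,22,18,20,16],
  [0,23,2,3,8,19,7,9,14,13,4,11,21,6,10,1,17,18,20,5,16,12,15,22],
  [0,15,2,3,10,19,13,6,4,7,14,11,21,9,8,22,20,16,17,5,18,12,23,1],
  [0,19,2,3,13,21,14,6,10,9,4,7,17,8,11,18,23,12,15,22,1,16,20,5],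
  [0,22,2,3,14,5,9,13,10,6,8,11,12,7,4,23,18,20,16,19,17,21,1,15],
  [0,17,2,3,4,15,10,6,14,11,13,8,19,7,9,5,23,12,21,1,22,16,20,18],
  [0,18,2,3,8,1,4,7,10,11,6,14,5,9,13,19,22,21,12,23,15,17,16,20],
  [0,23,2,3,4,20,11,8,10,7,9,13,21,14,6,22,19,16,17,18,5,1,15,12],
  [0,5,2,3,10,22,6,9,11,8,13,7,16,14,4,19,12,15,1,21,23,17,18,20],
  [0,18,2,3,4,22,8,14,13,6,11,7,16,9,10,20,1,23,12,21,15,17,5,19],
  [0,22,2,3,9,18,14,11,4,8,6,13,1,7,10,15,5,19,16,20,17,21,12,23]]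

theorem compTrans_ok : moveOK (certF dod0 [3, 2, 0]) compTrans dod0c 1 = true := by decide +kernel


variable {d : Finset GolayPt} {p q r : GolayPt}

/-- the subgroup of the statement, as a group of permutations -/
theorem map_eq (d : Finset GolayPt) (p q r : GolayPt) :
    (MulAction.stabilizer M24 d ⊓ MulAction.stabilizer M24 p ⊓ MulAction.stabilizer M24 q ⊓
      MulAction.stabilizer M24 r).map M24.subtype = fixH (stabP d) {p, q, r} := by
  ext g
  rw [Subgroup.mem_map, mem_fixH, mem_stabP]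
  constructor
  · rintro ⟨k, hk, rfl⟩
    simp only [Subgroup.mem_inf] at hk
    obtain ⟨⟨⟨h1, h2⟩, h3⟩, h4⟩ := hk
    refine ⟨⟨k.2, h1⟩, ?_⟩
    intro z hz
    simp only [Finset.mem_insert, Finset.mem_singleton] at hz
    rcases hz with rfl | rfl | rfl
    · exact h2
    · exact h3
    · exact h4
  · rintro ⟨⟨h1, h2⟩, h3⟩
    refine ⟨⟨g, h1⟩, ?_, rfl⟩
    simp only [Subgroup.mem_inf]
    exact ⟨⟨⟨h2, h3 p (by simp)⟩, h3 q (by simp)⟩, h3 r (by simp)⟩

theorem fixH_eq_conj {g0 : Equiv.Perm GolayPt} (hg0 : g0 ∈ M24) (hg0d : g0 • d = maskSet dod0) (hp : g0 p = pt 0)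
    (hq : g0 q = pt 2) (hr : g0 r = pt 3) :
    fixH (stabP d) {p, q, r} = conjH g0⁻¹ (fixH H12 (ptsOf [3, 2, 0])) := by
  ext h
  rw [mem_conjH, inv_inv, mem_fixH, mem_fixH, mem_stabP, mem_stabP]
  constructor
  · rintro ⟨⟨h1, h2⟩, h3⟩
    refine ⟨⟨M24.mul_mem (M24.mul_mem hg0 h1) (M24.inv_mem hg0), ?_⟩, ?_⟩
    · rw [mul_smul, mul_smul, ← hg0d, inv_smul_smul, h2]
    · intro z hz
      obtain ⟨f, hf, rfl⟩ := (mem_ptsOf _ z).mp hz
      simp only [List.mem_cons, List.not_mem_nil, or_false] at hf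
      rw [Equiv.Perm.mul_apply, Equiv.Perm.mul_apply]
      rcases hf with rfl | rfl | rfl
      · have : g0⁻¹ (pt 3) = r := by rw [← hr]; simp
        rw [this, h3 r (by simp), hr]
      · have : g0⁻¹ (pt 2) = q := by rw [← hq]; simp
        rw [this, h3 q (by simp), hq]
      · have : g0⁻¹ (pt 0) = p := by rw [← hp]; simp
        rw [this, h3 p (by simp), hp]
  · rintro ⟨⟨h1, h2⟩, h3⟩
    have e : h = g0⁻¹ * (g0 * h * g0⁻¹) * g0 := by group
    refine ⟨⟨?_, ?_⟩, ?_⟩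
    · rw [e]; exact M24.mul_mem (M24.mul_mem (M24.inv_mem hg0) h1) hg0
    · rw [e, mul_smul, mul_smul, hg0d, h2, ← hg0d, inv_smul_smul]
    · intro z hz
      simp only [Finset.mem_insert, Finset.mem_singleton] at hz
      have key : ∀ f ∈ [3, 2, 0], ∀ z, g0 z = pt f → h z = z := by
        intro f hf z hz
        have := h3 (pt f) ((mem_ptsOf _ _).mpr ⟨f, hf, rfl⟩)
        rw [Equiv.Perm.mul_apply, Equiv.Perm.mul_apply, ← hz] at this
        simp at this
        exact this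
      rcases hz with rfl | rfl | rfl
      · exact key 0 (by simp) _ hp
      · exact key 2 (by simp) _ hq
      · exact key 3 (by simp) _ hr

theorem card_eq (hd : d ∈ dodecads) (hp : p ∈ d) (hq : q ∈ d) (hr : r ∈ d) (hpq : p ≠ q) (hpr : p ≠ r) (hqr : q ≠ r) :
    Nat.card ↥(MulAction.stabilizer M24 d ⊓ MulAction.stabilizer M24 p ⊓ MulAction.stabilizer M24 q ⊓
      MulAction.stabilizer M24 r) = 72 := by
  obtain ⟨g0, hg0, hg0d, h0, h2, h3⟩ := exists_flag hd hp hq hr hpq hpr hqr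
  rw [← card_std, ← card_conjH g0⁻¹, ← fixH_eq_conj hg0 hg0d h0 h2 h3, ← map_eq]
  exact (Subgroup.card_map_of_injective M24.subtype_injective).symm

theorem trans_compl (hd : d ∈ dodecads) (hp : p ∈ d) (hq : q ∈ d) (hr : r ∈ d) (hpq : p ≠ q) (hpr : p ≠ r)
    (hqr : q ≠ r) {x y : GolayPt} (hx : x ∉ d) (hy : y ∉ d) :
    ∃ g ∈ (MulAction.stabilizer M24 d ⊓ MulAction.stabilizer M24 p ⊓ MulAction.stabilizer M24 q ⊓
      MulAction.stabilizer M24 r), ((g : ↥M24) : Equiv.Perm GolayPt) x = y := by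
  obtain ⟨g0, hg0, hg0d, h0, h2, h3⟩ := exists_flag hd hp hq hr hpq hpr hqr
  have hc : ∀ z, z ∉ d → g0 z ∈ maskSet dod0c := by
    intro z hz
    rw [dod0c, maskSet_compl, Finset.mem_sdiff]
    refine ⟨Finset.mem_univ _, ?_⟩
    rw [← hg0d, mem_smul_iff]; exact hz
  obtain ⟨k1, hk1, hk1x⟩ := move_sound (certSoundF dod0 hfix) compTrans_ok (hc x hx)
  obtain ⟨k2, hk2, hk2y⟩ := move_sound (certSoundF dod0 hfix) compTrans_ok (hc y hy)
  have hk : k2⁻¹ * k1 ∈ flagH dod0 [3, 2, 0] := (flagH dod0 [3, 2, 0]).mul_mem ((flagH dod0 [3, 2, 0]).inv_mem hk2) hk1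
  obtain ⟨c1, c2, c3, _⟩ := conj_flag hfix hg0 hk
  refine ⟨⟨g0⁻¹ * (k2⁻¹ * k1) * g0, c1⟩, ?_, ?_⟩
  · simp only [Subgroup.mem_inf, MulAction.mem_stabilizer_iff]
    refine ⟨⟨⟨c2 d hg0d, c3 0 (by simp) p h0⟩, c3 2 (by simp) q h2⟩, c3 3 (by simp) r h3⟩
  · show (g0⁻¹ * (k2⁻¹ * k1) * g0) x = y
    rw [Equiv.Perm.mul_apply, Equiv.Perm.mul_apply, Equiv.Perm.mul_apply, hk1x, ← hk2y]
    simp

end Cfsg.Agent.Helper22.M9
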