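import Cfsg.Agent.Helper22.HS100b

/-!
# The 2025 minimal vectors attached to two minimal vectors of inner product `-8`

For minimal vectors `v`, `w` with `v · w = -8` the set `X v w` of the minimal vectors `x` with `v · x = 0` and
`w · x = 16`. The triples `(v, w, x)` correspond to the triples of `HS100` by an equivariant bijection, which gives the
transitivity and the number `2025`.
-/

set_option autoImplicit false

namespace Cfsg.Agent.Helper22.McL2025

open Cfsg Cfsg.Agent.Helper27 Cfsg.Agent.Helper22.Co0Mono Cfsg.Agent.Helper22.CrossStab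
  Cfsg.Agent.Helper22.Co0Center Cfsg.Agent.Helper22.MinTrans Cfsg.Agent.Helper22.Norm6Trans
  Cfsg.Agent.Helper22.Co0Order Cfsg.Agent.Helper22.Summands Cfsg.Agent.Helper22.Census
  Cfsg.Agent.Helper22.QuadForm Cfsg.Agent.Helper22.LeechMod2 Cfsg.Agent.Helper22.Co3Orbit
  Cfsg.Agent.Helper22.GolayComb Cfsg.Agent.Helper22.Design Cfsg.Agent.Helper22.HS100
  Cfsg.Agent.Helper22.HS100b Cfsg.Agent.Helper22.Co2Trans2
open scoped Pointwise

/-- the points -/
def X (v w : ↥leechLattice) : Set ↥leechLattice :=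
  {x | sqNorm (x : GolayPt → ℤ) = 32 ∧ dotInt (v : GolayPt → ℤ) (x : GolayPt → ℤ) = 0 ∧
    dotInt (w : GolayPt → ℤ) (x : GolayPt → ℤ) = 16}

theorem smul_mem_X (g : ↥Co0) {v w x : ↥leechLattice} (hx : x ∈ X v w) : g • x ∈ X (g • v) (g • w) :=
  ⟨by rw [co0_norm, hx.1], by rw [co0_dot, hx.2.1], by rw [co0_dot, hx.2.2]⟩

theorem finite_X (v w : ↥leechLattice) : (X v w).Finite := finite_L32.subset fun _ hx => hx.1

theorem ncard_X_smul (g : ↥Co0) (v w : ↥leechLattice) : (X (g • v) (g • w)).ncard = (X v w).ncard := by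
  have himg : (fun x : ↥leechLattice => g • x) '' X v w = X (g • v) (g • w) := by
    ext y
    constructor
    · rintro ⟨x, hx, rfl⟩
      exact smul_mem_X g hx
    · intro hy
      refine ⟨g⁻¹ • y, ?_, smul_inv_smul g y⟩
      have := smul_mem_X g⁻¹ hy
      rwa [inv_smul_smul, inv_smul_smul] at this
  rw [← himg]
  exact Set.ncard_image_of_injective _ (MulAction.injective g)

theorem sqNorm_add (a b : GolayPt → ℤ) : sqNorm (a + b) = sqNorm a + sqNorm b + 2 * dotInt a b := by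
  simp only [sqNorm, dotInt, Pi.add_apply, Finset.mul_sum, ← Finset.sum_add_distrib]
  apply Finset.sum_congr rfl
  intro i _
  ring

theorem dot_sub_left (a b c : GolayPt → ℤ) : dotInt (a - b) c = dotInt a c - dotInt b c := by
  rw [sub_eq_add_neg, dot_add_left, dot_neg_left, ← sub_eq_add_neg]

theorem dot_sub_right (a b c : GolayPt → ℤ) : dotInt a (b - c) = dotInt a b - dotInt a c := by
  rw [sub_eq_add_neg, dot_add_right, dot_neg_right', ← sub_eq_add_neg]

/-! ### The triples -/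

/-- the triples -/
def TM : Set (↥leechLattice × ↥leechLattice × ↥leechLattice) :=
  {t | t.1 ∈ L 32 ∧ t.2 ∈ {q : ↥leechLattice × ↥leechLattice | q.1 ∈ Census.X t.1 (-8) ∧ q.2 ∈ X t.1 q.1}}

theorem mem_TM (v w x : ↥leechLattice) : (v, w, x) ∈ TM ↔ sqNorm (v : GolayPt → ℤ) = 32 ∧
    sqNorm (w : GolayPt → ℤ) = 32 ∧ dotInt (v : GolayPt → ℤ) (w : GolayPt → ℤ) = -8 ∧ x ∈ X v w := by
  unfold TM Census.X L
  simp only [Set.mem_ofPred_eq, and_assoc]

/-- the correspondence with the triples of `HS100` -/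
def phi (t : ↥leechLattice × ↥leechLattice × ↥leechLattice) : ↥leechLattice × ↥leechLattice × ↥leechLattice :=
  (t.1 + t.2.1, t.2.2 - (t.1 + t.2.1), t.1)

theorem phi_smul (g : ↥Co0) (t : ↥leechLattice × ↥leechLattice × ↥leechLattice) : phi (g • t) = g • phi t := by
  obtain ⟨v, w, x⟩ := t
  show (g • v + g • w, g • x - (g • v + g • w), g • v) = (g • (v + w), g • (x - (v + w)), g • v)
  rw [co0_sub, co0_add]

theorem phi_injective : Function.Injective phi := by
  rintro ⟨v, w, x⟩ ⟨v', w', x'⟩ h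
  have h' : (v + w, x - (v + w), v) = (v' + w', x' - (v' + w'), v') := h
  rw [Prod.mk.injEq, Prod.mk.injEq] at h'
  obtain ⟨h1, h2, h3⟩ := h'
  subst h3
  have h4 : w = w' := add_left_cancel h1
  subst h4
  have h5 : x = x' := sub_left_injective h2
  rw [h5]

theorem phi_mem {t : ↥leechLattice × ↥leechLattice × ↥leechLattice} (ht : t ∈ TM) : phi t ∈ TT := by
  obtain ⟨v, w, x⟩ := t
  rw [mem_TM] at ht
  obtain ⟨hv, hw, hvw, hx, hvx, hwx⟩ := ht
  have hwv : dotInt (w : GolayPt → ℤ) (v : GolayPt → ℤ) = -8 := by rw [dot_comm', hvw]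
  have hxv : dotInt (x : GolayPt → ℤ) (v : GolayPt → ℤ) = 0 := by rw [dot_comm', hvx]
  have hxw : dotInt (x : GolayPt → ℤ) (w : GolayPt → ℤ) = 16 := by rw [dot_comm', hwx]
  have h1 : sqNorm ((v : GolayPt → ℤ) + (w : GolayPt → ℤ)) = 48 := by
    rw [sqNorm_add, hv, hw, hvw]
    norm_num
  show (v + w, x - (v + w), v) ∈ TT
  rw [mem_TT]
  refine ⟨h1, ?_, ?_, ?_, ?_, ?_⟩
  · show sqNorm ((x : GolayPt → ℤ) - ((v : GolayPt → ℤ) + (w : GolayPt → ℤ))) = 48
    rw [Summands.sqNorm_sub, hx, h1, dot_add_right, hxv, hxw]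
    norm_num
  · show dotInt ((v : GolayPt → ℤ) + (w : GolayPt → ℤ)) ((x : GolayPt → ℤ) - ((v : GolayPt → ℤ) + (w : GolayPt → ℤ))) = -32
    rw [dot_sub_right, dot_self, h1, dot_add_left, hvx, hwx]
    norm_num
  · exact hv
  · show dotInt ((v : GolayPt → ℤ) + (w : GolayPt → ℤ)) (v : GolayPt → ℤ) = 24
    rw [dot_add_left, dot_self, hv, hwv]
    norm_num
  · show dotInt ((x : GolayPt → ℤ) - ((v : GolayPt → ℤ) + (w : GolayPt → ℤ))) (v : GolayPt → ℤ) = -24
    rw [dot_sub_left, dot_add_left, dot_self, hv, hwv, hxv]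
    norm_num

theorem exists_phi {t' : ↥leechLattice × ↥leechLattice × ↥leechLattice} (ht' : t' ∈ TT) : ∃ t ∈ TM, phi t = t' := by
  obtain ⟨v, w, x⟩ := t'
  rw [mem_TT] at ht'
  obtain ⟨hv, hw, hvw, hx, hvx, hwx⟩ := ht'
  have hwv : dotInt (w : GolayPt → ℤ) (v : GolayPt → ℤ) = -32 := by rw [dot_comm', hvw]
  have hxv : dotInt (x : GolayPt → ℤ) (v : GolayPt → ℤ) = 24 := by rw [dot_comm', hvx]
  have hxw : dotInt (x : GolayPt → ℤ) (w : GolayPt → ℤ) = -24 := by rw [dot_comm', hwx]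
  refine ⟨(x, v - x, w + v), ?_, ?_⟩
  · rw [mem_TM]
    refine ⟨hx, ?_, ?_, ?_, ?_, ?_⟩
    · show sqNorm ((v : GolayPt → ℤ) - (x : GolayPt → ℤ)) = 32
      rw [Summands.sqNorm_sub, hv, hx, hvx]
      norm_num
    · show dotInt (x : GolayPt → ℤ) ((v : GolayPt → ℤ) - (x : GolayPt → ℤ)) = -8
      rw [dot_sub_right, dot_self, hx, hxv]
      norm_num
    · show sqNorm ((w : GolayPt → ℤ) + (v : GolayPt → ℤ)) = 32
      rw [sqNorm_add, hv, hw, hwv]
      norm_num
    · show dotInt (x : GolayPt → ℤ) ((w : GolayPt → ℤ) + (v : GolayPt → ℤ)) = 0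
      rw [dot_add_right, hxv, hxw]
      norm_num
    · show dotInt ((v : GolayPt → ℤ) - (x : GolayPt → ℤ)) ((w : GolayPt → ℤ) + (v : GolayPt → ℤ)) = 16
      rw [dot_sub_left, dot_add_right, dot_add_right, dot_self, hv, hvw, hxv, hxw]
      norm_num
  · show (x + (v - x), w + v - (x + (v - x)), x) = (v, w, x)
    rw [add_sub_cancel, add_sub_cancel_right]

theorem phi_image : phi '' TM = TT := by
  ext t'
  constructor
  · rintro ⟨t, ht, rfl⟩
    exact phi_mem ht
  · intro ht'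
    obtain ⟨t, ht, h⟩ := exists_phi ht'
    exact ⟨t, ht, h⟩

theorem ncard_TM : TM.ncard = 16773120 * (11178 * 100) := by
  rw [← ncard_TT, ← phi_image]
  exact (Set.ncard_image_of_injective _ phi_injective).symm

theorem finite_TM : TM.Finite := Set.finite_of_ncard_ne_zero (by rw [ncard_TM]; norm_num)

/-- the automorphism group is transitive on the triples -/
theorem TM_transitive {t t' : ↥leechLattice × ↥leechLattice × ↥leechLattice} (ht : t ∈ TM) (ht' : t' ∈ TM) :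
    ∃ g : ↥Co0, g • t = t' := by
  obtain ⟨g, hg⟩ := TT_transitive (phi_mem ht) (phi_mem ht')
  refine ⟨g, phi_injective ?_⟩
  rw [phi_smul, hg]

theorem X_transitive (v w : ↥leechLattice) (hv : sqNorm (v : GolayPt → ℤ) = 32) (hw : sqNorm (w : GolayPt → ℤ) = 32)
    (hvw : dotInt (v : GolayPt → ℤ) (w : GolayPt → ℤ) = -8) {x x' : ↥leechLattice} (hx : x ∈ X v w)
    (hx' : x' ∈ X v w) : ∃ g : ↥Co0, g • v = v ∧ g • w = w ∧ g • x = x' := by
  obtain ⟨g, hg⟩ := TM_transitive ((mem_TM v w x).mpr ⟨hv, hw, hvw, hx⟩) ((mem_TM v w x').mpr ⟨hv, hw, hvw, hx'⟩)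
  have h : (g • v, g • w, g • x) = (v, w, x') := hg
  rw [Prod.mk.injEq, Prod.mk.injEq] at h
  exact ⟨g, h.1, h.2.1, h.2.2⟩

/-- the number of points -/
theorem ncard_X (v w : ↥leechLattice) (hv : sqNorm (v : GolayPt → ℤ) = 32) (hw : sqNorm (w : GolayPt → ℤ) = 32)
    (hvw : dotInt (v : GolayPt → ℤ) (w : GolayPt → ℤ) = -8) : (X v w).ncard = 2025 := by
  have hconst : ∀ v' w' : ↥leechLattice, sqNorm (v' : GolayPt → ℤ) = 32 → sqNorm (w' : GolayPt → ℤ) = 32 →
      dotInt (v' : GolayPt → ℤ) (w' : GolayPt → ℤ) = -8 → (X v' w').ncard = (X v w).ncard := by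
    intro v' w' hv' hw' hvw'
    obtain ⟨g1, hg1⟩ := min_transitive v v' hv hv'
    have h1 : dotInt (v' : GolayPt → ℤ) ((g1 • w : ↥leechLattice) : GolayPt → ℤ) = -8 := by
      rw [← hg1, co0_dot, hvw]
    obtain ⟨g2, hg2, hg2'⟩ := ip8_transitive v' (g1 • w) w' hv' (by rw [co0_norm, hw]) hw' h1 hvw'
    have e1 : (g2 * g1) • v = v' := by rw [mul_smul, hg1, hg2]
    have e2 : (g2 * g1) • w = w' := by rw [mul_smul, hg2']
    rw [← e1, ← e2, ncard_X_smul]
  have h := ncard_fibered (L 32) finite_L32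
    (fun v' : ↥leechLattice => {q : ↥leechLattice × ↥leechLattice | q.1 ∈ Census.X v' (-8) ∧ q.2 ∈ X v' q.1})
    (47104 * (X v w).ncard) ?_ ?_
  · rw [ncard_L32] at h
    have h2 : TM.ncard = 196560 * (47104 * (X v w).ncard) := h
    rw [ncard_TM] at h2
    omega
  · intro v' hv'
    have h2 := ncard_fibered (Census.X v' (-8)) (Census.finite_X v' (-8)) (fun w' => X v' w') (X v w).ncard
      (fun w' hw' => hconst v' w' hv' hw'.1 hw'.2) (fun w' _ => finite_X v' w')
    rw [ncard_X8 v' hv'] at h2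
    exact h2
  · intro v' hv'
    have hf : ({q : ↥leechLattice × ↥leechLattice | q.1 ∈ Census.X v' (-8) ∧ q.2 ∈ X v' q.1}).Finite := by
      apply Set.Finite.subset ((Census.finite_X v' (-8)).prod finite_L32)
      rintro ⟨a, b⟩ ⟨ha, hb⟩
      exact ⟨ha, hb.1⟩
    exact hf

end Cfsg.Agent.Helper22.McL2025
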