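import Cfsg.Agent.Helper22.Flag

/-!
The stabiliser of the points `0` and `1` is transitive on the 330 octads avoiding both.
-/

set_option autoImplicit false

namespace Cfsg.Agent.Helper22.OctAvoid2

open Cfsg Cfsg.Agent.Helper27 Cfsg.Agent.Helper22.OrbitDod Cfsg.Agent.Helper22.Flag
open scoped Pointwise

/-- masks avoiding the points `0` and `1` -/
def fam (n : ℕ) : Bool := !(n.testBit 0) && !(n.testBit 1)

/-- octad masks of the family -/
def famP (n : ℕ) : Bool := (popc 24 n == 8) && fam n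

theorem hfix : ∀ f ∈ [0, 1], f < 24 := by decide

/-- descent elements for the family -/
def gensFam : List (List ℕ) := [
  [0,1,9,7,15,14,18,12,8,3,19,16,11,20,6,17,2,5,4,13,21,22,23,10],
  [0,1,11,17,2,5,3,4,9,16,21,12,15,10,6,18,14,8,7,20,22,23,13,19],
  [0,1,10,6,17,14,13,16,4,8,18,3,2,11,5,19,22,9,12,15,20,21,23,7],
  [0,1,12,10,4,8,9,2,6,13,7,18,3,5,17,20,11,15,19,21,23,16,22,14],
  [0,1,16,18,8,9,6,5,12,10,14,17,13,19,7,20,15,23,11,4,22,21,2,3],
  [0,1,8,9,4,19,2,10,6,13,11,7,16,3,14,15,18,23,12,21,20,5,17,22],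
  [0,1,16,9,12,8,3,14,17,7,21,18,2,19,11,15,5,4,6,22,13,20,23,10],
  [0,1,5,4,3,7,10,16,18,13,21,20,6,14,15,9,2,8,22,19,11,12,17,23],
  [0,1,2,10,9,7,14,23,16,13,20,19,15,22,12,18,6,4,8,17,21,5,11,3],
  [0,1,7,14,5,16,8,10,23,11,9,21,6,22,4,12,13,17,2,20,15,18,3,19],
  [0,1,17,10,13,2,11,20,3,7,5,22,4,15,16,21,19,6,8,9,12,14,23,18]]

theorem descFam : descOKH (certF 0 [0, 1]) gensFam famP 21116 = true := by decide +kernel

theorem cntFam : countBelow (fun k => (popc 24 (cw k) == 8) && fam (cw k)) 4096 = 330 := by decide +kernel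

theorem fam_iff (n : ℕ) : (pt 0 ∉ maskSet n ∧ pt 1 ∉ maskSet n) ↔ fam n = true := by
  rw [pt_mem_maskSet (by norm_num), pt_mem_maskSet (by norm_num)]
  simp [fam]

/-- the number of octads avoiding the two points -/
theorem count_fam : {x : Finset GolayPt | x ∈ octads ∧ pt 0 ∉ x ∧ pt 1 ∉ x}.ncard = 330 := by
  rw [← cntFam, ← ncard_std 8 (fun b => pt 0 ∉ b ∧ pt 1 ∉ b) fam fam_iff]
  rfl

/-- the stabiliser of the two points is transitive on the octads avoiding them -/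
theorem trans_fam {o o' : Finset GolayPt} (ho : o ∈ octads ∧ pt 0 ∉ o ∧ pt 1 ∉ o)
    (ho' : o' ∈ octads ∧ pt 0 ∉ o' ∧ pt 1 ∉ o') :
    ∃ g : Equiv.Perm GolayPt, g ∈ M24 ∧ g (pt 0) = pt 0 ∧ g (pt 1) = pt 1 ∧ g • o = o' := by
  obtain ⟨m, hm, hpop, e⟩ := exists_mask_of_mem_wordsOfWeight ho.1
  obtain ⟨m', hm', hpop', e'⟩ := exists_mask_of_mem_wordsOfWeight ho'.1
  have hf : fam m = true := by
    rw [← fam_iff, ← e]
    exact ho.2
  have hf' : fam m' = true := by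
    rw [← fam_iff, ← e']
    exact ho'.2
  obtain ⟨k, hk, hkm⟩ := same_orbit_of_desc (certSoundF 0 hfix) descFam hm (by simp [famP, hpop, hf]) hm'
    (by simp [famP, hpop', hf'])
  obtain ⟨hkM, _, hkf⟩ := (mem_flagH hfix k).mp hk
  refine ⟨k, hkM, hkf 0 (by simp), hkf 1 (by simp), ?_⟩
  rw [e, e', hkm]

end Cfsg.Agent.Helper22.OctAvoid2
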