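import Cfsg.Agent.Helper22.Flag

/-!
The stabiliser of two points: the 176 octads through the first point avoiding the second, and the orbits of the
stabiliser of one of them on the others.
-/

set_option autoImplicit false

namespace Cfsg.Agent.Helper22.OctM22

open Cfsg Cfsg.Agent.Helper27 Cfsg.Agent.Helper22.OrbitDod Cfsg.Agent.Helper22.Flag
open scoped Pointwise

/-- masks through the point `0` avoiding the point `5` -/
def fam (n : ℕ) : Bool := n.testBit 0 && !(n.testBit 5)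

/-- octad masks of the family -/
def famP (n : ℕ) : Bool := (popc 24 n == 8) && fam n

/-- masks of the family meeting the standard octad in `i` points -/
def cls (i : ℕ) (n : ℕ) : Bool := fam n && (popc 24 (oct5 &&& n) == i)

/-- the same with the weight condition -/
def clsP (i : ℕ) (n : ℕ) : Bool := (popc 24 n == 8) && cls i n

theorem hfix : ∀ f ∈ [0, 5], f < 24 := by decide

/-- descent elements for the family -/
def gensFam : List (List ℕ) := [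
  [0,2,9,13,11,5,18,20,7,14,12,6,4,19,10,1,17,3,15,8,21,22,23,16],
  [0,16,3,1,17,5,9,12,8,18,11,7,13,10,6,2,15,21,20,19,14,22,23,4],
  [0,12,2,20,13,5,16,11,7,6,9,3,4,17,18,8,21,14,1,15,19,22,23,10],
  [0,18,3,4,15,5,6,21,16,10,19,9,7,8,13,2,14,12,1,11,22,17,20,23],
  [0,14,17,6,12,5,21,2,20,13,7,1,11,16,4,10,23,15,9,19,3,8,22,18],
  [0,8,6,3,4,5,10,12,17,13,11,23,15,20,7,16,14,18,22,9,21,19,1,2],
  [0,9,15,14,3,5,18,4,17,19,1,10,13,20,2,7,21,8,6,23,12,22,16,11],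
  [0,1,10,11,8,5,6,4,23,21,16,20,9,14,3,7,17,18,2,22,13,19,12,15],
  [0,12,10,14,15,5,7,1,6,21,17,19,8,11,18,13,16,20,9,4,23,3,22,2]]

theorem descFam : descOKH (certF 0 [0, 5]) gensFam famP oct5 = true := by decide +kernel

/-- descent elements for intersection size 2 -/
def gens2 : List (List ℕ) := [
  [0,12,7,4,3,5,13,2,21,15,1,22,10,8,6,11,23,20,14,16,9,18,17,19],
  [0,12,2,10,1,5,16,3,9,15,7,11,4,17,14,8,19,18,13,6,21,23,22,20],
  [0,4,7,1,3,5,21,12,18,9,10,20,2,14,15,13,6,8,17,11,19,16,22,23],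
  [0,2,3,7,10,5,15,12,14,13,1,11,4,22,6,20,19,8,16,9,21,17,23,18],
  [0,2,12,7,10,5,17,1,21,14,3,6,4,16,23,8,15,9,18,20,13,19,11,22],
  [0,3,1,2,4,5,15,12,13,16,7,8,10,11,14,18,20,17,6,21,9,22,19,23]]

theorem desc2 : descOKH (certF oct5 [0, 5]) gens2 (clsP 2) 175681 = true := by decide +kernel

/-- descent elements for intersection size 4 -/
def gens4 : List (List ℕ) := [
  [0,7,2,4,10,5,18,1,9,17,12,20,3,8,21,6,16,13,19,15,11,22,23,14],
  [0,2,3,7,10,5,15,12,14,13,1,11,4,22,6,20,19,8,16,9,21,17,23,18],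
  [0,1,12,7,2,5,11,10,8,15,3,19,4,14,18,22,16,17,13,6,23,20,9,21],
  [0,4,1,2,10,5,23,3,14,13,12,16,7,15,18,8,6,9,17,20,21,11,22,19],
  [0,10,7,4,1,5,13,2,21,9,3,19,12,11,16,8,17,18,14,6,15,20,23,22],
  [0,4,10,3,7,5,9,2,13,18,1,6,12,15,19,21,11,8,16,22,23,17,20,14],
  [0,12,7,4,1,5,14,2,13,18,10,9,3,16,20,15,22,19,21,17,23,11,8,6],
  [0,10,12,7,2,5,15,3,16,18,1,6,4,21,11,9,17,8,14,20,22,19,23,13],
  [0,10,4,7,12,5,11,3,17,15,1,14,2,23,18,6,8,16,9,21,19,13,20,22]]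

theorem desc4 : descOKH (certF oct5 [0, 5]) gens4 (clsP 4) 39257 = true := by decide +kernel

/-- descent elements for intersection size 8 -/
def gens8 : List (List ℕ) := [
]

theorem desc8 : descOKH (certF oct5 [0, 5]) gens8 (clsP 8) 5279 = true := by decide +kernel

theorem cntFam : countBelow (fun k => (popc 24 (cw k) == 8) && fam (cw k)) 4096 = 176 := by decide +kernel
theorem cnt2 : countBelow (fun k => (popc 24 (cw k) == 8) && cls 2 (cw k)) 4096 = 70 := by decide +kernel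
theorem cnt4 : countBelow (fun k => (popc 24 (cw k) == 8) && cls 4 (cw k)) 4096 = 105 := by decide +kernel

theorem fam_iff (n : ℕ) : (pt 0 ∈ maskSet n ∧ pt 5 ∉ maskSet n) ↔ fam n = true := by
  rw [pt_mem_maskSet (by norm_num), pt_mem_maskSet (by norm_num)]
  simp [fam]

theorem cls_iff (i : ℕ) (n : ℕ) :
    ((pt 0 ∈ maskSet n ∧ pt 5 ∉ maskSet n) ∧ (maskSet oct5 ∩ maskSet n).card = i) ↔ cls i n = true := by
  rw [fam_iff, card_inter_maskSet]
  simp [cls]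

theorem pt05 : pt 0 ≠ pt 5 := by decide

theorem fam_oct5 : famP oct5 = true := by decide +kernel

/-- two-fold transitivity -/
theorem exists_two {p q : GolayPt} (hpq : p ≠ q) : ∃ g ∈ M24, g p = pt 0 ∧ g q = pt 5 := by
  have h24 : 5 ≤ (Finset.univ : Finset GolayPt).card := by
    rw [Finset.card_univ]
    have : Fintype.card GolayPt = 24 := by decide
    omega
  obtain ⟨u, hu, _, hu0, hu1⟩ := exists_five_with_two h24 (Finset.mem_univ p) (Finset.mem_univ q) hpq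
  obtain ⟨v, hv, _, hv0, hv1⟩ := exists_five_with_two h24 (Finset.mem_univ (pt 0)) (Finset.mem_univ (pt 5)) pt05
  obtain ⟨g, hg, hgx⟩ := exists_M24_map_five u v hu hv
  refine ⟨g, hg, ?_, ?_⟩
  · rw [← hu0, hgx, hv0]
  · rw [← hu1, hgx, hv1]

theorem maskSet_zero : maskSet 0 = ∅ := by
  ext q
  rw [mem_maskSet]
  simp

theorem count_fam {p q : GolayPt} (hpq : p ≠ q) :
    {x : Finset GolayPt | x ∈ octads ∧ p ∈ x ∧ q ∉ x}.ncard = 176 := by
  obtain ⟨g0, hg0, hg0p, hg0q⟩ := exists_two hpq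
  rw [← cntFam, ← ncard_std 8 (fun b => pt 0 ∈ b ∧ pt 5 ∉ b) fam fam_iff]
  apply ncard_smul_set g0
  intro b
  simp only [Set.mem_ofPred_eq]
  rw [← hg0p, ← hg0q, mem_smul_iff, mem_smul_iff]
  exact and_congr (octads_smul_iff hg0 b).symm Iff.rfl

/-- move a member of the family to the standard flag -/
theorem exists_flag {p q : GolayPt} (hpq : p ≠ q) {o : Finset GolayPt} (ho : o ∈ octads) (hp : p ∈ o) (hq : q ∉ o) :
    ∃ g ∈ M24, g p = pt 0 ∧ g q = pt 5 ∧ g • o = maskSet oct5 := by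
  obtain ⟨g1, hg1, hg1p, hg1q⟩ := exists_two hpq
  have hd1 : g1 • o ∈ octads := (octads_smul_iff hg1 o).mpr ho
  obtain ⟨m, hm, hpop, e⟩ := exists_mask_of_mem_wordsOfWeight hd1
  have hfm : fam m = true := by
    rw [← fam_iff, ← e, ← hg1p, ← hg1q, mem_smul_iff, mem_smul_iff]
    exact ⟨hp, hq⟩
  obtain ⟨k, hk, hkm⟩ := descent_soundH (certSoundF 0 hfix) descFam m hm (by simp [famP, hpop, hfm])
  obtain ⟨hkM, _, hkf⟩ := (mem_flagH hfix k).mp hk
  refine ⟨k * g1, M24.mul_mem hkM hg1, ?_, ?_, ?_⟩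
  · rw [Equiv.Perm.mul_apply, hg1p, hkf 0 (by simp)]
  · rw [Equiv.Perm.mul_apply, hg1q, hkf 5 (by simp)]
  · rw [mul_smul, e, hkm]

theorem trans_fam {p q : GolayPt} (hpq : p ≠ q) {o o' : Finset GolayPt} (ho : o ∈ octads ∧ p ∈ o ∧ q ∉ o)
    (ho' : o' ∈ octads ∧ p ∈ o' ∧ q ∉ o') :
    ∃ g : Equiv.Perm GolayPt, g ∈ M24 ∧ g p = p ∧ g q = q ∧ g • o = o' := by
  obtain ⟨g, hg, hgp, hgq, hgo⟩ := exists_flag hpq ho.1 ho.2.1 ho.2.2
  obtain ⟨g', hg', hgp', hgq', hgo'⟩ := exists_flag hpq ho'.1 ho'.2.1 ho'.2.2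
  refine ⟨g'⁻¹ * g, M24.mul_mem (M24.inv_mem hg') hg, ?_, ?_, ?_⟩
  · rw [Equiv.Perm.mul_apply, hgp, ← hgp']; simp
  · rw [Equiv.Perm.mul_apply, hgq, ← hgq']; simp
  · rw [mul_smul, hgo, ← hgo', inv_smul_smul]

theorem count (i : ℕ) {p q : GolayPt} (hpq : p ≠ q) {o : Finset GolayPt} (ho : o ∈ octads ∧ p ∈ o ∧ q ∉ o) :
    {x : Finset GolayPt | (x ∈ octads ∧ p ∈ x ∧ q ∉ x) ∧ (o ∩ x).card = i}.ncard =
      countBelow (fun k => (popc 24 (cw k) == 8) && cls i (cw k)) 4096 := by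
  obtain ⟨g0, hg0, hg0p, hg0q, hg0o⟩ := exists_flag hpq ho.1 ho.2.1 ho.2.2
  rw [← ncard_std 8 (fun b => (pt 0 ∈ b ∧ pt 5 ∉ b) ∧ (maskSet oct5 ∩ b).card = i) (cls i) (cls_iff i)]
  apply ncard_smul_set g0
  intro b
  simp only [Set.mem_ofPred_eq]
  rw [← hg0o, ← hg0p, ← hg0q, card_inter_smul, mem_smul_iff, mem_smul_iff]
  have := octads_smul_iff hg0 b
  change g0 • b ∈ wordsOfWeight (golayCode : Set (GolayPt → ZMod 2)) 8 ↔ _ at this
  rw [this]
  tauto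

theorem orbit {p q : GolayPt} (hpq : p ≠ q) {o o' o'' : Finset GolayPt} (ho : o ∈ octads ∧ p ∈ o ∧ q ∉ o)
    (ho' : o' ∈ octads ∧ p ∈ o' ∧ q ∉ o') (ho'' : o'' ∈ octads ∧ p ∈ o'' ∧ q ∉ o'')
    (h : (o ∩ o').card = (o ∩ o'').card) :
    ∃ g : Equiv.Perm GolayPt, g ∈ M24 ∧ g p = p ∧ g q = q ∧ g • o = o ∧ g • o' = o'' := by
  obtain ⟨g0, hg0, hg0p, hg0q, hg0o⟩ := exists_flag hpq ho.1 ho.2.1 ho.2.2
  have hd1 : g0 • o' ∈ octads := (octads_smul_iff hg0 o').mpr ho'.1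
  have hd2 : g0 • o'' ∈ octads := (octads_smul_iff hg0 o'').mpr ho''.1
  obtain ⟨m', hm', hpop', e'⟩ := exists_mask_of_mem_wordsOfWeight hd1
  obtain ⟨m'', hm'', hpop'', e''⟩ := exists_mask_of_mem_wordsOfWeight hd2
  have hc' : cls (o ∩ o').card m' = true := by
    rw [← cls_iff, ← e', ← hg0o, ← hg0p, ← hg0q, card_inter_smul, mem_smul_iff, mem_smul_iff]
    exact ⟨⟨ho'.2.1, ho'.2.2⟩, rfl⟩
  have hc'' : cls (o ∩ o').card m'' = true := by
    rw [← cls_iff, ← e'', ← hg0o, ← hg0p, ← hg0q, card_inter_smul, mem_smul_iff, mem_smul_iff]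
    exact ⟨⟨ho''.2.1, ho''.2.2⟩, h.symm⟩
  have hpos : 0 < (o ∩ o').card := Finset.card_pos.mpr ⟨p, Finset.mem_inter.mpr ⟨ho.2.1, ho'.2.1⟩⟩
  have hk : ∃ k ∈ flagH oct5 [0, 5], k • maskSet m' = maskSet m'' := by
    rcases octad_inter_cases ho.1 ho'.1 with hi | hi | hi | hi
    · omega
    · rw [hi] at hc' hc''
      exact same_orbit_of_desc (certSoundF oct5 hfix) desc2 hm' (by simp [clsP, hpop', hc']) hm''
        (by simp [clsP, hpop'', hc''])
    · rw [hi] at hc' hc''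
      exact same_orbit_of_desc (certSoundF oct5 hfix) desc4 hm' (by simp [clsP, hpop', hc']) hm''
        (by simp [clsP, hpop'', hc''])
    · rw [hi] at hc' hc''
      exact same_orbit_of_desc (certSoundF oct5 hfix) desc8 hm' (by simp [clsP, hpop', hc']) hm''
        (by simp [clsP, hpop'', hc''])
  obtain ⟨k, hk, hkm⟩ := hk
  obtain ⟨h1, h2, h3, h4⟩ := conj_flag hfix hg0 hk
  refine ⟨g0⁻¹ * k * g0, h1, h3 0 (by simp) p hg0p, h3 5 (by simp) q hg0q, h2 o hg0o, h4 o' o'' ?_⟩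
  rw [← e', ← e''] at hkm
  exact hkm

end Cfsg.Agent.Helper22.OctM22
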