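import Cfsg.Agent.Helper22.Flag2

/-!
The stabiliser of an octad and a point outside it: orbits on the octads avoiding the point.
-/

set_option autoImplicit false

namespace Cfsg.Agent.Helper22.OctOut

open Cfsg Cfsg.Agent.Helper27 Cfsg.Agent.Helper22.OrbitDod Cfsg.Agent.Helper22.Flag
open scoped Pointwise

/-- masks of octads avoiding the point `5` and meeting the standard octad in `i` points -/
def cls (i : ℕ) (n : ℕ) : Bool := !(n.testBit 5) && (popc 24 (oct5 &&& n) == i)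

/-- the same with the weight condition -/
def clsP (i : ℕ) (n : ℕ) : Bool := (popc 24 n == 8) && cls i n

theorem hfix : ∀ f ∈ [5], f < 24 := by decide

theorem hfix0 : ∀ f ∈ ([] : List ℕ), f < 24 := by decide

/-- elements of the octad stabiliser moving the points outside the octad to the point `5` -/
def outTrans : List (List ℕ) := [
  [0,1,2,3,4,5,6,7,8,9,10,11,12,13,14,15,16,17,18,19,20,21,22,23],
  [3,7,12,0,2,6,5,10,17,15,4,14,1,11,13,23,8,21,22,19,20,18,16,9],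
  [12,2,10,1,7,14,19,4,20,15,0,21,3,17,23,16,8,6,9,13,11,5,18,22],
  [2,4,0,7,12,9,17,1,8,20,3,18,10,14,16,22,19,6,13,11,5,21,23,15],
  [0,12,2,7,4,17,15,10,19,8,1,21,3,9,14,18,13,6,5,16,23,22,20,11],
  [2,10,3,4,0,14,9,12,5,15,7,19,1,8,13,18,17,23,6,21,16,22,11,20],
  [2,10,12,7,0,8,16,3,11,6,4,5,1,13,22,20,23,18,9,19,15,14,21,17],
  [10,7,3,1,4,9,17,0,19,16,12,8,2,6,20,23,15,11,21,14,22,18,5,13],
  [7,4,10,12,1,6,15,0,18,16,2,8,3,5,9,13,21,22,23,20,17,14,19,11],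
  [2,12,7,10,0,17,13,4,16,14,1,9,3,20,18,5,21,22,11,6,19,23,15,8],
  [3,10,1,2,7,19,8,0,16,14,4,9,12,22,5,11,21,20,15,23,17,13,18,6],
  [7,4,2,10,12,20,13,0,6,16,3,17,1,15,8,19,18,9,22,14,23,21,11,5],
  [2,0,1,3,12,15,18,4,23,13,10,21,7,22,8,14,17,16,6,5,11,9,20,19],
  [7,0,4,12,10,13,8,2,6,9,1,14,3,16,17,20,5,15,23,19,21,11,18,22],
  [7,4,2,1,0,21,22,12,11,5,3,17,10,15,8,23,9,18,13,14,19,20,6,16],
  [1,4,3,12,2,17,18,10,23,9,7,11,0,22,15,8,14,5,20,16,6,13,21,19]]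

theorem outTrans_ok : moveOK (certF oct5 []) outTrans (onesMask ^^^ oct5) 5 = true := by decide +kernel

/-- descent elements for intersection size 0 -/
def gens0 : List (List ℕ) := [
  [0,4,2,12,10,5,15,1,13,23,7,19,3,22,8,20,9,16,6,11,18,21,14,17],
  [4,3,10,12,7,5,21,0,9,6,1,19,2,18,16,17,8,20,15,13,14,22,23,11],
  [2,0,10,7,1,5,20,4,9,22,3,6,12,14,15,18,11,17,8,21,23,16,13,19]]

theorem desc0 : descOKH (certF oct5 [5]) gens0 (clsP 0) 1009728 = true := by decide +kernel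

/-- descent elements for intersection size 2 -/
def gens2 : List (List ℕ) := [
  [2,0,7,4,3,5,20,10,9,18,12,17,1,11,14,16,15,21,8,6,19,22,23,13],
  [3,0,10,4,1,5,16,12,20,15,7,17,2,13,14,9,6,19,11,18,22,21,23,8],
  [1,3,10,2,0,5,17,12,9,15,4,13,7,16,19,8,14,6,11,18,21,23,22,20],
  [10,2,0,3,7,5,14,4,8,15,1,6,12,18,16,20,11,13,19,17,23,22,21,9],
  [1,4,3,0,7,5,8,12,9,18,10,17,2,11,6,13,15,21,20,14,19,23,22,16],
  [2,3,0,12,7,5,13,1,15,8,4,14,10,16,11,9,17,19,6,18,23,20,22,21],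
  [2,7,3,1,10,5,18,12,16,11,4,17,0,8,15,6,13,9,22,14,20,23,19,21],
  [2,0,7,1,10,5,8,12,14,17,4,9,3,6,16,18,22,11,19,15,23,21,13,20],
  [10,7,12,2,4,5,9,1,11,14,0,15,3,18,6,19,20,16,17,23,22,8,13,21]]

theorem desc2 : descOKH (certF oct5 [5]) gens2 (clsP 2) 31554 = true := by decide +kernel

/-- descent elements for intersection size 4 -/
def gens4 : List (List ℕ) := [
  [7,0,12,3,1,5,19,10,9,17,2,8,4,20,15,6,13,16,18,21,11,22,23,14],
  [2,4,12,0,7,5,14,10,20,15,1,19,3,6,16,9,13,17,18,11,22,21,23,8],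
  [10,2,0,3,7,5,14,4,8,15,1,6,12,18,16,20,11,13,19,17,23,22,21,9],
  [4,10,2,0,3,5,14,7,13,17,12,9,1,16,23,15,8,11,21,18,20,19,22,6],
  [3,2,4,12,7,5,13,0,18,16,10,15,1,11,9,8,20,14,23,19,22,17,21,6],
  [1,3,7,0,4,5,21,12,17,14,10,11,2,9,13,15,6,22,18,20,23,16,8,19],
  [7,0,4,10,2,5,15,3,6,14,12,11,1,23,16,8,17,22,13,21,9,19,20,18],
  [10,3,2,12,4,5,16,7,6,17,1,14,0,9,8,13,11,23,21,18,22,20,19,15]]

theorem desc4 : descOKH (certF oct5 [5]) gens4 (clsP 4) 36294 = true := by decide +kernel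

/-- descent elements for intersection size 8 -/
def gens8 : List (List ℕ) := [
]

theorem desc8 : descOKH (certF oct5 [5]) gens8 (clsP 8) 5279 = true := by decide +kernel

theorem cnt0 : countBelow (fun k => (popc 24 (cw k) == 8) && cls 0 (cw k)) 4096 = 15 := by decide +kernel
theorem cnt2 : countBelow (fun k => (popc 24 (cw k) == 8) && cls 2 (cw k)) 4096 = 280 := by decide +kernel
theorem cnt4 : countBelow (fun k => (popc 24 (cw k) == 8) && cls 4 (cw k)) 4096 = 210 := by decide +kernel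

theorem cls_iff (i : ℕ) (n : ℕ) : (pt 5 ∉ maskSet n ∧ (maskSet oct5 ∩ maskSet n).card = i) ↔ cls i n = true := by
  rw [pt_mem_maskSet (by norm_num), card_inter_maskSet]
  simp [cls]

theorem pt5_not_mem : pt 5 ∉ maskSet oct5 := by
  rw [pt_mem_maskSet (by norm_num)]
  decide

/-- `M24` is transitive on pairs (octad, point outside it) -/
theorem exists_flag {x : GolayPt} {o : Finset GolayPt} (ho : o ∈ octads) (hx : x ∉ o) :
    ∃ g ∈ M24, g • o = maskSet oct5 ∧ g x = pt 5 := by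
  obtain ⟨g1, hg1, hg1o⟩ := exists_smul_oct5 ho
  have hg1' : g1⁻¹ ∈ M24 := M24.inv_mem hg1
  have hx1 : g1⁻¹ x ∈ maskSet (onesMask ^^^ oct5) := by
    rw [maskSet_compl, Finset.mem_sdiff]
    refine ⟨Finset.mem_univ _, ?_⟩
    intro h
    apply hx
    rw [← hg1o, ← mem_smul_iff g1⁻¹, inv_smul_smul]
    exact h
  obtain ⟨k, hk, hkx⟩ := move_sound (certSoundF oct5 hfix0) outTrans_ok hx1
  obtain ⟨hkM, hko, _⟩ := (mem_flagH hfix0 k).mp hk
  refine ⟨k * g1⁻¹, M24.mul_mem hkM hg1', ?_, ?_⟩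
  · rw [mul_smul, ← hg1o, inv_smul_smul, hko]
  · rw [Equiv.Perm.mul_apply, hkx]

theorem count (i : ℕ) {x : GolayPt} {o : Finset GolayPt} (ho : o ∈ octads) (hx : x ∉ o) :
    {o' : Finset GolayPt | o' ∈ octads ∧ x ∉ o' ∧ (o ∩ o').card = i}.ncard =
      countBelow (fun k => (popc 24 (cw k) == 8) && cls i (cw k)) 4096 := by
  obtain ⟨g0, hg0, hg0o, hg0x⟩ := exists_flag ho hx
  rw [← ncard_std 8 (fun b => pt 5 ∉ b ∧ (maskSet oct5 ∩ b).card = i) (cls i) (cls_iff i)]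
  apply ncard_smul_set g0
  intro b
  simp only [Set.mem_ofPred_eq]
  rw [← hg0o, ← hg0x, card_inter_smul, mem_smul_iff]
  exact and_congr (octads_smul_iff hg0 b).symm Iff.rfl

theorem orbit {x : GolayPt} {o o' o'' : Finset GolayPt} (ho : o ∈ octads) (hx : x ∉ o) (ho' : o' ∈ octads)
    (ho'' : o'' ∈ octads) (hx' : x ∉ o') (hx'' : x ∉ o'') (h : (o ∩ o').card = (o ∩ o'').card) :
    ∃ g : Equiv.Perm GolayPt, g ∈ M24 ∧ g x = x ∧ g • o = o ∧ g • o' = o'' := by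
  obtain ⟨g0, hg0, hg0o, hg0x⟩ := exists_flag ho hx
  have hd1 : g0 • o' ∈ octads := (octads_smul_iff hg0 o').mpr ho'
  have hd2 : g0 • o'' ∈ octads := (octads_smul_iff hg0 o'').mpr ho''
  obtain ⟨m', hm', hpop', e'⟩ := exists_mask_of_mem_wordsOfWeight hd1
  obtain ⟨m'', hm'', hpop'', e''⟩ := exists_mask_of_mem_wordsOfWeight hd2
  have hc' : cls (o ∩ o').card m' = true := by
    rw [← cls_iff, ← e', ← hg0o, ← hg0x, card_inter_smul, mem_smul_iff]
    exact ⟨hx', rfl⟩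
  have hc'' : cls (o ∩ o').card m'' = true := by
    rw [← cls_iff, ← e'', ← hg0o, ← hg0x, card_inter_smul, mem_smul_iff]
    exact ⟨hx'', h.symm⟩
  have hk : ∃ k ∈ flagH oct5 [5], k • maskSet m' = maskSet m'' := by
    rcases octad_inter_cases ho ho' with hi | hi | hi | hi
    · rw [hi] at hc' hc''
      exact same_orbit_of_desc (certSoundF oct5 hfix) desc0 hm' (by simp [clsP, hpop', hc']) hm''
        (by simp [clsP, hpop'', hc''])
    · rw [hi] at hc' hc''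
      exact same_orbit_of_desc (certSoundF oct5 hfix) desc2 hm' (by simp [clsP, hpop', hc']) hm''
        (by simp [clsP, hpop'', hc''])
    · rw [hi] at hc' hc''
      exact same_orbit_of_desc (certSoundF oct5 hfix) desc4 hm' (by simp [clsP, hpop', hc']) hm''
        (by simp [clsP, hpop'', hc''])
    · rw [hi] at hc' hc''
      exact same_orbit_of_desc (certSoundF oct5 hfix) desc8 hm' (by simp [clsP, hpop', hc']) hm''
        (by simp [clsP, hpop'', hc''])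
  obtain ⟨k, hk, hkm⟩ := hk
  obtain ⟨h1, h2, h3, h4⟩ := conj_flag hfix hg0 hk
  refine ⟨g0⁻¹ * k * g0, h1, h3 5 (by simp) x hg0x, h2 o hg0o, h4 o' o'' ?_⟩
  rw [← e', ← e''] at hkm
  exact hkm

end Cfsg.Agent.Helper22.OctOut
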