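import Cfsg.Agent.Helper22.OctA8
import Cfsg.Agent.Helper22.OctOut

/-!
The stabiliser of an octad is a split extension of the pointwise stabiliser by the stabiliser of a point outside.
-/

set_option autoImplicit false

namespace Cfsg.Agent.Helper22.OctSplit

open Cfsg Cfsg.Agent.Helper27 Cfsg.Agent.Helper22.Flag Cfsg.Agent.Helper22.OctA8
open scoped Pointwise

theorem hfix8 : ∀ f ∈ [0, 1, 2, 3, 4, 7, 10, 12], f < 24 := by decide

theorem octFix_moveOK : moveOK (certF oct5 [0, 1, 2, 3, 4, 7, 10, 12]) octFixL (onesMask ^^^ oct5) 5 = true := by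
  decide +kernel

theorem ptsOf8 : ptsOf [0, 1, 2, 3, 4, 7, 10, 12] = maskSet oct5 := by
  rw [ptsOf_eq_maskSet hfix8]
  congr 1

/-- the pointwise stabiliser of the standard octad moves any outside point to the point `5` -/
theorem exists_fix_move {y : GolayPt} (hy : y ∉ maskSet oct5) :
    ∃ k ∈ M24, (∀ q ∈ maskSet oct5, k q = q) ∧ k y = pt 5 := by
  have hy' : y ∈ maskSet (onesMask ^^^ oct5) := by
    rw [maskSet_compl, Finset.mem_sdiff]
    exact ⟨Finset.mem_univ _, hy⟩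
  obtain ⟨k, hk, hky⟩ := move_sound (certSoundF oct5 hfix8) octFix_moveOK hy'
  obtain ⟨hkM, _, hkf⟩ := (mem_flagH hfix8 k).mp hk
  refine ⟨k, hkM, ?_, hky⟩
  intro q hq
  rw [← ptsOf8, mem_ptsOf] at hq
  obtain ⟨f, hf, rfl⟩ := hq
  exact hkf f hf

variable {o : Finset GolayPt} {p : GolayPt}

/-- the pointwise stabiliser -/
abbrev K (o : Finset GolayPt) : Subgroup (Equiv.Perm GolayPt) :=
  M24 ⊓ fixingSubgroup (Equiv.Perm GolayPt) (o : Set GolayPt)

/-- the stabiliser of the octad and the point -/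
abbrev A (o : Finset GolayPt) (p : GolayPt) : Subgroup (Equiv.Perm GolayPt) :=
  M24 ⊓ MulAction.stabilizer (Equiv.Perm GolayPt) o ⊓ MulAction.stabilizer (Equiv.Perm GolayPt) p

theorem mem_K (g : Equiv.Perm GolayPt) : g ∈ K o ↔ g ∈ M24 ∧ ∀ q ∈ o, g q = q := mem_fixG o g

theorem mem_A (g : Equiv.Perm GolayPt) : g ∈ A o p ↔ g ∈ M24 ∧ g • o = o ∧ g p = p := by
  rw [Subgroup.mem_inf, Subgroup.mem_inf]
  exact and_assoc

theorem K_le_stabP : K o ≤ stabP o := by
  intro g hg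
  obtain ⟨h1, h2⟩ := (mem_K g).mp hg
  rw [mem_stabP]
  refine ⟨h1, smul_eq_of_mem_iff ?_⟩
  intro x
  constructor
  · intro hx
    have e1 := h2 _ hx
    have e2 : g x = x := g.injective e1
    rw [← e2]; exact hx
  · intro hx
    rw [h2 x hx]; exact hx

theorem inf_eq_bot (ho : o ∈ octads) (hp : p ∉ o) : K o ⊓ A o p = ⊥ := by
  obtain ⟨g0, hg0, hg0o, hg0p⟩ := OctOut.exists_flag ho hp
  rw [eq_bot_iff]
  intro g hg
  rw [Subgroup.mem_bot]
  obtain ⟨hgK, hgA⟩ := Subgroup.mem_inf.mp hg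
  obtain ⟨hgM, hgo⟩ := (mem_K g).mp hgK
  obtain ⟨_, _, hgp⟩ := (mem_A g).mp hgA
  have hfix : ∀ f ∈ ([5, 7, 4, 3, 2, 1, 0] : List ℕ), f < 24 := by decide
  have hmem : g0 * g * g0⁻¹ ∈ fixG (ptsOf (5 :: [7, 4, 3, 2, 1, 0])) := by
    rw [mem_fixG]
    refine ⟨M24.mul_mem (M24.mul_mem hg0 hgM) (M24.inv_mem hg0), ?_⟩
    intro q hq
    obtain ⟨f, hf, rfl⟩ := (mem_ptsOf _ q).mp hq
    rw [Equiv.Perm.mul_apply, Equiv.Perm.mul_apply]
    simp only [List.mem_cons, List.not_mem_nil, or_false] at hf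
    by_cases h5 : f = 5
    · subst h5
      have : g0⁻¹ (pt 5) = p := by rw [← hg0p]; simp
      rw [this, hgp, hg0p]
    · have hfo : pt f ∈ maskSet oct5 := by
        rcases hf with rfl | rfl | rfl | rfl | rfl | rfl | rfl
        · exact absurd rfl h5
        all_goals (rw [pt_mem_maskSet (by norm_num)]; decide)
      have : g0⁻¹ (pt f) ∈ o := by
        rw [← mem_smul_iff g0, hg0o]
        simpa using hfo
      rw [hgo _ this]
      simp
  rw [fixG_base', Subgroup.mem_bot] at hmem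
  have : g = g0⁻¹ * (g0 * g * g0⁻¹) * g0 := by group
  rw [this, hmem]
  group

/-- every element of the octad stabiliser is a product -/
theorem exists_mul (ho : o ∈ octads) (hp : p ∉ o) {s : Equiv.Perm GolayPt} (hs : s ∈ stabP o) :
    ∃ k ∈ K o, k * s ∈ A o p := by
  obtain ⟨g0, hg0, hg0o, hg0p⟩ := OctOut.exists_flag ho hp
  obtain ⟨hsM, hso⟩ := (mem_stabP o s).mp hs
  have hsp : s p ∉ o := by
    rw [mem_iff_of_smul_eq hso]; exact hp
  have hy : g0 (s p) ∉ maskSet oct5 := by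
    rw [← hg0o, mem_smul_iff]; exact hsp
  obtain ⟨k0, hk0M, hk0f, hk0y⟩ := exists_fix_move hy
  have hkK : g0⁻¹ * k0 * g0 ∈ K o := by
    rw [mem_K]
    refine ⟨M24.mul_mem (M24.mul_mem (M24.inv_mem hg0) hk0M) hg0, ?_⟩
    intro q hq
    rw [Equiv.Perm.mul_apply, Equiv.Perm.mul_apply]
    have : g0 q ∈ maskSet oct5 := by rw [← hg0o, mem_smul_iff]; exact hq
    rw [hk0f _ this]
    simp
  refine ⟨g0⁻¹ * k0 * g0, hkK, ?_⟩
  rw [mem_A]
  have hk' := (mem_stabP o _).mp (K_le_stabP hkK)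
  refine ⟨M24.mul_mem hk'.1 hsM, ?_, ?_⟩
  · rw [mul_smul, hso, hk'.2]
  · rw [Equiv.Perm.mul_apply, Equiv.Perm.mul_apply, Equiv.Perm.mul_apply, hk0y, ← hg0p]
    simp

theorem sup_eq (ho : o ∈ octads) (hp : p ∉ o) :
    K o ⊔ A o p = M24 ⊓ MulAction.stabilizer (Equiv.Perm GolayPt) o := by
  apply le_antisymm
  · apply sup_le
    · exact K_le_stabP
    · exact inf_le_left
  · intro s hs
    obtain ⟨k, hk, hks⟩ := exists_mul ho hp (p := p) hs
    have : s = k⁻¹ * (k * s) := by group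
    rw [this]
    exact Subgroup.mul_mem_sup ((K o).inv_mem hk) hks

theorem A_le_stabP : A o p ≤ stabP o := inf_le_left

/-- restriction of the complement to the octad -/
def resA (o : Finset GolayPt) (p : GolayPt) : ↥(A o p) →* Equiv.Perm ↥o :=
  (res o).comp (Subgroup.inclusion (A_le_stabP (o := o) (p := p)))

theorem resA_injective (ho : o ∈ octads) (hp : p ∉ o) : Function.Injective (resA o p) := by
  rw [injective_iff_map_eq_one]
  intro a ha
  have hK : (a : Equiv.Perm GolayPt) ∈ K o := by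
    rw [mem_K]
    refine ⟨((mem_A a.1).mp a.2).1, ?_⟩
    intro q hq
    have := congrArg (fun e : Equiv.Perm ↥o => ((e ⟨q, hq⟩ : ↥o) : GolayPt)) ha
    exact this
  have : (a : Equiv.Perm GolayPt) ∈ K o ⊓ A o p := Subgroup.mem_inf.mpr ⟨hK, a.2⟩
  rw [inf_eq_bot ho hp, Subgroup.mem_bot] at this
  exact Subtype.ext this

theorem resA_range (ho : o ∈ octads) (hp : p ∉ o) : (resA o p).range = alternatingGroup ↥o := by
  rw [← range_eq ho]
  apply le_antisymm
  · rintro e ⟨a, rfl⟩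
    exact ⟨Subgroup.inclusion A_le_stabP a, rfl⟩
  · rintro e ⟨s, rfl⟩
    obtain ⟨k, hk, hks⟩ := exists_mul ho hp (p := p) s.2
    refine ⟨⟨k * s.1, hks⟩, ?_⟩
    apply Equiv.ext
    intro x
    apply Subtype.ext
    show (k * s.1) x.1 = s.1 x.1
    rw [Equiv.Perm.mul_apply]
    have hx : s.1 x.1 ∈ o := (mem_iff_of_smul_eq ((mem_stabP o s.1).mp s.2).2 x.1).mpr x.2
    exact ((mem_K k).mp hk).2 _ hx

theorem nonempty_iso (ho : o ∈ octads) (hp : p ∉ o) : Nonempty (↥(A o p) ≃* alternatingGroup (Fin 8)) := by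
  have e1 : ↥(A o p) ≃* ↥(resA o p).range := MonoidHom.ofInjective (resA_injective ho hp)
  have e2 : ↥(resA o p).range ≃* ↥(alternatingGroup ↥o) := MulEquiv.subgroupCongr (resA_range ho hp)
  have hc : Fintype.card ↥o = 8 := by rw [Fintype.card_coe, ho.2]
  have e3 : ↥(alternatingGroup ↥o) ≃* ↥(alternatingGroup (Fin 8)) :=
    Equiv.altCongrHom (Fintype.equivFinOfCardEq hc)
  exact ⟨(e1.trans e2).trans e3⟩

end Cfsg.Agent.Helper22.OctSplit
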