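import Cfsg.Agent.Helper22.McL2025
import Cfsg.Agent.Helper22.OctAvoid2
import Cfsg.Agent.Helper22.OctSplit
import Cfsg.Agent.Helper22.OctM22

/-!
# The orbits of the stabiliser of a point on the 2025 points
-/

set_option autoImplicit false

namespace Cfsg.Agent.Helper22.McL2025b

open Cfsg Cfsg.Agent.Helper27 Cfsg.Agent.Helper22.Co0Mono Cfsg.Agent.Helper22.CrossStab
  Cfsg.Agent.Helper22.Co0Center Cfsg.Agent.Helper22.MinTrans Cfsg.Agent.Helper22.Norm6Trans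
  Cfsg.Agent.Helper22.Co0Order Cfsg.Agent.Helper22.Summands Cfsg.Agent.Helper22.Census
  Cfsg.Agent.Helper22.QuadForm Cfsg.Agent.Helper22.LeechMod2 Cfsg.Agent.Helper22.Co3Orbit
  Cfsg.Agent.Helper22.GolayComb Cfsg.Agent.Helper22.Design Cfsg.Agent.Helper22.HS100
  Cfsg.Agent.Helper22.HS100b Cfsg.Agent.Helper22.McL2025 Cfsg.Agent.Helper22.Flag
open scoped Pointwise

/-! ### Orbits of the stabiliser of a triple -/

/-- the orbit of `y` under the stabiliser of `v`, `w`, `x` -/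
def Orb (v w x y : ↥leechLattice) : Set ↥leechLattice :=
  {z | ∃ g : ↥Co0, g • v = v ∧ g • w = w ∧ g • x = x ∧ g • y = z}

theorem orbit_eq (v w x y : ↥leechLattice) :
    MulAction.orbit ↥(MulAction.stabilizer ↥Co0 v ⊓ MulAction.stabilizer ↥Co0 w ⊓ MulAction.stabilizer ↥Co0 x) y =
      Orb v w x y := by
  ext z
  constructor
  · rintro ⟨⟨g, hg⟩, rfl⟩
    rw [Subgroup.mem_inf, Subgroup.mem_inf] at hg
    exact ⟨g, MulAction.mem_stabilizer_iff.mp hg.1.1, MulAction.mem_stabilizer_iff.mp hg.1.2,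
      MulAction.mem_stabilizer_iff.mp hg.2, rfl⟩
  · rintro ⟨g, h1, h2, h3, rfl⟩
    exact ⟨⟨g, Subgroup.mem_inf.mpr ⟨Subgroup.mem_inf.mpr ⟨MulAction.mem_stabilizer_iff.mpr h1,
      MulAction.mem_stabilizer_iff.mpr h2⟩, MulAction.mem_stabilizer_iff.mpr h3⟩⟩, rfl⟩

theorem ncard_Orb_smul (g0 : ↥Co0) (v w x y : ↥leechLattice) :
    (Orb (g0 • v) (g0 • w) (g0 • x) (g0 • y)).ncard = (Orb v w x y).ncard := by
  have himg : (fun z : ↥leechLattice => g0 • z) '' Orb v w x y = Orb (g0 • v) (g0 • w) (g0 • x) (g0 • y) := by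
    ext z
    constructor
    · rintro ⟨z, ⟨g, h1, h2, h3, rfl⟩, rfl⟩
      refine ⟨g0 * g * g0⁻¹, ?_, ?_, ?_, ?_⟩
      · rw [mul_smul, mul_smul, inv_smul_smul, h1]
      · rw [mul_smul, mul_smul, inv_smul_smul, h2]
      · rw [mul_smul, mul_smul, inv_smul_smul, h3]
      · rw [mul_smul, mul_smul, inv_smul_smul]
    · rintro ⟨g, h1, h2, h3, rfl⟩
      refine ⟨(g0⁻¹ * g * g0) • y, ⟨g0⁻¹ * g * g0, ?_, ?_, ?_, rfl⟩, ?_⟩
      · rw [mul_smul, mul_smul, h1, inv_smul_smul]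
      · rw [mul_smul, mul_smul, h2, inv_smul_smul]
      · rw [mul_smul, mul_smul, h3, inv_smul_smul]
      · show g0 • (g0⁻¹ * g * g0) • y = g • g0 • y
        rw [mul_smul, mul_smul, smul_inv_smul]
  rw [← himg]
  exact Set.ncard_image_of_injective _ (MulAction.injective g0)

/-! ### The standard triple -/

/-- the standard triple -/
def t1 : ↥leechLattice × ↥leechLattice × ↥leechLattice := (a01, D0 - a01, d01)

theorem phi_t1 : phi t1 = t0 := by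
  show (a01 + (D0 - a01), d01 - (a01 + (D0 - a01)), a01) = (D0, -D1, a01)
  rw [add_sub_cancel]
  unfold D1
  rw [neg_sub]

theorem t1_mem : t1 ∈ TM := by
  obtain ⟨t, ht, h⟩ := exists_phi t0_mem
  rw [← phi_t1] at h
  rw [← phi_injective h]
  exact ht

theorem smul_t1_iff (g : ↥Co0) : g • t1 = t1 ↔ g • t0 = t0 := by
  constructor
  · intro h
    rw [← phi_t1, ← phi_smul, h]
  · intro h
    apply phi_injective
    rw [phi_smul, phi_t1, h]

/-- the orbits of the stabiliser of the standard triple -/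
theorem mem_Orb_std (y z : ↥leechLattice) : z ∈ Orb a01 (D0 - a01) d01 y ↔
    ∃ (σ : Equiv.Perm GolayPt) (hσ : σ ∈ M24), σ (pt 0) = pt 0 ∧ σ (pt 1) = pt 1 ∧ piCo σ hσ • y = z := by
  constructor
  · rintro ⟨g, h1, h2, h3, rfl⟩
    have ht : g • t1 = t1 := by
      show (g • a01, g • (D0 - a01), g • d01) = (a01, D0 - a01, d01)
      rw [h1, h2, h3]
    obtain ⟨σ, hσ, h0, h1', rfl⟩ := stab_t0 ((smul_t1_iff g).mp ht)
    exact ⟨σ, hσ, h0, h1', rfl⟩
  · rintro ⟨σ, hσ, h0, h1, rfl⟩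
    have ht : piCo σ hσ • t1 = t1 := (smul_t1_iff _).mpr (piCo_fix hσ h0 h1)
    have ht' : (piCo σ hσ • a01, piCo σ hσ • (D0 - a01), piCo σ hσ • d01) = (a01, D0 - a01, d01) := ht
    rw [Prod.mk.injEq, Prod.mk.injEq] at ht'
    exact ⟨piCo σ hσ, ht'.1, ht'.2.1, ht'.2.2, rfl⟩

/-- the size of an orbit of the stabiliser of the standard triple from a parametrisation -/
theorem ncard_Orb_std {P : Type*} (S : Set P) (f : P → GolayPt → ℤ) (hf : Set.InjOn f S)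
    (act : Equiv.Perm GolayPt → P → P)
    (hact : ∀ σ ∈ M24, σ (pt 0) = pt 0 → σ (pt 1) = pt 1 → ∀ p ∈ S, act σ p ∈ S ∧ signedPerm σ ∅ (f p) = f (act σ p))
    (htr : ∀ p ∈ S, ∀ p' ∈ S, ∃ σ ∈ M24, σ (pt 0) = pt 0 ∧ σ (pt 1) = pt 1 ∧ act σ p = p')
    (p0 : P) (hp0 : p0 ∈ S) (y : ↥leechLattice) (hy : (y : GolayPt → ℤ) = f p0) :
    (Orb a01 (D0 - a01) d01 y).ncard = S.ncard := by
  have himg : Subtype.val '' Orb a01 (D0 - a01) d01 y = f '' S := by
    ext z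
    constructor
    · rintro ⟨z, hz, rfl⟩
      obtain ⟨σ, hσ, h0, h1, rfl⟩ := (mem_Orb_std y z).mp hz
      obtain ⟨hm, he⟩ := hact σ hσ h0 h1 p0 hp0
      refine ⟨act σ p0, hm, ?_⟩
      rw [piCo_smul, hy, he]
    · rintro ⟨p, hp, rfl⟩
      obtain ⟨σ, hσ, h0, h1, hp'⟩ := htr p0 hp0 p hp
      refine ⟨piCo σ hσ • y, (mem_Orb_std y _).mpr ⟨σ, hσ, h0, h1, rfl⟩, ?_⟩
      rw [piCo_smul, hy, (hact σ hσ h0 h1 p0 hp0).2, hp']
  rw [← Set.ncard_image_of_injective _ Subtype.val_injective, himg, hf.ncard_image]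

/-! ### Membership in the standard set of points -/

theorem fB_mem {O : Finset GolayPt} (hO : O ∈ octads) : fB O ∈ leechLattice := by
  obtain ⟨⟨w, hw, rfl⟩, -⟩ := hO
  rw [fB_eq]
  exact two_word_mem hw

theorem mem_X_std (y : ↥leechLattice) : y ∈ X a01 (D0 - a01) ↔ sqNorm (y : GolayPt → ℤ) = 32 ∧
    (y : GolayPt → ℤ) (pt 0) + (y : GolayPt → ℤ) (pt 1) = 0 ∧
    4 * (y : GolayPt → ℤ) (pt 0) + ∑ p, (y : GolayPt → ℤ) p = 16 := by
  have h1 : dotInt ((D0 - a01 : ↥leechLattice) : GolayPt → ℤ) (y : GolayPt → ℤ) =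
      dotInt d0 (y : GolayPt → ℤ) - dotInt (a01 : GolayPt → ℤ) (y : GolayPt → ℤ) := by
    show dotInt (d0 - (a01 : GolayPt → ℤ)) (y : GolayPt → ℤ) = _
    rw [dot_sub_left]
  unfold McL2025.X
  rw [Set.mem_ofPred_eq, h1, dot_a01, dot_d0]
  constructor
  · rintro ⟨h2, h3, h4⟩
    exact ⟨h2, by omega, by omega⟩
  · rintro ⟨h2, h3, h4⟩
    exact ⟨h2, by omega, by omega⟩

/-! ### The orbit of length 330 -/

/-- the octads avoiding the two points -/
def SA : Set (Finset GolayPt) := {O | O ∈ octads ∧ pt 0 ∉ O ∧ pt 1 ∉ O}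

theorem ncard_SA : SA.ncard = 330 := OctAvoid2.count_fam

/-- an octad avoiding the two points -/
def O1 : Finset GolayPt := maskSet 21116

theorem O1_mem : O1 ∈ SA := by
  refine ⟨maskSet_mem_octads (by decide +kernel), ?_, ?_⟩
  · unfold O1
    rw [pt_mem_maskSet (by norm_num)]
    decide
  · unfold O1
    rw [pt_mem_maskSet (by norm_num)]
    decide

/-- the first vector -/
def y1 : ↥leechLattice := ⟨fB O1, fB_mem O1_mem.1⟩

theorem y1_mem : y1 ∈ X a01 (D0 - a01) := by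
  rw [mem_X_std]
  show sqNorm (fB O1) = 32 ∧ fB O1 (pt 0) + fB O1 (pt 1) = 0 ∧ 4 * fB O1 (pt 0) + ∑ p, fB O1 p = 16
  have h0 : fB O1 (pt 0) = 0 := by
    unfold fB
    rw [if_neg O1_mem.2.1]
  have h1 : fB O1 (pt 1) = 0 := by
    unfold fB
    rw [if_neg O1_mem.2.2]
  rw [sqNorm_fB, sum_fB, h0, h1, O1_mem.1.2]
  norm_num

theorem smul_mem_SA {σ : Equiv.Perm GolayPt} (hσ : σ ∈ M24) (h0 : σ (pt 0) = pt 0) (h1 : σ (pt 1) = pt 1)
    {O : Finset GolayPt} (hO : O ∈ SA) : σ • O ∈ SA := by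
  refine ⟨(octads_smul_iff hσ O).mpr hO.1, ?_, ?_⟩
  · rw [← h0, mem_smul_iff]
    exact hO.2.1
  · rw [← h1, mem_smul_iff]
    exact hO.2.2

theorem ncard_orbit_y1 : (Orb a01 (D0 - a01) d01 y1).ncard = 330 := by
  rw [← ncard_SA]
  apply ncard_Orb_std SA fB fB_injective.injOn (fun σ O => σ • O) ?_ ?_ O1 O1_mem y1 rfl
  · intro σ hσ h0 h1 O hO
    exact ⟨smul_mem_SA hσ h0 h1 hO, sp_fB σ O⟩
  · intro O hO O' hO'
    exact OctAvoid2.trans_fam hO hO'

/-! ### The orbit of length 462 -/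

/-- the action on pairs of an octad and a point -/
def actP (σ : Equiv.Perm GolayPt) (q : Finset GolayPt × GolayPt) : Finset GolayPt × GolayPt := (σ • q.1, σ q.2)

/-- the octads through the two points with a further point -/
def SB : Set (Finset GolayPt × GolayPt) :=
  {q | q.1 ∈ octads ∧ pt 0 ∈ q.1 ∧ pt 1 ∈ q.1 ∧ q.2 ∈ q.1 ∧ q.2 ≠ pt 0 ∧ q.2 ≠ pt 1}

/-- the vectors of the second orbit -/
def yB (q : Finset GolayPt × GolayPt) : GolayPt → ℤ :=
  fun p => if p ∈ q.1 then (if p = pt 1 ∨ p = q.2 then -2 else 2) else 0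

theorem ncard_SB : SB.ncard = 462 := by
  classical
  have h := ncard_fibered {O : Finset GolayPt | O ∈ octads ∧ pt 0 ∈ O ∧ pt 1 ∈ O} (Set.toFinite _)
    (fun O => {i : GolayPt | i ∈ O ∧ i ≠ pt 0 ∧ i ≠ pt 1}) 6 ?_ (fun _ _ => Set.toFinite _)
  · have hA : {O : Finset GolayPt | O ∈ octads ∧ pt 0 ∈ O ∧ pt 1 ∈ O} = ↑(octThrough {pt 0, pt 1}) := by
      ext O
      rw [Finset.mem_coe, mem_octThrough, Finset.insert_subset_iff, Finset.singleton_subset_iff]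
      rfl
    have h77 : (octThrough {pt 0, pt 1}).card = 77 :=
      lam2_5824 GolayComb.card_golayPt octads_steiner {pt 0, pt 1} (Finset.card_pair (by decide))
    rw [hA, Set.ncard_coe_finset, h77] at h
    have hS : SB = {p : Finset GolayPt × GolayPt | p.1 ∈ (↑(octThrough {pt 0, pt 1}) : Set (Finset GolayPt)) ∧
        p.2 ∈ {i : GolayPt | i ∈ p.1 ∧ i ≠ pt 0 ∧ i ≠ pt 1}} := by
      rw [← hA]
      ext q
      unfold SB
      simp only [Set.mem_ofPred_eq, and_assoc]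
    rw [hS, h]
  · rintro O ⟨hO, h0, h1⟩
    have hF : {i : GolayPt | i ∈ O ∧ i ≠ pt 0 ∧ i ≠ pt 1} = ↑((O.erase (pt 0)).erase (pt 1)) := by
      ext i
      simp only [Set.mem_ofPred_eq, Finset.coe_erase, Set.mem_sdiff, Finset.mem_coe, Set.mem_singleton_iff]
      tauto
    rw [hF, Set.ncard_coe_finset, Finset.card_erase_of_mem, Finset.card_erase_of_mem h0, hO.2]
    rw [Finset.mem_erase]
    exact ⟨by decide, h1⟩

theorem mem_smul_symm (σ : Equiv.Perm GolayPt) (O : Finset GolayPt) (j : GolayPt) : σ.symm j ∈ O ↔ j ∈ σ • O := by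
  rw [← mem_smul_iff σ (σ.symm j) O, Equiv.apply_symm_apply]

theorem sp_yB {σ : Equiv.Perm GolayPt} (h1 : σ (pt 1) = pt 1) (q : Finset GolayPt × GolayPt) :
    signedPerm σ ∅ (yB q) = yB (actP σ q) := by
  funext j
  rw [sp_apply]
  unfold yB actP
  have e1 : σ.symm j = pt 1 ↔ j = pt 1 := by rw [symm_eq_iff, h1]
  have e2 : σ.symm j = q.2 ↔ j = σ q.2 := symm_eq_iff σ j q.2
  simp only [mem_smul_symm, e1, e2]

theorem actP_mem_SB {σ : Equiv.Perm GolayPt} (hσ : σ ∈ M24) (h0 : σ (pt 0) = pt 0) (h1 : σ (pt 1) = pt 1)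
    {q : Finset GolayPt × GolayPt} (hq : q ∈ SB) : actP σ q ∈ SB := by
  obtain ⟨a1, a2, a3, a4, a5, a6⟩ := hq
  refine ⟨(octads_smul_iff hσ q.1).mpr a1, ?_, ?_, ?_, ?_, ?_⟩
  · show pt 0 ∈ σ • q.1
    rw [← h0, mem_smul_iff]
    exact a2
  · show pt 1 ∈ σ • q.1
    rw [← h1, mem_smul_iff]
    exact a3
  · show σ q.2 ∈ σ • q.1
    rw [mem_smul_iff]
    exact a4
  · show σ q.2 ≠ pt 0
    intro h
    rw [← h0] at h
    exact a5 (σ.injective h)
  · show σ q.2 ≠ pt 1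
    intro h
    rw [← h1] at h
    exact a6 (σ.injective h)

theorem yB_injOn : Set.InjOn yB SB := by
  rintro ⟨O, i⟩ ⟨a1, a2, a3, a4, a5, a6⟩ ⟨O', i'⟩ ⟨b1, b2, b3, b4, b5, b6⟩ h
  simp only at a1 a2 a3 a4 a5 a6 b1 b2 b3 b4 b5 b6
  have hO : O = O' := by
    ext p
    have := congrFun h p
    unfold yB at this
    simp only at this
    by_cases hp : p ∈ O <;> by_cases hp' : p ∈ O'
    · exact ⟨fun _ => hp', fun _ => hp⟩
    · rw [if_pos hp, if_neg hp'] at this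
      split_ifs at this <;> norm_num at this
    · rw [if_neg hp, if_pos hp'] at this
      split_ifs at this <;> norm_num at this
    · exact ⟨fun h => absurd h hp, fun h => absurd h hp'⟩
  subst hO
  have hi := congrFun h i'
  have hR : yB (O, i') i' = -2 := by simp [yB, b4]
  have hL : yB (O, i) i' = if i' = pt 1 ∨ i' = i then -2 else 2 := by simp [yB, b4]
  rw [hR, hL] at hi
  have : i' = i := by
    by_contra hne
    rw [if_neg (by
      rintro (h | h)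
      · exact b6 h
      · exact hne h)] at hi
    norm_num at hi
  rw [this]

theorem exists_two_more {Q : Finset GolayPt} (hQ : Q.card = 8) (a b c : GolayPt) :
    ∃ x ∈ Q, ∃ y ∈ Q, x ≠ a ∧ x ≠ b ∧ x ≠ c ∧ y ≠ a ∧ y ≠ b ∧ y ≠ c ∧ x ≠ y := by
  classical
  have hcard : 1 < (((Q.erase a).erase b).erase c).card := by
    have h1 := Finset.pred_card_le_card_erase (s := Q) (a := a)
    have h2 := Finset.pred_card_le_card_erase (s := Q.erase a) (a := b)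
    have h3 := Finset.pred_card_le_card_erase (s := (Q.erase a).erase b) (a := c)
    omega
  obtain ⟨x, hx, y, hy, hxy⟩ := Finset.one_lt_card.mp hcard
  simp only [Finset.mem_erase] at hx hy
  exact ⟨x, hx.2.2.2, y, hy.2.2.2, hx.2.2.1, hx.2.1, hx.1, hy.2.2.1, hy.2.1, hy.1, hxy⟩

theorem trans_SB {q q' : Finset GolayPt × GolayPt} (hq : q ∈ SB) (hq' : q' ∈ SB) :
    ∃ σ ∈ M24, σ (pt 0) = pt 0 ∧ σ (pt 1) = pt 1 ∧ actP σ q = q' := by
  obtain ⟨O, i⟩ := q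
  obtain ⟨O', i'⟩ := q'
  obtain ⟨a1, a2, a3, a4, a5, a6⟩ := hq
  obtain ⟨b1, b2, b3, b4, b5, b6⟩ := hq'
  simp only at a1 a2 a3 a4 a5 a6 b1 b2 b3 b4 b5 b6
  obtain ⟨x, hx, y, hy, hx0, hx1, hxi, hy0, hy1, hyi, hxy⟩ := exists_two_more a1.2 (pt 0) (pt 1) i
  obtain ⟨x', hx', y', hy', hx0', hx1', hxi', hy0', hy1', hyi', hxy'⟩ := exists_two_more b1.2 (pt 0) (pt 1) i'
  have hinj := inj5 a5 a6 hx0 hx1 hy0 hy1 (Ne.symm hxi) (Ne.symm hyi) hxy
  obtain ⟨σ, hσ, h⟩ := exists_M24_map_five ![pt 0, pt 1, i, x, y] ![pt 0, pt 1, i', x', y'] hinj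
    (inj5 b5 b6 hx0' hx1' hy0' hy1' (Ne.symm hxi') (Ne.symm hyi') hxy')
  refine ⟨σ, hσ, h 0, h 1, ?_⟩
  show (σ • O, σ i) = (O', i')
  rw [Prod.mk.injEq]
  refine ⟨?_, h 2⟩
  apply smul_octad_eq hσ a1 b1 ![pt 0, pt 1, i, x, y] hinj
  · intro j
    fin_cases j
    · exact a2
    · exact a3
    · exact a4
    · exact hx
    · exact hy
  · intro j
    rw [h j]
    fin_cases j
    · exact b2
    · exact b3
    · exact b4
    · exact hx'
    · exact hy'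

/-- the standard pair of the second orbit -/
def q2 : Finset GolayPt × GolayPt := (maskSet oct5, pt 2)

theorem q2_mem : q2 ∈ SB := by
  refine ⟨maskSet_oct5_mem, ?_, ?_, ?_, by decide, by decide⟩
  · show pt 0 ∈ maskSet oct5
    rw [pt_mem_maskSet (by norm_num)]
    decide
  · show pt 1 ∈ maskSet oct5
    rw [pt_mem_maskSet (by norm_num)]
    decide
  · show pt 2 ∈ maskSet oct5
    rw [pt_mem_maskSet (by norm_num)]
    decide

/-- the second vector -/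
def y2 : ↥leechLattice :=
  ⟨fB (maskSet oct5) - pv (pt 1) (pt 2) 4 4, leechLattice.sub_mem (fB_mem maskSet_oct5_mem)
    (pv_mem _ _ (Or.inl rfl) (Or.inl rfl))⟩

theorem y2_coe : (y2 : GolayPt → ℤ) = yB q2 := by
  show fB (maskSet oct5) - pv (pt 1) (pt 2) 4 4 = yB q2
  decide +kernel

theorem y2_mem : y2 ∈ X a01 (D0 - a01) := by
  rw [mem_X_std, y2_coe]
  decide +kernel

theorem ncard_orbit_y2 : (Orb a01 (D0 - a01) d01 y2).ncard = 462 := by
  rw [← ncard_SB]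
  apply ncard_Orb_std SB yB yB_injOn actP ?_ ?_ q2 q2_mem y2 y2_coe
  · intro σ hσ h0 h1 q hq
    exact ⟨actP_mem_SB hσ h0 h1 hq, sp_yB h1 q⟩
  · intro q hq q' hq'
    exact trans_SB hq hq'

/-! ### The orbit of length 1232 -/

/-- the octads through the second point avoiding the first with a further point -/
def SC : Set (Finset GolayPt × GolayPt) :=
  {q | q.1 ∈ octads ∧ pt 1 ∈ q.1 ∧ pt 0 ∉ q.1 ∧ q.2 ∈ q.1 ∧ q.2 ≠ pt 1}

/-- the vectors of the third orbit -/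
def yC (q : Finset GolayPt × GolayPt) : GolayPt → ℤ :=
  fun p => if p = q.2 then 3 else if p ∈ q.1 then -1 else 1

theorem ncard_SC : SC.ncard = 1232 := by
  classical
  have h := ncard_fibered {O : Finset GolayPt | O ∈ octads ∧ pt 1 ∈ O ∧ pt 0 ∉ O} (Set.toFinite _)
    (fun O => {i : GolayPt | i ∈ O ∧ i ≠ pt 1}) 7 ?_ (fun _ _ => Set.toFinite _)
  · rw [OctM22.count_fam (p := pt 1) (q := pt 0) (by decide)] at h
    have hS : SC = {p : Finset GolayPt × GolayPt | p.1 ∈ {O : Finset GolayPt | O ∈ octads ∧ pt 1 ∈ O ∧ pt 0 ∉ O} ∧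
        p.2 ∈ {i : GolayPt | i ∈ p.1 ∧ i ≠ pt 1}} := by
      ext q
      unfold SC
      simp only [Set.mem_ofPred_eq, and_assoc]
    rw [hS, h]
  · rintro O ⟨hO, h1, -⟩
    have hF : {i : GolayPt | i ∈ O ∧ i ≠ pt 1} = ↑(O.erase (pt 1)) := by
      ext i
      simp only [Set.mem_ofPred_eq, Finset.coe_erase, Set.mem_sdiff, Finset.mem_coe, Set.mem_singleton_iff]
    rw [hF, Set.ncard_coe_finset, Finset.card_erase_of_mem h1, hO.2]

theorem sp_yC (σ : Equiv.Perm GolayPt) (q : Finset GolayPt × GolayPt) :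
    signedPerm σ ∅ (yC q) = yC (actP σ q) := by
  funext j
  rw [sp_apply]
  unfold yC actP
  have e2 : σ.symm j = q.2 ↔ j = σ q.2 := symm_eq_iff σ j q.2
  simp only [mem_smul_symm, e2]

theorem actP_mem_SC {σ : Equiv.Perm GolayPt} (hσ : σ ∈ M24) (h0 : σ (pt 0) = pt 0) (h1 : σ (pt 1) = pt 1)
    {q : Finset GolayPt × GolayPt} (hq : q ∈ SC) : actP σ q ∈ SC := by
  obtain ⟨a1, a2, a3, a4, a5⟩ := hq
  refine ⟨(octads_smul_iff hσ q.1).mpr a1, ?_, ?_, ?_, ?_⟩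
  · show pt 1 ∈ σ • q.1
    rw [← h1, mem_smul_iff]
    exact a2
  · show pt 0 ∉ σ • q.1
    rw [← h0, mem_smul_iff]
    exact a3
  · show σ q.2 ∈ σ • q.1
    rw [mem_smul_iff]
    exact a4
  · show σ q.2 ≠ pt 1
    intro h
    rw [← h1] at h
    exact a5 (σ.injective h)

theorem yC_injOn : Set.InjOn yC SC := by
  rintro ⟨O, i⟩ ⟨a1, a2, a3, a4, a5⟩ ⟨O', i'⟩ ⟨b1, b2, b3, b4, b5⟩ h
  simp only at a1 a2 a3 a4 a5 b1 b2 b3 b4 b5
  have hi : i' = i := by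
    have hi := congrFun h i'
    have hR : yC (O', i') i' = 3 := by simp [yC]
    rw [hR] at hi
    by_contra hne
    have hL : yC (O, i) i' = if i' ∈ O then -1 else 1 := by simp [yC, hne]
    rw [hL] at hi
    split_ifs at hi <;> norm_num at hi
  subst hi
  have hO : O = O' := by
    ext p
    by_cases hp : p = i'
    · rw [hp]
      exact ⟨fun _ => b4, fun _ => a4⟩
    · have := congrFun h p
      have hL : yC (O, i') p = if p ∈ O then -1 else 1 := by simp [yC, hp]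
      have hR : yC (O', i') p = if p ∈ O' then -1 else 1 := by simp [yC, hp]
      rw [hL, hR] at this
      by_cases h1 : p ∈ O <;> by_cases h2 : p ∈ O'
      · exact ⟨fun _ => h2, fun _ => h1⟩
      · rw [if_pos h1, if_neg h2] at this
        norm_num at this
      · rw [if_neg h1, if_pos h2] at this
        norm_num at this
      · exact ⟨fun h => absurd h h1, fun h => absurd h h2⟩
  rw [hO]

/-- the stabiliser of an octad and a point outside it contains an element fixing a point of the octad and moving a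
second one to a third -/
theorem exists_A8_move {o : Finset GolayPt} (ho : o ∈ octads) {p : GolayPt} (hp : p ∉ o) {a x y : GolayPt}
    (ha : a ∈ o) (hx : x ∈ o) (hy : y ∈ o) (hxa : x ≠ a) (hya : y ≠ a) :
    ∃ τ ∈ M24, τ • o = o ∧ τ p = p ∧ τ a = a ∧ τ x = y := by
  obtain ⟨e, he, hea, hex⟩ : ∃ e : Equiv.Perm ↥o, e ∈ alternatingGroup ↥o ∧ e ⟨a, ha⟩ = ⟨a, ha⟩ ∧
      e ⟨x, hx⟩ = ⟨y, hy⟩ := by
    by_cases hxy : x = y
    · subst hxy
      exact ⟨1, Subgroup.one_mem _, rfl, rfl⟩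
    · obtain ⟨z, hz, -, -, hza, hzx, hzy, -, -, -, -⟩ := exists_two_more ho.2 a x y
      have n1 : (⟨x, hx⟩ : ↥o) ≠ ⟨y, hy⟩ := fun h => hxy (congrArg Subtype.val h)
      have n2 : (⟨y, hy⟩ : ↥o) ≠ ⟨z, hz⟩ := fun h => hzy (congrArg Subtype.val h).symm
      have n3 : (⟨x, hx⟩ : ↥o) ≠ ⟨z, hz⟩ := fun h => hzx (congrArg Subtype.val h).symm
      have n4 : (⟨a, ha⟩ : ↥o) ≠ ⟨x, hx⟩ := fun h => hxa (congrArg Subtype.val h).symm
      have n5 : (⟨a, ha⟩ : ↥o) ≠ ⟨y, hy⟩ := fun h => hya (congrArg Subtype.val h).symm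
      have n6 : (⟨a, ha⟩ : ↥o) ≠ ⟨z, hz⟩ := fun h => hza (congrArg Subtype.val h).symm
      refine ⟨Equiv.swap ⟨x, hx⟩ ⟨y, hy⟩ * Equiv.swap ⟨y, hy⟩ ⟨z, hz⟩, ?_, ?_, ?_⟩
      · rw [Equiv.Perm.mem_alternatingGroup, Equiv.Perm.sign_mul, Equiv.Perm.sign_swap n1, Equiv.Perm.sign_swap n2]
        rfl
      · rw [Equiv.Perm.mul_apply, Equiv.swap_apply_of_ne_of_ne n5 n6, Equiv.swap_apply_of_ne_of_ne n4 n5]
      · rw [Equiv.Perm.mul_apply, Equiv.swap_apply_of_ne_of_ne n1 n3, Equiv.swap_apply_left]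
  rw [← OctSplit.resA_range ho hp] at he
  obtain ⟨τ, rfl⟩ := he
  obtain ⟨hτM, hτo, hτp⟩ := (OctSplit.mem_A τ.1).mp τ.2
  exact ⟨τ.1, hτM, hτo, hτp, congrArg Subtype.val hea, congrArg Subtype.val hex⟩

theorem trans_SC {q q' : Finset GolayPt × GolayPt} (hq : q ∈ SC) (hq' : q' ∈ SC) :
    ∃ σ ∈ M24, σ (pt 0) = pt 0 ∧ σ (pt 1) = pt 1 ∧ actP σ q = q' := by
  obtain ⟨c, k⟩ := q
  obtain ⟨c', k'⟩ := q'
  obtain ⟨a1, a2, a3, a4, a5⟩ := hq
  obtain ⟨b1, b2, b3, b4, b5⟩ := hq'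
  simp only at a1 a2 a3 a4 a5 b1 b2 b3 b4 b5
  obtain ⟨g, hg, hg1, hg0, hgc⟩ := OctM22.trans_fam (p := pt 1) (q := pt 0) (by decide) ⟨a1, a2, a3⟩ ⟨b1, b2, b3⟩
  have hgk : g k ∈ c' := by
    rw [← hgc, mem_smul_iff]
    exact a4
  have hgk1 : g k ≠ pt 1 := by
    intro h
    rw [← hg1] at h
    exact a5 (g.injective h)
  obtain ⟨τ, hτ, hτc, hτ0, hτ1, hτk⟩ := exists_A8_move b1 b3 b2 hgk b4 hgk1 b5
  refine ⟨τ * g, M24.mul_mem hτ hg, ?_, ?_, ?_⟩
  · rw [Equiv.Perm.mul_apply, hg0, hτ0]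
  · rw [Equiv.Perm.mul_apply, hg1, hτ1]
  · show ((τ * g) • c, (τ * g) k) = (c', k')
    rw [mul_smul, hgc, hτc, Equiv.Perm.mul_apply, hτk]

/-- the standard pair of the third orbit -/
def q3 : Finset GolayPt × GolayPt := (maskSet 10558, pt 2)

theorem q3_oct : maskSet 10558 ∈ octads := maskSet_mem_octads (by decide +kernel)

theorem q3_mem : q3 ∈ SC := by
  refine ⟨q3_oct, ?_, ?_, ?_, by decide⟩
  · show pt 1 ∈ maskSet 10558
    rw [pt_mem_maskSet (by norm_num)]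
    decide
  · show pt 0 ∉ maskSet 10558
    rw [pt_mem_maskSet (by norm_num)]
    decide
  · show pt 2 ∈ maskSet 10558
    rw [pt_mem_maskSet (by norm_num)]
    decide

/-- the third vector -/
def y3 : ↥leechLattice :=
  ⟨d0 - fB (maskSet 10558) - pv (pt 0) (pt 2) 4 (-4), leechLattice.sub_mem (leechLattice.sub_mem d0_mem (fB_mem q3_oct))
    (pv_mem _ _ (Or.inl rfl) (Or.inr rfl))⟩

theorem y3_coe : (y3 : GolayPt → ℤ) = yC q3 := by
  show d0 - fB (maskSet 10558) - pv (pt 0) (pt 2) 4 (-4) = yC q3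
  decide +kernel

theorem y3_mem : y3 ∈ X a01 (D0 - a01) := by
  rw [mem_X_std, y3_coe]
  decide +kernel

theorem ncard_orbit_y3 : (Orb a01 (D0 - a01) d01 y3).ncard = 1232 := by
  rw [← ncard_SC]
  apply ncard_Orb_std SC yC yC_injOn actP ?_ ?_ q3 q3_mem y3 y3_coe
  · intro σ hσ h0 h1 q hq
    exact ⟨actP_mem_SC hσ h0 h1 hq, sp_yC σ q⟩
  · intro q hq q' hq'
    exact trans_SC hq hq'

/-! ### The general statement -/

theorem rank4 (v w x : ↥leechLattice) (hv : sqNorm (v : GolayPt → ℤ) = 32) (hw : sqNorm (w : GolayPt → ℤ) = 32)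
    (hvw : dotInt (v : GolayPt → ℤ) (w : GolayPt → ℤ) = -8) (hx : x ∈ X v w) :
    ∃ y₁ ∈ X v w, ∃ y₂ ∈ X v w, ∃ y₃ ∈ X v w, (Orb v w x y₁).ncard = 330 ∧ (Orb v w x y₂).ncard = 462 ∧
      (Orb v w x y₃).ncard = 1232 := by
  obtain ⟨g0, hg0⟩ := TM_transitive ((mem_TM v w x).mpr ⟨hv, hw, hvw, hx⟩) t1_mem
  have h3 : (g0 • v, g0 • w, g0 • x) = (a01, D0 - a01, d01) := hg0
  rw [Prod.mk.injEq, Prod.mk.injEq] at h3
  obtain ⟨e1, e2, e3⟩ := h3
  have hmem : ∀ y : ↥leechLattice, y ∈ X a01 (D0 - a01) → g0⁻¹ • y ∈ X v w := by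
    intro y hy
    have := smul_mem_X g0⁻¹ hy
    rwa [← e2, ← e1, inv_smul_smul, inv_smul_smul] at this
  have hcard : ∀ y : ↥leechLattice, (Orb v w x (g0⁻¹ • y)).ncard = (Orb a01 (D0 - a01) d01 y).ncard := by
    intro y
    rw [← ncard_Orb_smul g0 v w x (g0⁻¹ • y), e1, e2, e3, smul_inv_smul]
  refine ⟨g0⁻¹ • y1, hmem y1 y1_mem, g0⁻¹ • y2, hmem y2 y2_mem, g0⁻¹ • y3, hmem y3 y3_mem, ?_, ?_, ?_⟩
  · rw [hcard, ncard_orbit_y1]
  · rw [hcard, ncard_orbit_y2]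
  · rw [hcard, ncard_orbit_y3]

end Cfsg.Agent.Helper22.McL2025b
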