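import Cfsg.Agent.Helper22.McLSimple
import Cfsg.Agent.Helper22.McL275
import Cfsg.Agent.Helper22.HSBridge
import Cfsg.Agent.Helper22.McLGraph

/-!
# The stabiliser of a vector of type three and a summand of type two as a group of automorphisms of a graph on 275 points

The 275 minimal vectors attached to the standard pair are listed, their inner products are computed, and the
stabiliser of the standard pair is mapped injectively to the group of the automorphisms of the graph whose edges
are the pairs with inner product eight.
-/

set_option autoImplicit false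

namespace Cfsg.Agent.Helper22.McLBridge

open Cfsg Cfsg.Agent.Helper27 Cfsg.Agent.Helper22.Co0Mono Cfsg.Agent.Helper22.Co0Center
  Cfsg.Agent.Helper22.Norm6Trans Cfsg.Agent.Helper22.Summands Cfsg.Agent.Helper22.QuadForm
  Cfsg.Agent.Helper22.HS100 Cfsg.Agent.Helper22.HS100b Cfsg.Agent.Helper22.HSSimple
  Cfsg.Agent.Helper22.GolayComb Cfsg.Agent.Helper22.GraphRefine Cfsg.Agent.Helper22.McL275
  Cfsg.Agent.Helper22.McLGraph Cfsg.Agent.Helper22.McLSimple Cfsg.Agent.Helper22.LeechMod2
open Cfsg.Agent.Helper22.PermPack (slot allN allN_spec beq_iff withNat)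
open Cfsg.Agent.Helper22.HSBridge (idx_eq_iff sumZ sumZ_succ sum_golayPt)

/-- the masks of the 77 octads through the first two points, packed -/
def oB : ℕ := 0xe0900bd40063c84303c20c83c12017b30103a800c7a44413a02a2398081b9086079070838ea00389142385028b84190782402f82125381c8438081b380254b7002936d08036260436005275a100751440b50a9034884534820ab46011b44c0874436034382234111c3405833400a4f38c02334200f301c432a060b2831132610a324834322881721a48321520721007b20498b1c0583192243164a031590131280cb1224331108a710415710132b0c504b0c02370b40930a096309810f089a83086c07070447056123048c2b0428d303380b02d503022387010f1300e21b00b0670046e300149f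

/-- the masks of the 176 octads through the first point and not through the second point, packed -/
def oD : ℕ := 0xf04805ea0031e42181e10641d98081d22209d01511cc040dc83841c75001c48a11c28145c10929c0e421c040d9c012a5bc1201b0a051b004a9a96009a88d01a60849a58025a2c281a23405a11891a05161a0031d9a4441982125960095952c0194c10992982191423191104d900bc18d01518c48a18b0a058a118988d0158882698826918607218494c18462458430398384198320e182691181b30181458580a88d805e09800c7578014976840171302168a20568548164422964105563008d621b0161c1116088e1602c195c6011580e215503055418895308515241a150d24150803d5024c54e02c14c91214b25014ac80949406549121948099546282545a0494504b1444d4142b091424615421469419c05416a8140878940710d4023713a28813904153540c1340931325019320265318a093091853067012e41052c80992c24612b90412903a1284a5128182d27221125150924f801240e85234c2122a1292205d121294520c44d2096312060b52032c91f00291c88451a831119590118b40918428d1810f116314114a2a114542514065913e005131681120d0d11856111219910cc91106869103a150e1c110dc6010d30850c2b090a84a50a72210a205d09a831090cc908e1c108453908174507898106c07106920d06648905481d051a6104a5150453910401ed03434903113502ae410258c5020ab901d0a90182d501745101262d00cb25009959003da1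

/-- the mask of an octad of the first kind -/
def octB (k : ℕ) : ℕ := slot 24 oB k

/-- the mask of an octad of the second kind -/
def octD (k : ℕ) : ℕ := slot 24 oD k

/-- the coordinates of the 275 vectors -/
def vecN (i k : ℕ) : ℤ :=
  if i < 22 then (if k = 0 ∨ k = i + 2 then 4 else 0)
  else if i < 99 then (if (octB (i - 22)).testBit k then 2 else 0)
  else (if k = 0 then 5 else 1) - (if (octD (i - 99)).testBit k then 2 else 0)

/-- the 275 vectors -/
def vecF (i : ℕ) : GolayPt → ℤ := fun p => vecN i (idx p)

theorem octB_okK : (allN 77 fun k => isOct (octB k) && (octB k).testBit 0 && (octB k).testBit 1) = true := by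
  decide +kernel

theorem octD_okK : (allN 176 fun k => isOct (octD k) && (octD k).testBit 0 && !(octD k).testBit 1) = true := by
  decide +kernel

theorem pt_ne {a b : ℕ} (ha : a < 24) (hb : b < 24) (h : a ≠ b) : pt a ≠ pt b := by
  intro e
  have := congrArg idx e
  rw [idx_pt ha, idx_pt hb] at this
  exact h this

theorem vecF_A {i : ℕ} (h : i < 22) : vecF i = fA (pt (i + 2)) := by
  funext p
  show vecN i (idx p) = fA (pt (i + 2)) p
  unfold vecN fA
  rw [if_pos h]
  simp only [Pi.add_apply, Pi.single_apply]
  have hne : pt (i + 2) ≠ pt 0 := pt_ne (by omega) (by norm_num) (by omega)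
  by_cases h0 : p = pt 0
  · subst h0
    rw [idx_pt (by norm_num), if_pos (Or.inl rfl), if_neg hne.symm, if_pos rfl]
    rfl
  · by_cases hp : p = pt (i + 2)
    · rw [if_pos (Or.inr ((idx_eq_iff p (by omega)).mpr hp)), if_pos hp, if_neg h0]
      rfl
    · have hi0 : idx p ≠ 0 := fun h => h0 ((idx_eq_iff p (by norm_num)).mp h)
      have hi1 : idx p ≠ i + 2 := fun h => hp ((idx_eq_iff p (by omega)).mp h)
      rw [if_neg (by omega), if_neg hp, if_neg h0]
      rfl

theorem vecF_B {i : ℕ} (h1 : 22 ≤ i) (h2 : i < 99) : vecF i = fB (maskSet (octB (i - 22))) := by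
  funext p
  show vecN i (idx p) = fB (maskSet (octB (i - 22))) p
  unfold vecN fB
  rw [if_neg (by omega), if_pos h2]
  by_cases hp : p ∈ maskSet (octB (i - 22))
  · rw [if_pos hp, if_pos ((mem_maskSet _ _).mp hp)]
  · rw [if_neg hp, if_neg (fun h => hp ((mem_maskSet _ _).mpr h))]

theorem vecF_D {i : ℕ} (h : 99 ≤ i) : vecF i = d0 - fB (maskSet (octD (i - 99))) := by
  funext p
  show vecN i (idx p) = d0 p - fB (maskSet (octD (i - 99))) p
  unfold vecN fB d0
  rw [if_neg (by omega), if_neg (by omega)]
  have e1 : (if idx p = 0 then (5 : ℤ) else 1) = if p = pt 0 then 5 else 1 := by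
    by_cases h0 : p = pt 0
    · rw [if_pos h0, if_pos ((idx_eq_iff p (by norm_num)).mpr h0)]
    · rw [if_neg h0, if_neg (fun h => h0 ((idx_eq_iff p (by norm_num)).mp h))]
  rw [e1]
  by_cases hp : p ∈ maskSet (octD (i - 99))
  · rw [if_pos hp, if_pos ((mem_maskSet _ _).mp hp)]
  · rw [if_neg hp, if_neg (fun h => hp ((mem_maskSet _ _).mpr h))]

theorem vecF_mem {i : ℕ} (hi : i < 275) : vecF i ∈ Y0 := by
  classical
  rw [mem_Y0_iff]
  by_cases h22 : i < 22
  · left
    rw [vecF_A h22]
    exact ⟨pt (i + 2), ⟨pt_ne (by omega) (by norm_num) (by omega), pt_ne (by omega) (by norm_num) (by omega)⟩, rfl⟩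
  · by_cases h99 : i < 99
    · right; left
      rw [vecF_B (by omega) h99]
      have hk := allN_spec octB_okK (i - 22) (by omega)
      rw [Bool.and_eq_true, Bool.and_eq_true] at hk
      refine ⟨_, ⟨maskSet_mem_octads hk.1.1, ?_, ?_⟩, rfl⟩
      · rw [mem_maskSet, idx_pt (by norm_num)]
        exact hk.1.2
      · rw [mem_maskSet, idx_pt (by norm_num)]
        exact hk.2
    · right; right
      rw [vecF_D (by omega)]
      have hk := allN_spec octD_okK (i - 99) (by omega)
      rw [Bool.and_eq_true, Bool.and_eq_true] at hk
      refine ⟨_, ⟨maskSet_mem_octads hk.1.1, ?_, ?_⟩, rfl⟩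
      · rw [mem_maskSet, idx_pt (by norm_num)]
        exact hk.1.2
      · rw [mem_maskSet, idx_pt (by norm_num)]
        intro hc
        rw [hc] at hk
        exact absurd hk.2 (by decide)

/-! ### Inner products -/

/-- the inner product of two of the 275 vectors -/
def dotN (i j : ℕ) : ℤ := sumZ 24 fun k => vecN i k * vecN j k

theorem dot_sumZ (a b : ℕ → ℤ) :
    dotInt (fun p : GolayPt => a (idx p)) (fun p : GolayPt => b (idx p)) = sumZ 24 fun k => a k * b k := by
  unfold dotInt
  rw [sum_golayPt]
  have : ∀ n, ∀ f g : ℕ → ℤ, (∀ k < n, f k = g k) → sumZ n f = sumZ n g := by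
    intro n
    induction n with
    | zero => intro _ _ _; rfl
    | succ n ih =>
      intro f g h
      rw [sumZ_succ, sumZ_succ, h n (Nat.lt_succ_self n), ih f g (fun k hk => h k (Nat.lt_succ_of_lt hk))]
  apply this
  intro k hk
  show a (idx (pt k)) * b (idx (pt k)) = _
  rw [idx_pt hk]

theorem dot_vecF (i j : ℕ) : dotInt (vecF i) (vecF j) = dotN i j :=
  dot_sumZ (vecN i) (vecN j)

/-- the 275 vectors, packed: 24 entries of three bits for each vector, each entry increased by one -/
def vecP : ℕ := 0x49241209249241400208249249248049400241248249009249400249049240241249401009009249209249401048248248249209401049249041049049401201249241249201401209248009241249401240041049249249401241209208249049401248209249041241401249049209048209401249200241248249401249241249201009401249249048208241408001249048249249408049208249241049408049249241208209408209040249249209408209209201049249408240249209241209408241009249248241408248201248209249408248248041249241408249049009209049408249241049040249408249249248049001409008241241241249409009248249048241409040249249209041409041048201249249409041201249049209409048209009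248249409049041248248049409049049049241201409049249208001249409201049249041049409201241209208249409208049208249241409208249049009209409209201049249041409209209248240209409209248240209049409240249240048249409241209041201249409241240248241241409241248049248009409248009241249009409248048249200249409248240209049049409249008048049249409249041241009241409249208209209201409249241000249209409249249201240041440009249249041209440040209241249249440049048049248249440209208248249241440209241041209249440241241248248209440241249049241041440248049249209201440248249008049249440249001249049049440249209209200249440249248201249009441001240249249049441009249200248249441041049248049241441041249009209209441048049209241049441048241249008249441049201048241249441049209249248001441049248241201241441200249248201249441201209049048249441208048241049249441208201209249209441209041249240241441209049048249009441209249209009041441240248209248241441241008249241209441241049241208049441241241201041249441248208049209049441248241240249041441248249041240209441249009001249241441249040208209249441249209240009209441249240049049201441249248248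040049448008248209209249448009049241249041448041041249201249448041249209048049448048241049249009448048249248240241448049009208249209448049209049009241448049240240049249448200241249049241448201209249209009448201248241240249448208009049241249448209049248008249448209241208241049448209249009248201448240048248249049448241049041049209448241200009249249448241249200209241448248041201248249448248208249048209448248249241001049448249048209041241448249201241241201448249209040248049448249240249208041448249248048201209449000049249248209449001209209241241449008209248049049449009041009049249449009208041249209449009241248209201449009249049200049449040248049041249449041208248208249449041241041248241449041249240241009449048000249249241449048049040209249449048249201049201449049009241040249449049048249009009449049201201209049449049240209240209449049248008249041449200249001249049449201001240249249449201048049209241449201248208049209449208209241208241449208240048248249449208248249241001449209008209248049449209049201201209449209200249001249449209241241048009449209249040041241449240009209009249449240201249240049449240209048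24920144924024024120920944924104120924900144924104900824024944924120824104904144924124104800904944924124924900020144924804124804120944924804904904804144924820820024124944924824100920124144924824920820800944924900104920820944924900924820104144924904004124104944924904824024820144924920120804824144924920900904100944924924800100824946d924964b24924965b6cb2c92492492d925b6c96492c925b24925b6c92592496c964925b6c924b25924924b2db65b25b24924b24925b6596492492496c92db6592c92c92c924b25b65924925965925925b64b64924964924b65b64b2496492d92492db64b2492db24964925b6496d965924924925b64964b24b2c925925b6492cb24925964965b6492c924b64b2492db6492592c92492596db64925924b2592cb25b64924b6c96492c925b64924964924b65b25b6492492592cb2c965b2db24924925964b25b2d96cb24964924925b2d92592d92492c925b2d92492492cb2592db2cb65924b2492492db2cb24b2c92c924965b2cb24965964b24925b2c96496492c92cb25b2c964925924965965b2c92d924924b24b65b2c92c96c92496492db2c92c925b2d924925b2c925b64925925925b2c924b24b24b6c925b2c92492cb64925b25b2c92492496592c96db25b6496c924925925b25b2c92592492496db25b24924b6c92c925b2596592492d924965b25964925b24b24b25b2592d924b24965925b2592c964925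b2c925b25925964964924b2db25924b6592c964925b25924b2cb2592492db25924b2492492db65b2592492c964b64965b24b6c92492cb64925b24b64b2592592c925b24b2d92c965924925b24b2cb64b24924b25b24b2596492496c965b24b2592592c925b25b24b24b2496496592db24b2492c924b2cb2db24b24924b25b25965b2496c92cb2492c965b2496c924925925b2db24965b2c924964b25b24965924964b2d925b24964b64924b2496db24964964b65964925b2496492d96c92492db2492db2492c92c92db2492cb2d924b25925b2492c96496c925965b2492c92596496cb25b24925b25b64924965b2492596cb2cb24925b24925925925b6492db24924b2496db24b25b2492496d925924b65b24924965b2492d92db2492492c92d96d925b24924924b2c964b6dba4924924924924924d34924924924924924d26924924924924924d24d24924924924924d249a4924924924924d24934924924924924d24926924924924924d24924d24924924924d249249a4924924924d24924934924924924d24924926924924924d24924924d24924924d249249249a4924924d24924924934924924d24924924926924924d24924924924d24924d249249249249a4924d24924924924934924d24924924924926924d24924924924924d24d249249249249249a4d24924924924924934d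

/-- an entry of a vector, increased by one -/
def ent (i k : ℕ) : ℕ := slot 3 (slot 72 vecP i) k

theorem ent_okK : (allN 275 fun i => allN 24 fun k => decide (vecN i k = (ent i k : ℤ) - 1)) = true := by
  decide +kernel

theorem vecN_eq {i k : ℕ} (hi : i < 275) (hk : k < 24) : vecN i k = (ent i k : ℤ) - 1 :=
  of_decide_eq_true (allN_spec (allN_spec ent_okK i hi) k hk)

/-- the sum of the products of the entries -/
def dotP (x y : ℕ) : ℕ := sumN 24 fun k => Nat.mul (slot 3 x k) (slot 3 y k)

/-- the sum of the entries -/
def sumP (x : ℕ) : ℕ := sumN 24 fun k => slot 3 x k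

theorem sumZ_congr : ∀ n, ∀ f g : ℕ → ℤ, (∀ k < n, f k = g k) → sumZ n f = sumZ n g := by
  intro n
  induction n with
  | zero => intro _ _ _; rfl
  | succ n ih =>
    intro f g h
    rw [sumZ_succ, sumZ_succ, h n (Nat.lt_succ_self n), ih f g (fun k hk => h k (Nat.lt_succ_of_lt hk))]

theorem sumZ_shift (a b : ℕ → ℕ) : ∀ n : ℕ, sumZ n (fun k => ((a k : ℤ) - 1) * ((b k : ℤ) - 1)) =
    ((sumN n fun k => Nat.mul (a k) (b k) : ℕ) : ℤ) + n - (((sumN n a : ℕ) : ℤ) + ((sumN n b : ℕ) : ℤ)) := by
  intro n
  induction n with
  | zero => simp [sumZ, sumN]
  | succ n ih =>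
    rw [sumZ_succ, ih, sumN_succ, sumN_succ, sumN_succ]
    have : Nat.mul (a n) (b n) = a n * b n := rfl
    rw [this]
    push_cast
    ring

theorem dotN_eq {i j : ℕ} (hi : i < 275) (hj : j < 275) :
    dotN i j = ((dotP (slot 72 vecP i) (slot 72 vecP j) : ℕ) : ℤ) + 24 -
      (((sumP (slot 72 vecP i) : ℕ) : ℤ) + ((sumP (slot 72 vecP j) : ℕ) : ℤ)) := by
  unfold dotN
  rw [sumZ_congr 24 _ (fun k => ((ent i k : ℤ) - 1) * ((ent j k : ℤ) - 1))
    (fun k hk => by rw [vecN_eq hi hk, vecN_eq hj hk])]
  exact sumZ_shift (ent i) (ent j) 24

/-- the table of the inner products: eight on the edges, thirty-two on the diagonal -/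
def tableB : Bool :=
  allN 275 fun i => withNat (slot 72 vecP i) fun x => withNat (sumP x) fun sx =>
    allN 275 fun j => withNat (slot 72 vecP j) fun y => withNat (sumP y) fun sy =>
      withNat (Nat.add (dotP x y) 24) fun d =>
        Nat.ble (Nat.add sx sy) d && (Nat.beq (Nat.sub d (Nat.add sx sy)) 8 == adjB 275 adjMcL i j) &&
          (Nat.beq (Nat.sub d (Nat.add sx sy)) 32 == Nat.beq i j)

theorem table_okK : tableB = true := by decide +kernel

theorem table_spec {i j : ℕ} (hi : i < 275) (hj : j < 275) : ∃ d : ℕ, dotN i j = (d : ℤ) ∧
    (Nat.beq d 8 = adjB 275 adjMcL i j) ∧ (Nat.beq d 32 = Nat.beq i j) := by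
  have h' := allN_spec table_okK i hi
  rw [PermPack.withNat_eq, PermPack.withNat_eq] at h'
  have h := allN_spec h' j hj
  simp only [PermPack.withNat_eq, Bool.and_eq_true, Nat.ble_eq, beq_iff_eq] at h
  obtain ⟨⟨h1, h2⟩, h3⟩ := h
  refine ⟨_, ?_, h2, h3⟩
  rw [dotN_eq hi hj]
  have e1 : Nat.add (dotP (slot 72 vecP i) (slot 72 vecP j)) 24 =
      dotP (slot 72 vecP i) (slot 72 vecP j) + 24 := rfl
  have e2 : Nat.add (sumP (slot 72 vecP i)) (sumP (slot 72 vecP j)) =
      sumP (slot 72 vecP i) + sumP (slot 72 vecP j) := rfl
  rw [e1, e2] at h1
  show _ = ((Nat.sub (Nat.add (dotP (slot 72 vecP i) (slot 72 vecP j)) 24)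
    (Nat.add (sumP (slot 72 vecP i)) (sumP (slot 72 vecP j))) : ℕ) : ℤ)
  rw [e1, e2]
  show _ = ((dotP (slot 72 vecP i) (slot 72 vecP j) + 24 -
    (sumP (slot 72 vecP i) + sumP (slot 72 vecP j)) : ℕ) : ℤ)
  rw [Nat.cast_sub h1]
  push_cast
  ring

theorem dotN_eight {i j : ℕ} (hi : i < 275) (hj : j < 275) : dotN i j = 8 ↔ adjB 275 adjMcL i j = true := by
  obtain ⟨d, hd, h8, _⟩ := table_spec hi hj
  rw [hd, ← h8, beq_iff]
  exact_mod_cast Iff.rfl

theorem dotN_diag {i j : ℕ} (hi : i < 275) (hj : j < 275) : dotN i j = 32 ↔ i = j := by
  obtain ⟨d, hd, _, h32⟩ := table_spec hi hj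
  rw [hd, ← beq_iff (a := i), ← h32, beq_iff]
  exact_mod_cast Iff.rfl

/-! ### The 275 vectors in the lattice -/

/-- the 275 vectors, in the lattice -/
def F (i : Fin 275) : ↥leechLattice := ⟨vecF i.1, (vecF_mem i.2).1.1⟩

theorem F_mem (i : Fin 275) : F i ∈ Y D0 a01 := (mem_Y_std _).mpr (vecF_mem i.2)

theorem dot_F (i j : Fin 275) : dotInt (F i : GolayPt → ℤ) (F j : GolayPt → ℤ) = dotN i.1 j.1 :=
  dot_vecF i.1 j.1

theorem F_injective : Function.Injective F := by
  intro i j h
  have h1 := dot_F i i
  rw [(dotN_diag i.2 i.2).mpr rfl] at h1
  have h2 := dot_F i j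
  rw [← h, h1] at h2
  exact Fin.ext ((dotN_diag i.2 j.2).mp h2.symm)

theorem finite_Y : (Y D0 a01).Finite := Set.finite_of_ncard_ne_zero (by rw [ncard_Y_std]; norm_num)

theorem range_F : Set.range F = Y D0 a01 := by
  apply Set.eq_of_subset_of_ncard_le
  · rintro _ ⟨i, rfl⟩
    exact F_mem i
  · rw [ncard_Y_std, ← Set.image_univ, Set.ncard_image_of_injective _ F_injective, Set.ncard_univ,
      Nat.card_eq_fintype_card, Fintype.card_fin]
  · exact finite_Y

/-! ### The action -/

/-- the stabiliser of the standard pair -/
abbrev G1 : Subgroup ↥Co0 := GS a01 (D0 - a01)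

theorem G1_fix (g : ↥G1) : g.1 • D0 = D0 ∧ g.1 • a01 = a01 := by
  have hg := (mem_GS _ _ g.1).mp g.2
  refine ⟨?_, hg.1⟩
  have e : D0 = a01 + (D0 - a01) := by abel
  rw [e, co0_add, hg.1, hg.2]

theorem exists_index (g : ↥G1) (i : Fin 275) : ∃ j : Fin 275, F j = g.1 • F i := by
  have hg := G1_fix g
  have : g.1 • F i ∈ Y D0 a01 := by
    have := smul_mem_Y g.1 (F_mem i)
    rwa [hg.1, hg.2] at this
  rw [← range_F] at this
  exact this

/-- the permutation of the indices induced by an element of the stabiliser, as a function -/
noncomputable def actFun (g : ↥G1) (i : Fin 275) : Fin 275 := Classical.choose (exists_index g i)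

theorem F_actFun (g : ↥G1) (i : Fin 275) : F (actFun g i) = g.1 • F i := Classical.choose_spec (exists_index g i)

theorem actFun_one (i : Fin 275) : actFun 1 i = i := by
  apply F_injective
  rw [F_actFun]
  exact one_smul _ _

theorem actFun_mul (g h : ↥G1) (i : Fin 275) : actFun (g * h) i = actFun g (actFun h i) := by
  apply F_injective
  rw [F_actFun, F_actFun, F_actFun]
  exact mul_smul g.1 h.1 (F i)

/-- the permutation of the indices induced by an element of the stabiliser -/
noncomputable def actPerm (g : ↥G1) : Equiv.Perm (Fin 275) where
  toFun := actFun g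
  invFun := actFun g⁻¹
  left_inv i := by rw [← actFun_mul, inv_mul_cancel, actFun_one]
  right_inv i := by rw [← actFun_mul, mul_inv_cancel, actFun_one]

/-- the action on the indices -/
noncomputable def rho : ↥G1 →* Equiv.Perm (Fin 275) :=
  MonoidHom.mk' actPerm (fun g h => Equiv.ext fun i => actFun_mul g h i)

theorem F_rho (g : ↥G1) (i : Fin 275) : F (rho g i) = g.1 • F i := F_actFun g i

theorem sqNorm_a01 : sqNorm (a01 : GolayPt → ℤ) = 32 := by
  rw [← dot_self, dot_a01_self]

theorem G1_simple : IsSimpleGroup ↥G1 ∧ Nat.card ↥G1 = 898128000 := by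
  obtain ⟨ha, hb, hab, -⟩ := (McL2025.mem_TM a01 (D0 - a01) d01).mp McL2025b.t1_mem
  exact McL_simple a01 (D0 - a01) ha hb hab

/-- the action is faithful: the group is simple, and a permutation of the coordinates moves one of the vectors -/
theorem rho_injective : Function.Injective rho := by
  haveI := G1_simple.1
  rw [← MonoidHom.ker_eq_bot_iff]
  rcases (MonoidHom.normal_ker rho).eq_bot_or_eq_top with h | h
  · exact h
  · exfalso
    obtain ⟨σ, hσ, h0, h1, h23⟩ := exists_move_point (j := pt 2) (j' := pt 3) (by decide) (by decide)
      (by decide) (by decide)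
    have ht := (smul_t0_iff _).mp (piCo_fix hσ h0 h1)
    have hmem : piCo σ hσ ∈ G1 := by
      rw [mem_GS]
      refine ⟨ht.2.2, ?_⟩
      rw [co0_sub, ht.1, ht.2.2]
    have hk : (⟨piCo σ hσ, hmem⟩ : ↥G1) ∈ rho.ker := by rw [h]; exact Subgroup.mem_top _
    rw [MonoidHom.mem_ker] at hk
    have h2 := F_rho ⟨piCo σ hσ, hmem⟩ ⟨0, by norm_num⟩
    rw [hk] at h2
    have h3 : ((F ⟨0, by norm_num⟩ : ↥leechLattice) : GolayPt → ℤ) =
        ((piCo σ hσ • F ⟨0, by norm_num⟩ : ↥leechLattice) : GolayPt → ℤ) := congrArg Subtype.val h2
    rw [piCo_smul] at h3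
    have h4 : (F ⟨0, by norm_num⟩ : GolayPt → ℤ) = fA (pt 2) := vecF_A (i := 0) (by norm_num)
    rw [h4, sp_fA h0, h23] at h3
    have := fA_injective h3
    exact absurd this (by decide)

theorem rho_mem (g : ↥G1) : rho g ∈ AutG 275 adjMcL := by
  intro i j
  have h1 : dotN (rho g i).1 (rho g j).1 = dotN i.1 j.1 := by
    rw [← dot_F, ← dot_F, F_rho, F_rho, co0_dot]
  rw [Bool.eq_iff_iff, ← dotN_eight (rho g i).2 (rho g j).2, ← dotN_eight i.2 j.2, h1]

end Cfsg.Agent.Helper22.McLBridge
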