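import Mathlib

/-!
# The action of the permutations of eight points on the thirty-five splittings into two parts of four points

The splittings are numbered in the order in which they are needed for the McLaughlin group.  The action is
faithful, so a subgroup of order 20160 of the image is the image of the alternating group.
-/

set_option autoImplicit false

namespace Cfsg.Agent.Helper22.Split8

/-- the part containing the point 0 of each splitting, as a bit mask -/
def masks : List ℕ := [177, 45, 23, 15, 147, 169, 225, 149, 57, 39, 53, 83, 77, 113, 27, 135, 163, 43, 201, 153, 209,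
  29, 71, 165, 105, 75, 141, 101, 195, 85, 51, 99, 197, 139, 89]

/-- the side of a point in a splitting -/
def sideN (k i : ℕ) : Bool := (masks.getD k 0).testBit i

/-- the side of a point in a splitting -/
def side (k : Fin 35) (i : Fin 8) : Bool := sideN k.1 i.1

/-- a permutation maps one splitting to another -/
def R (σ : Equiv.Perm (Fin 8)) (k k' : Fin 35) : Prop :=
  ∀ i j : Fin 8, (side k' (σ i) = side k' (σ j)) ↔ (side k i = side k j)

theorem exists_of_count : ∀ b0 b1 b2 b3 b4 b5 b6 b7 : Bool,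
    b0.toNat + b1.toNat + b2.toNat + b3.toNat + b4.toNat + b5.toNat + b6.toNat + b7.toNat = 4 →
    ∃ k : Fin 35, ∀ i j : Fin 8, (side k i = side k j) ↔
      ((![b0, b1, b2, b3, b4, b5, b6, b7] : Fin 8 → Bool) i = (![b0, b1, b2, b3, b4, b5, b6, b7] : Fin 8 → Bool) j) := by
  decide +kernel

theorem count_side : ∀ k : Fin 35, (side k 0).toNat + (side k 1).toNat + (side k 2).toNat + (side k 3).toNat +
    (side k 4).toNat + (side k 5).toNat + (side k 6).toNat + (side k 7).toNat = 4 := by
  decide +kernel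

theorem unique_of_same : ∀ k k' : Fin 35, (∀ i j : Fin 8, (side k i = side k j) ↔ (side k' i = side k' j)) → k = k' := by
  decide +kernel

theorem sum_toNat_perm (f : Fin 8 → Bool) (σ : Equiv.Perm (Fin 8)) :
    ∑ i, (f (σ i)).toNat = ∑ i, (f i).toNat :=
  Equiv.sum_comp σ fun i => (f i).toNat

theorem inv_apply' (σ : Equiv.Perm (Fin 8)) (i : Fin 8) : σ⁻¹ (σ i) = i := by simp

theorem apply_inv' (σ : Equiv.Perm (Fin 8)) (i : Fin 8) : σ (σ⁻¹ i) = i := by simp

theorem exists_R (σ : Equiv.Perm (Fin 8)) (k : Fin 35) : ∃ k', R σ k k' := by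
  have hf : (fun i => side k (σ⁻¹ i)) = ![side k (σ⁻¹ 0), side k (σ⁻¹ 1), side k (σ⁻¹ 2), side k (σ⁻¹ 3),
      side k (σ⁻¹ 4), side k (σ⁻¹ 5), side k (σ⁻¹ 6), side k (σ⁻¹ 7)] := by
    funext i
    fin_cases i <;> rfl
  have hcount : (side k (σ⁻¹ 0)).toNat + (side k (σ⁻¹ 1)).toNat + (side k (σ⁻¹ 2)).toNat + (side k (σ⁻¹ 3)).toNat +
      (side k (σ⁻¹ 4)).toNat + (side k (σ⁻¹ 5)).toNat + (side k (σ⁻¹ 6)).toNat + (side k (σ⁻¹ 7)).toNat = 4 := by
    have h1 := sum_toNat_perm (side k) σ⁻¹
    rw [Fin.sum_univ_eight, Fin.sum_univ_eight] at h1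
    have h2 := count_side k
    omega
  obtain ⟨k', hk'⟩ := exists_of_count _ _ _ _ _ _ _ _ hcount
  rw [← hf] at hk'
  refine ⟨k', fun i j => ?_⟩
  rw [hk' (σ i) (σ j)]
  show (side k (σ⁻¹ (σ i)) = side k (σ⁻¹ (σ j))) ↔ _
  rw [inv_apply', inv_apply']

theorem R_unique {σ : Equiv.Perm (Fin 8)} {k k' k'' : Fin 35} (h' : R σ k k') (h'' : R σ k k'') : k' = k'' := by
  apply unique_of_same
  intro a b
  have e1 := h' (σ⁻¹ a) (σ⁻¹ b)
  have e2 := h'' (σ⁻¹ a) (σ⁻¹ b)
  rw [apply_inv', apply_inv'] at e1 e2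
  rw [e1, e2]

theorem R_one (k : Fin 35) : R 1 k k := fun _ _ => Iff.rfl

theorem R_mul {σ τ : Equiv.Perm (Fin 8)} {k k1 k2 : Fin 35} (h1 : R τ k k1) (h2 : R σ k1 k2) : R (σ * τ) k k2 := by
  intro i j
  rw [Equiv.Perm.mul_apply, Equiv.Perm.mul_apply, h2, h1]

/-- the image of a splitting -/
noncomputable def act (σ : Equiv.Perm (Fin 8)) (k : Fin 35) : Fin 35 := Classical.choose (exists_R σ k)

theorem R_act (σ : Equiv.Perm (Fin 8)) (k : Fin 35) : R σ k (act σ k) := Classical.choose_spec (exists_R σ k)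

theorem act_eq {σ : Equiv.Perm (Fin 8)} {k k' : Fin 35} (h : R σ k k') : act σ k = k' := R_unique (R_act σ k) h

noncomputable instance actionPerm8 : MulAction (Equiv.Perm (Fin 8)) (Fin 35) where
  smul := act
  one_smul k := act_eq (R_one k)
  mul_smul σ τ k := act_eq (R_mul (R_act τ k) (R_act σ (act τ k)))

/-- the action as a homomorphism -/
noncomputable def psi : Equiv.Perm (Fin 8) →* Equiv.Perm (Fin 35) := MulAction.toPermHom _ _

theorem psi_apply (σ : Equiv.Perm (Fin 8)) (k : Fin 35) : psi σ k = act σ k := rfl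

theorem sep : ∀ i j x x' : Fin 8, j ≠ i → x ≠ i → x ≠ j → x' ≠ j →
    ∃ k : Fin 35, side k i = side k x ∧ side k j ≠ side k x' := by
  decide +kernel

theorem third : ∀ i j : Fin 8, ∃ x : Fin 8, x ≠ i ∧ x ≠ j := by decide

theorem psi_injective : Function.Injective psi := by
  rw [injective_iff_map_eq_one]
  intro σ hσ
  by_contra hne
  obtain ⟨i, hi⟩ : ∃ i, σ i ≠ i := by
    by_contra hall
    push Not at hall
    exact hne (Equiv.ext hall)
  obtain ⟨x, hxi, hxj⟩ := third i (σ i)
  have hx' : σ x ≠ σ i := fun h => hxi (σ.injective h)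
  obtain ⟨k, hk1, hk2⟩ := sep i (σ i) x (σ x) hi hxi hxj hx'
  have hR : R σ k k := by
    have h1 := R_act σ k
    have h2 : act σ k = k := by
      have := congrArg (fun p => p k) hσ
      simpa [psi_apply] using this
    rw [h2] at h1
    exact h1
  exact hk2 ((hR i x).mpr hk1)

end Cfsg.Agent.Helper22.Split8
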