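import Cfsg.Agent.Helper22.McLInvData
import Cfsg.Agent.Helper22.McLK2
import Cfsg.Agent.Helper22.Split8

/-!
# Kernel facts about the involutions of the group of order 898128000 on 275 points
-/

set_option autoImplicit false
set_option Elab.async false

namespace Cfsg.Agent.Helper22.McLInv

open Cfsg.Agent.Helper22.PermPack Cfsg.Agent.Helper22.McLKData Cfsg.Agent.Helper22.McLInvData
  Cfsg.Agent.Helper22.McLK Cfsg.Agent.Helper22.Split8

/-! ### The involutions of the subgroup of order 128 -/

/-- each element of the subgroup of order 128 is not an involution or is the listed conjugate of the chosen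
involution -/
def invB : Bool :=
  allN 32 fun k0 => allN 4 fun k1 =>
    withList (pathTabs 275 9 slevels [k0, k1]) fun ts =>
      !(allN 275 fun i => Nat.beq (compLook 9 ts (compLook 9 ts i)) i) ||
        (allN 275 fun i => Nat.beq (compLook 9 ts i) i) ||
        withNat (invIdx.getD (Nat.add (Nat.mul 4 k0) k1) 0) fun j => Nat.blt j 22275 &&
          withList (pathTabsC 275 9 32 fwdC (repPath j)) fun fs =>
            withList (pathTabsC 275 9 32 invC (repPath j)) fun is =>
              allN 275 fun i => Nat.beq (compLook 9 ts i) (conjLook 9 fs is (slot 9 zT) i)

theorem inv_okK : invB = true := by decide +kernel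

theorem z_sqK : (allN 275 fun i => Nat.beq (slot 9 zT (slot 9 zT i)) i) = true := by decide +kernel

theorem z_moveK : Nat.beq (slot 9 zT 0) 0 = false := by decide +kernel

/-! ### The centraliser -/

theorem c2Y_goodK : c2Y.all (goodB 275 9) = true := by decide +kernel

theorem dchain_okK : chainOK 275 9 c2Y dlevels = true := by decide +kernel

theorem prod_dlevels : (dlevels.map fun L => L.m).prod = 40320 := by decide +kernel

/-- the generators of the centraliser lie in the group -/
def dsubB : Bool := allN c2Y.length fun j => isPath levels (c2Y.getD j 0) (c2Paths.getD j [])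

theorem dsub_okK : dsubB = true := by decide +kernel

theorem zcommD_okK : zcommB c2Y = true := by decide +kernel

theorem z_memK : c2Y.contains zT = true := by decide +kernel

/-- the two elements of the last level are the identity and the involution -/
def lastB : Bool :=
  (dlevels2.all fun L => Nat.beq L.m 2) &&
  (allN 275 fun i => Nat.beq (pathLook 275 9 dlevels2 [0] i) i) &&
    (allN 275 fun i => Nat.beq (pathLook 275 9 dlevels2 [1] i) (slot 9 zT i))

theorem last_okK : lastB = true := by decide +kernel

/-! ### The fixed points of the involution -/

/-- the fixed point with a given number -/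
def fixN (k : ℕ) : ℕ := fixL.getD k 0

/-- the number of a fixed point -/
def idxIn : List ℕ → ℕ → ℕ
  | [], _ => 0
  | a :: l, i => bif Nat.beq a i then 0 else Nat.succ (idxIn l i)

/-- the list holds the fixed points -/
def fixB : Bool :=
  (allN 275 fun i => Nat.beq (slot 9 zT i) i == (Nat.blt (idxIn fixL i) 35 && Nat.beq (fixN (idxIn fixL i)) i)) &&
    (allN 35 fun k => Nat.blt (fixN k) 275 && Nat.beq (slot 9 zT (fixN k)) (fixN k) && Nat.beq (idxIn fixL (fixN k)) k)

theorem fix_okK : fixB = true := by decide +kernel

theorem base_fixK : (dlevels1.all fun L => Nat.blt (idxIn fixL L.b) 35 && Nat.beq (fixN (idxIn fixL L.b)) L.b) = true := by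
  decide +kernel

/-! ### The action on the fixed points -/

theorem sigs_goodK : sigs.all (goodB 8 3) = true := by decide +kernel

/-- the strong generators act on the fixed points as the listed permutations of eight points act on the
splittings -/
def actB : Bool :=
  allN c2Y.length fun a => withNat (c2Y.getD a 0) fun y => withNat (sigs.getD a 0) fun t =>
    allN 35 fun k => withNat (idxIn fixL (slot 9 y (fixN k))) fun k' =>
      Nat.blt k' 35 && Nat.beq (fixN k') (slot 9 y (fixN k)) &&
        allN 8 fun i => allN 8 fun j =>
          (sideN k' (slot 3 t i) == sideN k' (slot 3 t j)) == (sideN k i == sideN k j)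

theorem act_okK : actB = true := by decide +kernel

/-! ### A square root of the involution -/

/-- the check of the square root -/
def qB : Bool :=
  goodB 275 9 qT && isPath levels qT qPath &&
    allN 275 fun i => Nat.beq (slot 9 qT (slot 9 qT i)) (slot 9 zT i)

theorem q_okK : qB = true := by decide +kernel

end Cfsg.Agent.Helper22.McLInv
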