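import Cfsg.Agent.Helper22.McLIso
import Cfsg.Prelude.Def_Spor_Conway

/-!
# The McLaughlin group of the definitions is isomorphic to the stabiliser of the standard pair
-/

set_option autoImplicit false

namespace Cfsg.Agent.Helper22.McLIso

open Cfsg Cfsg.Agent.Helper27 Cfsg.Agent.Helper22.Co0Mono Cfsg.Agent.Helper22.Co0Center
  Cfsg.Agent.Helper22.Summands Cfsg.Agent.Helper22.QuadForm Cfsg.Agent.Helper22.MinTrans
  Cfsg.Agent.Helper22.Co2Trans2
  Cfsg.Agent.Helper22.HS100 Cfsg.Agent.Helper22.HS100b Cfsg.Agent.Helper22.HSSimple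
  Cfsg.Agent.Helper22.McLBridge Cfsg.Agent.Helper22.OutTwo Cfsg.Agent.Helper22.LeechMod2

/-- the vector `-(V + U)`, with inner product `-8` with `U` -/
def vecW : ↥leechLattice := -(Spor.leechV + Spor.leechU)

theorem sqNorm_U : sqNorm (Spor.leechU : GolayPt → ℤ) = 32 := by
  show sqNorm Spor.vecU = 32
  decide +kernel

theorem sqNorm_W : sqNorm (vecW : GolayPt → ℤ) = 32 := by
  show sqNorm (-(Spor.vecV + Spor.vecU)) = 32
  decide +kernel

theorem dot_U_W : dotInt (Spor.leechU : GolayPt → ℤ) (vecW : GolayPt → ℤ) = -8 := by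
  show dotInt Spor.vecU (-(Spor.vecV + Spor.vecU)) = -8
  decide +kernel

theorem mem_McL (σ : Equiv.Perm ↥leechLattice) :
    σ ∈ Spor.McL ↔ σ ∈ Co0 ∧ σ Spor.leechV = Spor.leechV ∧ σ Spor.leechU = Spor.leechU := by
  unfold Spor.McL Spor.Co3
  rw [Subgroup.mem_inf, Subgroup.mem_inf, MulAction.mem_stabilizer_iff, MulAction.mem_stabilizer_iff,
    Equiv.Perm.smul_def, Equiv.Perm.smul_def, and_assoc]

theorem V_eq : Spor.leechV = -vecW - Spor.leechU := by
  unfold vecW
  abel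

theorem std_pair : sqNorm (a01 : GolayPt → ℤ) = 32 ∧ sqNorm ((D0 - a01 : ↥leechLattice) : GolayPt → ℤ) = 32 ∧
    dotInt (a01 : GolayPt → ℤ) ((D0 - a01 : ↥leechLattice) : GolayPt → ℤ) = -8 := by
  obtain ⟨ha, hb, hab, -⟩ := (McL2025.mem_TM a01 (D0 - a01) d01).mp McL2025b.t1_mem
  exact ⟨ha, hb, hab⟩

theorem exists_g0 : ∃ g : ↥Co0, g • Spor.leechU = a01 ∧ g • vecW = D0 - a01 := by
  obtain ⟨g1, hg1⟩ := min_transitive Spor.leechU a01 sqNorm_U std_pair.1
  have h1 : dotInt (a01 : GolayPt → ℤ) ((g1 • vecW : ↥leechLattice) : GolayPt → ℤ) = -8 := by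
    rw [← hg1, co0_dot, dot_U_W]
  obtain ⟨g2, hg2, hg2'⟩ := ip8_transitive a01 (g1 • vecW) (D0 - a01) std_pair.1
    (by rw [co0_norm, sqNorm_W]) std_pair.2.1 h1 std_pair.2.2
  refine ⟨g2 * g1, ?_, ?_⟩
  · rw [mul_smul, hg1, hg2]
  · rw [mul_smul, hg2']

/-- the McLaughlin group is isomorphic to the stabiliser of the standard pair -/
theorem nonempty_equiv : Nonempty (↥Spor.McL ≃* ↥G1) := by
  obtain ⟨g0, hU, hW⟩ := exists_g0
  have hU' : g0⁻¹ • a01 = Spor.leechU := by rw [inv_smul_eq_iff, hU]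
  have hW' : g0⁻¹ • (D0 - a01) = vecW := by rw [inv_smul_eq_iff, hW]
  -- an element of the group, in the group of the lattice
  let toC : ↥Spor.McL → ↥Co0 := fun σ => ⟨σ.1, ((mem_McL σ.1).mp σ.2).1⟩
  have toC_V : ∀ σ, toC σ • Spor.leechV = Spor.leechV := fun σ => ((mem_McL σ.1).mp σ.2).2.1
  have toC_U : ∀ σ, toC σ • Spor.leechU = Spor.leechU := fun σ => ((mem_McL σ.1).mp σ.2).2.2
  have toC_W : ∀ σ, toC σ • vecW = vecW := by
    intro σ
    unfold vecW
    rw [co0_neg, co0_add, toC_V, toC_U]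
  have hmem : ∀ σ, g0 * toC σ * g0⁻¹ ∈ G1 := by
    intro σ
    rw [mem_GS]
    constructor
    · rw [mul_smul, mul_smul, hU', toC_U, hU]
    · rw [mul_smul, mul_smul, hW', toC_W, hW]
  let f : ↥Spor.McL →* ↥G1 :=
    { toFun := fun σ => ⟨g0 * toC σ * g0⁻¹, hmem σ⟩
      map_one' := by
        apply Subtype.ext
        show g0 * toC 1 * g0⁻¹ = 1
        have : toC 1 = 1 := rfl
        rw [this]
        group
      map_mul' := by
        intro σ τ
        apply Subtype.ext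
        show g0 * toC (σ * τ) * g0⁻¹ = (g0 * toC σ * g0⁻¹) * (g0 * toC τ * g0⁻¹)
        have : toC (σ * τ) = toC σ * toC τ := rfl
        rw [this]
        group }
  have hinj : Function.Injective f := by
    intro σ τ h
    have h1 : g0 * toC σ * g0⁻¹ = g0 * toC τ * g0⁻¹ := congrArg Subtype.val h
    have h2 : toC σ = toC τ := mul_left_cancel (mul_right_cancel h1)
    have h3 : (toC σ).1 = (toC τ).1 := congrArg Subtype.val h2
    exact Subtype.ext h3
  have hsurj : Function.Surjective f := by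
    intro k
    have hk := (mem_GS _ _ k.1).mp k.2
    set s : ↥Co0 := g0⁻¹ * k.1 * g0 with hs
    have sU : s • Spor.leechU = Spor.leechU := by
      rw [hs, mul_smul, mul_smul, hU, hk.1, hU']
    have sW : s • vecW = vecW := by
      rw [hs, mul_smul, mul_smul, hW, hk.2, hW']
    have sV : s • Spor.leechV = Spor.leechV := by
      rw [V_eq, co0_sub, co0_neg, sW, sU]
    have hsmem : s.1 ∈ Spor.McL := (mem_McL s.1).mpr ⟨s.2, sV, sU⟩
    refine ⟨⟨s.1, hsmem⟩, ?_⟩
    apply Subtype.ext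
    show g0 * toC ⟨s.1, hsmem⟩ * g0⁻¹ = k.1
    have : toC ⟨s.1, hsmem⟩ = s := rfl
    rw [this, hs]
    group
  exact ⟨MulEquiv.ofBijective f ⟨hinj, hsurj⟩⟩

/-- the outer automorphism group of the McLaughlin group has order two -/
theorem card_out_McL : Nat.card (Cfsg.Out ↥Spor.McL) = 2 := by
  obtain ⟨e⟩ := nonempty_equiv
  rw [card_out_congr' e]
  exact card_out_G1

end Cfsg.Agent.Helper22.McLIso
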