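import Cfsg.Agent.Helper22.McLKData
import Cfsg.Agent.Helper22.McLGraph
import Cfsg.Agent.Helper22.PermPack3

/-!
# Kernel facts about the group of order 898128000 on 275 points
-/

set_option autoImplicit false

namespace Cfsg.Agent.Helper22.McLK

open Cfsg.Agent.Helper22.PermPack Cfsg.Agent.Helper22.McLKData Cfsg.Agent.Helper22.GraphRefine
  Cfsg.Agent.Helper22.McLGraph

/-! ### The group -/

theorem zu_goodK : zu.all (goodB 275 9) = true := by decide +kernel

theorem gens_goodK : gens.all (goodB 275 9) = true := by decide +kernel

theorem prod_levels : (levels.map fun L => L.m).prod = 898128000 := by decide +kernel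

theorem slp_okK : slpOK 275 9 zu slp = true := by decide +kernel

theorem gens_subK : (gens.all fun y => zu.contains y || slp.any fun e => e.1 == y) = true := by decide +kernel

theorem zu_subK : (zu.all fun y => gens.contains y) = true := by decide +kernel

theorem zu_autK : zu.all (autB 275 9 adjMcL) = true := by decide +kernel

theorem fwds_okK : fwdsOK 275 9 32 levels fwdC = true := by decide +kernel

theorem invs_okK : invsOK 275 9 32 levels invC = true := by decide +kernel

/-- a table agrees with the product along a path -/
def isPath (ls : List Lv) (t : ℕ) (p : List ℕ) : Bool :=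
  pathValid ls p && withNat t fun t' => withList (pathTabs 275 9 ls p) fun ts =>
    allN 275 fun i => Nat.beq (slot 9 t' i) (compLook 9 ts i)

/-- the check of the transitivity -/
def transB : Bool := allN 275 fun γ => withNat (slot 9 L0.pos γ) fun k =>
  pathValid levels [k, 0, 0, 0, 0] && Nat.beq (pathLook 275 9 levels [k, 0, 0, 0, 0] L0.b) γ

theorem trans_okK : transB = true := by decide +kernel

/-- each point but the first base point is moved by a strong generator fixing the first base point -/
def moveB : Bool := allN 275 fun a => Nat.beq a L0.b ||
  gens.any fun y => Nat.beq (slot 9 y L0.b) L0.b && !(Nat.beq (slot 9 y a) a)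

theorem move_okK : moveB = true := by decide +kernel

/-! ### The element of order seven -/

/-- the table of a power -/
def upow (e : ℕ) : ℕ := upows.getD e 0

/-- the check of the powers -/
def upowsB : Bool :=
  (allN 275 fun i => Nat.beq (slot 9 (upow 0) i) i) &&
    (allN 6 fun e => withNat (upow e) fun a => withNat (upow (e + 1)) fun b =>
      allN 275 fun i => Nat.beq (slot 9 b i) (slot 9 uT (slot 9 a i))) &&
    (withNat (upow 6) fun a => allN 275 fun i => Nat.beq (slot 9 uT (slot 9 a i)) i) &&
    !(Nat.beq (slot 9 uT 1) 1)

theorem upows_okK : upowsB = true := by decide +kernel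

/-- the check of the normalising element -/
def nB : Bool :=
  goodB 275 9 nT && isPath levels nT nPath &&
    withNat (upow 2) fun u2 => allN 275 fun i => Nat.beq (slot 9 nT (slot 9 uT i)) (slot 9 u2 (slot 9 nT i))

theorem n_okK : nB = true := by decide +kernel

/-- the seventh power of a table at a point -/
def pow7 (t i : ℕ) : ℕ := slot 9 t (slot 9 t (slot 9 t (slot 9 t (slot 9 t (slot 9 t (slot 9 t i))))))

/-- the check of the element of order fourteen -/
def vB : Bool :=
  goodB 275 9 vT && isPath levels vT vPath &&
    (allN 275 fun i => Nat.beq (slot 9 vT (slot 9 vT i)) (slot 9 uT i)) && !(Nat.beq (pow7 vT 0) 0)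

theorem v_okK : vB = true := by decide +kernel

/-! ### The centraliser of the involution -/

theorem cY_goodK : cY.all (goodB 275 9) = true := by decide +kernel

theorem cchain_okK : chainOK 275 9 cY clevels = true := by decide +kernel

theorem prod_clevels : (clevels.map fun L => L.m).prod = 40320 := by decide +kernel

/-- the generators of the centraliser lie in the group -/
def csubB : Bool := allN cY.length fun j => isPath levels (cY.getD j 0) (cPaths.getD j [])

theorem csub_okK : csubB = true := by decide +kernel

/-- the involution commutes with the given tables -/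
def zcommB (Y : List ℕ) : Bool :=
  Y.all fun y => allN 275 fun i => Nat.beq (slot 9 y (slot 9 zT i)) (slot 9 zT (slot 9 y i))

theorem zcommC_okK : zcommB cY = true := by decide +kernel

/-! ### The subgroup of order 128 -/

theorem sY_goodK : sY.all (goodB 275 9) = true := by decide +kernel

theorem schain_okK : chainOK 275 9 sY slevels = true := by decide +kernel

theorem prod_slevels : (slevels.map fun L => L.m).prod = 128 := by decide +kernel

/-- the generators of the subgroup lie in the group -/
def ssubB : Bool := allN sY.length fun j => isPath levels (sY.getD j 0) (sPaths.getD j [])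

theorem ssub_okK : ssubB = true := by decide +kernel

theorem zS_okK : isPath slevels zT zSPath = true := by decide +kernel

/-- the check of the centre: an element commuting with the generators is the identity or the involution -/
def centreB : Bool :=
  allN 32 fun k0 => allN 4 fun k1 =>
    withList (pathTabs 275 9 slevels [k0, k1]) fun ts =>
      !(sY.all fun y => allN 275 fun i => Nat.beq (slot 9 y (compLook 9 ts i)) (compLook 9 ts (slot 9 y i))) ||
        (allN 275 fun i => Nat.beq (compLook 9 ts i) i) ||
        (allN 275 fun i => Nat.beq (compLook 9 ts i) (slot 9 zT i))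

theorem centre_okK : centreB = true := by decide +kernel

theorem zcommS_okK : zcommB sY = true := by decide +kernel

/-! ### The conjugates of the involution -/

/-- the path of the element conjugating the involution to a conjugate -/
def repPath (j : ℕ) : List ℕ := decodePath 9 5 (slot 45 (reps.getD (Nat.div j 1024) 0) (Nat.mod j 1024))

/-- the images of the first five points under the conjugate given by tables and the tables of the inverses -/
def keyOf (ts is : List ℕ) : ℕ :=
  Nat.add (conjLook 9 ts is (slot 9 zT) 0) (Nat.add (Nat.shiftLeft (conjLook 9 ts is (slot 9 zT) 1) 9)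
    (Nat.add (Nat.shiftLeft (conjLook 9 ts is (slot 9 zT) 2) 18)
      (Nat.add (Nat.shiftLeft (conjLook 9 ts is (slot 9 zT) 3) 27)
        (Nat.shiftLeft (conjLook 9 ts is (slot 9 zT) 4) 36))))

/-- the key of a conjugate -/
@[irreducible] def key (j : ℕ) : ℕ := keyOf (pathTabsC 275 9 32 fwdC (repPath j)) (pathTabsC 275 9 32 invC (repPath j))

/-- evaluate the key of a conjugate before passing it on -/
def keyB (j : ℕ) (k : ℕ → Bool) : Bool :=
  withList (repPath j) fun p => withList (pathTabsC 275 9 32 fwdC p) fun ts =>
    withList (pathTabsC 275 9 32 invC p) fun is => withNat (keyOf ts is) k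

theorem keyB_eq (j : ℕ) (k : ℕ → Bool) : keyB j k = k (key j) := by
  unfold keyB key
  rw [withList_eq, withList_eq, withList_eq, withNat_eq]

/-- the keys of the conjugates of a range decrease from a bound -/
def keysDown (lo n : ℕ) : ℕ → Bool :=
  Nat.rec (fun _ => true) (fun i acc bound => keyB (Nat.add lo i) fun kj => Nat.blt kj bound && acc kj) n

theorem keysDown_succ (lo n bound : ℕ) :
    keysDown lo (n + 1) bound = keyB (Nat.add lo n) fun kj => Nat.blt kj bound && keysDown lo n kj := rfl

/-- the keys of the conjugates of a range increase, up to the key of the next conjugate -/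
def keysR (lo n : ℕ) : Bool := keyB (Nat.add lo n) fun b => keysDown lo n b

theorem keysDown_spec' (κ : ℕ → ℕ) (F : ℕ → ℕ → Bool)
    (hF : ∀ n b, F (n + 1) b = (Nat.blt (κ n) b && F n (κ n))) : ∀ n b : ℕ, F n b = true →
    ∀ i < n, κ i < if i + 1 < n then κ (i + 1) else b := by
  intro n
  induction n with
  | zero => intro b _ i hi; omega
  | succ n ih =>
    intro b h i hi
    rw [hF, Bool.and_eq_true, blt_iff] at h
    rcases Nat.lt_succ_iff_lt_or_eq.mp hi with h' | h'
    · have := ih _ h.2 i h'
      rw [if_pos (by omega : i + 1 < n + 1)]
      by_cases h'' : i + 1 < n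
      · rwa [if_pos h''] at this
      · rw [if_neg h''] at this
        have e : i + 1 = n := by omega
        rw [e]
        exact this
    · rw [if_neg (by omega : ¬ i + 1 < n + 1), h']
      exact h.1

theorem keysR_spec' (κ : ℕ → ℕ) (F : ℕ → ℕ → Bool)
    (hF : ∀ n b, F (n + 1) b = (Nat.blt (κ n) b && F n (κ n))) (n : ℕ) (h : F n (κ n) = true)
    (i : ℕ) (hi : i < n) : κ i < κ (i + 1) := by
  have := keysDown_spec' κ F hF n _ h i hi
  by_cases h'' : i + 1 < n
  · rwa [if_pos h''] at this
  · rw [if_neg h''] at this
    have e : i + 1 = n := by omega
    rw [e]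
    exact this

theorem keysR_spec {lo n : ℕ} (h : keysR lo n = true) (i : ℕ) (hi : i < n) :
    key (Nat.add lo i) < key (Nat.add lo (i + 1)) := by
  unfold keysR at h
  rw [keyB_eq] at h
  exact keysR_spec' (fun i => key (Nat.add lo i)) (keysDown lo)
    (fun n b => by rw [keysDown_succ, keyB_eq]) n h i hi

/-- the paths are valid -/
def validB : Bool := allN 22275 fun j => withList (repPath j) fun p => pathValid levels p

theorem valid_okK : validB = true := by decide +kernel

/-- the value of a word in a function and the powers of the element of order seven -/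
def relLookF (d : ℕ → ℕ) : List ℕ → ℕ → ℕ
  | [], i => i
  | e :: L, i => d (slot 9 (upow e) (relLookF d L i))

/-- the relations hold for the involution -/
def relsB : Bool :=
  rels.all fun L => (L.all fun e => Nat.blt e 7) && allN 275 fun i => Nat.beq (relLookF (slot 9 zT) L i) i

theorem rels_okK : relsB = true := by decide +kernel

/-- for a conjugate a relation and a point where it fails -/
def wit (j : ℕ) : ℕ := slot 12 (wits.getD (Nat.div j 1024) 0) (Nat.mod j 1024)

/-- a conjugate is one of the fourteen or violates a relation -/
def filterAt (j : ℕ) : Bool :=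
  good14.contains j ||
    withList (repPath j) fun p =>
      withList (pathTabsC 275 9 32 fwdC p) fun ts => withList (pathTabsC 275 9 32 invC p) fun is =>
        withNat (wit j) fun e =>
          withList (rels.getD (Nat.mod e 8) []) fun L => withNat (Nat.div e 8) fun i =>
            Nat.blt (Nat.mod e 8) rels.length && Nat.blt i 275 &&
              !(Nat.beq (relLookF (conjLook 9 ts is (slot 9 zT)) L i) i)

/-- the other conjugates in a range violate a relation -/
def filterR (lo n : ℕ) : Bool := allN n fun i => filterAt (Nat.add lo i)

/-! ### The outer involution -/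

/-- the check of the outer involution -/
def tB : Bool :=
  goodB 275 9 tT && (allN 275 fun i => Nat.beq (slot 9 tT (slot 9 tT i)) i) &&
    pathValid levels tzPath && pathValid levels tuPath &&
    (withList (pathTabs 275 9 levels tzPath) fun ts =>
      allN 275 fun i => Nat.beq (slot 9 tT (slot 9 zT i)) (compLook 9 ts (slot 9 tT i))) &&
    (withList (pathTabs 275 9 levels tuPath) fun ts =>
      allN 275 fun i => Nat.beq (slot 9 tT (slot 9 uT i)) (compLook 9 ts (slot 9 tT i))) &&
    (levels.all fun L => Nat.beq (slot 9 tT L.b) L.b) && !(Nat.beq (slot 9 tT 0) 0)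

theorem t_okK : tB = true := by decide +kernel

end Cfsg.Agent.Helper22.McLK
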