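import Cfsg.Agent.Helper22.Census

/-!
# The lattice is generated by its minimal vectors
-/

set_option autoImplicit false

namespace Cfsg.Agent.Helper22.MinGen

open Cfsg Cfsg.Agent.Helper27 Cfsg.Agent.Helper22.Co0Mono Cfsg.Agent.Helper22.CrossStab
  Cfsg.Agent.Helper22.LeechShapes Cfsg.Agent.Helper22.Norm6Trans
  Cfsg.Agent.Helper22.Co0Order Cfsg.Agent.Helper22.Summands Cfsg.Agent.Helper22.Census

/-- the subgroup generated by the minimal vectors -/
def M : AddSubgroup (GolayPt → ℤ) := AddSubgroup.closure {x : GolayPt → ℤ | x ∈ leechLattice ∧ sqNorm x = 32}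

theorem M_le : M ≤ leechLattice := by
  unfold M
  rw [AddSubgroup.closure_le]
  intro x hx
  exact hx.1

theorem min_mem {x : GolayPt → ℤ} (hx : x ∈ leechLattice) (hn : sqNorm x = 32) : x ∈ M :=
  AddSubgroup.subset_closure ⟨hx, hn⟩

theorem of_T {x : GolayPt → ℤ} (hx : x ∈ leechLattice) (h : (T ⟨x, hx⟩).ncard ≠ 0) : x ∈ M := by
  obtain ⟨v, hv⟩ := Set.nonempty_of_ncard_ne_zero h
  obtain ⟨h1, h2⟩ := hv
  have e : x = (v : GolayPt → ℤ) + (x - (v : GolayPt → ℤ)) := by abel
  rw [e]
  exact M.add_mem (min_mem v.2 h1) (min_mem (leechLattice.sub_mem hx v.2) h2)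

theorem n48_mem {x : GolayPt → ℤ} (hx : x ∈ leechLattice) (hn : sqNorm x = 48) : x ∈ M := by
  apply of_T hx
  rw [ncard_T ⟨x, hx⟩ hn]
  norm_num

theorem n64_mem {x : GolayPt → ℤ} (hx : x ∈ leechLattice) (hn : sqNorm x = 64) : x ∈ M := by
  apply of_T hx
  rw [ncard_T64 ⟨x, hx⟩ hn]
  norm_num

theorem n0_eq {x : GolayPt → ℤ} (hn : sqNorm x = 0) : x = 0 := by
  funext p
  have h := sq_le_sqNorm x p
  rw [hn] at h
  have : x p ^ 2 = 0 := le_antisymm h (sq_nonneg _)
  simpa using this

/-- `8 e_0` -/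
theorem eight_mem : (Pi.single (pt 0) 8 : GolayPt → ℤ) ∈ M := by
  have h := n64_mem e.2 sqNorm_e
  rwa [e_coe] at h

theorem pairVec_mem_M (j : GolayPt) : pairVec j (-4) ∈ M := by
  by_cases hj : j = pt 0
  · subst hj
    have : pairVec (pt 0) (-4) = 0 := by
      funext p
      unfold pairVec
      by_cases hp : p = pt 0
      · subst hp
        simp
      · simp [Pi.single_eq_of_ne hp]
    rw [this]
    exact M.zero_mem
  · exact min_mem (pairVec_mem (Or.inr rfl)) (sqNorm_pairVec hj (Or.inr rfl))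

/-- vectors `4 s` with the sum of `s` even -/
theorem four_mem (s : GolayPt → ℤ) (hs : (∑ p, s p) % 2 = 0) : (fun p => 4 * s p) ∈ M := by
  classical
  have key : (fun p => 4 * s p) =
      (∑ j, (-s j) • pairVec j (-4)) + ((∑ p, s p) / 2) • (Pi.single (pt 0) 8 : GolayPt → ℤ) := by
    funext q
    simp only [Pi.add_apply, Finset.sum_apply, Pi.smul_apply, smul_eq_mul, pairVec, Pi.single_apply]
    have h1 : ∀ j : GolayPt, -s j * ((if q = pt 0 then (4 : ℤ) else 0) + if q = j then -4 else 0) =
        (if q = pt 0 then -4 * s j else 0) + (if q = j then 4 * s j else 0) := by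
      intro j
      split_ifs <;> ring
    simp only [h1, Finset.sum_add_distrib, Finset.sum_ite_eq, Finset.mem_univ, if_true]
    by_cases hq : q = pt 0
    · simp only [if_pos hq, ← Finset.mul_sum]
      omega
    · simp only [if_neg hq, Finset.sum_const_zero]
      ring
  rw [key]
  exact M.add_mem (M.sum_mem fun j _ => M.zsmul_mem (pairVec_mem_M j) _) (M.zsmul_mem eight_mem _)

theorem d0_mem_M : d0 ∈ M := n48_mem d0_mem sqNorm_d0

/-- the word `2 · c` for a codeword `c` -/
def twoW (k : ℕ) : GolayPt → ℤ := fun p => 2 * bitZ (cw k) (idx p)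

theorem twoW_mem (k : ℕ) : twoW k ∈ leechLattice := by
  have h := two_word_mem (decW_cw_mem k)
  have e : (fun i => 2 * (((decW (cw k) i).val : ℕ) : ℤ)) = twoW k := by
    funext p
    unfold twoW bitZ
    rw [decW_apply]
    split_ifs <;> rfl
  rwa [e] at h

theorem sum_twoW (k : ℕ) : ∑ p, twoW k p = 2 * (popc 24 (cw k) : ℤ) := by
  unfold twoW
  rw [← Finset.mul_sum, sum_bitZ]

theorem sqNorm_twoW (k : ℕ) : sqNorm (twoW k) = 4 * (popc 24 (cw k) : ℤ) := by
  unfold sqNorm twoW
  have : ∀ p : GolayPt, (2 * bitZ (cw k) (idx p)) ^ 2 = 4 * bitZ (cw k) (idx p) := by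
    intro p
    rcases bitZ_cases (cw k) (idx p) with h | h <;> rw [h] <;> norm_num
  simp only [this]
  rw [← Finset.mul_sum, sum_bitZ]

theorem twoW_mem_M {k : ℕ} (hk : k < 4096) : twoW k ∈ M := by
  have hn := sqNorm_twoW k
  rcases cw_weights hk with h | h | h | h | h <;> rw [h] at hn
  · have h0 : twoW k = 0 := n0_eq (by simpa using hn)
    rw [h0]
    exact M.zero_mem
  · exact min_mem (twoW_mem k) (by simpa using hn)
  · exact n48_mem (twoW_mem k) (by simpa using hn)
  · exact n64_mem (twoW_mem k) (by simpa using hn)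
  · -- all ones: `2 · 1 = 2 d0 - 8 e_0`
    have hall : ∀ p, bitZ (cw k) (idx p) = 1 := by
      by_contra hc
      rw [not_forall] at hc
      obtain ⟨q, hq⟩ := hc
      have hq0 : bitZ (cw k) (idx q) = 0 := by
        rcases bitZ_cases (cw k) (idx q) with h' | h'
        · exact h'
        · exact absurd h' hq
      have hs := sum_bitZ (cw k)
      rw [h] at hs
      have hle : ∑ p : GolayPt, bitZ (cw k) (idx p) ≤ ∑ p : GolayPt, (if p = q then (0 : ℤ) else 1) := by
        apply Finset.sum_le_sum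
        intro p _
        by_cases hp : p = q
        · rw [if_pos hp, hp, hq0]
        · rw [if_neg hp]
          rcases bitZ_cases (cw k) (idx p) with h' | h' <;> rw [h'] <;> norm_num
      have hcount : ∀ q : GolayPt, ∑ p : GolayPt, (if p = q then (0 : ℤ) else 1) = 23 := by
        decide
      have hcount := hcount q
      rw [hs, hcount] at hle
      norm_num at hle
    have e : twoW k = d0 + d0 - (Pi.single (pt 0) 8 : GolayPt → ℤ) := by
      funext p
      unfold twoW d0
      rw [hall p]
      simp only [Pi.add_apply, Pi.sub_apply, Pi.single_apply]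
      split_ifs <;> norm_num
    rw [e]
    exact M.sub_mem (M.add_mem d0_mem_M d0_mem_M) eight_mem

theorem d0_mod (p : GolayPt) : d0 p % 4 = 1 := by
  unfold d0
  split_ifs <;> norm_num

theorem sum_d0 : ∑ q, d0 q = 28 := by decide +kernel

theorem closure_eq : M = leechLattice := by
  apply le_antisymm M_le
  intro x hx
  obtain ⟨m, hm, k, hk, hres, hsum⟩ := (mem_leech_iff_res x).mp hx
  rw [Finset.mem_range] at hk
  have hm' : m = 0 ∨ m = 1 := by simpa using hm
  set y : GolayPt → ℤ := x - m • d0 - twoW k with hy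
  have hy4 : ∀ p, y p % 4 = 0 := by
    intro p
    have h1 := hres p
    have h2 := d0_mod p
    have e : y p = x p - m * d0 p - 2 * bitZ (cw k) (idx p) := by
      rw [hy]
      simp [twoW]
    rw [e]
    rcases hm' with rfl | rfl <;> rcases bitZ_cases (cw k) (idx p) with hb | hb <;> rw [hb] at h1 ⊢ <;> omega
  have hysum : ∑ p, y p = ∑ p, x p - m * 28 - 2 * (popc 24 (cw k) : ℤ) := by
    rw [hy]
    simp only [Pi.sub_apply, Pi.smul_apply, smul_eq_mul, Finset.sum_sub_distrib, ← Finset.mul_sum, sum_d0, sum_twoW]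
  have hyM : y ∈ M := by
    have e : y = fun p => 4 * (y p / 4) := by
      funext p
      have := hy4 p
      omega
    rw [e]
    apply four_mem
    have hsum4 : ∑ p, y p = 4 * ∑ p, y p / 4 := by
      rw [Finset.mul_sum]
      apply Finset.sum_congr rfl
      intro p _
      have := hy4 p
      omega
    have hw := cw_weights hk
    rcases hm' with rfl | rfl <;> omega
  have ex : x = y + m • d0 + twoW k := by
    rw [hy]
    abel
  rw [ex]
  exact M.add_mem (M.add_mem hyM (M.zsmul_mem d0_mem_M m)) (twoW_mem_M hk)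

end Cfsg.Agent.Helper22.MinGen
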