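import Mathlib
import Cfsg.Agent.Helper4.MinIdxDefs
import Cfsg.Agent.Helper12.SLPermChar

set_option autoImplicit false

/-! S2140 piece INDEX: the index of the line stabilizer `Gl v` in `SL_n(q)` is `1 + q + ... + q^(n-1)`. -/

namespace Cfsg.Agent.S2140P

open Matrix Cfsg.Agent.Helper12.TVG Cfsg.Agent.Helper12

namespace INDEX

variable {n : ℕ} {F : Type*} [Field F]

theorem mem_Gl_iff {v : Fin n → F} (hv : v ≠ 0) (g : SLn n F) :
    g ∈ Gl v ↔ ∃ c : F, (g : Matrix (Fin n) (Fin n) F) *ᵥ v = c • v := by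
  constructor
  · rintro ⟨c, hc, -, -⟩
    exact ⟨c, hc⟩
  · rintro ⟨c, hc⟩
    have hc0 : c ≠ 0 := by
      rintro rfl
      rw [zero_smul] at hc
      exact sl_mulVec_ne_zero g hv hc
    refine ⟨c, hc, ?_, hc0⟩
    have h1 := sl_inv_mulVec_mulVec g v
    rw [hc, Matrix.mulVec_smul] at h1
    conv_rhs => rw [← h1]
    rw [smul_smul, inv_mul_cancel₀ hc0, one_smul]

theorem card_nz [Fintype F] : Nat.card (NzVec n F) = Fintype.card F ^ n - 1 := by
  classical
  rw [Nat.card_eq_fintype_card]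
  have h1 : Fintype.card {x : Fin n → F // ¬ x = 0} =
      Fintype.card (Fin n → F) - Fintype.card {x : Fin n → F // x = 0} :=
    Fintype.card_subtype_compl _
  have h2 : Fintype.card (NzVec n F) = Fintype.card {x : Fin n → F // ¬ x = 0} :=
    Fintype.card_congr (Equiv.refl _)
  rw [h2, h1, Fintype.card_subtype_eq, Fintype.card_fun, Fintype.card_fin]

/-- the index of the stabilizer of the standard line -/
theorem index_lineStab [Fintype F] (hn : 2 ≤ n) (i0 i1 : Fin n) (h01 : i0 ≠ i1) :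
    (lineStab (F := F) i0).index = gsN (Fintype.card F) n := by
  classical
  have hq2 : 2 ≤ Fintype.card F := Fintype.one_lt_card
  haveI := nzVec_isPretransitive (F := F) hn
  have h1 := (lineStab (F := F) i0).card_mul_index
  have h2 := card_lineStab (F := F) i0 i1 h01
  have h3 := (MulAction.stabilizer (Matrix.SpecialLinearGroup (Fin n) F)
    (basePt (F := F) i0)).card_mul_index
  rw [MulAction.index_stabilizer_of_transitive, card_nz] at h3
  generalize Nat.card (MulAction.stabilizer (Matrix.SpecialLinearGroup (Fin n) F)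
    (basePt (F := F) i0)) = s at h2 h3
  have hspos : 0 < s := by
    rcases Nat.eq_zero_or_pos s with h0 | h0
    · exfalso
      rw [h0, zero_mul] at h3
      have : 0 < Nat.card (Matrix.SpecialLinearGroup (Fin n) F) := Nat.card_pos
      omega
    · exact h0
  rw [h2, ← h3] at h1
  generalize (lineStab (F := F) i0).index = x at h1 ⊢
  have hg := gsN_mul (Fintype.card F) n (by omega)
  generalize gsN (Fintype.card F) n = N at hg ⊢
  rw [← hg] at h1
  have h5 : s * ((Fintype.card F - 1) * x) = s * ((Fintype.card F - 1) * N) := by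
    rw [← h1]; ring
  have h6 := Nat.eq_of_mul_eq_mul_left hspos h5
  exact Nat.eq_of_mul_eq_mul_left (by omega) h6

end INDEX

variable {n : ℕ} {F : Type*} [Field F] [Fintype F]

theorem index_Gl (hn : 2 ≤ n) (v : Fin n → F) (hv : v ≠ 0) :
    (Gl v).index = gsN (Fintype.card F) n := by
  classical
  have h0 : (⟨0, by omega⟩ : Fin n) ≠ ⟨1, by omega⟩ := by
    intro h
    have := congrArg Fin.val h
    simp at this
  obtain ⟨g, hg⟩ := nzVec_exists_smul_eq (F := F) hn (basePt ⟨0, by omega⟩) ⟨v, hv⟩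
  have hgv : (g : Matrix (Fin n) (Fin n) F) *ᵥ stdVec ⟨0, by omega⟩ = v :=
    congrArg Subtype.val hg
  have hmap : Gl v = (lineStab (F := F) ⟨0, by omega⟩).map
      ((MulAut.conj g : SLn n F ≃* SLn n F) : SLn n F →* SLn n F) := by
    ext h
    rw [INDEX.mem_Gl_iff hv, Subgroup.mem_map]
    constructor
    · rintro ⟨c, hc⟩
      refine ⟨g⁻¹ * h * g, ⟨c, ?_⟩, ?_⟩
      · rw [Matrix.SpecialLinearGroup.coe_mul, Matrix.SpecialLinearGroup.coe_mul,
          ← Matrix.mulVec_mulVec, ← Matrix.mulVec_mulVec, hgv, hc, Matrix.mulVec_smul, ← hgv,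
          sl_inv_mulVec_mulVec]
      · show g * (g⁻¹ * h * g) * g⁻¹ = h
        group
    · rintro ⟨k, ⟨c, hc⟩, rfl⟩
      refine ⟨c, ?_⟩
      show ((g * k * g⁻¹ : SLn n F) : Matrix (Fin n) (Fin n) F) *ᵥ v = c • v
      rw [Matrix.SpecialLinearGroup.coe_mul, Matrix.SpecialLinearGroup.coe_mul,
        ← Matrix.mulVec_mulVec, ← Matrix.mulVec_mulVec]
      conv_lhs => rw [← hgv, sl_inv_mulVec_mulVec, hc, Matrix.mulVec_smul, hgv]
  rw [hmap, Subgroup.index_map_equiv]
  exact INDEX.index_lineStab hn _ _ h0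

end Cfsg.Agent.S2140P
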