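import Mathlib
import Cfsg.Agent.Helper4.MinIdxDefs
import Cfsg.Agent.Helper4.MinIdxCommon
import Cfsg.Agent.Helper12.CrossCharA

set_option autoImplicit false

/-! S2140 piece ORB: the index of the stabilizer of `ω` in the block `SL_m` is at most the number of
points fixed by `Qc e₀`.  (`e₀` is written out as `Pi.single 0 1`.) -/

namespace Cfsg.Agent.S2140P

open Matrix Cfsg.Agent.Helper12.TVG Cfsg.Agent.Helper12

namespace ORB

variable {m : ℕ} {F : Type*} [Field F]

/-- the block `SL_m` fixes `e₀` -/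
theorem blockSL_mulVec_e0 (g : SLn m F) :
    ((blockSL m F g : SLn (m + 1) F) : Matrix (Fin (m + 1)) (Fin (m + 1)) F) *ᵥ
      (Pi.single 0 1 : Fin (m + 1) → F) = Pi.single 0 1 := by
  show embMat (succE m F) (succE m F)ᵀ (g : Matrix (Fin m) (Fin m) F) *ᵥ _ = _
  unfold embMat
  rw [Matrix.add_mulVec, Matrix.one_mulVec, ← Matrix.mulVec_mulVec, succE_transpose_mulVec_single,
    Matrix.mulVec_zero, add_zero]

end ORB

variable {m : ℕ} {F : Type*} [Field F] [Fintype F]

theorem orbit_index_le {Ω : Type*} [MulAction (SLn (m + 1) F) Ω] [Finite Ω] (ω : Ω)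
    (hω : ∀ (φ : Fin (m + 1) → F) (h : φ ⬝ᵥ (Pi.single 0 1 : Fin (m + 1) → F) = 0),
      TS (Pi.single 0 1 : Fin (m + 1) → F) φ h • ω = ω) :
    ((MulAction.stabilizer (SLn (m + 1) F) ω).comap (blockSL m F)).index ≤
      Nat.card {ω' : Ω // ∀ (φ : Fin (m + 1) → F)
        (h : φ ⬝ᵥ (Pi.single 0 1 : Fin (m + 1) → F) = 0),
        TS (Pi.single 0 1 : Fin (m + 1) → F) φ h • ω' = ω'} := by
  classical
  letI : MulAction (SLn m F) Ω := MulAction.compHom Ω (blockSL m F)
  have hsmul : ∀ (g : SLn m F) (x : Ω), g • x = blockSL m F g • x := fun g x => rfl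
  have hstab : MulAction.stabilizer (SLn m F) ω =
      (MulAction.stabilizer (SLn (m + 1) F) ω).comap (blockSL m F) := by
    ext g
    rw [MulAction.mem_stabilizer_iff, Subgroup.mem_comap, MulAction.mem_stabilizer_iff, hsmul]
  rw [← hstab, MulAction.index_stabilizer, ← Nat.card_coe_set_eq]
  have hsub : MulAction.orbit (SLn m F) ω ⊆ {ω' : Ω | ∀ (φ : Fin (m + 1) → F)
      (h : φ ⬝ᵥ (Pi.single 0 1 : Fin (m + 1) → F) = 0),
      TS (Pi.single 0 1 : Fin (m + 1) → F) φ h • ω' = ω'} := by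
    rintro _ ⟨g, rfl⟩ φ h
    show TS (Pi.single 0 1 : Fin (m + 1) → F) φ h • (g • ω) = g • ω
    rw [hsmul]
    -- conjugate the transvection back
    have he : ((blockSL m F g⁻¹ : SLn (m + 1) F) : Matrix (Fin (m + 1)) (Fin (m + 1)) F) *ᵥ
        (Pi.single 0 1 : Fin (m + 1) → F) = Pi.single 0 1 := ORB.blockSL_mulVec_e0 g⁻¹
    have h' : (φ ᵥ* (((blockSL m F g⁻¹)⁻¹ : SLn (m + 1) F) :
        Matrix (Fin (m + 1)) (Fin (m + 1)) F)) ⬝ᵥ
        (((blockSL m F g⁻¹ : SLn (m + 1) F) : Matrix (Fin (m + 1)) (Fin (m + 1)) F) *ᵥ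
          (Pi.single 0 1 : Fin (m + 1) → F)) = 0 := by
      rw [dot_conj]
      exact h
    have hconj := conj_TS (blockSL m F g⁻¹) (Pi.single 0 1 : Fin (m + 1) → F) φ h h'
    have hfix : (blockSL m F g⁻¹ * TS (Pi.single 0 1 : Fin (m + 1) → F) φ h *
        (blockSL m F g⁻¹)⁻¹) • ω = ω := by
      rw [hconj]
      have key : ∀ (v : Fin (m + 1) → F) (hv : v = Pi.single 0 1) (ψ : Fin (m + 1) → F)
          (hψ : ψ ⬝ᵥ v = 0), TS v ψ hψ • ω = ω := by
        intro v hv ψ hψ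
        subst hv
        exact hω ψ hψ
      exact key _ he _ _
    have hinv : (blockSL m F g⁻¹)⁻¹ = blockSL m F g := by rw [← map_inv, inv_inv]
    rw [hinv, map_inv] at hfix
    calc TS (Pi.single 0 1 : Fin (m + 1) → F) φ h • blockSL m F g • ω
        = blockSL m F g • (((blockSL m F g)⁻¹ * TS (Pi.single 0 1 : Fin (m + 1) → F) φ h *
            blockSL m F g) • ω) := by
          rw [← mul_smul, ← mul_smul]
          congr 1
          group
      _ = blockSL m F g • ω := by rw [hfix]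
  calc Nat.card (MulAction.orbit (SLn m F) ω)
      ≤ Nat.card {ω' : Ω | ∀ (φ : Fin (m + 1) → F)
          (h : φ ⬝ᵥ (Pi.single 0 1 : Fin (m + 1) → F) = 0),
          TS (Pi.single 0 1 : Fin (m + 1) → F) φ h • ω' = ω'} :=
        Nat.card_mono (Set.toFinite _) hsub
    _ = _ := rfl

end Cfsg.Agent.S2140P
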