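import Mathlib
import Cfsg.Agent.Helper4.MinIdxDefs
import Cfsg.Agent.Helper4.ZasPerfectAux
import Cfsg.Agent.Lead.AISLPSL

set_option autoImplicit false

/-! S2140 piece SL2SMALL: for `q ≥ 4` proper subgroups of `SL_2(q)` have index at least 5. -/

namespace Cfsg.Agent.S2140P

namespace SL2SMALL

/-- A perfect group has no proper subgroup of index `1 ≤ k ≤ 4`. -/
theorem index_ge_five_of_perfect {G : Type*} [Group G] (hperf : commutator G = ⊤)
    (T : Subgroup G) (hT : T ≠ ⊤) (h0 : T.index ≠ 0) : 5 ≤ T.index := by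
  classical
  by_contra hlt
  push Not at hlt
  haveI : Finite (G ⧸ T) := by
    have : Nat.card (G ⧸ T) ≠ 0 := h0
    exact Nat.finite_of_card_ne_zero this
  haveI : Fintype (G ⧸ T) := Fintype.ofFinite _
  have hcard : Fintype.card (G ⧸ T) ≤ Fintype.card (Fin 4) := by
    rw [Fintype.card_fin, ← Nat.card_eq_fintype_card]
    have : Nat.card (G ⧸ T) = T.index := rfl
    omega
  obtain ⟨ι⟩ := Function.Embedding.nonempty_of_card_le hcard
  haveI := Cfsg.Agent.Helper5.Zas.Z10.solvable_perm_four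
  haveI hsol : Group.IsSolvable (Equiv.Perm (G ⧸ T)) :=
    solvable_of_solvable_injective (Equiv.Perm.viaEmbeddingHom_injective ι)
  -- the derived series of a perfect group is constant
  have hder : ∀ k : ℕ, derivedSeries G k = ⊤ := by
    intro k
    induction k with
    | zero => rfl
    | succ k ih => rw [derivedSeries_succ, ih, ← commutator_def, hperf]
  obtain ⟨k, hk⟩ := hsol.solvable
  let φ : G →* Equiv.Perm (G ⧸ T) := MulAction.toPermHom G (G ⧸ T)
  have hle := map_derivedSeries_le_derivedSeries φ k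
  rw [hder, hk, le_bot_iff] at hle
  apply hT
  rw [eq_top_iff]
  intro g _
  have h1 : φ g = 1 := by
    have : φ g ∈ Subgroup.map φ ⊤ := ⟨g, Subgroup.mem_top g, rfl⟩
    rw [hle] at this
    exact Subgroup.mem_bot.mp this
  have h2 : g • ((1 : G) : G ⧸ T) = ((1 : G) : G ⧸ T) := by
    have := congrArg (fun σ : Equiv.Perm (G ⧸ T) => σ ((1 : G) : G ⧸ T)) h1
    simpa [φ] using this
  have h3 : ((g * 1 : G) : G ⧸ T) = ((1 : G) : G ⧸ T) := h2
  rw [mul_one, QuotientGroup.eq, mul_one] at h3
  exact (Subgroup.inv_mem_iff T).mp h3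

end SL2SMALL

theorem sl2_small {F : Type*} [Field F] [Fintype F] (hq : 4 ≤ Fintype.card F)
    (T : Subgroup (SLn 2 F)) (hT : T ≠ ⊤) : 5 ≤ T.index := by
  classical
  apply SL2SMALL.index_ge_five_of_perfect (Cfsg.Agent.Lead.AI.sl2_commutator_eq_top hq) T hT
  exact Subgroup.index_ne_zero_of_finite

end Cfsg.Agent.S2140P
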