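import Cfsg.Agent.Helper22.Xi
import Cfsg.Agent.Helper22.Co0Center
import Cfsg.Agent.Helper22.LeechShapes
import Cfsg.Agent.Helper27.M24Trans

/-!
# Transitivity of the automorphism group of the rank-24 lattice on its minimal vectors
-/

set_option autoImplicit false

namespace Cfsg.Agent.Helper22.MinTrans

open Cfsg Cfsg.Agent.Helper27 Cfsg.Agent.Helper22.Co0Mono Cfsg.Agent.Helper22.CrossStab
  Cfsg.Agent.Helper22.Co0Center Cfsg.Agent.Helper22.LeechShapes Cfsg.Agent.Helper22.Xi
open scoped Pointwise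

/-! ### The shapes of the minimal vectors -/

/-- shape `(±4, ±4, 0^22)` -/
def ShapeA (v : GolayPt → ℤ) : Prop :=
  ∃ i j, i ≠ j ∧ (v i = 4 ∨ v i = -4) ∧ (v j = 4 ∨ v j = -4) ∧ ∀ p, p ≠ i → p ≠ j → v p = 0

/-- shape `(±2^8, 0^16)` -/
def ShapeB (v : GolayPt → ℤ) : Prop :=
  ∃ O ∈ octads, (∀ p ∈ O, v p = 2 ∨ v p = -2) ∧ ∀ p, p ∉ O → v p = 0

/-- shape `(∓3, ±1^23)` -/
def ShapeC (v : GolayPt → ℤ) : Prop :=
  ∃ i, (v i = 3 ∨ v i = -3) ∧ (∀ p, p ≠ i → v p = 1 ∨ v p = -1) ∧
    ∃ c ∈ supports (golayCode : Set (GolayPt → ZMod 2)), ∀ p, p ∈ c ↔ v p % 4 = 3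

theorem maskSet_cw_mem_supports (k : ℕ) (hk : k < 4096) :
    maskSet (cw k) ∈ supports (golayCode : Set (GolayPt → ZMod 2)) :=
  ⟨decW (cw k), (mem_golayCode_iff _).mpr ⟨k, hk, rfl⟩, rfl⟩

theorem mem_maskSet_iff_bitZ (n : ℕ) (p : GolayPt) : p ∈ maskSet n ↔ bitZ n (idx p) = 1 := by
  rw [mem_maskSet, bitZ]
  split_ifs with h <;> simp [h]

theorem min_shapes {v : GolayPt → ℤ} (hv : v ∈ leechLattice) (hn : sqNorm v = 32) :
    ShapeA v ∨ ShapeB v ∨ ShapeC v := by
  obtain ⟨m, hm, k, hk, hres, hsum⟩ := (mem_leech_iff_res v).mp hv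
  have hm' : m = 0 ∨ m = 1 := by simpa using hm
  have hk' := Finset.mem_range.mp hk
  rcases hm' with rfl | rfl
  · -- even vectors
    have hcl : InClass v 0 k := hres
    obtain ⟨hd1, hd2⟩ := even_defect hcl
    rw [hn] at hd2
    have hsum0 : 0 ≤ ∑ p, (v p ^ 2 - 4 * bitZ (cw k) (idx p)) := Finset.sum_nonneg (fun p _ => hd1 p)
    rcases cw_weights hk' with h | h | h | h | h
    · -- weight 0: shape A
      left
      have hb0 : ∀ p, bitZ (cw k) (idx p) = 0 := by
        have := sum_bitZ (cw k)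
        rw [h] at this
        have hz := (Finset.sum_eq_zero_iff_of_nonneg (fun p _ => bit_nonneg (cw k) (idx p))).mp
          (by rw [this]; norm_num)
        exact fun p => hz p (Finset.mem_univ p)
      have hv4 : ∀ p, v p = 0 ∨ v p = 4 ∨ v p = -4 := by
        intro p
        have h1 := hres p
        rw [hb0 p] at h1
        have h2 := sq_le_sqNorm v p
        rw [hn] at h2
        have hbd : -6 ≤ v p ∧ v p ≤ 6 := int_bound h2 (by norm_num)
        omega
      have hsq : ∀ p, v p ^ 2 = if v p ≠ 0 then 16 else 0 := by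
        intro p
        rcases hv4 p with h0 | h0 | h0 <;> rw [h0] <;> norm_num
      have hcard : (Finset.univ.filter (fun p => v p ≠ 0)).card = 2 := by
        have h1 : sqNorm v = ∑ p, (if v p ≠ 0 then (16 : ℤ) else 0) := Finset.sum_congr rfl (fun p _ => hsq p)
        rw [hn, Finset.sum_ite, Finset.sum_const, Finset.sum_const_zero, add_zero, nsmul_eq_mul] at h1
        omega
      obtain ⟨i, j, hij, he⟩ := Finset.card_eq_two.mp hcard
      have hi : v i ≠ 0 := by
        have : i ∈ Finset.univ.filter (fun p => v p ≠ 0) := by rw [he]; simp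
        exact (Finset.mem_filter.mp this).2
      have hj : v j ≠ 0 := by
        have : j ∈ Finset.univ.filter (fun p => v p ≠ 0) := by rw [he]; simp
        exact (Finset.mem_filter.mp this).2
      refine ⟨i, j, hij, ?_, ?_, ?_⟩
      · rcases hv4 i with h0 | h0 | h0
        · exact absurd h0 hi
        · exact Or.inl h0
        · exact Or.inr h0
      · rcases hv4 j with h0 | h0 | h0
        · exact absurd h0 hj
        · exact Or.inl h0
        · exact Or.inr h0
      · intro p hpi hpj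
        by_contra hp
        have : p ∈ Finset.univ.filter (fun p => v p ≠ 0) := Finset.mem_filter.mpr ⟨Finset.mem_univ p, hp⟩
        rw [he, Finset.mem_insert, Finset.mem_singleton] at this
        rcases this with h0 | h0
        · exact hpi h0
        · exact hpj h0
    · -- weight 8: shape B
      right; left
      rw [h] at hd2
      have hz := (Finset.sum_eq_zero_iff_of_nonneg (fun p _ => hd1 p)).mp (by rw [hd2]; norm_num)
      have hoct : maskSet (cw k) ∈ octads := by
        apply maskSet_mem_octads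
        simp only [isOct, Bool.and_eq_true, beq_iff_eq, Nat.blt_eq]
        exact ⟨⟨by have := cw_lt k; norm_num at this ⊢; exact this, by rw [cw_mod hk']⟩, h⟩
      refine ⟨maskSet (cw k), hoct, ?_, ?_⟩
      · intro p hp
        have h1 := hz p (Finset.mem_univ p)
        rw [(mem_maskSet_iff_bitZ _ _).mp hp] at h1
        rcases L2 (Or.inr rfl) (show v p ^ 2 = 4 * 1 by omega) with h0 | h0 | h0
        · rw [h0] at h1; norm_num at h1
        · exact Or.inl h0
        · exact Or.inr h0
      · intro p hp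
        have h1 := hz p (Finset.mem_univ p)
        have hb : bitZ (cw k) (idx p) = 0 := by
          rcases bitZ_cases (cw k) (idx p) with h0 | h0
          · exact h0
          · exact absurd ((mem_maskSet_iff_bitZ _ _).mpr h0) hp
        rw [hb] at h1
        have : v p ^ 2 = 0 := by omega
        exact pow_eq_zero_iff (by norm_num) |>.mp this
    · rw [h] at hd2; omega
    · rw [h] at hd2; omega
    · rw [h] at hd2; omega
  · -- odd vectors
    right; right
    have hodd0 : v none % 2 = 1 := by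
      have h1 := hres none
      have hb := bitZ_cases (cw k) (idx none)
      omega
    have hmem : v ∈ oddSet 32 := mem_oddSet hv (by rw [hn]; rfl) hodd0
    have hodd := odd_of_mem hmem
    rw [← set32_eq] at hmem
    obtain ⟨-, -, i, hi⟩ := hmem
    obtain ⟨h0, hrest⟩ := shape_of hodd (by norm_num) hi (by rw [hn]; norm_num)
    refine ⟨i, h0, hrest, maskSet (cw k), maskSet_cw_mem_supports k hk', ?_⟩
    intro p
    rw [mem_maskSet_iff_bitZ]
    have h1 := hres p
    have hb := bitZ_cases (cw k) (idx p)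
    omega


/-! ### The action of the monomial elements -/

theorem piCo_apply (σ : Equiv.Perm GolayPt) (hσ : σ ∈ M24) (v : ↥leechLattice) (q : GolayPt) :
    ((piCo σ hσ • v : ↥leechLattice) : GolayPt → ℤ) q = (v : GolayPt → ℤ) (σ.symm q) := by
  rw [piCo_smul]
  simp [signedPerm]

theorem epsCo_apply (u : GolayPt → ZMod 2) (hu : u ∈ golayCode) (v : ↥leechLattice) (q : GolayPt) :
    ((epsCo u hu • v : ↥leechLattice) : GolayPt → ℤ) q =
      if q ∈ support₂ u then -(v : GolayPt → ℤ) q else (v : GolayPt → ℤ) q := by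
  rw [epsCo_smul]
  rfl

/-- the reference minimal vector `(4, 4, 0^22)` -/
def v0 : ↥leechLattice :=
  ⟨fun q => if q = pt 0 ∨ q = pt 1 then 4 else 0, by
    have h : (fun q : GolayPt => if q = pt 0 ∨ q = pt 1 then (4 : ℤ) else 0) =
        Pi.single (pt 0) 4 + Pi.single (pt 1) 4 := by
      funext q
      by_cases h0 : q = pt 0
      · subst h0
        simp [show pt 0 ≠ pt 1 from by decide]
      · by_cases h1 : q = pt 1
        · subst h1
          simp [show pt 1 ≠ pt 0 from by decide]
        · simp [h0, h1]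
    rw [h, mem_leechLattice_iff]
    refine ⟨0, Pi.single (pt 0) 2 + Pi.single (pt 1) 2, ?_, ?_, ?_⟩
    · intro i
      simp only [Pi.add_apply, Pi.single_apply]
      split_ifs <;> norm_num
    · simp only [Pi.add_apply, Finset.sum_add_distrib, Finset.sum_pi_single', Finset.mem_univ, if_true]
      decide
    · have : redW (Pi.single (pt 0) 2 + Pi.single (pt 1) 2) = 0 := by
        funext i
        simp only [redW, Pi.add_apply, Pi.single_apply, Pi.zero_apply]
        rw [ZMod.intCast_zmod_eq_zero_iff_dvd]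
        split_ifs <;> norm_num
      rw [this]
      exact golayCode.zero_mem⟩

theorem v0_apply (q : GolayPt) : (v0 : GolayPt → ℤ) q = if q = pt 0 ∨ q = pt 1 then 4 else 0 := rfl

/-- a codeword with prescribed membership of the first two points -/
theorem exists_signs (A B : Prop) : ∃ u ∈ golayCode, (pt 0 ∈ support₂ u ↔ A) ∧ (pt 1 ∈ support₂ u ↔ B) := by
  have h01 : pt 0 ≠ pt 1 := by decide
  by_cases hA : A <;> by_cases hB : B
  · exact ⟨1, one_mem_golayCode, by simp [support₂_one, hA], by simp [support₂_one, hB]⟩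
  · obtain ⟨u, hu, h1, h2⟩ := exists_sep (i := pt 1) (j := pt 0) (Ne.symm h01)
    exact ⟨u, hu, by simp [h1, hA], by simp [h2, hB]⟩
  · obtain ⟨u, hu, h1, h2⟩ := exists_sep (i := pt 0) (j := pt 1) h01
    exact ⟨u, hu, by simp [h2, hA], by simp [h1, hB]⟩
  · exact ⟨0, golayCode.zero_mem, by simp [support₂_zero, hA], by simp [support₂_zero, hB]⟩

/-- vectors of shape `(±4, ±4, 0^22)` are equivalent to the reference vector -/
theorem shapeA_to_v0 (v : ↥leechLattice) (h : ShapeA v) : ∃ g : ↥Co0, g • v = v0 := by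
  obtain ⟨i, j, hij, hi, hj, hrest⟩ := h
  have h01 : pt 0 ≠ pt 1 := by decide
  have h2 := M24_isMultiplyPretransitive_of_le (k := 2) (by norm_num)
  rw [MulAction.is_two_pretransitive_iff] at h2
  obtain ⟨τ, hτi, hτj⟩ := h2 hij h01
  have hτi' : τ.1 i = pt 0 := hτi
  have hτj' : τ.1 j = pt 1 := hτj
  have hsi : τ.1.symm (pt 0) = i := by rw [Equiv.symm_apply_eq, hτi']
  have hsj : τ.1.symm (pt 1) = j := by rw [Equiv.symm_apply_eq, hτj']
  obtain ⟨u, hu, hu0, hu1⟩ := exists_signs ((v : GolayPt → ℤ) i = -4) ((v : GolayPt → ℤ) j = -4)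
  refine ⟨epsCo u hu * piCo τ.1 τ.2, ?_⟩
  apply Subtype.ext
  funext q
  rw [mul_smul, epsCo_apply, piCo_apply, v0_apply]
  by_cases h0 : q = pt 0
  · subst h0
    rw [hsi, if_pos (Or.inl rfl)]
    by_cases hneg : (v : GolayPt → ℤ) i = -4
    · rw [if_pos (hu0.mpr hneg), hneg]; norm_num
    · rw [if_neg (fun h => hneg (hu0.mp h))]
      rcases hi with h4 | h4
      · exact h4
      · exact absurd h4 hneg
  · by_cases h1 : q = pt 1
    · subst h1
      rw [hsj, if_pos (Or.inr rfl)]
      by_cases hneg : (v : GolayPt → ℤ) j = -4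
      · rw [if_pos (hu1.mpr hneg), hneg]; norm_num
      · rw [if_neg (fun h => hneg (hu1.mp h))]
        rcases hj with h4 | h4
        · exact h4
        · exact absurd h4 hneg
    · have hz : (v : GolayPt → ℤ) (τ.1.symm q) = 0 := by
        apply hrest
        · intro h
          apply h0
          rw [← hτi', ← h, Equiv.apply_symm_apply]
        · intro h
          apply h1
          rw [← hτj', ← h, Equiv.apply_symm_apply]
      rw [hz, if_neg (show ¬(q = pt 0 ∨ q = pt 1) by tauto)]
      simp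


/-! ### Reduction of the other shapes -/

theorem inj5 {α : Type*} (a b c e f : α) (hab : a ≠ b) (hac : a ≠ c) (hae : a ≠ e) (haf : a ≠ f)
    (hbc : b ≠ c) (hbe : b ≠ e) (hbf : b ≠ f) (hce : c ≠ e) (hcf : c ≠ f) (hef : e ≠ f) :
    Function.Injective ![a, b, c, e, f] := by
  intro i j hij
  fin_cases i <;> fin_cases j <;>
    first
    | rfl
    | exact absurd hij hab | exact absurd hij.symm hab
    | exact absurd hij hac | exact absurd hij.symm hac
    | exact absurd hij hae | exact absurd hij.symm hae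
    | exact absurd hij haf | exact absurd hij.symm haf
    | exact absurd hij hbc | exact absurd hij.symm hbc
    | exact absurd hij hbe | exact absurd hij.symm hbe
    | exact absurd hij hbf | exact absurd hij.symm hbf
    | exact absurd hij hce | exact absurd hij.symm hce
    | exact absurd hij hcf | exact absurd hij.symm hcf
    | exact absurd hij hef | exact absurd hij.symm hef

theorem fib_zero : fib 0 = {pt 0, pt 1, pt 2, pt 3} := by decide

theorem S_zero (x : GolayPt → ℤ) : S x 0 = x (pt 0) + x (pt 1) + x (pt 2) + x (pt 3) := by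
  unfold S
  rw [fib_zero, Finset.sum_insert (by decide), Finset.sum_insert (by decide), Finset.sum_insert (by decide),
    Finset.sum_singleton]
  ring

theorem xi_pt0 (x : GolayPt → ℤ) : xi x (pt 0) = x (pt 0) - (x (pt 0) + x (pt 1) + x (pt 2) + x (pt 3)) / 2 := by
  have h0 : tet (pt 0) = 0 := by decide
  unfold xi hf
  rw [h0, S_zero]
  simp only [sg, if_true]
  ring

/-- a minimal vector with a coordinate of absolute value 4 has shape `(±4, ±4, 0^22)` -/
theorem shapeA_of_four {v : GolayPt → ℤ} (hv : v ∈ leechLattice) (hn : sqNorm v = 32) {p : GolayPt}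
    (hp : v p = 4 ∨ v p = -4) : ShapeA v := by
  rcases min_shapes hv hn with h | ⟨O, -, h1, h2⟩ | ⟨i, h1, h2, -⟩
  · exact h
  · exfalso
    by_cases hpO : p ∈ O
    · rcases h1 p hpO with h | h <;> rcases hp with h' | h' <;> omega
    · have := h2 p hpO
      rcases hp with h' | h' <;> omega
  · exfalso
    by_cases hpi : p = i
    · subst hpi
      rcases h1 with h | h <;> rcases hp with h' | h' <;> omega
    · rcases h2 p hpi with h | h <;> rcases hp with h' | h' <;> omega

/-- vectors of shape `(±2^8, 0^16)` with both signs occurring -/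
theorem shapeB_step (v : ↥leechLattice) (hn : sqNorm (v : GolayPt → ℤ) = 32) (O : Finset GolayPt)
    (hO : O ∈ octads) (h1 : ∀ p ∈ O, (v : GolayPt → ℤ) p = 2 ∨ (v : GolayPt → ℤ) p = -2)
    (hpos : ∃ p ∈ O, (v : GolayPt → ℤ) p = 2) (hneg : ∃ p ∈ O, (v : GolayPt → ℤ) p = -2) :
    ∃ g : ↥Co0, ShapeA ((g • v : ↥leechLattice) : GolayPt → ℤ) := by
  classical
  -- a sign occurring at least three times, and a point with the other sign
  have hex : ∃ s : ℤ, (s = 2 ∨ s = -2) ∧ ∃ t0 ∈ O, ∃ t1 ∈ O, ∃ t2 ∈ O, ∃ t3 ∈ O,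
      t1 ≠ t2 ∧ t1 ≠ t3 ∧ t2 ≠ t3 ∧ (v : GolayPt → ℤ) t0 = -s ∧ (v : GolayPt → ℤ) t1 = s ∧
        (v : GolayPt → ℤ) t2 = s ∧ (v : GolayPt → ℤ) t3 = s := by
    have hsplit : (O.filter (fun p => (v : GolayPt → ℤ) p = 2)).card +
        (O.filter (fun p => (v : GolayPt → ℤ) p = -2)).card = 8 := by
      rw [← hO.2, ← Finset.card_union_of_disjoint]
      · congr 1
        ext p
        simp only [Finset.mem_union, Finset.mem_filter]
        constructor
        · rintro (h | h) <;> exact h.1
        · intro hp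
          rcases h1 p hp with h | h
          · exact Or.inl ⟨hp, h⟩
          · exact Or.inr ⟨hp, h⟩
      · rw [Finset.disjoint_left]
        intro p hp hp'
        rw [Finset.mem_filter] at hp hp'
        omega
    by_cases hc : 2 < (O.filter (fun p => (v : GolayPt → ℤ) p = 2)).card
    · obtain ⟨t1, ht1, t2, ht2, t3, ht3, h12, h13, h23⟩ := Finset.two_lt_card.mp hc
      rw [Finset.mem_filter] at ht1 ht2 ht3
      obtain ⟨t0, ht0, hv0⟩ := hneg
      exact ⟨2, Or.inl rfl, t0, ht0, t1, ht1.1, t2, ht2.1, t3, ht3.1, h12, h13, h23, hv0, ht1.2, ht2.2, ht3.2⟩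
    · have hc' : 2 < (O.filter (fun p => (v : GolayPt → ℤ) p = -2)).card := by omega
      obtain ⟨t1, ht1, t2, ht2, t3, ht3, h12, h13, h23⟩ := Finset.two_lt_card.mp hc'
      rw [Finset.mem_filter] at ht1 ht2 ht3
      obtain ⟨t0, ht0, hv0⟩ := hpos
      exact ⟨-2, Or.inr rfl, t0, ht0, t1, ht1.1, t2, ht2.1, t3, ht3.1, h12, h13, h23, by rw [hv0]; norm_num,
        ht1.2, ht2.2, ht3.2⟩
  obtain ⟨s, hs, t0, ht0, t1, ht1, t2, ht2, t3, ht3, h12, h13, h23, hv0, hv1, hv2, hv3⟩ := hex
  have h01 : t0 ≠ t1 := by intro h; rw [h, hv1] at hv0; rcases hs with rfl | rfl <;> omega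
  have h02 : t0 ≠ t2 := by intro h; rw [h, hv2] at hv0; rcases hs with rfl | rfl <;> omega
  have h03 : t0 ≠ t3 := by intro h; rw [h, hv3] at hv0; rcases hs with rfl | rfl <;> omega
  -- a fifth point (any point different from the four)
  obtain ⟨r, -, hr⟩ := Finset.exists_mem_notMem_of_card_lt_card
    (s := ({t0, t1, t2, t3} : Finset GolayPt)) (t := O) (by
      rw [hO.2]
      exact lt_of_le_of_lt Finset.card_le_four (by norm_num))
  simp only [Finset.mem_insert, Finset.mem_singleton, not_or] at hr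
  obtain ⟨hr0, hr1, hr2, hr3⟩ := hr
  have hx : Function.Injective ![t0, t1, t2, t3, r] :=
    inj5 t0 t1 t2 t3 r h01 h02 h03 (Ne.symm hr0) h12 h13 (Ne.symm hr1) h23 (Ne.symm hr2) (Ne.symm hr3)
  have hy : Function.Injective ![pt 0, pt 1, pt 2, pt 3, pt 4] := by decide
  obtain ⟨π, hπ, hπx⟩ := exists_M24_map_five _ _ hx hy
  have e0 : π.symm (pt 0) = t0 := by rw [Equiv.symm_apply_eq]; exact (hπx 0).symm
  have e1 : π.symm (pt 1) = t1 := by rw [Equiv.symm_apply_eq]; exact (hπx 1).symm
  have e2 : π.symm (pt 2) = t2 := by rw [Equiv.symm_apply_eq]; exact (hπx 2).symm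
  have e3 : π.symm (pt 3) = t3 := by rw [Equiv.symm_apply_eq]; exact (hπx 3).symm
  refine ⟨xiCo * piCo π hπ, ?_⟩
  rw [mul_smul]
  apply shapeA_of_four (p := pt 0) (xiCo • (piCo π hπ • v)).2
  · rw [co0_norm, co0_norm, hn]
  · rw [xiCo_smul, xi_pt0, piCo_apply, piCo_apply, piCo_apply, piCo_apply, e0, e1, e2, e3, hv0, hv1, hv2, hv3]
    rcases hs with rfl | rfl <;> norm_num


/-- vectors of shape `(±2^8, 0^16)` -/
theorem shapeB_to_A (v : ↥leechLattice) (hn : sqNorm (v : GolayPt → ℤ) = 32) (h : ShapeB v) :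
    ∃ g : ↥Co0, ShapeA ((g • v : ↥leechLattice) : GolayPt → ℤ) := by
  obtain ⟨O, hO, h1, -⟩ := h
  by_cases hboth : (∃ p ∈ O, (v : GolayPt → ℤ) p = 2) ∧ (∃ p ∈ O, (v : GolayPt → ℤ) p = -2)
  · exact shapeB_step v hn O hO h1 hboth.1 hboth.2
  · -- change the sign at one of two points of the octad
    have h2 : 1 < O.card := by rw [hO.2]; norm_num
    obtain ⟨a, ha, b, hb, hab⟩ := Finset.one_lt_card.mp h2
    obtain ⟨u, hu, hub, hua⟩ := exists_sep hab
    have hva : (v : GolayPt → ℤ) a = (v : GolayPt → ℤ) b := by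
      rcases h1 a ha with h | h <;> rcases h1 b hb with h' | h'
      · rw [h, h']
      · exact absurd ⟨⟨a, ha, h⟩, ⟨b, hb, h'⟩⟩ hboth
      · exact absurd ⟨⟨b, hb, h'⟩, ⟨a, ha, h⟩⟩ hboth
      · rw [h, h']
    have h1' : ∀ p ∈ O, ((epsCo u hu • v : ↥leechLattice) : GolayPt → ℤ) p = 2 ∨
        ((epsCo u hu • v : ↥leechLattice) : GolayPt → ℤ) p = -2 := by
      intro p hp
      rw [epsCo_apply]
      split_ifs <;> rcases h1 p hp with h | h <;> rw [h] <;> norm_num
    have ea : ((epsCo u hu • v : ↥leechLattice) : GolayPt → ℤ) a = (v : GolayPt → ℤ) a := by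
      rw [epsCo_apply, if_neg hua]
    have eb : ((epsCo u hu • v : ↥leechLattice) : GolayPt → ℤ) b = -(v : GolayPt → ℤ) a := by
      rw [epsCo_apply, if_pos hub, hva]
    obtain ⟨g, hg⟩ := shapeB_step (epsCo u hu • v) (by rw [co0_norm, hn]) O hO h1'
      (by
        rcases h1 a ha with h | h
        · exact ⟨a, ha, by rw [ea, h]⟩
        · exact ⟨b, hb, by rw [eb, h]; norm_num⟩)
      (by
        rcases h1 a ha with h | h
        · exact ⟨b, hb, by rw [eb, h]⟩
        · exact ⟨a, ha, by rw [ea, h]⟩)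
    exact ⟨g * epsCo u hu, by rw [mul_smul]; exact hg⟩

/-- a codeword meeting the first tetrad exactly in the second point -/
def u1 : GolayPt → ZMod 2 := decW (cw 2)

theorem u1_mem : u1 ∈ golayCode := (mem_golayCode_iff _).mpr ⟨2, by norm_num, rfl⟩

theorem u1_supp : pt 0 ∉ support₂ u1 ∧ pt 1 ∈ support₂ u1 ∧ pt 2 ∉ support₂ u1 ∧ pt 3 ∉ support₂ u1 := by
  simp only [u1, mem_support_decW]
  decide +kernel

/-- vectors of shape `(∓3, ±1^23)` are equivalent to vectors with an even coordinate -/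
theorem shapeC_step (v : ↥leechLattice) (h : ShapeC v) :
    ∃ g : ↥Co0, ((g • v : ↥leechLattice) : GolayPt → ℤ) (pt 0) = -2 := by
  obtain ⟨i, h3, hrest, c, ⟨u, hu, rfl⟩, hmem⟩ := h
  have := M24_isPretransitive
  obtain ⟨τ, hτ⟩ := MulAction.exists_smul_eq (↥M24) i (pt 0)
  have hτ' : τ.1 i = pt 0 := hτ
  have hsymm : ∀ q, τ.1.symm q = i ↔ q = pt 0 := by
    intro q
    rw [Equiv.symm_apply_eq, hτ']
  -- after the sign change all coordinates are congruent to 1 modulo 4
  have hv' : ∀ p, ((epsCo u hu • v : ↥leechLattice) : GolayPt → ℤ) p = if p = i then -3 else 1 := by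
    intro p
    rw [epsCo_apply]
    by_cases hp : p = i
    · subst hp
      rw [if_pos rfl]
      rcases h3 with h | h
      · rw [if_pos ((hmem p).mpr (by rw [h]; norm_num)), h]
      · rw [if_neg (fun hc => by have := (hmem p).mp hc; rw [h] at this; norm_num at this), h]
    · rw [if_neg hp]
      rcases hrest p hp with h | h
      · rw [if_neg (fun hc => by have := (hmem p).mp hc; rw [h] at this; norm_num at this), h]
      · rw [if_pos ((hmem p).mpr (by rw [h]; norm_num)), h]; norm_num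
  have hw : ∀ q, ((piCo τ.1 τ.2 • (epsCo u hu • v) : ↥leechLattice) : GolayPt → ℤ) q =
      if q = pt 0 then -3 else 1 := by
    intro q
    rw [piCo_apply, hv']
    by_cases hq : q = pt 0
    · rw [if_pos ((hsymm q).mpr hq), if_pos hq]
    · rw [if_neg (fun hc => hq ((hsymm q).mp hc)), if_neg hq]
  refine ⟨xiCo * epsCo u1 u1_mem * piCo τ.1 τ.2 * epsCo u hu, ?_⟩
  rw [mul_smul, mul_smul, mul_smul, xiCo_smul, xi_pt0]
  obtain ⟨s0, s1, s2, s3⟩ := u1_supp
  rw [epsCo_apply, epsCo_apply, epsCo_apply, epsCo_apply, if_neg s0, if_pos s1, if_neg s2, if_neg s3,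
    hw, hw, hw, hw]
  rw [if_pos rfl, if_neg (by decide), if_neg (by decide), if_neg (by decide)]
  norm_num

/-- every minimal vector is equivalent to the reference vector -/
theorem min_to_v0 (v : ↥leechLattice) (hn : sqNorm (v : GolayPt → ℤ) = 32) : ∃ g : ↥Co0, g • v = v0 := by
  have key : ∀ w : ↥leechLattice, sqNorm (w : GolayPt → ℤ) = 32 →
      ShapeA (w : GolayPt → ℤ) ∨ ShapeB (w : GolayPt → ℤ) → ∃ g : ↥Co0, g • w = v0 := by
    intro w hw h
    rcases h with h | h
    · exact shapeA_to_v0 w h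
    · obtain ⟨g1, hg1⟩ := shapeB_to_A w hw h
      obtain ⟨g2, hg2⟩ := shapeA_to_v0 (g1 • w) hg1
      exact ⟨g2 * g1, by rw [mul_smul, hg2]⟩
  rcases min_shapes v.2 hn with h | h | h
  · exact key v hn (Or.inl h)
  · exact key v hn (Or.inr h)
  · obtain ⟨g1, hg1⟩ := shapeC_step v h
    have hn1 : sqNorm ((g1 • v : ↥leechLattice) : GolayPt → ℤ) = 32 := by rw [co0_norm, hn]
    have hAB : ShapeA ((g1 • v : ↥leechLattice) : GolayPt → ℤ) ∨ ShapeB ((g1 • v : ↥leechLattice) : GolayPt → ℤ) := by
      rcases min_shapes (g1 • v).2 hn1 with h' | h' | ⟨j, hj3, hjrest, -⟩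
      · exact Or.inl h'
      · exact Or.inr h'
      · exfalso
        by_cases hj : pt 0 = j
        · subst hj
          rcases hj3 with h'' | h'' <;> omega
        · rcases hjrest (pt 0) hj with h'' | h'' <;> omega
    obtain ⟨g2, hg2⟩ := key (g1 • v) hn1 hAB
    exact ⟨g2 * g1, by rw [mul_smul, hg2]⟩

/-- the automorphism group is transitive on the minimal vectors -/
theorem min_transitive (v w : ↥leechLattice) (hv : sqNorm (v : GolayPt → ℤ) = 32)
    (hw : sqNorm (w : GolayPt → ℤ) = 32) : ∃ g : ↥Co0, g • v = w := by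
  obtain ⟨g1, hg1⟩ := min_to_v0 v hv
  obtain ⟨g2, hg2⟩ := min_to_v0 w hw
  refine ⟨g2⁻¹ * g1, ?_⟩
  rw [mul_smul, hg1, ← hg2, inv_smul_smul]

end Cfsg.Agent.Helper22.MinTrans
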