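import Cfsg.Agent.Helper22.MinTrans

/-!
# Transitivity of the automorphism group of the rank-24 lattice on its vectors of sum of squares 48
-/

set_option autoImplicit false

namespace Cfsg.Agent.Helper22.Norm6Trans

open Cfsg Cfsg.Agent.Helper27 Cfsg.Agent.Helper22.Co0Mono Cfsg.Agent.Helper22.CrossStab
  Cfsg.Agent.Helper22.Co0Center Cfsg.Agent.Helper22.LeechShapes Cfsg.Agent.Helper22.Xi
  Cfsg.Agent.Helper22.MinTrans
open scoped Pointwise

/-- the reference shape `(5, 1^23)` -/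
def d0 : GolayPt → ℤ := fun q => if q = pt 0 then 5 else 1

/-- the sign pattern of an odd lattice vector is a codeword -/
theorem odd_signs {x : GolayPt → ℤ} (hx : x ∈ leechLattice) {i : GolayPt} (hi : x i % 2 = 1) :
    ∃ u ∈ golayCode, ∀ p, p ∈ support₂ u ↔ x p % 4 = 3 := by
  obtain ⟨m, hm, k, hk, hres, hsum⟩ := (mem_leech_iff_res x).mp hx
  have hm' : m = 0 ∨ m = 1 := by simpa using hm
  have hk' := Finset.mem_range.mp hk
  have hm1 : m = 1 := by
    have h1 := hres i
    have hb := bitZ_cases (cw k) (idx i)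
    omega
  subst hm1
  obtain ⟨u, hu, hsupp⟩ := maskSet_cw_mem_supports k hk'
  refine ⟨u, hu, fun p => ?_⟩
  rw [hsupp, mem_maskSet_iff_bitZ]
  have h1 := hres p
  have hb := bitZ_cases (cw k) (idx p)
  omega

/-- sign changes making all coordinates of an odd vector congruent to `1` modulo `4` -/
theorem exists_normalize (v : ↥leechLattice) {i : GolayPt} (hi : (v : GolayPt → ℤ) i % 2 = 1) :
    ∃ g : ↥Co0, ∀ p, ((g • v : ↥leechLattice) : GolayPt → ℤ) p =
      if (v : GolayPt → ℤ) p % 4 = 3 then -(v : GolayPt → ℤ) p else (v : GolayPt → ℤ) p := by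
  obtain ⟨u, hu, hmem⟩ := odd_signs v.2 hi
  refine ⟨epsCo u hu, fun p => ?_⟩
  rw [epsCo_apply]
  by_cases h : (v : GolayPt → ℤ) p % 4 = 3
  · rw [if_pos ((hmem p).mpr h), if_pos h]
  · rw [if_neg (fun hc => h ((hmem p).mp hc)), if_neg h]

/-- vectors of shape `(±5, ±1^23)` -/
theorem setD_to_d0 (v : ↥leechLattice) (h : (v : GolayPt → ℤ) ∈ setD) :
    ∃ g : ↥Co0, ((g • v : ↥leechLattice) : GolayPt → ℤ) = d0 := by
  obtain ⟨i, h5, hrest⟩ := shapeD h
  have hodd : (v : GolayPt → ℤ) i % 2 = 1 := by rcases h5 with h | h <;> rw [h] <;> norm_num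
  obtain ⟨g1, hg1⟩ := exists_normalize v hodd
  have := M24_isPretransitive
  obtain ⟨τ, hτ⟩ := MulAction.exists_smul_eq (↥M24) i (pt 0)
  have hτ' : τ.1 i = pt 0 := hτ
  have hsymm : ∀ q, τ.1.symm q = i ↔ q = pt 0 := by
    intro q
    rw [Equiv.symm_apply_eq, hτ']
  refine ⟨piCo τ.1 τ.2 * g1, ?_⟩
  funext q
  rw [mul_smul, piCo_apply, hg1]
  unfold d0
  by_cases hq : q = pt 0
  · rw [(hsymm q).mpr hq, if_pos hq]
    rcases h5 with h | h <;> rw [h] <;> norm_num
  · have hne : τ.1.symm q ≠ i := fun hc => hq ((hsymm q).mp hc)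
    rw [if_neg hq]
    rcases hrest _ hne with h | h <;> rw [h] <;> norm_num

theorem xi_tet0 (x : GolayPt → ℤ) (p : GolayPt) (hp : tet p = 0) :
    xi x p = x p - (x (pt 0) + x (pt 1) + x (pt 2) + x (pt 3)) / 2 := by
  unfold xi hf
  rw [hp, S_zero]
  simp only [sg, if_true]
  ring

theorem negCo_apply (v : ↥leechLattice) (q : GolayPt) :
    ((negCo • v : ↥leechLattice) : GolayPt → ℤ) q = -(v : GolayPt → ℤ) q := by
  rw [negCo_smul]
  rfl

/-- vectors of shape `(±3^3, ±1^21)` -/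
theorem setB_to_D (v : ↥leechLattice) (h : (v : GolayPt → ℤ) ∈ setB) :
    ∃ g : ↥Co0, ((g • v : ↥leechLattice) : GolayPt → ℤ) ∈ setD := by
  classical
  obtain ⟨hx, hn, i, j, k, hij, hjk, hik, hi, hj, hk⟩ := h
  have hodd := odd_of_mem (mem_oddSet (n := 48) hx (by rw [hn]; rfl) (abs_odd (by norm_num) hi))
  have e1 : (v : GolayPt → ℤ) i ^ 2 = 9 := by rw [← sq_abs, hi]; norm_num
  have e2 : (v : GolayPt → ℤ) j ^ 2 = 9 := by rw [← sq_abs, hj]; norm_num
  have e3 : (v : GolayPt → ℤ) k ^ 2 = 9 := by rw [← sq_abs, hk]; norm_num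
  -- the other coordinates are `±1`
  have hothers : ∀ l, l ≠ i → l ≠ j → l ≠ k → (v : GolayPt → ℤ) l = 1 ∨ (v : GolayPt → ℤ) l = -1 := by
    intro l hli hlj hlk
    have hs := sum_sq_sub_one (v : GolayPt → ℤ)
    rw [hn] at hs
    have hsub : ∑ p ∈ ({i, j, k, l} : Finset GolayPt), ((v : GolayPt → ℤ) p ^ 2 - 1) ≤
        ∑ p, ((v : GolayPt → ℤ) p ^ 2 - 1) :=
      Finset.sum_le_sum_of_subset_of_nonneg (Finset.subset_univ _) (fun p _ _ => L4 (hodd p))
    rw [Finset.sum_insert (by simp [hij, hik, Ne.symm hli]), Finset.sum_insert (by simp [hjk, Ne.symm hlj]),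
      Finset.sum_insert (by simp [Ne.symm hlk]), Finset.sum_singleton, hs, e1, e2, e3] at hsub
    have hl := hodd l
    have hbd : -6 ≤ (v : GolayPt → ℤ) l ∧ (v : GolayPt → ℤ) l ≤ 6 := int_bound (N := 1) (by linarith) (by norm_num)
    obtain ⟨h2, h3⟩ := hbd
    generalize (v : GolayPt → ℤ) l = a at *
    interval_cases a <;> omega
  obtain ⟨g1, hg1⟩ := exists_normalize v (hodd i)
  -- two more points
  obtain ⟨l, -, hl⟩ := Finset.exists_mem_notMem_of_card_lt_card
    (s := ({i, j, k} : Finset GolayPt)) (t := Finset.univ) (by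
      rw [Finset.card_univ, show Fintype.card GolayPt = 24 from by decide]
      exact lt_of_le_of_lt Finset.card_le_three (by norm_num))
  simp only [Finset.mem_insert, Finset.mem_singleton, not_or] at hl
  obtain ⟨hli, hlj, hlk⟩ := hl
  obtain ⟨r, -, hr⟩ := Finset.exists_mem_notMem_of_card_lt_card
    (s := ({i, j, k, l} : Finset GolayPt)) (t := Finset.univ) (by
      rw [Finset.card_univ, show Fintype.card GolayPt = 24 from by decide]
      exact lt_of_le_of_lt Finset.card_le_four (by norm_num))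
  simp only [Finset.mem_insert, Finset.mem_singleton, not_or] at hr
  obtain ⟨hri, hrj, hrk, hrl⟩ := hr
  have hxinj : Function.Injective ![i, j, k, l, r] :=
    inj5 i j k l r hij hik (Ne.symm hli) (Ne.symm hri) hjk (Ne.symm hlj) (Ne.symm hrj) (Ne.symm hlk) (Ne.symm hrk)
      (Ne.symm hrl)
  have hyinj : Function.Injective ![pt 0, pt 1, pt 2, pt 3, pt 4] := by decide
  obtain ⟨π, hπ, hπx⟩ := exists_M24_map_five _ _ hxinj hyinj
  have f0 : π.symm (pt 0) = i := by rw [Equiv.symm_apply_eq]; exact (hπx 0).symm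
  have f1 : π.symm (pt 1) = j := by rw [Equiv.symm_apply_eq]; exact (hπx 1).symm
  have f2 : π.symm (pt 2) = k := by rw [Equiv.symm_apply_eq]; exact (hπx 2).symm
  have f3 : π.symm (pt 3) = l := by rw [Equiv.symm_apply_eq]; exact (hπx 3).symm
  have n3 : ∀ p, |(v : GolayPt → ℤ) p| = 3 →
      (if (v : GolayPt → ℤ) p % 4 = 3 then -(v : GolayPt → ℤ) p else (v : GolayPt → ℤ) p) = -3 := by
    intro p hp
    rcases (abs_eq (by norm_num)).mp hp with h | h <;> rw [h] <;> norm_num
  have n1 : ∀ p, ((v : GolayPt → ℤ) p = 1 ∨ (v : GolayPt → ℤ) p = -1) →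
      (if (v : GolayPt → ℤ) p % 4 = 3 then -(v : GolayPt → ℤ) p else (v : GolayPt → ℤ) p) = 1 := by
    intro p hp
    rcases hp with h | h <;> rw [h] <;> norm_num
  refine ⟨xiCo * negCo * piCo π hπ * g1, ((xiCo * negCo * piCo π hπ * g1) • v).2, ?_, pt 3, ?_⟩
  · rw [co0_norm, hn]
  · rw [mul_smul, mul_smul, mul_smul, xiCo_smul, xi_tet0 _ _ (by decide), negCo_apply, negCo_apply, negCo_apply,
      negCo_apply, piCo_apply, piCo_apply, piCo_apply, piCo_apply, f0, f1, f2, f3, hg1, hg1, hg1, hg1,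
      n3 i hi, n3 j hj, n3 k hk, n1 l (hothers l hli hlj hlk)]
    norm_num

/-- a vector of sum of squares 48 with even coordinates has a coordinate `±2` -/
theorem exists_two {x : GolayPt → ℤ} (hn : sqNorm x = 48) {k : ℕ} (hk : k < 4096) (hres : InClass x 0 k)
    (hsum : (∑ p, x p) % 8 = 0) : ∃ p, x p = 2 ∨ x p = -2 := by
  obtain ⟨hd1, hd2⟩ := even_defect hres
  rw [hn] at hd2
  have hsum0 : 0 ≤ ∑ p, (x p ^ 2 - 4 * bitZ (cw k) (idx p)) := Finset.sum_nonneg (fun p _ => hd1 p)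
  -- a point of the codeword
  have hex : ∃ p, bitZ (cw k) (idx p) = 1 := by
    by_contra hne
    rw [not_exists] at hne
    have hb0 : ∀ p, bitZ (cw k) (idx p) = 0 := by
      intro p
      rcases bitZ_cases (cw k) (idx p) with h | h
      · exact h
      · exact absurd h (hne p)
    have hdvd : (32 : ℤ) ∣ ∑ p, (x p ^ 2 - 4 * x p) := by
      apply Finset.dvd_sum
      intro p _
      apply L7
      have := hres p
      rw [hb0 p] at this
      omega
    rw [Finset.sum_sub_distrib, ← Finset.mul_sum] at hdvd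
    have hn2 : ∑ p, x p ^ 2 = 48 := hn
    rw [hn2] at hdvd
    omega
  obtain ⟨p, hp⟩ := hex
  refine ⟨p, ?_⟩
  have h1 := Finset.single_le_sum (f := fun p => x p ^ 2 - 4 * bitZ (cw k) (idx p)) (fun p _ => hd1 p)
    (Finset.mem_univ p)
  rw [hd2] at h1
  simp only [hp] at h1
  have h2 := hres p
  rw [hp] at h2
  have hbd : -6 ≤ x p ∧ x p ≤ 6 := int_bound (N := 48) (by
    have := sq_le_sqNorm x p
    rw [hn] at this
    exact this) (by norm_num)
  obtain ⟨h3, h4⟩ := hbd
  have hpop : (0 : ℤ) ≤ (popc 24 (cw k) : ℤ) := Nat.cast_nonneg _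
  rcases cw_weights hk with h | h | h | h | h
  · exfalso
    have := sum_bitZ (cw k)
    rw [h] at this
    have hz := (Finset.sum_eq_zero_iff_of_nonneg (fun p _ => bit_nonneg (cw k) (idx p))).mp
      (by rw [this]; norm_num)
    have := hz p (Finset.mem_univ p)
    omega
  all_goals
    rw [h] at h1 hd2
    generalize x p = a at *
    interval_cases a <;> omega

/-- a vector of sum of squares 48 with even coordinates has at least three zero coordinates -/
theorem exists_zeros {x : GolayPt → ℤ} (hn : sqNorm x = 48) (heven : ∀ p, x p % 2 = 0) :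
    ∃ a b c, a ≠ b ∧ a ≠ c ∧ b ≠ c ∧ x a = 0 ∧ x b = 0 ∧ x c = 0 := by
  classical
  have h1 : ∀ p, (if x p ≠ 0 then (4 : ℤ) else 0) ≤ x p ^ 2 := by
    intro p
    split_ifs with h
    · obtain ⟨c, hc⟩ := Int.dvd_of_emod_eq_zero (heven p)
      have hc0 : c ≠ 0 := by
        rintro rfl
        exact h (by rw [hc]; ring)
      have : 0 < c ^ 2 := by positivity
      rw [hc]
      nlinarith
    · exact sq_nonneg _
  have h2 : ∑ p, (if x p ≠ 0 then (4 : ℤ) else 0) ≤ 48 := by
    rw [← hn]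
    exact Finset.sum_le_sum (fun p _ => h1 p)
  rw [Finset.sum_ite, Finset.sum_const, Finset.sum_const_zero, add_zero, nsmul_eq_mul] at h2
  have h3 := Finset.card_filter_add_card_filter_not (s := (Finset.univ : Finset GolayPt)) (fun p => x p ≠ 0)
  rw [Finset.card_univ, show Fintype.card GolayPt = 24 from by decide] at h3
  have h4 : 2 < (Finset.univ.filter (fun p => ¬ x p ≠ 0)).card := by omega
  obtain ⟨a, ha, b, hb, c, hc, hab, hac, hbc⟩ := Finset.two_lt_card.mp h4
  rw [Finset.mem_filter, not_not] at ha hb hc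
  exact ⟨a, b, c, hab, hac, hbc, ha.2, hb.2, hc.2⟩

/-- a vector of sum of squares 48 with even coordinates is equivalent to one with an odd coordinate -/
theorem even_to_odd (v : ↥leechLattice) (hn : sqNorm (v : GolayPt → ℤ) = 48) {k : ℕ} (hk : k < 4096)
    (hres : InClass (v : GolayPt → ℤ) 0 k) (hsum : (∑ p, (v : GolayPt → ℤ) p) % 8 = 0) :
    ∃ g : ↥Co0, ((g • v : ↥leechLattice) : GolayPt → ℤ) (pt 0) % 2 = 1 := by
  classical
  have heven : ∀ p, (v : GolayPt → ℤ) p % 2 = 0 := by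
    intro p
    have h1 := hres p
    have hb := bitZ_cases (cw k) (idx p)
    omega
  obtain ⟨t0, ht0⟩ := exists_two hn hk hres hsum
  obtain ⟨t1, t2, t3, h12, h13, h23, hv1, hv2, hv3⟩ := exists_zeros hn heven
  have h01 : t0 ≠ t1 := by intro h; rw [h, hv1] at ht0; omega
  have h02 : t0 ≠ t2 := by intro h; rw [h, hv2] at ht0; omega
  have h03 : t0 ≠ t3 := by intro h; rw [h, hv3] at ht0; omega
  obtain ⟨r, -, hr⟩ := Finset.exists_mem_notMem_of_card_lt_card
    (s := ({t0, t1, t2, t3} : Finset GolayPt)) (t := Finset.univ) (by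
      rw [Finset.card_univ, show Fintype.card GolayPt = 24 from by decide]
      exact lt_of_le_of_lt Finset.card_le_four (by norm_num))
  simp only [Finset.mem_insert, Finset.mem_singleton, not_or] at hr
  obtain ⟨hr0, hr1, hr2, hr3⟩ := hr
  have hxinj : Function.Injective ![t0, t1, t2, t3, r] :=
    inj5 t0 t1 t2 t3 r h01 h02 h03 (Ne.symm hr0) h12 h13 (Ne.symm hr1) h23 (Ne.symm hr2) (Ne.symm hr3)
  have hyinj : Function.Injective ![pt 0, pt 1, pt 2, pt 3, pt 4] := by decide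
  obtain ⟨π, hπ, hπx⟩ := exists_M24_map_five _ _ hxinj hyinj
  have f0 : π.symm (pt 0) = t0 := by rw [Equiv.symm_apply_eq]; exact (hπx 0).symm
  have f1 : π.symm (pt 1) = t1 := by rw [Equiv.symm_apply_eq]; exact (hπx 1).symm
  have f2 : π.symm (pt 2) = t2 := by rw [Equiv.symm_apply_eq]; exact (hπx 2).symm
  have f3 : π.symm (pt 3) = t3 := by rw [Equiv.symm_apply_eq]; exact (hπx 3).symm
  refine ⟨xiCo * piCo π hπ, ?_⟩
  rw [mul_smul, xiCo_smul, xi_pt0, piCo_apply, piCo_apply, piCo_apply, piCo_apply, f0, f1, f2, f3, hv1, hv2, hv3]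
  rcases ht0 with h | h <;> rw [h] <;> norm_num

/-- every vector of sum of squares 48 is equivalent to one of shape `(5, 1^23)` -/
theorem norm6_to_d0 (v : ↥leechLattice) (hn : sqNorm (v : GolayPt → ℤ) = 48) :
    ∃ g : ↥Co0, ((g • v : ↥leechLattice) : GolayPt → ℤ) = d0 := by
  -- the case of an odd coordinate
  have key : ∀ w : ↥leechLattice, sqNorm (w : GolayPt → ℤ) = 48 → (w : GolayPt → ℤ) (pt 0) % 2 = 1 →
      ∃ g : ↥Co0, ((g • w : ↥leechLattice) : GolayPt → ℤ) = d0 := by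
    intro w hw hodd
    have hmem : (w : GolayPt → ℤ) ∈ oddSet 48 := mem_oddSet w.2 (by rw [hw]; rfl) hodd
    rw [← union_eq] at hmem
    rcases hmem with h | h
    · exact setD_to_d0 w h
    · obtain ⟨g1, hg1⟩ := setB_to_D w h
      obtain ⟨g2, hg2⟩ := setD_to_d0 (g1 • w) hg1
      exact ⟨g2 * g1, by rw [mul_smul, hg2]⟩
  obtain ⟨m, hm, k, hk, hres, hsum⟩ := (mem_leech_iff_res (v : GolayPt → ℤ)).mp v.2
  have hm' : m = 0 ∨ m = 1 := by simpa using hm
  have hk' := Finset.mem_range.mp hk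
  rcases hm' with rfl | rfl
  · obtain ⟨g1, hg1⟩ := even_to_odd v hn hk' hres (by simpa using hsum)
    obtain ⟨g2, hg2⟩ := key (g1 • v) (by rw [co0_norm, hn]) hg1
    exact ⟨g2 * g1, by rw [mul_smul, hg2]⟩
  · apply key v hn
    have h1 := hres (pt 0)
    have hb := bitZ_cases (cw k) (idx (pt 0))
    omega

/-- the automorphism group is transitive on the vectors of sum of squares 48 -/
theorem norm6_transitive (v w : ↥leechLattice) (hv : sqNorm (v : GolayPt → ℤ) = 48)
    (hw : sqNorm (w : GolayPt → ℤ) = 48) : ∃ g : ↥Co0, g • v = w := by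
  obtain ⟨g1, hg1⟩ := norm6_to_d0 v hv
  obtain ⟨g2, hg2⟩ := norm6_to_d0 w hw
  refine ⟨g2⁻¹ * g1, ?_⟩
  have : g1 • v = g2 • w := Subtype.ext (by rw [hg1, hg2])
  rw [mul_smul, this, inv_smul_smul]

end Cfsg.Agent.Helper22.Norm6Trans
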