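import Cfsg.Agent.Helper22.Norm6Trans

/-!
# Transitivity of the automorphism group of the rank-24 lattice on its vectors of sum of squares 64
-/

set_option autoImplicit false

namespace Cfsg.Agent.Helper22.Norm8Trans

open Cfsg Cfsg.Agent.Helper27 Cfsg.Agent.Helper22.Co0Mono Cfsg.Agent.Helper22.CrossStab
  Cfsg.Agent.Helper22.Co0Center Cfsg.Agent.Helper22.LeechShapes Cfsg.Agent.Helper22.Xi
  Cfsg.Agent.Helper22.MinTrans Cfsg.Agent.Helper22.Norm6Trans
open scoped Pointwise

/-! ### The basic move -/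

theorem low_bits : ∀ s ∈ Finset.range 16, ∀ i ∈ Finset.range 4,
    (cw s).testBit (idx (pt i)) = s.testBit i := by decide +kernel

/-- codewords with prescribed intersection with the first tetrad -/
theorem exists_signs4 (A B C D : Prop) : ∃ u ∈ golayCode, (pt 0 ∈ support₂ u ↔ A) ∧ (pt 1 ∈ support₂ u ↔ B) ∧
    (pt 2 ∈ support₂ u ↔ C) ∧ (pt 3 ∈ support₂ u ↔ D) := by
  have key : ∀ s ∈ Finset.range 16, ∃ u ∈ golayCode, (pt 0 ∈ support₂ u ↔ s.testBit 0 = true) ∧
      (pt 1 ∈ support₂ u ↔ s.testBit 1 = true) ∧ (pt 2 ∈ support₂ u ↔ s.testBit 2 = true) ∧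
      (pt 3 ∈ support₂ u ↔ s.testBit 3 = true) := by
    intro s hs
    refine ⟨decW (cw s), (mem_golayCode_iff _).mpr ⟨s, by have := Finset.mem_range.mp hs; omega, rfl⟩, ?_⟩
    simp only [mem_support_decW]
    rw [low_bits s hs 0 (by simp), low_bits s hs 1 (by simp), low_bits s hs 2 (by simp), low_bits s hs 3 (by simp)]
    exact ⟨Iff.rfl, Iff.rfl, Iff.rfl, Iff.rfl⟩
  by_cases hA : A <;> by_cases hB : B <;> by_cases hC : C <;> by_cases hD : D
  · simpa +decide [hA, hB, hC, hD] using key 15 (by simp)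
  · simpa +decide [hA, hB, hC, hD] using key 7 (by simp)
  · simpa +decide [hA, hB, hC, hD] using key 11 (by simp)
  · simpa +decide [hA, hB, hC, hD] using key 3 (by simp)
  · simpa +decide [hA, hB, hC, hD] using key 13 (by simp)
  · simpa +decide [hA, hB, hC, hD] using key 5 (by simp)
  · simpa +decide [hA, hB, hC, hD] using key 9 (by simp)
  · simpa +decide [hA, hB, hC, hD] using key 1 (by simp)
  · simpa +decide [hA, hB, hC, hD] using key 14 (by simp)
  · simpa +decide [hA, hB, hC, hD] using key 6 (by simp)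
  · simpa +decide [hA, hB, hC, hD] using key 10 (by simp)
  · simpa +decide [hA, hB, hC, hD] using key 2 (by simp)
  · simpa +decide [hA, hB, hC, hD] using key 12 (by simp)
  · simpa +decide [hA, hB, hC, hD] using key 4 (by simp)
  · simpa +decide [hA, hB, hC, hD] using key 8 (by simp)
  · simpa +decide [hA, hB, hC, hD] using key 0 (by simp)

/-- the basic move: four points are sent to the first tetrad, signs are changed, and `ξ` is applied -/
theorem t0_move (v : ↥leechLattice) {a b c d : GolayPt} (hab : a ≠ b) (hac : a ≠ c) (had : a ≠ d)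
    (hbc : b ≠ c) (hbd : b ≠ d) (hcd : c ≠ d) {ea eb ec ed : ℤ} (hea : ea = 1 ∨ ea = -1)
    (heb : eb = 1 ∨ eb = -1) (hec : ec = 1 ∨ ec = -1) (hed : ed = 1 ∨ ed = -1) :
    ∃ g : ↥Co0,
      ((g • v : ↥leechLattice) : GolayPt → ℤ) (pt 0) = ea * (v : GolayPt → ℤ) a -
        (ea * (v : GolayPt → ℤ) a + eb * (v : GolayPt → ℤ) b + ec * (v : GolayPt → ℤ) c +
          ed * (v : GolayPt → ℤ) d) / 2 ∧
      ((g • v : ↥leechLattice) : GolayPt → ℤ) (pt 1) = eb * (v : GolayPt → ℤ) b -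
        (ea * (v : GolayPt → ℤ) a + eb * (v : GolayPt → ℤ) b + ec * (v : GolayPt → ℤ) c +
          ed * (v : GolayPt → ℤ) d) / 2 ∧
      ((g • v : ↥leechLattice) : GolayPt → ℤ) (pt 2) = ec * (v : GolayPt → ℤ) c -
        (ea * (v : GolayPt → ℤ) a + eb * (v : GolayPt → ℤ) b + ec * (v : GolayPt → ℤ) c +
          ed * (v : GolayPt → ℤ) d) / 2 ∧
      ((g • v : ↥leechLattice) : GolayPt → ℤ) (pt 3) = ed * (v : GolayPt → ℤ) d -
        (ea * (v : GolayPt → ℤ) a + eb * (v : GolayPt → ℤ) b + ec * (v : GolayPt → ℤ) c +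
          ed * (v : GolayPt → ℤ) d) / 2 := by
  classical
  obtain ⟨r, -, hr⟩ := Finset.exists_mem_notMem_of_card_lt_card
    (s := ({a, b, c, d} : Finset GolayPt)) (t := Finset.univ) (by
      rw [Finset.card_univ, show Fintype.card GolayPt = 24 from by decide]
      exact lt_of_le_of_lt Finset.card_le_four (by norm_num))
  simp only [Finset.mem_insert, Finset.mem_singleton, not_or] at hr
  obtain ⟨hr0, hr1, hr2, hr3⟩ := hr
  have hxinj : Function.Injective ![a, b, c, d, r] :=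
    inj5 a b c d r hab hac had (Ne.symm hr0) hbc hbd (Ne.symm hr1) hcd (Ne.symm hr2) (Ne.symm hr3)
  have hyinj : Function.Injective ![pt 0, pt 1, pt 2, pt 3, pt 4] := by decide
  obtain ⟨π, hπ, hπx⟩ := exists_M24_map_five _ _ hxinj hyinj
  have f0 : π.symm (pt 0) = a := by rw [Equiv.symm_apply_eq]; exact (hπx 0).symm
  have f1 : π.symm (pt 1) = b := by rw [Equiv.symm_apply_eq]; exact (hπx 1).symm
  have f2 : π.symm (pt 2) = c := by rw [Equiv.symm_apply_eq]; exact (hπx 2).symm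
  have f3 : π.symm (pt 3) = d := by rw [Equiv.symm_apply_eq]; exact (hπx 3).symm
  obtain ⟨u, hu, h0, h1, h2, h3⟩ := exists_signs4 (ea = -1) (eb = -1) (ec = -1) (ed = -1)
  have key : ∀ (i : ℕ) (t : GolayPt) (e : ℤ), π.symm (pt i) = t → (e = 1 ∨ e = -1) →
      (pt i ∈ support₂ u ↔ e = -1) →
      ((epsCo u hu • (piCo π hπ • v) : ↥leechLattice) : GolayPt → ℤ) (pt i) = e * (v : GolayPt → ℤ) t := by
    intro i t e ht he hm
    rw [epsCo_apply, piCo_apply, ht]
    rcases he with rfl | rfl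
    · rw [if_neg (fun hc => by have := hm.mp hc; norm_num at this)]; ring
    · rw [if_pos (hm.mpr rfl)]; ring
  refine ⟨xiCo * epsCo u hu * piCo π hπ, ?_⟩
  rw [mul_smul, mul_smul, xiCo_smul]
  refine ⟨?_, ?_, ?_, ?_⟩ <;>
    rw [xi_tet0 _ _ (by decide), key 0 a ea f0 hea h0, key 1 b eb f1 heb h1, key 2 c ec f2 hec h2,
      key 3 d ed f3 hed h3]

/-! ### Auxiliary facts -/

theorem exists_sign {z c : ℤ} (h : z = c ∨ z = -c) : ∃ e : ℤ, (e = 1 ∨ e = -1) ∧ e * z = c := by
  rcases h with h | h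
  · exact ⟨1, Or.inl rfl, by rw [h]; ring⟩
  · exact ⟨-1, Or.inr rfl, by rw [h]; ring⟩

theorem exists_sign' {z c : ℤ} (h : z = c ∨ z = -c) : ∃ e : ℤ, (e = 1 ∨ e = -1) ∧ e * z = -c := by
  rcases h with h | h
  · exact ⟨-1, Or.inr rfl, by rw [h]; ring⟩
  · exact ⟨1, Or.inl rfl, by rw [h]; ring⟩

theorem exists_four {α : Type*} [DecidableEq α] {s : Finset α} (h : 3 < s.card) :
    ∃ a ∈ s, ∃ b ∈ s, ∃ c ∈ s, ∃ d ∈ s, a ≠ b ∧ a ≠ c ∧ a ≠ d ∧ b ≠ c ∧ b ≠ d ∧ c ≠ d := by
  have hne : s.Nonempty := Finset.card_pos.mp (by omega)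
  obtain ⟨a, ha⟩ := hne
  have h2 : 2 < (s.erase a).card := by rw [Finset.card_erase_of_mem ha]; omega
  obtain ⟨b, hb, c, hc, d, hd, hbc, hbd, hcd⟩ := Finset.two_lt_card.mp h2
  rw [Finset.mem_erase] at hb hc hd
  exact ⟨a, ha, b, hb.2, c, hc.2, d, hd.2, Ne.symm hb.1, Ne.symm hc.1, Ne.symm hd.1, hbc, hbd, hcd⟩

theorem sum_subset_le (x : GolayPt → ℤ) (s : Finset GolayPt) : ∑ t ∈ s, x t ^ 2 ≤ sqNorm x :=
  Finset.sum_le_sum_of_subset_of_nonneg (Finset.subset_univ _) (fun _ _ _ => sq_nonneg _)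

theorem pair_le (x : GolayPt → ℤ) {p q : GolayPt} (hpq : p ≠ q) : x p ^ 2 + x q ^ 2 ≤ sqNorm x := by
  classical
  have := sum_subset_le x {p, q}
  rwa [Finset.sum_pair hpq] at this

theorem bound8 {x : GolayPt → ℤ} (hn : sqNorm x = 64) (p : GolayPt) : -8 ≤ x p ∧ x p ≤ 8 := by
  have h1 := sq_le_sqNorm x p
  rw [hn] at h1
  constructor <;> nlinarith

/-- the points of a codeword -/
def bset (n : ℕ) : Finset GolayPt := Finset.univ.filter (fun q => bitZ n (idx q) = 1)

theorem mem_bset (n : ℕ) (q : GolayPt) : q ∈ bset n ↔ bitZ n (idx q) = 1 := by simp [bset]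

theorem card_bset (n : ℕ) : ((bset n).card : ℤ) = (popc 24 n : ℤ) := by
  rw [← sum_bitZ, bset, Finset.card_filter]
  push_cast
  apply Finset.sum_congr rfl
  intro q _
  rcases bitZ_cases n (idx q) with h | h <;> rw [h] <;> norm_num

theorem bits_zero_of_popc {n : ℕ} (h : popc 24 n = 0) (p : GolayPt) : bitZ n (idx p) = 0 := by
  have := sum_bitZ n
  rw [h] at this
  have hz := (Finset.sum_eq_zero_iff_of_nonneg (fun p _ => bit_nonneg n (idx p))).mp
    (by rw [this]; norm_num)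
  exact hz p (Finset.mem_univ p)

/-- a codeword with a point has at least eight points -/
theorem card_bset_ge {k : ℕ} (hk : k < 4096) {p : GolayPt} (hp : bitZ (cw k) (idx p) = 1) :
    8 ≤ (bset (cw k)).card := by
  have h1 := card_bset (cw k)
  rcases cw_weights hk with h | h | h | h | h
  · have := bits_zero_of_popc h p
    omega
  all_goals
    rw [h] at h1
    omega

/-! ### The reference vector and the reduction -/

/-- the reference vector `(8, 0^23)` -/
def e8 : GolayPt → ℤ := fun q => if q = pt 0 then 8 else 0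

/-- the vector can be moved to the reference vector -/
def R (v : ↥leechLattice) : Prop := ∃ g : ↥Co0, ((g • v : ↥leechLattice) : GolayPt → ℤ) = e8

theorem R_of_smul {v : ↥leechLattice} (g : ↥Co0) (h : R (g • v)) : R v := by
  obtain ⟨g2, hg2⟩ := h
  exact ⟨g2 * g, by rw [mul_smul, hg2]⟩

/-- vectors with a coordinate `±8` -/
theorem has8 (v : ↥leechLattice) (hn : sqNorm (v : GolayPt → ℤ) = 64) {p : GolayPt}
    (hp : (v : GolayPt → ℤ) p = 8 ∨ (v : GolayPt → ℤ) p = -8) : R v := by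
  have hz : ∀ q, q ≠ p → (v : GolayPt → ℤ) q = 0 := by
    intro q hq
    have h1 := pair_le (v : GolayPt → ℤ) (Ne.symm hq)
    rw [hn] at h1
    have h64 : (v : GolayPt → ℤ) p ^ 2 = 64 := by rcases hp with h | h <;> rw [h] <;> norm_num
    have h2 : (v : GolayPt → ℤ) q ^ 2 ≤ 0 := by linarith
    exact pow_eq_zero_iff (two_ne_zero) |>.mp (le_antisymm h2 (sq_nonneg _))
  have := M24_isPretransitive
  obtain ⟨τ, hτ⟩ := MulAction.exists_smul_eq (↥M24) p (pt 0)
  have hτ' : τ.1 p = pt 0 := hτ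
  have hsymm : ∀ q, τ.1.symm q = p ↔ q = pt 0 := by
    intro q
    rw [Equiv.symm_apply_eq, hτ']
  obtain ⟨u, hu, h0, -, -, -⟩ := exists_signs4 ((v : GolayPt → ℤ) p = -8) False False False
  refine ⟨epsCo u hu * piCo τ.1 τ.2, ?_⟩
  funext q
  rw [mul_smul, epsCo_apply, piCo_apply]
  unfold e8
  by_cases hq : q = pt 0
  · subst hq
    rw [(hsymm _).mpr rfl, if_pos rfl]
    by_cases hneg : (v : GolayPt → ℤ) p = -8
    · rw [if_pos (h0.mpr hneg), hneg]; norm_num
    · rw [if_neg (fun h => hneg (h0.mp h))]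
      rcases hp with h | h
      · exact h
      · exact absurd h hneg
  · rw [hz _ (fun hc => hq ((hsymm q).mp hc)), if_neg hq]
    simp

/-- vectors all of whose coordinates are divisible by `4` -/
theorem w0_to_e8 (v : ↥leechLattice) (hn : sqNorm (v : GolayPt → ℤ) = 64)
    (h4 : ∀ p, (v : GolayPt → ℤ) p % 4 = 0) : R v := by
  classical
  by_cases h8 : ∃ p, (v : GolayPt → ℤ) p = 8 ∨ (v : GolayPt → ℤ) p = -8
  · obtain ⟨p, hp⟩ := h8
    exact has8 v hn hp
  · rw [not_exists] at h8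
    have hval : ∀ p, (v : GolayPt → ℤ) p ≠ 0 → (v : GolayPt → ℤ) p = 4 ∨ (v : GolayPt → ℤ) p = -4 := by
      intro p hp0
      obtain ⟨h1, h2⟩ := bound8 hn p
      have := h4 p
      have := h8 p
      omega
    have hsq : ∀ p, (v : GolayPt → ℤ) p ^ 2 = if (v : GolayPt → ℤ) p ≠ 0 then 16 else 0 := by
      intro p
      by_cases hp0 : (v : GolayPt → ℤ) p ≠ 0
      · rw [if_pos hp0]
        rcases hval p hp0 with h | h <;> rw [h] <;> norm_num
      · rw [if_neg hp0]
        rw [not_not] at hp0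
        rw [hp0]
        norm_num
    have hcard : (Finset.univ.filter (fun p => (v : GolayPt → ℤ) p ≠ 0)).card = 4 := by
      have h1 : sqNorm (v : GolayPt → ℤ) = ∑ p, (if (v : GolayPt → ℤ) p ≠ 0 then (16 : ℤ) else 0) :=
        Finset.sum_congr rfl (fun p _ => hsq p)
      rw [hn, Finset.sum_ite, Finset.sum_const, Finset.sum_const_zero, add_zero, nsmul_eq_mul] at h1
      omega
    obtain ⟨a, ha, b, hb, c, hc, d, hd, hab, hac, had, hbc, hbd, hcd⟩ := exists_four (by rw [hcard]; norm_num)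
    rw [Finset.mem_filter] at ha hb hc hd
    obtain ⟨ea, hea, ha'⟩ := exists_sign (hval a ha.2)
    obtain ⟨eb, heb, hb'⟩ := exists_sign' (hval b hb.2)
    obtain ⟨ec, hec, hc'⟩ := exists_sign' (hval c hc.2)
    obtain ⟨ed, hed, hd'⟩ := exists_sign' (hval d hd.2)
    obtain ⟨g, h0, -, -, -⟩ := t0_move v hab hac had hbc hbd hcd hea heb hec hed
    apply R_of_smul g
    apply has8 (g • v) (by rw [co0_norm, hn]) (p := pt 0)
    left
    rw [h0, ha', hb', hc', hd']
    norm_num

/-- a vector with three coordinates `±4` has all coordinates divisible by `4` -/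
theorem three_fours {x : GolayPt → ℤ} (hx : x ∈ leechLattice) (hn : sqNorm x = 64) {a b c : GolayPt}
    (hab : a ≠ b) (hac : a ≠ c) (hbc : b ≠ c) (ha : x a = 4 ∨ x a = -4) (hb : x b = 4 ∨ x b = -4)
    (hc : x c = 4 ∨ x c = -4) : ∀ q, x q % 4 = 0 := by
  classical
  obtain ⟨m, hm, k, hk, hres, hsum⟩ := (mem_leech_iff_res x).mp hx
  have hm' : m = 0 ∨ m = 1 := by simpa using hm
  have hk' := Finset.mem_range.mp hk
  have hm0 : m = 0 := by
    have h1 := hres a
    have hb := bitZ_cases (cw k) (idx a)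
    rcases ha with h | h <;> rw [h] at h1 <;> omega
  subst hm0
  have hcl : InClass x 0 k := hres
  obtain ⟨hd1, hd2⟩ := even_defect hcl
  rw [hn] at hd2
  have hsub : ∑ t ∈ ({a, b, c} : Finset GolayPt), (x t ^ 2 - 4 * bitZ (cw k) (idx t)) ≤
      ∑ t, (x t ^ 2 - 4 * bitZ (cw k) (idx t)) :=
    Finset.sum_le_sum_of_subset_of_nonneg (Finset.subset_univ _) (fun t _ _ => hd1 t)
  rw [Finset.sum_insert (by simp [hab, hac]), Finset.sum_pair hbc, hd2] at hsub
  have bit0 : ∀ t, (x t = 4 ∨ x t = -4) → x t ^ 2 - 4 * bitZ (cw k) (idx t) = 16 := by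
    intro t ht
    have h1 := hres t
    have hb := bitZ_cases (cw k) (idx t)
    rcases ht with h | h <;> rw [h] at h1 ⊢ <;> omega
  rw [bit0 a ha, bit0 b hb, bit0 c hc] at hsub
  have hpop : popc 24 (cw k) = 0 := by
    rcases cw_weights hk' with h | h | h | h | h <;> rw [h] at hsub <;> omega
  intro q
  have h1 := hres q
  rw [bits_zero_of_popc hpop q] at h1
  omega

/-- vectors with a coordinate `±6` -/
theorem has6 (v : ↥leechLattice) (hn : sqNorm (v : GolayPt → ℤ) = 64) {p : GolayPt}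
    (hp : (v : GolayPt → ℤ) p = 6 ∨ (v : GolayPt → ℤ) p = -6) : R v := by
  classical
  obtain ⟨m, hm, k, hk, hres, hsum⟩ := (mem_leech_iff_res (v : GolayPt → ℤ)).mp v.2
  have hm' : m = 0 ∨ m = 1 := by simpa using hm
  have hk' := Finset.mem_range.mp hk
  have hm0 : m = 0 := by
    have h1 := hres p
    have hb := bitZ_cases (cw k) (idx p)
    rcases hp with h | h <;> rw [h] at h1 <;> omega
  subst hm0
  have hbp : bitZ (cw k) (idx p) = 1 := by
    have h1 := hres p
    have hb := bitZ_cases (cw k) (idx p)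
    rcases hp with h | h <;> rw [h] at h1 <;> omega
  have hcard := card_bset_ge hk' hbp
  have hpB : p ∈ bset (cw k) := (mem_bset _ _).mpr hbp
  have h2 : 2 < ((bset (cw k)).erase p).card := by rw [Finset.card_erase_of_mem hpB]; omega
  obtain ⟨b, hb, c, hc, d, hd, hbc, hbd, hcd⟩ := Finset.two_lt_card.mp h2
  rw [Finset.mem_erase, mem_bset] at hb hc hd
  have htwo : ∀ q, q ≠ p → bitZ (cw k) (idx q) = 1 → (v : GolayPt → ℤ) q = 2 ∨ (v : GolayPt → ℤ) q = -2 := by
    intro q hq hbq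
    have h1 := pair_le (v : GolayPt → ℤ) (Ne.symm hq)
    rw [hn] at h1
    have h36 : (v : GolayPt → ℤ) p ^ 2 = 36 := by rcases hp with h | h <;> rw [h] <;> norm_num
    have h3 := hres q
    rw [hbq] at h3
    have h4 : (v : GolayPt → ℤ) q ^ 2 ≤ 28 := by linarith
    have hbd : -6 ≤ (v : GolayPt → ℤ) q ∧ (v : GolayPt → ℤ) q ≤ 6 := int_bound h4 (by norm_num)
    obtain ⟨h5, h6⟩ := hbd
    generalize (v : GolayPt → ℤ) q = z at *
    interval_cases z <;> omega
  obtain ⟨ea, hea, ha'⟩ := exists_sign hp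
  obtain ⟨eb, heb, hb'⟩ := exists_sign (htwo b hb.1 hb.2)
  obtain ⟨ec, hec, hc'⟩ := exists_sign (htwo c hc.1 hc.2)
  obtain ⟨ed, hed, hd'⟩ := exists_sign (htwo d hd.1 hd.2)
  obtain ⟨g, -, h1, h2, h3⟩ := t0_move v (Ne.symm hb.1) (Ne.symm hc.1) (Ne.symm hd.1) hbc hbd hcd hea heb hec hed
  rw [ha', hb', hc', hd'] at h1 h2 h3
  norm_num at h1 h2 h3
  apply R_of_smul g
  have hn' : sqNorm ((g • v : ↥leechLattice) : GolayPt → ℤ) = 64 := by rw [co0_norm, hn]
  apply w0_to_e8 (g • v) hn'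
  exact three_fours (g • v).2 hn' (a := pt 1) (b := pt 2) (c := pt 3) (by decide) (by decide) (by decide)
    (Or.inr h1) (Or.inr h2) (Or.inr h3)

theorem abs_three {z : ℤ} (h : |z| = 3) : z = 3 ∨ z = -3 := (abs_eq (by norm_num)).mp h

/-- odd vectors with a coordinate `±5` -/
theorem has5 (v : ↥leechLattice) (hn : sqNorm (v : GolayPt → ℤ) = 64) {p : GolayPt}
    (hp : (v : GolayPt → ℤ) p = 5 ∨ (v : GolayPt → ℤ) p = -5) : R v := by
  classical
  have hpodd : (v : GolayPt → ℤ) p % 2 = 1 := by rcases hp with h | h <;> rw [h] <;> norm_num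
  have hodd := odd_of_mem (mem_oddSet (n := 64) v.2 (by rw [hn]; rfl) hpodd)
  have hs := sum_sq_sub_one (v : GolayPt → ℤ)
  rw [hn, sum_split (fun q => (v : GolayPt → ℤ) q ^ 2 - 1) p] at hs
  have h25 : (v : GolayPt → ℤ) p ^ 2 = 25 := by rcases hp with h | h <;> rw [h] <;> norm_num
  have hrest : ∑ q ∈ Finset.univ \ {p}, ((v : GolayPt → ℤ) q ^ 2 - 1) = 16 := by linarith
  have hall : ∀ q ∈ Finset.univ \ {p}, (v : GolayPt → ℤ) q ^ 2 - 1 = if |(v : GolayPt → ℤ) q| = 3 then 8 else 0 := by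
    intro q hq
    have hle := Finset.single_le_sum (f := fun q => (v : GolayPt → ℤ) q ^ 2 - 1) (fun q _ => L4 (hodd q)) hq
    rw [hrest] at hle
    apply L5 (hodd q) (by linarith)
    intro h5
    have : (v : GolayPt → ℤ) q ^ 2 = 25 := by rw [← sq_abs, h5]; norm_num
    omega
  rw [Finset.sum_congr rfl hall, Finset.sum_ite, Finset.sum_const, Finset.sum_const_zero, add_zero,
    nsmul_eq_mul] at hrest
  have hcard : ((Finset.univ \ {p}).filter (fun q => |(v : GolayPt → ℤ) q| = 3)).card = 2 := by omega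
  obtain ⟨j, k, hjk, he⟩ := Finset.card_eq_two.mp hcard
  have hj : j ∈ (Finset.univ \ {p}).filter (fun q => |(v : GolayPt → ℤ) q| = 3) := by rw [he]; simp
  have hk : k ∈ (Finset.univ \ {p}).filter (fun q => |(v : GolayPt → ℤ) q| = 3) := by rw [he]; simp
  rw [Finset.mem_filter, Finset.mem_sdiff, Finset.mem_singleton] at hj hk
  -- a coordinate `±1`
  obtain ⟨l, -, hl⟩ := Finset.exists_mem_notMem_of_card_lt_card
    (s := ({p, j, k} : Finset GolayPt)) (t := Finset.univ) (by
      rw [Finset.card_univ, show Fintype.card GolayPt = 24 from by decide]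
      exact lt_of_le_of_lt Finset.card_le_three (by norm_num))
  simp only [Finset.mem_insert, Finset.mem_singleton, not_or] at hl
  obtain ⟨hlp, hlj, hlk⟩ := hl
  have hl1 : (v : GolayPt → ℤ) l = 1 ∨ (v : GolayPt → ℤ) l = -1 := by
    have hlmem : l ∈ Finset.univ \ {p} := by simp [hlp]
    have h1 := hall l hlmem
    have hn3 : ¬ |(v : GolayPt → ℤ) l| = 3 := by
      intro h3
      have : l ∈ (Finset.univ \ {p}).filter (fun q => |(v : GolayPt → ℤ) q| = 3) :=
        Finset.mem_filter.mpr ⟨hlmem, h3⟩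
      rw [he, Finset.mem_insert, Finset.mem_singleton] at this
      rcases this with h | h
      · exact hlj h
      · exact hlk h
    rw [if_neg hn3] at h1
    have hbd : -6 ≤ (v : GolayPt → ℤ) l ∧ (v : GolayPt → ℤ) l ≤ 6 := int_bound (N := 1) (by linarith) (by norm_num)
    obtain ⟨h5, h6⟩ := hbd
    generalize (v : GolayPt → ℤ) l = z at *
    interval_cases z <;> omega
  obtain ⟨ea, hea, ha'⟩ := exists_sign hp
  obtain ⟨eb, heb, hb'⟩ := exists_sign (abs_three hj.2)
  obtain ⟨ec, hec, hc'⟩ := exists_sign (abs_three hk.2)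
  obtain ⟨ed, hed, hd'⟩ := exists_sign' hl1
  obtain ⟨g, -, -, -, h3⟩ := t0_move v (Ne.symm hj.1.2) (Ne.symm hk.1.2) (Ne.symm hlp) hjk (Ne.symm hlj) (Ne.symm hlk)
    hea heb hec hed
  rw [ha', hb', hc', hd'] at h3
  norm_num at h3
  apply R_of_smul g
  exact has6 (g • v) (by rw [co0_norm, hn]) (Or.inr h3)

/-- odd vectors -/
theorem odd_to_e8 (v : ↥leechLattice) (hn : sqNorm (v : GolayPt → ℤ) = 64) {p0 : GolayPt}
    (hp0 : (v : GolayPt → ℤ) p0 % 2 = 1) : R v := by
  classical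
  by_cases h5 : ∃ p, |(v : GolayPt → ℤ) p| = 5
  · obtain ⟨p, hp⟩ := h5
    exact has5 v hn ((abs_eq (by norm_num)).mp hp)
  · rw [not_exists] at h5
    have hodd := odd_of_mem (mem_oddSet (n := 64) v.2 (by rw [hn]; rfl) hp0)
    have hs := sum_sq_sub_one (v : GolayPt → ℤ)
    rw [hn] at hs
    have hall : ∀ q, (v : GolayPt → ℤ) q ^ 2 - 1 = if |(v : GolayPt → ℤ) q| = 3 then 8 else 0 := by
      intro q
      apply L5 (hodd q) _ (h5 q)
      have hle := Finset.single_le_sum (f := fun q => (v : GolayPt → ℤ) q ^ 2 - 1) (fun q _ => L4 (hodd q))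
        (Finset.mem_univ q)
      rw [hs] at hle
      have hbd : -6 ≤ (v : GolayPt → ℤ) q ∧ (v : GolayPt → ℤ) q ≤ 6 := int_bound (N := 41) (by linarith) (by norm_num)
      obtain ⟨h1, h2⟩ := hbd
      have ho := hodd q
      have h5' := h5 q
      generalize (v : GolayPt → ℤ) q = z at *
      interval_cases z <;> simp_all
    rw [Finset.sum_congr rfl (fun q _ => hall q), Finset.sum_ite, Finset.sum_const, Finset.sum_const_zero,
      add_zero, nsmul_eq_mul] at hs
    have hcard : (Finset.univ.filter (fun q => |(v : GolayPt → ℤ) q| = 3)).card = 5 := by omega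
    obtain ⟨i, hi, j, hj, k, hk, hij, hik, hjk⟩ := Finset.two_lt_card.mp (by rw [hcard]; norm_num)
    rw [Finset.mem_filter] at hi hj hk
    obtain ⟨l, -, hl⟩ := Finset.exists_mem_notMem_of_card_lt_card
      (s := Finset.univ.filter (fun q => |(v : GolayPt → ℤ) q| = 3)) (t := Finset.univ) (by
        rw [hcard, Finset.card_univ, show Fintype.card GolayPt = 24 from by decide]
        norm_num)
    rw [Finset.mem_filter, not_and] at hl
    have hn3 := hl (Finset.mem_univ l)
    have hl1 : (v : GolayPt → ℤ) l = 1 ∨ (v : GolayPt → ℤ) l = -1 := by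
      have h1 := hall l
      rw [if_neg hn3] at h1
      have hbd : -6 ≤ (v : GolayPt → ℤ) l ∧ (v : GolayPt → ℤ) l ≤ 6 := int_bound (N := 1) (by linarith) (by norm_num)
      obtain ⟨h5, h6⟩ := hbd
      generalize (v : GolayPt → ℤ) l = z at *
      interval_cases z <;> omega
    have hli : i ≠ l := by rintro rfl; exact hn3 hi.2
    have hlj : j ≠ l := by rintro rfl; exact hn3 hj.2
    have hlk : k ≠ l := by rintro rfl; exact hn3 hk.2
    obtain ⟨ea, hea, ha'⟩ := exists_sign (abs_three hi.2)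
    obtain ⟨eb, heb, hb'⟩ := exists_sign (abs_three hj.2)
    obtain ⟨ec, hec, hc'⟩ := exists_sign (abs_three hk.2)
    obtain ⟨ed, hed, hd'⟩ := exists_sign' hl1
    obtain ⟨g, -, -, -, h3⟩ := t0_move v hij hik hli hjk hlj hlk hea heb hec hed
    rw [ha', hb', hc', hd'] at h3
    norm_num at h3
    apply R_of_smul g
    exact has5 (g • v) (by rw [co0_norm, hn]) (Or.inr h3)

/-- four coordinates `±2` of an even vector without coordinates `±6` whose codeword is not zero -/
theorem four_twos {x : GolayPt → ℤ} (hn : sqNorm x = 64) {k : ℕ} (hk : k < 4096) (hres : InClass x 0 k)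
    {p : GolayPt} (hp : bitZ (cw k) (idx p) = 1) (h6 : ∀ q, ¬ (x q = 6 ∨ x q = -6)) :
    ∃ a b c d, a ≠ b ∧ a ≠ c ∧ a ≠ d ∧ b ≠ c ∧ b ≠ d ∧ c ≠ d ∧ (x a = 2 ∨ x a = -2) ∧ (x b = 2 ∨ x b = -2) ∧
      (x c = 2 ∨ x c = -2) ∧ (x d = 2 ∨ x d = -2) := by
  classical
  have hcard := card_bset_ge hk hp
  obtain ⟨a, ha, b, hb, c, hc, d, hd, hab, hac, had, hbc, hbd, hcd⟩ :=
    exists_four (s := bset (cw k)) (by omega)
  rw [mem_bset] at ha hb hc hd
  have htwo : ∀ q, bitZ (cw k) (idx q) = 1 → x q = 2 ∨ x q = -2 := by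
    intro q hq
    have h1 := hres q
    rw [hq] at h1
    obtain ⟨h2, h3⟩ := bound8 hn q
    have := h6 q
    omega
  exact ⟨a, b, c, d, hab, hac, had, hbc, hbd, hcd, htwo a ha, htwo b hb, htwo c hc, htwo d hd⟩

/-- vectors with a coordinate `±4` -/
theorem has4 (v : ↥leechLattice) (hn : sqNorm (v : GolayPt → ℤ) = 64) {p : GolayPt}
    (hp : (v : GolayPt → ℤ) p = 4 ∨ (v : GolayPt → ℤ) p = -4) : R v := by
  classical
  obtain ⟨m, hm, k, hk, hres, hsum⟩ := (mem_leech_iff_res (v : GolayPt → ℤ)).mp v.2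
  have hm' : m = 0 ∨ m = 1 := by simpa using hm
  have hk' := Finset.mem_range.mp hk
  have hm0 : m = 0 := by
    have h1 := hres p
    have hb := bitZ_cases (cw k) (idx p)
    rcases hp with h | h <;> rw [h] at h1 <;> omega
  subst hm0
  have hcl : InClass (v : GolayPt → ℤ) 0 k := hres
  by_cases hB : ∃ q, bitZ (cw k) (idx q) = 1
  · obtain ⟨q0, hq0⟩ := hB
    by_cases h6 : ∃ q, (v : GolayPt → ℤ) q = 6 ∨ (v : GolayPt → ℤ) q = -6
    · obtain ⟨q, hq⟩ := h6
      exact has6 v hn hq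
    · rw [not_exists] at h6
      obtain ⟨b, c, d, -, hbc, hbd, -, hcd, -, -, hb, hc, hd, -⟩ := four_twos hn hk' hcl hq0 h6
      have hpb : p ≠ b := by rintro rfl; rcases hp with h | h <;> rcases hb with h' | h' <;> omega
      have hpc : p ≠ c := by rintro rfl; rcases hp with h | h <;> rcases hc with h' | h' <;> omega
      have hpd : p ≠ d := by rintro rfl; rcases hp with h | h <;> rcases hd with h' | h' <;> omega
      obtain ⟨ea, hea, ha'⟩ := exists_sign hp
      obtain ⟨eb, heb, hb'⟩ := exists_sign hb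
      obtain ⟨ec, hec, hc'⟩ := exists_sign hc
      obtain ⟨ed, hed, hd'⟩ := exists_sign' hd
      obtain ⟨g, -, -, -, h3⟩ := t0_move v hpb hpc hpd hbc hbd hcd hea heb hec hed
      rw [ha', hb', hc', hd'] at h3
      norm_num at h3
      apply R_of_smul g
      exact has5 (g • v) (by rw [co0_norm, hn]) (Or.inr h3)
  · rw [not_exists] at hB
    apply w0_to_e8 v hn
    intro q
    have h1 := hres q
    have hb := bitZ_cases (cw k) (idx q)
    have := hB q
    omega

/-- even vectors -/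
theorem even_to_e8 (v : ↥leechLattice) (hn : sqNorm (v : GolayPt → ℤ) = 64) {k : ℕ} (hk : k < 4096)
    (hres : InClass (v : GolayPt → ℤ) 0 k) : R v := by
  classical
  by_cases hB : ∃ q, bitZ (cw k) (idx q) = 1
  · obtain ⟨q0, hq0⟩ := hB
    by_cases h6 : ∃ q, (v : GolayPt → ℤ) q = 6 ∨ (v : GolayPt → ℤ) q = -6
    · obtain ⟨q, hq⟩ := h6
      exact has6 v hn hq
    · rw [not_exists] at h6
      obtain ⟨a, b, c, d, hab, hac, had, hbc, hbd, hcd, ha, hb, hc, hd⟩ := four_twos hn hk hres hq0 h6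
      obtain ⟨ea, hea, ha'⟩ := exists_sign ha
      obtain ⟨eb, heb, hb'⟩ := exists_sign hb
      obtain ⟨ec, hec, hc'⟩ := exists_sign hc
      obtain ⟨ed, hed, hd'⟩ := exists_sign' hd
      obtain ⟨g, -, -, -, h3⟩ := t0_move v hab hac had hbc hbd hcd hea heb hec hed
      rw [ha', hb', hc', hd'] at h3
      norm_num at h3
      apply R_of_smul g
      exact has4 (g • v) (by rw [co0_norm, hn]) (Or.inr h3)
  · rw [not_exists] at hB
    apply w0_to_e8 v hn
    intro q
    have h1 := hres q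
    have hb := bitZ_cases (cw k) (idx q)
    have := hB q
    omega

/-- every vector of sum of squares 64 is equivalent to the reference vector -/
theorem norm8_to_e8 (v : ↥leechLattice) (hn : sqNorm (v : GolayPt → ℤ) = 64) : R v := by
  obtain ⟨m, hm, k, hk, hres, hsum⟩ := (mem_leech_iff_res (v : GolayPt → ℤ)).mp v.2
  have hm' : m = 0 ∨ m = 1 := by simpa using hm
  have hk' := Finset.mem_range.mp hk
  rcases hm' with rfl | rfl
  · exact even_to_e8 v hn hk' hres
  · apply odd_to_e8 v hn (p0 := pt 0)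
    have h1 := hres (pt 0)
    have hb := bitZ_cases (cw k) (idx (pt 0))
    omega

/-- the automorphism group is transitive on the vectors of sum of squares 64 -/
theorem norm8_transitive (v w : ↥leechLattice) (hv : sqNorm (v : GolayPt → ℤ) = 64)
    (hw : sqNorm (w : GolayPt → ℤ) = 64) : ∃ g : ↥Co0, g • v = w := by
  obtain ⟨g1, hg1⟩ := norm8_to_e8 v hv
  obtain ⟨g2, hg2⟩ := norm8_to_e8 w hw
  refine ⟨g2⁻¹ * g1, ?_⟩
  have : g1 • v = g2 • w := Subtype.ext (by rw [hg1, hg2])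
  rw [mul_smul, this, inv_smul_smul]

end Cfsg.Agent.Helper22.Norm8Trans
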