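import Mathlib
import Cfsg.Prelude.Def_GeometricClasses
import Cfsg.Agent.Helper28.OrthSim3
import Cfsg.Agent.Helper8.OS6Defs

/-! OS6 piece SPFULL1 (helper22, hedge): `Full` is closed under scalars and `M`-images. -/

set_option autoImplicit false

namespace Cfsg.Agent.OS6P

open Matrix Module Cfsg.Agent.Helper28.Sg Cfsg.Agent.Helper28.Spin Cfsg.Agent.Helper28.SLMax
  Cfsg.Agent.Helper28.SimMax Cfsg.Agent.Helper28.OSim

variable {F : Type*} [Field F] {n : ℕ} {Q : QuadraticForm F (Fin n → F)}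

theorem SPFULL1.smul {M : Subgroup (Matrix.GeneralLinearGroup (Fin n) F)} {w : Fin n → F} (a : F)
    (hw : w ∈ Full M) : a • w ∈ Full M := by
  intro φ hφ
  rw [E_smul_left]
  by_cases ha : a = 0
  · rw [ha, zero_smul, E_zero_right]
    exact one_mem_MS M
  · apply hw
    rw [dotProduct_smul, smul_eq_mul] at hφ
    rw [smul_dotProduct, smul_eq_mul]
    rcases mul_eq_zero.mp hφ with h | h
    · exact absurd h ha
    · rw [h, mul_zero]

theorem SPFULL1.conj {M : Subgroup (Matrix.GeneralLinearGroup (Fin n) F)} {w : Fin n → F}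
    (g : Matrix.GeneralLinearGroup (Fin n) F) (hg : g ∈ M) (hw : w ∈ Full M) :
    (g : Matrix (Fin n) (Fin n) F) *ᵥ w ∈ Full M := by
  intro φ hφ
  have h1 : (φ ᵥ* (g : Matrix (Fin n) (Fin n) F)) ⬝ᵥ w = 0 := by
    rw [← Matrix.dotProduct_mulVec]
    exact hφ
  have h2 := MS_conj g hg (hw _ h1)
  rw [conj_E, Matrix.vecMul_vecMul, ← Units.val_mul, mul_inv_cancel, Units.val_one,
    Matrix.vecMul_one] at h2
  exact h2

theorem SPFULL1.conjMS {M : Subgroup (Matrix.GeneralLinearGroup (Fin n) F)} {w : Fin n → F}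
    (A : Matrix (Fin n) (Fin n) F) (hA : A ∈ MS M) (hw : w ∈ Full M) : A *ᵥ w ∈ Full M := by
  obtain ⟨g, hg, rfl⟩ := hA
  exact SPFULL1.conj g hg hw

end Cfsg.Agent.OS6P
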