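import Mathlib
import Cfsg.Prelude.Def_GeometricClasses
import Cfsg.Agent.Helper28.OrthSim3
import Cfsg.Agent.Helper8.OS6Defs
import Cfsg.Agent.Helper22.OS6SPFULL1

/-! OS6 piece SPFULL2 (helper22): `Full` is closed under `+`. -/

set_option autoImplicit false

namespace Cfsg.Agent.OS6P

open Matrix Module Cfsg.Agent.Helper28.Sg Cfsg.Agent.Helper28.Spin Cfsg.Agent.Helper28.SLMax
  Cfsg.Agent.Helper28.SimMax Cfsg.Agent.Helper28.OSim

variable {F : Type*} [Field F] {n : ℕ} {Q : QuadraticForm F (Fin n → F)}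

/-- SPFULL2 (M): `Full` is closed under `+`. -/
theorem SPFULL2.add {M : Subgroup (Matrix.GeneralLinearGroup (Fin n) F)} {w w' : Fin n → F}
    (hw : w ∈ Full M) (hw' : w' ∈ Full M) : w + w' ∈ Full M := by
  by_cases h : w' ∈ Submodule.span F {w}
  · obtain ⟨a, rfl⟩ := Submodule.mem_span_singleton.mp h
    have h1 : w + a • w = (1 + a) • w := by rw [add_smul, one_smul]
    rw [h1]
    exact SPFULL1.smul _ hw
  · obtain ⟨ψ, h1, h2⟩ := exists_dual_pair w' w h
    have hA : E w ψ ∈ MS M := hw ψ h2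
    have h3 := SPFULL1.conjMS (E w ψ) hA hw'
    rw [E_mulVec, h1, one_smul, add_comm] at h3
    exact h3

end Cfsg.Agent.OS6P
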