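import Mathlib
import Cfsg.Prelude.Def_GeometricClasses
import Cfsg.Agent.Helper28.OrthSim3
import Cfsg.Agent.Helper8.OS6Defs
import Cfsg.Agent.Helper18.OS6SPUNIVC
import Cfsg.Agent.Helper22.OS6SPFULL1

/-! OS6 piece SPTRANS (helper22): `Full` contains, with a nonsingular `e`, every vector of the same
norm. -/

set_option autoImplicit false

namespace Cfsg.Agent.OS6P

open Matrix Module Cfsg.Agent.Helper28.Sg Cfsg.Agent.Helper28.Spin Cfsg.Agent.Helper28.SLMax
  Cfsg.Agent.Helper28.SimMax Cfsg.Agent.Helper28.OSim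

variable {F : Type*} [Field F] {n : ℕ} {Q : QuadraticForm F (Fin n → F)}

namespace SPTRANS

/-- the product of two reflections lies in `MS M` and maps `Full` to `Full` -/
theorem two_refl {M : Subgroup (Matrix.GeneralLinearGroup (Fin n) F)}
    (hHM : Cfsg.Geo.quadSimilarityGroup (⇑Q) ⊓ SL n F ≤ M) {z y e : Fin n → F}
    (hz : Q z ≠ 0) (hy : Q y ≠ 0) (hey : B Q e y = 0) (heF : e ∈ Full M) :
    Cfsg.reflectionMatrix ⇑Q z *ᵥ e ∈ Full M := by
  have hA : Cfsg.reflectionMatrix ⇑Q z * Cfsg.reflectionMatrix ⇑Q y ∈ MS M := by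
    apply mem_of_isom M hHM
    · intro x
      rw [← Matrix.mulVec_mulVec, Cfsg.Agent.Helper28.Spin.refl_pres Q hz,
        Cfsg.Agent.Helper28.Spin.refl_pres Q hy]
    · rw [Matrix.det_mul, Cfsg.Agent.Helper28.Spin.refl_det Q hz,
        Cfsg.Agent.Helper28.Spin.refl_det Q hy]
      ring
  have h1 := SPFULL1.conjMS _ hA heF
  have hye : QuadraticMap.polar ⇑Q y e = 0 := by
    rw [QuadraticMap.polar_comm]
    exact hey
  rw [← Matrix.mulVec_mulVec, Cfsg.Agent.Helper28.Spin.refl_fix Q hye] at h1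
  exact h1

end SPTRANS

/-- SPTRANS (M): `Full` contains, with a nonsingular `e`, every vector of the same norm. -/
theorem SPTRANS.main [Finite F] (h2 : (2 : F) ≠ 0) (hQ : (QuadraticMap.polarBilin Q).Nondegenerate)
    (hn : 3 ≤ n) {M : Subgroup (Matrix.GeneralLinearGroup (Fin n) F)}
    (hHM : Cfsg.Geo.quadSimilarityGroup (⇑Q) ⊓ SL n F ≤ M) {e e' : Fin n → F}
    (he : Q e ≠ 0) (hee' : Q e' = Q e) (heF : e ∈ Full M) : e' ∈ Full M := by
  obtain ⟨y, hey, hy1⟩ := SPUNIVC.one h2 hQ hn he (1 : F)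
  have hy : Q y ≠ 0 := by
    rw [hy1]
    exact one_ne_zero
  have hsum : Q (e' - e) + Q (e' + e) = 4 * Q e := by
    rw [Cfsg.Agent.Helper28.Spin.map_sub'' Q e' e, QuadraticMap.map_add (⇑Q) e' e, hee']
    ring
  have h4 : (4 : F) * Q e ≠ 0 := by
    have h44 : (4 : F) = 2 * 2 := by norm_num
    rw [h44]
    exact mul_ne_zero (mul_ne_zero h2 h2) he
  by_cases hd : Q (e' - e) = 0
  · have hd' : Q (e + e') ≠ 0 := by
      have h5 : Q (e' + e) = 4 * Q e := by rw [← hsum, hd, zero_add]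
      rw [add_comm, h5]
      exact h4
    have h1 := SPTRANS.two_refl hHM hd' hy hey heF
    rw [Cfsg.Agent.Helper28.Spin.refl_move' Q hee'.symm hd'] at h1
    have h3 := SPFULL1.smul (-1 : F) h1
    rw [neg_one_smul, neg_neg] at h3
    exact h3
  · have h1 := SPTRANS.two_refl hHM hd hy hey heF
    rw [Cfsg.Agent.Helper28.Spin.refl_move Q hee' hd] at h1
    exact h1

end Cfsg.Agent.OS6P
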