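import Cfsg.Agent.Helper27.OctadPair
import Cfsg.Agent.Helper27.M24Octad

/-!
The stabiliser of an octad induces the alternating group on the octad.
-/

set_option autoImplicit false

namespace Cfsg.Agent.Helper22.OctA8

open Cfsg Cfsg.Agent.Helper27
open scoped Pointwise

variable {o : Finset GolayPt}

theorem mem_iff_of_smul_eq {g : Equiv.Perm GolayPt} (h : g • o = o) (x : GolayPt) : g x ∈ o ↔ x ∈ o := by
  have := mem_smul_finset_perm g o x
  rw [h] at this
  exact this

theorem smul_eq_of_mem_iff {g : Equiv.Perm GolayPt} (h : ∀ x, g x ∈ o ↔ x ∈ o) : g • o = o := by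
  ext y
  have h1 := mem_smul_finset_perm g o (g⁻¹ y)
  have e : g (g⁻¹ y) = y := by simp
  rw [e] at h1
  rw [h1, ← h (g⁻¹ y), e]

/-- restriction of the octad stabiliser to the octad -/
def res (o : Finset GolayPt) : ↥(stabP o) →* Equiv.Perm ↥o where
  toFun g := (g : Equiv.Perm GolayPt).subtypePerm (mem_iff_of_smul_eq ((mem_stabP o g.1).mp g.2).2)
  map_one' := by
    apply Equiv.ext
    intro x
    rfl
  map_mul' a b := by
    apply Equiv.ext
    intro x
    rfl

theorem res_apply (g : ↥(stabP o)) (x : ↥o) : ((res o g) x : GolayPt) = (g : Equiv.Perm GolayPt) x := rfl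

/-- the kernel of the restriction is the pointwise stabiliser -/
theorem card_ker (ho : o ∈ octads) : Nat.card (res o).ker = 16 := by
  rw [← card_fixG_octad ho]
  apply Nat.card_congr
  refine
    { toFun := fun g => ⟨g.1.1, ?_⟩
      invFun := fun g => ⟨⟨g.1, ?_⟩, ?_⟩
      left_inv := fun g => rfl
      right_inv := fun g => rfl }
  · have hg : res o g.1 = 1 := g.2
    rw [mem_fixG]
    refine ⟨((mem_stabP o g.1.1).mp g.1.2).1, ?_⟩
    intro q hq
    have := congrArg (fun e : Equiv.Perm ↥o => ((e ⟨q, hq⟩ : ↥o) : GolayPt)) hg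
    exact this
  · have hg := (mem_fixG o g.1).mp g.2
    rw [mem_stabP]
    refine ⟨hg.1, ?_⟩
    apply smul_eq_of_mem_iff
    intro x
    constructor
    · intro hx
      have h1 := hg.2 _ hx
      have h2 : g.1 x = x := g.1.injective h1
      rw [← h2]; exact hx
    · intro hx
      rw [hg.2 x hx]; exact hx
  · have hg := (mem_fixG o g.1).mp g.2
    rw [MonoidHom.mem_ker]
    apply Equiv.ext
    intro x
    apply Subtype.ext
    exact hg.2 x.1 x.2

theorem card_range (ho : o ∈ octads) : Nat.card (res o).range = 20160 := by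
  have h1 := Subgroup.card_eq_card_quotient_mul_card_subgroup (res o).ker
  rw [card_stabP_octad ho, card_ker ho,
    Nat.card_congr (QuotientGroup.quotientKerEquivRange (res o)).toEquiv] at h1
  omega

theorem range_eq (ho : o ∈ octads) : (res o).range = alternatingGroup ↥o := by
  apply Equiv.Perm.eq_alternatingGroup_of_index_eq_two
  have h1 := Subgroup.card_mul_index (res o).range
  rw [card_range ho, Nat.card_eq_fintype_card, Fintype.card_perm, Fintype.card_coe, ho.2] at h1
  have : Nat.factorial 8 = 40320 := by decide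
  omega

/-- the permutations of the octad induced by `M24` are the even ones -/
theorem induced_eq (ho : o ∈ octads) :
    {e : Equiv.Perm ↥o | ∃ g : Equiv.Perm GolayPt, g ∈ M24 ∧ ∃ h : (∀ x, g x ∈ o ↔ x ∈ o), g.subtypePerm h = e} =
      (alternatingGroup ↥o : Set (Equiv.Perm ↥o)) := by
  rw [← range_eq ho]
  ext e
  simp only [Set.mem_ofPred_eq, SetLike.mem_coe, MonoidHom.mem_range]
  constructor
  · rintro ⟨g, hg, h, rfl⟩
    exact ⟨⟨g, (mem_stabP o g).mpr ⟨hg, smul_eq_of_mem_iff h⟩⟩, rfl⟩
  · rintro ⟨g, rfl⟩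
    exact ⟨g.1, ((mem_stabP o g.1).mp g.2).1, mem_iff_of_smul_eq ((mem_stabP o g.1).mp g.2).2, rfl⟩

end Cfsg.Agent.Helper22.OctA8
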