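import Cfsg.Agent.Helper22.Flag

/-!
The stabiliser of an octad and one of its points: orbits on the octads through the point.
-/

set_option autoImplicit false

namespace Cfsg.Agent.Helper22.OctPt

open Cfsg Cfsg.Agent.Helper27 Cfsg.Agent.Helper22.OrbitDod Cfsg.Agent.Helper22.Flag
open scoped Pointwise

/-- masks of octads through the point `0` meeting the standard octad in `i` points -/
def cls (i : ℕ) (n : ℕ) : Bool := n.testBit 0 && (popc 24 (oct5 &&& n) == i)

/-- the same with the weight condition -/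
def clsP (i : ℕ) (n : ℕ) : Bool := (popc 24 n == 8) && cls i n

theorem hfix : ∀ f ∈ [0], f < 24 := by decide

/-- descent elements for intersection size 2 -/
def gens2 : List (List ℕ) := [
  [0,4,10,2,7,8,11,3,20,6,12,5,1,9,15,16,19,18,17,21,14,22,23,13],
  [0,1,7,4,10,18,23,2,17,8,12,15,3,9,11,16,14,13,20,19,22,21,5,6],
  [0,4,10,12,3,13,18,1,9,11,7,17,2,8,6,15,5,16,22,21,20,23,19,14],
  [0,12,3,1,7,17,5,2,14,8,4,9,10,22,16,6,18,13,23,19,15,21,20,11],
  [0,12,7,10,2,14,5,1,9,11,4,13,3,15,22,16,20,19,6,17,23,18,8,21],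
  [0,12,4,10,7,14,19,3,5,18,1,17,2,23,6,15,21,13,8,9,20,22,11,16]]

theorem desc2 : descOKH (certF oct5 [0]) gens2 (clsP 2) 52005 = true := by decide +kernel

/-- descent elements for intersection size 4 -/
def gens4 : List (List ℕ) := [
  [0,10,2,1,4,16,9,12,14,20,7,15,3,5,17,13,11,18,21,19,22,8,23,6],
  [0,12,10,7,1,16,6,3,11,23,2,18,4,14,20,13,8,9,19,5,21,22,15,17],
  [0,7,2,10,1,8,19,12,6,17,3,15,4,11,23,22,20,14,9,13,21,18,5,16],
  [0,3,7,4,10,15,16,2,6,8,1,13,12,5,19,14,23,18,9,22,11,17,20,21],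
  [0,4,3,7,2,14,13,10,17,16,12,8,1,15,6,9,5,23,18,11,19,21,20,22],
  [0,3,4,2,12,9,18,1,5,16,7,14,10,6,23,20,15,21,19,22,13,17,11,8],
  [0,3,2,12,7,9,6,10,8,20,4,16,1,11,18,22,13,17,19,14,5,21,23,15]]

theorem desc4 : descOKH (certF oct5 [0]) gens4 (clsP 4) 15777 = true := by decide +kernel

/-- descent elements for intersection size 8 -/
def gens8 : List (List ℕ) := [
]

theorem desc8 : descOKH (certF oct5 [0]) gens8 (clsP 8) 5279 = true := by decide +kernel

theorem cnt2 : countBelow (fun k => (popc 24 (cw k) == 8) && cls 2 (cw k)) 4096 = 112 := by decide +kernel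
theorem cnt4 : countBelow (fun k => (popc 24 (cw k) == 8) && cls 4 (cw k)) 4096 = 140 := by decide +kernel

theorem cls_iff (i : ℕ) (n : ℕ) : (pt 0 ∈ maskSet n ∧ (maskSet oct5 ∩ maskSet n).card = i) ↔ cls i n = true := by
  rw [pt_mem_maskSet (by norm_num), card_inter_maskSet]
  simp [cls]

theorem pt0_mem : pt 0 ∈ maskSet oct5 := by
  rw [pt_mem_maskSet (by norm_num)]
  decide

theorem count (i : ℕ) {x : GolayPt} {o : Finset GolayPt} (ho : o ∈ octads) (hx : x ∈ o) :
    {o' : Finset GolayPt | o' ∈ octads ∧ x ∈ o' ∧ (o ∩ o').card = i}.ncard =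
      countBelow (fun k => (popc 24 (cw k) == 8) && cls i (cw k)) 4096 := by
  obtain ⟨g0, hg0, hg0o, hg0x⟩ := exists_M24_octad_pt ho maskSet_oct5_mem hx pt0_mem
  rw [← ncard_std 8 (fun b => pt 0 ∈ b ∧ (maskSet oct5 ∩ b).card = i) (cls i) (cls_iff i)]
  apply ncard_smul_set g0
  intro b
  simp only [Set.mem_ofPred_eq]
  rw [← hg0o, ← hg0x, card_inter_smul, mem_smul_iff]
  exact and_congr (octads_smul_iff hg0 b).symm Iff.rfl

theorem orbit {x : GolayPt} {o o' o'' : Finset GolayPt} (ho : o ∈ octads) (hx : x ∈ o) (ho' : o' ∈ octads)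
    (ho'' : o'' ∈ octads) (hx' : x ∈ o') (hx'' : x ∈ o'') (h : (o ∩ o').card = (o ∩ o'').card) :
    ∃ g : Equiv.Perm GolayPt, g ∈ M24 ∧ g x = x ∧ g • o = o ∧ g • o' = o'' := by
  obtain ⟨g0, hg0, hg0o, hg0x⟩ := exists_M24_octad_pt ho maskSet_oct5_mem hx pt0_mem
  have hd1 : g0 • o' ∈ octads := (octads_smul_iff hg0 o').mpr ho'
  have hd2 : g0 • o'' ∈ octads := (octads_smul_iff hg0 o'').mpr ho''
  obtain ⟨m', hm', hpop', e'⟩ := exists_mask_of_mem_wordsOfWeight hd1
  obtain ⟨m'', hm'', hpop'', e''⟩ := exists_mask_of_mem_wordsOfWeight hd2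
  have hc' : cls (o ∩ o').card m' = true := by
    rw [← cls_iff, ← e', ← hg0o, ← hg0x, card_inter_smul, mem_smul_iff]
    exact ⟨hx', rfl⟩
  have hc'' : cls (o ∩ o').card m'' = true := by
    rw [← cls_iff, ← e'', ← hg0o, ← hg0x, card_inter_smul, mem_smul_iff]
    exact ⟨hx'', h.symm⟩
  have hpos : 0 < (o ∩ o').card := Finset.card_pos.mpr ⟨x, Finset.mem_inter.mpr ⟨hx, hx'⟩⟩
  have hk : ∃ k ∈ flagH oct5 [0], k • maskSet m' = maskSet m'' := by
    rcases octad_inter_cases ho ho' with hi | hi | hi | hi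
    · omega
    · rw [hi] at hc' hc''
      exact same_orbit_of_desc (certSoundF oct5 hfix) desc2 hm' (by simp [clsP, hpop', hc']) hm''
        (by simp [clsP, hpop'', hc''])
    · rw [hi] at hc' hc''
      exact same_orbit_of_desc (certSoundF oct5 hfix) desc4 hm' (by simp [clsP, hpop', hc']) hm''
        (by simp [clsP, hpop'', hc''])
    · rw [hi] at hc' hc''
      exact same_orbit_of_desc (certSoundF oct5 hfix) desc8 hm' (by simp [clsP, hpop', hc']) hm''
        (by simp [clsP, hpop'', hc''])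
  obtain ⟨k, hk, hkm⟩ := hk
  obtain ⟨h1, h2, h3, h4⟩ := conj_flag hfix hg0 hk
  refine ⟨g0⁻¹ * k * g0, h1, h3 0 (by simp) x hg0x, h2 o hg0o, h4 o' o'' ?_⟩
  rw [← e', ← e''] at hkm
  exact hkm

end Cfsg.Agent.Helper22.OctPt
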