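import Cfsg.Agent.Helper22.StabOrbits
import Cfsg.Agent.Helper22.OrbitDod
import Cfsg.Agent.Helper22.Flag

/-!
# Orbits on octads of the stabiliser of a standard reference object, from certificates
-/

set_option autoImplicit false

namespace Cfsg.Agent.Helper22.OctadStd

open Cfsg Cfsg.Agent.Helper27 Cfsg.Agent.Helper22.StabOrbits Cfsg.Agent.Helper22.Flag
open scoped Pointwise

variable {β : Type*} [MulAction (Equiv.Perm GolayPt) β] (inv : β → Finset GolayPt → ℕ)
  (hinv : ∀ (g : Equiv.Perm GolayPt) (A : β) (o : Finset GolayPt), inv (g • A) (g • o) = inv A o)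
  (A0 : β) (invM : ℕ → ℕ) (hq : ∀ n, inv A0 (maskSet n) = invM n)

theorem octads_invariant : ∀ g ∈ M24, ∀ o ∈ octads, g • o ∈ octads :=
  fun _ hg o ho => (octads_smul_iff hg o).mpr ho

/-- the class predicate on masks -/
def clsP (invM : ℕ → ℕ) (v : ℕ) (n : ℕ) : Bool := (popc 24 n == 8) && (invM n == v)

include hq in
/-- transitivity of the stabiliser of the standard object on a class of octads -/
theorem std_orbit {cert : List ℕ → Bool} (hc : CertSound (stabIn A0) cert) {v : ℕ} {gens : List (List ℕ)}
    {dmin : ℕ} (h : descOKH cert gens (clsP invM v) dmin = true) {o o' : Finset GolayPt}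
    (ho : o ∈ octads) (ho' : o' ∈ octads) (hv : inv A0 o = v) (hv' : inv A0 o' = v) :
    ∃ k ∈ stabIn A0, k • o = o' := by
  obtain ⟨m, hm, hpop, rfl⟩ := exists_mask_of_mem_wordsOfWeight ho
  obtain ⟨m', hm', hpop', rfl⟩ := exists_mask_of_mem_wordsOfWeight ho'
  rw [hq] at hv hv'
  exact OrbitDod.same_orbit_of_desc hc h hm (by simp [clsP, hpop, hv]) hm' (by simp [clsP, hpop', hv'])

include hq in
/-- class sizes for the standard object -/
theorem std_count (v : ℕ) :
    {o | o ∈ octads ∧ inv A0 o = v}.ncard = countBelow (fun k => clsP invM v (cw k)) 4096 := by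
  have := ncard_std 8 (fun b => inv A0 b = v) (fun n => invM n == v) (fun n => by rw [hq, beq_iff_eq])
  exact this

include hq in
/-- the values taken by the invariant -/
theorem std_vals {vals : List ℕ}
    (hvals : allBelow (fun k => !(popc 24 (cw k) == 8) || vals.contains (invM (cw k))) 4096 = true)
    {o : Finset GolayPt} (ho : o ∈ octads) : inv A0 o ∈ vals := by
  obtain ⟨k, hk, hpop, rfl⟩ := (mem_wordsOfWeight_iff 8 o).mp ho
  have := allBelow_spec hvals k hk
  rw [hpop] at this
  rw [show support₂ (decW (cw k)) = maskSet (cw k) from rfl, hq]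
  simpa using this

end Cfsg.Agent.Helper22.OctadStd
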