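import Mathlib

/-!
# Orbits from invariant classes

If a group acts on an invariant family `F`, an invariant function `inv` on `F` is given and the group is
transitive on each fibre of `inv` on `F`, then the orbits on `F` are the non-empty fibres.
-/

namespace Cfsg.Agent.Helper22.OrbitClasses

open MulAction

variable {G α : Type*} [Group G] [MulAction G α]

theorem orbit_eq_class (F : Set α) (inv : α → ℕ) (hF : ∀ g : G, ∀ x ∈ F, g • x ∈ F)
    (hinv : ∀ g : G, ∀ x ∈ F, inv (g • x) = inv x)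
    (htrans : ∀ x ∈ F, ∀ y ∈ F, inv x = inv y → ∃ g : G, g • x = y) {x : α} (hx : x ∈ F) :
    orbit G x = {y | y ∈ F ∧ inv y = inv x} := by
  ext y
  constructor
  · rintro ⟨g, rfl⟩
    exact ⟨hF g x hx, hinv g x hx⟩
  · rintro ⟨hy, hxy⟩
    obtain ⟨g, hg⟩ := htrans x hx y hy hxy.symm
    exact ⟨g, hg⟩

/-- a non-empty fibre is an orbit -/
theorem exists_orbit_eq_class (F : Set α) (inv : α → ℕ) (hF : ∀ g : G, ∀ x ∈ F, g • x ∈ F)
    (hinv : ∀ g : G, ∀ x ∈ F, inv (g • x) = inv x)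
    (htrans : ∀ x ∈ F, ∀ y ∈ F, inv x = inv y → ∃ g : G, g • x = y) (v n : ℕ)
    (hc : {y | y ∈ F ∧ inv y = v}.ncard = n) (hn : n ≠ 0) :
    ∃ X ∈ F, orbit G X = {y | y ∈ F ∧ inv y = v} ∧ (orbit G X).ncard = n := by
  have hne : {y | y ∈ F ∧ inv y = v}.Nonempty := by
    apply Set.nonempty_of_ncard_ne_zero
    rw [hc]; exact hn
  obtain ⟨X, hXF, hXv⟩ := hne
  have h := orbit_eq_class F inv hF hinv htrans hXF
  rw [hXv] at h
  exact ⟨X, hXF, h, by rw [h, hc]⟩

end Cfsg.Agent.Helper22.OrbitClasses
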