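import Cfsg.Agent.Helper27.M24Octad
import Cfsg.Agent.Helper27.M12Card
import Cfsg.Agent.Helper22.OrbitDod

/-!
Orbits of the stabiliser of an octad on octads, by descent certificates.
-/

set_option autoImplicit false

namespace Cfsg.Agent.Helper22.OrbitOct

open Cfsg Cfsg.Agent.Helper27 Cfsg.Agent.Helper22.OrbitDod
open scoped Pointwise

/-- membership test for the stabiliser of the standard octad -/
def cert8 (T : List ℕ) : Bool := tblInCode T && (applyTbl T oct5 == oct5)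

theorem certSound8 : CertSound (stabP (maskSet oct5)) cert8 := by
  intro T hv h
  simp only [cert8, Bool.and_eq_true, beq_iff_eq] at h
  rw [mem_stabP]
  refine ⟨tblPerm_mem_M24 T hv h.1, ?_⟩
  have h1 := maskSet_applyTbl hv oct5
  rw [h.2] at h1
  have h2 : tblPerm T hv • maskSet oct5 = tblPerm T hv • ((tblPerm T hv)⁻¹ • maskSet oct5) :=
    congrArg (fun s => tblPerm T hv • s) h1
  rw [smul_inv_smul] at h2
  exact h2

/-- octad masks meeting the standard octad in `i` points -/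
def octP (i : ℕ) (n : ℕ) : Bool := (popc 24 n == 8) && (popc 24 (n &&& oct5) == i)

/-- descent elements for intersection size 0 -/
def octGens0 : List (List ℕ) := [
  [7,2,3,10,12,11,20,1,13,16,0,18,4,6,5,21,19,14,9,8,17,23,15,22],
  [3,4,1,12,0,14,17,7,22,15,2,5,10,11,8,6,20,16,9,13,18,21,19,23],
  [7,2,10,4,3,15,14,0,11,18,1,19,12,9,22,13,17,21,20,16,5,8,6,23],
  [3,4,12,10,1,17,6,0,22,19,2,21,7,16,13,18,14,9,5,15,20,11,23,8]]

theorem octDesc0 : descOKH cert8 octGens0 (octP 0) 1009728 = true := by decide +kernel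

/-- descent elements for intersection size 2 -/
def octGens2 : List (List ℕ) := [
  [0,10,2,1,4,15,19,3,16,13,12,14,7,5,20,17,6,9,8,18,21,22,11,23],
  [0,12,2,10,1,5,16,3,9,15,7,11,4,17,14,8,19,18,13,6,21,23,22,20],
  [3,0,7,1,10,14,16,2,6,18,4,9,12,5,11,15,20,8,13,17,19,22,23,21],
  [12,0,3,4,2,11,13,7,14,5,10,18,1,16,8,17,20,15,19,21,22,9,23,6],
  [4,2,10,0,1,11,15,7,14,18,12,13,3,19,5,9,17,6,20,22,16,21,8,23],
  [0,3,12,10,1,6,8,2,9,18,7,16,4,15,5,11,23,17,19,14,20,13,21,22],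
  [0,2,3,12,7,16,18,10,8,17,1,9,4,11,6,14,13,20,21,22,5,19,15,23],
  [10,3,0,2,7,13,8,4,15,17,12,11,1,23,9,6,21,16,18,14,22,19,20,5],
  [3,0,10,7,4,20,8,12,14,9,1,15,2,11,5,17,13,23,6,18,19,16,22,21],
  [12,7,3,10,1,17,6,0,5,14,2,8,4,16,11,18,19,15,22,9,23,13,20,21],
  [0,10,1,2,12,20,14,4,8,11,7,13,3,16,15,22,5,9,6,21,17,18,19,23],
  [0,10,1,3,7,16,6,4,5,13,12,8,2,17,14,18,11,20,21,15,9,19,23,22]]

theorem octDesc2 : descOKH cert8 octGens2 (octP 2) 31554 = true := by decide +kernel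

/-- descent elements for intersection size 4 -/
def octGens4 : List (List ℕ) := [
  [10,3,4,12,2,9,21,0,5,19,1,6,7,14,17,16,20,8,15,11,18,22,23,13],
  [4,2,10,0,1,11,15,7,14,18,12,13,3,19,5,9,17,6,20,22,16,21,8,23],
  [3,1,2,12,0,6,14,4,5,11,10,15,7,13,17,16,18,8,9,22,23,19,20,21],
  [7,2,3,0,4,11,8,1,14,6,10,18,12,16,15,9,19,13,21,20,17,22,5,23],
  [10,0,4,12,7,13,5,2,22,9,3,15,1,17,16,20,8,14,19,23,18,11,21,6],
  [4,7,12,10,0,5,22,2,13,6,1,11,3,8,17,21,18,23,19,20,15,16,9,14]]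

theorem octDesc4 : descOKH cert8 octGens4 (octP 4) 10558 = true := by decide +kernel

/-- descent elements for intersection size 8 -/
def octGens8 : List (List ℕ) := [
]

theorem octDesc8 : descOKH cert8 octGens8 (octP 8) 5279 = true := by decide +kernel


theorem oct_same_orbit {a a' : ℕ} (ha : cw (a % 4096) = a) (ha' : cw (a' % 4096) = a') (hp : popc 24 a = 8)
    (hp' : popc 24 a' = 8) (hi : popc 24 (a &&& oct5) = popc 24 (a' &&& oct5))
    (hcases : popc 24 (a &&& oct5) = 0 ∨ popc 24 (a &&& oct5) = 2 ∨ popc 24 (a &&& oct5) = 4 ∨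
      popc 24 (a &&& oct5) = 8) :
    ∃ h ∈ stabP (maskSet oct5), h • maskSet a = maskSet a' := by
  rcases hcases with h | h | h | h
  · exact same_orbit_of_desc certSound8 octDesc0 ha (by simp [octP, hp, h]) ha' (by simp [octP, hp', ← hi, h])
  · exact same_orbit_of_desc certSound8 octDesc2 ha (by simp [octP, hp, h]) ha' (by simp [octP, hp', ← hi, h])
  · exact same_orbit_of_desc certSound8 octDesc4 ha (by simp [octP, hp, h]) ha' (by simp [octP, hp', ← hi, h])
  · exact same_orbit_of_desc certSound8 octDesc8 ha (by simp [octP, hp, h]) ha' (by simp [octP, hp', ← hi, h])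

theorem octad_inter_cases {o o' : Finset GolayPt} (ho : o ∈ octads) (ho' : o' ∈ octads) :
    (o ∩ o').card = 0 ∨ (o ∩ o').card = 2 ∨ (o ∩ o').card = 4 ∨ (o ∩ o').card = 8 := by
  have h1 := Cfsg.Agent.Helper22.GolayComb.card_rel o o'
  have h2 := Cfsg.Agent.Helper22.GolayComb.supp_card
    (Cfsg.Agent.Helper22.GolayComb.symmDiff_mem_supp ho.1 ho'.1)
  have h3 : (o ∩ o').card ≤ 8 := ho.2 ▸ Finset.card_le_card Finset.inter_subset_left
  rw [ho.2, ho'.2] at h1
  omega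

/-- two octads meeting an octad in equally many points lie in one orbit of its stabiliser -/
theorem octad_stab_orbit {o o' o'' : Finset GolayPt} (ho : o ∈ octads) (ho' : o' ∈ octads)
    (ho'' : o'' ∈ octads) (h : (o ∩ o').card = (o ∩ o'').card) :
    ∃ g : Equiv.Perm GolayPt, g ∈ M24 ∧ g • o = o ∧ g • o' = o'' := by
  obtain ⟨g1, hg1, hg1o⟩ := exists_smul_oct5 ho
  have hg0 : g1⁻¹ ∈ M24 := M24.inv_mem hg1
  have hg0d : g1⁻¹ • o = maskSet oct5 := by rw [← hg1o, inv_smul_smul]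
  have hd1 : g1⁻¹ • o' ∈ octads := smul_wordsOfWeight_mem hg0 ho'
  have hd2 : g1⁻¹ • o'' ∈ octads := smul_wordsOfWeight_mem hg0 ho''
  obtain ⟨m', hm', hpop', e'⟩ := exists_mask_of_mem_wordsOfWeight hd1
  obtain ⟨m'', hm'', hpop'', e''⟩ := exists_mask_of_mem_wordsOfWeight hd2
  have hi' : popc 24 (m' &&& oct5) = (o ∩ o').card := by
    rw [← card_maskSet, maskSet_and, ← e', ← hg0d, ← Finset.smul_finset_inter, Finset.card_smul_finset,
      Finset.inter_comm]
  have hi'' : popc 24 (m'' &&& oct5) = (o ∩ o'').card := by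
    rw [← card_maskSet, maskSet_and, ← e'', ← hg0d, ← Finset.smul_finset_inter, Finset.card_smul_finset,
      Finset.inter_comm]
  have hcases := octad_inter_cases ho ho'
  rw [← hi'] at hcases
  obtain ⟨k, hk, hkm⟩ := oct_same_orbit hm' hm'' hpop' hpop'' (by rw [hi', hi'', h]) hcases
  obtain ⟨hkM, hkd⟩ := (mem_stabP _ k).mp hk
  refine ⟨g1 * k * g1⁻¹, M24.mul_mem (M24.mul_mem hg1 hkM) hg0, ?_, ?_⟩
  · rw [mul_smul, mul_smul, hg0d, hkd, hg1o]
  · rw [mul_smul, mul_smul, e', hkm, ← e'', smul_inv_smul]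

end Cfsg.Agent.Helper22.OrbitOct
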