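import Mathlib

/-!
# A simplicity criterion for a transitive group with a simple point stabiliser and paired points

The group acts transitively and faithfully on `552` points which carry an equivariant fixed point free involution
`τ`; the point stabiliser is simple and has exactly the four orbits `{v}`, `{τ v}`, `A`, `τ A`, where `A` has
`275` points.  If neither `{v} ∪ A` nor `{v} ∪ τ A` is a doubly homogeneous set and `τ` is not induced by the group,
then the group is simple.
-/

set_option autoImplicit false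

namespace Cfsg.Agent.Helper22.PairedSimple

open MulAction
open scoped Pointwise

/-- the number of elements of a subgroup which have a given order greater than two is even -/
theorem even_ncard_orderOf {H : Type*} [Group H] [Finite H] (N : Subgroup H) (p : ℕ) (hp : 2 < p) :
    Even {h : H | h ∈ N ∧ orderOf h = p}.ncard := by
  classical
  have := Fintype.ofFinite H
  have h1 : {h : H | h ∈ N ∧ orderOf h = p}.ncard =
      (Finset.univ.filter (fun h : H => h ∈ N ∧ orderOf h = p)).card := by
    rw [← Set.ncard_coe_finset]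
    congr 1
    ext h
    simp
  rw [h1]
  have h2 : ∏ x ∈ Finset.univ.filter (fun h : H => h ∈ N ∧ orderOf h = p), (-1 : ℤ) = 1 := by
    apply Finset.prod_involution (fun h _ => h⁻¹)
    · intro a _
      norm_num
    · intro a ha _ hinv
      have hap : orderOf a = p := (Finset.mem_filter.mp ha).2.2
      have h3 : a ^ 2 = 1 := by
        rw [pow_two]
        nth_rewrite 1 [← hinv]
        exact inv_mul_cancel a
      have h4 := orderOf_dvd_of_pow_eq_one h3
      rw [hap] at h4
      have := Nat.le_of_dvd (by norm_num) h4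
      omega
    · intro a _
      exact inv_inv a
    · intro a ha
      rw [Finset.mem_filter] at ha ⊢
      exact ⟨Finset.mem_univ _, N.inv_mem ha.2.1, by rw [orderOf_inv]; exact ha.2.2⟩
  rw [Finset.prod_const] at h2
  exact (neg_one_pow_eq_one_iff_even (by norm_num)).mp h2

/-- the number of points -/
theorem card_paired {Ω : Type*} [Finite Ω] (τ : Ω → Ω) (hτ2 : ∀ x, τ (τ x) = x) (v : Ω) (A : Set Ω)
    (hA : A.ncard = 275) (hvτ : τ v ≠ v) (hv : v ∉ A) (hτv : τ v ∉ A) (hdisj : ∀ x ∈ A, τ x ∉ A)
    (hcover : ∀ x, x = v ∨ x = τ v ∨ x ∈ A ∨ τ x ∈ A) : Nat.card Ω = 552 := by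
  classical
  have hB : (τ ⁻¹' A).ncard = 275 := by
    have : τ ⁻¹' A = τ '' A := by
      ext x
      constructor
      · intro hx
        exact ⟨τ x, hx, hτ2 x⟩
      · rintro ⟨y, hy, rfl⟩
        show τ (τ y) ∈ A
        rw [hτ2]
        exact hy
    rw [this, Set.ncard_image_of_injective _ (fun a b h => by rw [← hτ2 a, ← hτ2 b, h]), hA]
  have huniv : (Set.univ : Set Ω) = ({v, τ v} ∪ A) ∪ τ ⁻¹' A := by
    ext x
    simp only [Set.mem_univ, true_iff]
    rcases hcover x with h | h | h | h
    · exact Or.inl (Or.inl (Or.inl h))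
    · exact Or.inl (Or.inl (Or.inr h))
    · exact Or.inl (Or.inr h)
    · exact Or.inr h
  have d1 : Disjoint ({v, τ v} : Set Ω) A := by
    rw [Set.disjoint_left]
    rintro x (rfl | hx) hxA
    · exact hv hxA
    · rw [Set.mem_singleton_iff] at hx
      rw [hx] at hxA
      exact hτv hxA
  have d2 : Disjoint (({v, τ v} : Set Ω) ∪ A) (τ ⁻¹' A) := by
    rw [Set.disjoint_left]
    rintro x ((rfl | hx) | hx) hxB
    · exact hτv hxB
    · rw [Set.mem_singleton_iff] at hx
      rw [hx] at hxB
      have : τ (τ v) ∈ A := hxB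
      rw [hτ2] at this
      exact hv this
    · exact hdisj x hx hxB
  rw [← Set.ncard_univ, huniv, Set.ncard_union_eq d2, Set.ncard_union_eq d1, Set.ncard_pair hvτ.symm, hA, hB]

section

variable {G Ω : Type*} [Group G] [MulAction G Ω]

/-- orbit of a subgroup through `v` -/
def orb (N : Subgroup G) (v : Ω) : Set Ω := {x | ∃ n ∈ N, n • v = x}

theorem orb_eq (N : Subgroup G) (v : Ω) : orb N v = orbit N v := by
  ext x
  constructor
  · rintro ⟨n, hn, rfl⟩
    exact ⟨⟨n, hn⟩, rfl⟩
  · rintro ⟨n, rfl⟩
    exact ⟨n.1, n.2, rfl⟩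

/-- if the orbit of a normal subgroup is a point together with an orbit of the point stabiliser, then it is doubly
homogeneous -/
theorem two_trans_contra (N : Subgroup G) (v : Ω) (C : Set Ω)
    (hCtr : ∀ a ∈ C, ∀ b ∈ C, ∃ s : G, s • v = v ∧ s • a = b) (hCO : C ⊆ orb N v)
    (hOC : ∀ x ∈ orb N v, x = v ∨ x ∈ C)
    (h2 : ∃ y1 ∈ C, ∃ y2 ∈ C, y1 ≠ y2 ∧ ∀ g : G, ¬ (g • v = y1 ∧ g • y1 = y2)) : False := by
  obtain ⟨y1, hy1, y2, hy2, hne, hno⟩ := h2
  obtain ⟨n, hn, hnv⟩ := hCO hy1
  obtain ⟨m, hm, hmv⟩ := hCO hy2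
  have hz : n⁻¹ • y2 ∈ orb N v := ⟨n⁻¹ * m, N.mul_mem (N.inv_mem hn) hm, by rw [mul_smul, hmv]⟩
  rcases hOC _ hz with h | h
  · apply hne
    rw [← hnv, ← h, smul_inv_smul]
  · obtain ⟨s, hs, hsz⟩ := hCtr y1 hy1 _ h
    apply hno (n * s)
    constructor
    · rw [mul_smul, hs, hnv]
    · rw [mul_smul, hsz, smul_inv_smul]

end

section regular

variable {G Ω : Type*} [Group G] [Finite G] [MulAction G Ω]

/-- the case of a regular normal subgroup -/
theorem regular_contra (τ : Ω → Ω) (v : Ω) (A : Set Ω) (hA : A.ncard = 275)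
    (N : Subgroup G) (hN : N.Normal)
    (hreg : ∀ n ∈ N, n • v = v → n = 1) (htr : ∀ x : Ω, ∃ n ∈ N, n • v = x)
    (hcover : ∀ x, x = v ∨ x = τ v ∨ x ∈ A ∨ τ x ∈ A)
    (hStr : ∀ a ∈ A, ∀ b ∈ A, ∃ s : G, s • v = v ∧ s • a = b)
    (hBtr : ∀ a ∈ τ ⁻¹' A, ∀ b ∈ τ ⁻¹' A, ∃ s : G, s • v = v ∧ s • a = b)
    (n0 : G) (hn0 : n0 ∈ N) (hn0v : n0 • v = τ v) (hn02 : n0 ^ 2 = 1)
    (x x' : G) (hx : x ∈ N) (hx' : x' ∈ N) (p p' : ℕ) (hp : orderOf x = p) (hp' : orderOf x' = p')
    (hpp : p ≠ p') (hp2 : 2 < p) (hxA : x • v ∈ A) (hxB : x' • v ∈ τ ⁻¹' A) : False := by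
  classical
  have hinj : ∀ a ∈ N, ∀ b ∈ N, a • v = b • v → a = b := by
    intro a ha b hb hab
    have h1 : (b⁻¹ * a) • v = v := by rw [mul_smul, hab, inv_smul_smul]
    have h2 := hreg _ (N.mul_mem (N.inv_mem hb) ha) h1
    exact (inv_mul_eq_one.mp h2).symm
  -- elements with images in the same orbit of the point stabiliser have the same order
  have hord : ∀ a ∈ N, ∀ b ∈ N, ∀ s : G, s • v = v → s • (a • v) = b • v → orderOf b = orderOf a := by
    intro a ha b hb s hs hsab
    have h1 : s * a * s⁻¹ = b := by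
      apply hinj _ (hN.conj_mem a ha s) b hb
      have hs' : s⁻¹ • v = v := by rw [inv_smul_eq_iff, hs]
      rw [mul_smul, mul_smul, hs', hsab]
    rw [← h1, ← MulAut.conj_apply, MulEquiv.orderOf_eq]
  have himg : (fun g : G => g • v) '' {g : G | g ∈ N ∧ orderOf g = p} = A := by
    ext y
    constructor
    · rintro ⟨g, ⟨hgN, hgp⟩, rfl⟩
      show g • v ∈ A
      rcases hcover (g • v) with h | h | h | h
      · exfalso
        have : g = 1 := hreg g hgN h
        rw [this, orderOf_one] at hgp
        omega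
      · exfalso
        have : g = n0 := hinj g hgN n0 hn0 (by rw [h, hn0v])
        rw [this] at hgp
        have h4 := orderOf_dvd_of_pow_eq_one hn02
        rw [hgp] at h4
        have := Nat.le_of_dvd (by norm_num) h4
        omega
      · exact h
      · exfalso
        obtain ⟨s, hs, hsv⟩ := hBtr _ hxB _ h
        have := hord x' hx' g hgN s hs hsv
        rw [hgp, hp'] at this
        exact hpp this
    · intro hy
      obtain ⟨g, hgN, hgv⟩ := htr y
      refine ⟨g, ⟨hgN, ?_⟩, hgv⟩
      obtain ⟨s, hs, hsv⟩ := hStr _ hxA y hy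
      rw [← hgv] at hsv
      rw [hord x hx g hgN s hs hsv, hp]
  have hinjOn : Set.InjOn (fun g : G => g • v) {g : G | g ∈ N ∧ orderOf g = p} := by
    intro a ha b hb hab
    exact hinj a ha.1 b hb.1 hab
  have hcard : {g : G | g ∈ N ∧ orderOf g = p}.ncard = 275 := by
    rw [← hinjOn.ncard_image, himg, hA]
  have heven := even_ncard_orderOf N p hp2
  rw [hcard] at heven
  exact absurd heven (by decide)

end regular

section main

variable {G Ω : Type*} [Group G] [Finite G] [MulAction G Ω] [Finite Ω]

theorem simple_of_paired [IsPretransitive G Ω]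
    (τ : Ω → Ω) (hτ : ∀ (g : G) x, τ (g • x) = g • τ x) (hτ2 : ∀ x, τ (τ x) = x)
    (v : Ω) (A : Set Ω) (hcard : Nat.card Ω = 552) (hA : A.ncard = 275)
    (hdisj : ∀ x ∈ A, τ x ∉ A)
    (hcover : ∀ x, x = v ∨ x = τ v ∨ x ∈ A ∨ τ x ∈ A)
    (hStr : ∀ a ∈ A, ∀ b ∈ A, ∃ s : G, s • v = v ∧ s • a = b)
    (hsimp : IsSimpleGroup (stabilizer G v))
    (h2A : ∃ y1 ∈ A, ∃ y2 ∈ A, y1 ≠ y2 ∧ ∀ g : G, ¬ (g • v = y1 ∧ g • y1 = y2))
    (h2B : ∃ y1 ∈ τ ⁻¹' A, ∃ y2 ∈ τ ⁻¹' A, y1 ≠ y2 ∧ ∀ g : G, ¬ (g • v = y1 ∧ g • y1 = y2))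
    (hnoτ : ¬ ∃ g : G, ∀ x, g • x = τ x) : IsSimpleGroup G := by
  classical
  have hτinj : Function.Injective τ := fun a b h => by rw [← hτ2 a, ← hτ2 b, h]
  have hAne : A.Nonempty := Set.nonempty_of_ncard_ne_zero (by rw [hA]; norm_num)
  have hAfin : A.Finite := Set.toFinite A
  have hBtr : ∀ a ∈ τ ⁻¹' A, ∀ b ∈ τ ⁻¹' A, ∃ s : G, s • v = v ∧ s • a = b := by
    intro a ha b hb
    obtain ⟨s, hs, hsab⟩ := hStr _ ha _ hb
    refine ⟨s, hs, hτinj ?_⟩
    rw [hτ, hsab]
  have hnt : Nontrivial G := by
    obtain ⟨a, b, hab⟩ := hsimp.toNontrivial.exists_pair_ne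
    exact ⟨⟨a.1, b.1, fun h => hab (Subtype.ext h)⟩⟩
  refine ⟨fun N hNn => ?_⟩
  by_cases hbot : N = ⊥
  · exact Or.inl hbot
  right
  -- the orbit of `N`
  have hblock : IsBlock G (orb N v) := by
    rw [orb_eq]
    exact IsBlock.orbit_of_normal v
  have hvO : v ∈ orb N v := ⟨1, N.one_mem, one_smul _ _⟩
  have hOS : ∀ s : G, s • v = v → ∀ x ∈ orb N v, s • x ∈ orb N v := by
    rintro s hs x ⟨n, hn, rfl⟩
    refine ⟨s * n * s⁻¹, hNn.conj_mem n hn s, ?_⟩
    have hs' : s⁻¹ • v = v := by rw [inv_smul_eq_iff, hs]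
    rw [mul_smul, mul_smul, hs']
  have hAO : ∀ a ∈ A, a ∈ orb N v → A ⊆ orb N v := by
    intro a ha haO b hb
    obtain ⟨s, hs, rfl⟩ := hStr a ha b hb
    exact hOS s hs a haO
  have hBO : ∀ a ∈ τ ⁻¹' A, a ∈ orb N v → τ ⁻¹' A ⊆ orb N v := by
    intro a ha haO b hb
    obtain ⟨s, hs, rfl⟩ := hBtr a ha b hb
    exact hOS s hs a haO
  -- if `τ v` lies in the orbit, then the orbit is stable under `τ`
  have hτO : τ v ∈ orb N v → ∀ x ∈ orb N v, τ x ∈ orb N v := by
    rintro ⟨m, hm, hmv⟩ x ⟨n, hn, rfl⟩
    exact ⟨n * m, N.mul_mem hn hm, by rw [mul_smul, hmv, hτ]⟩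
  -- the intersection with the point stabiliser
  have hnorm : (N.subgroupOf (stabilizer G v)).Normal := hNn.subgroupOf _
  have hcases : (∀ n ∈ N, n • v = v → n = 1) ∨ (∀ s : G, s • v = v → s ∈ N) := by
    rcases (IsSimpleGroup.eq_bot_or_eq_top_of_normal (N.subgroupOf (stabilizer G v)) hnorm) with h | h
    · left
      intro n hn hnv
      have hns : n ∈ stabilizer G v := hnv
      have : (⟨n, hns⟩ : stabilizer G v) ∈ N.subgroupOf (stabilizer G v) := hn
      rw [h, Subgroup.mem_bot] at this
      exact congrArg Subtype.val this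
    · right
      intro s hs
      have hss : s ∈ stabilizer G v := hs
      have : (⟨s, hss⟩ : stabilizer G v) ∈ N.subgroupOf (stabilizer G v) := by
        rw [h]
        exact Subgroup.mem_top _
      exact this
  by_cases hA1 : ∃ a ∈ A, a ∈ orb N v
  · obtain ⟨a, ha, haO⟩ := hA1
    have hAsub := hAO a ha haO
    by_cases hB1 : ∃ b ∈ τ ⁻¹' A, b ∈ orb N v
    · -- the orbit is everything
      obtain ⟨b, hb, hbO⟩ := hB1
      have hBsub := hBO b hb hbO
      have hBcard : (τ ⁻¹' A).ncard = 275 := by
        have : τ ⁻¹' A = τ '' A := by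
          ext x
          constructor
          · intro hx
            exact ⟨τ x, hx, hτ2 x⟩
          · rintro ⟨y, hy, rfl⟩
            show τ (τ y) ∈ A
            rw [hτ2]
            exact hy
        rw [this, Set.ncard_image_of_injective _ hτinj, hA]
      have hd : Disjoint A (τ ⁻¹' A) := by
        rw [Set.disjoint_left]
        intro x hx hxB
        exact hdisj x hx hxB
      have hle : (A ∪ τ ⁻¹' A).ncard ≤ (orb N v).ncard :=
        Set.ncard_le_ncard (Set.union_subset hAsub hBsub) (Set.toFinite _)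
      rw [Set.ncard_union_eq hd, hA, hBcard] at hle
      have huniv : orb N v = Set.univ := by
        apply hblock.eq_univ_of_card_lt
        rw [hcard]
        omega
      have htr : ∀ x : Ω, ∃ n ∈ N, n • v = x := by
        intro x
        have : x ∈ orb N v := by rw [huniv]; exact Set.mem_univ x
        exact this
      rcases hcases with hreg | hle'
      · -- the regular case
        exfalso
        have hinj : ∀ a ∈ N, ∀ b ∈ N, a • v = b • v → a = b := by
          intro a ha b hb hab
          have h1 : (b⁻¹ * a) • v = v := by rw [mul_smul, hab, inv_smul_smul]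
          have h2 := hreg _ (N.mul_mem (N.inv_mem hb) ha) h1
          exact (inv_mul_eq_one.mp h2).symm
        have hNcard : Nat.card N = 552 := by
          rw [← hcard]
          apply Nat.card_congr
          apply Equiv.ofBijective (fun n : N => n.1 • v)
          constructor
          · intro a b hab
            exact Subtype.ext (hinj a.1 a.2 b.1 b.2 hab)
          · intro x
            obtain ⟨n, hn, hnv⟩ := htr x
            exact ⟨⟨n, hn⟩, hnv⟩
        obtain ⟨n0, hn0, hn0v⟩ := htr (τ v)
        have hn02 : n0 ^ 2 = 1 := by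
          apply hreg _ (N.pow_mem hn0 2)
          rw [pow_two, mul_smul, hn0v, ← hτ, hn0v, hτ2]
        have : Fact (Nat.Prime 3) := ⟨by norm_num⟩
        have : Fact (Nat.Prime 23) := ⟨by norm_num⟩
        obtain ⟨x3, hx3⟩ := exists_prime_orderOf_dvd_card' (G := N) 3 (by rw [hNcard]; norm_num)
        obtain ⟨x23, hx23⟩ := exists_prime_orderOf_dvd_card' (G := N) 23 (by rw [hNcard]; norm_num)
        rw [← Subgroup.orderOf_coe] at hx3 hx23
        have hord : ∀ a ∈ N, ∀ b ∈ N, ∀ s : G, s • v = v → s • (a • v) = b • v → orderOf b = orderOf a := by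
          intro a ha b hb s hs hsab
          have h1 : s * a * s⁻¹ = b := by
            apply hinj _ (hNn.conj_mem a ha s) b hb
            have hs' : s⁻¹ • v = v := by rw [inv_smul_eq_iff, hs]
            rw [mul_smul, mul_smul, hs', hsab]
          rw [← h1, ← MulAut.conj_apply, MulEquiv.orderOf_eq]
        -- neither image is `v` or `τ v`
        have hnot : ∀ g ∈ N, ∀ p : ℕ, orderOf g = p → 2 < p → g • v ∈ A ∨ g • v ∈ τ ⁻¹' A := by
          intro g hgN p hgp hp2
          rcases hcover (g • v) with h | h | h | h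
          · exfalso
            have : g = 1 := hreg g hgN h
            rw [this, orderOf_one] at hgp
            omega
          · exfalso
            have : g = n0 := hinj g hgN n0 hn0 (by rw [h, hn0v])
            rw [this] at hgp
            have h4 := orderOf_dvd_of_pow_eq_one hn02
            rw [hgp] at h4
            have := Nat.le_of_dvd (by norm_num) h4
            omega
          · exact Or.inl h
          · exact Or.inr h
        rcases hnot x3.1 x3.2 3 hx3 (by norm_num) with h3 | h3
        · rcases hnot x23.1 x23.2 23 hx23 (by norm_num) with h23 | h23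
          · obtain ⟨s, hs, hsv⟩ := hStr _ h3 _ h23
            have := hord x3.1 x3.2 x23.1 x23.2 s hs hsv
            rw [hx3, hx23] at this
            omega
          · exact regular_contra τ v A hA N hNn hreg htr hcover hStr hBtr n0 hn0 hn0v hn02 x3.1 x23.1 x3.2 x23.2
              3 23 hx3 hx23 (by norm_num) (by norm_num) h3 h23
        · rcases hnot x23.1 x23.2 23 hx23 (by norm_num) with h23 | h23
          · exact regular_contra τ v A hA N hNn hreg htr hcover hStr hBtr n0 hn0 hn0v hn02 x23.1 x3.1 x23.2 x3.2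
              23 3 hx23 hx3 (by norm_num) (by norm_num) h23 h3
          · obtain ⟨s, hs, hsv⟩ := hBtr _ h3 _ h23
            have := hord x3.1 x3.2 x23.1 x23.2 s hs hsv
            rw [hx3, hx23] at this
            omega
      · -- the point stabiliser lies in `N`
        rw [eq_top_iff]
        intro g _
        obtain ⟨m, hm, hmv⟩ := htr (g • v)
        have hmg : (m⁻¹ * g) • v = v := by rw [mul_smul, inv_smul_eq_iff, hmv]
        have := N.mul_mem hm (hle' _ hmg)
        rwa [mul_inv_cancel_left] at this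
    · -- the orbit is `{v} ∪ A`
      exfalso
      have hτvO : τ v ∉ orb N v := by
        intro h
        apply hB1
        refine ⟨τ a, ?_, hτO h a haO⟩
        show τ (τ a) ∈ A
        rw [hτ2]
        exact ha
      apply two_trans_contra N v A hStr hAsub ?_ h2A
      intro x hx
      rcases hcover x with h | h | h | h
      · exact Or.inl h
      · rw [h] at hx
        exact absurd hx hτvO
      · exact Or.inr h
      · exact absurd ⟨x, h, hx⟩ hB1
  · by_cases hB1 : ∃ b ∈ τ ⁻¹' A, b ∈ orb N v
    · -- the orbit is `{v} ∪ τ A`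
      exfalso
      obtain ⟨b, hb, hbO⟩ := hB1
      have hBsub := hBO b hb hbO
      have hτvO : τ v ∉ orb N v := by
        intro h
        apply hA1
        exact ⟨τ b, hb, hτO h b hbO⟩
      apply two_trans_contra N v (τ ⁻¹' A) hBtr hBsub ?_ h2B
      intro x hx
      rcases hcover x with h | h | h | h
      · exact Or.inl h
      · rw [h] at hx
        exact absurd hx hτvO
      · exact absurd ⟨x, h, hx⟩ hA1
      · exact Or.inr h
    · -- the orbit lies in `{v, τ v}`
      exfalso
      have hO2 : ∀ x ∈ orb N v, x = v ∨ x = τ v := by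
        intro x hx
        rcases hcover x with h | h | h | h
        · exact Or.inl h
        · exact Or.inr h
        · exact absurd ⟨x, h, hx⟩ hA1
        · exact absurd ⟨x, h, hx⟩ hB1
      rcases hcases with hreg | hle'
      · -- a nontrivial element of `N` induces `τ`
        have : ∃ n0 ∈ N, n0 ≠ 1 := by
          by_contra hcon
          apply hbot
          rw [Subgroup.eq_bot_iff_forall]
          intro n hn
          by_contra hn1
          exact hcon ⟨n, hn, hn1⟩
        obtain ⟨n0, hn0, hn01⟩ := this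
        apply hnoτ
        refine ⟨n0, fun x => ?_⟩
        obtain ⟨g, rfl⟩ := exists_smul_eq G v x
        have hm : g⁻¹ * n0 * g ∈ N := by
          have := hNn.conj_mem n0 hn0 g⁻¹
          rwa [inv_inv] at this
        have hmO : (g⁻¹ * n0 * g) • v ∈ orb N v := ⟨_, hm, rfl⟩
        rcases hO2 _ hmO with h | h
        · exfalso
          have := hreg _ hm h
          apply hn01
          have h5 : n0 = g * (g⁻¹ * n0 * g) * g⁻¹ := by group
          rw [h5, this]
          group
        · rw [hτ, ← h, mul_smul, mul_smul, smul_inv_smul]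
      · -- `A` would be a single point
        obtain ⟨a, ha⟩ := hAne
        have hsub : A ⊆ {a} := by
          intro a' ha'
          obtain ⟨g, hg⟩ := exists_smul_eq G v a
          obtain ⟨s, hs, hsa⟩ := hStr a ha a' ha'
          have hsN := hle' s hs
          have hm : g⁻¹ * s * g ∈ N := by
            have := hNn.conj_mem s hsN g⁻¹
            rwa [inv_inv] at this
          have hmO : (g⁻¹ * s * g) • v ∈ orb N v := ⟨_, hm, rfl⟩
          have e : (g⁻¹ * s * g) • v = g⁻¹ • a' := by rw [mul_smul, mul_smul, hg, hsa]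
          rw [e] at hmO
          rcases hO2 _ hmO with h | h
          · rw [inv_smul_eq_iff, hg] at h
            exact h
          · exfalso
            rw [inv_smul_eq_iff, ← hτ, hg] at h
            rw [h] at ha'
            exact hdisj a ha ha'
        have := Set.ncard_le_ncard hsub (Set.toFinite _)
        rw [hA, Set.ncard_singleton] at this
        omega

end main

end Cfsg.Agent.Helper22.PairedSimple
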