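import Cfsg.Agent.Helper17.SchreierSims

/-!
# Verified stabiliser chains for permutation groups on a hundred points

Permutations of `Fin 100` are described by tables packed into natural numbers (seven bits per entry).  A chain of
levels (base point, orbit, transversal tables, a tree certificate for the membership of the transversal elements,
and for each Schreier generator a factorisation through the lower levels) is checked by a Boolean function, and the
check implies the order of the generated group and the membership of all products of transversal elements.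
-/

set_option autoImplicit false

namespace Cfsg.Agent.Helper22.PermChain

open Cfsg.Agent.Helper17

/-- the permutations of a hundred points -/
abbrev Pm : Type := Equiv.Perm (Fin 100)

/-- an entry of a table packed into a natural number, seven bits per entry -/
def look (t i : ℕ) : ℕ := (t >>> (7 * i)) % 128

/-- the function of a table -/
def fn (t : ℕ) (i : Fin 100) : Fin 100 := ⟨look t i.1 % 100, Nat.mod_lt _ (by norm_num)⟩

/-- a Boolean function holds for the first hundred numbers -/
def all100 (f : ℕ → Bool) : Bool := (List.range 100).all f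

theorem all100_spec {f : ℕ → Bool} (h : all100 f = true) (i : ℕ) (hi : i < 100) : f i = true :=
  List.all_eq_true.mp h i (List.mem_range.mpr hi)

/-- the Boolean test for a table to define a permutation -/
def goodB (t : ℕ) : Bool :=
  (all100 fun i => decide (look t i < 100)) && decide (((List.range 100).map (look t)).Nodup)

theorem look_lt {t : ℕ} (h : goodB t = true) (i : ℕ) (hi : i < 100) : look t i < 100 := by
  unfold goodB at h
  rw [Bool.and_eq_true] at h
  exact of_decide_eq_true (all100_spec h.1 i hi)

theorem fn_val {t : ℕ} (h : goodB t = true) (i : Fin 100) : (fn t i).1 = look t i.1 := by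
  show look t i.1 % 100 = look t i.1
  exact Nat.mod_eq_of_lt (look_lt h i.1 i.2)

theorem fn_bijective {t : ℕ} (h : goodB t = true) : Function.Bijective (fn t) := by
  rw [← Finite.injective_iff_bijective]
  intro i j hij
  have h1 : look t i.1 = look t j.1 := by rw [← fn_val h i, ← fn_val h j, hij]
  have hnd : ((List.range 100).map (look t)).Nodup := by
    unfold goodB at h
    rw [Bool.and_eq_true] at h
    exact of_decide_eq_true h.2
  have := List.inj_on_of_nodup_map hnd (List.mem_range.mpr i.2) (List.mem_range.mpr j.2) h1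
  exact Fin.ext this

/-- the permutation of a table -/
noncomputable def P (t : ℕ) : Pm :=
  if h : Function.Bijective (fn t) then Equiv.ofBijective (fn t) h else 1

/-- a function on the natural numbers describing a permutation -/
def Rep (f : ℕ → ℕ) (g : Pm) : Prop := ∀ i : Fin 100, (g i).1 = f i.1

theorem rep_P {t : ℕ} (h : goodB t = true) : Rep (look t) (P t) := by
  intro i
  unfold P
  rw [dif_pos (fn_bijective h)]
  exact fn_val h i

theorem rep_one : Rep (fun i => i) 1 := fun _ => rfl

theorem rep_mul {f f' : ℕ → ℕ} {g g' : Pm} (h : Rep f g) (h' : Rep f' g') :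
    Rep (fun i => f (f' i)) (g * g') := by
  intro i
  show (g (g' i)).1 = f (f' i.1)
  rw [h, h']

theorem rep_congr {f f' : ℕ → ℕ} {g : Pm} (h : Rep f g) (hff : ∀ i < 100, f' i = f i) : Rep f' g :=
  fun i => by rw [h, hff i.1 i.2]

theorem rep_unique {f : ℕ → ℕ} {g g' : Pm} (h : Rep f g) (h' : Rep f g') : g = g' := by
  apply Equiv.ext
  intro i
  apply Fin.ext
  rw [h, h']

/-- the group generated by a list of tables -/
noncomputable def Grp (Y : List ℕ) : Subgroup Pm := Subgroup.closure {g | ∃ y ∈ Y, g = P y}

theorem P_mem_Grp {Y : List ℕ} {y : ℕ} (hy : y ∈ Y) : P y ∈ Grp Y := Subgroup.subset_closure ⟨y, hy, rfl⟩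

theorem Grp_mono {Y Y' : List ℕ} (h : ∀ y ∈ Y', y ∈ Y) : Grp Y' ≤ Grp Y := by
  apply Subgroup.closure_mono
  rintro g ⟨y, hy, rfl⟩
  exact ⟨y, h y hy, rfl⟩

theorem Grp_fix {Y : List ℕ} (hY : ∀ y ∈ Y, goodB y = true) {b : ℕ} (hb : b < 100)
    (hfix : ∀ y ∈ Y, look y b = b) : ∀ g ∈ Grp Y, g ⟨b, hb⟩ = ⟨b, hb⟩ := by
  have hle : Grp Y ≤ MulAction.stabilizer Pm (⟨b, hb⟩ : Fin 100) := by
    unfold Grp
    rw [Subgroup.closure_le]
    rintro g ⟨y, hy, rfl⟩
    rw [SetLike.mem_coe, MulAction.mem_stabilizer_iff]
    apply Fin.ext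
    show (P y ⟨b, hb⟩).1 = b
    rw [rep_P (hY y hy)]
    exact hfix y hy
  intro g hg
  exact MulAction.mem_stabilizer_iff.mp (hle hg)

/-- a level of a stabiliser chain -/
structure Lvl where
  /-- the base point -/
  b : ℕ
  /-- the orbit of the base point -/
  orb : List ℕ
  /-- the tables of the transversal elements, by point -/
  tr : List ℕ
  /-- the tree: a point, an earlier point, the index of a generator -/
  tree : List (ℕ × ℕ × ℕ)
  /-- for each point of the orbit and each generator, a path through the lower levels -/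
  cert : List (List ℕ)

/-- the table of a transversal element -/
def tbl (L : Lvl) (β : ℕ) : ℕ := L.tr.getD β 0

/-- the product of the transversal elements along a path, as a function -/
def pathLook : List Lvl → List ℕ → ℕ → ℕ
  | [], _, i => i
  | _ :: _, [], i => i
  | L :: ls, β :: p, i => look (tbl L β) (pathLook ls p i)

/-- a path with one point in the orbit of each level -/
def pathValid : List Lvl → List ℕ → Bool
  | [], [] => true
  | [], _ :: _ => false
  | _ :: _, [] => false
  | L :: ls, β :: p => L.orb.contains β && pathValid ls p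

/-- the check of the tree certificate -/
def treeOK (Y : List ℕ) (L : Lvl) : List (ℕ × ℕ × ℕ) → List ℕ → Bool
  | [], done => L.orb.all fun β => done.contains β
  | (β, β', j) :: rest, done =>
      done.contains β' && decide (j < Y.length) &&
        (all100 fun i => look (tbl L β) i == look (Y.getD j 0) (look (tbl L β') i)) &&
          treeOK Y L rest (β :: done)

/-- the check of the Schreier generators -/
def certOK (Y : List ℕ) (L : Lvl) (ls : List Lvl) : Bool :=
  (List.range L.orb.length).all fun k => (List.range Y.length).all fun j =>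
    pathValid ls (L.cert.getD (k * Y.length + j) []) && L.orb.contains (look (Y.getD j 0) (L.orb.getD k 0)) &&
      all100 fun i => look (Y.getD j 0) (look (tbl L (L.orb.getD k 0)) i) ==
        look (tbl L (look (Y.getD j 0) (L.orb.getD k 0))) (pathLook ls (L.cert.getD (k * Y.length + j) []) i)

/-- the check of a level -/
def levelOK (Y : List ℕ) (L : Lvl) (ls : List Lvl) : Bool :=
  L.orb.contains L.b && decide L.orb.Nodup && (L.orb.all fun β => decide (β < 100)) &&
    (all100 fun i => look (tbl L L.b) i == i) && (L.orb.all fun β => look (tbl L β) L.b == β) &&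
      treeOK Y L L.tree [L.b] && certOK Y L ls

/-- the check of a chain -/
def chainOK : List ℕ → List Lvl → Bool
  | Y, [] => Y.isEmpty
  | Y, L :: ls => levelOK Y L ls && chainOK (Y.filter fun y => look y L.b == L.b) ls

theorem tree_sound (Y : List ℕ) (hY : ∀ y ∈ Y, goodB y = true) (L : Lvl) :
    ∀ (tr : List (ℕ × ℕ × ℕ)) (done : List ℕ),
      (∀ δ ∈ done, ∃ g ∈ Grp Y, Rep (look (tbl L δ)) g) → treeOK Y L tr done = true →
        ∀ β ∈ L.orb, ∃ g ∈ Grp Y, Rep (look (tbl L β)) g := by
  intro tr
  induction tr with
  | nil =>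
    intro done hdone h β hβ
    have h1 := List.all_eq_true.mp h β hβ
    exact hdone β (by simpa using h1)
  | cons e rest ih =>
    obtain ⟨β, β', j⟩ := e
    intro done hdone h
    simp only [treeOK, Bool.and_eq_true, decide_eq_true_eq] at h
    obtain ⟨⟨⟨h1, h2⟩, h3⟩, h4⟩ := h
    apply ih (β :: done) _ h4
    intro δ hδ
    rcases List.mem_cons.mp hδ with rfl | hδ
    · obtain ⟨g', hg', hrep'⟩ := hdone β' (by simpa using h1)
      have hy : Y.getD j 0 ∈ Y := by
        rw [List.getD_eq_getElem _ _ h2]
        exact List.getElem_mem h2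
      refine ⟨P (Y.getD j 0) * g', Subgroup.mul_mem _ (P_mem_Grp hy) hg', ?_⟩
      apply rep_congr (rep_mul (rep_P (hY _ hy)) hrep')
      intro i hi
      exact beq_iff_eq.mp (all100_spec h3 i hi)
    · exact hdone δ hδ

theorem card_filter_orb (orb : List ℕ) (hnd : orb.Nodup) (hlt : ∀ β ∈ orb, β < 100) :
    (Finset.univ.filter fun x : Fin 100 => x.1 ∈ orb).card = orb.length := by
  rw [← List.toFinset_card_of_nodup hnd, ← Finset.card_image_of_injective _ Fin.val_injective]
  congr 1
  ext β
  simp only [Finset.mem_image, Finset.mem_filter, Finset.mem_univ, true_and, List.mem_toFinset]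
  constructor
  · rintro ⟨x, hx, rfl⟩
    exact hx
  · intro hβ
    exact ⟨⟨β, hlt β hβ⟩, hβ, rfl⟩

/-- the soundness of the check of a chain -/
theorem chain_sound : ∀ (ls : List Lvl) (Y : List ℕ), (∀ y ∈ Y, goodB y = true) → chainOK Y ls = true →
    Nat.card (Grp Y) = (ls.map fun L => L.orb.length).prod ∧
      ∀ p, pathValid ls p = true → ∃ g ∈ Grp Y, Rep (pathLook ls p) g := by
  intro ls
  induction ls with
  | nil =>
    intro Y _ h
    have hYe : Y = [] := by simpa [chainOK] using h
    subst hYe
    have hbot : Grp [] = ⊥ := by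
      unfold Grp
      simp
    refine ⟨by rw [hbot]; simp, ?_⟩
    intro p _
    exact ⟨1, Subgroup.one_mem _, fun _ => rfl⟩
  | cons L ls ih =>
    intro Y hY h
    classical
    simp only [chainOK, Bool.and_eq_true] at h
    obtain ⟨hL, hrest⟩ := h
    have hY'sub : ∀ y ∈ Y.filter (fun y => look y L.b == L.b), y ∈ Y := fun y hy => (List.mem_filter.mp hy).1
    have hY'fix : ∀ y ∈ Y.filter (fun y => look y L.b == L.b), look y L.b = L.b := fun y hy => by
      simpa using (List.mem_filter.mp hy).2
    have hY'good : ∀ y ∈ Y.filter (fun y => look y L.b == L.b), goodB y = true := fun y hy => hY y (hY'sub y hy)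
    obtain ⟨ihcard, ihpath⟩ := ih _ hY'good hrest
    simp only [levelOK, Bool.and_eq_true, decide_eq_true_eq] at hL
    obtain ⟨⟨⟨⟨⟨⟨hb, hnd⟩, hlt⟩, hid⟩, hTb⟩, htree⟩, hcert⟩ := hL
    have hb' : L.b ∈ L.orb := by simpa using hb
    have hlt' : ∀ β ∈ L.orb, β < 100 := fun β hβ => of_decide_eq_true (List.all_eq_true.mp hlt β hβ)
    have hblt : L.b < 100 := hlt' _ hb'
    have hidrep : Rep (look (tbl L L.b)) 1 := by
      apply rep_congr rep_one
      intro i hi
      exact beq_iff_eq.mp (all100_spec hid i hi)
    have htr : ∀ β ∈ L.orb, ∃ g ∈ Grp Y, Rep (look (tbl L β)) g := by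
      apply tree_sound Y hY L L.tree [L.b] _ htree
      intro δ hδ
      rw [List.mem_singleton] at hδ
      subst hδ
      exact ⟨1, Subgroup.one_mem _, hidrep⟩
    -- the transversal
    let T : Fin 100 → Pm := fun β =>
      if h : ∃ g ∈ Grp Y, Rep (look (tbl L β.1)) g then Classical.choose h else 1
    have hT : ∀ β : Fin 100, β.1 ∈ L.orb → T β ∈ Grp Y ∧ Rep (look (tbl L β.1)) (T β) := by
      intro β hβ
      have hex := htr β.1 hβ
      have : T β = Classical.choose hex := dif_pos hex
      rw [this]
      exact Classical.choose_spec hex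
    let O : Finset (Fin 100) := Finset.univ.filter fun x : Fin 100 => x.1 ∈ L.orb
    have hO : ∀ x : Fin 100, x ∈ O ↔ x.1 ∈ L.orb := fun x => by simp [O]
    have hH'fix := Grp_fix hY'good hblt hY'fix
    have hH'le : Grp (Y.filter fun y => look y L.b == L.b) ≤ Grp Y := Grp_mono hY'sub
    have hTb' : ∀ β ∈ O, T β ⟨L.b, hblt⟩ = β := by
      intro β hβ
      apply Fin.ext
      rw [(hT β ((hO β).mp hβ)).2]
      exact beq_iff_eq.mp (List.all_eq_true.mp hTb β.1 ((hO β).mp hβ))
    have hT1 : T ⟨L.b, hblt⟩ = 1 := rep_unique (hT ⟨L.b, hblt⟩ hb').2 hidrep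
    have hS : ∀ β ∈ O, ∀ y ∈ {g : Pm | ∃ y ∈ Y, g = P y},
        y β ∈ O ∧ (T (y β))⁻¹ * y * T β ∈ Grp (Y.filter fun y => look y L.b == L.b) := by
      rintro β hβ _ ⟨y, hy, rfl⟩
      have hβ' := (hO β).mp hβ
      obtain ⟨k, hk, hkβ⟩ := List.mem_iff_getElem.mp hβ'
      obtain ⟨j, hj, hjy⟩ := List.mem_iff_getElem.mp hy
      have hc := List.all_eq_true.mp (List.all_eq_true.mp hcert k (List.mem_range.mpr hk)) j (List.mem_range.mpr hj)
      rw [List.getD_eq_getElem _ _ hk, List.getD_eq_getElem _ _ hj, hkβ, hjy] at hc
      simp only [Bool.and_eq_true] at hc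
      obtain ⟨⟨hc1, hc2⟩, hc3⟩ := hc
      have hyβ : (P y β).1 = look y β.1 := rep_P (hY y hy) β
      have hmem : (P y β).1 ∈ L.orb := by
        rw [hyβ]
        simpa using hc2
      refine ⟨(hO _).mpr hmem, ?_⟩
      obtain ⟨gp, hgp, hgprep⟩ := ihpath _ hc1
      have heq : P y * T β = T (P y β) * gp := by
        apply rep_unique (rep_mul (rep_P (hY y hy)) (hT β hβ').2)
        apply rep_congr (rep_mul (hT _ hmem).2 hgprep)
        intro i hi
        rw [hyβ]
        exact beq_iff_eq.mp (all100_spec hc3 i hi)
      have : (T (P y β))⁻¹ * P y * T β = gp := by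
        rw [mul_assoc, heq]
        group
      rw [this]
      exact hgp
    have hcard := SchreierSims.card_eq {g : Pm | ∃ y ∈ Y, g = P y} (Grp (Y.filter fun y => look y L.b == L.b))
      ⟨L.b, hblt⟩ O T ((hO _).mpr hb') hT1 hTb' (fun β hβ => (hT β ((hO β).mp hβ)).1) hS hH'fix hH'le
    constructor
    · show Nat.card (Grp Y) = _
      rw [List.map_cons, List.prod_cons, ← ihcard, ← card_filter_orb L.orb hnd hlt']
      exact hcard
    · intro p hp
      cases p with
      | nil => simp [pathValid] at hp
      | cons β p' =>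
        simp only [pathValid, Bool.and_eq_true] at hp
        obtain ⟨hp1, hp2⟩ := hp
        have hβ : β ∈ L.orb := by simpa using hp1
        obtain ⟨gp, hgp, hgprep⟩ := ihpath p' hp2
        obtain ⟨hTm, hTrep⟩ := hT ⟨β, hlt' β hβ⟩ hβ
        exact ⟨T ⟨β, hlt' β hβ⟩ * gp, Subgroup.mul_mem _ hTm (hH'le hgp),
          rep_congr (rep_mul hTrep hgprep) (fun _ _ => rfl)⟩

end Cfsg.Agent.Helper22.PermChain
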