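import Cfsg.Agent.Helper17.SchreierSims

/-!
# Verified stabiliser chains for permutation groups, with packed data

Permutations of `Fin n` are described by tables packed into natural numbers (`w` bits per entry).  A chain of
levels (base point, orbit, transversal tables, a tree certificate for the membership of the transversal elements,
and for each Schreier generator a factorisation through the lower levels) is checked by a Boolean function, and the
check implies the order of the generated group and the membership of all products of transversal elements.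

All the data of a level are packed into natural numbers, so that the kernel reaches every entry by a shift.  The
kernel evaluates the arguments of a function lazily; the checks force the tables to numerals before the loops.
-/

set_option autoImplicit false

namespace Cfsg.Agent.Helper22.PermPack

/-- evaluate a natural number before passing it on -/
def withNat (n : ℕ) (k : ℕ → Bool) : Bool :=
  match n with
  | 0 => k 0
  | m + 1 => k (m + 1)

theorem withNat_eq (n : ℕ) (k : ℕ → Bool) : withNat n k = k n := by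
  cases n <;> rfl

/-- evaluate a list of natural numbers before passing it on -/
def withList : List ℕ → (List ℕ → Bool) → Bool
  | [], k => k []
  | a :: l, k => withNat a fun a' => withList l fun l' => k (a' :: l')

theorem withList_eq (l : List ℕ) (k : List ℕ → Bool) : withList l k = k l := by
  induction l generalizing k with
  | nil => rfl
  | cons a l ih =>
    show withNat a (fun a' => withList l fun l' => k (a' :: l')) = k (a :: l)
    rw [withNat_eq, ih]

/-- the entry of width `w` at the place `k` of a packed list -/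
def slot (w P k : ℕ) : ℕ := Nat.mod (Nat.shiftRight P (Nat.mul w k)) (Nat.pow 2 w)

variable (n w : ℕ)

/-- a Boolean function holds for the first `n` numbers -/
def allN (f : ℕ → Bool) : Bool := Nat.rec true (fun i acc => f i && acc) n

theorem allN_succ (n : ℕ) (f : ℕ → Bool) : allN (n + 1) f = (f n && allN n f) := rfl

theorem allN_spec {n : ℕ} {f : ℕ → Bool} (h : allN n f = true) (i : ℕ) (hi : i < n) : f i = true := by
  induction n with
  | zero => omega
  | succ n ih =>
    rw [allN_succ, Bool.and_eq_true] at h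
    rcases Nat.lt_succ_iff_lt_or_eq.mp hi with h' | h'
    · exact ih h.2 h'
    · rw [h']
      exact h.1

/-- a table defines a permutation of the first `n` numbers -/
def Good (t : ℕ) : Prop := (∀ i < n, slot w t i < n) ∧ ∀ i < n, ∀ j < n, slot w t i = slot w t j → i = j

/-- the set of the values of a table, as a bit mask -/
def maskOf (t : ℕ) : ℕ := (List.range n).foldl (fun m i => m ||| 2 ^ slot w t i) 0

/-- the test for a table to define a permutation -/
def goodB (t : ℕ) : Bool := (allN n fun i => Nat.blt (slot w t i) n) && Nat.beq (maskOf n w t) (2 ^ n - 1)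

theorem testBit_foldl (f : ℕ → ℕ) (b : ℕ) : ∀ (l : List ℕ) (m : ℕ),
    (l.foldl (fun m i => m ||| 2 ^ f i) m).testBit b = true ↔ m.testBit b = true ∨ ∃ i ∈ l, f i = b
  | [], m => by simp
  | a :: l, m => by
    rw [List.foldl_cons, testBit_foldl f b l, Nat.testBit_or, Bool.or_eq_true, Nat.testBit_two_pow,
      decide_eq_true_eq]
    constructor
    · rintro ((h | h) | ⟨i, hi, h⟩)
      · exact Or.inl h
      · exact Or.inr ⟨a, List.mem_cons_self, h⟩
      · exact Or.inr ⟨i, List.mem_cons_of_mem _ hi, h⟩
    · rintro (h | ⟨i, hi, h⟩)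
      · exact Or.inl (Or.inl h)
      · rcases List.mem_cons.mp hi with rfl | hi
        · exact Or.inl (Or.inr h)
        · exact Or.inr ⟨i, hi, h⟩

theorem good_of_goodB {n w t : ℕ} (h : goodB n w t = true) : Good n w t := by
  unfold goodB at h
  rw [Bool.and_eq_true] at h
  obtain ⟨h1, h2⟩ := h
  have h2 := Nat.eq_of_beq_eq_true h2
  have hlt : ∀ i < n, slot w t i < n := fun i hi => Nat.blt_eq.mp (allN_spec h1 i hi)
  refine ⟨hlt, ?_⟩
  have hsurj : ∀ b < n, ∃ i < n, slot w t i = b := by
    intro b hb
    have hb' : (maskOf n w t).testBit b = true := by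
      rw [h2, Nat.testBit_two_pow_sub_one, decide_eq_true_eq]
      exact hb
    unfold maskOf at hb'
    rw [testBit_foldl] at hb'
    rcases hb' with hb' | ⟨i, hi, hib⟩
    · simp at hb'
    · exact ⟨i, List.mem_range.mp hi, hib⟩
  let f : Fin n → Fin n := fun i => ⟨slot w t i.1, hlt i.1 i.2⟩
  have hfs : Function.Surjective f := by
    intro b
    obtain ⟨i, hi, hib⟩ := hsurj b.1 b.2
    exact ⟨⟨i, hi⟩, Fin.ext hib⟩
  have hfi : Function.Injective f := Finite.injective_iff_surjective.mpr hfs
  intro i hi j hj hij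
  have := hfi (a₁ := ⟨i, hi⟩) (a₂ := ⟨j, hj⟩) (Fin.ext hij)
  exact congrArg Fin.val this

/-- the permutations -/
abbrev Pm : Type := Equiv.Perm (Fin n)

/-- a function on the natural numbers describing a permutation -/
def Rep {n : ℕ} (f : ℕ → ℕ) (g : Pm n) : Prop := ∀ i : Fin n, (g i).1 = f i.1

theorem rep_one {n : ℕ} : Rep (n := n) (fun i => i) 1 := fun _ => rfl

theorem rep_mul {n : ℕ} {f f' : ℕ → ℕ} {g g' : Pm n} (h : Rep f g) (h' : Rep f' g') :
    Rep (fun i => f (f' i)) (g * g') := by
  intro i
  show (g (g' i)).1 = f (f' i.1)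
  rw [h, h']

theorem rep_congr {n : ℕ} {f f' : ℕ → ℕ} {g : Pm n} (h : Rep f g) (hff : ∀ i < n, f' i = f i) : Rep f' g :=
  fun i => by rw [h, hff i.1 i.2]

theorem rep_unique {n : ℕ} {f : ℕ → ℕ} {g g' : Pm n} (h : Rep f g) (h' : Rep f g') : g = g' := by
  apply Equiv.ext
  intro i
  apply Fin.ext
  rw [h, h']

theorem exists_rep {n w t : ℕ} (h : Good n w t) : ∃ g : Pm n, Rep (slot w t) g := by
  let f : Fin n → Fin n := fun i => ⟨slot w t i.1, h.1 i.1 i.2⟩
  have hfi : Function.Injective f := by
    intro i j hij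
    exact Fin.ext (h.2 i.1 i.2 j.1 j.2 (congrArg Fin.val hij))
  exact ⟨Equiv.ofBijective f (Finite.injective_iff_bijective.mp hfi), fun _ => rfl⟩

open Classical in
/-- the permutation of a table -/
noncomputable def P (t : ℕ) : Pm n :=
  if h : ∃ g : Pm n, Rep (slot w t) g then Classical.choose h else 1

theorem rep_P {n w t : ℕ} (h : Good n w t) : Rep (slot w t) (P n w t) := by
  unfold P
  rw [dif_pos (exists_rep h)]
  exact Classical.choose_spec (exists_rep h)

/-- the group generated by a list of tables -/
noncomputable def Grp (Y : List ℕ) : Subgroup (Pm n) := Subgroup.closure {g | ∃ y ∈ Y, g = P n w y}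

theorem P_mem_Grp {n w : ℕ} {Y : List ℕ} {y : ℕ} (hy : y ∈ Y) : P n w y ∈ Grp n w Y :=
  Subgroup.subset_closure ⟨y, hy, rfl⟩

theorem Grp_mono {n w : ℕ} {Y Y' : List ℕ} (h : ∀ y ∈ Y', y ∈ Y) : Grp n w Y' ≤ Grp n w Y := by
  apply Subgroup.closure_mono
  rintro g ⟨y, hy, rfl⟩
  exact ⟨y, h y hy, rfl⟩

theorem Grp_fix {n w : ℕ} {Y : List ℕ} (hY : ∀ y ∈ Y, Good n w y) {b : ℕ} (hb : b < n)
    (hfix : ∀ y ∈ Y, slot w y b = b) : ∀ g ∈ Grp n w Y, g ⟨b, hb⟩ = ⟨b, hb⟩ := by
  have hle : Grp n w Y ≤ MulAction.stabilizer (Pm n) (⟨b, hb⟩ : Fin n) := by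
    unfold Grp
    rw [Subgroup.closure_le]
    rintro g ⟨y, hy, rfl⟩
    rw [SetLike.mem_coe, MulAction.mem_stabilizer_iff]
    apply Fin.ext
    show (P n w y ⟨b, hb⟩).1 = b
    rw [rep_P (hY y hy)]
    exact hfix y hy
  intro g hg
  exact MulAction.mem_stabilizer_iff.mp (hle hg)

/-- a level of a stabiliser chain, packed -/
structure Lv where
  /-- the base point -/
  b : ℕ
  /-- the length of the orbit -/
  m : ℕ
  /-- the points of the orbit, `w` bits each; the first one is the base point -/
  orb : ℕ
  /-- for each point of the orbit its place in the orbit, `w` bits each -/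
  pos : ℕ
  /-- the tables of the transversal elements, by place, `n * w` bits each -/
  tr : ℕ
  /-- the tree: for each place a smaller place and the index of a generator, `w` bits each -/
  tree : ℕ
  /-- for each place and each generator, a path through the lower levels, `w` bits for each level -/
  cert : ℕ

/-- the table of a transversal element -/
def tab (L : Lv) (k : ℕ) : ℕ := slot (n * w) L.tr k

/-- a point of the orbit -/
def pt (L : Lv) (k : ℕ) : ℕ := slot w L.orb k

/-- the tables along a path -/
def pathTabs : List Lv → List ℕ → List ℕ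
  | [], _ => []
  | _ :: _, [] => []
  | L :: ls, k :: p => tab n w L k :: pathTabs ls p

/-- the composition of a list of tables -/
def compLook : List ℕ → ℕ → ℕ
  | [], i => i
  | t :: ts, i => slot w t (compLook ts i)

/-- the product of the transversal elements along a path, as a function -/
def pathLook (ls : List Lv) (p : List ℕ) (i : ℕ) : ℕ := compLook w (pathTabs n w ls p) i

/-- a path with one place of each level -/
def pathValid : List Lv → List ℕ → Bool
  | [], [] => true
  | [], _ :: _ => false
  | _ :: _, [] => false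
  | L :: ls, k :: p => decide (k < L.m) && pathValid ls p

/-- the path packed into a number -/
def decodePath : ℕ → ℕ → List ℕ
  | 0, _ => []
  | d + 1, e => Nat.mod e (Nat.pow 2 w) :: decodePath d (Nat.shiftRight e w)

/-- the comparison of two products of tables, the second one along a path -/
def rowCheck (y a bq : ℕ) : List ℕ → Bool
  | [] => allN n fun i => Nat.beq (slot w y (slot w a i)) (slot w bq i)
  | [t1] => allN n fun i => Nat.beq (slot w y (slot w a i)) (slot w bq (slot w t1 i))
  | [t1, t2] => allN n fun i => Nat.beq (slot w y (slot w a i)) (slot w bq (slot w t1 (slot w t2 i)))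
  | [t1, t2, t3] =>
    allN n fun i => Nat.beq (slot w y (slot w a i)) (slot w bq (slot w t1 (slot w t2 (slot w t3 i))))
  | t1 :: t2 :: t3 :: t4 :: ts =>
    allN n fun i => Nat.beq (slot w y (slot w a i)) (slot w bq (compLook w (t1 :: t2 :: t3 :: t4 :: ts) i))

theorem rowCheck_spec {n w y a bq : ℕ} {ts : List ℕ} (h : rowCheck n w y a bq ts = true) (i : ℕ) (hi : i < n) :
    slot w y (slot w a i) = slot w bq (compLook w ts i) := by
  match ts, h with
  | [], h => exact Nat.eq_of_beq_eq_true (allN_spec h i hi)
  | [t1], h => exact Nat.eq_of_beq_eq_true (allN_spec h i hi)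
  | [t1, t2], h => exact Nat.eq_of_beq_eq_true (allN_spec h i hi)
  | [t1, t2, t3], h => exact Nat.eq_of_beq_eq_true (allN_spec h i hi)
  | t1 :: t2 :: t3 :: t4 :: ts, h => exact Nat.eq_of_beq_eq_true (allN_spec h i hi)

/-- the check of the tree certificate -/
def treeOK (Y : List ℕ) (L : Lv) : Bool :=
  allN L.m fun k => Nat.beq k 0 ||
    withNat (slot (2 * w) L.tree k) fun e =>
      Nat.blt (Nat.mod e (Nat.pow 2 w)) k && Nat.blt (Nat.shiftRight e w) Y.length &&
        withNat (tab n w L k) fun a => withNat (Y.getD (Nat.shiftRight e w) 0) fun y =>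
          withNat (tab n w L (Nat.mod e (Nat.pow 2 w))) fun b =>
            allN n fun i => Nat.beq (slot w a i) (slot w y (slot w b i))

/-- the check of the Schreier generators of one point of the orbit -/
def rowOK (L : Lv) (ls : List Lv) (β a : ℕ) : List ℕ → ℕ → Bool
  | [], _ => true
  | y :: Y', idx =>
      (withNat (slot w y β) fun q => withNat (slot w L.pos q) fun kq =>
        Nat.blt kq L.m && Nat.beq (pt w L kq) q &&
          withList (decodePath w ls.length (slot (w * ls.length) L.cert idx)) fun p =>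
            pathValid ls p && withNat (tab n w L kq) fun bq => withList (pathTabs n w ls p) fun ts =>
              rowCheck n w y a bq ts) &&
        rowOK L ls β a Y' (idx + 1)

/-- the check of the Schreier generators -/
def certOK (Y : List ℕ) (L : Lv) (ls : List Lv) : Bool :=
  allN L.m fun k => withNat (pt w L k) fun β => withNat (tab n w L k) fun a =>
    rowOK n w L ls β a Y (k * Y.length)

/-- the check of a level -/
def levelOK (Y : List ℕ) (L : Lv) (ls : List Lv) : Bool :=
  Nat.blt 0 L.m && Nat.beq (pt w L 0) L.b && Nat.blt L.b n &&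
    (allN L.m fun k => withNat (pt w L k) fun β =>
      Nat.blt β n && Nat.beq (slot w L.pos β) k && Nat.beq (slot w (tab n w L k) L.b) β) &&
    (withNat (tab n w L 0) fun a => allN n fun i => Nat.beq (slot w a i) i) &&
      treeOK n w Y L && certOK n w Y L ls

/-- the check of a chain -/
def chainOK : List ℕ → List Lv → Bool
  | Y, [] => Y.isEmpty
  | Y, L :: ls =>
    levelOK n w Y L ls && withList (Y.filter fun y => Nat.beq (slot w y L.b) L.b) fun Y' => chainOK Y' ls

/-! ### Soundness -/

theorem blt_iff {a b : ℕ} : Nat.blt a b = true ↔ a < b := by rw [Nat.blt_eq]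

theorem beq_iff {a b : ℕ} : Nat.beq a b = true ↔ a = b :=
  ⟨Nat.eq_of_beq_eq_true, fun h => by rw [h]; exact Nat.beq_refl b⟩

variable {n w}

theorem tree_sound (Y : List ℕ) (hY : ∀ y ∈ Y, Good n w y) (L : Lv)
    (h0 : ∀ i < n, slot w (tab n w L 0) i = i) (htree : treeOK n w Y L = true) :
    ∀ k < L.m, ∃ g ∈ Grp n w Y, Rep (slot w (tab n w L k)) g := by
  intro k
  induction k using Nat.strong_induction_on with
  | _ k ih =>
    intro hk
    have h := allN_spec htree k hk
    rw [Bool.or_eq_true, beq_iff, withNat_eq] at h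
    rcases h with h | h
    · subst h
      exact ⟨1, Subgroup.one_mem _, rep_congr rep_one h0⟩
    · simp only [Bool.and_eq_true, blt_iff, withNat_eq] at h
      obtain ⟨⟨h1, h2⟩, h3⟩ := h
      obtain ⟨g', hg', hrep'⟩ := ih _ h1 (lt_trans h1 hk)
      have hy : Y.getD (Nat.shiftRight (slot (2 * w) L.tree k) w) 0 ∈ Y := by
        rw [List.getD_eq_getElem _ _ h2]
        exact List.getElem_mem h2
      refine ⟨P n w _ * g', Subgroup.mul_mem _ (P_mem_Grp hy) hg', ?_⟩
      apply rep_congr (rep_mul (rep_P (hY _ hy)) hrep')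
      intro i hi
      exact beq_iff.mp (allN_spec h3 i hi)

theorem rowOK_spec (L : Lv) (ls : List Lv) (β a : ℕ) : ∀ (Y : List ℕ) (idx : ℕ),
    rowOK n w L ls β a Y idx = true → ∀ y ∈ Y, slot w L.pos (slot w y β) < L.m ∧
      pt w L (slot w L.pos (slot w y β)) = slot w y β ∧ ∃ p, pathValid ls p = true ∧ ∀ i < n,
        slot w y (slot w a i) = slot w (tab n w L (slot w L.pos (slot w y β))) (pathLook n w ls p i)
  | [], _, _, y, hy => by simp at hy
  | y0 :: Y', idx, h, y, hy => by
    simp only [rowOK, withNat_eq, withList_eq, Bool.and_eq_true, blt_iff, beq_iff] at h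
    obtain ⟨⟨⟨h1, h2⟩, h3, h4⟩, h5⟩ := h
    rcases List.mem_cons.mp hy with rfl | hy
    · exact ⟨h1, h2, _, h3, fun i hi => rowCheck_spec h4 i hi⟩
    · exact rowOK_spec L ls β a Y' (idx + 1) h5 y hy

theorem pathLook_cons (L : Lv) (ls : List Lv) (k : ℕ) (p : List ℕ) (i : ℕ) :
    pathLook n w (L :: ls) (k :: p) i = slot w (tab n w L k) (pathLook n w ls p i) := rfl

/-- the soundness of the check of a chain -/
theorem chain_sound : ∀ (ls : List Lv) (Y : List ℕ), (∀ y ∈ Y, Good n w y) → chainOK n w Y ls = true →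
    Nat.card (Grp n w Y) = (ls.map fun L => L.m).prod ∧
      ∀ p, pathValid ls p = true → ∃ g ∈ Grp n w Y, Rep (pathLook n w ls p) g := by
  intro ls
  induction ls with
  | nil =>
    intro Y _ h
    have hYe : Y = [] := by simpa [chainOK] using h
    subst hYe
    have hbot : Grp n w [] = ⊥ := by
      unfold Grp
      simp
    refine ⟨by rw [hbot]; simp, ?_⟩
    intro p _
    exact ⟨1, Subgroup.one_mem _, fun _ => rfl⟩
  | cons L ls ih =>
    intro Y hY h
    classical
    simp only [chainOK, withList_eq, Bool.and_eq_true] at h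
    obtain ⟨hL, hrest⟩ := h
    set Y' := Y.filter (fun y => Nat.beq (slot w y L.b) L.b) with hY'def
    have hY'sub : ∀ y ∈ Y', y ∈ Y := fun y hy => (List.mem_filter.mp hy).1
    have hY'fix : ∀ y ∈ Y', slot w y L.b = L.b := fun y hy => beq_iff.mp (List.mem_filter.mp hy).2
    have hY'good : ∀ y ∈ Y', Good n w y := fun y hy => hY y (hY'sub y hy)
    obtain ⟨ihcard, ihpath⟩ := ih Y' hY'good hrest
    simp only [levelOK, withNat_eq, Bool.and_eq_true, blt_iff, beq_iff] at hL
    obtain ⟨⟨⟨⟨⟨⟨hm, hp0⟩, hblt⟩, hpts⟩, hid⟩, htree⟩, hcert⟩ := hL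
    have hpts' : ∀ k < L.m, pt w L k < n ∧ slot w L.pos (pt w L k) = k ∧
        slot w (tab n w L k) L.b = pt w L k := by
      intro k hk
      have := allN_spec hpts k hk
      simp only [Bool.and_eq_true, blt_iff, beq_iff] at this
      exact ⟨this.1.1, this.1.2, this.2⟩
    have hid' : ∀ i < n, slot w (tab n w L 0) i = i := fun i hi => beq_iff.mp (allN_spec hid i hi)
    have htr := tree_sound Y hY L hid' htree
    have hidrep : Rep (slot w (tab n w L 0)) (1 : Pm n) := rep_congr rep_one hid'
    -- the transversal, by place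
    let Tk : ℕ → Pm n := fun k =>
      if h : ∃ g ∈ Grp n w Y, Rep (slot w (tab n w L k)) g then Classical.choose h else 1
    have hTk : ∀ k < L.m, Tk k ∈ Grp n w Y ∧ Rep (slot w (tab n w L k)) (Tk k) := by
      intro k hk
      have hex := htr k hk
      have : Tk k = Classical.choose hex := dif_pos hex
      rw [this]
      exact Classical.choose_spec hex
    let T : Fin n → Pm n := fun β => Tk (slot w L.pos β.1)
    -- the orbit
    let ptF : Fin L.m → Fin n := fun k => ⟨pt w L k.1, (hpts' k.1 k.2).1⟩
    have hptF : Function.Injective ptF := by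
      intro k k' hkk
      have h1 : pt w L k.1 = pt w L k'.1 := congrArg Fin.val hkk
      apply Fin.ext
      rw [← (hpts' k.1 k.2).2.1, ← (hpts' k'.1 k'.2).2.1, h1]
    let O : Finset (Fin n) := Finset.univ.image ptF
    have hO : ∀ x : Fin n, x ∈ O ↔ ∃ k < L.m, pt w L k = x.1 := by
      intro x
      simp only [O, Finset.mem_image, Finset.mem_univ, true_and]
      constructor
      · rintro ⟨k, rfl⟩
        exact ⟨k.1, k.2, rfl⟩
      · rintro ⟨k, hk, hkx⟩
        exact ⟨⟨k, hk⟩, Fin.ext hkx⟩
    have hOcard : O.card = L.m := by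
      rw [Finset.card_image_of_injective _ hptF, Finset.card_univ, Fintype.card_fin]
    have hTO : ∀ k (hk : k < L.m), T ⟨pt w L k, (hpts' k hk).1⟩ = Tk k := by
      intro k hk
      show Tk (slot w L.pos (pt w L k)) = Tk k
      rw [(hpts' k hk).2.1]
    have hH'fix := Grp_fix hY'good hblt hY'fix
    have hH'le : Grp n w Y' ≤ Grp n w Y := Grp_mono hY'sub
    have hbO : (⟨L.b, hblt⟩ : Fin n) ∈ O := (hO _).mpr ⟨0, hm, hp0⟩
    have hT1 : T ⟨L.b, hblt⟩ = 1 := by
      have e : (⟨L.b, hblt⟩ : Fin n) = ⟨pt w L 0, (hpts' 0 hm).1⟩ := Fin.ext hp0.symm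
      rw [e, hTO 0 hm]
      exact rep_unique (hTk 0 hm).2 hidrep
    have hTb' : ∀ β ∈ O, T β ⟨L.b, hblt⟩ = β := by
      intro β hβ
      obtain ⟨k, hk, hkβ⟩ := (hO β).mp hβ
      have e : β = ⟨pt w L k, (hpts' k hk).1⟩ := Fin.ext hkβ.symm
      rw [e, hTO k hk]
      apply Fin.ext
      rw [(hTk k hk).2]
      exact (hpts' k hk).2.2
    have hTmem : ∀ β ∈ O, T β ∈ Subgroup.closure {g : Pm n | ∃ y ∈ Y, g = P n w y} := by
      intro β hβ
      obtain ⟨k, hk, hkβ⟩ := (hO β).mp hβ
      have e : β = ⟨pt w L k, (hpts' k hk).1⟩ := Fin.ext hkβ.symm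
      rw [e, hTO k hk]
      exact (hTk k hk).1
    have hS : ∀ β ∈ O, ∀ y ∈ {g : Pm n | ∃ y ∈ Y, g = P n w y},
        y β ∈ O ∧ (T (y β))⁻¹ * y * T β ∈ Grp n w Y' := by
      rintro β hβ _ ⟨y, hy, rfl⟩
      obtain ⟨k, hk, hkβ⟩ := (hO β).mp hβ
      have e : β = ⟨pt w L k, (hpts' k hk).1⟩ := Fin.ext hkβ.symm
      have hc := allN_spec hcert k hk
      rw [withNat_eq, withNat_eq] at hc
      obtain ⟨hc1, hc2, p, hc3, hc4⟩ := rowOK_spec L ls _ _ Y _ hc y hy
      have hyβ : (P n w y β).1 = slot w y (pt w L k) := by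
        rw [rep_P (hY y hy) β, e]
      set kq := slot w L.pos (slot w y (pt w L k)) with hkq
      have hq : P n w y β = ⟨pt w L kq, (hpts' kq hc1).1⟩ := by
        apply Fin.ext
        rw [hyβ]
        exact hc2.symm
      refine ⟨(hO _).mpr ⟨kq, hc1, by rw [hyβ]; exact hc2⟩, ?_⟩
      obtain ⟨gp, hgp, hgprep⟩ := ihpath p hc3
      have heq : P n w y * T β = T (P n w y β) * gp := by
        rw [hq, hTO kq hc1, e, hTO k hk]
        apply rep_unique (rep_mul (rep_P (hY y hy)) (hTk k hk).2)
        apply rep_congr (rep_mul (hTk kq hc1).2 hgprep)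
        intro i hi
        exact hc4 i hi
      have : (T (P n w y β))⁻¹ * P n w y * T β = gp := by
        rw [mul_assoc, heq]
        group
      rw [this]
      exact hgp
    have hcard := Cfsg.Agent.Helper17.SchreierSims.card_eq {g : Pm n | ∃ y ∈ Y, g = P n w y} (Grp n w Y')
      ⟨L.b, hblt⟩ O T hbO hT1 hTb' hTmem hS hH'fix hH'le
    constructor
    · show Nat.card (Grp n w Y) = _
      rw [List.map_cons, List.prod_cons, ← ihcard, ← hOcard]
      exact hcard
    · intro p hp
      cases p with
      | nil => simp [pathValid] at hp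
      | cons k p' =>
        simp only [pathValid, Bool.and_eq_true, decide_eq_true_eq] at hp
        obtain ⟨hp1, hp2⟩ := hp
        obtain ⟨gp, hgp, hgprep⟩ := ihpath p' hp2
        obtain ⟨hTm, hTrep⟩ := hTk k hp1
        exact ⟨Tk k * gp, Subgroup.mul_mem _ hTm (hH'le hgp),
          rep_congr (rep_mul hTrep hgprep) (fun _ _ => rfl)⟩

/-! ### Words -/

variable (n w)

/-- the check of a straight line program: each new table is the product of earlier tables along a word -/
def slpOK : List ℕ → List (ℕ × List ℕ) → Bool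
  | _, [] => true
  | T, (t, wd) :: rest =>
      (wd.all fun a => Nat.blt a T.length) && goodB n w t &&
        (withNat t fun t' => withList (wd.map fun a => T.getD a 0) fun ts =>
          allN n fun i => Nat.beq (slot w t' i) (compLook w ts i)) &&
        slpOK (T ++ [t]) rest

variable {n w}

theorem word_mem (T0 T : List ℕ) (hT : ∀ t ∈ T, Good n w t ∧ P n w t ∈ Grp n w T0) :
    ∀ wd : List ℕ, (wd.all fun a => Nat.blt a T.length) = true →
      ∃ g ∈ Grp n w T0, Rep (compLook w (wd.map fun a => T.getD a 0)) g := by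
  intro wd
  induction wd with
  | nil =>
    intro _
    exact ⟨1, Subgroup.one_mem _, rep_one⟩
  | cons a wd ih =>
    intro h
    rw [List.all_cons, Bool.and_eq_true, blt_iff] at h
    obtain ⟨g, hg, hrep⟩ := ih h.2
    have ha : T.getD a 0 ∈ T := by
      rw [List.getD_eq_getElem _ _ h.1]
      exact List.getElem_mem h.1
    obtain ⟨h1, h2⟩ := hT _ ha
    exact ⟨P n w (T.getD a 0) * g, Subgroup.mul_mem _ h2 hg, rep_congr (rep_mul (rep_P h1) hrep) (fun _ _ => rfl)⟩

theorem slp_sound (T0 : List ℕ) : ∀ (E : List (ℕ × List ℕ)) (T : List ℕ),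
    (∀ t ∈ T, Good n w t ∧ P n w t ∈ Grp n w T0) → slpOK n w T E = true →
      ∀ e ∈ E, Good n w e.1 ∧ P n w e.1 ∈ Grp n w T0 := by
  intro E
  induction E with
  | nil =>
    intro T _ _ e he
    simp at he
  | cons e0 E ih =>
    obtain ⟨t, wd⟩ := e0
    intro T hT h
    simp only [slpOK, withNat_eq, withList_eq, Bool.and_eq_true] at h
    obtain ⟨⟨⟨h1, h2⟩, h3⟩, h4⟩ := h
    have h2' := good_of_goodB h2
    obtain ⟨g, hg, hrep⟩ := word_mem T0 T hT wd h1
    have ht : P n w t ∈ Grp n w T0 := by
      have : P n w t = g := by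
        apply rep_unique (rep_P h2')
        apply rep_congr hrep
        intro i hi
        exact beq_iff.mp (allN_spec h3 i hi)
      rw [this]
      exact hg
    have hT' : ∀ t' ∈ T ++ [t], Good n w t' ∧ P n w t' ∈ Grp n w T0 := by
      intro t' ht'
      rcases List.mem_append.mp ht' with h' | h'
      · exact hT t' h'
      · rw [List.mem_singleton] at h'
        subst h'
        exact ⟨h2', ht⟩
    intro e he
    rcases List.mem_cons.mp he with rfl | he
    · exact ⟨h2', ht⟩
    · exact ih (T ++ [t]) hT' h4 e he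

/-- a group generated by tables does not grow when elements given by a straight line program are added -/
theorem Grp_eq_of_slp {T0 Y : List ℕ} {E : List (ℕ × List ℕ)} (hT0 : ∀ t ∈ T0, Good n w t)
    (hE : slpOK n w T0 E = true) (hY : ∀ y ∈ Y, y ∈ T0 ∨ ∃ e ∈ E, e.1 = y) (hT0Y : ∀ t ∈ T0, t ∈ Y) :
    Grp n w Y = Grp n w T0 := by
  apply le_antisymm
  · rw [Grp, Subgroup.closure_le]
    rintro g ⟨y, hy, rfl⟩
    rcases hY y hy with h | ⟨e, he, rfl⟩
    · exact P_mem_Grp h
    · exact (slp_sound T0 E T0 (fun t ht => ⟨hT0 t ht, P_mem_Grp ht⟩) hE e he).2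
  · exact Grp_mono hT0Y

end Cfsg.Agent.Helper22.PermPack
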