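import Cfsg.Agent.Helper22.PrimSimple

/-!
# Primitivity from a list of orbits of the point stabiliser with pairwise different lengths
-/

set_option autoImplicit false

namespace Cfsg.Agent.Helper22.PrimSimple

open MulAction
open scoped Pointwise

variable {G X : Type*} [Group G] [MulAction G X]

theorem isPreprimitive_of_orbits [Finite X] [IsPretransitive G X] (x₀ : X) {k : ℕ} (r : Fin k → X) (c : Fin k → ℕ)
    (hc : ∀ i, (orbit (stabilizer G x₀) (r i)).ncard = c i) (hinj : Function.Injective c)
    (hsum : ∑ i, c i = Nat.card X) (i₀ : Fin k) (hr0 : r i₀ = x₀)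
    (hJ : ∀ J : Finset (Fin k), i₀ ∈ J → (∑ j ∈ J, c j) ∣ Nat.card X → J = {i₀} ∨ J = Finset.univ) :
    IsPreprimitive G X := by
  classical
  have : Fintype X := Fintype.ofFinite X
  -- the orbits are pairwise disjoint
  have hdisj : ∀ i j, i ≠ j → Disjoint (orbit (stabilizer G x₀) (r i)) (orbit (stabilizer G x₀) (r j)) := by
    intro i j hij
    rcases orbit.eq_or_disjoint (G := stabilizer G x₀) (r i) (r j) with h | h
    · exfalso
      apply hij
      apply hinj
      rw [← hc i, ← hc j, h]
    · exact h
  -- they cover everything
  have hcover : ∀ y : X, ∃ i, y ∈ orbit (stabilizer G x₀) (r i) := by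
    have hU : (⋃ i, orbit (stabilizer G x₀) (r i)) = Set.univ := by
      apply Set.eq_of_subset_of_ncard_le (Set.subset_univ _) _ Set.finite_univ
      rw [Set.ncard_univ, ← hsum]
      have : (⋃ i, orbit (stabilizer G x₀) (r i)).ncard = ∑ i, (orbit (stabilizer G x₀) (r i)).ncard := by
        have e : (⋃ i, orbit (stabilizer G x₀) (r i)) =
            ↑(Finset.univ.biUnion fun i => (orbit (stabilizer G x₀) (r i)).toFinset) := by
          ext y
          simp
        rw [e, Set.ncard_coe_finset, Finset.card_biUnion]
        · apply Finset.sum_congr rfl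
          intro i _
          rw [Set.ncard_eq_toFinset_card']
        · intro i _ j _ hij
          show Disjoint (orbit (stabilizer G x₀) (r i)).toFinset (orbit (stabilizer G x₀) (r j)).toFinset
          rw [Set.disjoint_toFinset]
          exact hdisj i j hij
      rw [this]
      apply le_of_eq
      apply Finset.sum_congr rfl
      intro i _
      exact (hc i).symm
    intro y
    have : y ∈ (⋃ i, orbit (stabilizer G x₀) (r i)) := by rw [hU]; exact Set.mem_univ y
    exact Set.mem_iUnion.mp this
  let f : X → Fin k := fun y => Classical.choose (hcover y)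
  have hfy : ∀ y, y ∈ orbit (stabilizer G x₀) (r (f y)) := fun y => Classical.choose_spec (hcover y)
  have hfuniq : ∀ y i, y ∈ orbit (stabilizer G x₀) (r i) → f y = i := by
    intro y i hy
    by_contra hne
    exact Set.disjoint_left.mp (hdisj _ _ hne) (hfy y) hy
  have hfx : f x₀ = i₀ := by
    apply hfuniq
    rw [hr0]
    exact mem_orbit_self _
  have hfib : ∀ i, {y | f y = i} = orbit (stabilizer G x₀) (r i) := by
    intro i
    ext y
    constructor
    · intro h
      have := hfy y
      rwa [h] at this
    · intro h
      exact hfuniq y i h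
  apply isPreprimitive_of_labels x₀ f c
  · intro y y' hyy
    have h1 := hfy y
    have h2 := hfy y'
    rw [hyy] at h1
    have h3 : y' ∈ orbit (stabilizer G x₀) y := by
      rw [orbit_eq_iff.mpr h1]
      exact h2
    obtain ⟨h, hh⟩ := h3
    exact ⟨h.1, h.2, hh⟩
  · intro i
    rw [hfib, hc]
  · rw [hfx, ← hc, hr0]
    have : orbit (stabilizer G x₀) x₀ = {x₀} := by
      ext y
      constructor
      · rintro ⟨h, rfl⟩
        exact h.2
      · intro hy
        rw [Set.mem_singleton_iff.mp hy]
        exact mem_orbit_self _
    rw [this, Set.ncard_singleton]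
  · rw [hfx]
    exact hJ

end Cfsg.Agent.Helper22.PrimSimple
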