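import Mathlib
import Cfsg.Agent.Helper25.QPDefs2
import Cfsg.Agent.Helper25.QPAct
import Cfsg.Agent.Helper18.SL2Ext5
import Cfsg.Agent.Helper12.QPSTRA
import Cfsg.Agent.Helper23.QPTRANS
import Cfsg.Agent.Helper12.QPTHMA
import Cfsg.Agent.Helper4.QPROOT

set_option autoImplicit false

/-! Board `qppieces`, piece S5073N: the non-unipotent case of S5073 is contradictory. -/

noncomputable section

universe u v

namespace Cfsg.Agent.QPP

open Cfsg Cfsg.Agent.Helper25.QP Cfsg.Agent.Helper25.QuadPair Polynomial

variable {k : Type u} [Field k] {M : Type v} [AddCommGroup M] [Module k M]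

local notation "GLkM" => LinearMap.GeneralLinearGroup k M

theorem S5073N [FiniteDimensional k M] (hk2 : ringChar k ≠ 2) (hk3 : Nat.card k ≠ 3)
    {G : Subgroup GLkM} {σ τ : GLkM} (hσ : σ ∈ minimalQuadraticElements G)
    (hτ : τ ∈ minimalQuadraticElements G)
    (hN : ¬ AllUnip (sameActionSubgroup G σ) (sameActionSubgroup G τ))
    (h : (∃ e ∈ sameActionSubgroup G σ, e ≠ 1 ∧ ∃ f ∈ sameActionSubgroup G τ, f ≠ 1 ∧ e * f = f * e) ∨
      sameActionSubgroup G σ ⊓ Subgroup.normalizer (sameActionSubgroup G τ : Set GLkM) ≠ ⊥) :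
    False := by
  classical
  -- a non-unipotent pair
  have hN' : ∃ e0 ∈ sameActionSubgroup G σ, ∃ f0 ∈ sameActionSubgroup G τ,
      ¬ UnipPair ((e0 : Module.End k M) - 1) ((f0 : Module.End k M) - 1) := by
    by_contra hcon
    apply hN
    intro e he f hf
    by_contra h1
    exact hcon ⟨e, he, f, hf, h1⟩
  obtain ⟨e0, he0, f0, hf0, hnu⟩ := hN'
  have he01 : e0 ≠ 1 := by
    rintro rfl
    apply hnu
    unfold UnipPair
    simp
  have hf01 : f0 ≠ 1 := by
    rintro rfl
    apply hnu
    unfold UnipPair
    simp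
  obtain ⟨hqx, hkx, hrx⟩ := ROOT_Qd hσ he0 he01
  obtain ⟨hqy, hky, hry⟩ := ROOT_Qd hτ hf0 hf01
  have hmin := (TRANS_Qd hσ).1
  have hrank := TRANS_rank hσ hτ
  rw [← hrank] at hqy
  have hp : QPair G (commutatorRank σ) ((e0 : Module.End k M) - 1) ((f0 : Module.End k M) - 1) :=
    ⟨hmin, hqx, hqy⟩
  have hvan := THMA hk2 hk3 hp hnu
  have hstr := (STRA _ _ hqx.1.1 hqy.1.1 hvan).1
  -- notation
  set a : Module.End k M := (σ : Module.End k M) - 1 with ha
  set b : Module.End k M := (τ : Module.End k M) - 1 with hb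
  have hCB : LinearMap.ker a ⊓ LinearMap.range b = ⊥ := by
    have := hstr.1
    rw [hkx, hry] at this
    exact this
  have haa : a * a = 0 := (TRANS_Qd hσ).2.1.1
  have hAC : LinearMap.range a ≤ LinearMap.ker a := by
    rintro m ⟨m', rfl⟩
    rw [LinearMap.mem_ker]
    have : (a * a) m' = 0 := by rw [haa]; rfl
    exact this
  have hBne : LinearMap.range b ≠ ⊥ := by
    intro h0
    have hb0 : b = 0 := LinearMap.range_eq_bot.mp h0
    have hτ1 := (ROOT_self hτ).2
    apply hτ1
    apply Units.ext
    have : (τ : Module.End k M) - 1 = 0 := hb0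
    exact sub_eq_zero.mp this
  -- key: if `x` has kernel `C`, range `A` and kills... then `B ≤ C` is absurd
  have hkey : ¬ (LinearMap.range b ≤ LinearMap.ker a) := by
    intro hle
    apply hBne
    rw [eq_bot_iff, ← hCB]
    exact le_inf hle le_rfl
  rcases h with ⟨e, he, he1, f, hf, hf1, hcomm⟩ | hnorm
  · obtain ⟨_, hke, hre⟩ := ROOT_Qd hσ he he1
    obtain ⟨_, hkf, hrf⟩ := ROOT_Qd hτ hf hf1
    set x : Module.End k M := (e : Module.End k M) - 1 with hx
    set y : Module.End k M := (f : Module.End k M) - 1 with hy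
    have hxy : x * y = y * x := by
      have h1 : ((e * f : GLkM) : Module.End k M) = ((f * e : GLkM) : Module.End k M) := by
        rw [hcomm]
      rw [Units.val_mul, Units.val_mul] at h1
      have he' : (e : Module.End k M) = 1 + x := by rw [hx]; abel
      have hf' : (f : Module.End k M) = 1 + y := by rw [hy]; abel
      rw [he', hf'] at h1
      have h2 : (1 + x) * (1 + y) = 1 + x + y + x * y := by noncomm_ring
      have h3 : (1 + y) * (1 + x) = 1 + x + y + y * x := by noncomm_ring
      rw [h2, h3] at h1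
      exact add_left_cancel h1
    apply hkey
    -- range y ≤ ker x
    have hzero : x * y = 0 := by
      apply LinearMap.ext
      intro m
      have h1 : (x * y) m ∈ LinearMap.range x := ⟨y m, rfl⟩
      have h2 : (x * y) m ∈ LinearMap.range y := by rw [hxy]; exact ⟨x m, rfl⟩
      rw [hre] at h1
      rw [hrf] at h2
      have h3 : (x * y) m ∈ LinearMap.ker a ⊓ LinearMap.range b := ⟨hAC h1, h2⟩
      rw [hCB] at h3
      simpa using h3
    rw [← hrf, ← hke]
    rintro m ⟨m', rfl⟩
    rw [LinearMap.mem_ker]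
    have : (x * y) m' = 0 := by rw [hzero]; rfl
    exact this
  · -- normalizer case
    have hex : ∃ e ∈ sameActionSubgroup G σ ⊓ Subgroup.normalizer (sameActionSubgroup G τ : Set GLkM),
        e ≠ 1 := by
      by_contra hcon
      push Not at hcon
      apply hnorm
      rw [eq_bot_iff]
      intro e he
      rw [Subgroup.mem_bot]
      exact hcon e he
    obtain ⟨e, ⟨he, hen⟩, he1⟩ := hex
    obtain ⟨_, hke, hre⟩ := ROOT_Qd hσ he he1
    set x : Module.End k M := (e : Module.End k M) - 1 with hx
    have hτF := (ROOT_self hτ).1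
    have hτ1 := (ROOT_self hτ).2
    have hconj : e * τ * e⁻¹ ∈ sameActionSubgroup G τ := by
      have hen' : e ∈ Subgroup.normalizer (sameActionSubgroup G τ : Set GLkM) := hen
      rw [Subgroup.mem_normalizer_iff] at hen'
      exact (hen' τ).mp hτF
    have hconj1 : e * τ * e⁻¹ ≠ 1 := by
      intro h1
      apply hτ1
      have : τ = e⁻¹ * (e * τ * e⁻¹) * e := by group
      rw [this, h1]; group
    obtain ⟨_, _, hrc⟩ := ROOT_Qd hτ hconj hconj1
    -- range of the conjugate is e(B)
    have hval : ((e * τ * e⁻¹ : GLkM) : Module.End k M) - 1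
        = (e : Module.End k M) * b * ((e⁻¹ : GLkM) : Module.End k M) := by
      rw [Units.val_mul, Units.val_mul, hb]
      have h1 : (e : Module.End k M) * ((e⁻¹ : GLkM) : Module.End k M) = 1 := by
        rw [← Units.val_mul, mul_inv_cancel]; rfl
      calc (e : Module.End k M) * (τ : Module.End k M) * ((e⁻¹ : GLkM) : Module.End k M) - 1
          = (e : Module.End k M) * (τ : Module.End k M) * ((e⁻¹ : GLkM) : Module.End k M)
              - (e : Module.End k M) * ((e⁻¹ : GLkM) : Module.End k M) := by rw [h1]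
        _ = (e : Module.End k M) * ((τ : Module.End k M) - 1) * ((e⁻¹ : GLkM) : Module.End k M) := by
              noncomm_ring
    have heB : ∀ m ∈ LinearMap.range b, (e : Module.End k M) m ∈ LinearMap.range b := by
      rintro m ⟨m', rfl⟩
      rw [← hrc, hval]
      refine ⟨(e : Module.End k M) m', ?_⟩
      have h2 : ((e⁻¹ : GLkM) : Module.End k M) ((e : Module.End k M) m') = m' := by
        have : (((e⁻¹ : GLkM) : Module.End k M) * (e : Module.End k M)) m' = m' := by
          rw [← Units.val_mul, inv_mul_cancel]; rfl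
        exact this
      change (e : Module.End k M) (b (((e⁻¹ : GLkM) : Module.End k M) ((e : Module.End k M) m'))) = _
      rw [h2]
    apply hkey
    rw [← hke]
    intro m hm
    rw [LinearMap.mem_ker]
    have h1 : x m ∈ LinearMap.range b := by
      have : x m = (e : Module.End k M) m - m := by rw [hx]; simp
      rw [this]
      exact Submodule.sub_mem _ (heB m hm) hm
    have h2 : x m ∈ LinearMap.range a := by
      rw [← hre]; exact ⟨m, rfl⟩
    have h3 : x m ∈ LinearMap.ker a ⊓ LinearMap.range b := ⟨hAC h2, h1⟩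
    rw [hCB] at h3
    simpa using h3

end Cfsg.Agent.QPP

end
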