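import Cfsg.Agent.Helper22.MinGen

/-!
# Invariant quadratic forms on the lattice modulo 2
-/

set_option autoImplicit false

namespace Cfsg.Agent.Helper22.QuadForm

open Cfsg Cfsg.Agent.Helper27 Cfsg.Agent.Helper22.Co0Mono Cfsg.Agent.Helper22.CrossStab
  Cfsg.Agent.Helper22.Co0Center
  Cfsg.Agent.Helper22.LeechShapes Cfsg.Agent.Helper22.Norm6Trans Cfsg.Agent.Helper22.Norm8Trans
  Cfsg.Agent.Helper22.MinTrans
  Cfsg.Agent.Helper22.Co0Order Cfsg.Agent.Helper22.Summands Cfsg.Agent.Helper22.Census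
  Cfsg.Agent.Helper22.MinGen

/-- functions on the lattice that are constant on cosets of twice the lattice and quadratic -/
structure IsQF (Q : ↥leechLattice → ZMod 2) : Prop where
  coset : ∀ v w : ↥leechLattice, Q (v + (w + w)) = Q v
  quad : ∀ u v w : ↥leechLattice, Q (u + v + w) + Q u + Q v + Q w = Q (u + v) + Q (u + w) + Q (v + w)

/-- induction over the lattice, generated by the minimal vectors -/
theorem lattice_induction (P : ↥leechLattice → Prop) (h0 : P 0)
    (hmin : ∀ v : ↥leechLattice, sqNorm (v : GolayPt → ℤ) = 32 → P v)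
    (hadd : ∀ a b : ↥leechLattice, P a → P b → P (a + b)) (hneg : ∀ a : ↥leechLattice, P a → P (-a)) :
    ∀ x : ↥leechLattice, P x := by
  rintro ⟨x, hx⟩
  have hxM : x ∈ M := by rw [closure_eq]; exact hx
  have key : ∀ y (hy : y ∈ AddSubgroup.closure {x : GolayPt → ℤ | x ∈ leechLattice ∧ sqNorm x = 32}),
      ∀ h : y ∈ leechLattice, P ⟨y, h⟩ := by
    intro y hy
    induction hy using AddSubgroup.closure_induction with
    | mem y hy =>
      intro h
      exact hmin ⟨y, h⟩ hy.2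
    | zero =>
      intro h
      exact h0
    | add a b ha hb iha ihb =>
      intro h
      have ha' : a ∈ leechLattice := M_le ha
      have hb' : b ∈ leechLattice := M_le hb
      exact hadd ⟨a, ha'⟩ ⟨b, hb'⟩ (iha ha') (ihb hb')
    | neg a ha iha =>
      intro h
      have ha' : a ∈ leechLattice := M_le ha
      exact hneg ⟨a, ha'⟩ (iha ha')
  exact key x hxM hx

namespace IsQF

variable {Q : ↥leechLattice → ZMod 2} (hQ : IsQF Q)
include hQ

theorem zero : Q 0 = 0 := by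
  have h := hQ.quad 0 0 0
  simp only [add_zero] at h
  generalize Q 0 = a at h
  revert a
  decide

theorem sub_eq (u v : ↥leechLattice) : Q (u - v) = Q (u + v) := by
  have h := hQ.coset (u + v) (-v)
  have e : u + v + (-v + -v) = u - v := by abel
  rw [e] at h
  exact h

theorem neg_eq (v : ↥leechLattice) : Q (-v) = Q v := by
  have h := hQ.sub_eq 0 v
  simpa using h

theorem B_add (u v w : ↥leechLattice) :
    Q (u + (v + w)) + Q u + Q (v + w) = (Q (u + v) + Q u + Q v) + (Q (u + w) + Q u + Q w) := by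
  have h := hQ.quad u v w
  rw [add_assoc u v w] at h
  generalize Q (u + (v + w)) = a at h ⊢
  generalize Q (u + v) = b at h ⊢
  generalize Q (u + w) = c at h ⊢
  generalize Q (v + w) = d at h ⊢
  generalize Q u = e at h ⊢
  generalize Q v = f at h ⊢
  generalize Q w = g at h ⊢
  revert a b c d e f g
  decide

/-- a form vanishing on the vectors of sums of squares 32, 48, 64 vanishes -/
theorem zero_of (h32 : ∀ v : ↥leechLattice, sqNorm (v : GolayPt → ℤ) = 32 → Q v = 0)
    (h48 : ∀ v : ↥leechLattice, sqNorm (v : GolayPt → ℤ) = 48 → Q v = 0)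
    (h64 : ∀ v : ↥leechLattice, sqNorm (v : GolayPt → ℤ) = 64 → Q v = 0) : ∀ x : ↥leechLattice, Q x = 0 := by
  have hshort : ∀ z : ↥leechLattice, sqNorm (z : GolayPt → ℤ) ≤ 64 → Q z = 0 := by
    intro z hz
    by_cases h0 : (z : GolayPt → ℤ) = 0
    · have : z = 0 := Subtype.ext h0
      rw [this]
      exact hQ.zero
    · have h1 := sqNorm_ge z.2 h0
      obtain ⟨c, hc⟩ := sqNorm_dvd z.2
      have : sqNorm (z : GolayPt → ℤ) = 32 ∨ sqNorm (z : GolayPt → ℤ) = 48 ∨ sqNorm (z : GolayPt → ℤ) = 64 := by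
        omega
      rcases this with h | h | h
      · exact h32 z h
      · exact h48 z h
      · exact h64 z h
  have two : ∀ a : ZMod 2, a + a = 0 := by decide
  -- the bilinear form vanishes on pairs of minimal vectors
  have hB : ∀ u v : ↥leechLattice, sqNorm (u : GolayPt → ℤ) = 32 → sqNorm (v : GolayPt → ℤ) = 32 →
      Q (u + v) + Q u + Q v = 0 := by
    intro u v hu hv
    rw [h32 u hu, h32 v hv, add_zero, add_zero]
    have h1 := sqNorm_add (u : GolayPt → ℤ) (v : GolayPt → ℤ)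
    have h2 := Summands.sqNorm_sub (u : GolayPt → ℤ) (v : GolayPt → ℤ)
    rw [hu, hv] at h1 h2
    by_cases hle : sqNorm ((u + v : ↥leechLattice) : GolayPt → ℤ) ≤ 64
    · exact hshort _ hle
    · rw [← hQ.sub_eq]
      apply hshort
      have e1 : ((u + v : ↥leechLattice) : GolayPt → ℤ) = (u : GolayPt → ℤ) + (v : GolayPt → ℤ) := rfl
      have e2 : ((u - v : ↥leechLattice) : GolayPt → ℤ) = (u : GolayPt → ℤ) - (v : GolayPt → ℤ) := rfl
      rw [e1] at hle
      rw [e2]
      omega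
  have hB1 : ∀ x v : ↥leechLattice, sqNorm (v : GolayPt → ℤ) = 32 → Q (x + v) + Q x + Q v = 0 := by
    intro x v hv
    induction x using lattice_induction with
    | h0 =>
      rw [zero_add, hQ.zero, add_zero]
      exact two _
    | hmin u hu => exact hB u v hu hv
    | hadd a b iha ihb =>
      have h := hQ.B_add v a b
      rw [add_comm v a, add_comm v b, add_comm v (a + b)] at h
      have e : Q (a + b + v) + Q (a + b) + Q v = Q (a + b + v) + Q v + Q (a + b) := by ring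
      rw [e, h]
      have e1 : Q (a + v) + Q v + Q a = Q (a + v) + Q a + Q v := by ring
      have e2 : Q (b + v) + Q v + Q b = Q (b + v) + Q b + Q v := by ring
      rw [e1, e2, iha, ihb, add_zero]
    | hneg a iha =>
      rw [hQ.neg_eq, neg_add_eq_sub, hQ.sub_eq, add_comm v a]
      exact iha
  have hB2 : ∀ x y : ↥leechLattice, Q (x + y) + Q x + Q y = 0 := by
    intro x y
    induction y using lattice_induction with
    | h0 =>
      rw [add_zero, hQ.zero, add_zero]
      exact two _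
    | hmin v hv => exact hB1 x v hv
    | hadd a b iha ihb =>
      rw [hQ.B_add x a b, iha, ihb, add_zero]
    | hneg a iha =>
      rw [hQ.neg_eq, ← sub_eq_add_neg, hQ.sub_eq]
      exact iha
  have hadd : ∀ x y : ↥leechLattice, Q (x + y) = Q x + Q y := by
    intro x y
    have h := hB2 x y
    generalize Q (x + y) = a at h ⊢
    generalize Q x = b at h ⊢
    generalize Q y = c at h ⊢
    revert a b c
    decide
  intro x
  induction x using lattice_induction with
  | h0 => exact hQ.zero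
  | hmin v hv => exact h32 v hv
  | hadd a b iha ihb => rw [hadd, iha, ihb, add_zero]
  | hneg a iha => rw [hQ.neg_eq, iha]

end IsQF

/-! ### The norm form -/

/-- the norm form -/
def Q0 (v : ↥leechLattice) : ZMod 2 := ((sqNorm (v : GolayPt → ℤ) / 16 : ℤ) : ZMod 2)

theorem dot_dvd (v w : ↥leechLattice) : (8 : ℤ) ∣ dotInt (v : GolayPt → ℤ) (w : GolayPt → ℤ) := by
  have h1 := sqNorm_add (v : GolayPt → ℤ) (w : GolayPt → ℤ)
  obtain ⟨a, ha⟩ := sqNorm_dvd v.2
  obtain ⟨b, hb⟩ := sqNorm_dvd w.2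
  obtain ⟨c, hc⟩ := sqNorm_dvd (v + w).2
  have e1 : ((v + w : ↥leechLattice) : GolayPt → ℤ) = (v : GolayPt → ℤ) + (w : GolayPt → ℤ) := rfl
  rw [e1] at hc
  omega

theorem cast_two_mul (a : ℤ) : ((2 * a : ℤ) : ZMod 2) = 0 := by
  push_cast
  have h2 : (2 : ZMod 2) = 0 := by decide
  rw [h2, zero_mul]

theorem isQF_Q0 : IsQF Q0 := by
  constructor
  · intro v w
    unfold Q0
    have e1 : ((v + (w + w) : ↥leechLattice) : GolayPt → ℤ) =
        (v : GolayPt → ℤ) + ((w : GolayPt → ℤ) + (w : GolayPt → ℤ)) := rfl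
    have h1 := sqNorm_add (v : GolayPt → ℤ) ((w : GolayPt → ℤ) + (w : GolayPt → ℤ))
    have h2 := sqNorm_add (w : GolayPt → ℤ) (w : GolayPt → ℤ)
    have h3 : dotInt (w : GolayPt → ℤ) (w : GolayPt → ℤ) = sqNorm (w : GolayPt → ℤ) := by
      simp only [dotInt, sqNorm]
      apply Finset.sum_congr rfl
      intro i _
      ring
    have h4 : dotInt (v : GolayPt → ℤ) ((w : GolayPt → ℤ) + (w : GolayPt → ℤ)) =
        2 * dotInt (v : GolayPt → ℤ) (w : GolayPt → ℤ) := by
      simp only [dotInt, Pi.add_apply, Finset.mul_sum]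
      apply Finset.sum_congr rfl
      intro i _
      ring
    obtain ⟨a, ha⟩ := sqNorm_dvd v.2
    obtain ⟨b, hb⟩ := sqNorm_dvd w.2
    obtain ⟨c, hc⟩ := dot_dvd v w
    rw [e1, h1, h2, h3, h4, ha, hb, hc]
    have e2 : (16 * a + (16 * b + 16 * b + 2 * (16 * b)) + 2 * (2 * (8 * c))) / 16 = a + 2 * (2 * b + c) := by
      omega
    have e3 : 16 * a / 16 = a := by omega
    rw [e2, e3, Int.cast_add, cast_two_mul, add_zero]
  · intro u v w
    unfold Q0
    have e1 : ((u + v + w : ↥leechLattice) : GolayPt → ℤ) =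
        (u : GolayPt → ℤ) + (v : GolayPt → ℤ) + (w : GolayPt → ℤ) := rfl
    have e2 : ((u + v : ↥leechLattice) : GolayPt → ℤ) = (u : GolayPt → ℤ) + (v : GolayPt → ℤ) := rfl
    have e3 : ((u + w : ↥leechLattice) : GolayPt → ℤ) = (u : GolayPt → ℤ) + (w : GolayPt → ℤ) := rfl
    have e4 : ((v + w : ↥leechLattice) : GolayPt → ℤ) = (v : GolayPt → ℤ) + (w : GolayPt → ℤ) := rfl
    obtain ⟨a, ha⟩ := sqNorm_dvd (u + v + w).2
    obtain ⟨b, hb⟩ := sqNorm_dvd u.2
    obtain ⟨c, hc⟩ := sqNorm_dvd v.2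
    obtain ⟨d, hd⟩ := sqNorm_dvd w.2
    obtain ⟨e, he⟩ := sqNorm_dvd (u + v).2
    obtain ⟨f, hf⟩ := sqNorm_dvd (u + w).2
    obtain ⟨g, hg⟩ := sqNorm_dvd (v + w).2
    have key : sqNorm ((u : GolayPt → ℤ) + (v : GolayPt → ℤ) + (w : GolayPt → ℤ)) + sqNorm (u : GolayPt → ℤ) +
        sqNorm (v : GolayPt → ℤ) + sqNorm (w : GolayPt → ℤ) =
        sqNorm ((u : GolayPt → ℤ) + (v : GolayPt → ℤ)) + sqNorm ((u : GolayPt → ℤ) + (w : GolayPt → ℤ)) +
          sqNorm ((v : GolayPt → ℤ) + (w : GolayPt → ℤ)) := by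
      simp only [sqNorm, Pi.add_apply, ← Finset.sum_add_distrib]
      apply Finset.sum_congr rfl
      intro i _
      ring
    rw [e1] at ha
    rw [e2] at he
    rw [e3] at hf
    rw [e4] at hg
    rw [e1, e2, e3, e4, ha, hb, hc, hd, he, hf, hg]
    rw [ha, hb, hc, hd, he, hf, hg] at key
    have r : ∀ t : ℤ, 16 * t / 16 = t := fun t => by omega
    simp only [r]
    have key' : a + b + c + d = e + f + g := by omega
    have := congrArg (fun t : ℤ => (t : ZMod 2)) key'
    simpa only [Int.cast_add] using this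

theorem isQF_add {Q Q' : ↥leechLattice → ZMod 2} (h : IsQF Q) (h' : IsQF Q') : IsQF (fun v => Q v + Q' v) := by
  constructor
  · intro v w
    show Q _ + Q' _ = Q _ + Q' _
    rw [h.coset, h'.coset]
  · intro u v w
    show Q _ + Q' _ + (Q _ + Q' _) + (Q _ + Q' _) + (Q _ + Q' _) = Q _ + Q' _ + (Q _ + Q' _) + (Q _ + Q' _)
    have h1 := h.quad u v w
    have h2 := h'.quad u v w
    calc Q (u + v + w) + Q' (u + v + w) + (Q u + Q' u) + (Q v + Q' v) + (Q w + Q' w)
        = (Q (u + v + w) + Q u + Q v + Q w) + (Q' (u + v + w) + Q' u + Q' v + Q' w) := by ring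
      _ = _ := by rw [h1, h2]; ring

/-! ### Explicit vectors -/

/-- the vector `a e_i + b e_j` -/
def pv (i j : GolayPt) (a b : ℤ) : GolayPt → ℤ := Pi.single i a + Pi.single j b

theorem pv_mem (i j : GolayPt) {a b : ℤ} (ha : a = 4 ∨ a = -4) (hb : b = 4 ∨ b = -4) : pv i j a b ∈ leechLattice := by
  rw [mem_leechLattice_iff]
  refine ⟨0, Pi.single i (a / 2) + Pi.single j (b / 2), ?_, ?_, ?_⟩
  · intro q
    unfold pv
    simp only [Pi.add_apply, Pi.single_apply]
    rcases ha with rfl | rfl <;> rcases hb with rfl | rfl <;> split_ifs <;> norm_num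
  · unfold pv
    simp only [Pi.add_apply, Finset.sum_add_distrib, Finset.sum_pi_single', Finset.mem_univ, if_true]
    rcases ha with rfl | rfl <;> rcases hb with rfl | rfl <;> decide
  · have : redW (Pi.single i (a / 2) + Pi.single j (b / 2)) = 0 := by
      funext q
      simp only [redW, Pi.zero_apply, Pi.add_apply, Pi.single_apply]
      rw [ZMod.intCast_zmod_eq_zero_iff_dvd]
      rcases ha with rfl | rfl <;> rcases hb with rfl | rfl <;> split_ifs <;> norm_num
    rw [this]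
    exact golayCode.zero_mem

/-- `(-3, 1, ..., 1)` -/
def w0 : ↥leechLattice := D0 - e

def a01 : ↥leechLattice := ⟨pv (pt 0) (pt 1) 4 4, pv_mem _ _ (Or.inl rfl) (Or.inl rfl)⟩
def b12 : ↥leechLattice := ⟨pv (pt 1) (pt 2) (-4) (-4), pv_mem _ _ (Or.inr rfl) (Or.inr rfl)⟩
def c12 : ↥leechLattice := ⟨pv (pt 1) (pt 2) (-4) 4, pv_mem _ _ (Or.inr rfl) (Or.inl rfl)⟩
def a56 : ↥leechLattice := ⟨pv (pt 5) (pt 6) 4 4, pv_mem _ _ (Or.inl rfl) (Or.inl rfl)⟩

theorem w0_coe : (w0 : GolayPt → ℤ) = d0 - Pi.single (pt 0) 8 := rfl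

theorem n1 : sqNorm ((w0 + a01 + b12 : ↥leechLattice) : GolayPt → ℤ) = 32 := by
  show sqNorm (d0 - Pi.single (pt 0) 8 + pv (pt 0) (pt 1) 4 4 + pv (pt 1) (pt 2) (-4) (-4)) = 32
  decide +kernel
theorem n2 : sqNorm (w0 : GolayPt → ℤ) = 32 := by
  show sqNorm (d0 - Pi.single (pt 0) 8) = 32
  decide +kernel
theorem n3 : sqNorm (a01 : GolayPt → ℤ) = 32 := by
  show sqNorm (pv (pt 0) (pt 1) 4 4) = 32
  decide +kernel
theorem n4 : sqNorm (b12 : GolayPt → ℤ) = 32 := by
  show sqNorm (pv (pt 1) (pt 2) (-4) (-4)) = 32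
  decide +kernel
theorem n5 : sqNorm ((w0 + a01 : ↥leechLattice) : GolayPt → ℤ) = 48 := by
  show sqNorm (d0 - Pi.single (pt 0) 8 + pv (pt 0) (pt 1) 4 4) = 48
  decide +kernel
theorem n6 : sqNorm ((w0 + b12 : ↥leechLattice) : GolayPt → ℤ) = 48 := by
  show sqNorm (d0 - Pi.single (pt 0) 8 + pv (pt 1) (pt 2) (-4) (-4)) = 48
  decide +kernel
theorem n7 : sqNorm ((a01 + b12 : ↥leechLattice) : GolayPt → ℤ) = 32 := by
  show sqNorm (pv (pt 0) (pt 1) 4 4 + pv (pt 1) (pt 2) (-4) (-4)) = 32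
  decide +kernel

theorem m1 : sqNorm ((a56 + a01 + c12 : ↥leechLattice) : GolayPt → ℤ) = 64 := by
  show sqNorm (pv (pt 5) (pt 6) 4 4 + pv (pt 0) (pt 1) 4 4 + pv (pt 1) (pt 2) (-4) 4) = 64
  decide +kernel
theorem m2 : sqNorm (a56 : GolayPt → ℤ) = 32 := by
  show sqNorm (pv (pt 5) (pt 6) 4 4) = 32
  decide +kernel
theorem m4 : sqNorm (c12 : GolayPt → ℤ) = 32 := by
  show sqNorm (pv (pt 1) (pt 2) (-4) 4) = 32
  decide +kernel
theorem m5 : sqNorm ((a56 + a01 : ↥leechLattice) : GolayPt → ℤ) = 64 := by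
  show sqNorm (pv (pt 5) (pt 6) 4 4 + pv (pt 0) (pt 1) 4 4) = 64
  decide +kernel
theorem m6 : sqNorm ((a56 + c12 : ↥leechLattice) : GolayPt → ℤ) = 64 := by
  show sqNorm (pv (pt 5) (pt 6) 4 4 + pv (pt 1) (pt 2) (-4) 4) = 64
  decide +kernel
theorem m7 : sqNorm ((a01 + c12 : ↥leechLattice) : GolayPt → ℤ) = 32 := by
  show sqNorm (pv (pt 0) (pt 1) 4 4 + pv (pt 1) (pt 2) (-4) 4) = 32
  decide +kernel

/-! ### The main theorem -/

theorem main (Q : ↥leechLattice → ZMod 2) (hcoset : ∀ v w : ↥leechLattice, Q (v + (w + w)) = Q v)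
    (hquad : ∀ u v w : ↥leechLattice, Q (u + v + w) + Q u + Q v + Q w = Q (u + v) + Q (u + w) + Q (v + w))
    (hinv : ∀ (g : ↥Co0) (v : ↥leechLattice), Q (g • v) = Q v) (hne : ∃ v : ↥leechLattice, Q v ≠ 0)
    (v : ↥leechLattice) : Q v = ((sqNorm (v : GolayPt → ℤ) / 16 : ℤ) : ZMod 2) := by
  have hQ : IsQF Q := ⟨hcoset, hquad⟩
  have c32 : ∀ x y : ↥leechLattice, sqNorm (x : GolayPt → ℤ) = 32 → sqNorm (y : GolayPt → ℤ) = 32 → Q x = Q y := by
    intro x y hx hy
    obtain ⟨g, rfl⟩ := min_transitive x y hx hy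
    exact (hinv g x).symm
  have c48 : ∀ x y : ↥leechLattice, sqNorm (x : GolayPt → ℤ) = 48 → sqNorm (y : GolayPt → ℤ) = 48 → Q x = Q y := by
    intro x y hx hy
    obtain ⟨g, rfl⟩ := norm6_transitive x y hx hy
    exact (hinv g x).symm
  have c64 : ∀ x y : ↥leechLattice, sqNorm (x : GolayPt → ℤ) = 64 → sqNorm (y : GolayPt → ℤ) = 64 → Q x = Q y := by
    intro x y hx hy
    obtain ⟨g, rfl⟩ := norm8_transitive x y hx hy
    exact (hinv g x).symm
  -- the value on the minimal vectors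
  have q2 : Q a01 = 0 := by
    have h := hquad w0 a01 b12
    rw [c32 _ a01 n1 n3, c32 w0 a01 n2 n3, c32 b12 a01 n4 n3, c32 (a01 + b12) a01 n7 n3,
      c48 (w0 + b12) (w0 + a01) n6 n5] at h
    generalize Q a01 = a at h ⊢
    generalize Q (w0 + a01) = b at h
    revert a b
    decide
  have q4 : Q (a56 + a01) = 0 := by
    have h := hquad a56 a01 c12
    rw [c64 _ (a56 + a01) m1 m5, c32 a56 a01 m2 n3, c32 c12 a01 m4 n3, c32 (a01 + c12) a01 m7 n3,
      c64 (a56 + c12) (a56 + a01) m6 m5] at h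
    generalize Q a01 = a at h
    generalize Q (a56 + a01) = b at h ⊢
    revert a b
    decide
  have h32 : ∀ x : ↥leechLattice, sqNorm (x : GolayPt → ℤ) = 32 → Q x = 0 := fun x hx => by
    rw [c32 x a01 hx n3, q2]
  have h64 : ∀ x : ↥leechLattice, sqNorm (x : GolayPt → ℤ) = 64 → Q x = 0 := fun x hx => by
    rw [c64 x _ hx m5, q4]
  have q3 : Q (w0 + a01) = 1 := by
    by_contra hc
    have h0 : Q (w0 + a01) = 0 := by
      generalize Q (w0 + a01) = a at hc ⊢
      revert a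
      decide
    obtain ⟨x, hx⟩ := hne
    exact hx (hQ.zero_of h32 (fun y hy => by rw [c48 y _ hy n5, h0]) h64 x)
  -- the difference from the norm form vanishes
  have hD := isQF_add hQ isQF_Q0
  have two : (((2 : ℤ)) : ZMod 2) = 0 := by decide
  have three : (((3 : ℤ)) : ZMod 2) = 1 := by decide
  have four : (((4 : ℤ)) : ZMod 2) = 0 := by decide
  have hz := hD.zero_of
    (fun y hy => by
      show Q y + Q0 y = 0
      unfold Q0
      rw [h32 y hy, hy, show (32 : ℤ) / 16 = 2 from by norm_num, two, add_zero])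
    (fun y hy => by
      show Q y + Q0 y = 0
      unfold Q0
      rw [c48 y _ hy n5, q3, hy, show (48 : ℤ) / 16 = 3 from by norm_num, three]
      decide)
    (fun y hy => by
      show Q y + Q0 y = 0
      unfold Q0
      rw [h64 y hy, hy, show (64 : ℤ) / 16 = 4 from by norm_num, four, add_zero])
    v
  have hz' : Q v + Q0 v = 0 := hz
  unfold Q0 at hz'
  generalize ((sqNorm (v : GolayPt → ℤ) / 16 : ℤ) : ZMod 2) = b at hz' ⊢
  generalize Q v = a at hz' ⊢
  revert a b
  decide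

end Cfsg.Agent.Helper22.QuadForm
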