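import Cfsg.Agent.Helper22.QuartetCount
import Cfsg.Agent.Helper27.M12

/-!
The stabiliser of a dodecad is transitive on its quartets.
-/

set_option autoImplicit false

namespace Cfsg.Agent.Helper22.Quartet

open Cfsg Cfsg.Agent.Helper27 Cfsg.Agent.Helper22.Design Cfsg.Agent.Helper22.GolayComb
open scoped Pointwise

variable {d : Finset GolayPt}

theorem smul_hexad_mem {g : Equiv.Perm GolayPt} (hg : g ∈ stabP d) {h : Finset GolayPt} (hh : h ∈ hexadsOn d) :
    g • h ∈ hexadsOn d := by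
  obtain ⟨hgM, hgd⟩ := (mem_stabP d g).mp hg
  obtain ⟨h6, o, ho, rfl⟩ := hh
  refine ⟨by rw [Finset.card_smul_finset, h6], g • o, smul_octad_mem hgM ho, ?_⟩
  rw [Finset.smul_finset_inter, hgd]

theorem smul_quartet_mem {g : Equiv.Perm GolayPt} (hg : g ∈ stabP d) {Q : Finset (Finset GolayPt)}
    (hQ : Q ∈ quartets d) : g • Q ∈ quartets d := by
  obtain ⟨hgM, hgd⟩ := (mem_stabP d g).mp hg
  refine ⟨by rw [Finset.card_smul_finset, hQ.1], ?_, ?_⟩
  · intro t ht
    obtain ⟨t0, ht0, rfl⟩ := Finset.mem_smul_finset.mp ht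
    refine ⟨by rw [Finset.card_smul_finset, (hQ.2.1 t0 ht0).1], ?_⟩
    rw [← hgd]
    exact Finset.smul_finset_subset_smul_finset (hQ.2.1 t0 ht0).2
  · intro t ht u hu htu
    obtain ⟨t0, ht0, rfl⟩ := Finset.mem_smul_finset.mp ht
    obtain ⟨u0, hu0, rfl⟩ := Finset.mem_smul_finset.mp hu
    have hne : t0 ≠ u0 := fun h => htu (by rw [h])
    rw [← Finset.smul_finset_union]
    exact smul_hexad_mem hg (hQ.2.2 t0 ht0 u0 hu0 hne)

/-- two hexads with five common points coincide -/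
theorem hexad_eq_of_inter {h h' : Finset GolayPt} (hh : h ∈ hexadsOn d) (hh' : h' ∈ hexadsOn d)
    (h5 : 5 ≤ (h ∩ h').card) : h = h' := by
  obtain ⟨_, o, ho, rfl⟩ := hh
  obtain ⟨_, o', ho', rfl⟩ := hh'
  have : o = o' := by
    apply octad_eq_of_inter ho ho'
    refine le_trans h5 (Finset.card_le_card ?_)
    intro p hp
    rw [Finset.mem_inter] at hp
    exact Finset.mem_inter.mpr ⟨(Finset.mem_inter.mp hp.1).1, (Finset.mem_inter.mp hp.2).1⟩
  rw [this]

theorem inj5 {α : Type*} (a b c e f : α) (hab : a ≠ b) (hac : a ≠ c) (hae : a ≠ e) (haf : a ≠ f)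
    (hbc : b ≠ c) (hbe : b ≠ e) (hbf : b ≠ f) (hce : c ≠ e) (hcf : c ≠ f) (hef : e ≠ f) :
    Function.Injective ![a, b, c, e, f] := by
  intro i j hij
  fin_cases i <;> fin_cases j <;>
    first
    | rfl
    | exact absurd hij hab | exact absurd hij.symm hab
    | exact absurd hij hac | exact absurd hij.symm hac
    | exact absurd hij hae | exact absurd hij.symm hae
    | exact absurd hij haf | exact absurd hij.symm haf
    | exact absurd hij hbc | exact absurd hij.symm hbc
    | exact absurd hij hbe | exact absurd hij.symm hbe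
    | exact absurd hij hbf | exact absurd hij.symm hbf
    | exact absurd hij hce | exact absurd hij.symm hce
    | exact absurd hij hcf | exact absurd hij.symm hcf
    | exact absurd hij hef | exact absurd hij.symm hef

theorem exists_two_mem {Q : Finset (Finset GolayPt)} (hQ : Q ∈ quartets d) : ∃ t ∈ Q, ∃ u ∈ Q, t ≠ u := by
  have h1 : 1 < Q.card := by rw [hQ.1]; norm_num
  obtain ⟨t, ht, u, hu, hne⟩ := Finset.one_lt_card.mp h1
  exact ⟨t, ht, u, hu, hne⟩

theorem quartet_transitive (hd : d ∈ dodecads) {Q Q' : Finset (Finset GolayPt)} (hQ : Q ∈ quartets d)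
    (hQ' : Q' ∈ quartets d) : ∃ g : Equiv.Perm GolayPt, g ∈ M24 ∧ g • d = d ∧ g • Q = Q' := by
  obtain ⟨t, ht, u, hu, htu⟩ := exists_two_mem hQ
  obtain ⟨t', ht', u', hu', htu'⟩ := exists_two_mem hQ'
  obtain ⟨ht3, htd⟩ := hQ.2.1 t ht
  obtain ⟨hu3, hud⟩ := hQ.2.1 u hu
  obtain ⟨ht3', htd'⟩ := hQ'.2.1 t' ht'
  obtain ⟨hu3', hud'⟩ := hQ'.2.1 u' hu'
  have hdis := quartet_disjoint hQ ht hu htu
  have hdis' := quartet_disjoint hQ' ht' hu' htu'
  have hhex := hQ.2.2 t ht u hu htu
  have hhex' := hQ'.2.2 t' ht' u' hu' htu'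
  obtain ⟨x0, x1, x2, h01, h02, h12, rfl⟩ := Finset.card_eq_three.mp ht3
  obtain ⟨x3, x4, x5, h34, h35, h45, rfl⟩ := Finset.card_eq_three.mp hu3
  obtain ⟨y0, y1, y2, k01, k02, k12, rfl⟩ := Finset.card_eq_three.mp ht3'
  obtain ⟨y3, y4, y5, k34, k35, k45, rfl⟩ := Finset.card_eq_three.mp hu3'
  have hx : ∀ a ∈ ({x0, x1, x2} : Finset GolayPt), ∀ b ∈ ({x3, x4, x5} : Finset GolayPt), a ≠ b := by
    intro a ha b hb hab
    exact (Finset.disjoint_left.mp hdis) ha (hab ▸ hb)
  have hy : ∀ a ∈ ({y0, y1, y2} : Finset GolayPt), ∀ b ∈ ({y3, y4, y5} : Finset GolayPt), a ≠ b := by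
    intro a ha b hb hab
    exact (Finset.disjoint_left.mp hdis') ha (hab ▸ hb)
  have hxinj : Function.Injective ![x0, x1, x2, x3, x4] :=
    inj5 x0 x1 x2 x3 x4 h01 h02 (hx x0 (by simp) x3 (by simp)) (hx x0 (by simp) x4 (by simp)) h12
      (hx x1 (by simp) x3 (by simp)) (hx x1 (by simp) x4 (by simp)) (hx x2 (by simp) x3 (by simp))
      (hx x2 (by simp) x4 (by simp)) h34
  have hyinj : Function.Injective ![y0, y1, y2, y3, y4] :=
    inj5 y0 y1 y2 y3 y4 k01 k02 (hy y0 (by simp) y3 (by simp)) (hy y0 (by simp) y4 (by simp)) k12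
      (hy y1 (by simp) y3 (by simp)) (hy y1 (by simp) y4 (by simp)) (hy y2 (by simp) y3 (by simp))
      (hy y2 (by simp) y4 (by simp)) k34
  have hxd : ∀ i, ![x0, x1, x2, x3, x4] i ∈ d := by
    intro i
    fin_cases i
    · exact htd (by simp)
    · exact htd (by simp)
    · exact htd (by simp)
    · exact hud (by simp)
    · exact hud (by simp)
  have hyd : ∀ i, ![y0, y1, y2, y3, y4] i ∈ d := by
    intro i
    fin_cases i
    · exact htd' (by simp)
    · exact htd' (by simp)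
    · exact htd' (by simp)
    · exact hud' (by simp)
    · exact hud' (by simp)
  obtain ⟨k, hk, hkxy, _⟩ := stabP_sharp5 hd _ _ hxinj hyinj hxd hyd
  have hk0 : k x0 = y0 := hkxy 0
  have hk1 : k x1 = y1 := hkxy 1
  have hk2 : k x2 = y2 := hkxy 2
  have hk3 : k x3 = y3 := hkxy 3
  have hk4 : k x4 = y4 := hkxy 4
  obtain ⟨hkM, hkd⟩ := (mem_stabP d k).mp hk
  refine ⟨k, hkM, hkd, ?_⟩
  have hkt : k • ({x0, x1, x2} : Finset GolayPt) = {y0, y1, y2} := by
    rw [Finset.smul_finset_insert, Finset.smul_finset_insert, Finset.smul_finset_singleton]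
    simp only [Equiv.Perm.smul_def, hk0, hk1, hk2]
  have hkhex : k • (({x0, x1, x2} : Finset GolayPt) ∪ {x3, x4, x5}) = {y0, y1, y2} ∪ {y3, y4, y5} := by
    apply hexad_eq_of_inter (smul_hexad_mem hk hhex) hhex'
    have hsub : ({y0, y1, y2, y3, y4} : Finset GolayPt) ⊆
        k • (({x0, x1, x2} : Finset GolayPt) ∪ {x3, x4, x5}) ∩ ({y0, y1, y2} ∪ {y3, y4, y5}) := by
      intro p hp
      rw [Finset.mem_inter]
      constructor
      · rw [Finset.mem_smul_finset]
        simp only [Finset.mem_insert, Finset.mem_singleton] at hp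
        rcases hp with rfl | rfl | rfl | rfl | rfl
        · exact ⟨x0, by simp, hk0⟩
        · exact ⟨x1, by simp, hk1⟩
        · exact ⟨x2, by simp, hk2⟩
        · exact ⟨x3, by simp, hk3⟩
        · exact ⟨x4, by simp, hk4⟩
      · simp only [Finset.mem_insert, Finset.mem_singleton, Finset.mem_union] at hp ⊢
        tauto
    have hc5 : ({y0, y1, y2, y3, y4} : Finset GolayPt).card = 5 := by
      have := Finset.card_image_of_injective (Finset.univ : Finset (Fin 5)) hyinj
      rw [Finset.card_univ, Fintype.card_fin] at this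
      rw [← this]
      congr 1
      ext p
      simp only [Finset.mem_insert, Finset.mem_singleton, Finset.mem_image, Finset.mem_univ, true_and]
      constructor
      · rintro (rfl | rfl | rfl | rfl | rfl)
        · exact ⟨0, rfl⟩
        · exact ⟨1, rfl⟩
        · exact ⟨2, rfl⟩
        · exact ⟨3, rfl⟩
        · exact ⟨4, rfl⟩
      · rintro ⟨i, rfl⟩
        fin_cases i <;> simp
    rw [← hc5]
    exact Finset.card_le_card hsub
  have hku : k • ({x3, x4, x5} : Finset GolayPt) = {y3, y4, y5} := by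
    have e1 : (({x0, x1, x2} : Finset GolayPt) ∪ {x3, x4, x5}) \ {x0, x1, x2} = {x3, x4, x5} :=
      Finset.union_sdiff_cancel_left hdis
    have e2 : (({y0, y1, y2} : Finset GolayPt) ∪ {y3, y4, y5}) \ {y0, y1, y2} = {y3, y4, y5} :=
      Finset.union_sdiff_cancel_left hdis'
    rw [← e1, Finset.smul_finset_sdiff, hkhex, hkt, e2]
  have hkQ := smul_quartet_mem hk hQ
  obtain ⟨Q0, _, huniq⟩ := existsUnique_quartet hd ht3' hu3' hdis' hhex'
  have h1 : k • Q = Q0 := huniq _ ⟨hkQ, by rw [← hkt]; exact Finset.smul_mem_smul_finset ht,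
    by rw [← hku]; exact Finset.smul_mem_smul_finset hu⟩
  have h2 : Q' = Q0 := huniq _ ⟨hQ', ht', hu'⟩
  rw [h1, h2]

end Cfsg.Agent.Helper22.Quartet
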