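import Cfsg.Agent.Helper22.OrbitClasses
import Cfsg.Agent.Helper27.M24Trans

/-!
# Orbits of stabilisers in `M24`: from a standard reference object to a general one

`β` is the type of reference objects (octads, sextets, trios, …), `γ` the type of the objects acted on,
`F` an `M24`-invariant family in `γ`, and `inv A X` a joint invariant.
-/

set_option autoImplicit false

namespace Cfsg.Agent.Helper22.StabOrbits

open Cfsg
open scoped Pointwise

variable {β γ : Type*} [MulAction (Equiv.Perm GolayPt) β] [MulAction (Equiv.Perm GolayPt) γ]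

/-- the stabiliser in `M24` of a reference object -/
def stabIn (A : β) : Subgroup (Equiv.Perm GolayPt) := M24 ⊓ MulAction.stabilizer (Equiv.Perm GolayPt) A

theorem mem_stabIn (A : β) (g : Equiv.Perm GolayPt) : g ∈ stabIn A ↔ g ∈ M24 ∧ g • A = A := by
  rw [stabIn, Subgroup.mem_inf]
  exact Iff.rfl

theorem stabIn_le (A : β) : stabIn A ≤ M24 := inf_le_left

variable (F : Set γ) (hF : ∀ g ∈ M24, ∀ X ∈ F, g • X ∈ F) (inv : β → γ → ℕ)
  (hinv : ∀ (g : Equiv.Perm GolayPt) (A : β) (X : γ), inv (g • A) (g • X) = inv A X)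

include hinv in
theorem inv_smul_of_stab {A : β} {g : Equiv.Perm GolayPt} (hg : g • A = A) (X : γ) : inv A (g • X) = inv A X := by
  have := hinv g A X
  rwa [hg] at this

include hF hinv in
/-- transitivity on classes transfers from the standard reference object -/
theorem trans_general {A0 A : β} {g0 : Equiv.Perm GolayPt} (hg0 : g0 ∈ M24) (hA : g0 • A = A0)
    (hstd : ∀ X ∈ F, ∀ Y ∈ F, inv A0 X = inv A0 Y → ∃ k ∈ stabIn A0, k • X = Y) :
    ∀ X ∈ F, ∀ Y ∈ F, inv A X = inv A Y → ∃ g ∈ stabIn A, g • X = Y := by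
  intro X hX Y hY hXY
  have h1 : inv A0 (g0 • X) = inv A0 (g0 • Y) := by
    rw [← hA, hinv, hinv, hXY]
  obtain ⟨k, hk, hkX⟩ := hstd _ (hF g0 hg0 X hX) _ (hF g0 hg0 Y hY) h1
  obtain ⟨hkM, hkA⟩ := (mem_stabIn A0 k).mp hk
  refine ⟨g0⁻¹ * k * g0, ?_, ?_⟩
  · rw [mem_stabIn]
    refine ⟨M24.mul_mem (M24.mul_mem (M24.inv_mem hg0) hkM) hg0, ?_⟩
    rw [mul_smul, mul_smul, hA, hkA, ← hA, inv_smul_smul]
  · rw [mul_smul, mul_smul, hkX, inv_smul_smul]

include hF hinv in
/-- class sizes transfer from the standard reference object -/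
theorem count_general {A0 A : β} {g0 : Equiv.Perm GolayPt} (hg0 : g0 ∈ M24) (hA : g0 • A = A0) (v : ℕ) :
    {X | X ∈ F ∧ inv A X = v}.ncard = {X | X ∈ F ∧ inv A0 X = v}.ncard := by
  have himg : {X | X ∈ F ∧ inv A0 X = v} = (fun X => g0 • X) '' {X | X ∈ F ∧ inv A X = v} := by
    ext Y
    simp only [Set.mem_image, Set.mem_ofPred_eq]
    constructor
    · rintro ⟨hY, hv⟩
      refine ⟨g0⁻¹ • Y, ⟨hF _ (M24.inv_mem hg0) Y hY, ?_⟩, smul_inv_smul g0 Y⟩
      rw [← hv, ← hA, ← hinv g0 A (g0⁻¹ • Y), smul_inv_smul]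
    · rintro ⟨X, ⟨hX, hv⟩, rfl⟩
      exact ⟨hF g0 hg0 X hX, by rw [← hA, hinv, hv]⟩
  rw [himg, Set.ncard_image_of_injective _ (MulAction.injective g0)]

include hF hinv in
/-- a non-empty class is an orbit of the stabiliser -/
theorem exists_orbit {A : β} (htrans : ∀ X ∈ F, ∀ Y ∈ F, inv A X = inv A Y → ∃ g ∈ stabIn A, g • X = Y)
    (v n : ℕ) (hc : {X | X ∈ F ∧ inv A X = v}.ncard = n) (hn : n ≠ 0) :
    ∃ X ∈ F, MulAction.orbit ↥(MulAction.stabilizer ↥M24 A) X = {Y | Y ∈ F ∧ inv A Y = v} ∧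
      (MulAction.orbit ↥(MulAction.stabilizer ↥M24 A) X).ncard = n := by
  refine OrbitClasses.exists_orbit_eq_class (G := ↥(MulAction.stabilizer ↥M24 A)) F (inv A) ?_ ?_ ?_ v n hc hn
  · intro g X hX
    exact hF _ g.1.2 X hX
  · intro g X _
    have hg : ((g : ↥M24) : Equiv.Perm GolayPt) • A = A := MulAction.mem_stabilizer_iff.mp g.2
    exact inv_smul_of_stab inv hinv hg X
  · intro X hX Y hY hXY
    obtain ⟨g, hg, hgX⟩ := htrans X hX Y hY hXY
    obtain ⟨hgM, hgA⟩ := (mem_stabIn A g).mp hg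
    exact ⟨⟨⟨g, hgM⟩, MulAction.mem_stabilizer_iff.mpr hgA⟩, hgX⟩

/-! ### The sum-of-squares invariant of two families of sets -/

/-- `∑_{u ∈ X} ∑_{a ∈ A} |u ∩ a|²` -/
def invS (A X : Finset (Finset GolayPt)) : ℕ := X.sum (fun u => A.sum (fun a => (u ∩ a).card ^ 2))

theorem sum_smul_family {M : Type*} [AddCommMonoid M] (g : Equiv.Perm GolayPt) (X : Finset (Finset GolayPt))
    (φ : Finset GolayPt → M) : (g • X).sum φ = X.sum (fun t => φ (g • t)) := by
  rw [← Finset.image_smul, Finset.sum_image (fun a _ b _ h => MulAction.injective g h)]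

theorem invS_smul (g : Equiv.Perm GolayPt) (A X : Finset (Finset GolayPt)) : invS (g • A) (g • X) = invS A X := by
  unfold invS
  rw [sum_smul_family]
  apply Finset.sum_congr rfl
  intro u _
  rw [sum_smul_family]
  apply Finset.sum_congr rfl
  intro a _
  rw [← Finset.smul_finset_inter, Finset.card_smul_finset]

/-- the invariant of a set of points against a family -/
def invP (o : Finset GolayPt) (X : Finset (Finset GolayPt)) : ℕ := X.sum (fun u => (u ∩ o).card ^ 2)

theorem invP_smul (g : Equiv.Perm GolayPt) (o : Finset GolayPt) (X : Finset (Finset GolayPt)) :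
    invP (g • o) (g • X) = invP o X := by
  unfold invP
  rw [sum_smul_family]
  apply Finset.sum_congr rfl
  intro u _
  rw [← Finset.smul_finset_inter, Finset.card_smul_finset]

end Cfsg.Agent.Helper22.StabOrbits
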