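import Cfsg.Agent.Helper22.QuartCert
import Cfsg.Agent.Helper22.QuartetTrans
import Cfsg.Agent.Helper22.StabOrbits
import Cfsg.Agent.Helper22.SextetCode

/-!
# Orbits of the stabiliser of a dodecad and one of its quartets on the quartets of the dodecad
-/

set_option autoImplicit false

namespace Cfsg.Agent.Helper22.QuartOrb

open Cfsg Cfsg.Agent.Helper27 Cfsg.Agent.Helper22.FamDesc Cfsg.Agent.Helper22.QuartCert
  Cfsg.Agent.Helper22.Quartet Cfsg.Agent.Helper22.StabOrbits
open scoped Pointwise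

/-! ### Families given by sorted lists -/

theorem nodup_map_maskSet {L : List ℕ} (h : sortedB L = true) : (L.map maskSet).Nodup := by
  obtain ⟨hp, hlt⟩ := sortedB_spec h
  refine List.Nodup.map_on ?_ (hp.imp (fun hab => ne_of_lt hab))
  intro a ha b hb hab
  exact Cfsg.Agent.Helper27.maskSet_injOn (hlt a ha) (hlt b hb) hab

theorem sum_famOf {L : List ℕ} (h : sortedB L = true) (f : Finset GolayPt → ℕ) :
    (famOf L).sum f = (L.map (fun m => f (maskSet m))).sum := by
  rw [famOf, List.sum_toFinset _ (nodup_map_maskSet h), List.map_map]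
  rfl

theorem card_famOf {L : List ℕ} (h : sortedB L = true) : (famOf L).card = L.length := by
  rw [famOf, List.toFinset_card_of_nodup (nodup_map_maskSet h), List.length_map]

/-! ### The fourth-power invariant -/

/-- `∑_{u ∈ X} ∑_{a ∈ A} |u ∩ a|⁴` -/
def inv4 (A X : Finset (Finset GolayPt)) : ℕ := X.sum (fun u => A.sum (fun a => (u ∩ a).card ^ 4))

theorem inv4_smul (g : Equiv.Perm GolayPt) (A X : Finset (Finset GolayPt)) : inv4 (g • A) (g • X) = inv4 A X := by
  unfold inv4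
  rw [sum_smul_family]
  apply Finset.sum_congr rfl
  intro u _
  rw [sum_smul_family]
  apply Finset.sum_congr rfl
  intro a _
  rw [← Finset.smul_finset_inter, Finset.card_smul_finset]

/-! ### The standard dodecad and quartet -/

/-- the standard quartet -/
def Q0 : Finset (Finset GolayPt) := famOf Q0L

theorem hexW_ok : hexW.all (fun p => isOct p.2 && (p.2 &&& dod0 == p.1) && (popc 24 p.1 == 6)) = true := by
  decide +kernel

theorem hexW_mem {p : ℕ × ℕ} (hp : p ∈ hexW) : maskSet p.1 ∈ hexadsOn (maskSet dod0) := by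
  have := List.all_eq_true.mp hexW_ok p hp
  simp only [Bool.and_eq_true, beq_iff_eq] at this
  obtain ⟨⟨h1, h2⟩, h3⟩ := this
  refine ⟨by rw [card_maskSet, h3], maskSet p.2, maskSet_mem_octads h1, ?_⟩
  rw [← maskSet_and, h2]

/-- the test for the quartets of the standard dodecad -/
def quartOK (L : List ℕ) : Bool :=
  sortedB L && (L.length == 4) && L.all (fun m => (popc 24 m == 3) && (dod0 &&& m == m)) &&
  L.all (fun m => L.all (fun m' => Nat.ble m' m || hexW.any (fun p => p.1 == (m ||| m'))))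

theorem quartL_ok : quartL.all quartOK = true := by decide +kernel

theorem quartL_sorted : ∀ L ∈ quartL, sortedB L = true := by
  intro L hL
  have := List.all_eq_true.mp quartL_ok L hL
  simp only [quartOK, Bool.and_eq_true] at this
  exact this.1.1.1

theorem quartL_nodup : quartL.Nodup := by decide +kernel

theorem quartL_length : quartL.length = 220 := by decide +kernel

theorem quartL_mem : ∀ L ∈ quartL, famOf L ∈ quartets (maskSet dod0) := by
  intro L hL
  have := List.all_eq_true.mp quartL_ok L hL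
  simp only [quartOK, Bool.and_eq_true, beq_iff_eq, List.all_eq_true, Bool.or_eq_true, Nat.ble_eq,
    List.any_eq_true] at this
  obtain ⟨⟨⟨hs, hlen⟩, h3⟩, hpair⟩ := this
  obtain ⟨hp, hlt⟩ := sortedB_spec hs
  refine ⟨by rw [card_famOf hs, hlen], ?_, ?_⟩
  · intro t ht
    obtain ⟨m, hm, rfl⟩ := (mem_famOf _ _).mp ht
    exact ⟨by rw [card_maskSet, (h3 m hm).1], SextetCode.maskSet_subset_of_and (h3 m hm).2⟩
  · intro t ht u hu htu
    obtain ⟨m, hm, rfl⟩ := (mem_famOf _ _).mp ht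
    obtain ⟨m', hm', rfl⟩ := (mem_famOf _ _).mp hu
    have hne : m ≠ m' := fun h => htu (by rw [h])
    rcases lt_or_gt_of_ne hne with hlt' | hlt'
    · rcases hpair m hm m' hm' with h | ⟨p, hp, hpe⟩
      · omega
      · rw [← maskSet_or, ← hpe]
        exact hexW_mem hp
    · rcases hpair m' hm' m hm with h | ⟨p, hp, hpe⟩
      · omega
      · rw [Finset.union_comm, ← maskSet_or, ← hpe]
        exact hexW_mem hp

theorem quartL_complete : ∀ X ∈ quartets (maskSet dod0), ∃ L ∈ quartL, famOf L = X := by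
  refine complete_of_ncard quartL_sorted quartL_nodup quartL_mem (Set.toFinite _) ?_
  rw [quartets_ncard maskSet_dod0_mem, quartL_length]

theorem Q0L_mem : Q0L ∈ quartL := by decide +kernel

theorem Q0_mem : Q0 ∈ quartets (maskSet dod0) := quartL_mem Q0L Q0L_mem

theorem inner4 {m a : ℕ} : (maskSet m ∩ maskSet a).card ^ 4 = popc 24 (m &&& a) ^ 4 := by
  rw [← maskSet_and, card_maskSet]

theorem inv4_famOf_gen {A L : List ℕ} (hA : sortedB A = true) (hL : sortedB L = true) :
    inv4 (famOf A) (famOf L) = (L.map (fun m => (A.map (fun a => popc 24 (m &&& a) ^ 4)).sum)).sum := by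
  unfold inv4
  rw [sum_famOf hL]
  simp only [sum_famOf hA, inner4]

theorem inv4_famOf {L : List ℕ} (hL : sortedB L = true) : inv4 Q0 (famOf L) = invM L :=
  inv4_famOf_gen (quartL_sorted Q0L Q0L_mem) hL

/-! ### The stabiliser of a dodecad and a quartet -/

/-- the stabiliser in `M24` of a dodecad and a family of sets -/
def stab2 (d : Finset GolayPt) (Q : Finset (Finset GolayPt)) : Subgroup (Equiv.Perm GolayPt) :=
  stabP d ⊓ MulAction.stabilizer (Equiv.Perm GolayPt) Q

theorem mem_stab2 (d : Finset GolayPt) (Q : Finset (Finset GolayPt)) (g : Equiv.Perm GolayPt) :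
    g ∈ stab2 d Q ↔ g ∈ M24 ∧ g • d = d ∧ g • Q = Q := by
  rw [stab2, Subgroup.mem_inf, mem_stabP, and_assoc]
  exact Iff.rfl

theorem stab2_le (d : Finset GolayPt) (Q : Finset (Finset GolayPt)) : stab2 d Q ≤ stabP d := inf_le_left

theorem certSoundQ : CertSound (stab2 (maskSet dod0) Q0) certQ := by
  intro T hv h
  rw [certQ, Bool.and_eq_true, Bool.and_eq_true, beq_iff_eq] at h
  obtain ⟨⟨h1, h2⟩, h3⟩ := h
  rw [mem_stab2]
  refine ⟨tblPerm_mem_M24 T hv h1, ?_, ?_⟩
  · have := maskSet_applyTbl hv dod0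
    rw [h2] at this
    rw [eq_comm, inv_smul_eq_iff] at this
    exact this.symm
  · exact (smul_famOf_eq_iff (tblPerm_represents T hv)
      (sortedB_spec (quartL_sorted Q0L Q0L_mem)).2).mpr h3

theorem vals_ok : quartL.all (fun L => [324, 90, 68, 54, 26].contains (invM L)) = true := by decide +kernel

theorem std_vals {X : Finset (Finset GolayPt)} (hX : X ∈ quartets (maskSet dod0)) :
    inv4 Q0 X = 324 ∨ inv4 Q0 X = 90 ∨ inv4 Q0 X = 68 ∨ inv4 Q0 X = 54 ∨ inv4 Q0 X = 26 := by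
  obtain ⟨L, hL, rfl⟩ := quartL_complete X hX
  rw [inv4_famOf (quartL_sorted L hL)]
  have := List.all_eq_true.mp vals_ok L hL
  simpa using this

theorem std_count (v : ℕ) :
    {X | X ∈ quartets (maskSet dod0) ∧ inv4 Q0 X = v}.ncard = quartL.countP (fun L => invM L == v) := by
  refine ncard_fam quartL_sorted quartL_nodup quartL_complete quartL_mem (fun X => inv4 Q0 X = v)
    (fun L => invM L == v) ?_
  intro L hL
  rw [inv4_famOf (quartL_sorted L hL), beq_iff_eq]

theorem std_orbit {v : ℕ} {gens : List (List ℕ)} {dmin : List ℕ}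
    (h : famDescOK certQ gens (quartL.filter (fun L => invM L == v)) dmin = true)
    {X Y : Finset (Finset GolayPt)} (hX : X ∈ quartets (maskSet dod0)) (hY : Y ∈ quartets (maskSet dod0))
    (hXv : inv4 Q0 X = v) (hYv : inv4 Q0 Y = v) : ∃ g ∈ stab2 (maskSet dod0) Q0, g • X = Y := by
  refine fam_orbit certSoundQ quartL_sorted quartL_complete quartL_mem (fun X => inv4 Q0 X = v)
    (fun L => invM L == v) ?_ ?_ ?_ ?_ h hX hY hXv hYv
  · intro L hL
    rw [inv4_famOf (quartL_sorted L hL), beq_iff_eq]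
  · intro g hg X hX
    exact smul_quartet_mem (stab2_le _ _ hg) hX
  · intro g hg X _ hXv
    have hgQ := ((mem_stab2 _ _ g).mp hg).2.2
    have := inv4_smul g Q0 X
    rw [hgQ] at this
    rw [this]
    exact hXv
  · intro L hL hq
    exact List.mem_filter.mpr ⟨hL, hq⟩

theorem std_trans : ∀ X ∈ quartets (maskSet dod0), ∀ Y ∈ quartets (maskSet dod0), inv4 Q0 X = inv4 Q0 Y →
    ∃ k ∈ stab2 (maskSet dod0) Q0, k • X = Y := by
  intro X hX Y hY hXY
  rcases std_vals hX with h | h | h | h | h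
  · exact std_orbit desc324 hX hY h (hXY ▸ h)
  · exact std_orbit desc90 hX hY h (hXY ▸ h)
  · exact std_orbit desc68 hX hY h (hXY ▸ h)
  · exact std_orbit desc54 hX hY h (hXY ▸ h)
  · exact std_orbit desc26 hX hY h (hXY ▸ h)

/-! ### Transport to a general dodecad and quartet -/

theorem smul_hexad_gen {g : Equiv.Perm GolayPt} (hg : g ∈ M24) {d h : Finset GolayPt} (hh : h ∈ hexadsOn d) :
    g • h ∈ hexadsOn (g • d) := by
  obtain ⟨h6, o, ho, rfl⟩ := hh
  refine ⟨by rw [Finset.card_smul_finset, h6], g • o, smul_octad_mem hg ho, ?_⟩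
  rw [Finset.smul_finset_inter]

theorem smul_quartet_gen {g : Equiv.Perm GolayPt} (hg : g ∈ M24) {d : Finset GolayPt}
    {Q : Finset (Finset GolayPt)} (hQ : Q ∈ quartets d) : g • Q ∈ quartets (g • d) := by
  refine ⟨by rw [Finset.card_smul_finset, hQ.1], ?_, ?_⟩
  · intro t ht
    obtain ⟨t0, ht0, rfl⟩ := Finset.mem_smul_finset.mp ht
    refine ⟨by rw [Finset.card_smul_finset, (hQ.2.1 t0 ht0).1], ?_⟩
    exact Finset.smul_finset_subset_smul_finset (hQ.2.1 t0 ht0).2
  · intro t ht u hu htu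
    obtain ⟨t0, ht0, rfl⟩ := Finset.mem_smul_finset.mp ht
    obtain ⟨u0, hu0, rfl⟩ := Finset.mem_smul_finset.mp hu
    have hne : t0 ≠ u0 := fun h => htu (by rw [h])
    rw [← Finset.smul_finset_union]
    exact smul_hexad_gen hg (hQ.2.2 t0 ht0 u0 hu0 hne)

theorem exists_to_std {d : Finset GolayPt} (hd : d ∈ dodecads) {Q : Finset (Finset GolayPt)}
    (hQ : Q ∈ quartets d) : ∃ g ∈ M24, g • d = maskSet dod0 ∧ g • Q = Q0 := by
  obtain ⟨g0, hg0, hg0d⟩ := exists_smul_eq_dod0 hd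
  have hQ' : g0 • Q ∈ quartets (maskSet dod0) := hg0d ▸ smul_quartet_gen hg0 hQ
  obtain ⟨k, hk, hkd, hkQ⟩ := quartet_transitive maskSet_dod0_mem hQ' Q0_mem
  refine ⟨k * g0, M24.mul_mem hk hg0, ?_, ?_⟩
  · rw [mul_smul, hg0d, hkd]
  · rw [mul_smul, hkQ]

variable {d : Finset GolayPt} {Q : Finset (Finset GolayPt)}

theorem gen_trans (hd : d ∈ dodecads) (hQ : Q ∈ quartets d) :
    ∀ X ∈ quartets d, ∀ Y ∈ quartets d, inv4 Q X = inv4 Q Y → ∃ g ∈ stab2 d Q, g • X = Y := by
  obtain ⟨g0, hg0, hg0d, hg0Q⟩ := exists_to_std hd hQ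
  intro X hX Y hY hXY
  have hX' : g0 • X ∈ quartets (maskSet dod0) := hg0d ▸ smul_quartet_gen hg0 hX
  have hY' : g0 • Y ∈ quartets (maskSet dod0) := hg0d ▸ smul_quartet_gen hg0 hY
  have h1 : inv4 Q0 (g0 • X) = inv4 Q0 (g0 • Y) := by
    rw [← hg0Q, inv4_smul, inv4_smul, hXY]
  obtain ⟨k, hk, hkX⟩ := std_trans _ hX' _ hY' h1
  obtain ⟨hkM, hkd, hkQ⟩ := (mem_stab2 _ _ k).mp hk
  refine ⟨g0⁻¹ * k * g0, ?_, ?_⟩
  · rw [mem_stab2]
    refine ⟨M24.mul_mem (M24.mul_mem (M24.inv_mem hg0) hkM) hg0, ?_, ?_⟩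
    · rw [mul_smul, mul_smul, hg0d, hkd, ← hg0d, inv_smul_smul]
    · rw [mul_smul, mul_smul, hg0Q, hkQ, ← hg0Q, inv_smul_smul]
  · rw [mul_smul, mul_smul, hkX, inv_smul_smul]

theorem gen_count (hd : d ∈ dodecads) (hQ : Q ∈ quartets d) (v : ℕ) :
    {X | X ∈ quartets d ∧ inv4 Q X = v}.ncard = quartL.countP (fun L => invM L == v) := by
  obtain ⟨g0, hg0, hg0d, hg0Q⟩ := exists_to_std hd hQ
  rw [← std_count v]
  have himg : {X | X ∈ quartets (maskSet dod0) ∧ inv4 Q0 X = v} =
      (fun X => g0 • X) '' {X | X ∈ quartets d ∧ inv4 Q X = v} := by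
    ext Y
    simp only [Set.mem_image, Set.mem_ofPred_eq]
    constructor
    · rintro ⟨hY, hv⟩
      refine ⟨g0⁻¹ • Y, ⟨?_, ?_⟩, smul_inv_smul g0 Y⟩
      · have := smul_quartet_gen (M24.inv_mem hg0) hY
        rwa [← hg0d, inv_smul_smul] at this
      · rw [← hv, ← hg0Q, ← inv4_smul g0 Q (g0⁻¹ • Y), smul_inv_smul]
    · rintro ⟨X, ⟨hX, hv⟩, rfl⟩
      exact ⟨hg0d ▸ smul_quartet_gen hg0 hX, by rw [← hg0Q, inv4_smul, hv]⟩
  rw [himg, Set.ncard_image_of_injective _ (MulAction.injective g0)]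

theorem gen_vals (hd : d ∈ dodecads) (hQ : Q ∈ quartets d) {X : Finset (Finset GolayPt)} (hX : X ∈ quartets d) :
    inv4 Q X = 324 ∨ inv4 Q X = 90 ∨ inv4 Q X = 68 ∨ inv4 Q X = 54 ∨ inv4 Q X = 26 := by
  obtain ⟨g0, hg0, hg0d, hg0Q⟩ := exists_to_std hd hQ
  have hX' : g0 • X ∈ quartets (maskSet dod0) := hg0d ▸ smul_quartet_gen hg0 hX
  have := std_vals hX'
  rwa [← hg0Q, inv4_smul] at this

theorem invM_Q0L : invM Q0L = 324 := by decide +kernel

theorem gen_self (hd : d ∈ dodecads) (hQ : Q ∈ quartets d) : inv4 Q Q = 324 := by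
  obtain ⟨g0, hg0, hg0d, hg0Q⟩ := exists_to_std hd hQ
  rw [← inv4_smul g0 Q Q, hg0Q]
  show inv4 Q0 (famOf Q0L) = 324
  rw [inv4_famOf (quartL_sorted Q0L Q0L_mem), invM_Q0L]

end Cfsg.Agent.Helper22.QuartOrb
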