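import Cfsg.Agent.Helper22.GolayDodecad
import Cfsg.Agent.Helper27.M12Hexads

/-!
Hexads and quartets of a dodecad of the length-24 code.
-/

set_option autoImplicit false

namespace Cfsg.Agent.Helper22.Quartet

open Cfsg Cfsg.Agent.Helper27 Cfsg.Agent.Helper22.Design Cfsg.Agent.Helper22.GolayComb

variable {d : Finset GolayPt}

theorem hexad_sub {h : Finset GolayPt} (hh : h ∈ hexadsOn d) : h ⊆ d := by
  obtain ⟨_, o, _, rfl⟩ := hh
  exact Finset.inter_subset_right

theorem hexad_card {h : Finset GolayPt} (hh : h ∈ hexadsOn d) : h.card = 6 := hh.1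

/-- two distinct octads meet in 0, 2 or 4 points -/
theorem octad_inter_card {o o' : Finset GolayPt} (ho : o ∈ octads) (ho' : o' ∈ octads) (hne : o ≠ o') :
    (o ∩ o').card = 0 ∨ (o ∩ o').card = 2 ∨ (o ∩ o').card = 4 := by
  have h1 := card_rel o o'
  have h2 := supp_card (symmDiff_mem_supp ho.1 ho'.1)
  have h3 : (o ∩ o').card < 5 := by
    by_contra h
    exact hne (octad_eq_of_inter ho ho' (by omega))
  rw [ho.2, ho'.2] at h1
  omega

/-- the complement in `d` of a hexad is a hexad -/
theorem compl_hexad (hd : d ∈ dodecads) {h : Finset GolayPt} (hh : h ∈ hexadsOn d) : d \ h ∈ hexadsOn d := by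
  obtain ⟨h6, o, ho, rfl⟩ := hh
  have hx := symmDiff_mem_supp hd.1 ho.1
  have h1 := card_rel d o
  rw [Finset.inter_comm d o, hd.2, ho.2, h6] at h1
  refine ⟨by rw [Finset.card_sdiff_of_subset Finset.inter_subset_right, hd.2, h6], symmDiff d o, ⟨hx, by omega⟩, ?_⟩
  ext p
  simp only [Finset.mem_inter, Finset.mem_symmDiff, Finset.mem_sdiff]
  tauto

/-- if `t ∪ u` and `t ∪ v` are hexads, with `t`, `u`, `v` pairwise disjoint triples, then `u ∪ v` is a hexad -/
theorem hexad_union_of {t u v : Finset GolayPt} (ht : t.card = 3) (hu : u.card = 3) (hv : v.card = 3)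
    (htu : Disjoint t u) (htv : Disjoint t v) (huv : Disjoint u v)
    (h1 : t ∪ u ∈ hexadsOn d) (h2 : t ∪ v ∈ hexadsOn d) : u ∪ v ∈ hexadsOn d := by
  obtain ⟨_, o1, ho1, e1⟩ := h1
  obtain ⟨_, o2, ho2, e2⟩ := h2
  have hune : u.Nonempty := by rw [← Finset.card_pos]; omega
  obtain ⟨q, hq⟩ := hune
  have hne : o1 ≠ o2 := by
    rintro rfl
    have : q ∈ t ∪ v := by rw [← e2, e1]; exact Finset.mem_union_right _ hq
    rcases Finset.mem_union.mp this with h | h
    · exact (Finset.disjoint_left.mp htu) h hq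
    · exact (Finset.disjoint_left.mp huv) hq h
  have hsub : t ⊆ o1 ∩ o2 := by
    intro p hp
    have hp1 : p ∈ o1 ∩ d := by rw [e1]; exact Finset.mem_union_left _ hp
    have hp2 : p ∈ o2 ∩ d := by rw [e2]; exact Finset.mem_union_left _ hp
    exact Finset.mem_inter.mpr ⟨(Finset.mem_inter.mp hp1).1, (Finset.mem_inter.mp hp2).1⟩
  have h3 : 3 ≤ (o1 ∩ o2).card := ht ▸ Finset.card_le_card hsub
  have h4 : (o1 ∩ o2).card = 4 := by
    rcases octad_inter_card ho1 ho2 hne with h | h | h <;> omega
  have hc := card_rel o1 o2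
  rw [ho1.2, ho2.2, h4] at hc
  refine ⟨by rw [Finset.card_union_of_disjoint huv, hu, hv], symmDiff o1 o2,
    ⟨symmDiff_mem_supp ho1.1 ho2.1, by omega⟩, ?_⟩
  have : symmDiff o1 o2 ∩ d = symmDiff (o1 ∩ d) (o2 ∩ d) := by
    ext p
    simp only [Finset.mem_inter, Finset.mem_symmDiff]
    tauto
  rw [this, e1, e2]
  ext p
  have d1 : p ∈ t → p ∈ u → False := fun h1 h2 => Finset.disjoint_left.mp htu h1 h2
  have d2 : p ∈ t → p ∈ v → False := fun h1 h2 => Finset.disjoint_left.mp htv h1 h2
  have d3 : p ∈ u → p ∈ v → False := fun h1 h2 => Finset.disjoint_left.mp huv h1 h2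
  simp only [Finset.mem_symmDiff, Finset.mem_union]
  tauto

/-- a hexad meeting a given hexad exactly in a given triple -/
theorem exists_hexad_meet (hd : d ∈ dodecads) {h t : Finset GolayPt} (hh : h ∈ hexadsOn d) (ht : t ⊆ h)
    (ht3 : t.card = 3) : ∃ x ∈ hexadsOn d, x ∩ h = t := by
  classical
  obtain ⟨h6, oh, hoh, rfl⟩ := hh
  have htd : t ⊆ d := ht.trans Finset.inter_subset_right
  have hα : Fintype.card {p : GolayPt // p ∈ d} = 12 := by
    rw [Fintype.card_coe, hd.2]
  have hB := hexads_steiner hd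
  set B : Set (Finset {p : GolayPt // p ∈ d}) := {h : Finset {p : GolayPt // p ∈ d} |
      ∃ o ∈ octads, (o ∩ d).card = 6 ∧ h = Finset.subtype (fun p => p ∈ d) o} with hBdef
  have hb : Finset.subtype (fun p => p ∈ d) oh ∈ B := ⟨oh, hoh, h6, rfl⟩
  have hS : Finset.subtype (fun p => p ∈ d) t ⊆ Finset.subtype (fun p => p ∈ d) oh := by
    intro a ha
    rw [Finset.mem_subtype] at ha ⊢
    exact (Finset.mem_inter.mp (ht ha)).1
  have hSc : (Finset.subtype (fun p => p ∈ d) t).card = 3 := by
    rw [Finset.card_subtype, Finset.filter_true_of_mem (fun p hp => htd hp), ht3]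
  have hv := meet_5612_values hα hB hb _ hS
  rw [hSc] at hv
  have hpos : 0 < meet (toFin B) (Finset.subtype (fun p => p ∈ d) oh) (Finset.subtype (fun p => p ∈ d) t) := by
    rw [hv]; decide
  unfold meet at hpos
  rw [Finset.card_pos] at hpos
  obtain ⟨c, hc⟩ := hpos
  rw [Finset.mem_filter, mem_toFin] at hc
  obtain ⟨⟨o', ho', ho'6, rfl⟩, hcb⟩ := hc
  refine ⟨o' ∩ d, ⟨ho'6, o', ho', rfl⟩, ?_⟩
  ext p
  by_cases hp : p ∈ d
  · have := Finset.ext_iff.mp hcb ⟨p, hp⟩
    simp only [Finset.mem_inter, Finset.mem_subtype] at this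
    simp only [Finset.mem_inter]
    tauto
  · simp only [Finset.mem_inter]
    constructor
    · intro h'; exact absurd h'.1.2 hp
    · intro h'; exact absurd (htd h') hp

/-! ### Quartets -/

/-- members of a quartet are pairwise disjoint -/
theorem quartet_disjoint {Q : Finset (Finset GolayPt)} (hQ : Q ∈ quartets d) {a b : Finset GolayPt} (ha : a ∈ Q)
    (hb : b ∈ Q) (hab : a ≠ b) : Disjoint a b := by
  have h := hQ.2.2 a ha b hb hab
  rw [← Finset.card_union_eq_card_add_card, h.1, (hQ.2.1 a ha).1, (hQ.2.1 b hb).1]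

theorem triple_ne_of_disjoint {a b : Finset GolayPt} (ha : a.card = 3) (hab : Disjoint a b) : a ≠ b := by
  rintro rfl
  rw [disjoint_self] at hab
  rw [hab] at ha
  simp at ha

/-- the quartet generated by `t`, `u`, `v` -/
def quartetOf (d t u v : Finset GolayPt) : Finset (Finset GolayPt) := {t, u, v, d \ (t ∪ u ∪ v)}

/-- set algebra: in a partition of `d` into `a`, `b`, `c` and the rest -/
theorem union_rest_eq {a b c d : Finset GolayPt} (had : a ⊆ d) (hab : Disjoint a b) (hac : Disjoint a c) :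
    a ∪ d \ (a ∪ b ∪ c) = d \ (b ∪ c) := by
  ext p
  have d1 : p ∈ a → p ∈ b → False := fun h1 h2 => Finset.disjoint_left.mp hab h1 h2
  have d2 : p ∈ a → p ∈ c → False := fun h1 h2 => Finset.disjoint_left.mp hac h1 h2
  have d3 : p ∈ a → p ∈ d := fun h => had h
  simp only [Finset.mem_union, Finset.mem_sdiff]
  tauto

theorem exists_quartet (hd : d ∈ dodecads) {t u : Finset GolayPt} (ht : t.card = 3) (hu : u.card = 3)
    (htu : Disjoint t u) (hh : t ∪ u ∈ hexadsOn d) :
    ∃ v w : Finset GolayPt, v.card = 3 ∧ w.card = 3 ∧ Disjoint t v ∧ Disjoint t w ∧ Disjoint u v ∧ Disjoint u w ∧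
      Disjoint v w ∧ v ⊆ d ∧ w ⊆ d ∧ t ∪ v ∈ hexadsOn d ∧ t ∪ w ∈ hexadsOn d ∧ u ∪ v ∈ hexadsOn d ∧
      u ∪ w ∈ hexadsOn d ∧ v ∪ w ∈ hexadsOn d := by
  obtain ⟨x, hx, hxh⟩ := exists_hexad_meet hd hh Finset.subset_union_left ht
  have htx : t ⊆ x := by rw [← hxh]; exact Finset.inter_subset_left
  have hxd : x ⊆ d := hexad_sub hx
  have hhd : t ∪ u ⊆ d := hexad_sub hh
  have htd : t ⊆ d := Finset.subset_union_left.trans hhd
  have hud : u ⊆ d := Finset.subset_union_right.trans hhd
  obtain ⟨v, hvdef⟩ : ∃ v, v = x \ t := ⟨_, rfl⟩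
  have hv3 : v.card = 3 := by rw [hvdef, Finset.card_sdiff_of_subset htx, hx.1, ht]
  have htv : Disjoint t v := by rw [hvdef]; exact Finset.disjoint_sdiff
  have hxe : t ∪ v = x := by rw [hvdef, Finset.union_comm]; exact Finset.sdiff_union_of_subset htx
  have huv : Disjoint u v := by
    rw [Finset.disjoint_left]
    intro p hpu hpv
    rw [hvdef] at hpv
    have hpx : p ∈ x := (Finset.mem_sdiff.mp hpv).1
    have : p ∈ x ∩ (t ∪ u) := Finset.mem_inter.mpr ⟨hpx, Finset.mem_union_right _ hpu⟩
    rw [hxh] at this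
    exact (Finset.mem_sdiff.mp hpv).2 this
  have hvd : v ⊆ d := by rw [hvdef]; exact Finset.sdiff_subset.trans hxd
  have htvh : t ∪ v ∈ hexadsOn d := by rw [hxe]; exact hx
  have huvh : u ∪ v ∈ hexadsOn d := hexad_union_of ht hu hv3 htu htv huv hh htvh
  obtain ⟨w, hwdef⟩ : ∃ w, w = d \ (t ∪ u ∪ v) := ⟨_, rfl⟩
  have hsub : t ∪ u ∪ v ⊆ d := Finset.union_subset hhd hvd
  have hc9 : (t ∪ u ∪ v).card = 9 := by
    rw [Finset.card_union_of_disjoint, Finset.card_union_of_disjoint htu, ht, hu, hv3]
    rw [Finset.disjoint_union_left]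
    exact ⟨htv, huv⟩
  have hw3 : w.card = 3 := by rw [hwdef, Finset.card_sdiff_of_subset hsub, hd.2, hc9]
  have hwd : w ⊆ d := by rw [hwdef]; exact Finset.sdiff_subset
  have hmemw : ∀ p, p ∈ w → p ∉ t ∧ p ∉ u ∧ p ∉ v := by
    intro p hp
    rw [hwdef] at hp
    simp only [Finset.mem_sdiff, Finset.mem_union] at hp
    tauto
  have htw : Disjoint t w := by
    rw [Finset.disjoint_left]; intro p hp hpw; exact (hmemw p hpw).1 hp
  have huw : Disjoint u w := by
    rw [Finset.disjoint_left]; intro p hp hpw; exact (hmemw p hpw).2.1 hp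
  have hvw : Disjoint v w := by
    rw [Finset.disjoint_left]; intro p hp hpw; exact (hmemw p hpw).2.2 hp
  have e1 : t ∪ w = d \ (u ∪ v) := by
    rw [hwdef]; exact union_rest_eq htd htu htv
  have e2 : u ∪ w = d \ (t ∪ v) := by
    rw [hwdef]
    have : t ∪ u ∪ v = u ∪ t ∪ v := by rw [Finset.union_comm t u]
    rw [this]; exact union_rest_eq hud htu.symm huv
  have e3 : v ∪ w = d \ (t ∪ u) := by
    rw [hwdef]
    have : t ∪ u ∪ v = v ∪ t ∪ u := by
      rw [Finset.union_comm (t ∪ u) v, Finset.union_assoc]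
    rw [this]; exact union_rest_eq hvd htv.symm huv.symm
  refine ⟨v, w, hv3, hw3, htv, htw, huv, huw, hvw, hvd, hwd, htvh, ?_, huvh, ?_, ?_⟩
  · rw [e1]; exact compl_hexad hd huvh
  · rw [e2]; exact compl_hexad hd htvh
  · rw [e3]; exact compl_hexad hd hh

theorem existsUnique_quartet (hd : d ∈ dodecads) {t u : Finset GolayPt} (ht : t.card = 3) (hu : u.card = 3)
    (htu : Disjoint t u) (hh : t ∪ u ∈ hexadsOn d) :
    ∃! Q : Finset (Finset GolayPt), Q ∈ quartets d ∧ t ∈ Q ∧ u ∈ Q := by
  obtain ⟨v, w, hv3, hw3, htv, htw, huv, huw, hvw, hvd, hwd, htvh, htwh, huvh, huwh, hvwh⟩ :=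
    exists_quartet hd ht hu htu hh
  have hhd : t ∪ u ⊆ d := hexad_sub hh
  have htd : t ⊆ d := Finset.subset_union_left.trans hhd
  have hud : u ⊆ d := Finset.subset_union_right.trans hhd
  have hQ4 : ({t, u, v, w} : Finset (Finset GolayPt)).card = 4 := by
    rw [Finset.card_insert_of_notMem, Finset.card_insert_of_notMem, Finset.card_insert_of_notMem,
      Finset.card_singleton]
    · simp only [Finset.mem_singleton]
      exact triple_ne_of_disjoint hv3 hvw
    · simp only [Finset.mem_insert, Finset.mem_singleton, not_or]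
      exact ⟨triple_ne_of_disjoint hu huv, triple_ne_of_disjoint hu huw⟩
    · simp only [Finset.mem_insert, Finset.mem_singleton, not_or]
      exact ⟨triple_ne_of_disjoint ht htu, triple_ne_of_disjoint ht htv, triple_ne_of_disjoint ht htw⟩
  have hQ : ({t, u, v, w} : Finset (Finset GolayPt)) ∈ quartets d := by
    refine ⟨hQ4, ?_, ?_⟩
    · intro a ha
      simp only [Finset.mem_insert, Finset.mem_singleton] at ha
      rcases ha with rfl | rfl | rfl | rfl
      · exact ⟨ht, htd⟩
      · exact ⟨hu, hud⟩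
      · exact ⟨hv3, hvd⟩
      · exact ⟨hw3, hwd⟩
    · intro a ha b hb hab
      simp only [Finset.mem_insert, Finset.mem_singleton] at ha hb
      rcases ha with rfl | rfl | rfl | rfl <;> rcases hb with rfl | rfl | rfl | rfl
      · exact absurd rfl hab
      · exact hh
      · exact htvh
      · exact htwh
      · rw [Finset.union_comm]; exact hh
      · exact absurd rfl hab
      · exact huvh
      · exact huwh
      · rw [Finset.union_comm]; exact htvh
      · rw [Finset.union_comm]; exact huvh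
      · exact absurd rfl hab
      · exact hvwh
      · rw [Finset.union_comm]; exact htwh
      · rw [Finset.union_comm]; exact huwh
      · rw [Finset.union_comm]; exact hvwh
      · exact absurd rfl hab
  refine ⟨{t, u, v, w}, ⟨hQ, by simp, by simp⟩, ?_⟩
  rintro Q' ⟨hQ', htQ', huQ'⟩
  apply Finset.eq_of_subset_of_card_le
  · intro m hm
    simp only [Finset.mem_insert, Finset.mem_singleton]
    by_cases hmt : m = t
    · exact Or.inl hmt
    by_cases hmu : m = u
    · exact Or.inr (Or.inl hmu)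
    right; right
    have hm3 : m.card = 3 := (hQ'.2.1 m hm).1
    have hmd : m ⊆ d := (hQ'.2.1 m hm).2
    have hmt' : Disjoint m t := quartet_disjoint hQ' hm htQ' hmt
    have hmu' : Disjoint m u := quartet_disjoint hQ' hm huQ' hmu
    have htm : t ∪ m ∈ hexadsOn d := hQ'.2.2 t htQ' m hm (fun h => hmt h.symm)
    by_cases hmv : m = v
    · exact Or.inl hmv
    right
    -- `m` lies in `v ∪ w`
    have hmvw : m ⊆ v ∪ w := by
      intro p hp
      have hpd := hmd hp
      by_contra hn
      rw [Finset.mem_union, not_or] at hn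
      -- `p` lies in `t ∪ u ∪ v ∪ w = d`
      have hcard : (t ∪ u ∪ (v ∪ w)).card = 12 := by
        rw [Finset.card_union_of_disjoint, Finset.card_union_of_disjoint htu,
          Finset.card_union_of_disjoint hvw, ht, hu, hv3, hw3]
        rw [Finset.disjoint_union_left, Finset.disjoint_union_right, Finset.disjoint_union_right]
        exact ⟨⟨htv, htw⟩, ⟨huv, huw⟩⟩
      have hall : t ∪ u ∪ (v ∪ w) = d := by
        apply Finset.eq_of_subset_of_card_le
        · exact Finset.union_subset hhd (Finset.union_subset hvd hwd)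
        · rw [hcard, hd.2]
      rw [← hall] at hpd
      simp only [Finset.mem_union] at hpd
      rcases hpd with (h | h) | (h | h)
      · exact (Finset.disjoint_left.mp hmt') hp h
      · exact (Finset.disjoint_left.mp hmu') hp h
      · exact hn.1 h
      · exact hn.2 h
    -- the hexads `t ∪ m` and `t ∪ v` are different, so `m` meets `v` in at most one point
    have hne1 : t ∪ m ≠ t ∪ v := by
      intro h
      apply hmv
      have e1 : (t ∪ m) \ t = m := Finset.union_sdiff_cancel_left hmt'.symm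
      have e2 : (t ∪ v) \ t = v := Finset.union_sdiff_cancel_left htv
      rw [← e1, h, e2]
    obtain ⟨_, o1, ho1, e1⟩ := htm
    obtain ⟨_, o2, ho2, e2⟩ := htvh
    obtain ⟨_, o3, ho3, e3⟩ := htwh
    have ho12 : o1 ≠ o2 := by
      rintro rfl
      exact hne1 (by rw [← e1, e2])
    have hsub12 : t ∪ (m ∩ v) ⊆ o1 ∩ o2 := by
      intro p hp
      rw [Finset.mem_union, Finset.mem_inter] at hp
      have hp1 : p ∈ o1 ∩ d := by
        rw [e1]; rcases hp with h | h
        · exact Finset.mem_union_left _ h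
        · exact Finset.mem_union_right _ h.1
      have hp2 : p ∈ o2 ∩ d := by
        rw [e2]; rcases hp with h | h
        · exact Finset.mem_union_left _ h
        · exact Finset.mem_union_right _ h.2
      exact Finset.mem_inter.mpr ⟨(Finset.mem_inter.mp hp1).1, (Finset.mem_inter.mp hp2).1⟩
    have hd1 : Disjoint t (m ∩ v) := by
      rw [Finset.disjoint_left]; intro p hp hp'
      exact (Finset.disjoint_left.mp htv) hp (Finset.mem_inter.mp hp').2
    have hle12 : (t ∪ (m ∩ v)).card ≤ 4 := by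
      have := Finset.card_le_card hsub12
      rcases octad_inter_card ho1 ho2 ho12 with h | h | h <;> omega
    rw [Finset.card_union_of_disjoint hd1, ht] at hle12
    -- hence `m` meets `w` in at least two points, and `t ∪ m = t ∪ w`
    have hsplit : (m ∩ v).card + (m ∩ w).card = m.card := by
      rw [← Finset.card_union_of_disjoint, ← Finset.inter_union_distrib_left,
        Finset.inter_eq_left.mpr hmvw]
      rw [Finset.disjoint_left]; intro p hp hp'
      exact (Finset.disjoint_left.mp hvw) (Finset.mem_inter.mp hp).2 (Finset.mem_inter.mp hp').2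
    have hsub13 : t ∪ (m ∩ w) ⊆ o1 ∩ o3 := by
      intro p hp
      rw [Finset.mem_union, Finset.mem_inter] at hp
      have hp1 : p ∈ o1 ∩ d := by
        rw [e1]; rcases hp with h | h
        · exact Finset.mem_union_left _ h
        · exact Finset.mem_union_right _ h.1
      have hp2 : p ∈ o3 ∩ d := by
        rw [e3]; rcases hp with h | h
        · exact Finset.mem_union_left _ h
        · exact Finset.mem_union_right _ h.2
      exact Finset.mem_inter.mpr ⟨(Finset.mem_inter.mp hp1).1, (Finset.mem_inter.mp hp2).1⟩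
    have hd3 : Disjoint t (m ∩ w) := by
      rw [Finset.disjoint_left]; intro p hp hp'
      exact (Finset.disjoint_left.mp htw) hp (Finset.mem_inter.mp hp').2
    have hge : 5 ≤ (o1 ∩ o3).card := by
      have := Finset.card_le_card hsub13
      rw [Finset.card_union_of_disjoint hd3, ht] at this
      omega
    have ho13 : o1 = o3 := octad_eq_of_inter ho1 ho3 hge
    have hfin : t ∪ m = t ∪ w := by rw [← e1, ← e3, ho13]
    have e1' : (t ∪ m) \ t = m := Finset.union_sdiff_cancel_left hmt'.symm
    have e2' : (t ∪ w) \ t = w := Finset.union_sdiff_cancel_left htw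
    rw [← e1', hfin, e2']
  · rw [hQ4, hQ'.1]

end Cfsg.Agent.Helper22.Quartet
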