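import Cfsg.Agent.Helper22.Quartet

/-!
A dodecad has 132 hexads and 220 quartets.
-/

set_option autoImplicit false

namespace Cfsg.Agent.Helper22.Quartet

open Cfsg Cfsg.Agent.Helper27 Cfsg.Agent.Helper22.Design Cfsg.Agent.Helper22.GolayComb

variable {d : Finset GolayPt}

/-- the finset of hexads on `d` -/
noncomputable def Hex (d : Finset GolayPt) : Finset (Finset GolayPt) := toFin (hexadsOn d)

theorem mem_Hex (h : Finset GolayPt) : h ∈ Hex d ↔ h ∈ hexadsOn d := mem_toFin _ _

theorem card_Hex (hd : d ∈ dodecads) : (Hex d).card = 132 := by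
  classical
  rw [← (octMeet_values hd).2.2]
  unfold octMeet
  have himg : Hex d = (Oct.filter (fun o => (o ∩ d).card = 6)).image (fun o => o ∩ d) := by
    ext h
    rw [mem_Hex, Finset.mem_image]
    constructor
    · rintro ⟨h6, o, ho, rfl⟩
      exact ⟨o, (mem_octFilter d 6 o).mpr ⟨ho, h6⟩, rfl⟩
    · rintro ⟨o, ho, rfl⟩
      obtain ⟨ho', h6⟩ := (mem_octFilter d 6 o).mp ho
      exact ⟨h6, o, ho', rfl⟩
  rw [himg, Finset.card_image_of_injOn]
  intro o ho o' ho' h
  obtain ⟨ho1, h6⟩ := (mem_octFilter d 6 o).mp (Finset.mem_coe.mp ho)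
  obtain ⟨ho2, _⟩ := (mem_octFilter d 6 o').mp (Finset.mem_coe.mp ho')
  simp only at h
  apply octad_eq_of_inter ho1 ho2
  have : o ∩ d ⊆ o ∩ o' := by
    intro p hp
    have hp' : p ∈ o' ∩ d := h ▸ hp
    exact Finset.mem_inter.mpr ⟨(Finset.mem_inter.mp hp).1, (Finset.mem_inter.mp hp').1⟩
  have := Finset.card_le_card this
  omega

/-- ordered pairs of disjoint triples whose union is a hexad -/
noncomputable def triplePairs (d : Finset GolayPt) : Finset (Finset GolayPt × Finset GolayPt) := by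
  classical
  exact ((Finset.powersetCard 3 d) ×ˢ (Finset.powersetCard 3 d)).filter
    (fun p => Disjoint p.1 p.2 ∧ p.1 ∪ p.2 ∈ hexadsOn d)

theorem mem_triplePairs (p : Finset GolayPt × Finset GolayPt) :
    p ∈ triplePairs d ↔ p.1.card = 3 ∧ p.2.card = 3 ∧ Disjoint p.1 p.2 ∧ p.1 ∪ p.2 ∈ hexadsOn d := by
  classical
  unfold triplePairs
  simp only [Finset.mem_filter, Finset.mem_product, Finset.mem_powersetCard]
  constructor
  · rintro ⟨⟨⟨_, h1⟩, ⟨_, h2⟩⟩, h3, h4⟩
    exact ⟨h1, h2, h3, h4⟩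
  · rintro ⟨h1, h2, h3, h4⟩
    have hs := hexad_sub h4
    exact ⟨⟨⟨Finset.subset_union_left.trans hs, h1⟩, ⟨Finset.subset_union_right.trans hs, h2⟩⟩, h3, h4⟩

theorem card_triplePairs (hd : d ∈ dodecads) : (triplePairs d).card = 2640 := by
  classical
  have hmaps : ∀ p ∈ triplePairs d, p.1 ∪ p.2 ∈ Hex d := by
    intro p hp
    rw [mem_Hex]
    exact ((mem_triplePairs p).mp hp).2.2.2
  rw [Finset.card_eq_sum_card_fiberwise hmaps]
  have hfib : ∀ h ∈ Hex d, ((triplePairs d).filter (fun p => p.1 ∪ p.2 = h)).card = 20 := by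
    intro h hh
    have hh' := (mem_Hex h).mp hh
    have h20 : (Finset.powersetCard 3 h).card = 20 := by
      rw [Finset.card_powersetCard, hh'.1]; rfl
    rw [← h20]
    apply Finset.card_nbij' (fun p => p.1) (fun t => (t, h \ t))
    · intro p hp
      rw [Finset.mem_coe, Finset.mem_filter, mem_triplePairs] at hp
      rw [Finset.mem_coe, Finset.mem_powersetCard]
      exact ⟨by rw [← hp.2]; exact Finset.subset_union_left, hp.1.1⟩
    · intro t ht
      rw [Finset.mem_coe, Finset.mem_powersetCard] at ht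
      rw [Finset.mem_coe, Finset.mem_filter, mem_triplePairs]
      have hu : t ∪ h \ t = h := Finset.union_sdiff_of_subset ht.1
      refine ⟨⟨ht.2, ?_, Finset.disjoint_sdiff, ?_⟩, hu⟩
      · rw [Finset.card_sdiff_of_subset ht.1, hh'.1, ht.2]
      · show t ∪ h \ t ∈ hexadsOn d
        rw [hu]; exact hh'
    · intro p hp
      rw [Finset.mem_coe, Finset.mem_filter, mem_triplePairs] at hp
      obtain ⟨⟨_, _, hdis, _⟩, hu⟩ := hp
      show (p.1, h \ p.1) = p
      rw [← hu, Finset.union_sdiff_cancel_left hdis]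
    · intro t _
      rfl
  rw [Finset.sum_congr rfl hfib, Finset.sum_const, card_Hex hd]
  rfl

/-- the finset of quartets -/
noncomputable def quartetsFin (d : Finset GolayPt) : Finset (Finset (Finset GolayPt)) :=
  (Set.toFinite (quartets d)).toFinset

theorem mem_quartetsFin (Q : Finset (Finset GolayPt)) : Q ∈ quartetsFin d ↔ Q ∈ quartets d := by
  simp [quartetsFin]

theorem quartets_ncard (hd : d ∈ dodecads) : (quartets d).ncard = 220 := by
  classical
  have h0 : quartets d = ((quartetsFin d : Finset (Finset (Finset GolayPt))) : Set (Finset (Finset GolayPt))) := by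
    ext S; simp [mem_quartetsFin]
  rw [h0, Set.ncard_coe_finset]
  have key := Finset.sum_card_bipartiteAbove_eq_sum_card_bipartiteBelow
    (s := triplePairs d) (t := quartetsFin d)
    (fun (p : Finset GolayPt × Finset GolayPt) (Q : Finset (Finset GolayPt)) => p.1 ∈ Q ∧ p.2 ∈ Q)
  have hL : ∀ p ∈ triplePairs d,
      (Finset.bipartiteAbove (fun (p : Finset GolayPt × Finset GolayPt) (Q : Finset (Finset GolayPt)) =>
        p.1 ∈ Q ∧ p.2 ∈ Q) (quartetsFin d) p).card = 1 := by
    intro p hp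
    obtain ⟨h1, h2, h3, h4⟩ := (mem_triplePairs p).mp hp
    obtain ⟨Q, hQ, huniq⟩ := existsUnique_quartet hd h1 h2 h3 h4
    rw [Finset.card_eq_one]
    refine ⟨Q, ?_⟩
    ext Q'
    simp only [Finset.bipartiteAbove, Finset.mem_filter, mem_quartetsFin, Finset.mem_singleton]
    constructor
    · rintro ⟨hQ', h5, h6⟩; exact huniq Q' ⟨hQ', h5, h6⟩
    · rintro rfl; exact hQ
  have hR : ∀ Q ∈ quartetsFin d,
      (Finset.bipartiteBelow (fun (p : Finset GolayPt × Finset GolayPt) (Q : Finset (Finset GolayPt)) =>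
        p.1 ∈ Q ∧ p.2 ∈ Q) (triplePairs d) Q).card = 12 := by
    intro Q hQ
    have hQ' := (mem_quartetsFin Q).mp hQ
    have : Finset.bipartiteBelow (fun (p : Finset GolayPt × Finset GolayPt) (Q : Finset (Finset GolayPt)) =>
        p.1 ∈ Q ∧ p.2 ∈ Q) (triplePairs d) Q = Q.offDiag := by
      ext p
      simp only [Finset.bipartiteBelow, Finset.mem_filter, mem_triplePairs, Finset.mem_offDiag]
      constructor
      · rintro ⟨⟨h1, _, h3, _⟩, h5, h6⟩
        exact ⟨h5, h6, triple_ne_of_disjoint h1 h3⟩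
      · rintro ⟨h5, h6, hne⟩
        exact ⟨⟨(hQ'.2.1 _ h5).1, (hQ'.2.1 _ h6).1, quartet_disjoint hQ' h5 h6 hne, hQ'.2.2 _ h5 _ h6 hne⟩, h5, h6⟩
    rw [this, Finset.offDiag_card, hQ'.1]
  rw [Finset.sum_congr rfl hL, Finset.sum_congr rfl hR, Finset.sum_const, Finset.sum_const,
    card_triplePairs hd] at key
  simp only [smul_eq_mul, mul_one] at key
  omega

end Cfsg.Agent.Helper22.Quartet
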