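import Cfsg.Agent.Helper22.RuTabs
import Cfsg.Agent.Helper22.RuRows
import Cfsg.Agent.Helper22.RuCert

/-! # Kernel checks for the Rudvalis group: the generators and the graph -/

set_option autoImplicit false

namespace Cfsg.Agent.Helper22.RuChk

open Cfsg.Agent.Helper22.BigPerm Cfsg.Agent.Helper22.BigGraph Cfsg.Agent.Helper22.BigChain Cfsg.Agent.Helper22.RuTabs Cfsg.Agent.Helper22.RuCert Cfsg.Agent.Helper22.RuRows

theorem good1 : allBelow (fun i => Nat.blt (look (tab tabs 1) i) 4060 &&
    Nat.beq (look (tab tabs 7) (look (tab tabs 1) i)) i) 4060 = true := by decide +kernel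

theorem good2 : allBelow (fun i => Nat.blt (look (tab tabs 2) i) 4060 &&
    Nat.beq (look (tab tabs 2) (look (tab tabs 2) i)) i) 4060 = true := by decide +kernel

theorem aut1 : autB rows tabs 1 net1 = true := by decide +kernel

theorem aut2 : autB rows tabs 2 net2 = true := by decide +kernel

theorem det : detB rows D ord = true := by decide +kernel

theorem hD : ∀ d ∈ D, d < 4060 := by decide

end Cfsg.Agent.Helper22.RuChk
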