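import Cfsg.Agent.Helper22.RuTabs
import Cfsg.Agent.Helper22.RuCert

/-! # Kernel checks for the Rudvalis group: the certificates of the tables -/

set_option autoImplicit false

namespace Cfsg.Agent.Helper22.RuChk

open Cfsg.Agent.Helper22.BigPerm Cfsg.Agent.Helper22.BigGraph Cfsg.Agent.Helper22.BigChain Cfsg.Agent.Helper22.RuTabs Cfsg.Agent.Helper22.RuCert

theorem certAll : allBelow (fun k => cond (Nat.blt k 3) true
    (rangeB (loL.getD k 0) k (certL.getD k []) && certB tabs k (certL.getD k []))) 65 = true := by
  decide +kernel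

end Cfsg.Agent.Helper22.RuChk
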