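import Cfsg.Agent.Helper22.RuTabs
import Cfsg.Agent.Helper22.RuCert

/-! # Kernel checks for the Rudvalis group: orbit lengths, orders of generators, suborbits -/

set_option autoImplicit false

namespace Cfsg.Agent.Helper22.RuChk

open Cfsg.Agent.Helper22.BigPerm Cfsg.Agent.Helper22.BigGraph Cfsg.Agent.Helper22.BigChain Cfsg.Agent.Helper22.RuTabs Cfsg.Agent.Helper22.RuCert

/-- the generators of a level fix a point -/
def fixB (lo m b : ℕ) : Bool := allBelow (fun j => Nat.beq (look (tab tabs (Nat.add lo j)) b) b) m

/-- the certificates of the tables of a level only use tables of the level -/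
def loB (L : Lvl) : Bool :=
  allBelow (fun k => cond (Nat.ble (L.lo + L.m) k) (Nat.ble L.lo (loL.getD k 0)) true) L.hi

/-- a word in the tables is trivial -/
def trivB (w : List ℕ) : Bool := allBelow (fun i => Nat.beq (applyW tabs w i) i) 4060

/-- the label of a point for the point stabiliser of the group -/
def labH (x : ℕ) : ℕ := cond (Nat.beq x 0) 0 (cond (inO tabs LH1 x) 1 2)

/-- the label of a point for the point stabiliser of the subgroup -/
def labT (x : ℕ) : ℕ :=
  cond (inO tabs LP0 x) 0 (cond (inO tabs LP1 x) 1 (cond (inO tabs LP2 x) 2 (cond (inO tabs LP3 x) 3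
    (cond (inO tabs LP4 x) 4 5))))

theorem cntH0 : countB (inO tabs LH0) 4060 = 4060 := by decide +kernel
theorem cntH1 : countB (inO tabs LH1) 4060 = 2304 := by decide +kernel
theorem cntH2 : countB (inO tabs LH2) 4060 = 975 := by decide +kernel
theorem cntH3 : countB (inO tabs LH3) 4060 = 16 := by decide +kernel
theorem cntT0 : countB (inO tabs LT0) 4060 = 1755 := by decide +kernel
theorem cntT1 : countB (inO tabs LT1) 4060 = 1024 := by decide +kernel
theorem cntT2 : countB (inO tabs LT2) 4060 = 10 := by decide +kernel

theorem fixH1 : fixB 13 2 0 = true := by decide +kernel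
theorem fixH2 : fixB 25 2 2 = true := by decide +kernel
theorem fixH3 : fixB 33 2 5 = true := by decide +kernel
theorem fixT1 : fixB 50 2 1 = true := by decide +kernel
theorem fixT2 : fixB 61 2 3 = true := by decide +kernel

theorem loH0 : loB LH0 = true := by decide +kernel
theorem loH1 : loB LH1 = true := by decide +kernel
theorem loH2 : loB LH2 = true := by decide +kernel
theorem loH3 : loB LH3 = true := by decide +kernel
theorem loT0 : loB LT0 = true := by decide +kernel
theorem loT1 : loB LT1 = true := by decide +kernel
theorem loT2 : loB LT2 = true := by decide +kernel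

theorem ord1 : trivB (List.replicate 29 1) = true := by decide +kernel
theorem ord2 : trivB (List.replicate 29 [2, 1]).flatten = true := by decide +kernel
theorem ord38 : trivB (List.replicate 13 38) = true := by decide +kernel
theorem ord39 : trivB (List.replicate 13 39) = true := by decide +kernel
theorem ne1 : Nat.beq (look (tab tabs 1) 0) 0 = false := by decide +kernel
theorem ne2 : Nat.beq (look (tab tabs 2) (look (tab tabs 1) 0)) 0 = false := by decide +kernel

theorem letR : lettersB LR = true := by decide +kernel
theorem letP0 : lettersB LP0 = true := by decide +kernel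
theorem letP1 : lettersB LP1 = true := by decide +kernel
theorem letP2 : lettersB LP2 = true := by decide +kernel
theorem letP3 : lettersB LP3 = true := by decide +kernel
theorem letP4 : lettersB LP4 = true := by decide +kernel

theorem covH : allBelow (fun x => cond (Nat.beq (labH x) 2) (inO tabs LR x) true) 4060 = true := by
  decide +kernel
theorem cntLH0 : countB (fun x => Nat.beq (labH x) 0) 4060 = 1 := by decide +kernel
theorem cntLH1 : countB (fun x => Nat.beq (labH x) 1) 4060 = 2304 := by decide +kernel
theorem cntLH2 : countB (fun x => Nat.beq (labH x) 2) 4060 = 1755 := by decide +kernel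

theorem covT : allBelow (fun x => cond (inO tabs LT0 x) (Nat.blt (labT x) 5) true) 4060 = true := by
  decide +kernel
theorem cntLT0 : countB (fun x => inO tabs LT0 x && Nat.beq (labT x) 0) 4060 = 1 := by decide +kernel
theorem cntLT1 : countB (fun x => inO tabs LT0 x && Nat.beq (labT x) 1) 4060 = 1024 := by decide +kernel
theorem cntLT2 : countB (fun x => inO tabs LT0 x && Nat.beq (labT x) 2) 4060 = 640 := by decide +kernel
theorem cntLT3 : countB (fun x => inO tabs LT0 x && Nat.beq (labT x) 3) 4060 = 80 := by decide +kernel
theorem cntLT4 : countB (fun x => inO tabs LT0 x && Nat.beq (labT x) 4) 4060 = 10 := by decide +kernel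

/-- the determining set lies in the orbit of the subgroup -/
theorem dInT : D.all (fun d => inO tabs LT0 d) = true := by decide +kernel

end Cfsg.Agent.Helper22.RuChk
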