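import Cfsg.Agent.Helper22.RuChkC

/-! # Kernel checks for the Rudvalis group: the generators of the subgroup are not trivial -/

set_option autoImplicit false

namespace Cfsg.Agent.Helper22.RuChk

open Cfsg.Agent.Helper22.BigPerm Cfsg.Agent.Helper22.BigGraph Cfsg.Agent.Helper22.BigChain Cfsg.Agent.Helper22.RuTabs Cfsg.Agent.Helper22.RuCert

theorem ne38 : Nat.beq (look (tab tabs 38) 1) 1 = false := by decide +kernel
theorem ne39 : Nat.beq (look (tab tabs 39) 1) 1 = false := by decide +kernel
theorem labT_one : labT 1 = 0 := by decide +kernel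
theorem labH_zero : labH 0 = 0 := by decide +kernel

end Cfsg.Agent.Helper22.RuChk
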