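import Cfsg.Agent.Helper22.RuTabs
import Cfsg.Agent.Helper22.RuCert

/-! # Kernel checks for the Rudvalis group: Schreier generators of the top level, second half -/

set_option autoImplicit false

namespace Cfsg.Agent.Helper22.RuChk

open Cfsg.Agent.Helper22.BigPerm Cfsg.Agent.Helper22.BigGraph Cfsg.Agent.Helper22.BigChain Cfsg.Agent.Helper22.RuTabs Cfsg.Agent.Helper22.RuCert

theorem stH0_4 : stepsB tabs D LH0 [LH1, LH2, LH3] 2048 2560 = true := by decide +kernel

theorem stH0_5 : stepsB tabs D LH0 [LH1, LH2, LH3] 2560 3072 = true := by decide +kernel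

theorem stH0_6 : stepsB tabs D LH0 [LH1, LH2, LH3] 3072 3584 = true := by decide +kernel

theorem stH0_7 : stepsB tabs D LH0 [LH1, LH2, LH3] 3584 4060 = true := by decide +kernel

end Cfsg.Agent.Helper22.RuChk
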