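import Cfsg.Agent.Helper22.RuTabs
import Cfsg.Agent.Helper22.RuCert

/-! # Kernel checks for the Rudvalis group: the lower levels -/

set_option autoImplicit false

namespace Cfsg.Agent.Helper22.RuChk

open Cfsg.Agent.Helper22.BigPerm Cfsg.Agent.Helper22.BigGraph Cfsg.Agent.Helper22.BigChain Cfsg.Agent.Helper22.RuTabs Cfsg.Agent.Helper22.RuCert

theorem stH2 : stepsB tabs D LH2 [LH3] 0 4060 = true := by decide +kernel

theorem stH3 : stepsB tabs D LH3 [] 0 4060 = true := by decide +kernel

theorem stT2 : stepsB tabs D LT2 [] 0 4060 = true := by decide +kernel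

theorem lvlH0 : levelB LH0 = true := by decide +kernel

theorem lvlH1 : levelB LH1 = true := by decide +kernel

theorem lvlH2 : levelB LH2 = true := by decide +kernel

theorem lvlH3 : levelB LH3 = true := by decide +kernel

theorem lvlT0 : levelB LT0 = true := by decide +kernel

theorem lvlT1 : levelB LT1 = true := by decide +kernel

theorem lvlT2 : levelB LT2 = true := by decide +kernel

end Cfsg.Agent.Helper22.RuChk
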