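import Cfsg.Agent.Helper22.RuTabs
import Cfsg.Agent.Helper22.RuCert

/-! # Kernel checks for the Rudvalis group: Schreier generators of the chain of the subgroup -/

set_option autoImplicit false

namespace Cfsg.Agent.Helper22.RuChk

open Cfsg.Agent.Helper22.BigPerm Cfsg.Agent.Helper22.BigGraph Cfsg.Agent.Helper22.BigChain Cfsg.Agent.Helper22.RuTabs Cfsg.Agent.Helper22.RuCert

theorem stT0_0 : stepsB tabs D LT0 [LT1, LT2] 0 1400 = true := by decide +kernel

theorem stT0_1 : stepsB tabs D LT0 [LT1, LT2] 1400 2800 = true := by decide +kernel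

theorem stT0_2 : stepsB tabs D LT0 [LT1, LT2] 2800 4060 = true := by decide +kernel

theorem stT1 : stepsB tabs D LT1 [LT2] 0 4060 = true := by decide +kernel

end Cfsg.Agent.Helper22.RuChk
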