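import Cfsg.Agent.Helper22.RuChkA
import Cfsg.Agent.Helper22.RuChkB
import Cfsg.Agent.Helper22.RuChkC
import Cfsg.Agent.Helper22.RuChkH0a
import Cfsg.Agent.Helper22.RuChkH0b
import Cfsg.Agent.Helper22.RuChkH1
import Cfsg.Agent.Helper22.RuChkT0
import Cfsg.Agent.Helper22.RuChkH3

/-!
# The Rudvalis group on 4060 points: the two stabiliser chains

The group `GH0` generated by two tables has order `145926144000`; the stabiliser of the point `0` is `GH1`; the
subgroup `GT0` of `GH1` has order `17971200`.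
-/

set_option autoImplicit false

namespace Cfsg.Agent.Helper22.RuMain

open Cfsg.Agent.Helper22.BigPerm Cfsg.Agent.Helper22.BigGraph Cfsg.Agent.Helper22.BigChain
  Cfsg.Agent.Helper22.RuTabs Cfsg.Agent.Helper22.RuRows Cfsg.Agent.Helper22.RuCert Cfsg.Agent.Helper22.RuChk

/-- the facts about a table: it has a permutation, which lies in a subgroup and preserves the graph -/
def Fact3 (S : Subgroup Pm) (k : ℕ) : Prop :=
  (∃ g : Pm, Rep (look (tab tabs k)) g) ∧ P (tab tabs k) ∈ S ∧ P (tab tabs k) ∈ autG rows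

theorem good_1 : ∃ g : Pm, Rep (look (tab tabs 1)) g := good_of_inv _ _ good1

theorem good_2 : ∃ g : Pm, Rep (look (tab tabs 2)) g := good_of_inv _ _ good2

theorem aut_1 : P (tab tabs 1) ∈ autG rows := aut_sound rows tabs (rep_P good_1.choose_spec) aut1

theorem aut_2 : P (tab tabs 2) ∈ autG rows := aut_sound rows tabs (rep_P good_2.choose_spec) aut2

theorem hdet : ∀ g ∈ autG rows, (∀ d (hd : d ∈ D), g ⟨d, hD d hd⟩ = ⟨d, hD d hd⟩) → g = 1 :=
  fun g hg hfix => det_sound rows det hD g hg hfix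

theorem cert_k (k : ℕ) (h3 : 3 ≤ k) (h65 : k < 65) :
    rangeB (loL.getD k 0) k (certL.getD k []) = true ∧ certB tabs k (certL.getD k []) = true := by
  have h := allBelow_spec certAll k h65
  have hk : Nat.blt k 3 = false := by
    rw [← Bool.not_eq_true]
    intro hcon
    have : k < 3 := by simpa [Nat.blt] using hcon
    omega
  rw [hk] at h
  have h' : (rangeB (loL.getD k 0) k (certL.getD k []) && certB tabs k (certL.getD k [])) = true := h
  rwa [Bool.and_eq_true] at h'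

theorem rangeB_mono {lo lo' hi : ℕ} {w : List ℕ} (h : lo ≤ lo') (hr : rangeB lo' hi w = true) :
    rangeB lo hi w = true := by
  unfold rangeB at hr ⊢
  rw [List.all_eq_true] at hr ⊢
  intro j hj
  have := hr j hj
  rw [Bool.and_eq_true] at this ⊢
  exact ⟨Nat.ble_eq_true_of_le (le_trans h (Nat.le_of_ble_eq_true this.1)), this.2⟩

theorem hgood_of (L : Lvl) (hhi : L.hi ≤ 65) (h3 : 3 ≤ L.lo + L.m) (hlo : loB L = true)
    (hbase : ∀ k, L.lo ≤ k → k < L.lo + L.m →
      (∃ g : Pm, Rep (look (tab tabs k)) g) ∧ P (tab tabs k) ∈ autG rows) :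
    ∀ k, L.lo ≤ k → k < L.hi → Fact3 (GrpL tabs L) k := by
  have key := range_mem tabs (GrpL tabs L ⊓ autG rows) L.lo L.m L.hi (fun k => certL.getD k []) ?_ ?_
  · intro k h1 h2
    obtain ⟨a, b⟩ := key k h1 h2
    exact ⟨a, b.1, b.2⟩
  · intro k h1 h2
    obtain ⟨a, b⟩ := hbase k h1 h2
    refine ⟨a, ⟨?_, b⟩⟩
    apply Subgroup.subset_closure
    refine ⟨k - L.lo, by omega, ?_⟩
    have : L.lo + (k - L.lo) = k := by omega
    rw [this]
  · intro k h1 h2
    obtain ⟨c1, c2⟩ := cert_k k (by omega) (by omega)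
    refine ⟨rangeB_mono ?_ c1, c2⟩
    have h := allBelow_spec hlo k h2
    rw [Nat.ble_eq_true_of_le h1] at h
    exact Nat.le_of_ble_eq_true h

theorem hlow_one (l : Lvl) (S : Subgroup Pm) (hl : lettersB l = true)
    (hg : ∀ k, l.lo ≤ k → k < l.hi → Fact3 (GrpL tabs l) k) (hle : GrpL tabs l ≤ S) :
    ∀ x, x < 4096 → ∀ k ∈ lettersC 9 (wc l x),
      (∃ g : Pm, Rep (look (tab tabs k)) g) ∧ P (tab tabs k) ∈ S ∧ P (tab tabs k) ∈ autG rows := by
  intro x hx k hk
  obtain ⟨e1, e2⟩ := letters_of_lettersB hl x hx k hk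
  obtain ⟨a, b, c⟩ := hg k e1 e2
  exact ⟨a, hle b, c⟩

theorem GrpL_le (l : Lvl) (S : Subgroup Pm) (h : ∀ j < l.m, P (tab tabs (l.lo + j)) ∈ S) :
    GrpL tabs l ≤ S := by
  unfold GrpL
  rw [Subgroup.closure_le]
  rintro g ⟨j, hj, hg⟩
  rw [hg]
  exact h j hj

theorem GrpL_le2 (l : Lvl) (a b : ℕ) (S : Subgroup Pm) (hm : l.m = 2) (ha : l.lo = a) (hb : a + 1 = b)
    (h0 : P (tab tabs a) ∈ S) (h1 : P (tab tabs b) ∈ S) : GrpL tabs l ≤ S := by
  apply GrpL_le
  intro j hj
  rw [hm] at hj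
  rw [ha]
  interval_cases j
  · rw [Nat.add_zero]
    exact h0
  · rw [hb]
    exact h1

theorem stab_of_rep {f : ℕ → ℕ} {g : Pm} (h : Rep f g) (b : ℕ) (hb : b < 4060) (hf : f b = b) :
    g ∈ MulAction.stabilizer Pm (⟨b, hb⟩ : Fin 4060) := by
  rw [MulAction.mem_stabilizer_iff, Equiv.Perm.smul_def]
  apply Fin.ext
  rw [h]
  exact hf

theorem fix_of_fixB (l : Lvl) (b : ℕ) (hb : b < 4060) (hf : fixB l.lo l.m b = true)
    (hgood : ∀ j < l.m, ∃ g : Pm, Rep (look (tab tabs (l.lo + j))) g) :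
    ∀ h ∈ GrpL tabs l, h ⟨b, hb⟩ = ⟨b, hb⟩ := by
  have hle : GrpL tabs l ≤ MulAction.stabilizer Pm (⟨b, hb⟩ : Fin 4060) := by
    apply GrpL_le
    intro j hj
    exact stab_of_rep (rep_P (hgood j hj).choose_spec) b hb (Nat.eq_of_beq_eq_true (allBelow_spec hf j hj))
  intro h hh
  have := MulAction.mem_stabilizer_iff.mp (hle hh)
  rwa [Equiv.Perm.smul_def] at this

/-- the groups of the levels -/
noncomputable abbrev GH0 : Subgroup Pm := GrpL tabs LH0
/-- the group of a level -/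
noncomputable abbrev GH1 : Subgroup Pm := GrpL tabs LH1
/-- the group of a level -/
noncomputable abbrev GH2 : Subgroup Pm := GrpL tabs LH2
/-- the group of a level -/
noncomputable abbrev GH3 : Subgroup Pm := GrpL tabs LH3
/-- the group of a level -/
noncomputable abbrev GT0 : Subgroup Pm := GrpL tabs LT0
/-- the group of a level -/
noncomputable abbrev GT1 : Subgroup Pm := GrpL tabs LT1
/-- the group of a level -/
noncomputable abbrev GT2 : Subgroup Pm := GrpL tabs LT2

theorem hgH0 : ∀ k, 1 ≤ k → k < 65 → Fact3 GH0 k := by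
  refine hgood_of LH0 (by decide) (by decide) loH0 ?_
  intro k h1 h2
  have h1' : 1 ≤ k := h1
  have h2' : k < 3 := h2
  interval_cases k
  · exact ⟨good_1, aut_1⟩
  · exact ⟨good_2, aut_2⟩

theorem hgH1 : ∀ k, 13 ≤ k → k < 65 → Fact3 GH1 k := by
  refine hgood_of LH1 (by decide) (by decide) loH1 ?_
  intro k h1 h2
  have h1' : 13 ≤ k := h1
  have h2' : k < 15 := h2
  obtain ⟨a, -, c⟩ := hgH0 k (by omega) (by omega)
  exact ⟨a, c⟩

theorem hgH2 : ∀ k, 25 ≤ k → k < 38 → Fact3 GH2 k := by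
  refine hgood_of LH2 (by decide) (by decide) loH2 ?_
  intro k h1 h2
  have h1' : 25 ≤ k := h1
  have h2' : k < 27 := h2
  obtain ⟨a, -, c⟩ := hgH1 k (by omega) (by omega)
  exact ⟨a, c⟩

theorem hgH3 : ∀ k, 33 ≤ k → k < 38 → Fact3 GH3 k := by
  refine hgood_of LH3 (by decide) (by decide) loH3 ?_
  intro k h1 h2
  have h1' : 33 ≤ k := h1
  have h2' : k < 35 := h2
  obtain ⟨a, -, c⟩ := hgH2 k (by omega) (by omega)
  exact ⟨a, c⟩

theorem hgT0 : ∀ k, 38 ≤ k → k < 65 → Fact3 GT0 k := by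
  refine hgood_of LT0 (by decide) (by decide) loT0 ?_
  intro k h1 h2
  have h1' : 38 ≤ k := h1
  have h2' : k < 40 := h2
  obtain ⟨a, -, c⟩ := hgH1 k (by omega) (by omega)
  exact ⟨a, c⟩

theorem hgT1 : ∀ k, 50 ≤ k → k < 65 → Fact3 GT1 k := by
  refine hgood_of LT1 (by decide) (by decide) loT1 ?_
  intro k h1 h2
  have h1' : 50 ≤ k := h1
  have h2' : k < 52 := h2
  obtain ⟨a, -, c⟩ := hgT0 k (by omega) (by omega)
  exact ⟨a, c⟩

theorem hgT2 : ∀ k, 61 ≤ k → k < 65 → Fact3 GT2 k := by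
  refine hgood_of LT2 (by decide) (by decide) loT2 ?_
  intro k h1 h2
  have h1' : 61 ≤ k := h1
  have h2' : k < 63 := h2
  obtain ⟨a, -, c⟩ := hgT1 k (by omega) (by omega)
  exact ⟨a, c⟩

/-! ### the inclusions between the groups -/

theorem GH1_le : GH1 ≤ GH0 := GrpL_le LH1 GH0 fun j hj => by
  have hj' : j < 2 := hj
  exact (hgH0 (13 + j) (by omega) (by omega)).2.1

theorem GH2_le : GH2 ≤ GH1 := GrpL_le LH2 GH1 fun j hj => by
  have hj' : j < 2 := hj
  exact (hgH1 (25 + j) (by omega) (by omega)).2.1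

theorem GH3_le : GH3 ≤ GH2 := GrpL_le LH3 GH2 fun j hj => by
  have hj' : j < 2 := hj
  exact (hgH2 (33 + j) (by omega) (by omega)).2.1

theorem GT0_le : GT0 ≤ GH1 := GrpL_le LT0 GH1 fun j hj => by
  have hj' : j < 2 := hj
  exact (hgH1 (38 + j) (by omega) (by omega)).2.1

theorem GT1_le : GT1 ≤ GT0 := GrpL_le LT1 GT0 fun j hj => by
  have hj' : j < 2 := hj
  exact (hgT0 (50 + j) (by omega) (by omega)).2.1

theorem GT2_le : GT2 ≤ GT1 := GrpL_le LT2 GT1 fun j hj => by
  have hj' : j < 2 := hj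
  exact (hgT1 (61 + j) (by omega) (by omega)).2.1

/-! ### the levels -/

theorem bot_fix (b : Fin 4060) : ∀ h ∈ (⊥ : Subgroup Pm), h b = b := by
  intro h hh
  rw [Subgroup.mem_bot] at hh
  rw [hh]
  rfl

theorem orbL_card (L : Lvl) : (orbL tabs L).card = countB (inO tabs L) 4060 := card_filter_fin _ _

theorem stepH0 : ∀ x < 4060, stepB tabs D LH0 [LH1, LH2, LH3] x = true := by
  intro x hx
  by_cases h1 : x < 512
  · exact stepsB_spec tabs stH0_0 x (Nat.zero_le _) h1
  by_cases h2 : x < 1024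
  · exact stepsB_spec tabs stH0_1 x (by omega) h2
  by_cases h3 : x < 1536
  · exact stepsB_spec tabs stH0_2 x (by omega) h3
  by_cases h4 : x < 2048
  · exact stepsB_spec tabs stH0_3 x (by omega) h4
  by_cases h5 : x < 2560
  · exact stepsB_spec tabs stH0_4 x (by omega) h5
  by_cases h6 : x < 3072
  · exact stepsB_spec tabs stH0_5 x (by omega) h6
  by_cases h7 : x < 3584
  · exact stepsB_spec tabs stH0_6 x (by omega) h7
  · exact stepsB_spec tabs stH0_7 x (by omega) hx

theorem stepH1 : ∀ x < 4060, stepB tabs D LH1 [LH2, LH3] x = true := by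
  intro x hx
  by_cases h1 : x < 1024
  · exact stepsB_spec tabs stH1_0 x (Nat.zero_le _) h1
  by_cases h2 : x < 2048
  · exact stepsB_spec tabs stH1_1 x (by omega) h2
  by_cases h3 : x < 3072
  · exact stepsB_spec tabs stH1_2 x (by omega) h3
  · exact stepsB_spec tabs stH1_3 x (by omega) hx

theorem stepT0 : ∀ x < 4060, stepB tabs D LT0 [LT1, LT2] x = true := by
  intro x hx
  by_cases h1 : x < 1400
  · exact stepsB_spec tabs stT0_0 x (Nat.zero_le _) h1
  by_cases h2 : x < 2800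
  · exact stepsB_spec tabs stT0_1 x (by omega) h2
  · exact stepsB_spec tabs stT0_2 x (by omega) hx

/-- the facts on a level that its check yields -/
def Sound (L : Lvl) (H' : Subgroup Pm) (hb : L.b < 4060) : Prop :=
  Nat.card (GrpL tabs L) = (orbL tabs L).card * Nat.card H' ∧
    GrpL tabs L ⊓ MulAction.stabilizer Pm (⟨L.b, hb⟩ : Fin 4060) = H' ∧
    (∀ β ∈ orbL tabs L, trPerm tabs L β.1 ∈ GrpL tabs L ∧ trPerm tabs L β.1 ⟨L.b, hb⟩ = β) ∧
    ∀ g ∈ GrpL tabs L, g ⟨L.b, hb⟩ ∈ orbL tabs L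

theorem soundH3 : Sound LH3 ⊥ (by decide) := level_sound tabs rows D hD hdet LH3 [] ⊥ hgH3
  (fun l hl => absurd hl (List.not_mem_nil)) (by decide) (by decide) (bot_fix _) bot_le lvlH3
  (fun x hx => stepsB_spec tabs stH3 x (Nat.zero_le _) hx)

theorem soundT2 : Sound LT2 ⊥ (by decide) := level_sound tabs rows D hD hdet LT2 [] ⊥ hgT2
  (fun l hl => absurd hl (List.not_mem_nil)) (by decide) (by decide) (bot_fix _) bot_le lvlT2
  (fun x hx => stepsB_spec tabs stT2 x (Nat.zero_le _) hx)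

theorem soundH2 : Sound LH2 GH3 (by decide) := level_sound tabs rows D hD hdet LH2 [LH3] GH3 hgH2
  (fun l hl => by
    rw [List.mem_singleton] at hl
    subst hl
    exact hlow_one LH3 GH3 (lettersB_of_levelB lvlH3) hgH3 le_rfl)
  (by decide) (by decide)
  (fix_of_fixB LH3 5 (by decide) fixH3 fun j hj => by
    have hj' : j < 2 := hj
    exact (hgH2 (33 + j) (by omega) (by omega)).1)
  GH3_le lvlH2 (fun x hx => stepsB_spec tabs stH2 x (Nat.zero_le _) hx)

theorem soundT1 : Sound LT1 GT2 (by decide) := level_sound tabs rows D hD hdet LT1 [LT2] GT2 hgT1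
  (fun l hl => by
    rw [List.mem_singleton] at hl
    subst hl
    exact hlow_one LT2 GT2 (lettersB_of_levelB lvlT2) hgT2 le_rfl)
  (by decide) (by decide)
  (fix_of_fixB LT2 3 (by decide) fixT2 fun j hj => by
    have hj' : j < 2 := hj
    exact (hgT1 (61 + j) (by omega) (by omega)).1)
  GT2_le lvlT1 (fun x hx => stepsB_spec tabs stT1 x (Nat.zero_le _) hx)

theorem soundH1 : Sound LH1 GH2 (by decide) := level_sound tabs rows D hD hdet LH1 [LH2, LH3] GH2 hgH1
  (fun l hl => by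
    rw [List.mem_cons, List.mem_singleton] at hl
    rcases hl with rfl | rfl
    · exact hlow_one LH2 GH2 (lettersB_of_levelB lvlH2) hgH2 le_rfl
    · exact hlow_one LH3 GH2 (lettersB_of_levelB lvlH3) hgH3 GH3_le)
  (by decide) (by decide)
  (fix_of_fixB LH2 2 (by decide) fixH2 fun j hj => by
    have hj' : j < 2 := hj
    exact (hgH1 (25 + j) (by omega) (by omega)).1)
  GH2_le lvlH1 stepH1

theorem soundT0 : Sound LT0 GT1 (by decide) := level_sound tabs rows D hD hdet LT0 [LT1, LT2] GT1 hgT0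
  (fun l hl => by
    rw [List.mem_cons, List.mem_singleton] at hl
    rcases hl with rfl | rfl
    · exact hlow_one LT1 GT1 (lettersB_of_levelB lvlT1) hgT1 le_rfl
    · exact hlow_one LT2 GT1 (lettersB_of_levelB lvlT2) hgT2 GT2_le)
  (by decide) (by decide)
  (fix_of_fixB LT1 1 (by decide) fixT1 fun j hj => by
    have hj' : j < 2 := hj
    exact (hgT0 (50 + j) (by omega) (by omega)).1)
  GT1_le lvlT0 stepT0

theorem soundH0 : Sound LH0 GH1 (by decide) := level_sound tabs rows D hD hdet LH0 [LH1, LH2, LH3] GH1 hgH0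
  (fun l hl => by
    rw [List.mem_cons, List.mem_cons, List.mem_singleton] at hl
    rcases hl with rfl | rfl | rfl
    · exact hlow_one LH1 GH1 (lettersB_of_levelB lvlH1) hgH1 le_rfl
    · exact hlow_one LH2 GH1 (lettersB_of_levelB lvlH2) hgH2 GH2_le
    · exact hlow_one LH3 GH1 (lettersB_of_levelB lvlH3) hgH3 (GH3_le.trans GH2_le))
  (by decide) (by decide)
  (fix_of_fixB LH1 0 (by decide) fixH1 fun j hj => by
    have hj' : j < 2 := hj
    exact (hgH0 (13 + j) (by omega) (by omega)).1)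
  GH1_le lvlH0 stepH0

/-! ### the orders -/

theorem card_GH3 : Nat.card GH3 = 16 := by
  rw [soundH3.1, orbL_card, cntH3, Subgroup.card_bot]

theorem card_GH2 : Nat.card GH2 = 975 * 16 := by
  rw [soundH2.1, orbL_card, cntH2, card_GH3]

theorem card_GH1 : Nat.card GH1 = 35942400 := by
  rw [soundH1.1, orbL_card, cntH1, card_GH2]

theorem card_GH0 : Nat.card GH0 = 145926144000 := by
  rw [soundH0.1, orbL_card, cntH0, card_GH1]

theorem card_GT2 : Nat.card GT2 = 10 := by
  rw [soundT2.1, orbL_card, cntT2, Subgroup.card_bot]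

theorem card_GT1 : Nat.card GT1 = 1024 * 10 := by
  rw [soundT1.1, orbL_card, cntT1, card_GT2]

theorem card_GT0 : Nat.card GT0 = 17971200 := by
  rw [soundT0.1, orbL_card, cntT0, card_GT1]

end Cfsg.Agent.Helper22.RuMain
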