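import Cfsg.Agent.Helper22.PrimSimple

/-!
# Simplicity of a primitive group generated by elements of a prime order dividing the order only once
-/

set_option autoImplicit false

namespace Cfsg.Agent.Helper22.SylowSimple

open MulAction Cfsg.Agent.Helper22.PrimSimple

variable {G X : Type*} [Group G] [MulAction G X]

/-- a normal subgroup containing an element of order `p` contains every element of order `p`, if `p ^ 2` does not
divide the order of the group -/
theorem mem_of_orderOf_eq [Finite G] (p : ℕ) [hp : Fact p.Prime] (hpG : ¬p ^ 2 ∣ Nat.card G)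
    (N : Subgroup G) [hN : N.Normal] {y s : G} (hy : y ∈ N) (hyp : orderOf y = p) (hsp : orderOf s = p) :
    s ∈ N := by
  have hdvd : p ∣ Nat.card G := hsp ▸ orderOf_dvd_natCard s
  have hfac : (Nat.card G).factorization p = 1 := by
    have h1 : 1 ≤ (Nat.card G).factorization p :=
      (hp.out.dvd_iff_one_le_factorization Nat.card_pos.ne').mp hdvd
    have h2 : ¬2 ≤ (Nat.card G).factorization p := by
      intro h
      exact hpG ((hp.out.pow_dvd_iff_le_factorization Nat.card_pos.ne').mpr h)
    omega
  have cy : Nat.card (Subgroup.zpowers y) = p ^ (Nat.card G).factorization p := by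
    rw [hfac, Nat.card_zpowers, hyp, pow_one]
  have cs : Nat.card (Subgroup.zpowers s) = p ^ (Nat.card G).factorization p := by
    rw [hfac, Nat.card_zpowers, hsp, pow_one]
  set Py : Sylow p G := Sylow.ofCard (Subgroup.zpowers y) cy with hPy
  set Ps : Sylow p G := Sylow.ofCard (Subgroup.zpowers s) cs with hPs
  obtain ⟨g, hg⟩ := MulAction.exists_smul_eq G Py Ps
  have hx : s ∈ (Ps : Subgroup G) := by
    rw [hPs, Sylow.coe_ofCard]; exact Subgroup.mem_zpowers s
  rw [← hg, Sylow.coe_subgroup_smul, Subgroup.mem_pointwise_smul_iff_inv_smul_mem] at hx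
  rw [hPy, Sylow.coe_ofCard] at hx
  have hM : (MulAut.conj g)⁻¹ • s ∈ N := (Subgroup.zpowers_le.mpr hy) hx
  rw [MulAut.smul_def, MulAut.conj_inv_apply] at hM
  have := hN.conj_mem _ hM g
  simpa [mul_assoc] using this

/-- the criterion -/
theorem simple_of_primitive_sylow [Finite G] [Finite X] [IsPreprimitive G X] [FaithfulSMul G X] [Nontrivial G] [Nonempty X]
    (p : ℕ) [hp : Fact p.Prime] (hpX : p ∣ Nat.card X) (hpG : ¬p ^ 2 ∣ Nat.card G) (S : Set G)
    (hS : ∀ s ∈ S, orderOf s = p) (hgen : Subgroup.closure S = ⊤) : IsSimpleGroup G := by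
  refine ⟨fun N hNn => ?_⟩
  by_cases hbot : N = ⊥
  · exact Or.inl hbot
  right
  have hNt : IsPretransitive N X := normal_transitive N hbot
  have hne : Nonempty X := inferInstance
  obtain ⟨x₀⟩ := hne
  have hXN : Nat.card X ∣ Nat.card N := by
    have h1 := MulAction.index_stabilizer N x₀
    have h2 := Subgroup.card_mul_index (stabilizer N x₀)
    have h3 : orbit N x₀ = Set.univ := MulAction.orbit_eq_univ N x₀
    rw [h3, Set.ncard_univ] at h1
    rw [h1] at h2
    exact ⟨_, by rw [← h2, mul_comm]⟩
  have hpN : p ∣ Nat.card N := hpX.trans hXN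
  obtain ⟨y, hy⟩ := exists_prime_orderOf_dvd_card' p hpN
  have hy' : orderOf (y : G) = p := by rw [Subgroup.orderOf_coe]; exact hy
  rw [eq_top_iff, ← hgen, Subgroup.closure_le]
  intro s hs
  exact mem_of_orderOf_eq p hpG N y.2 hy' (hS s hs)

end Cfsg.Agent.Helper22.SylowSimple
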