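import Cfsg.Agent.Helper22.RuMainA
import Cfsg.Agent.Helper22.RuChkD
import Cfsg.Agent.Helper22.BigChain2
import Cfsg.Agent.Helper22.SylowSimple

/-!
# The Rudvalis group on 4060 points: transitivity, primitivity, simplicity

The group `GH0` is transitive and primitive on the 4060 points, and generated by two elements of order 29, hence
simple.  The subgroup `GT0` of the point stabiliser `GH1` is primitive on its orbit of 1755 points, and generated by
two elements of order 13, hence simple.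
-/

set_option autoImplicit false

namespace Cfsg.Agent.Helper22.RuMain

open Cfsg.Agent.Helper22.BigPerm Cfsg.Agent.Helper22.BigGraph Cfsg.Agent.Helper22.BigChain
  Cfsg.Agent.Helper22.RuTabs Cfsg.Agent.Helper22.RuRows Cfsg.Agent.Helper22.RuCert Cfsg.Agent.Helper22.RuChk
  Cfsg.Agent.Helper22.PrimSimple Cfsg.Agent.Helper22.SylowSimple MulAction

/-! ### transitivity and the point stabiliser -/

theorem orbH0_univ : orbL tabs LH0 = Finset.univ := by
  apply Finset.eq_univ_of_card
  rw [orbL_card, cntH0, Fintype.card_fin]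

theorem exists_smul_zero (β : Fin 4060) : ∃ g : ↥GH0, g • (0 : Fin 4060) = β := by
  obtain ⟨h1, h2⟩ := soundH0.2.2.1 β (by rw [orbH0_univ]; exact Finset.mem_univ _)
  exact ⟨⟨_, h1⟩, h2⟩

instance pretransH : IsPretransitive ↥GH0 (Fin 4060) := by
  refine ⟨fun x y => ?_⟩
  obtain ⟨g, hg⟩ := exists_smul_zero x
  obtain ⟨g', hg'⟩ := exists_smul_zero y
  refine ⟨g' * g⁻¹, ?_⟩
  rw [mul_smul, ← hg, inv_smul_smul, hg']

theorem stab_eq : stabilizer ↥GH0 (0 : Fin 4060) = GH1.subgroupOf GH0 := by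
  ext ⟨g, hg⟩
  rw [mem_stabilizer_iff, Subgroup.mem_subgroupOf]
  show g 0 = 0 ↔ g ∈ GH1
  rw [← soundH0.2.1, Subgroup.mem_inf, mem_stabilizer_iff]
  constructor
  · intro h
    exact ⟨hg, h⟩
  · intro h
    exact h.2

theorem card_stab : Nat.card (stabilizer ↥GH0 (0 : Fin 4060)) = 35942400 := by
  rw [stab_eq, Nat.card_congr (Subgroup.subgroupOfEquivOfLe GH1_le).toEquiv, card_GH1]

/-! ### the generators of order 29 -/

theorem triv_spec {w : List ℕ} (h : trivB w = true) : ∀ i < 4060, applyW tabs w i = i := fun i hi =>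
  Nat.eq_of_beq_eq_true (allBelow_spec h i hi)

theorem good_12 : GoodW tabs [2, 1] := by
  intro k hk
  rw [List.mem_cons, List.mem_singleton] at hk
  rcases hk with rfl | rfl
  · exact good_2
  · exact good_1

theorem pow_1 : P (tab tabs 1) ^ 29 = 1 := by
  rw [← permW_replicate]
  apply permW_eq_one tabs _ (triv_spec ord1)
  intro k hk
  rw [List.eq_of_mem_replicate hk]
  exact good_1

theorem pow_21 : (P (tab tabs 2) * P (tab tabs 1)) ^ 29 = 1 := by
  have e : P (tab tabs 2) * P (tab tabs 1) = permW tabs [2, 1] := by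
    show _ = P (tab tabs 2) * (P (tab tabs 1) * 1)
    rw [mul_one]
  rw [e, ← permW_replicate_flatten]
  apply permW_eq_one tabs _ (triv_spec ord2)
  intro k hk
  rw [List.mem_flatten] at hk
  obtain ⟨l, hl, hkl⟩ := hk
  rw [List.eq_of_mem_replicate hl] at hkl
  exact good_12 k hkl

theorem ne_1 : P (tab tabs 1) ≠ 1 := by
  intro h
  have h1 := rep_P good_1.choose_spec (0 : Fin 4060)
  rw [h] at h1
  have h2 : Nat.beq (look (tab tabs 1) 0) 0 = true := by
    rw [Nat.beq_eq]
    exact h1.symm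
  rw [ne1] at h2
  exact Bool.false_ne_true h2

theorem ne_21 : P (tab tabs 2) * P (tab tabs 1) ≠ 1 := by
  intro h
  have h1 := rep_mul (rep_P good_2.choose_spec) (rep_P good_1.choose_spec) (0 : Fin 4060)
  rw [h] at h1
  have h2 : Nat.beq (look (tab tabs 2) (look (tab tabs 1) 0)) 0 = true := by
    rw [Nat.beq_eq]
    exact h1.symm
  rw [ne2] at h2
  exact Bool.false_ne_true h2

instance fact29 : Fact (Nat.Prime 29) := ⟨by norm_num⟩

instance fact13 : Fact (Nat.Prime 13) := ⟨by norm_num⟩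

theorem order_1 : orderOf (P (tab tabs 1)) = 29 := orderOf_eq_prime pow_1 ne_1

theorem order_21 : orderOf (P (tab tabs 2) * P (tab tabs 1)) = 29 := orderOf_eq_prime pow_21 ne_21

theorem mem_1 : P (tab tabs 1) ∈ GH0 := (hgH0 1 (by norm_num) (by norm_num)).2.1

theorem mem_2 : P (tab tabs 2) ∈ GH0 := (hgH0 2 (by norm_num) (by norm_num)).2.1

/-- the generating set -/
noncomputable def SH : Set ↥GH0 := {⟨P (tab tabs 1), mem_1⟩, ⟨P (tab tabs 2) * P (tab tabs 1), GH0.mul_mem mem_2 mem_1⟩}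

theorem SH_order : ∀ s ∈ SH, orderOf s = 29 := by
  intro s hs
  rcases hs with rfl | hs
  · rw [Subgroup.orderOf_mk]
    exact order_1
  · rw [Set.mem_singleton_iff] at hs
    rw [hs, Subgroup.orderOf_mk]
    exact order_21

theorem GrpL_two (L : Lvl) (a b : ℕ) (hm : L.m = 2) (ha : L.lo = a) (hb : L.lo + 1 = b) :
    GrpL tabs L = Subgroup.closure {P (tab tabs b), P (tab tabs a)} := by
  unfold GrpL
  congr 1
  ext g
  rw [hm, ← ha, ← hb]
  constructor
  · rintro ⟨j, hj, hg⟩
    interval_cases j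
    · rw [hg]
      exact Set.mem_insert_of_mem _ rfl
    · rw [hg]
      exact Set.mem_insert _ _
  · intro hg
    rcases hg with hg | hg
    · exact ⟨1, by norm_num, hg⟩
    · rw [Set.mem_singleton_iff] at hg
      exact ⟨0, by norm_num, hg⟩

theorem SH_gen : Subgroup.closure SH = ⊤ := by
  apply closure_eq_top_of_map
  have e : (GH0.subtype '' SH) = {P (tab tabs 1), P (tab tabs 2) * P (tab tabs 1)} :=
    image_pair_subtype GH0 _ _ mem_1 (GH0.mul_mem mem_2 mem_1)
  rw [e, closure_pair_mul, Set.pair_comm]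
  exact (GrpL_two LH0 1 2 rfl rfl rfl).symm

/-! ### primitivity -/

theorem labH_lt (x : ℕ) : labH x < 3 := by
  unfold labH
  cases Nat.beq x 0 <;> cases inO tabs LH1 x <;> decide

theorem labH_eq_zero {x : ℕ} (h : labH x = 0) : x = 0 := by
  unfold labH at h
  cases h0 : Nat.beq x 0
  · rw [h0] at h
    cases h1 : inO tabs LH1 x
    · rw [h1] at h
      have h' : (2 : ℕ) = 0 := h
      exact absurd h' (by decide)
    · rw [h1] at h
      have h' : (1 : ℕ) = 0 := h
      exact absurd h' (by decide)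
  · exact Nat.eq_of_beq_eq_true h0

theorem labH_eq_one {x : ℕ} (h : labH x = 1) : inO tabs LH1 x = true := by
  unfold labH at h
  cases h0 : Nat.beq x 0
  · rw [h0] at h
    cases h1 : inO tabs LH1 x
    · rw [h1] at h
      have h' : (2 : ℕ) = 1 := h
      exact absurd h' (by decide)
    · rfl
  · rw [h0] at h
    have h' : (0 : ℕ) = 1 := h
    exact absurd h' (by decide)

theorem labH_eq_two {x : ℕ} (hx : x < 4060) (h : labH x = 2) : inO tabs LR x = true := by
  have := allBelow_spec covH x hx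
  rw [h] at this
  exact this

/-- the labels of the orbits of the point stabiliser -/
def fH (y : Fin 4060) : Fin 3 := ⟨labH y.1, labH_lt _⟩

theorem fH_zero : fH 0 = 0 := Fin.ext labH_zero

theorem GH1_fix : ∀ h ∈ GH1, h (0 : Fin 4060) = 0 :=
  fix_of_fixB LH1 0 (by decide) fixH1 fun j hj => by
    have hj' : j < 2 := hj
    exact (hgH0 (13 + j) (by omega) (by omega)).1

theorem hgH1' : ∀ k, LR.lo ≤ k → k < LR.hi → (∃ g : Pm, Rep (look (tab tabs k)) g) ∧ P (tab tabs k) ∈ GH1 := by
  intro k h1 h2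
  have h1' : 13 ≤ k := h1
  have h2' : k < 65 := h2
  obtain ⟨a, b, -⟩ := hgH1 k h1' h2'
  exact ⟨a, b⟩

theorem map_of_base {g g' : Pm} {b y y' : Fin 4060} (h : g b = y) (h' : g' b = y') : (g' * g⁻¹) y = y' := by
  rw [← h, ← h']
  show g' (g.symm (g b)) = g' b
  rw [Equiv.symm_apply_apply]

theorem hfH (y y' : Fin 4060) (h : fH y = fH y') : ∃ g ∈ GH1, g y = y' := by
  have hlab : labH y.1 = labH y'.1 := congrArg Fin.val h
  have h3 := labH_lt y.1
  -- a common base point
  have key : ∃ b : Fin 4060, (∃ g ∈ GH1, g b = y) ∧ ∃ g ∈ GH1, g b = y' := by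
    rcases Nat.lt_succ_iff_lt_or_eq.mp h3 with h2 | h2
    · rcases Nat.lt_succ_iff_lt_or_eq.mp h2 with h1 | h1
      · have e0 : labH y.1 = 0 := by omega
        have e0' : labH y'.1 = 0 := by omega
        refine ⟨0, ⟨1, GH1.one_mem, ?_⟩, ⟨1, GH1.one_mem, ?_⟩⟩
        · exact (Fin.ext (labH_eq_zero e0)).symm
        · exact (Fin.ext (labH_eq_zero e0')).symm
      · have e1' : labH y'.1 = 1 := by omega
        have m1 : y ∈ orbL tabs LH1 := Finset.mem_filter.mpr ⟨Finset.mem_univ _, labH_eq_one h1⟩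
        have m1' : y' ∈ orbL tabs LH1 := Finset.mem_filter.mpr ⟨Finset.mem_univ _, labH_eq_one e1'⟩
        exact ⟨_, ⟨_, soundH1.2.2.1 y m1⟩, ⟨_, soundH1.2.2.1 y' m1'⟩⟩
    · have e2' : labH y'.1 = 2 := by omega
      have hb : LR.b < 4060 := by decide
      exact ⟨⟨LR.b, hb⟩, ⟨_, tr_facts tabs LR GH1 letR hgH1' hb y (labH_eq_two y.2 h2)⟩,
        ⟨_, tr_facts tabs LR GH1 letR hgH1' hb y' (labH_eq_two y'.2 e2')⟩⟩
  obtain ⟨b, ⟨g, hg, hgb⟩, ⟨g', hg', hgb'⟩⟩ := key
  exact ⟨g' * g⁻¹, GH1.mul_mem hg' (GH1.inv_mem hg), map_of_base hgb hgb'⟩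

theorem count_eq (p : ℕ → Bool) (n : ℕ) (hp : countB p 4060 = n) :
    {y : Fin 4060 | p y.1 = true}.ncard = n := by
  have h1 : {y : Fin 4060 | p y.1 = true} = ↑(Finset.univ.filter fun y : Fin 4060 => p y.1 = true) := by
    ext y
    simp
  rw [h1, Set.ncard_coe_finset, card_filter_fin, hp]

instance primH : IsPreprimitive ↥GH0 (Fin 4060) := by
  apply isPreprimitive_of_labels (0 : Fin 4060) fH ![1, 2304, 1755]
  · intro y y' hyy
    obtain ⟨g, hg, hgy⟩ := hfH y y' hyy
    refine ⟨⟨g, GH1_le hg⟩, ?_, hgy⟩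
    rw [mem_stabilizer_iff]
    exact GH1_fix g hg
  · intro i
    have e : {y : Fin 4060 | fH y = i} = {y : Fin 4060 | Nat.beq (labH y.1) i.1 = true} := by
      ext y
      show fH y = i ↔ Nat.beq (labH y.1) i.1 = true
      rw [Nat.beq_eq, Fin.ext_iff]
      rfl
    rw [e]
    fin_cases i
    · exact count_eq _ _ cntLH0
    · exact count_eq _ _ cntLH1
    · exact count_eq _ _ cntLH2
  · rw [fH_zero]
    rfl
  · rw [fH_zero, Nat.card_eq_fintype_card, Fintype.card_fin]
    decide

/-! ### simplicity -/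

instance nontrivH : Nontrivial ↥GH0 := by
  apply (Finite.one_lt_card_iff_nontrivial (α := ↥GH0)).mp
  rw [card_GH0]
  norm_num

instance simpleH : IsSimpleGroup ↥GH0 := by
  apply simple_of_primitive_sylow (X := Fin 4060) 29 _ _ SH SH_order SH_gen
  · rw [Nat.card_eq_fintype_card, Fintype.card_fin]
    norm_num
  · rw [card_GH0]
    norm_num

end Cfsg.Agent.Helper22.RuMain
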