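import Cfsg.Agent.Helper22.RuMainB

/-!
# The Rudvalis group on 4060 points: the simple subgroup of order 17971200 of the point stabiliser
-/

set_option autoImplicit false

namespace Cfsg.Agent.Helper22.RuMain

open Cfsg.Agent.Helper22.BigPerm Cfsg.Agent.Helper22.BigGraph Cfsg.Agent.Helper22.BigChain
  Cfsg.Agent.Helper22.RuTabs Cfsg.Agent.Helper22.RuRows Cfsg.Agent.Helper22.RuCert Cfsg.Agent.Helper22.RuChk
  Cfsg.Agent.Helper22.PrimSimple Cfsg.Agent.Helper22.SylowSimple MulAction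

/-- the base point of the subgroup -/
abbrev c0 : Fin 4060 := 1

theorem orbit_T (x : Fin 4060) : x ∈ orbit ↥GT0 c0 ↔ inO tabs LT0 x.1 = true := by
  constructor
  · rintro ⟨g, rfl⟩
    have := soundT0.2.2.2 g.1 g.2
    exact (Finset.mem_filter.mp this).2
  · intro h
    obtain ⟨h1, h2⟩ := soundT0.2.2.1 x (Finset.mem_filter.mpr ⟨Finset.mem_univ _, h⟩)
    exact ⟨⟨_, h1⟩, h2⟩

/-- the points of the orbit -/
abbrev XT : Set (Fin 4060) := orbit ↥GT0 c0

/-- the base point -/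
def x0 : ↥XT := ⟨c0, mem_orbit_self _⟩

theorem XT_eq : XT = ↑(orbL tabs LT0) := by
  ext x
  rw [orbit_T]
  simp [orbL]

theorem card_XT : Nat.card ↥XT = 1755 := by
  rw [Nat.card_coe_set_eq, XT_eq, Set.ncard_coe_finset, orbL_card, cntT0]

/-! ### the labels -/

/-- the levels of the orbits of the point stabiliser of the subgroup -/
def lvlP : ℕ → Lvl
  | 0 => LP0
  | 1 => LP1
  | 2 => LP2
  | 3 => LP3
  | _ => LP4

theorem labT_spec (x : ℕ) : labT x = 5 ∨ (labT x < 5 ∧ inO tabs (lvlP (labT x)) x = true) := by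
  unfold labT
  cases h0 : inO tabs LP0 x
  · cases h1 : inO tabs LP1 x
    · cases h2 : inO tabs LP2 x
      · cases h3 : inO tabs LP3 x
        · cases h4 : inO tabs LP4 x
          · left
            rfl
          · right
            exact ⟨(by decide : (4 : ℕ) < 5), h4⟩
        · right
          exact ⟨(by decide : (3 : ℕ) < 5), h3⟩
      · right
        exact ⟨(by decide : (2 : ℕ) < 5), h2⟩
    · right
      exact ⟨(by decide : (1 : ℕ) < 5), h1⟩
  · right
    exact ⟨(by decide : (0 : ℕ) < 5), h0⟩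

theorem lvlP_facts (i : ℕ) :
    lettersB (lvlP i) = true ∧ (lvlP i).lo = 50 ∧ (lvlP i).hi = 65 ∧ (lvlP i).b < 4060 := by
  match i with
  | 0 => exact ⟨letP0, rfl, rfl, by decide⟩
  | 1 => exact ⟨letP1, rfl, rfl, by decide⟩
  | 2 => exact ⟨letP2, rfl, rfl, by decide⟩
  | 3 => exact ⟨letP3, rfl, rfl, by decide⟩
  | (n + 4) => exact ⟨letP4, rfl, rfl, (by decide : LP4.b < 4060)⟩

theorem labT_lt (y : ↥XT) : labT y.1.1 < 5 := by
  have h := allBelow_spec covT y.1.1 y.1.2
  rw [(orbit_T y.1).mp y.2] at h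
  have h' : Nat.blt (labT y.1.1) 5 = true := h
  simpa [Nat.blt] using h'

/-- the labels of the orbits of the point stabiliser of the subgroup -/
def fT (y : ↥XT) : Fin 5 := ⟨labT y.1.1, labT_lt y⟩

theorem fT_x0 : fT x0 = 0 := Fin.ext labT_one

theorem GT1_fix : ∀ h ∈ GT1, h c0 = c0 :=
  fix_of_fixB LT1 1 (by decide) fixT1 fun j hj => by
    have hj' : j < 2 := hj
    exact (hgT0 (50 + j) (by omega) (by omega)).1

theorem inO_lab (y : ↥XT) : inO tabs (lvlP (labT y.1.1)) y.1.1 = true := by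
  rcases labT_spec y.1.1 with h5 | h5
  · have := labT_lt y
    omega
  · exact h5.2

theorem hfT (y y' : ↥XT) (h : fT y = fT y') : ∃ g ∈ GT1, g y.1 = y'.1 := by
  have hlab : labT y.1.1 = labT y'.1.1 := congrArg Fin.val h
  obtain ⟨hl, hlo, hhi, hb⟩ := lvlP_facts (labT y.1.1)
  have hgood : ∀ k, (lvlP (labT y.1.1)).lo ≤ k → k < (lvlP (labT y.1.1)).hi →
      (∃ g : Pm, Rep (look (tab tabs k)) g) ∧ P (tab tabs k) ∈ GT1 := by
    intro k h1 h2
    rw [hlo] at h1
    rw [hhi] at h2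
    obtain ⟨a, b, -⟩ := hgT1 k h1 h2
    exact ⟨a, b⟩
  have i1 := inO_lab y
  have i2 := inO_lab y'
  rw [← hlab] at i2
  obtain ⟨m1, e1⟩ := tr_facts tabs _ GT1 hl hgood hb y.1 i1
  obtain ⟨m2, e2⟩ := tr_facts tabs _ GT1 hl hgood hb y'.1 i2
  exact ⟨_, GT1.mul_mem m2 (GT1.inv_mem m1), map_of_base e1 e2⟩

theorem countT_aux (i : ℕ) : Subtype.val '' {y : ↥XT | labT y.1.1 = i} =
    {y : Fin 4060 | (inO tabs LT0 y.1 && Nat.beq (labT y.1) i) = true} := by
  ext x
  constructor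
  · rintro ⟨y, hy, hyx⟩
    rw [← hyx]
    show (inO tabs LT0 y.1.1 && Nat.beq (labT y.1.1) i) = true
    rw [Bool.and_eq_true, Nat.beq_eq]
    exact ⟨(orbit_T y.1).mp y.2, hy⟩
  · intro hx
    have hx' : (inO tabs LT0 x.1 && Nat.beq (labT x.1) i) = true := hx
    rw [Bool.and_eq_true, Nat.beq_eq] at hx'
    exact ⟨⟨x, (orbit_T x).mpr hx'.1⟩, hx'.2, rfl⟩

theorem countT (i n : ℕ) (hp : countB (fun x => inO tabs LT0 x && Nat.beq (labT x) i) 4060 = n) :
    {y : ↥XT | labT y.1.1 = i}.ncard = n := by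
  have h1 := Set.ncard_image_of_injective {y : ↥XT | labT y.1.1 = i} Subtype.val_injective
  rw [← h1, countT_aux]
  exact count_eq _ _ hp

instance primT : IsPreprimitive ↥GT0 ↥XT := by
  apply isPreprimitive_of_labels x0 fT ![1, 1024, 640, 80, 10]
  · intro y y' hyy
    obtain ⟨g, hg, hgy⟩ := hfT y y' hyy
    refine ⟨⟨g, GT1_le hg⟩, ?_, Subtype.ext hgy⟩
    rw [mem_stabilizer_iff]
    exact Subtype.ext (GT1_fix g hg)
  · intro i
    have e : {y : ↥XT | fT y = i} = {y : ↥XT | labT y.1.1 = i.1} := by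
      ext y
      show fT y = i ↔ labT y.1.1 = i.1
      rw [Fin.ext_iff]
      rfl
    rw [e]
    fin_cases i
    · exact countT _ _ cntLT0
    · exact countT _ _ cntLT1
    · exact countT _ _ cntLT2
    · exact countT _ _ cntLT3
    · exact countT _ _ cntLT4
  · rw [fT_x0]
    rfl
  · rw [fT_x0, card_XT]
    decide

/-! ### faithfulness -/

theorem GT0_aut : GT0 ≤ autG rows :=
  GrpL_le2 LT0 38 39 _ rfl rfl rfl (hgT0 38 (by norm_num) (by norm_num)).2.2 (hgT0 39 (by norm_num) (by norm_num)).2.2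

theorem inv_mul_fix {g g' : Pm} {x : Fin 4060} (h : g x = g' x) : (g'⁻¹ * g) x = x := by
  show g'.symm (g x) = x
  rw [h, Equiv.symm_apply_apply]

instance faithfulT : FaithfulSMul ↥GT0 ↥XT := by
  refine ⟨fun {g g'} h => ?_⟩
  apply Subtype.ext
  have key : (g'.1)⁻¹ * g.1 = 1 := by
    apply hdet _ ((autG rows).mul_mem ((autG rows).inv_mem (GT0_aut g'.2)) (GT0_aut g.2))
    intro d hd
    have hmem : (⟨d, hD d hd⟩ : Fin 4060) ∈ XT := (orbit_T _).mpr (List.all_eq_true.mp dInT d hd)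
    have e : g.1 ⟨d, hD d hd⟩ = g'.1 ⟨d, hD d hd⟩ := congrArg Subtype.val (h ⟨_, hmem⟩)
    exact inv_mul_fix e
  have := congrArg (fun z => g'.1 * z) key
  simpa using this

/-! ### the generators of order 13 -/

theorem good_38 : ∃ g : Pm, Rep (look (tab tabs 38)) g := (hgT0 38 (by norm_num) (by norm_num)).1

theorem good_39 : ∃ g : Pm, Rep (look (tab tabs 39)) g := (hgT0 39 (by norm_num) (by norm_num)).1

theorem mem_38 : P (tab tabs 38) ∈ GT0 := (hgT0 38 (by norm_num) (by norm_num)).2.1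

theorem mem_39 : P (tab tabs 39) ∈ GT0 := (hgT0 39 (by norm_num) (by norm_num)).2.1

theorem pow_38 : P (tab tabs 38) ^ 13 = 1 := by
  rw [← permW_replicate]
  apply permW_eq_one tabs _ (triv_spec ord38)
  intro k hk
  rw [List.eq_of_mem_replicate hk]
  exact good_38

theorem pow_39 : P (tab tabs 39) ^ 13 = 1 := by
  rw [← permW_replicate]
  apply permW_eq_one tabs _ (triv_spec ord39)
  intro k hk
  rw [List.eq_of_mem_replicate hk]
  exact good_39

theorem ne_of_look {k : ℕ} (hg : ∃ g : Pm, Rep (look (tab tabs k)) g)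
    (hne : Nat.beq (look (tab tabs k) 1) 1 = false) : P (tab tabs k) ≠ 1 := by
  intro h
  have h1 := rep_P hg.choose_spec (1 : Fin 4060)
  rw [h] at h1
  have h2 : Nat.beq (look (tab tabs k) 1) 1 = true := by
    rw [Nat.beq_eq]
    exact h1.symm
  rw [hne] at h2
  exact Bool.false_ne_true h2

theorem order_38 : orderOf (P (tab tabs 38)) = 13 := orderOf_eq_prime pow_38 (ne_of_look good_38 ne38)

theorem order_39 : orderOf (P (tab tabs 39)) = 13 := orderOf_eq_prime pow_39 (ne_of_look good_39 ne39)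

/-- the generating set -/
noncomputable def ST : Set ↥GT0 := {⟨P (tab tabs 38), mem_38⟩, ⟨P (tab tabs 39), mem_39⟩}

theorem ST_order : ∀ s ∈ ST, orderOf s = 13 := by
  intro s hs
  rcases hs with rfl | hs
  · rw [Subgroup.orderOf_mk]
    exact order_38
  · rw [Set.mem_singleton_iff] at hs
    rw [hs, Subgroup.orderOf_mk]
    exact order_39

theorem ST_gen : Subgroup.closure ST = ⊤ := by
  apply closure_eq_top_of_map
  have e : (GT0.subtype '' ST) = {P (tab tabs 38), P (tab tabs 39)} :=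
    image_pair_subtype GT0 _ _ mem_38 mem_39
  rw [e, Set.pair_comm]
  exact (GrpL_two LT0 38 39 rfl rfl rfl).symm

/-! ### simplicity -/

instance nontrivT : Nontrivial ↥GT0 := by
  apply (Finite.one_lt_card_iff_nontrivial (α := ↥GT0)).mp
  rw [card_GT0]
  norm_num

instance simpleT : IsSimpleGroup ↥GT0 := by
  have : Nonempty ↥XT := ⟨x0⟩
  apply simple_of_primitive_sylow (X := ↥XT) 13 _ _ ST ST_order ST_gen
  · rw [card_XT]
    norm_num
  · rw [card_GT0]
    norm_num

theorem exists_T : ∃ T : Subgroup (stabilizer ↥GH0 (0 : Fin 4060)),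
    IsSimpleGroup ↥T ∧ Nat.card ↥T = 17971200 := by
  obtain ⟨T, ⟨e⟩⟩ := exists_subgroup_equiv GH0 (stabilizer ↥GH0 (0 : Fin 4060)) GT0 (GT0_le.trans GH1_le) (by
    rw [stab_eq]
    intro g hg
    exact GT0_le hg)
  refine ⟨T, ?_, ?_⟩
  · exact e.isSimpleGroup
  · rw [Nat.card_congr e.toEquiv, card_GT0]

end Cfsg.Agent.Helper22.RuMain
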