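import Mathlib
import Cfsg.Agent.Helper27.S0429Defs

/-! Board `s0429pieces`, row BUILD: an ovoid gives a 21-coclique through `a` with that trace. Core argument, with the
statements of the rows CLS4, CLSFAR, CLSEQ, CLSCOC, CLSPART, KAPCLS, KAP1, PTKAP, PTFAR as hypotheses (at the base vertex `a`
and the neighbour `x`). -/

set_option autoImplicit false

namespace Cfsg.Agent.S0429P

open Finset

variable {V : Type*} [Fintype V] [DecidableEq V] {G : SimpleGraph V} [DecidableRel G.Adj]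

theorem BUILD_aux_core {a x : V} {O : Finset V} (hO : O ∈ ovs G a x)
    (hCLS4 : ∀ {b : V}, Far G a b → (cls G a b).card = 4)
    (hCLSFAR : ∀ {b c : V}, Far G a b → c ∈ cls G a b → Far G a c)
    (hCLSEQ : ∀ {b c : V}, Far G a b → c ∈ cls G a b → cls G a c = cls G a b)
    (hCLSCOC : ∀ {b : V}, Far G a b → IsCoc G (cls G a b))
    (hCLSPART : ∀ {b : V}, Far G a b → ∃! p, p ∈ cls G a b ∧ G.Adj x p)
    (hKAPCLS : ∀ {b c z : V}, Far G a b → c ∈ cls G a b → Far G a z → z ∉ cls G a b →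
      kap G a z b = kap G a z c)
    (hKAP1 : ∀ {b z : V}, Far G a b → Far G a z → z ∉ cls G a b → kap G a z b = 1 →
      ∀ p ∈ cls G a b, ¬ G.Adj z p ∧ m3 G a z p = 1)
    (hPTKAP : ∀ {u u' : V}, u ∈ Pt G a x → u' ∈ Pt G a x → u ≠ u' →
      (kap G a u u' = 1 ∨ kap G a u u' = 2) ∧ u' ∉ cls G a u)
    (hPTFAR : ∀ {u : V}, u ∈ Pt G a x → Far G a u) :
    insert a (O.biUnion (cls G a)) ∈ Coc21 G ∧ insert a (O.biUnion (cls G a)) ∩ Pt G a x = O := by
  obtain ⟨hOsub, hOcard, hOcol⟩ := mem_ovs.mp hO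
  have hfar : ∀ u ∈ O, Far G a u := fun u hu => hPTFAR (hOsub hu)
  -- two different points of `O` have `kap = 1`
  have hkap1 : ∀ u ∈ O, ∀ u' ∈ O, u ≠ u' → kap G a u u' = 1 := by
    intro u hu u' hu' hne
    rcases (hPTKAP (hOsub hu) (hOsub hu') hne).1 with h1 | h2
    · exact h1
    · exact absurd ⟨hne, h2⟩ (hOcol u hu u' hu')
  -- the classes of different points are disjoint
  have hdisj : ∀ u ∈ O, ∀ u' ∈ O, u ≠ u' → ∀ w, w ∈ cls G a u → w ∉ cls G a u' := by
    intro u hu u' hu' hne w hw hw'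
    have e1 := hCLSEQ (hfar u hu) hw
    have e2 := hCLSEQ (hfar u' hu') hw'
    have : u' ∈ cls G a u := by rw [← e1, e2]; exact self_mem_cls a u'
    exact (hPTKAP (hOsub hu) (hOsub hu') hne).2 this
  have hane : a ∉ O.biUnion (cls G a) := by
    intro ha
    obtain ⟨u, hu, hau⟩ := Finset.mem_biUnion.mp ha
    exact (hCLSFAR (hfar u hu) hau).1 rfl
  refine ⟨mem_Coc21.mpr ⟨?_, ?_⟩, ?_⟩
  · -- coclique
    have hcls : ∀ u ∈ O, ∀ v ∈ cls G a u, ∀ u' ∈ O, ∀ w ∈ cls G a u', ¬ G.Adj v w := by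
      intro u hu v hv u' hu' w hw
      by_cases hne : u = u'
      · subst hne
        exact hCLSCOC (hfar u hu) v hv w hw
      · have hk : kap G a u u' = 1 := hkap1 u hu u' hu' hne
        have hu'u : u' ∉ cls G a u := (hPTKAP (hOsub hu) (hOsub hu') hne).2
        have h1 : kap G a u' u = kap G a u' v := hKAPCLS (hfar u hu) hv (hfar u' hu') hu'u
        have h2 : kap G a v u' = 1 := by
          rw [kap_symm, ← h1, kap_symm]; exact hk
        have hvu' : v ∉ cls G a u' := hdisj u hu u' hu' hne v hv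
        exact (hKAP1 (hfar u' hu') (hCLSFAR (hfar u hu) hv) hvu' h2 w hw).1
    intro v hv w hw
    rcases Finset.mem_insert.mp hv with rfl | hv
    · rcases Finset.mem_insert.mp hw with rfl | hw
      · exact G.loopless.irrefl _
      · obtain ⟨u', hu', hw⟩ := Finset.mem_biUnion.mp hw
        exact (hCLSFAR (hfar u' hu') hw).2
    · obtain ⟨u, hu, hv⟩ := Finset.mem_biUnion.mp hv
      rcases Finset.mem_insert.mp hw with rfl | hw
      · intro hadj
        exact (hCLSFAR (hfar u hu) hv).2 hadj.symm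
      · obtain ⟨u', hu', hw⟩ := Finset.mem_biUnion.mp hw
        exact hcls u hu v hv u' hu' w hw
  · -- cardinality
    rw [Finset.card_insert_of_notMem hane, Finset.card_biUnion]
    · rw [Finset.sum_congr rfl (fun u hu => hCLS4 (hfar u hu))]
      simp [hOcard]
    · intro u hu u' hu' hne
      show Disjoint (cls G a u) (cls G a u')
      rw [Finset.disjoint_left]
      exact hdisj u hu u' hu' hne
  · -- the trace
    ext y
    simp only [Finset.mem_inter, Finset.mem_insert, Finset.mem_biUnion]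
    constructor
    · rintro ⟨hy | ⟨u, hu, hyu⟩, hyP⟩
      · exact absurd hy (mem_Pt.mp hyP).1
      · obtain ⟨p, -, hp⟩ := hCLSPART (hfar u hu)
        have e1 := hp y ⟨hyu, (mem_Pt.mp hyP).2⟩
        have e2 := hp u ⟨self_mem_cls a u, (mem_Pt.mp (hOsub hu)).2⟩
        rw [e1, ← e2]; exact hu
    · intro hy
      exact ⟨Or.inr ⟨y, hy, self_mem_cls a y⟩, hOsub hy⟩

end Cfsg.Agent.S0429P
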