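import Mathlib
import Cfsg.Agent.Helper27.S0429Defs

/-! Board `s0429pieces`, row PTKAP: core argument, with the one needed instance of KAPLE as a hypothesis. -/

set_option autoImplicit false

namespace Cfsg.Agent.S0429P

open Finset

variable {V : Type*} [Fintype V] [DecidableEq V] {G : SimpleGraph V} [DecidableRel G.Adj]

/-- points of `Pt a x` are far from `a` (triangle-free) -/
theorem PTKAP_aux_far (h : G.IsSRGWith 77 16 0 4) {a x u : V} (hax : G.Adj a x) (hu : u ∈ Pt G a x) :
    Far G a u :=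
  ⟨(mem_Pt.mp hu).1, nadj_of_common h hax.symm (mem_Pt.mp hu).2⟩

theorem PTKAP_aux_core (h : G.IsSRGWith 77 16 0 4) {a x u u' : V} (hax : G.Adj a x) (hu : u ∈ Pt G a x)
    (hu' : u' ∈ Pt G a x) (hne : u ≠ u') (hle : kap G a u u' ≤ 2) :
    (kap G a u u' = 1 ∨ kap G a u u' = 2) ∧ u' ∉ cls G a u := by
  have hxu : G.Adj x u := (mem_Pt.mp hu).2
  have hxu' : G.Adj x u' := (mem_Pt.mp hu').2
  have hnadj : ¬ G.Adj u u' := nadj_of_common h hxu hxu'
  have hm3 : 1 ≤ m3 G a u u' := by
    unfold m3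
    apply Finset.card_pos.mpr
    exact ⟨x, by simp [hax, hxu.symm, hxu'.symm]⟩
  have hkap : kap G a u u' = m3 G a u u' := by
    unfold kap; rw [if_neg hnadj, zero_add]
  have hge : 1 ≤ kap G a u u' := by rw [hkap]; exact hm3
  refine ⟨by omega, ?_⟩
  intro hmem
  rcases mem_cls.mp hmem with h1 | h2
  · exact hne h1.symm
  · have := h2.2.2.2
    omega

end Cfsg.Agent.S0429P
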