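import Mathlib
import Cfsg.Agent.Helper27.S0429Defs
import Cfsg.Agent.Helper22.S0429PTKAPcore
import Cfsg.Agent.Helper19.S0429KAPLE

/-! Board `s0429pieces`, row PTKAP. -/

set_option autoImplicit false

namespace Cfsg.Agent.S0429P

open Finset

variable {V : Type*} [Fintype V] [DecidableEq V] {G : SimpleGraph V} [DecidableRel G.Adj]

/-- PTKAP (S/M): two distinct points have `kap ∈ {1, 2}` and lie in different classes. -/
theorem PTKAP (h : G.IsSRGWith 77 16 0 4) {a x u u' : V} (hax : G.Adj a x) (hu : u ∈ Pt G a x) (hu' : u' ∈ Pt G a x)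
    (hne : u ≠ u') : (kap G a u u' = 1 ∨ kap G a u u' = 2) ∧ u' ∉ cls G a u :=
  PTKAP_aux_core h hax hu hu' hne
    (KAPLE h (PTKAP_aux_far h hax hu) (PTKAP_aux_far h hax hu') hne)

end Cfsg.Agent.S0429P
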