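import Mathlib
import Cfsg.Agent.Helper27.S0429Defs
import Cfsg.Agent.Helper22.S0429BUILDcore
import Cfsg.Agent.Helper27.S0429CLS4h
import Cfsg.Agent.Helper10.S0429CLScore
import Cfsg.Agent.Helper10.S0429CLS
import Cfsg.Agent.Helper21.S0429CLSCOC
import Cfsg.Agent.Helper21.S0429CLSPART
import Cfsg.Agent.Helper22.S0429PTKAP
import Cfsg.Agent.Helper6.S0429PT

/-! Board `s0429pieces`, row BUILD. -/

set_option autoImplicit false

namespace Cfsg.Agent.S0429P

open Finset

variable {V : Type*} [Fintype V] [DecidableEq V] {G : SimpleGraph V} [DecidableRel G.Adj]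

/-- BUILD (M/L): an ovoid gives a 21-coclique through `a` with that trace. -/
theorem BUILD (h : G.IsSRGWith 77 16 0 4) {a x : V} (hax : G.Adj a x) {O : Finset V} (hO : O ∈ ovs G a x) :
    insert a (O.biUnion (cls G a)) ∈ Coc21 G ∧ insert a (O.biUnion (cls G a)) ∩ Pt G a x = O :=
  BUILD_aux_core hO (fun hab => CLS4 h hab) (fun hab hc => CLSFAR hab hc) (fun hab hc => CLSEQ h hab hc)
    (fun hab => CLSCOC h hab) (fun hab => CLSPART h hab hax) (fun hab hc hz hzb => KAPCLS h hab hc hz hzb)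
    (fun hab hz hzb hk => KAP1 h hab hz hzb hk) (fun hu hu' hne => PTKAP h hax hu hu' hne)
    (fun hu => PTFAR h hax hu)

end Cfsg.Agent.S0429P
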