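import Mathlib

set_option autoImplicit false
set_option linter.unusedSectionVars false
set_option linter.unusedVariables false

/-! # S0679 chapter (1), piece 1-ARITHD (helper22): the index-2 bookkeeping of the Sylow-11 normalisers. -/

namespace Cfsg.Agent.S0679P

/-- 1-ARITHD (S; pure arithmetic, 16 cases + `omega`): the index-2 bookkeeping of the Sylow-11 normalisers. -/
theorem ONE.ARITHD {d n d' n' : ℕ} (hd : d ∣ 10) (hd' : d' ∣ 10) (hn : n % 11 = 1) (hn' : n' % 11 = 1)
    (h : 11 * d * n = 2 * (11 * d' * n')) : (d = 2 ∧ d' = 1) ∨ (d = 10 ∧ d' = 5) := by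
  have e : Nat.divisors 10 = {1, 2, 5, 10} := by decide
  have hd1 : d ∈ Nat.divisors 10 := Nat.mem_divisors.mpr ⟨hd, by norm_num⟩
  have hd2 : d' ∈ Nat.divisors 10 := Nat.mem_divisors.mpr ⟨hd', by norm_num⟩
  rw [e] at hd1 hd2
  simp only [Finset.mem_insert, Finset.mem_singleton] at hd1 hd2
  rcases hd1 with rfl | rfl | rfl | rfl <;> rcases hd2 with rfl | rfl | rfl | rfl <;> omega

end Cfsg.Agent.S0679P
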