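import Mathlib
import Cfsg.Agent.Helper13.S0679Defs
import Cfsg.Agent.Helper4.S4150SYLQ

set_option autoImplicit false
set_option linter.unusedSectionVars false
set_option linter.unusedVariables false

/-! # S0679 piece B-SYL (helper22): the Sylow 11-normaliser of a non-solvable transitive group of degree 11. -/

namespace Cfsg.Agent.S0679P

open Equiv Equiv.Perm MulAction Cfsg.Agent.S4150P

variable {α : Type*} [Fintype α] [DecidableEq α]

namespace BSYL

/-- a group of order 11 is solvable -/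
theorem aux_solvable {K : Type*} [Group K] (h : Nat.card K = 11) : Group.IsSolvable K := by
  haveI : Fact (Nat.Prime 11) := ⟨by norm_num⟩
  haveI : IsCyclic K := isCyclic_of_prime_card h
  letI : CommGroup K := IsCyclic.commGroup
  exact isSolvable_of_comm (fun a b => mul_comm a b)

end BSYL

/-- B-SYL (S-M) -/
theorem BSYL.main (hα : Fintype.card α = 11) (G : Subgroup (Perm α)) [IsPretransitive G α]
    (hG : ¬ Group.IsSolvable G) :
    ∃ y ∈ G, orderOf y = 11 ∧ ∃ s n : ℕ, (s = 2 ∨ s = 5 ∨ s = 10) ∧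
      Nat.card ↥(normIn G y) = 11 * s ∧ Nat.card ↥G = 11 * s * n ∧ n % 11 = 1 ∧
      (Even s → ∃ w ∈ G, orderOf w = 2 ∧ w * y * w⁻¹ = y⁻¹) := by
  haveI : Fact (Nat.Prime 11) := ⟨by norm_num⟩
  have hne : Nonempty α := by
    rw [← Fintype.card_pos_iff, hα]
    norm_num
  obtain ⟨a⟩ := hne
  have hdvd : 11 ∣ Nat.card ↥G := by
    have h1 := MulAction.index_stabilizer_of_transitive (G := ↥G) (x := a)
    rw [Nat.card_eq_fintype_card, hα] at h1
    rw [← h1]
    exact Subgroup.index_dvd_card _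
  obtain ⟨y', hy'⟩ := exists_prime_orderOf_dvd_card' 11 hdvd
  have hyo : orderOf (y' : Perm α) = 11 := by rw [Subgroup.orderOf_coe, hy']
  obtain ⟨s, n, hN, hcard, hn, hs, hs1, hev⟩ :=
    SYLQ.main (q := 11) (by norm_num) (by norm_num) hα G y'.2 hyo
  refine ⟨y', y'.2, hyo, s, n, ?_, hN, hcard, hn, hev⟩
  have e : Nat.divisors 10 = {1, 2, 5, 10} := by decide
  have hsd : s ∈ Nat.divisors 10 := Nat.mem_divisors.mpr ⟨hs, by norm_num⟩
  rw [e] at hsd
  simp only [Finset.mem_insert, Finset.mem_singleton] at hsd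
  rcases hsd with h | h | h | h
  · exfalso
    have hn1 := hs1 h
    rw [h, hn1] at hcard
    exact hG (BSYL.aux_solvable (by rw [hcard]))
  · exact Or.inl h
  · exact Or.inr (Or.inl h)
  · exact Or.inr (Or.inr h)

end Cfsg.Agent.S0679P
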