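import Mathlib
import Cfsg.Agent.Helper13.S0679Defs

set_option autoImplicit false
set_option linter.unusedSectionVars false
set_option linter.unusedVariables false

/-! # S0679 piece C-INDEX (helper22): a subgroup of `Perm α` containing an odd permutation meets the alternating group in
a subgroup of index 2. -/

namespace Cfsg.Agent.S0679P

open Equiv Equiv.Perm MulAction

variable {α : Type*} [Fintype α] [DecidableEq α]

/-- C-INDEX (S-M) -/
theorem CINDEX.main (H : Subgroup (Perm α)) {w : Perm α} (hw : w ∈ H) (hodd : Perm.sign w = -1) :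
    Nat.card ↥H = 2 * Nat.card ↥(H ⊓ alternatingGroup α) := by
  let φ : ↥H →* ℤˣ := (Perm.sign).comp H.subtype
  have hsurj : Function.Surjective φ := by
    intro u
    rcases Int.units_eq_one_or u with rfl | rfl
    · exact ⟨1, map_one φ⟩
    · exact ⟨⟨w, hw⟩, hodd⟩
  have h1 : φ.ker.index = 2 := by
    rw [Subgroup.index_ker, MonoidHom.range_eq_top.mpr hsurj, Subgroup.card_top,
      Nat.card_eq_fintype_card, Fintype.card_units_int]
  have h2 : Nat.card φ.ker = Nat.card ↥(H ⊓ alternatingGroup α) := by
    apply Nat.card_congr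
    exact
      { toFun := fun g => ⟨g.1.1, ⟨g.1.2, Equiv.Perm.mem_alternatingGroup.mpr g.2⟩⟩
        invFun := fun g => ⟨⟨g.1, g.2.1⟩, Equiv.Perm.mem_alternatingGroup.mp g.2.2⟩
        left_inv := fun g => rfl
        right_inv := fun g => rfl }
  have h3 := Subgroup.card_mul_index φ.ker
  rw [h1, h2] at h3
  omega

end Cfsg.Agent.S0679P
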