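import Mathlib

set_option autoImplicit false
set_option linter.unusedSectionVars false
set_option linter.unusedVariables false

/-! # S0679 chapter (1), piece 1-KTRANS (helper22): a `k`-transitive group has order divisible by the number of
injective `k`-tuples.  (The hypothesis `k ≤ card α` is needed: for `k > card α` there are no injective `k`-tuples,
`k`-transitivity holds vacuously and `0 ∣ |G|` fails.) -/

namespace Cfsg.Agent.S0679P

open Equiv MulAction

variable {α : Type*} [Fintype α] [DecidableEq α] {G : Subgroup (Equiv.Perm α)}

/-- 1-KTRANS (S): a `k`-transitive group has order divisible by the number of injective `k`-tuples. -/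
theorem ONE.KTRANS {k : ℕ} (hk : IsMultiplyPretransitive G α k) (hkα : k ≤ Fintype.card α) :
    Fintype.card (Fin k ↪ α) ∣ Nat.card G := by
  have hne : Nonempty (Fin k ↪ α) := by
    apply Function.Embedding.nonempty_of_card_le
    rw [Fintype.card_fin]
    exact hkα
  obtain ⟨x⟩ := hne
  have h1 := @MulAction.index_stabilizer_of_transitive G (Fin k ↪ α) _ _ x hk
  rw [← Nat.card_eq_fintype_card, ← h1]
  exact Subgroup.index_dvd_card _

end Cfsg.Agent.S0679P
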