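import Mathlib
import Cfsg.Agent.Helper16.S64Defs
import Cfsg.Agent.Helper26.S1237Defs

set_option autoImplicit false

/-! S1237 board (driver helper26), piece FPF3. -/

namespace Cfsg.Agent.S1237P

open Cfsg.Agent.Helper16.S64 (Fpf3)

/-- a power of an automorphism fixes every fixed point of the automorphism -/
theorem FPF3_aux_pow_fix {T : Type*} [Group T] (ρ : MulAut T) {t : T} (h : ρ t = t) (k : ℕ) :
    (ρ ^ k) t = t := by
  induction k with
  | zero => simp
  | succ n ih => rw [pow_succ, MulAut.mul_apply, h, ih]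

/-- `ρ` is fixed-point-free -/
theorem FPF3_aux_fpf {T : Type*} [Group T] [Finite T] (hT : IsPGroup 2 T) {V : Subgroup T}
    {ρ : MulAut T} (c : Ctx V ρ) (t : T) (ht : ρ t = t) : t = 1 := by
  by_contra ht1
  -- an involution `s` in `zpowers t`
  obtain ⟨k, hk⟩ := hT t
  have hk' : t ^ 2 ^ k = 1 := hk
  -- minimal exponent
  have hex : ∃ n : ℕ, t ^ 2 ^ n = 1 := ⟨k, hk'⟩
  classical
  let n := Nat.find hex
  have hn : t ^ 2 ^ n = 1 := Nat.find_spec hex
  have hn0 : n ≠ 0 := by
    intro h0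
    rw [h0] at hn
    simp at hn
    exact ht1 hn
  obtain ⟨m, hm⟩ := Nat.exists_eq_succ_of_ne_zero hn0
  set s := t ^ 2 ^ m with hs
  have hs1 : s ≠ 1 := by
    intro h
    have : n ≤ m := Nat.find_min' hex h
    omega
  have hss : s * s = 1 := by
    rw [hs, ← pow_add, ← two_mul, ← pow_succ', ← Nat.succ_eq_add_one, ← hm]
    exact hn
  have hsV : s ∈ V := (c.mem s).2 hss
  have hρs : ρ s = s := by
    rw [hs, map_pow, ht]
  -- another non-identity element of `V`
  have hcard : Nat.card V = 4 := c.card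
  have : ∃ v ∈ V, v ≠ 1 ∧ v ≠ s := by
    by_contra hno
    push_neg at hno
    have hsub : (V : Set T) ⊆ {1, s} := by
      intro v hv
      by_cases h1 : v = 1
      · simp [h1]
      · simp [hno v hv h1]
    have hfin : ({1, s} : Set T).Finite := Set.toFinite _
    have hle : Nat.card V ≤ Nat.card ({1, s} : Set T) := Nat.card_mono hfin hsub
    have h2 : Nat.card ({1, s} : Set T) ≤ 2 := by
      rw [Nat.card_coe_set_eq]
      calc ({1, s} : Set T).ncard ≤ ({s} : Set T).ncard + 1 := Set.ncard_insert_le _ _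
        _ = 2 := by rw [Set.ncard_singleton]
    have : Nat.card V ≤ 2 := le_trans hle h2
    omega
  obtain ⟨v, hvV, hv1, hvs⟩ := this
  obtain ⟨j, hj⟩ := c.trans s hsV v hvV hs1 hv1
  rw [FPF3_aux_pow_fix ρ hρs j] at hj
  exact hvs hj.symm

/-- FPF3: the structure used by the S64 / S2933 libraries. -/
theorem FPF3 {T : Type*} [Group T] [Finite T] (hT : IsPGroup 2 T) {V : Subgroup T} {ρ : MulAut T}
    (c : Ctx V ρ) (hρ : orderOf ρ = 3) : Fpf3 ρ := by
  refine ⟨?_, fun t ht => FPF3_aux_fpf hT c t ht⟩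
  intro t
  have h3 : ρ ^ 3 = 1 := by rw [← hρ]; exact pow_orderOf_eq_one ρ
  have : (ρ ^ 3) t = t := by rw [h3]; rfl
  simpa [pow_succ, MulAut.mul_apply] using this

end Cfsg.Agent.S1237P
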