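import Cfsg.Agent.Helper22.S1572Defs

/-!
# S1572: basic lemmas for the assembly (orbits of subgroups, the partitions by shape)
-/

set_option autoImplicit false

namespace Cfsg.Agent.S1572P

open Cfsg Cfsg.Agent.Helper27 Cfsg.Agent.Helper22.Co0Mono Cfsg.Agent.Helper22.CrossStab
  Cfsg.Agent.Helper22.Co0Center Cfsg.Agent.Helper22.MinTrans Cfsg.Agent.Helper22.Co0Order
  Cfsg.Agent.Helper22.Census
open scoped Pointwise

namespace BASIC

section general

variable {G α : Type*} [Group G] [MulAction G α]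

/-- the stabiliser in a subgroup -/
def stabEquiv (K : Subgroup G) (a : α) :
    ↥(MulAction.stabilizer ↥K a) ≃ ↥(K ⊓ MulAction.stabilizer G a) where
  toFun g := ⟨g.1.1, g.1.2, g.2⟩
  invFun g := ⟨⟨g.1, g.2.1⟩, g.2.2⟩
  left_inv _ := rfl
  right_inv _ := rfl

/-- orbit–stabiliser for a subgroup -/
theorem card_orbit_mul [Finite G] (K : Subgroup G) (a : α) :
    (MulAction.orbit ↥K a).ncard * Nat.card ↥(K ⊓ MulAction.stabilizer G a) = Nat.card ↥K := by
  rw [← Nat.card_congr (stabEquiv K a), ← Nat.card_coe_set_eq, ← Nat.card_prod]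
  exact Nat.card_congr (MulAction.orbitProdStabilizerEquivGroup ↥K a)

theorem mem_orbit_iff (K : Subgroup G) (a b : α) : b ∈ MulAction.orbit ↥K a ↔ ∃ g ∈ K, g • a = b := by
  constructor
  · rintro ⟨g, rfl⟩
    exact ⟨g.1, g.2, rfl⟩
  · rintro ⟨g, hg, rfl⟩
    exact ⟨⟨g, hg⟩, rfl⟩

theorem smul_mem_orbit {K : Subgroup G} {a b : α} {g : G} (hg : g ∈ K) (hb : b ∈ MulAction.orbit ↥K a) :
    g • b ∈ MulAction.orbit ↥K a := by
  obtain ⟨h, hh, rfl⟩ := (mem_orbit_iff K a b).mp hb
  exact (mem_orbit_iff K a _).mpr ⟨g * h, K.mul_mem hg hh, mul_smul g h a⟩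

/-- an orbit of `K ≥ N` either contains or misses a set on which `N` is transitive -/
theorem subset_or_disjoint {K N : Subgroup G} (hNK : N ≤ K) (a : α) (S : Set α)
    (hS : ∀ x ∈ S, ∀ y ∈ S, ∃ g ∈ N, g • x = y) :
    S ⊆ MulAction.orbit ↥K a ∨ Disjoint S (MulAction.orbit ↥K a) := by
  by_cases h : ∃ x ∈ S, x ∈ MulAction.orbit ↥K a
  · left
    obtain ⟨x, hxS, hxO⟩ := h
    intro y hy
    obtain ⟨g, hg, rfl⟩ := hS x hxS y hy
    exact smul_mem_orbit (hNK hg) hxO
  · right
    rw [Set.disjoint_left]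
    intro x hxS hxO
    exact h ⟨x, hxS, hxO⟩

/-- the shape of a set which is a union of some of three disjoint sets, containing the first -/
theorem union_cases {O A B C : Set α} (hfin : (A ∪ B ∪ C).Finite) (hO : O ⊆ A ∪ B ∪ C)
    (hAB : Disjoint A B) (hAC : Disjoint A C) (hA : A ⊆ O)
    (hB : B ⊆ O ∨ Disjoint B O) (hC : C ⊆ O ∨ Disjoint C O) :
    O = A ∨ O.ncard = A.ncard + B.ncard ∨ O.ncard = A.ncard + C.ncard ∨ O = A ∪ B ∪ C := by
  have hfA : A.Finite := hfin.subset (fun x hx => Or.inl (Or.inl hx))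
  have hfB : B.Finite := hfin.subset (fun x hx => Or.inl (Or.inr hx))
  have hfC : C.Finite := hfin.subset (fun x hx => Or.inr hx)
  rcases hB with hB | hB <;> rcases hC with hC | hC
  · right; right; right
    exact Set.Subset.antisymm hO (Set.union_subset (Set.union_subset hA hB) hC)
  · right; left
    have : O = A ∪ B := by
      apply Set.Subset.antisymm
      · intro x hx
        rcases hO hx with (h | h) | h
        · exact Or.inl h
        · exact Or.inr h
        · exact absurd hx (Set.disjoint_left.mp hC h)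
      · exact Set.union_subset hA hB
    rw [this, Set.ncard_union_eq hAB hfA hfB]
  · right; right; left
    have : O = A ∪ C := by
      apply Set.Subset.antisymm
      · intro x hx
        rcases hO hx with (h | h) | h
        · exact Or.inl h
        · exact absurd hx (Set.disjoint_left.mp hB h)
        · exact Or.inr h
      · exact Set.union_subset hA hC
    rw [this, Set.ncard_union_eq hAC hfA hfC]
  · left
    apply Set.Subset.antisymm
    · intro x hx
      rcases hO hx with (h | h) | h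
      · exact h
      · exact absurd hx (Set.disjoint_left.mp hB h)
      · exact absurd hx (Set.disjoint_left.mp hC h)
    · exact hA

/-- sizes of three disjoint sets from upper bounds and the total -/
theorem ncard_of_le {A B C : Set α} {a b c : ℕ} (hfin : (A ∪ B ∪ C).Finite)
    (hAB : Disjoint A B) (hAC : Disjoint A C) (hBC : Disjoint B C)
    (hA : A.ncard ≤ a) (hB : B.ncard ≤ b) (hC : C.ncard ≤ c) (ht : (A ∪ B ∪ C).ncard = a + b + c) :
    A.ncard = a ∧ B.ncard = b ∧ C.ncard = c := by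
  have hfA : A.Finite := hfin.subset (fun x hx => Or.inl (Or.inl hx))
  have hfB : B.Finite := hfin.subset (fun x hx => Or.inl (Or.inr hx))
  have hfC : C.Finite := hfin.subset (fun x hx => Or.inr hx)
  have hd : Disjoint (A ∪ B) C := Set.disjoint_union_left.mpr ⟨hAC, hBC⟩
  rw [Set.ncard_union_eq hd (hfA.union hfB) hfC, Set.ncard_union_eq hAB hfA hfB] at ht
  omega

end general

/-! ### The shapes -/

theorem shapeA_norm {w : GolayPt → ℤ} (h : ShapeA w) : sqNorm w = 32 := by
  classical
  obtain ⟨i, j, hij, hi, hj, hrest⟩ := h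
  unfold sqNorm
  rw [Finset.sum_eq_add_of_mem i j (Finset.mem_univ _) (Finset.mem_univ _) hij]
  · rcases hi with h | h <;> rcases hj with h' | h' <;> rw [h, h'] <;> norm_num
  · intro c _ hc
    rw [hrest c hc.1 hc.2]
    norm_num

theorem shapeB_norm {w : GolayPt → ℤ} (h : ShapeB w) : sqNorm w = 32 := by
  classical
  obtain ⟨O, hO, h1, h2⟩ := h
  unfold sqNorm
  rw [← Finset.sum_subset (Finset.subset_univ O) (fun p _ hp => by rw [h2 p hp]; norm_num)]
  have : ∀ p ∈ O, w p ^ 2 = 4 := by
    intro p hp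
    rcases h1 p hp with h | h <;> rw [h] <;> norm_num
  rw [Finset.sum_congr rfl this, Finset.sum_const, octad_card hO]
  norm_num

theorem shapeC_norm {w : GolayPt → ℤ} (h : ShapeC w) : sqNorm w = 32 := by
  classical
  obtain ⟨i, hi, hrest, -⟩ := h
  unfold sqNorm
  rw [← Finset.add_sum_erase _ _ (Finset.mem_univ i)]
  have : ∀ p ∈ Finset.univ.erase i, w p ^ 2 = 1 := by
    intro p hp
    rcases hrest p (Finset.ne_of_mem_erase hp) with h | h <;> rw [h] <;> norm_num
  rw [Finset.sum_congr rfl this, Finset.sum_const, Finset.card_erase_of_mem (Finset.mem_univ i),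
    Finset.card_univ, show Fintype.card GolayPt = 24 from by decide]
  rcases hi with h | h <;> rw [h] <;> norm_num

theorem not_shapeA_shapeB {w : GolayPt → ℤ} (hA : ShapeA w) (hB : ShapeB w) : False := by
  obtain ⟨O, hO, h1, -⟩ := hB
  have hne : O.Nonempty := by
    rw [← Finset.card_pos, octad_card hO]; norm_num
  obtain ⟨p, hp⟩ := hne
  rcases Cfsg.Agent.Helper22.Co2Trans.shapeA_entry hA p with h | h | h <;> rcases h1 p hp with h' | h' <;> omega

theorem not_shapeA_shapeC {w : GolayPt → ℤ} (hA : ShapeA w) (hC : ShapeC w) : False := by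
  have := Cfsg.Agent.Helper22.Co2Trans.shapeC_entry hC (pt 0)
  rcases Cfsg.Agent.Helper22.Co2Trans.shapeA_entry hA (pt 0) with h | h | h <;> omega

theorem not_shapeB_shapeC {w : GolayPt → ℤ} (hB : ShapeB w) (hC : ShapeC w) : False := by
  have := Cfsg.Agent.Helper22.Co2Trans.shapeC_entry hC (pt 0)
  rcases Cfsg.Agent.Helper22.Co2Trans.shapeB_entry hB (pt 0) with h | h | h <;> omega

theorem disj_XA_XB : Disjoint XA XB := Set.disjoint_left.mpr fun _ hA hB => not_shapeA_shapeB hA hB
theorem disj_XA_XC : Disjoint XA XC := Set.disjoint_left.mpr fun _ hA hC => not_shapeA_shapeC hA hC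
theorem disj_XB_XC : Disjoint XB XC := Set.disjoint_left.mpr fun _ hB hC => not_shapeB_shapeC hB hC
theorem disj_YA_YB : Disjoint YA YB := Set.disjoint_left.mpr fun _ hA hB => not_shapeA_shapeB hA.1 hB.1
theorem disj_YA_YC : Disjoint YA YC := Set.disjoint_left.mpr fun _ hA hC => not_shapeA_shapeC hA.1 hC.1
theorem disj_YB_YC : Disjoint YB YC := Set.disjoint_left.mpr fun _ hB hC => not_shapeB_shapeC hB.1 hC.1

theorem X_union : XA ∪ XB ∪ XC = L 32 := by
  ext v
  constructor
  · rintro ((h | h) | h)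
    · exact shapeA_norm h
    · exact shapeB_norm h
    · exact shapeC_norm h
  · intro h
    rcases min_shapes v.2 h with h' | h' | h'
    · exact Or.inl (Or.inl h')
    · exact Or.inl (Or.inr h')
    · exact Or.inr h'

theorem Y_union : YA ∪ YB ∪ YC = X v0 (-16) := by
  ext w
  constructor
  · rintro ((h | h) | h)
    · exact ⟨shapeA_norm h.1, h.2⟩
    · exact ⟨shapeB_norm h.1, h.2⟩
    · exact ⟨shapeC_norm h.1, h.2⟩
  · rintro ⟨h, hd⟩
    rcases min_shapes w.2 h with h' | h' | h'
    · exact Or.inl (Or.inl ⟨h', hd⟩)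
    · exact Or.inl (Or.inr ⟨h', hd⟩)
    · exact Or.inr ⟨h', hd⟩

theorem YA_sub_XA : YA ⊆ XA := fun _ h => h.1

theorem v0_mem_XA : v0 ∈ XA := by
  refine ⟨pt 0, pt 1, by decide, Or.inl ?_, Or.inl ?_, fun p h0 h1 => ?_⟩
  · rw [v0_apply, if_pos (Or.inl rfl)]
  · rw [v0_apply, if_pos (Or.inr rfl)]
  · rw [v0_apply, if_neg (by tauto)]

theorem v0_norm : sqNorm (v0 : GolayPt → ℤ) = 32 := shapeA_norm v0_mem_XA

end BASIC

end Cfsg.Agent.S1572P
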