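import Cfsg.Agent.Helper22.Census

/-!
# S1572 (the stabiliser of the standard cross is maximal in the automorphism group of the rank-24
lattice): common definitions for the pieces

`NN` is the stabiliser of the standard cross (the monomial group `2^12 : M24`), `XA`, `XB`, `XC` are
the minimal vectors of the three shapes (the `NN`-orbits), and `YA`, `YB`, `YC` are the minimal
vectors of each shape having inner product `-16` with the reference vector `v0 = (4, 4, 0^22)`.
-/

set_option autoImplicit false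

namespace Cfsg.Agent.S1572P

open Cfsg Cfsg.Agent.Helper27 Cfsg.Agent.Helper22.Co0Mono Cfsg.Agent.Helper22.CrossStab
  Cfsg.Agent.Helper22.Co0Center Cfsg.Agent.Helper22.MinTrans Cfsg.Agent.Helper22.Co0Order
  Cfsg.Agent.Helper22.Census
open scoped Pointwise

theorem finite_Co0 : Finite ↥Co0 := Nat.finite_of_card_ne_zero (by rw [card_Co0]; norm_num)

theorem presCross_one : PresCross (1 : ↥Co0) := fun v hv => by rwa [one_smul]

theorem presCross_mul {g h : ↥Co0} (hg : PresCross g) (hh : PresCross h) : PresCross (g * h) :=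
  fun v hv => by rw [mul_smul]; exact hg _ (hh v hv)

theorem presCross_pow {g : ↥Co0} (hg : PresCross g) : ∀ k : ℕ, PresCross (g ^ k)
  | 0 => by rw [pow_zero]; exact presCross_one
  | k + 1 => by rw [pow_succ]; exact presCross_mul (presCross_pow hg k) hg

theorem presCross_inv {g : ↥Co0} (hg : PresCross g) : PresCross g⁻¹ := by
  haveI := finite_Co0
  have hfin : IsOfFinOrder g := isOfFinOrder_of_finite g
  have hpos : 0 < orderOf g := hfin.orderOf_pos
  have : g⁻¹ = g ^ (orderOf g - 1) := by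
    rw [inv_eq_iff_mul_eq_one, ← pow_succ', Nat.sub_add_cancel hpos, pow_orderOf_eq_one]
  rw [this]
  exact presCross_pow hg _

/-- the stabiliser of the standard cross: the monomial group `2^12 : M24` -/
def NN : Subgroup ↥Co0 where
  carrier := {g | PresCross g}
  one_mem' := presCross_one
  mul_mem' := presCross_mul
  inv_mem' := presCross_inv

theorem mem_NN (g : ↥Co0) : g ∈ NN ↔ PresCross g := Iff.rfl

theorem card_NN : Nat.card ↥NN = 4096 * 244823040 := card_cross_stab

theorem monoCo0_mem_NN (σ : Equiv.Perm GolayPt) (hσ : σ ∈ M24) (c : Finset GolayPt)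
    (hc : c ∈ supports (golayCode : Set (GolayPt → ZMod 2))) : monoCo0 σ hσ c hc ∈ NN :=
  monoCo0_presCross σ hσ c hc

theorem piCo_mem_NN (σ : Equiv.Perm GolayPt) (hσ : σ ∈ M24) : piCo σ hσ ∈ NN :=
  monoCo0_presCross _ _ _ _

theorem epsCo_mem_NN (u : GolayPt → ZMod 2) (hu : u ∈ golayCode) : epsCo u hu ∈ NN :=
  monoCo0_presCross _ _ _ _

theorem negCo_mem_NN : negCo ∈ NN := monoCo0_presCross _ _ _ _

/-- every member of `NN` is a monomial element -/
theorem exists_mono_of_mem_NN {g : ↥Co0} (hg : g ∈ NN) :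
    ∃ (σ : Equiv.Perm GolayPt) (hσ : σ ∈ M24) (u : GolayPt → ZMod 2) (hu : u ∈ golayCode),
      g = monoCo0 σ hσ (support₂ u) ⟨u, hu, rfl⟩ := by
  obtain ⟨⟨⟨σ, hσ⟩, ⟨u, hu⟩⟩, h⟩ := param_surjective ⟨g, hg⟩
  exact ⟨σ, hσ, u, hu, (congrArg Subtype.val h).symm⟩

/-- the action of a member of `NN` on the coordinates -/
theorem smul_apply_of_mem_NN {g : ↥Co0} (hg : g ∈ NN) :
    ∃ σ ∈ M24, ∃ c ∈ supports (golayCode : Set (GolayPt → ZMod 2)), ∀ (v : ↥leechLattice) (q : GolayPt),
      ((g • v : ↥leechLattice) : GolayPt → ℤ) q =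
        if q ∈ c then -(v : GolayPt → ℤ) (σ.symm q) else (v : GolayPt → ℤ) (σ.symm q) := by
  obtain ⟨σ, hσ, c, hc, h⟩ := cross_mono hg
  exact ⟨σ, hσ, c, hc, fun v q => by rw [h v]; rfl⟩

/-! ### The three shapes of minimal vectors -/

/-- the minimal vectors of shape `(±4, ±4, 0^22)` -/
def XA : Set ↥leechLattice := {v | ShapeA (v : GolayPt → ℤ)}

/-- the minimal vectors of shape `(±2^8, 0^16)` -/
def XB : Set ↥leechLattice := {v | ShapeB (v : GolayPt → ℤ)}

/-- the minimal vectors of shape `(∓3, ±1^23)` -/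
def XC : Set ↥leechLattice := {v | ShapeC (v : GolayPt → ℤ)}

/-- the minimal vectors of shape `(±4, ±4, 0^22)` with inner product `-16` with `v0` -/
def YA : Set ↥leechLattice :=
  {w | ShapeA (w : GolayPt → ℤ) ∧ dotInt (v0 : GolayPt → ℤ) (w : GolayPt → ℤ) = -16}

/-- the minimal vectors of shape `(±2^8, 0^16)` with inner product `-16` with `v0` -/
def YB : Set ↥leechLattice :=
  {w | ShapeB (w : GolayPt → ℤ) ∧ dotInt (v0 : GolayPt → ℤ) (w : GolayPt → ℤ) = -16}

/-- the minimal vectors of shape `(∓3, ±1^23)` with inner product `-16` with `v0` -/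
def YC : Set ↥leechLattice :=
  {w | ShapeC (w : GolayPt → ℤ) ∧ dotInt (v0 : GolayPt → ℤ) (w : GolayPt → ℤ) = -16}

theorem dot_v0 (w : GolayPt → ℤ) : dotInt (v0 : GolayPt → ℤ) w = 4 * w (pt 0) + 4 * w (pt 1) := by
  classical
  unfold dotInt
  simp only [v0_apply]
  rw [Finset.sum_eq_add_of_mem (pt 0) (pt 1) (Finset.mem_univ _) (Finset.mem_univ _) (by decide)]
  · rw [if_pos (Or.inl rfl), if_pos (Or.inr rfl)]
  · intro c _ hc
    rw [if_neg (by tauto), zero_mul]

end Cfsg.Agent.S1572P
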