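import Cfsg.Agent.Helper22.S1572Basic
import Cfsg.Agent.Helper19.S1572FIXPT
import Cfsg.Agent.Helper9.S1572G23
import Cfsg.Agent.Helper3.S1572MODTRICK
import Cfsg.Agent.Helper25.S1572TRA
import Cfsg.Agent.Helper19.S1572TRB
import Cfsg.Agent.Helper21.S1572TRC
import Cfsg.Agent.Helper25.S1572CNTA
import Cfsg.Agent.Helper24.S1572CNTB
import Cfsg.Agent.Helper24.S1572CNTC

/-!
# S1572, LEVEL1: the orbit arithmetic on the minimal vectors
-/

set_option autoImplicit false

namespace Cfsg.Agent.S1572P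

open Cfsg Cfsg.Agent.Helper27 Cfsg.Agent.Helper22.Co0Mono Cfsg.Agent.Helper22.CrossStab
  Cfsg.Agent.Helper22.Co0Center Cfsg.Agent.Helper22.MinTrans Cfsg.Agent.Helper22.Co0Order
  Cfsg.Agent.Helper22.Census
open scoped Pointwise

namespace LEVEL1

/-- the stabiliser of the reference vector in the whole group -/
abbrev St : Subgroup ↥Co0 := MulAction.stabilizer ↥Co0 v0

theorem ncard_X : XA.ncard = 1104 ∧ XB.ncard = 97152 ∧ XC.ncard = 98304 :=
  BASIC.ncard_of_le (by rw [BASIC.X_union]; exact finite_L32) BASIC.disj_XA_XB BASIC.disj_XA_XC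
    BASIC.disj_XB_XC ncard_XA_le ncard_XB_le ncard_XC_le (by rw [BASIC.X_union, ncard_L32])

theorem trans_XA' : ∀ x ∈ XA, ∀ y ∈ XA, ∃ g ∈ NN, g • x = y := by
  intro x hx y hy
  obtain ⟨g, hg, hgx⟩ := trans_XA x hx
  obtain ⟨h, hh, hhy⟩ := trans_XA y hy
  refine ⟨h⁻¹ * g, NN.mul_mem (NN.inv_mem hh) hg, ?_⟩
  rw [mul_smul, hgx, ← hhy, inv_smul_smul]

theorem orbit_sub (K : Subgroup ↥Co0) : MulAction.orbit ↥K v0 ⊆ L 32 := by
  intro w hw
  obtain ⟨g, -, rfl⟩ := (BASIC.mem_orbit_iff K v0 w).mp hw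
  show sqNorm ((g • v0 : ↥leechLattice) : GolayPt → ℤ) = 32
  rw [co0_norm, BASIC.v0_norm]

theorem v0_mem_orbit (K : Subgroup ↥Co0) : v0 ∈ MulAction.orbit ↥K v0 := MulAction.mem_orbit_self v0

/-- the orbit of `v0` under a group containing `NN` -/
theorem orbit_cases (K : Subgroup ↥Co0) (hK : NN ≤ K) :
    MulAction.orbit ↥K v0 = XA ∨ (MulAction.orbit ↥K v0).ncard = 98256 ∨
      (MulAction.orbit ↥K v0).ncard = 99408 ∨ MulAction.orbit ↥K v0 = L 32 := by
  have hA : XA ⊆ MulAction.orbit ↥K v0 := by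
    rcases BASIC.subset_or_disjoint hK v0 XA trans_XA' with h | h
    · exact h
    · exact absurd (v0_mem_orbit K) (Set.disjoint_left.mp h BASIC.v0_mem_XA)
  have h := BASIC.union_cases (O := MulAction.orbit ↥K v0) (A := XA) (B := XB) (C := XC)
    (by rw [BASIC.X_union]; exact finite_L32) (by rw [BASIC.X_union]; exact orbit_sub K)
    BASIC.disj_XA_XB BASIC.disj_XA_XC hA
    (BASIC.subset_or_disjoint hK v0 XB trans_XB) (BASIC.subset_or_disjoint hK v0 XC trans_XC)
  obtain ⟨h1, h2, h3⟩ := ncard_X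
  rw [h1, h2, h3, BASIC.X_union] at h
  exact h

theorem card_Co0_eq : Nat.card ↥Co0 = 8292375 * Nat.card ↥NN := by
  rw [card_Co0, card_NN]

/-- the orbit of `v0` under `NN` -/
theorem orbit_NN : MulAction.orbit ↥NN v0 = XA := by
  haveI := finite_Co0
  have hd : (MulAction.orbit ↥NN v0).ncard ∣ 4096 * 244823040 := by
    rw [← card_NN, ← BASIC.card_orbit_mul NN v0]
    exact dvd_mul_right _ _
  rcases orbit_cases NN le_rfl with h | h | h | h
  · exact h
  · rw [h] at hd; revert hd; norm_num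
  · rw [h] at hd; revert hd; norm_num
  · rw [h, ncard_L32] at hd; revert hd; norm_num

theorem card_NN_St : Nat.card ↥(NN ⊓ St) = 908328960 := by
  haveI := finite_Co0
  have h := BASIC.card_orbit_mul NN v0
  rw [orbit_NN, ncard_X.1, card_NN] at h
  show Nat.card ↥(NN ⊓ MulAction.stabilizer ↥Co0 v0) = 908328960
  omega

/-- a group preserving the set of vectors of shape `(±4, ±4, 0^22)` lies in `NN` -/
theorem le_NN_of_orbit {K : Subgroup ↥Co0} (h : MulAction.orbit ↥K v0 = XA) : K ≤ NN := by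
  intro g hg
  apply mem_NN_of_shapeA
  intro w hw
  have hw' : w ∈ MulAction.orbit ↥K v0 := by rw [h]; exact BASIC.YA_sub_XA hw
  have := BASIC.smul_mem_orbit (K.inv_mem hg) hw'
  rw [h] at this
  exact this

theorem arith : ∀ d ∈ Nat.divisors 2025, (4095 * d) % 23 = 1 → d = 1 ∨ d = 2025 := by decide +kernel

theorem arith2 {n k : ℕ} (hn : n ∣ 8292375) (h23 : n % 23 = 1) (hk : 4095 * k = 23 * n) :
    n = 8292375 ∨ (n = 4095 ∧ k = 23) := by
  have h1 : 4095 ∣ 23 * n := Dvd.intro _ hk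
  have h2 : 4095 ∣ n := (Nat.Coprime.dvd_of_dvd_mul_left (by norm_num) h1)
  obtain ⟨d, rfl⟩ := h2
  have hd : d ∣ 2025 := by
    apply Nat.dvd_of_mul_dvd_mul_left (show 0 < 4095 by norm_num)
    exact hn
  rcases arith d (Nat.mem_divisors.mpr ⟨hd, by norm_num⟩) h23 with rfl | rfl
  · right
    exact ⟨rfl, by omega⟩
  · left
    rfl

/-- LEVEL1: a group properly containing `NN` is the whole group, or it has index 4095 over `NN`
and the stabiliser of `v0` has index 23 over that in `NN` -/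
theorem level1 (K : Subgroup ↥Co0) (hK : NN < K) :
    K = ⊤ ∨ Nat.card ↥(K ⊓ St) = 23 * Nat.card ↥(NN ⊓ St) := by
  haveI := finite_Co0
  have hle : NN ≤ K := le_of_lt hK
  have horb := BASIC.card_orbit_mul K v0
  have hdvd : Nat.card ↥K ∣ Nat.card ↥Co0 := Subgroup.card_subgroup_dvd_card K
  have hod : (MulAction.orbit ↥K v0).ncard ∣ 8315553613086720000 := by
    rw [← card_Co0]
    exact Dvd.dvd.trans (Dvd.intro _ horb) hdvd
  rcases orbit_cases K hle with h | h | h | h
  · exact absurd (le_NN_of_orbit h) (not_le_of_gt hK)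
  · rw [h] at hod; revert hod; norm_num
  · rw [h] at hod; revert hod; norm_num
  · -- the transitive case
    rw [h, ncard_L32] at horb
    -- the index of `NN` in `K`
    obtain ⟨g, hgN, hg23, hgfix⟩ := exists_g23
    have hmod := relIndex_mod_eq_one (p := 23) (by norm_num) NN K hle g hgN hg23 hgfix
    have hcard : Nat.card ↥NN * NN.relIndex K = Nat.card ↥K := by
      have h1 := Subgroup.card_mul_index (NN.subgroupOf K)
      rw [Nat.card_congr (Subgroup.subgroupOfEquivOfLe hle).toEquiv] at h1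
      exact h1
    have hndvd : NN.relIndex K ∣ 8292375 := by
      have h2 : Nat.card ↥NN * NN.relIndex K ∣ Nat.card ↥NN * 8292375 := by
        rw [hcard, mul_comm, ← card_Co0_eq]
        exact hdvd
      exact Nat.dvd_of_mul_dvd_mul_left (by rw [card_NN]; norm_num) h2
    -- the index of the stabilisers
    have hle2 : NN ⊓ St ≤ K ⊓ St := inf_le_inf_right _ hle
    obtain ⟨k, hk⟩ := Subgroup.card_dvd_of_le hle2
    have hb := card_NN_St
    have hNN := card_NN
    set n := NN.relIndex K with hn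
    have hkey : 4095 * k = 23 * n := by
      have e1 : 196560 * (908328960 * k) = 4096 * 244823040 * n := by
        rw [← hb, ← hk, horb, ← hcard, hNN]
      omega
    rcases arith2 hndvd (by simpa using hmod) hkey with h8 | ⟨-, hk23⟩
    · left
      apply Subgroup.eq_top_of_card_eq
      rw [← hcard, h8, card_Co0_eq, mul_comm]
    · right
      rw [hk, hk23, mul_comm]

end LEVEL1

end Cfsg.Agent.S1572P
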