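import Cfsg.Agent.Helper22.S1572Defs
import Cfsg.Agent.Helper22.KSets

/-!
# S1572, piece TRYA: the stabiliser of `v0` in `NN` is transitive on the 88 vectors `-4e_a ± 4e_k`
-/

set_option autoImplicit false

namespace Cfsg.Agent.S1572P

open Cfsg Cfsg.Agent.Helper27 Cfsg.Agent.Helper22.Co0Mono Cfsg.Agent.Helper22.CrossStab
  Cfsg.Agent.Helper22.Co0Center Cfsg.Agent.Helper22.MinTrans Cfsg.Agent.Helper22.Co0Order
  Cfsg.Agent.Helper22.Census Cfsg.Agent.Helper22.Norm8Trans Cfsg.Agent.Helper22.KSets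
open scoped Pointwise

namespace TRYA

/-- the normal form of a member of `YA` -/
theorem form {v : ↥leechLattice} (hv : v ∈ YA) :
    ∃ a a' k : GolayPt, ((a = pt 0 ∧ a' = pt 1) ∨ (a = pt 1 ∧ a' = pt 0)) ∧ k ≠ pt 0 ∧ k ≠ pt 1 ∧
      (v : GolayPt → ℤ) a = -4 ∧ ((v : GolayPt → ℤ) k = 4 ∨ (v : GolayPt → ℤ) k = -4) ∧
      ∀ q, q ≠ a → q ≠ k → (v : GolayPt → ℤ) q = 0 := by
  obtain ⟨⟨i, j, hij, hi, hj, hrest⟩, hd⟩ := hv
  rw [dot_v0] at hd
  have h01 : pt 0 ≠ pt 1 := by decide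
  by_cases hi0 : i = pt 0
  · subst hi0
    by_cases hj1 : j = pt 1
    · subst hj1
      exfalso
      rcases hi with h | h <;> rcases hj with h' | h' <;> omega
    · have h1 : (v : GolayPt → ℤ) (pt 1) = 0 := hrest (pt 1) (Ne.symm h01) (Ne.symm hj1)
      refine ⟨pt 0, pt 1, j, Or.inl ⟨rfl, rfl⟩, Ne.symm hij, hj1, by omega, hj, hrest⟩
  · by_cases hi1 : i = pt 1
    · subst hi1
      by_cases hj0 : j = pt 0
      · subst hj0
        exfalso
        rcases hi with h | h <;> rcases hj with h' | h' <;> omega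
      · have h0 : (v : GolayPt → ℤ) (pt 0) = 0 := hrest (pt 0) h01 (Ne.symm hj0)
        refine ⟨pt 1, pt 0, j, Or.inr ⟨rfl, rfl⟩, hj0, Ne.symm hij, by omega, hj, hrest⟩
    · by_cases hj0 : j = pt 0
      · subst hj0
        have h1 : (v : GolayPt → ℤ) (pt 1) = 0 := hrest (pt 1) (Ne.symm hi1) (Ne.symm h01)
        refine ⟨pt 0, pt 1, i, Or.inl ⟨rfl, rfl⟩, hi0, hi1, by omega, hi, fun q h1 h2 => hrest q h2 h1⟩
      · by_cases hj1 : j = pt 1
        · subst hj1
          have h0 : (v : GolayPt → ℤ) (pt 0) = 0 := hrest (pt 0) (Ne.symm hi0) h01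
          refine ⟨pt 1, pt 0, i, Or.inr ⟨rfl, rfl⟩, hi0, hi1, by omega, hi, fun q h1 h2 => hrest q h2 h1⟩
        · exfalso
          have h0 : (v : GolayPt → ℤ) (pt 0) = 0 := hrest (pt 0) (Ne.symm hi0) (Ne.symm hj0)
          have h1 : (v : GolayPt → ℤ) (pt 1) = 0 := hrest (pt 1) (Ne.symm hi1) (Ne.symm hj1)
          omega

/-- the reference vector `-4 e_0 + 4 e_2` as a function -/
def yref : GolayPt → ℤ := fun q => if q = pt 0 then -4 else if q = pt 2 then 4 else 0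

/-- every member of `YA` can be moved to the reference vector, fixing `v0` -/
theorem to_ref {v : ↥leechLattice} (hv : v ∈ YA) :
    ∃ g ∈ NN, g • v0 = v0 ∧ ((g • v : ↥leechLattice) : GolayPt → ℤ) = yref := by
  obtain ⟨a, a', k, haa, hk0, hk1, hva, hvk, hrest⟩ := form hv
  have h01 : pt 0 ≠ pt 1 := by decide
  have h02 : pt 0 ≠ pt 2 := by decide
  have h12 : pt 1 ≠ pt 2 := by decide
  have haa' : a ≠ a' := by rcases haa with ⟨rfl, rfl⟩ | ⟨rfl, rfl⟩ <;> [exact h01; exact Ne.symm h01]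
  have hak : a ≠ k := by rcases haa with ⟨rfl, rfl⟩ | ⟨rfl, rfl⟩ <;> [exact Ne.symm hk0; exact Ne.symm hk1]
  have ha'k : a' ≠ k := by rcases haa with ⟨rfl, rfl⟩ | ⟨rfl, rfl⟩ <;> [exact Ne.symm hk1; exact Ne.symm hk0]
  -- the permutation
  obtain ⟨σ, hσ, hmap⟩ := exists_M24_map_list [a, a', k] [pt 0, pt 1, pt 2]
    (by simp [haa', hak, ha'k]) (by simp [h01, h02, h12]) rfl (by simp)
  simp only [List.map_cons, List.map_nil, List.cons.injEq, and_true] at hmap
  obtain ⟨hσa, hσa', hσk⟩ := hmap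
  have hsa : σ.symm (pt 0) = a := by rw [Equiv.symm_apply_eq, hσa]
  have hsa' : σ.symm (pt 1) = a' := by rw [Equiv.symm_apply_eq, hσa']
  have hsk : σ.symm (pt 2) = k := by rw [Equiv.symm_apply_eq, hσk]
  -- `σ` preserves the pair `{pt 0, pt 1}`
  have hpair : ∀ q, (σ.symm q = pt 0 ∨ σ.symm q = pt 1) ↔ (q = pt 0 ∨ q = pt 1) := by
    intro q
    have e0 : σ.symm q = a ↔ q = pt 0 := by rw [← hsa]; exact σ.symm.injective.eq_iff
    have e1 : σ.symm q = a' ↔ q = pt 1 := by rw [← hsa']; exact σ.symm.injective.eq_iff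
    rcases haa with ⟨rfl, rfl⟩ | ⟨rfl, rfl⟩
    · rw [e0, e1]
    · rw [e0, e1]; tauto
  have hfix1 : piCo σ hσ • v0 = v0 := by
    apply Subtype.ext
    funext q
    rw [piCo_apply, v0_apply, v0_apply]
    simp only [hpair q]
  -- the sign
  obtain ⟨u, hu, hu0, hu1, hu2, -⟩ := exists_signs4 False False ((v : GolayPt → ℤ) k = -4) False
  have hfix2 : epsCo u hu • v0 = v0 := by
    apply Subtype.ext
    funext q
    rw [epsCo_apply, v0_apply]
    by_cases hq : q = pt 0 ∨ q = pt 1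
    · rw [if_pos hq, if_neg]
      rcases hq with rfl | rfl
      · exact fun h => hu0.mp h
      · exact fun h => hu1.mp h
    · rw [if_neg hq]; simp
  refine ⟨epsCo u hu * piCo σ hσ, NN.mul_mem (epsCo_mem_NN u hu) (piCo_mem_NN σ hσ), ?_, ?_⟩
  · rw [mul_smul, hfix1, hfix2]
  · funext q
    rw [mul_smul, epsCo_apply, piCo_apply]
    unfold yref
    by_cases hq0 : q = pt 0
    · subst hq0
      rw [if_neg (fun h => hu0.mp h), hsa, hva, if_pos rfl]
    · by_cases hq2 : q = pt 2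
      · subst hq2
        rw [hsk, if_neg hq0, if_pos rfl]
        by_cases hneg : (v : GolayPt → ℤ) k = -4
        · rw [if_pos (hu2.mpr hneg), hneg]; norm_num
        · rw [if_neg (fun h => hneg (hu2.mp h))]
          rcases hvk with h | h
          · exact h
          · exact absurd h hneg
      · rw [if_neg hq0, if_neg hq2]
        have hz : (v : GolayPt → ℤ) (σ.symm q) = 0 := by
          apply hrest
          · intro h
            apply hq0
            rw [← hσa, ← h, Equiv.apply_symm_apply]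
          · intro h
            apply hq2
            rw [← hσk, ← h, Equiv.apply_symm_apply]
        rw [hz]
        simp

end TRYA

/-- TRYA -/
theorem trans_YA : ∀ v ∈ YA, ∀ w ∈ YA, ∃ g ∈ NN, g • v0 = v0 ∧ g • v = w := by
  intro v hv w hw
  obtain ⟨g, hg, hg0, hgv⟩ := TRYA.to_ref hv
  obtain ⟨h, hh, hh0, hhw⟩ := TRYA.to_ref hw
  refine ⟨h⁻¹ * g, NN.mul_mem (NN.inv_mem hh) hg, ?_, ?_⟩
  · rw [mul_smul, hg0, inv_smul_eq_iff, hh0]
  · rw [mul_smul, inv_smul_eq_iff]
    apply Subtype.ext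
    rw [hgv, hhw]

end Cfsg.Agent.S1572P
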