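import Cfsg.Agent.Helper22.S1572Defs

/-!
# S1572, piece OCT2: the stabiliser of two points in `M24` is transitive on the octads through them
-/

set_option autoImplicit false

namespace Cfsg.Agent.S1572P

open Cfsg Cfsg.Agent.Helper27 Cfsg.Agent.Helper22.MinTrans
open scoped Pointwise

namespace OCT2

theorem exists_five {O : Finset GolayPt} (hO : O ∈ octads) (h0 : pt 0 ∈ O) (h1 : pt 1 ∈ O) :
    ∃ x : Fin 5 → GolayPt, Function.Injective x ∧ x 0 = pt 0 ∧ x 1 = pt 1 ∧ ∀ i, x i ∈ O := by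
  classical
  have h01 : pt 0 ≠ pt 1 := by decide
  have hT : 3 ≤ ((O.erase (pt 0)).erase (pt 1)).card := by
    rw [Finset.card_erase_of_mem (Finset.mem_erase.mpr ⟨Ne.symm h01, h1⟩),
      Finset.card_erase_of_mem h0, octad_card hO]
    norm_num
  obtain ⟨s, hs, hs3⟩ := Finset.exists_subset_card_eq hT
  obtain ⟨a, b, c, hab, hac, hbc, rfl⟩ := Finset.card_eq_three.mp hs3
  have hmem : ∀ q ∈ ({a, b, c} : Finset GolayPt), q ≠ pt 0 ∧ q ≠ pt 1 ∧ q ∈ O := by
    intro q hq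
    have := hs hq
    rw [Finset.mem_erase, Finset.mem_erase] at this
    exact ⟨this.2.1, this.1, this.2.2⟩
  have ha := hmem a (by simp)
  have hb := hmem b (by simp)
  have hc := hmem c (by simp)
  refine ⟨![pt 0, pt 1, a, b, c], inj5 _ _ _ _ _ h01 (Ne.symm ha.1) (Ne.symm hb.1) (Ne.symm hc.1)
    (Ne.symm ha.2.1) (Ne.symm hb.2.1) (Ne.symm hc.2.1) hab hac hbc, rfl, rfl, ?_⟩
  intro i
  fin_cases i
  · exact h0
  · exact h1
  · exact ha.2.2
  · exact hb.2.2
  · exact hc.2.2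

end OCT2

/-- OCT2: the stabiliser of two points in `M24` is transitive on the octads through them -/
theorem exists_M24_oct2 {O O' : Finset GolayPt} (hO : O ∈ octads) (hO' : O' ∈ octads)
    (h0 : pt 0 ∈ O) (h1 : pt 1 ∈ O) (h0' : pt 0 ∈ O') (h1' : pt 1 ∈ O') :
    ∃ σ ∈ M24, σ (pt 0) = pt 0 ∧ σ (pt 1) = pt 1 ∧ σ • O = O' := by
  obtain ⟨x, hx, hx0, hx1, hxO⟩ := OCT2.exists_five hO h0 h1
  obtain ⟨y, hy, hy0, hy1, hyO⟩ := OCT2.exists_five hO' h0' h1'
  obtain ⟨g, hg, hgx⟩ := exists_M24_map_five x y hx hy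
  refine ⟨g, hg, ?_, ?_, smul_octad_eq hg hO hO' x hx hxO (fun i => by rw [hgx]; exact hyO i)⟩
  · have := hgx 0
    rw [hx0, hy0] at this
    exact this
  · have := hgx 1
    rw [hx1, hy1] at this
    exact this

end Cfsg.Agent.S1572P
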