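import Cfsg.Agent.Helper22.S1572Defs
import Cfsg.Agent.Helper22.S1572OCT2
import Cfsg.Agent.Helper25.S1572EVENSUB
import Cfsg.Agent.Helper19.S1572TRB

/-! S1572 piece TRYB (helper22): the stabiliser of `v0` in `NN` is transitive on the minimal
vectors of shape `(±2^8, 0^16)` with inner product `-16` with `v0`. -/

set_option autoImplicit false

namespace Cfsg.Agent.S1572P

open Cfsg Cfsg.Agent.Helper27 Cfsg.Agent.Helper22.Co0Mono Cfsg.Agent.Helper22.CrossStab
  Cfsg.Agent.Helper22.Co0Center Cfsg.Agent.Helper22.MinTrans Cfsg.Agent.Helper22.Co0Order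
  Cfsg.Agent.Helper22.Census
open scoped Pointwise

namespace TRYB

/-- a member of `YB` has entry `-2` at `pt 0` and `pt 1`, both in its octad -/
theorem form22 {v : ↥leechLattice} {O : Finset GolayPt}
    (hv1 : ∀ q ∈ O, (v : GolayPt → ℤ) q = 2 ∨ (v : GolayPt → ℤ) q = -2)
    (hv0 : ∀ q, q ∉ O → (v : GolayPt → ℤ) q = 0)
    (hd : dotInt (v0 : GolayPt → ℤ) (v : GolayPt → ℤ) = -16) :
    pt 0 ∈ O ∧ pt 1 ∈ O ∧ (v : GolayPt → ℤ) (pt 0) = -2 ∧ (v : GolayPt → ℤ) (pt 1) = -2 := by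
  rw [dot_v0] at hd
  have hcase : ∀ q, (v : GolayPt → ℤ) q = 2 ∨ (v : GolayPt → ℤ) q = -2 ∨
      ((v : GolayPt → ℤ) q = 0 ∧ q ∉ O) := by
    intro q
    by_cases hq : q ∈ O
    · rcases hv1 q hq with h | h
      · exact Or.inl h
      · exact Or.inr (Or.inl h)
    · exact Or.inr (Or.inr ⟨hv0 q hq, hq⟩)
  have hmem : ∀ q, (v : GolayPt → ℤ) q = -2 → q ∈ O := by
    intro q hq
    by_contra h
    rw [hv0 q h] at hq
    norm_num at hq
  have h0 : (v : GolayPt → ℤ) (pt 0) = -2 := by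
    rcases hcase (pt 0) with h | h | ⟨h, -⟩ <;> rcases hcase (pt 1) with h' | h' | ⟨h', -⟩ <;> omega
  have h1 : (v : GolayPt → ℤ) (pt 1) = -2 := by
    rcases hcase (pt 0) with h | h | ⟨h, -⟩ <;> rcases hcase (pt 1) with h' | h' | ⟨h', -⟩ <;> omega
  exact ⟨hmem _ h0, hmem _ h1, h0, h1⟩

end TRYB

/-- TRYB -/
theorem trans_YB : ∀ v ∈ YB, ∀ w ∈ YB, ∃ g ∈ NN, g • v0 = v0 ∧ g • v = w := by
  classical
  intro v hv w hw
  obtain ⟨⟨O, hO, hv1, hv0⟩, hvd⟩ := hv
  obtain ⟨⟨O', hO', hw1, hw0⟩, hwd⟩ := hw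
  obtain ⟨h0O, h1O, hv_0, hv_1⟩ := TRYB.form22 hv1 hv0 hvd
  obtain ⟨h0O', h1O', hw_0, hw_1⟩ := TRYB.form22 hw1 hw0 hwd
  obtain ⟨σ, hσ, hσ0, hσ1, hσO⟩ := exists_M24_oct2 hO hO' h0O h1O h0O' h1O'
  have hs0 : σ.symm (pt 0) = pt 0 := by rw [Equiv.symm_apply_eq, hσ0]
  have hs1 : σ.symm (pt 1) = pt 1 := by rw [Equiv.symm_apply_eq, hσ1]
  have hmemO : ∀ q, q ∈ O' ↔ σ.symm q ∈ O := by
    intro q
    rw [← hσO, Finset.mem_smul_finset]
    constructor
    · rintro ⟨y, hy, rfl⟩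
      rw [Equiv.Perm.smul_def, Equiv.symm_apply_apply]
      exact hy
    · intro h
      exact ⟨σ.symm q, h, by rw [Equiv.Perm.smul_def, Equiv.apply_symm_apply]⟩
  -- the vector `v' = piCo σ • v` has the octad `O'`
  have hv'1 : ∀ q ∈ O', ((piCo σ hσ • v : ↥leechLattice) : GolayPt → ℤ) q = 2 ∨
      ((piCo σ hσ • v : ↥leechLattice) : GolayPt → ℤ) q = -2 := by
    intro q hq
    rw [piCo_apply]
    exact hv1 _ ((hmemO q).mp hq)
  have hv'0 : ∀ q, q ∉ O' → ((piCo σ hσ • v : ↥leechLattice) : GolayPt → ℤ) q = 0 := by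
    intro q hq
    rw [piCo_apply]
    exact hv0 _ (fun h => hq ((hmemO q).mpr h))
  have hv'_0 : ((piCo σ hσ • v : ↥leechLattice) : GolayPt → ℤ) (pt 0) = -2 := by
    rw [piCo_apply, hs0, hv_0]
  have hv'_1 : ((piCo σ hσ • v : ↥leechLattice) : GolayPt → ℤ) (pt 1) = -2 := by
    rw [piCo_apply, hs1, hv_1]
  -- `piCo σ` fixes `v0`
  have hpair : ∀ q, (σ.symm q = pt 0 ∨ σ.symm q = pt 1) ↔ (q = pt 0 ∨ q = pt 1) := by
    intro q
    have e0 : σ.symm q = pt 0 ↔ q = pt 0 := by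
      conv_lhs => rw [← hs0]
      exact σ.symm.injective.eq_iff
    have e1 : σ.symm q = pt 1 ↔ q = pt 1 := by
      conv_lhs => rw [← hs1]
      exact σ.symm.injective.eq_iff
    rw [e0, e1]
  have hfix1 : piCo σ hσ • v0 = v0 := by
    apply Subtype.ext
    funext q
    rw [piCo_apply, v0_apply, v0_apply]
    simp only [hpair q]
  set v' : ↥leechLattice := piCo σ hσ • v with hv'def
  -- the set of sign differences
  set S : Finset GolayPt := O'.filter (fun q => (v' : GolayPt → ℤ) q ≠ (w : GolayPt → ℤ) q) with hS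
  have hSO : S ⊆ O' := Finset.filter_subset _ _
  have h0S : pt 0 ∉ S := by
    rw [hS, Finset.mem_filter]
    rintro ⟨-, hne⟩
    exact hne (hv'_0.trans hw_0.symm)
  have h1S : pt 1 ∉ S := by
    rw [hS, Finset.mem_filter]
    rintro ⟨-, hne⟩
    exact hne (hv'_1.trans hw_1.symm)
  have hx : ∀ q, ((v' - w : ↥leechLattice) : GolayPt → ℤ) q =
      (v' : GolayPt → ℤ) q - (w : GolayPt → ℤ) q := fun q => rfl
  have hxS : ∀ q ∈ S, ((v' - w : ↥leechLattice) : GolayPt → ℤ) q = 4 ∨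
      ((v' - w : ↥leechLattice) : GolayPt → ℤ) q = -4 := by
    intro q hq
    rw [hS, Finset.mem_filter] at hq
    obtain ⟨hqO, hne⟩ := hq
    rw [hx]
    rcases hv'1 q hqO with h1 | h1 <;> rcases hw1 q hqO with h2 | h2
    · exact absurd (h1.trans h2.symm) hne
    · left; rw [h1, h2]; norm_num
    · right; rw [h1, h2]; norm_num
    · exact absurd (h1.trans h2.symm) hne
  have hxnS : ∀ q, q ∉ S → ((v' - w : ↥leechLattice) : GolayPt → ℤ) q = 0 := by
    intro q hq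
    rw [hx]
    by_cases hqO : q ∈ O'
    · have : ¬ ((v' : GolayPt → ℤ) q ≠ (w : GolayPt → ℤ) q) := fun h =>
        hq (by rw [hS, Finset.mem_filter]; exact ⟨hqO, h⟩)
      rw [not_not] at this
      rw [this, sub_self]
    · rw [hv'0 q hqO, hw0 q hqO, sub_self]
  have heven : Even S.card := by
    have h8 : (8 : ℤ) ∣ ∑ i, ((v' - w : ↥leechLattice) : GolayPt → ℤ) i := by
      apply TRB.sum_dvd_of_even_entry _ (v' - w).2 (pt 0)
      rw [hxnS _ h0S]; exact dvd_zero _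
    have hsum : ∑ i, ((v' - w : ↥leechLattice) : GolayPt → ℤ) i =
        ∑ i ∈ S, ((v' - w : ↥leechLattice) : GolayPt → ℤ) i := by
      symm
      apply Finset.sum_subset (Finset.subset_univ _)
      intro q _ hq
      exact hxnS q hq
    obtain ⟨K, hK⟩ := TRB.sum_pm_four _ S hxS
    rw [hsum, hK] at h8
    obtain ⟨c, hc⟩ := h8
    rw [Nat.even_iff]
    omega
  obtain ⟨u, hu, huS⟩ := exists_word_inter hO' hSO heven
  have hu0 : pt 0 ∉ support₂ u := fun h => h0S (by rw [← huS, Finset.mem_inter]; exact ⟨h, h0O'⟩)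
  have hu1 : pt 1 ∉ support₂ u := fun h => h1S (by rw [← huS, Finset.mem_inter]; exact ⟨h, h1O'⟩)
  have hfix2 : epsCo u hu • v0 = v0 := by
    apply Subtype.ext
    funext q
    rw [epsCo_apply, v0_apply]
    by_cases hq : q = pt 0 ∨ q = pt 1
    · rw [if_pos hq, if_neg]
      rcases hq with rfl | rfl
      · exact hu0
      · exact hu1
    · rw [if_neg hq]; simp
  refine ⟨epsCo u hu * piCo σ hσ, NN.mul_mem (epsCo_mem_NN u hu) (piCo_mem_NN σ hσ), ?_, ?_⟩
  · rw [mul_smul, hfix1, hfix2]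
  apply Subtype.ext
  funext q
  rw [mul_smul, epsCo_apply]
  show (if q ∈ support₂ u then -(v' : GolayPt → ℤ) q else (v' : GolayPt → ℤ) q) = (w : GolayPt → ℤ) q
  by_cases hqO : q ∈ O'
  · have hiff : q ∈ support₂ u ↔ q ∈ S := by
      rw [← huS, Finset.mem_inter]
      exact ⟨fun h => ⟨h, hqO⟩, fun h => h.1⟩
    by_cases hqS : q ∈ S
    · rw [if_pos (hiff.mpr hqS)]
      have hne : (v' : GolayPt → ℤ) q ≠ (w : GolayPt → ℤ) q := by
        rw [hS, Finset.mem_filter] at hqS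
        exact hqS.2
      rcases hv'1 q hqO with h1 | h1 <;> rcases hw1 q hqO with h2 | h2
      · exact absurd (h1.trans h2.symm) hne
      · rw [h1, h2]
      · rw [h1, h2]; norm_num
      · exact absurd (h1.trans h2.symm) hne
    · rw [if_neg (fun h => hqS (hiff.mp h))]
      have : ¬ ((v' : GolayPt → ℤ) q ≠ (w : GolayPt → ℤ) q) := fun h =>
        hqS (by rw [hS, Finset.mem_filter]; exact ⟨hqO, h⟩)
      rw [not_not] at this
      exact this
  · rw [hv'0 q hqO, hw0 q hqO]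
    simp

end Cfsg.Agent.S1572P
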