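import Cfsg.Agent.Helper22.S1572Level1
import Cfsg.Agent.Helper22.S1572TRYA
import Cfsg.Agent.Helper21.S1572TRYC
import Cfsg.Agent.Helper24.S1572CNTYA
import Cfsg.Agent.Helper20.S1572CNTYB
import Cfsg.Agent.Helper20.S1572CNTYC
import Cfsg.Agent.Helper22.S1572TRYB

/-!
# S1572, LEVEL2: the orbit arithmetic on the 4600 minimal vectors `w` with `v0 · w = -16`
-/

set_option autoImplicit false

namespace Cfsg.Agent.S1572P

open Cfsg Cfsg.Agent.Helper27 Cfsg.Agent.Helper22.Co0Mono Cfsg.Agent.Helper22.CrossStab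
  Cfsg.Agent.Helper22.Co0Center Cfsg.Agent.Helper22.MinTrans Cfsg.Agent.Helper22.Co0Order
  Cfsg.Agent.Helper22.Census
open scoped Pointwise

namespace LEVEL2

open LEVEL1

theorem ncard_Y : YA.ncard = 88 ∧ YB.ncard = 2464 ∧ YC.ncard = 2048 :=
  BASIC.ncard_of_le (by rw [BASIC.Y_union]; exact finite_X v0 (-16)) BASIC.disj_YA_YB BASIC.disj_YA_YC
    BASIC.disj_YB_YC ncard_YA_le ncard_YB_le ncard_YC_le
    (by rw [BASIC.Y_union, ncard_X16 v0 BASIC.v0_norm])

theorem exists_y0 : ∃ y0, y0 ∈ YA := by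
  have h : YA.ncard ≠ 0 := by rw [ncard_Y.1]; norm_num
  exact (Set.nonempty_of_ncard_ne_zero h)

theorem mem_M {g : ↥Co0} (hg : g ∈ NN) (hv : g • v0 = v0) : g ∈ NN ⊓ St :=
  ⟨hg, hv⟩

theorem trans_M {S : Set ↥leechLattice} (h : ∀ v ∈ S, ∀ w ∈ S, ∃ g ∈ NN, g • v0 = v0 ∧ g • v = w) :
    ∀ v ∈ S, ∀ w ∈ S, ∃ g ∈ NN ⊓ St, g • v = w := by
  intro v hv w hw
  obtain ⟨g, hg, hg0, hgv⟩ := h v hv w hw
  exact ⟨g, mem_M hg hg0, hgv⟩

theorem orbit_sub2 {J : Subgroup ↥Co0} (hJ : J ≤ St) {y0 : ↥leechLattice} (hy : y0 ∈ YA) :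
    MulAction.orbit ↥J y0 ⊆ X v0 (-16) := by
  intro w hw
  obtain ⟨g, hg, rfl⟩ := (BASIC.mem_orbit_iff J y0 w).mp hw
  have h0 : g • v0 = v0 := hJ hg
  have hy' : y0 ∈ X v0 (-16) := by
    rw [← BASIC.Y_union]; exact Or.inl (Or.inl hy)
  have := smul_mem_X g hy'
  rw [h0] at this
  exact this

/-- the orbit of `y0 ∈ YA` under a group between `NN ⊓ St` and `St` -/
theorem orbit_cases2 {J : Subgroup ↥Co0} (hMJ : NN ⊓ St ≤ J) (hJ : J ≤ St) {y0 : ↥leechLattice}
    (hy : y0 ∈ YA) :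
    MulAction.orbit ↥J y0 = YA ∨ (MulAction.orbit ↥J y0).ncard = 2552 ∨
      (MulAction.orbit ↥J y0).ncard = 2136 ∨ (MulAction.orbit ↥J y0).ncard = 4600 := by
  have hA : YA ⊆ MulAction.orbit ↥J y0 := by
    rcases BASIC.subset_or_disjoint hMJ y0 YA (trans_M trans_YA) with h | h
    · exact h
    · exact absurd (MulAction.mem_orbit_self y0) (Set.disjoint_left.mp h hy)
  have h := BASIC.union_cases (O := MulAction.orbit ↥J y0) (A := YA) (B := YB) (C := YC)
    (by rw [BASIC.Y_union]; exact finite_X v0 (-16)) (by rw [BASIC.Y_union]; exact orbit_sub2 hJ hy)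
    BASIC.disj_YA_YB BASIC.disj_YA_YC hA
    (BASIC.subset_or_disjoint hMJ y0 YB (trans_M trans_YB))
    (BASIC.subset_or_disjoint hMJ y0 YC (trans_M trans_YC))
  obtain ⟨h1, h2, h3⟩ := ncard_Y
  rw [h1, h2, h3] at h
  rcases h with h | h | h | h
  · exact Or.inl h
  · exact Or.inr (Or.inl h)
  · exact Or.inr (Or.inr (Or.inl h))
  · right; right; right
    rw [h, BASIC.Y_union, ncard_X16 v0 BASIC.v0_norm]

/-- LEVEL2: the second case of LEVEL1 is impossible -/
theorem level2 (K : Subgroup ↥Co0) (hK : NN ≤ K)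
    (h23 : Nat.card ↥(K ⊓ St) = 23 * Nat.card ↥(NN ⊓ St)) : False := by
  haveI := finite_Co0
  obtain ⟨y0, hy⟩ := exists_y0
  have hM := card_NN_St
  have hle : NN ⊓ St ≤ K ⊓ St := inf_le_inf_right _ hK
  -- the orbit under `NN ⊓ St`
  have horbM := BASIC.card_orbit_mul (NN ⊓ St) y0
  have hM88 : MulAction.orbit ↥(NN ⊓ St) y0 = YA := by
    have hd : (MulAction.orbit ↥(NN ⊓ St) y0).ncard ∣ 908328960 := by
      rw [← hM]; exact Dvd.intro _ horbM
    rcases orbit_cases2 le_rfl inf_le_right hy with h | h | h | h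
    · exact h
    · rw [h] at hd; revert hd; norm_num
    · rw [h] at hd; revert hd; norm_num
    · rw [h] at hd; revert hd; norm_num
  rw [hM88, ncard_Y.1, hM] at horbM
  -- the orbit under `K ⊓ St`
  have horbK := BASIC.card_orbit_mul (K ⊓ St) y0
  rw [h23, hM] at horbK
  have hle3 : (NN ⊓ St) ⊓ MulAction.stabilizer ↥Co0 y0 ≤ (K ⊓ St) ⊓ MulAction.stabilizer ↥Co0 y0 :=
    inf_le_inf_right _ hle
  obtain ⟨c, hc⟩ := Subgroup.card_dvd_of_le hle3
  have hKYA : MulAction.orbit ↥(K ⊓ St) y0 = YA := by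
    rcases orbit_cases2 hle inf_le_right hy with h | h | h | h
    · exact h
    · exfalso
      rw [h, hc] at horbK
      have : Nat.card ↥((NN ⊓ St) ⊓ MulAction.stabilizer ↥Co0 y0) = 10321920 := by omega
      rw [this] at horbK
      omega
    · exfalso
      rw [h, hc] at horbK
      have : Nat.card ↥((NN ⊓ St) ⊓ MulAction.stabilizer ↥Co0 y0) = 10321920 := by omega
      rw [this] at horbK
      omega
    · exfalso
      rw [h, hc] at horbK
      have : Nat.card ↥((NN ⊓ St) ⊓ MulAction.stabilizer ↥Co0 y0) = 10321920 := by omega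
      rw [this] at horbK
      omega
  -- hence `K ⊓ St ≤ NN`
  have hKN : K ⊓ St ≤ NN := by
    intro g hg
    apply mem_NN_of_shapeA
    intro w hw
    have hw' : w ∈ MulAction.orbit ↥(K ⊓ St) y0 := by rw [hKYA]; exact hw
    have := BASIC.smul_mem_orbit ((K ⊓ St).inv_mem hg) hw'
    rw [hKYA] at this
    exact this.1
  have heq : K ⊓ St = NN ⊓ St := le_antisymm (le_inf hKN inf_le_right) hle
  rw [heq, hM] at h23
  omega

end LEVEL2

end Cfsg.Agent.S1572P
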