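import Cfsg.Agent.Helper22.SextetRef
import Cfsg.Agent.Helper27.M24Order

/-!
# Abstract part of the structure of a sextet stabiliser: the action on the six tetrads, and the subgroup of
elements inducing an element of the four-group on every tetrad.
-/

set_option autoImplicit false

namespace Cfsg.Agent.Helper22.SextetStruct

open Cfsg Cfsg.Agent.Helper27 Cfsg.Agent.Helper22.SextetCode Cfsg.Agent.Helper22.GolayComb
  Cfsg.Agent.Helper22.SextetRef
open scoped Pointwise

variable {S : Finset (Finset GolayPt)}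

/-- the tetrads of a sextet cover the 24 points -/
theorem exists_mem_sextet (hS : S ∈ sextets) (p : GolayPt) : ∃ t ∈ S, p ∈ t := by
  have hdis : (S : Set (Finset GolayPt)).PairwiseDisjoint id := fun t ht u hu h => sextet_disjoint hS ht hu h
  have hcard : (S.biUnion id).card = 24 := by
    rw [Finset.card_biUnion hdis]
    simp only [id]
    rw [Finset.sum_const_nat (m := 4) (fun t ht => hS.2.1 t ht), hS.1]
  have huniv : S.biUnion id = Finset.univ := Finset.eq_univ_of_card _ (by rw [hcard, card_golayPt])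
  have hp : p ∈ S.biUnion id := huniv ▸ Finset.mem_univ p
  simpa using hp

/-- `g` induces an element of the four-group on every tetrad: every pair inside a tetrad goes to itself or to the
complementary pair -/
def V4On (S : Finset (Finset GolayPt)) (g : Equiv.Perm GolayPt) : Prop :=
  ∀ t ∈ S, ∀ p : Finset GolayPt, p ⊆ t → p.card = 2 → g • p = p ∨ g • p = t \ p

theorem V4On.one : V4On S 1 := fun _ _ p _ _ => Or.inl (one_smul _ p)

theorem sdiff_pair {t p : Finset GolayPt} (ht : t.card = 4) (hp : p ⊆ t) (h2 : p.card = 2) :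
    t \ p ⊆ t ∧ (t \ p).card = 2 ∧ t \ (t \ p) = p :=
  ⟨Finset.sdiff_subset, by rw [Finset.card_sdiff_of_subset hp, ht, h2], Finset.sdiff_sdiff_eq_self hp⟩

theorem V4On.mul (h4 : ∀ t ∈ S, t.card = 4) {g h : Equiv.Perm GolayPt} (hg : V4On S g) (hh : V4On S h) :
    V4On S (g * h) := by
  intro t ht p hp h2
  obtain ⟨q1, q2, q3⟩ := sdiff_pair (h4 t ht) hp h2
  rw [mul_smul]
  rcases hh t ht p hp h2 with e | e
  · rw [e]; exact hg t ht p hp h2
  · rw [e]
    rcases hg t ht _ q1 q2 with e' | e'
    · exact Or.inr e'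
    · rw [q3] at e'; exact Or.inl e'

theorem V4On.inv (h4 : ∀ t ∈ S, t.card = 4) {g : Equiv.Perm GolayPt} (hg : V4On S g) : V4On S g⁻¹ := by
  intro t ht p hp h2
  obtain ⟨q1, q2, q3⟩ := sdiff_pair (h4 t ht) hp h2
  rcases hg t ht p hp h2 with e | e
  · left; rw [inv_smul_eq_iff, e]
  · rcases hg t ht _ q1 q2 with e' | e'
    · exfalso
      have : p = t \ p := smul_left_cancel g (e.trans e'.symm)
      have hd : Disjoint p (t \ p) := Finset.disjoint_sdiff
      rw [← this, disjoint_self, Finset.bot_eq_empty] at hd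
      rw [hd] at h2; simp at h2
    · right; rw [inv_smul_eq_iff, e', q3]

theorem V4On.smul_tetrad (h4 : ∀ t ∈ S, t.card = 4) {g : Equiv.Perm GolayPt} (hg : V4On S g)
    {t : Finset GolayPt} (ht : t ∈ S) : g • t = t := by
  apply Finset.eq_of_subset_of_card_le
  · intro q hq
    obtain ⟨r, hr, rfl⟩ := Finset.mem_smul_finset.mp hq
    obtain ⟨r', hr', hne⟩ := Finset.exists_mem_ne (by rw [h4 t ht]; norm_num : 1 < t.card) r
    have hp : ({r, r'} : Finset GolayPt) ⊆ t := by
      intro z hz
      rcases Finset.mem_insert.mp hz with rfl | hz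
      · exact hr
      · rw [Finset.mem_singleton] at hz; rw [hz]; exact hr'
    have h2 : ({r, r'} : Finset GolayPt).card = 2 := Finset.card_pair hne.symm
    have hm : g • r ∈ g • ({r, r'} : Finset GolayPt) :=
      Finset.smul_mem_smul_finset (Finset.mem_insert_self _ _)
    rcases hg t ht _ hp h2 with e | e
    · rw [e] at hm; exact hp hm
    · rw [e] at hm; exact Finset.sdiff_subset hm
  · rw [Finset.card_smul_finset]

theorem smul_eq_of_fix {g : Equiv.Perm GolayPt} (h : ∀ t ∈ S, g • t = t) : g • S = S := by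
  ext u
  constructor
  · intro hu
    obtain ⟨t, ht, rfl⟩ := Finset.mem_smul_finset.mp hu
    rw [h t ht]; exact ht
  · intro hu
    rw [← h u hu]; exact Finset.smul_mem_smul_finset hu

theorem V4On.sq (hS : S ∈ sextets) {g : Equiv.Perm GolayPt} (hg : V4On S g) : g * g = 1 := by
  apply Equiv.ext
  intro q
  rw [Equiv.Perm.mul_apply, Equiv.Perm.one_apply]
  by_cases hq : g q = q
  · rw [hq, hq]
  · obtain ⟨t, ht, hqt⟩ := exists_mem_sextet hS q
    have hgt := hg.smul_tetrad hS.2.1 ht
    have hr : g q ∈ t := by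
      have : g • q ∈ g • t := Finset.smul_mem_smul_finset hqt
      rwa [hgt] at this
    have hp : ({q, g q} : Finset GolayPt) ⊆ t := by
      intro z hz
      rcases Finset.mem_insert.mp hz with rfl | hz
      · exact hqt
      · rw [Finset.mem_singleton] at hz; rw [hz]; exact hr
    have h2 : ({q, g q} : Finset GolayPt).card = 2 := Finset.card_pair (Ne.symm hq)
    have hm1 : g • q ∈ g • ({q, g q} : Finset GolayPt) :=
      Finset.smul_mem_smul_finset (Finset.mem_insert_self _ _)
    have hm2 : g • (g q) ∈ g • ({q, g q} : Finset GolayPt) :=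
      Finset.smul_mem_smul_finset (Finset.mem_insert_of_mem (Finset.mem_singleton_self _))
    rcases hg t ht _ hp h2 with e | e
    · rw [e] at hm2
      rcases Finset.mem_insert.mp hm2 with h | h
      · exact h
      · rw [Finset.mem_singleton] at h
        exact absurd (g.injective h) hq
    · rw [e, Finset.mem_sdiff] at hm1
      exact absurd (Finset.mem_insert_of_mem (Finset.mem_singleton_self _)) hm1.2

theorem V4On.conj {S' : Finset (Finset GolayPt)} {y k : Equiv.Perm GolayPt} (hy : V4On S' y) (hk : k • S = S') :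
    V4On S (k⁻¹ * y * k) := by
  intro t ht p hp h2
  have hkt : k • t ∈ S' := by rw [← hk]; exact Finset.smul_mem_smul_finset ht
  have hkp : k • p ⊆ k • t := Finset.smul_finset_subset_smul_finset hp
  have hk2 : (k • p).card = 2 := by rw [Finset.card_smul_finset]; exact h2
  rw [mul_smul, mul_smul]
  rcases hy _ hkt _ hkp hk2 with e | e
  · left; rw [e, inv_smul_smul]
  · right; rw [e, ← Finset.smul_finset_sdiff, inv_smul_smul]

/-- the order of a sextet stabiliser -/
theorem card_stab (hS : S ∈ sextets) : Nat.card ↥(MulAction.stabilizer ↥M24 S) = 138240 := by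
  have horb : MulAction.orbit ↥M24 S = sextets := by
    ext X
    constructor
    · rintro ⟨g, rfl⟩
      exact smul_sextet_mem g.2 hS
    · intro hX
      obtain ⟨a, ha, ha'⟩ := exists_smul_eq_S0 hS
      obtain ⟨b, hb, hb'⟩ := exists_smul_eq_S0 hX
      refine ⟨⟨b⁻¹ * a, M24.mul_mem (M24.inv_mem hb) ha⟩, ?_⟩
      show (b⁻¹ * a) • S = X
      rw [mul_smul, ha', ← hb', inv_smul_smul]
  have h1 := MulAction.index_stabilizer ↥M24 S
  have h2 := Subgroup.card_mul_index (MulAction.stabilizer ↥M24 S)
  rw [h1, horb, sextets_ncard, card_M24] at h2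
  omega

/-- the action of the stabiliser of `S` on the members of `S` -/
@[instance_reducible] def tetAction (S : Finset (Finset GolayPt)) : MulAction ↥(MulAction.stabilizer ↥M24 S) ↥S where
  smul x t := ⟨(x : ↥M24) • (t : Finset GolayPt), by
    have hx : (x : ↥M24) • S = S := x.2
    have := Finset.smul_mem_smul_finset (a := (x : ↥M24)) t.2
    rwa [hx] at this⟩
  one_smul t := Subtype.ext (one_smul _ _)
  mul_smul x y t := Subtype.ext (mul_smul _ _ _)

/-- the permutation representation of the stabiliser of `S` on the members of `S` -/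
def tetHom (S : Finset (Finset GolayPt)) : ↥(MulAction.stabilizer ↥M24 S) →* Equiv.Perm ↥S :=
  @MulAction.toPermHom _ _ _ (tetAction S)

theorem tetHom_apply (x : ↥(MulAction.stabilizer ↥M24 S)) (t : ↥S) :
    ((tetHom S x t : ↥S) : Finset GolayPt) = ((x : ↥M24) : Equiv.Perm GolayPt) • (t : Finset GolayPt) := rfl

theorem mem_ker_iff (x : ↥(MulAction.stabilizer ↥M24 S)) :
    x ∈ (tetHom S).ker ↔ ∀ t ∈ S, ((x : ↥M24) : Equiv.Perm GolayPt) • t = t := by
  rw [MonoidHom.mem_ker]
  constructor
  · intro h t ht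
    have := congrArg (fun e : Equiv.Perm ↥S => ((e ⟨t, ht⟩ : ↥S) : Finset GolayPt)) h
    exact this
  · intro h
    apply Equiv.ext
    intro t
    apply Subtype.ext
    exact h t.1 t.2

theorem card_ker_mul_range (hS : S ∈ sextets) :
    Nat.card ↥(tetHom S).ker * Nat.card ↥(tetHom S).range = 138240 := by
  rw [← Subgroup.index_ker, Subgroup.card_mul_index, card_stab hS]

theorem card_range_le (hS : S ∈ sextets) : Nat.card ↥(tetHom S).range ≤ 720 := by
  have h1 := Subgroup.card_le_card_group (tetHom S).range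
  rw [Nat.card_perm] at h1
  have : Nat.card ↥S = 6 := by rw [Nat.card_eq_fintype_card, Fintype.card_coe]; exact hS.1
  rw [this] at h1
  exact h1

/-- if the kernel has at most 192 elements, it has exactly 192 and every permutation of the tetrads is induced -/
theorem ker_and_surj (hS : S ∈ sextets) (hle : Nat.card ↥(tetHom S).ker ≤ 192) :
    Nat.card ↥(tetHom S).ker = 192 ∧ Function.Surjective (tetHom S) := by
  have h1 := card_ker_mul_range hS
  have h2 := card_range_le hS
  have hk : Nat.card ↥(tetHom S).ker = 192 := by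
    apply Nat.le_antisymm hle
    by_contra h
    have h3 : Nat.card ↥(tetHom S).ker ≤ 191 := by omega
    have := Nat.mul_le_mul h3 h2
    omega
  refine ⟨hk, ?_⟩
  rw [hk] at h1
  have hr : Nat.card ↥(tetHom S).range = 720 := by omega
  rw [← MonoidHom.range_eq_top, ← Subgroup.card_eq_iff_eq_top, hr, Nat.card_perm]
  have : Nat.card ↥S = 6 := by rw [Nat.card_eq_fintype_card, Fintype.card_coe]; exact hS.1
  rw [this]
  rfl

/-- the subgroup of the stabiliser of a sextet inducing an element of the four-group on every tetrad -/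
def V4Sub (hS : S ∈ sextets) : Subgroup ↥(MulAction.stabilizer ↥M24 S) where
  carrier := {x | V4On S ((x : ↥M24) : Equiv.Perm GolayPt)}
  mul_mem' := fun {_ _} ha hb => V4On.mul hS.2.1 ha hb
  one_mem' := V4On.one
  inv_mem' := fun {_} ha => V4On.inv hS.2.1 ha

theorem mem_V4Sub (hS : S ∈ sextets) (x : ↥(MulAction.stabilizer ↥M24 S)) :
    x ∈ V4Sub hS ↔ V4On S ((x : ↥M24) : Equiv.Perm GolayPt) := Iff.rfl

theorem V4Sub_normal (hS : S ∈ sextets) : (V4Sub hS).Normal := by
  constructor
  intro n hn g
  rw [mem_V4Sub] at hn ⊢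
  have hg : ((g : ↥M24) : Equiv.Perm GolayPt)⁻¹ • S = S := by
    have hx : (g : ↥M24) • S = S := g.2
    rw [inv_smul_eq_iff]
    exact hx.symm
  have := V4On.conj hn hg
  rw [inv_inv] at this
  exact this

theorem V4Sub_sq (hS : S ∈ sextets) (x : ↥(MulAction.stabilizer ↥M24 S)) (hx : x ∈ V4Sub hS) : x * x = 1 := by
  apply Subtype.ext
  apply Subtype.ext
  exact V4On.sq hS hx

theorem V4Sub_le_ker (hS : S ∈ sextets) : V4Sub hS ≤ (tetHom S).ker := by
  intro x hx
  rw [mem_ker_iff]
  intro t ht
  exact V4On.smul_tetrad hS.2.1 hx ht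

theorem card_V4Sub (hS : S ∈ sextets) (hker : Nat.card ↥(tetHom S).ker = 192)
    (h64 : 64 ≤ Nat.card ↥(V4Sub hS)) : Nat.card ↥(V4Sub hS) = 64 := by
  have hdvd := Subgroup.card_dvd_of_le (V4Sub_le_ker hS)
  rw [hker] at hdvd
  have hp : IsPGroup 2 ↥(V4Sub hS) := by
    intro x
    refine ⟨1, ?_⟩
    rw [pow_one, pow_two]
    apply Subtype.ext
    exact V4Sub_sq hS x.1 x.2
  obtain ⟨n, hn⟩ := IsPGroup.iff_card.mp hp
  rw [hn] at hdvd h64 ⊢
  have h1 : n ≤ 6 := by
    by_contra h
    have h7 : 7 ≤ n := by omega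
    have : (2 : ℕ) ^ 7 ∣ 192 := (pow_dvd_pow 2 h7).trans hdvd
    norm_num at this
  have h2 : 6 ≤ n := by
    by_contra h
    have h5 : n ≤ 5 := by omega
    have : (2 : ℕ) ^ n ≤ 2 ^ 5 := Nat.pow_le_pow_right (by norm_num) h5
    omega
  have : n = 6 := by omega
  rw [this]
  norm_num

end Cfsg.Agent.Helper22.SextetStruct
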