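import Cfsg.Agent.Helper17.M23Idx.Main
import Cfsg.Agent.Helper27.OctadPair
import Cfsg.Agent.Helper22.SextetStruct
import Cfsg.Agent.Helper22.SextetCode

/-!
# Subgroups of `M24` of index 759, 276, 1771, 253: shared tools

Orbits of a group `K` of permutations of the 24 points as finsets, the orbit-stabiliser count, elements of prime
order and their fixed points, invariant sets of an element of prime order.
-/

set_option autoImplicit false
set_option linter.all false

namespace Cfsg.Agent.S1589P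

open Cfsg Cfsg.Agent.Helper27 Cfsg.Agent.Helper17.M23Idx
open scoped Pointwise

/-- `K` is transitive on the 24 points -/
def Trans (K : Subgroup (Equiv.Perm GolayPt)) : Prop := ∀ a b : GolayPt, ∃ k ∈ K, k a = b

/-- the orbit of `x` under `K`, as a finset -/
noncomputable def orbF (K : Subgroup (Equiv.Perm GolayPt)) (x : GolayPt) : Finset GolayPt := by
  classical
  exact Finset.univ.filter (fun b => b ∈ orbitSet K x)

theorem mem_orbF (K : Subgroup (Equiv.Perm GolayPt)) (x b : GolayPt) : b ∈ orbF K x ↔ ∃ k ∈ K, k x = b := by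
  classical
  unfold orbF
  rw [Finset.mem_filter]
  simp [orbitSet]

theorem self_mem_orbF (K : Subgroup (Equiv.Perm GolayPt)) (x : GolayPt) : x ∈ orbF K x :=
  (mem_orbF K x x).mpr ⟨1, K.one_mem, rfl⟩

theorem orbF_inv (K : Subgroup (Equiv.Perm GolayPt)) (x : GolayPt) {h : Equiv.Perm GolayPt} (hh : h ∈ K)
    (b : GolayPt) : h b ∈ orbF K x ↔ b ∈ orbF K x := by
  rw [mem_orbF, mem_orbF]
  constructor
  · rintro ⟨g, hg, hgy⟩
    refine ⟨h⁻¹ * g, K.mul_mem (K.inv_mem hh) hg, ?_⟩
    rw [Equiv.Perm.mul_apply, hgy]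
    simp
  · rintro ⟨g, hg, hgy⟩
    exact ⟨h * g, K.mul_mem hh hg, by rw [Equiv.Perm.mul_apply, hgy]⟩

theorem card_orbF (K : Subgroup (Equiv.Perm GolayPt)) (x : GolayPt) : (orbF K x).card = (orbitSet K x).ncard := by
  rw [← Set.ncard_coe_finset (orbF K x)]
  congr 1
  ext b
  rw [Finset.mem_coe, mem_orbF]
  rfl

/-- orbit-stabiliser -/
theorem card_eq_orbF_mul (K : Subgroup (Equiv.Perm GolayPt)) (x : GolayPt) :
    Nat.card K = (orbF K x).card * Nat.card (fixH K {x}) := by
  have h1 := card_fixH_insert K ∅ x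
  rw [fixH_empty] at h1
  rw [card_orbF]
  exact h1

theorem orbF_eq_univ {K : Subgroup (Equiv.Perm GolayPt)} (hT : Trans K) (x : GolayPt) : orbF K x = Finset.univ := by
  apply Finset.eq_univ_of_forall
  intro b
  exact (mem_orbF K x b).mpr (hT x b)

theorem card_univ_golay : (Finset.univ : Finset GolayPt).card = 24 := by
  rw [Finset.card_univ, ← Nat.card_eq_fintype_card, card_GolayPt]

theorem card_of_trans {K : Subgroup (Equiv.Perm GolayPt)} (hT : Trans K) (x : GolayPt) :
    Nat.card K = 24 * Nat.card (fixH K {x}) := by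
  rw [card_eq_orbF_mul K x, orbF_eq_univ hT, card_univ_golay]

theorem trans_of_card_orbF {K : Subgroup (Equiv.Perm GolayPt)} {x : GolayPt} (h : (orbF K x).card = 24) : Trans K := by
  have huniv : orbF K x = Finset.univ := by
    apply Finset.eq_univ_of_card
    rw [h, ← Nat.card_eq_fintype_card, card_GolayPt]
  intro a b
  have ha : a ∈ orbF K x := by rw [huniv]; exact Finset.mem_univ a
  have hb : b ∈ orbF K x := by rw [huniv]; exact Finset.mem_univ b
  obtain ⟨k1, hk1, rfl⟩ := (mem_orbF K x a).mp ha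
  obtain ⟨k2, hk2, rfl⟩ := (mem_orbF K x b).mp hb
  refine ⟨k2 * k1⁻¹, K.mul_mem hk2 (K.inv_mem hk1), ?_⟩
  simp

/-- the point stabiliser lies in the point stabiliser of `M24` -/
theorem card_fixH_dvd {K : Subgroup (Equiv.Perm GolayPt)} (hM : K ≤ M24) (x : GolayPt) :
    Nat.card (fixH K {x}) ∣ 10200960 := by
  have hle : fixH K {x} ≤ fixG {x} := by
    intro g hg
    rw [mem_fixH] at hg
    rw [mem_fixG]
    exact ⟨hM hg.1, hg.2⟩
  have h1 := Subgroup.card_dvd_of_le hle
  have h2 : Nat.card (fixG {x}) = 10200960 := by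
    rw [← card_stabilizer_M24 x]
    apply Nat.card_congr
    refine
      { toFun := fun g => ⟨⟨g.1, ((mem_fixG _ _).mp g.2).1⟩, ?_⟩
        invFun := fun g => ⟨g.1.1, ?_⟩
        left_inv := fun g => rfl
        right_inv := fun g => rfl }
    · rw [MulAction.mem_stabilizer_iff]
      exact ((mem_fixG _ _).mp g.2).2 x (Finset.mem_singleton_self x)
    · rw [mem_fixG]
      refine ⟨g.1.2, ?_⟩
      intro q hq
      rw [Finset.mem_singleton] at hq
      rw [hq]
      exact MulAction.mem_stabilizer_iff.mp g.2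
  rwa [h2] at h1

/-- conjugation of point stabilisers -/
theorem conj_mem_fixH {K : Subgroup (Equiv.Perm GolayPt)} {k : Equiv.Perm GolayPt} (hk : k ∈ K) (x : GolayPt)
    {h : Equiv.Perm GolayPt} (hh : h ∈ fixH K {x}) : k * h * k⁻¹ ∈ fixH K {k x} := by
  rw [mem_fixH] at hh ⊢
  refine ⟨K.mul_mem (K.mul_mem hk hh.1) (K.inv_mem hk), ?_⟩
  intro q hq
  rw [Finset.mem_singleton] at hq
  rw [hq]
  have e : k⁻¹ (k x) = x := by simp
  simp only [Equiv.Perm.mul_apply]
  rw [e, hh.2 x (Finset.mem_singleton_self x)]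

theorem conj_mem_fixH' {K : Subgroup (Equiv.Perm GolayPt)} {k : Equiv.Perm GolayPt} (hk : k ∈ K) (x : GolayPt)
    {h : Equiv.Perm GolayPt} (hh : h ∈ fixH K {k x}) : k⁻¹ * h * k ∈ fixH K {x} := by
  have := conj_mem_fixH (K.inv_mem hk) (k x) hh
  simpa using this

theorem mem_fixH_singleton (K : Subgroup (Equiv.Perm GolayPt)) (x : GolayPt) (g : Equiv.Perm GolayPt) :
    g ∈ fixH K {x} ↔ g ∈ K ∧ g x = x := by
  rw [mem_fixH]
  simp

/-- an element of prime order in a group of order divisible by the prime -/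
theorem exists_orderOf_mem (K : Subgroup (Equiv.Perm GolayPt)) (p : ℕ) [hp : Fact p.Prime]
    (h : p ∣ Nat.card K) : ∃ g ∈ K, orderOf g = p := by
  obtain ⟨g, hg⟩ := exists_prime_orderOf_dvd_card' (G := K) p h
  exact ⟨g.1, g.2, by rw [Subgroup.orderOf_coe, hg]⟩

/-- a nonidentity element of `M24` of prime order not dividing 48 fixes at most four points -/
theorem fixed_le_four {g : Equiv.Perm GolayPt} (hg : g ∈ M24) {p : ℕ} (hp : p.Prime) (h48 : ¬ p ∣ 48)
    (ho : orderOf g = p) : (g.supportᶜ).card ≤ 4 := by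
  by_contra hlt
  rw [not_le] at hlt
  obtain ⟨t, ht, htc⟩ := Finset.exists_subset_card_eq (s := g.supportᶜ) (n := 5) (by omega)
  have hgt : g ∈ fixG t := by
    rw [mem_fixG]
    refine ⟨hg, ?_⟩
    intro q hq
    have := ht hq
    rw [Finset.mem_compl, Equiv.Perm.mem_support, not_not] at this
    exact this
  have hdvd : orderOf (⟨g, hgt⟩ : fixG t) ∣ Nat.card (fixG t) := orderOf_dvd_natCard _
  rw [card_fixG_five t htc] at hdvd
  have ho' : orderOf (⟨g, hgt⟩ : fixG t) = p := by
    rw [← ho]
    exact (Subgroup.orderOf_mk g hgt)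
  rw [ho'] at hdvd
  exact h48 hdvd

theorem card_fixed_modEq {g : Equiv.Perm GolayPt} {p : ℕ} [hp : Fact p.Prime] (ho : orderOf g = p) :
    (g.supportᶜ).card % p = 24 % p := by
  have hpow : g ^ p ^ 1 = 1 := by rw [pow_one, ← ho, pow_orderOf_eq_one]
  have hmod := Equiv.Perm.card_compl_support_modEq (p := p) (n := 1) hpow
  have hc : Fintype.card GolayPt = 24 := by rw [← Nat.card_eq_fintype_card, card_GolayPt]
  rw [hc] at hmod
  exact hmod

/-- an element of order 5 of `M24` fixes exactly four points -/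
theorem five_fixed {g : Equiv.Perm GolayPt} (hg : g ∈ M24) (h5 : orderOf g = 5) : (g.supportᶜ).card = 4 := by
  haveI : Fact (Nat.Prime 5) := ⟨by norm_num⟩
  have h1 := fixed_le_four hg (by norm_num) (by norm_num) h5
  have h2 := card_fixed_modEq h5
  omega

/-- an element of order 11 of `M24` fixes exactly two points -/
theorem eleven_fixed {g : Equiv.Perm GolayPt} (hg : g ∈ M24) (h11 : orderOf g = 11) : (g.supportᶜ).card = 2 := by
  haveI : Fact (Nat.Prime 11) := ⟨by norm_num⟩
  have h1 := fixed_le_four hg (by norm_num) (by norm_num) h11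
  have h2 := card_fixed_modEq h11
  omega

/-- the size of an invariant set of an element of prime order `p` is congruent modulo `p` to the number of its
fixed points in the set -/
theorem inv_card_mod {g : Equiv.Perm GolayPt} {p : ℕ} [hp : Fact p.Prime] (hg : g ^ p = 1) (D : Finset GolayPt)
    (hD : ∀ q, g q ∈ D ↔ q ∈ D) : D.card % p = (D ∩ g.supportᶜ).card % p := by
  classical
  set σ : Equiv.Perm {q // q ∈ D} := g.subtypePerm hD with hσ
  have hσp : σ ^ p ^ 1 = 1 := by
    rw [pow_one, hσ, Equiv.Perm.subtypePerm_pow]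
    ext q
    simp [hg]
  have hmod := Equiv.Perm.card_compl_support_modEq (p := p) (n := 1) hσp
  rw [Fintype.card_coe] at hmod
  have hcard : (σ.supportᶜ).card = (D ∩ g.supportᶜ).card := by
    apply Finset.card_bij (fun q _ => q.1)
    · intro q hq
      rw [Finset.mem_compl, Equiv.Perm.mem_support, not_not] at hq
      rw [Finset.mem_inter, Finset.mem_compl, Equiv.Perm.mem_support, not_not]
      refine ⟨q.2, ?_⟩
      have := congrArg Subtype.val hq
      simpa [hσ] using this
    · intro a _ b _ hab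
      exact Subtype.ext hab
    · intro b hb
      rw [Finset.mem_inter, Finset.mem_compl, Equiv.Perm.mem_support, not_not] at hb
      refine ⟨⟨b, hb.1⟩, ?_, rfl⟩
      rw [Finset.mem_compl, Equiv.Perm.mem_support, not_not]
      apply Subtype.ext
      simp [hσ, hb.2]
  rw [hcard] at hmod
  exact hmod.symm

/-- the number of fixed points in an invariant set is at most the number of fixed points -/
theorem inv_card_mod_le {g : Equiv.Perm GolayPt} {p : ℕ} [hp : Fact p.Prime] (hg : g ^ p = 1) (D : Finset GolayPt)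
    (hD : ∀ q, g q ∈ D ↔ q ∈ D) (hlt : (g.supportᶜ).card < p) : D.card % p ≤ (g.supportᶜ).card ∧
      D.card % p = (D ∩ g.supportᶜ).card := by
  have h1 := inv_card_mod hg D hD
  have h2 : (D ∩ g.supportᶜ).card ≤ (g.supportᶜ).card := Finset.card_le_card Finset.inter_subset_right
  have h3 : (D ∩ g.supportᶜ).card % p = (D ∩ g.supportᶜ).card := Nat.mod_eq_of_lt (by omega)
  rw [h3] at h1
  exact ⟨by omega, h1⟩

theorem pow_eq_one_of_orderOf {g : Equiv.Perm GolayPt} {p : ℕ} (ho : orderOf g = p) : g ^ p = 1 := by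
  rw [← ho, pow_orderOf_eq_one]

theorem mem_fix_iff (g : Equiv.Perm GolayPt) (q : GolayPt) : q ∈ g.supportᶜ ↔ g q = q := by
  rw [Finset.mem_compl, Equiv.Perm.mem_support, not_not]

end Cfsg.Agent.S1589P
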