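import Cfsg.Agent.Helper22.S1589Basic

/-! S1589 piece P3T: from the tetrad of a point stabiliser to an invariant sextet. -/

set_option autoImplicit false
set_option linter.all false

namespace Cfsg.Agent.S1589P

open Cfsg Cfsg.Agent.Helper27 Cfsg.Agent.Helper17.M23Idx
open Cfsg.Agent.Helper22.GolayComb Cfsg.Agent.Helper22.SextetCode
open scoped Pointwise

variable {K : Subgroup (Equiv.Perm GolayPt)}

namespace P3T

theorem card_pos_sub (L : Subgroup (Equiv.Perm GolayPt)) : 0 < Nat.card L := Nat.card_pos

/-- an orbit contained in a finset -/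
theorem card_orbF_le_of_subset (L : Subgroup (Equiv.Perm GolayPt)) (y : GolayPt) (D : Finset GolayPt)
    (h : ∀ k ∈ L, k y ∈ D) : (orbF L y).card ≤ D.card := by
  apply Finset.card_le_card
  intro b hb
  obtain ⟨k, hk, rfl⟩ := (mem_orbF L y b).mp hb
  exact h k hk

/-- an orbit containing a finset -/
theorem card_le_card_orbF (L : Subgroup (Equiv.Perm GolayPt)) (w : GolayPt) (D : Finset GolayPt)
    (h : ∀ b ∈ D, ∃ k ∈ L, k w = b) : D.card ≤ (orbF L w).card := by
  apply Finset.card_le_card
  intro b hb
  exact (mem_orbF L w b).mpr (h b hb)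

theorem smul_insert_eq {k : Equiv.Perm GolayPt} {x : GolayPt} {R : Finset GolayPt} (hx : k x = x) (hR : k • R = R) :
    k • insert x R = insert x R := by
  rw [Finset.smul_finset_insert, hR]
  congr 1

theorem mem_smul_iff' (k : Equiv.Perm GolayPt) (s : Finset GolayPt) (p : GolayPt) : k p ∈ k • s ↔ p ∈ s := by
  rw [mem_smul_perm_iff]
  simp

theorem fixH_pair_comm (K : Subgroup (Equiv.Perm GolayPt)) (x y : GolayPt) :
    fixH (fixH K {x}) {y} = fixH (fixH K {y}) {x} := by
  rw [fixH_fixH, fixH_fixH, Finset.union_comm]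

theorem card_compl_four {T : Finset GolayPt} (hT : T.card = 4) : (Finset.univ \ T).card = 20 := by
  rw [Finset.card_sdiff_of_subset (Finset.subset_univ T), card_univ_golay, hT]

end P3T

open P3T

/-- P3T -/
theorem part3_sextet (hM : K ≤ M24) (hT : Trans K) {o : Finset GolayPt} (ho : o ∈ octads) (hQ : fixG o ≤ K)
    {x : GolayPt} (hxo : x ∈ o) {R : Finset GolayPt} (hRo : R ⊆ o.erase x) (hRc : R.card = 3)
    (hstab : ∀ k ∈ fixH K {x}, k • R = R)
    (htr : ∀ a b : GolayPt, a ∉ insert x R → b ∉ insert x R → ∃ k ∈ fixH K {x}, k a = b) :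
    ∃ S ∈ sextets, ∀ k ∈ K, k • S = S := by
  classical
  have hxR : x ∉ R := fun h => (Finset.notMem_erase x o) (hRo h)
  set T : Finset GolayPt := insert x R with hTdef
  have hTc : T.card = 4 := by rw [hTdef, Finset.card_insert_of_notMem hxR, hRc]
  have hTo : T ⊆ o := by
    intro q hq
    rw [hTdef, Finset.mem_insert] at hq
    rcases hq with rfl | hq
    · exact hxo
    · exact Finset.mem_of_mem_erase (hRo hq)
  have hxT : x ∈ T := Finset.mem_insert_self x R
  have hTstab : ∀ k ∈ fixH K {x}, k • T = T := by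
    intro k hk
    exact smul_insert_eq ((mem_fixH_singleton K x k).mp hk).2 (hstab k hk)
  -- all point stabilisers have the same order
  set c := Nat.card (fixH K {x}) with hc
  have hcpos : 0 < c := card_pos_sub _
  have hcard_pt : ∀ y, Nat.card (fixH K {y}) = c := by
    intro y
    have h1 := card_of_trans hT y
    have h2 := card_of_trans hT x
    omega
  -- conjugates
  have hconj_stab : ∀ k ∈ K, ∀ u ∈ fixH K {k x}, u • (k • T) = k • T := by
    intro k hk u hu
    have h1 := hTstab _ (conj_mem_fixH' hk x hu)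
    have : u • (k • T) = k • ((k⁻¹ * u * k) • T) := by
      simp only [mul_smul, smul_inv_smul]
    rw [this, h1]
  have hconj_tr : ∀ k ∈ K, ∀ a b : GolayPt, a ∉ k • T → b ∉ k • T → ∃ u ∈ fixH K {k x}, u a = b := by
    intro k hk a b ha hb
    have ha' : k⁻¹ a ∉ T := by rwa [mem_smul_perm_iff] at ha
    have hb' : k⁻¹ b ∉ T := by rwa [mem_smul_perm_iff] at hb
    obtain ⟨u, hu, hua⟩ := htr _ _ ha' hb'
    refine ⟨k * u * k⁻¹, conj_mem_fixH hk x hu, ?_⟩
    simp only [Equiv.Perm.mul_apply]
    rw [hua]
    simp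
  -- Claim 1
  have claim1 : ∀ y ∈ R, ∀ k ∈ K, k x = y → k • T = T := by
    intro y hyR k hk hky
    have hyT : y ∈ T := Finset.mem_insert_of_mem hyR
    have hxy : x ≠ y := fun h => hxR (h ▸ hyR)
    -- orbit of y under K_x
    have h_i : (orbF (fixH K {x}) y).card ≤ 3 := by
      rw [← hRc]
      apply card_orbF_le_of_subset
      intro u hu
      rw [← hstab u hu]
      exact (mem_smul_iff' u R y).mpr hyR
    have e1 := card_eq_orbF_mul (fixH K {x}) y
    have e2 := card_eq_orbF_mul (fixH K {y}) x
    rw [hcard_pt y, ← fixH_pair_comm K x y] at e2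
    rw [← hc] at e1
    set cxy := Nat.card (fixH (fixH K {x}) {y}) with hcxy
    have hcxy_pos : 0 < cxy := card_pos_sub _
    have h_ii : (orbF (fixH K {y}) x).card ≤ 3 := by
      have : (orbF (fixH K {y}) x).card * cxy = (orbF (fixH K {x}) y).card * cxy := by rw [← e1, ← e2]
      have := Nat.eq_of_mul_eq_mul_right hcxy_pos this
      omega
    -- x lies in k • T
    have hyT' : y ∈ k • T := by rw [← hky]; exact (mem_smul_iff' k T x).mpr hxT
    have hxT' : x ∈ k • T := by
      by_contra hx'
      have h20 : (Finset.univ \ (k • T)).card ≤ (orbF (fixH K {y}) x).card := by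
        apply card_le_card_orbF
        intro b hb
        rw [Finset.mem_sdiff] at hb
        have := hconj_tr k hk x b hx' hb.2
        rwa [hky] at this
      rw [card_compl_four (by rw [Finset.card_smul_finset, hTc])] at h20
      omega
    -- the difference
    have hD : k • T \ T = ∅ := by
      by_contra hne
      obtain ⟨w, hw⟩ := Finset.nonempty_iff_ne_empty.mpr hne
      rw [Finset.mem_sdiff] at hw
      have hDc : (k • T \ T).card ≤ 2 := by
        have h1 : ({x, y} : Finset GolayPt) ⊆ k • T ∩ T := by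
          intro q hq
          rw [Finset.mem_insert, Finset.mem_singleton] at hq
          rcases hq with rfl | rfl
          · exact Finset.mem_inter.mpr ⟨hxT', hxT⟩
          · exact Finset.mem_inter.mpr ⟨hyT', hyT⟩
        have h2 : ({x, y} : Finset GolayPt).card = 2 := Finset.card_pair hxy
        have h3 := Finset.card_le_card h1
        have h4 := Finset.card_sdiff_add_card_inter (k • T) T
        rw [Finset.card_smul_finset, hTc] at h4
        omega
      -- orbit of w under K_xy
      have hstabD : ∀ u ∈ fixH (fixH K {x}) {y}, u w ∈ k • T \ T := by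
        intro u hu
        have hu1 : u ∈ fixH K {x} := fixH_le _ _ hu
        have hu2 : u ∈ fixH K {y} := by
          rw [fixH_pair_comm] at hu
          exact fixH_le _ _ hu
        rw [Finset.mem_sdiff]
        constructor
        · have := hconj_stab k hk u (by rw [hky]; exact hu2)
          rw [← this]
          exact (mem_smul_iff' u _ w).mpr hw.1
        · intro h
          rw [← hTstab u hu1] at h
          exact hw.2 ((mem_smul_iff' u T w).mp h)
      have hO2 : (orbF (fixH (fixH K {x}) {y}) w).card ≤ 2 :=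
        (card_orbF_le_of_subset _ w _ hstabD).trans hDc
      have e3 := card_eq_orbF_mul (fixH (fixH K {x}) {y}) w
      have e4 := card_eq_orbF_mul (fixH K {x}) w
      rw [← hc] at e4
      have hle : fixH (fixH (fixH K {x}) {y}) {w} ≤ fixH (fixH K {x}) {w} := by
        intro u hu
        rw [mem_fixH] at hu ⊢
        exact ⟨fixH_le _ _ hu.1, hu.2⟩
      have hle' := Subgroup.card_le_of_le hle
      have h20 : 20 ≤ (orbF (fixH K {x}) w).card := by
        rw [← card_compl_four hTc]
        apply card_le_card_orbF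
        intro b hb
        rw [Finset.mem_sdiff] at hb
        exact htr w b hw.2 hb.2
      rw [← hcxy] at e3
      set cw := Nat.card (fixH (fixH K {x}) {w})
      set cxyw := Nat.card (fixH (fixH (fixH K {x}) {y}) {w})
      -- c = orb_x(w) * cw ≥ 20 cw ≥ 20 cxyw ; cxy = orb_xy(w) * cxyw ≤ 2 cxyw ; c = orb_x(y) * cxy ≤ 3 cxy ≤ 6 cxyw
      have hcxyw_pos : 0 < cxyw := card_pos_sub _
      have h1 : 20 * cxyw ≤ c := by
        calc 20 * cxyw ≤ 20 * cw := Nat.mul_le_mul_left _ hle'
          _ ≤ (orbF (fixH K {x}) w).card * cw := Nat.mul_le_mul_right _ h20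
          _ = c := e4.symm
      have h2 : cxy ≤ 2 * cxyw := by
        rw [e3]; exact Nat.mul_le_mul_right _ hO2
      have h3 : c ≤ 3 * cxy := by
        rw [e1]; exact Nat.mul_le_mul_right _ h_i
      omega
    apply Finset.eq_of_subset_of_card_le
    · exact Finset.sdiff_eq_empty_iff_subset.mp hD
    · rw [Finset.card_smul_finset]
  -- every element mapping x into T stabilises T
  have claim1' : ∀ k ∈ K, k x ∈ T → k • T = T := by
    intro k hk hkx
    rw [hTdef, Finset.mem_insert] at hkx
    rcases hkx with h | h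
    · exact hTstab k ((mem_fixH_singleton K x k).mpr ⟨hk, h⟩)
    · exact claim1 _ h k hk rfl
  -- Claim 2
  have claim2 : ∀ k ∈ K, ∀ k' ∈ K, k x = k' x → k • T = k' • T := by
    intro k hk k' hk' h
    have hmem : k⁻¹ * k' ∈ fixH K {x} := by
      rw [mem_fixH_singleton]
      refine ⟨K.mul_mem (K.inv_mem hk) hk', ?_⟩
      rw [Equiv.Perm.mul_apply, ← h]
      simp
    have := hTstab _ hmem
    rw [mul_smul] at this
    calc k • T = k • (k⁻¹ • k' • T) := by rw [this]
      _ = k' • T := smul_inv_smul k _
  -- Claim 3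
  have claim3 : ∀ k ∈ K, ∀ k' ∈ K, ∀ r, r ∈ k • T → r ∈ k' • T → k • T = k' • T := by
    intro k hk k' hk' r hr hr'
    rw [mem_smul_perm_iff] at hr hr'
    obtain ⟨kt, hkt, hktx⟩ := hT x (k⁻¹ r)
    obtain ⟨kt', hkt', hktx'⟩ := hT x (k'⁻¹ r)
    have h1 : kt • T = T := claim1' kt hkt (by rw [hktx]; exact hr)
    have h2 : kt' • T = T := claim1' kt' hkt' (by rw [hktx']; exact hr')
    have h3 : (k * kt) x = (k' * kt') x := by
      simp only [Equiv.Perm.mul_apply]
      rw [hktx, hktx']
      simp
    have := claim2 _ (K.mul_mem hk hkt) _ (K.mul_mem hk' hkt') h3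
    rwa [mul_smul, mul_smul, h1, h2] at this
  -- Claim 4
  set W : Finset GolayPt := o \ T with hWdef
  have hWc : W.card = 4 := by rw [hWdef, Finset.card_sdiff_of_subset hTo, ho.2, hTc]
  have claim4 : ∀ a ∈ W, ∀ k ∈ K, k x = a → k • T = W := by
    intro a haW k hk hka
    rw [hWdef, Finset.mem_sdiff] at haW
    have haT' : a ∈ k • T := by rw [← hka]; exact (mem_smul_iff' k T x).mpr hxT
    -- fixG o stabilises k • T
    have hQstab : ∀ u ∈ fixG o, u • (k • T) = k • T := by
      intro u hu
      apply hconj_stab k hk u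
      rw [mem_fixH_singleton, hka]
      exact ⟨hQ hu, ((mem_fixG o u).mp hu).2 a haW.1⟩
    have hsub_o : k • T ⊆ o := by
      by_contra hns
      rw [Finset.not_subset] at hns
      obtain ⟨w', hw'T, hw'o⟩ := hns
      have h16 : (Finset.univ \ o) ⊆ (k • T).erase a := by
        intro b hb
        rw [Finset.mem_sdiff] at hb
        obtain ⟨u, hu, hub⟩ := fixG_octad_trans ho hw'o hb.2
        rw [Finset.mem_erase]
        refine ⟨fun h => hb.2 (h ▸ haW.1), ?_⟩
        rw [← hub, ← hQstab u hu]
        exact (mem_smul_iff' u _ w').mpr hw'T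
      have h1 := Finset.card_le_card h16
      rw [Finset.card_sdiff_of_subset (Finset.subset_univ o), card_univ_golay, ho.2,
        Finset.card_erase_of_mem haT', Finset.card_smul_finset, hTc] at h1
      omega
    have hdisj : ∀ q ∈ k • T, q ∉ T := by
      intro q hq hqT
      have h1 : q ∈ (1 : Equiv.Perm GolayPt) • T := by rwa [one_smul]
      have := claim3 k hk 1 K.one_mem q hq h1
      rw [one_smul] at this
      rw [this] at haT'
      exact haW.2 haT'
    apply Finset.eq_of_subset_of_card_le
    · intro q hq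
      rw [hWdef, Finset.mem_sdiff]
      exact ⟨hsub_o hq, hdisj q hq⟩
    · rw [hWc, Finset.card_smul_finset, hTc]
  -- the sextet
  have hS : sextetOf T ∈ sextets := sextetOf_mem hTc
  have hWS : W ∈ sextetOf T := by
    rw [sextetOf, Finset.mem_insert, Finset.mem_image]
    right
    exact ⟨o, (mem_octThrough T o).mpr ⟨ho, hTo⟩, rfl⟩
  have claim6 : ∀ k ∈ K, k • T ∈ sextetOf T := by
    intro k hk
    by_cases hkx : k x ∈ T
    · rw [claim1' k hk hkx]
      exact mem_sextetOf_self T
    · have hWne : W.Nonempty := by rw [← Finset.card_pos, hWc]; norm_num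
      obtain ⟨w, hw⟩ := hWne
      obtain ⟨kw, hkw, hkwx⟩ := hT x w
      have h4 := claim4 w hw kw hkw hkwx
      have hwT : w ∉ T := by
        rw [hWdef, Finset.mem_sdiff] at hw
        exact hw.2
      obtain ⟨h, hh, hhw⟩ := htr w (k x) hwT hkx
      have hhK : h ∈ K := fixH_le _ _ hh
      have h5 : (h * kw) x = k x := by
        rw [Equiv.Perm.mul_apply, hkwx, hhw]
      have h6 := claim2 _ (K.mul_mem hhK hkw) k hk h5
      rw [mul_smul, h4] at h6
      rw [← h6]
      have h7 : h • sextetOf T = sextetOf T := by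
        rw [smul_sextetOf (hM hhK) hTc, hTstab h hh]
      rw [← h7]
      exact Finset.smul_mem_smul_finset hWS
  refine ⟨sextetOf T, hS, ?_⟩
  intro k hk
  rw [smul_sextetOf (hM hk) hTc]
  exact (eq_sextetOf (by rw [Finset.card_smul_finset, hTc]) hS (claim6 k hk)).symm

end Cfsg.Agent.S1589P
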