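import Cfsg.Agent.Helper22.S1589Basic

/-! S1589 piece PART2: a subgroup of order 887040 of `M24` stabilises a pair of points. -/

set_option autoImplicit false
set_option linter.all false

namespace Cfsg.Agent.S1589P

open Cfsg Cfsg.Agent.Helper27 Cfsg.Agent.Helper17.M23Idx
open scoped Pointwise

variable {K : Subgroup (Equiv.Perm GolayPt)}

namespace PART2

theorem even_orb (hM : K ≤ M24) (hcard : Nat.card K = 887040) (x : GolayPt) : (orbF K x).card % 2 = 0 := by
  have h1 := card_eq_orbF_mul K x
  have h2 := card_fixH_dvd hM x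
  rw [hcard] at h1
  by_contra hodd
  have hodd' : ¬ 2 ∣ (orbF K x).card := fun h => hodd (Nat.mod_eq_zero_of_dvd h)
  have hc : Nat.Coprime 256 (orbF K x).card := by
    rw [show 256 = 2 ^ 8 from rfl]
    apply Nat.Coprime.pow_left
    exact (Nat.Prime.coprime_iff_not_dvd Nat.prime_two).mpr hodd'
  have h256 : 256 ∣ (orbF K x).card * Nat.card (fixH K {x}) := by rw [← h1]; norm_num
  have h3 : 256 ∣ Nat.card (fixH K {x}) := hc.dvd_of_dvd_mul_left h256
  have h4 := h3.trans h2
  norm_num at h4

theorem smul_orbF (K : Subgroup (Equiv.Perm GolayPt)) (x : GolayPt) {k : Equiv.Perm GolayPt} (hk : k ∈ K) :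
    k • orbF K x = orbF K x :=
  smul_eq_of_maps (fun b hb => (orbF_inv K x hk b).mpr hb)

theorem card_orbF_le (K : Subgroup (Equiv.Perm GolayPt)) (x : GolayPt) : (orbF K x).card ≤ 24 := by
  rw [← card_univ_golay]
  exact Finset.card_le_card (Finset.subset_univ _)

/-- no invariant set of 12 points when there is an element of order 7 -/
theorem no_twelve (hM : K ≤ M24) (h7 : 7 ∣ Nat.card K) (D : Finset GolayPt) (hD : ∀ k ∈ K, ∀ b, k b ∈ D ↔ b ∈ D)
    (hc : D.card = 12) : False := by
  haveI : Fact (Nat.Prime 7) := ⟨by norm_num⟩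
  obtain ⟨h, hhK, hh7⟩ := exists_orderOf_mem K 7 h7
  have hfix := seven_fixed (hM hhK) hh7
  have := (inv_card_mod_le (pow_eq_one_of_orderOf hh7) D (hD h hhK) (by rw [hfix]; norm_num)).1
  rw [hc, hfix] at this
  norm_num at this

end PART2

open PART2

/-- PART2 -/
theorem part2 (hM : K ≤ M24) (hcard : Nat.card K = 887040) :
    ∃ s : Finset GolayPt, s.card = 2 ∧ ∀ k ∈ K, k • s = s := by
  classical
  haveI : Fact (Nat.Prime 11) := ⟨by norm_num⟩
  haveI : Fact (Nat.Prime 7) := ⟨by norm_num⟩
  obtain ⟨g, hgK, hg11⟩ := exists_orderOf_mem K 11 (by rw [hcard]; norm_num)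
  have hgM := hM hgK
  have hfix := eleven_fixed hgM hg11
  obtain ⟨p, q, hpq, hfixeq⟩ := Finset.card_eq_two.mp hfix
  have hgp : g p = p := by
    rw [← mem_fix_iff, hfixeq]; simp
  have hgq : g q = q := by
    rw [← mem_fix_iff, hfixeq]; simp
  have hfixmem : ∀ b, g b = b → b = p ∨ b = q := by
    intro b hb
    rw [← mem_fix_iff, hfixeq] at hb
    simpa using hb
  have hOinv : ∀ b, g b ∈ orbF K p ↔ b ∈ orbF K p := orbF_inv K p hgK
  have hmod := inv_card_mod_le (pow_eq_one_of_orderOf hg11) (orbF K p) hOinv (by rw [hfix]; norm_num)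
  have hpO : p ∈ orbF K p := self_mem_orbF K p
  have hpos : 1 ≤ (orbF K p ∩ g.supportᶜ).card := by
    rw [Nat.one_le_iff_ne_zero, Finset.card_ne_zero]
    exact ⟨p, Finset.mem_inter.mpr ⟨hpO, (mem_fix_iff g p).mpr hgp⟩⟩
  have hle2 : (orbF K p ∩ g.supportᶜ).card ≤ 2 := by
    rw [← hfix]; exact Finset.card_le_card Finset.inter_subset_right
  have hOle := card_orbF_le K p
  have heven := even_orb hM hcard p
  have hcases : (orbF K p).card = 2 ∨ (orbF K p).card = 12 ∨ (orbF K p).card = 24 := by
    have h11 : (orbF K p).card % 11 = 1 ∨ (orbF K p).card % 11 = 2 := by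
      have := hmod.2
      omega
    have hdec : ∀ n ≤ 24, n % 2 = 0 → (n % 11 = 1 ∨ n % 11 = 2) → n = 2 ∨ n = 12 ∨ n = 24 := by decide
    exact hdec _ hOle heven h11
  rcases hcases with h2 | h12 | h24
  · exact ⟨orbF K p, h2, fun k hk => smul_orbF K p hk⟩
  · exact (no_twelve hM (by rw [hcard]; norm_num) (orbF K p) (fun k hk => orbF_inv K p hk) h12).elim
  · exfalso
    have hT : Trans K := trans_of_card_orbF h24
    have hKp : Nat.card (fixH K {p}) = 36960 := by
      have := card_of_trans hT p
      rw [hcard] at this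
      omega
    have hcardpt : ∀ y, Nat.card (fixH K {y}) = 36960 := by
      intro y
      have := card_of_trans hT y
      rw [hcard] at this
      omega
    have hKpM : fixH K {p} ≤ M24 := (fixH_le K {p}).trans hM
    have hgKp : g ∈ fixH K {p} := (mem_fixH_singleton K p g).mpr ⟨hgK, hgp⟩
    -- the orbit of q under the stabiliser of p
    have hO'inv : ∀ b, g b ∈ orbF (fixH K {p}) q ↔ b ∈ orbF (fixH K {p}) q := orbF_inv _ q hgKp
    have hmod' := inv_card_mod_le (pow_eq_one_of_orderOf hg11) (orbF (fixH K {p}) q) hO'inv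
      (by rw [hfix]; norm_num)
    have hqO' : q ∈ orbF (fixH K {p}) q := self_mem_orbF _ q
    have hpO' : p ∉ orbF (fixH K {p}) q := by
      intro h
      obtain ⟨k, hk, hkq⟩ := (mem_orbF _ q p).mp h
      have hkp := ((mem_fixH_singleton K p k).mp hk).2
      have : k q = k p := by rw [hkq, hkp]
      exact hpq (k.injective this).symm
    have hinter : orbF (fixH K {p}) q ∩ g.supportᶜ = {q} := by
      ext b
      rw [Finset.mem_inter, mem_fix_iff, Finset.mem_singleton]
      constructor
      · rintro ⟨hb1, hb2⟩
        rcases hfixmem b hb2 with rfl | rfl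
        · exact (hpO' hb1).elim
        · rfl
      · rintro rfl
        exact ⟨hqO', hgq⟩
    have hmod1 : (orbF (fixH K {p}) q).card % 11 = 1 := by
      rw [hmod'.2, hinter, Finset.card_singleton]
    have hdvd : (orbF (fixH K {p}) q).card ∣ 36960 := by
      have := card_eq_orbF_mul (fixH K {p}) q
      rw [hKp] at this
      exact Dvd.intro _ this.symm
    have hO'le := card_orbF_le (fixH K {p}) q
    have hcases' : (orbF (fixH K {p}) q).card = 1 ∨ (orbF (fixH K {p}) q).card = 12 := by
      have h23 : (orbF (fixH K {p}) q).card ≠ 23 := by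
        intro h
        rw [h] at hdvd
        norm_num at hdvd
      have hdec : ∀ n ≤ 24, n % 11 = 1 → n ≠ 23 → n = 1 ∨ n = 12 := by decide
      exact hdec _ hO'le hmod1 h23
    rcases hcases' with h1 | h12'
    swap
    · exact no_twelve hKpM (by rw [hKp]; norm_num) _ (fun k hk => orbF_inv _ q hk) h12'
    -- the stabiliser of p fixes q
    have hfixq : ∀ k ∈ fixH K {p}, k q = q := by
      intro k hk
      have hkq : k q ∈ orbF (fixH K {p}) q := (mem_orbF _ q _).mpr ⟨k, hk, rfl⟩
      obtain ⟨c, hc⟩ := Finset.card_eq_one.mp h1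
      rw [hc, Finset.mem_singleton] at hkq
      rw [hc, Finset.mem_singleton] at hqO'
      rw [hkq, hqO']
    have hpq_le : fixH K {p} ≤ fixH K {q} := by
      intro k hk
      exact (mem_fixH_singleton K q k).mpr ⟨((mem_fixH_singleton K p k).mp hk).1, hfixq k hk⟩
    haveI : Finite K := Nat.finite_of_card_ne_zero (by rw [hcard]; norm_num)
    haveI : Finite (fixH K {q}) := Nat.finite_of_card_ne_zero (by rw [hcardpt q]; norm_num)
    have hpq_eq : fixH K {p} = fixH K {q} :=
      Subgroup.eq_of_le_of_card_ge hpq_le (by rw [hcardpt p, hcardpt q])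
    -- an element of order 7 in the stabiliser of p
    obtain ⟨h, hhKp, hh7⟩ := exists_orderOf_mem (fixH K {p}) 7 (by rw [hKp]; norm_num)
    have hhK : h ∈ K := ((mem_fixH_singleton K p h).mp hhKp).1
    have hhp : h p = p := ((mem_fixH_singleton K p h).mp hhKp).2
    have hhq : h q = q := hfixq h hhKp
    have hfix7 := seven_fixed (hM hhK) hh7
    -- a third fixed point
    have hex : ∃ a, h a = a ∧ a ≠ p ∧ a ≠ q := by
      by_contra hne
      push Not at hne
      have hsub : h.supportᶜ ⊆ {p, q} := by
        intro b hb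
        rw [mem_fix_iff] at hb
        by_cases hbp : b = p
        · rw [hbp]; simp
        · have := hne b hb hbp
          rw [this]; simp
      have := Finset.card_le_card hsub
      rw [hfix7] at this
      have h2 : ({p, q} : Finset GolayPt).card ≤ 2 := Finset.card_le_two
      omega
    obtain ⟨a, hha, hap, haq⟩ := hex
    obtain ⟨k, hkK, hka⟩ := hT p a
    -- the stabiliser of a fixes k q
    have hfixa' : ∀ u ∈ fixH K {a}, u (k q) = k q := by
      intro u hu
      have hu' : u ∈ fixH K {k p} := by rw [hka]; exact hu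
      have h1 := conj_mem_fixH' hkK p hu'
      have h2 := hfixq _ h1
      simp only [Equiv.Perm.mul_apply] at h2
      have := congrArg k h2
      simpa using this
    have hhKa : h ∈ fixH K {a} := (mem_fixH_singleton K a h).mpr ⟨hhK, hha⟩
    have hha' : h (k q) = k q := hfixa' h hhKa
    -- if the stabiliser of a fixes p or q it equals the stabiliser of p, which does not fix a
    have hnot : ∀ r, (r = p ∨ r = q) → ¬ (∀ u ∈ fixH K {a}, u r = r) := by
      intro r hr hall
      have hle : fixH K {a} ≤ fixH K {p} := by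
        intro u hu
        rcases hr with rfl | rfl
        · exact (mem_fixH_singleton K r u).mpr ⟨((mem_fixH_singleton K a u).mp hu).1, hall u hu⟩
        · rw [hpq_eq]
          exact (mem_fixH_singleton K r u).mpr ⟨((mem_fixH_singleton K a u).mp hu).1, hall u hu⟩
      haveI : Finite (fixH K {p}) := Nat.finite_of_card_ne_zero (by rw [hcardpt p]; norm_num)
      have heq : fixH K {a} = fixH K {p} :=
        Subgroup.eq_of_le_of_card_ge hle (by rw [hcardpt p, hcardpt a])
      have hga : g ∈ fixH K {a} := by rw [heq]; exact hgKp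
      have := ((mem_fixH_singleton K a g).mp hga).2
      rcases hfixmem a this with h | h
      · exact hap h
      · exact haq h
    have ha'p : k q ≠ p := fun h => hnot p (Or.inl rfl) (by intro u hu; rw [← h]; exact hfixa' u hu)
    have ha'q : k q ≠ q := fun h => hnot q (Or.inr rfl) (by intro u hu; rw [← h]; exact hfixa' u hu)
    have ha'a : k q ≠ a := by
      intro h
      rw [← hka] at h
      exact hpq (k.injective h).symm
    -- four fixed points
    have hsub : ({p, q, a, k q} : Finset GolayPt) ⊆ h.supportᶜ := by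
      intro b hb
      rw [mem_fix_iff]
      simp only [Finset.mem_insert, Finset.mem_singleton] at hb
      rcases hb with rfl | rfl | rfl | rfl
      · exact hhp
      · exact hhq
      · exact hha
      · exact hha'
    have hc4 : ({p, q, a, k q} : Finset GolayPt).card = 4 := by
      rw [Finset.card_insert_of_notMem, Finset.card_insert_of_notMem, Finset.card_insert_of_notMem,
        Finset.card_singleton]
      · simp only [Finset.mem_singleton]; exact fun h => ha'a h.symm
      · simp only [Finset.mem_insert, Finset.mem_singleton]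
        rintro (h | h)
        · exact haq h.symm
        · exact ha'q h.symm
      · simp only [Finset.mem_insert, Finset.mem_singleton]
        rintro (h | h | h)
        · exact hpq h
        · exact hap h.symm
        · exact ha'p h.symm
    have := Finset.card_le_card hsub
    rw [hc4, hfix7] at this
    omega

end Cfsg.Agent.S1589P
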