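import Mathlib
import Cfsg.Prelude.Def_FischerSpaces
import Cfsg.Agent.Helper22.S1615Defs

set_option autoImplicit false
set_option linter.unusedVariables false

/-!
# S1615 pieces CLAIMA and LAM0: the local `W(D₅)` lemma and `λ = 0`
-/

namespace Cfsg.Agent.S1615P

variable {G : Type*} [Group G]

namespace LAM0

/-- word identities in a quotient of `W(D₅)` -/
theorem wJ2 {a d f : G} (haa : a * a = 1) (hdd : d * d = 1) (hff : f * f = 1)
    (hbad : d * a * d = a * d * a) (hbaf : f * a * f = a * f * a) :
    (a * f * d * a) * d * (a * d * f * a) = f := by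
  calc (a * f * d * a) * d * (a * d * f * a)
      = a * f * (d * (a * d * a) * d) * f * a := by simp only [mul_assoc]
    _ = a * f * (d * (d * a * d) * d) * f * a := by rw [hbad]
    _ = a * f * ((d * d) * a * (d * d)) * f * a := by simp only [mul_assoc]
    _ = a * f * a * f * a := by rw [hdd]; simp only [mul_assoc, one_mul, mul_one]
    _ = (a * f * a) * f * a := by simp only [mul_assoc]
    _ = (f * a * f) * f * a := by rw [hbaf]
    _ = f * a * (f * f) * a := by simp only [mul_assoc]
    _ = f := by rw [hff, mul_one, mul_assoc, haa, mul_one]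

theorem wJ1 {a d f : G} (haa : a * a = 1) (hdd : d * d = 1) (hff : f * f = 1)
    (hbad : d * a * d = a * d * a) (hbaf : f * a * f = a * f * a) (hdf : d * f = f * d) :
    (a * f * d * a) * f * (a * d * f * a) = d := by
  have hfdf : f * d * f = d := by rw [← hdf, mul_assoc, hff, mul_one]
  calc (a * f * d * a) * f * (a * d * f * a)
      = a * f * d * (a * f * a) * d * f * a := by simp only [mul_assoc]
    _ = a * f * d * (f * a * f) * d * f * a := by rw [hbaf]
    _ = a * (f * d * f) * a * (f * d * f) * a := by simp only [mul_assoc]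
    _ = a * d * a * d * a := by rw [hfdf]
    _ = (a * d * a) * d * a := by simp only [mul_assoc]
    _ = (d * a * d) * d * a := by rw [hbad]
    _ = d * a * (d * d) * a := by simp only [mul_assoc]
    _ = d := by rw [hdd, mul_one, mul_assoc, haa, mul_one]

theorem wInv {a d f : G} (haa : a * a = 1) (hdd : d * d = 1) (hff : f * f = 1) :
    (a * f * d * a)⁻¹ = a * d * f * a := by
  apply inv_eq_of_mul_eq_one_right
  calc a * f * d * a * (a * d * f * a) = a * f * d * (a * a) * d * f * a := by simp only [mul_assoc]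
    _ = a * f * (d * d) * f * a := by rw [haa]; simp only [mul_assoc, mul_one]
    _ = a * (f * f) * a := by rw [hdd]; simp only [mul_assoc, mul_one]
    _ = 1 := by rw [hff, mul_one, haa]

theorem wJ3 {a d f e : G} (haa : a * a = 1) (hdd : d * d = 1) (hff : f * f = 1)
    (hdf : d * f = f * d) (hde : d * e = e * d) (hae : a * e = e * a) :
    (a * f * d * a) * (a * (f * e * f) * a) * (a * d * f * a) = e := by
  calc (a * f * d * a) * (a * (f * e * f) * a) * (a * d * f * a)
      = a * f * d * (a * a) * f * e * f * (a * a) * d * f * a := by simp only [mul_assoc]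
    _ = a * f * d * f * e * f * d * f * a := by rw [haa]; simp only [mul_assoc, mul_one]
    _ = a * f * (d * f) * e * (f * d) * f * a := by simp only [mul_assoc]
    _ = a * f * (f * d) * e * (d * f) * f * a := by rw [hdf]
    _ = a * (f * f) * (d * e) * d * (f * f) * a := by simp only [mul_assoc]
    _ = a * (e * d) * d * a := by rw [hff, hde]; simp only [mul_assoc, mul_one]
    _ = a * e * (d * d) * a := by simp only [mul_assoc]
    _ = (a * e) * a := by rw [hdd, mul_one]
    _ = e := by rw [hae, mul_assoc, haa, mul_one]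

variable {D : Set G}

theorem sq (hD : Cfsg.IsThreeTranspositionGroup D) {x : G} (hx : x ∈ D) : x * x = 1 := by
  have := pow_orderOf_eq_one x
  rw [hD.1.1 x hx, pow_two] at this
  exact this

theorem cube (hD : Cfsg.IsThreeTranspositionGroup D) {x y : G} (hx : x ∈ D) (hy : y ∈ D)
    (hnc : ¬ Commute x y) : (x * y) ^ 3 = 1 := by
  have hx2 := sq hD hx
  have hy2 := sq hD hy
  rcases hD.1.2 x hx y hy with h | h
  · exfalso
    apply hnc
    have h1 : x * y * (x * y) = 1 := by rw [← pow_two]; exact h
    have h2 : x * y = (x * y)⁻¹ := eq_inv_of_mul_eq_one_left h1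
    rw [mul_inv_rev, inv_eq_of_mul_eq_one_left hx2, inv_eq_of_mul_eq_one_left hy2] at h2
    exact h2
  · exact h

/-- Braid relation for two non-commuting members. -/
theorem braid (hD : Cfsg.IsThreeTranspositionGroup D) {x y : G} (hx : x ∈ D) (hy : y ∈ D)
    (hnc : ¬ Commute x y) : y * x * y = x * y * x := by
  have h := cube hD hx hy hnc
  have hx2 := sq hD hx
  have hy2 := sq hD hy
  have h1 : (x * y * x) * (y * x * y) = 1 := by
    rw [← h, pow_succ, pow_two]; group
  have h2 : y * x * y = (x * y * x)⁻¹ := eq_inv_of_mul_eq_one_right h1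
  rw [h2, mul_inv_rev, mul_inv_rev, inv_eq_of_mul_eq_one_left hx2,
    inv_eq_of_mul_eq_one_left hy2, mul_assoc]

theorem conj_mem' (hD : Cfsg.IsThreeTranspositionGroup D) {y x : G} (hy : y ∈ D) (hx : x ∈ D) :
    y * x * y ∈ D := by
  have := hD.2.1 y x hx
  rwa [inv_eq_of_mul_eq_one_left (sq hD hy)] at this

end LAM0

open LAM0

/-- CLAIMA: `e, f` twins in `D_d`, `a ∈ D` commuting with `e` but not with `f`, and `y ∈ D_d ∩ D_e`:
then `y` commutes with `a`. -/
theorem claimA {G : Type*} [Group G] {D : Set G} (hD : Cfsg.IsThreeTranspositionGroup D)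
    {d e f a y : G} (ht : Tw D d e f) (hd : d ∈ D) (ha : a ∈ D) (hae : a ≠ e)
    (hcae : Commute a e) (hnaf : ¬ Commute a f) (hy : y ∈ D) (hyd : y ≠ d) (hye : y ≠ e)
    (hcyd : Commute y d) (hcye : Commute y e) : Commute y a := by
  obtain ⟨he, hf, hed, hfd, hcde, hcdf, hnef, hall⟩ := ht
  have haa := sq hD ha
  have hdd := sq hD hd
  have hff := sq hD hf
  have hee := sq hD he
  have hyy := sq hD hy
  -- y commutes with f
  have hcyf : Commute y f := (hall y hy hyd hcyd.symm).1 hye hcye
  -- a does not commute with d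
  have hnad : ¬ Commute a d := by
    intro hc
    have had : a ≠ d := by
      rintro rfl
      exact hnaf hcdf
    exact hnaf ((hall a ha had hc.symm).1 hae hcae)
  by_contra hnya
  -- braid relations
  have hbad : d * a * d = a * d * a := braid hD ha hd hnad
  have hbaf : f * a * f = a * f * a := braid hD ha hf hnaf
  set w : G := a * f * d * a with hw
  have hwi : w⁻¹ = a * d * f * a := wInv haa hdd hff
  have hJ1 : w * f * w⁻¹ = d := by rw [hwi]; exact wJ1 haa hdd hff hbad hbaf hcdf.eq
  have hJ2 : w * d * w⁻¹ = f := by rw [hwi]; exact wJ2 haa hdd hff hbad hbaf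
  have hJ3 : w * (a * (f * e * f) * a) * w⁻¹ = e := by
    rw [hwi]; exact wJ3 haa hdd hff hcdf.eq hcde.eq hcae.eq
  set g : G := w * y * w⁻¹ with hg
  have hgD : g ∈ D := hD.2.1 w y hy
  -- g commutes with d and with f
  have hcgd : Commute g d := by
    rw [← hJ1, hg]
    exact (Commute.conj_iff w).mpr hcyf
  have hcgf : Commute g f := by
    rw [← hJ2, hg]
    exact (Commute.conj_iff w).mpr hcyd
  have hinj : ∀ {u v : G}, w * u * w⁻¹ = w * v * w⁻¹ → u = v := by
    intro u v huv
    exact mul_left_cancel (mul_right_cancel huv)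
  have hgd : g ≠ d := by
    intro h
    rw [← hJ1, hg] at h
    have hyf : y = f := hinj h
    rw [hyf] at hcye
    exact hnef hcye.symm
  have hgf : g ≠ f := by
    intro h
    rw [← hJ2, hg] at h
    exact hyd (hinj h)
  -- twins: g commutes with e
  have hcge : Commute g e := (hall g hgD hgd hcgd.symm).2 hgf hcgf
  -- so y commutes with a h a
  have hcy : Commute y (a * (f * e * f) * a) := by
    rw [← hJ3, hg] at hcge
    exact (Commute.conj_iff w).mp hcge
  -- h = f e f
  have hh : f * e * f ∈ D := conj_mem' hD hf he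
  have hcyh : Commute y (f * e * f) := (hcyf.mul_right hcye).mul_right hcyf
  -- a and h do not commute
  have hnah : ¬ Commute a (f * e * f) := by
    intro hc
    -- f = e h e since (e f)^3 = 1, i.e. e f e = f e f
    have hbef : f * e * f = e * f * e := braid hD he hf hnef
    have hf' : f = e * (f * e * f) * e := by
      rw [hbef]
      calc f = (e * e) * f * (e * e) := by rw [hee, one_mul, mul_one]
        _ = e * (e * f * e) * e := by simp only [mul_assoc]
    apply hnaf
    rw [hf']
    exact (hcae.mul_right hc).mul_right hcae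
  have hbah : (f * e * f) * a * (f * e * f) = a * (f * e * f) * a := braid hD ha hh hnah
  rw [← hbah] at hcy
  -- y commutes with h a h and with h, hence with a
  have hhh := sq hD hh
  have hfin : Commute y a := by
    have h1 : Commute y ((f * e * f) * ((f * e * f) * a * (f * e * f)) * (f * e * f)) :=
      (hcyh.mul_right hcy).mul_right hcyh
    have e1 : (f * e * f) * ((f * e * f) * a * (f * e * f)) * (f * e * f) = a := by
      calc (f * e * f) * ((f * e * f) * a * (f * e * f)) * (f * e * f)
          = ((f * e * f) * (f * e * f)) * a * ((f * e * f) * (f * e * f)) := by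
            simp only [mul_assoc]
        _ = a := by rw [hhh, one_mul, mul_one]
    rwa [e1] at h1
  exact hnya hfin

/-- LAM0: no two different members of any `D_d` commute. -/
theorem lam0 {G : Type*} [Group G] {D : Set G} (hD : Cfsg.IsThreeTranspositionGroup D)
    (F1 : ∀ d ∈ D, ∀ e ∈ D, e ≠ d → Commute d e → ∃ f, Tw D d e f)
    (F2 : ∀ p ∈ D, ∀ q ∈ D, ¬ Commute p q → ∃ x ∈ D, x ≠ p ∧ Commute x p ∧ ¬ Commute x q) :
    L0 D := by
  intro d hd e he y hy hed hyd hcde hcdy hcey
  by_contra hey
  have hconj := hD.2.1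
  -- a twin f of e
  obtain ⟨f, htw⟩ := F1 d hd e he hed hcde
  obtain ⟨-, hf, -, hfd, -, hcdf, hnef, hall⟩ := id htw
  have hye : y ≠ e := fun h => hey h.symm
  have hcyf : Commute y f := (hall y hy hyd hcdy).1 hye hcey.symm
  -- a ∈ D_e ∖ D_f
  obtain ⟨a, ha, hae, hcae, hnaf⟩ := F2 e he f hf hnef
  have hnad : ¬ Commute a d := by
    intro hc
    have had : a ≠ d := by
      rintro rfl
      exact hnaf hcdf
    exact hnaf ((hall a ha had hc.symm).1 hae hcae)
  have hcya : Commute y a := claimA hD htw hd ha hae hcae hnaf hy hyd hye hcdy.symm hcey.symm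
  -- a twin y' of y
  obtain ⟨y', htw'⟩ := F1 d hd y hy hyd hcdy
  obtain ⟨-, hy', -, hy'd, -, hcdy', hnyy', hall'⟩ := id htw'
  have hcey' : Commute e y' := (hall' e he hed hcde).1 hey hcey
  have hfy : f ≠ y := by
    rintro rfl
    exact hnef hcey
  have hcfy' : Commute f y' := (hall' f hf hfd hcdf).1 hfy hcyf.symm
  have hy'e : y' ≠ e := by
    rintro rfl
    exact hnyy' hcey.symm
  have hcy'a : Commute y' a :=
    claimA hD htw hd ha hae hcae hnaf hy' hy'd hy'e hcdy'.symm hcey'.symm
  -- move the base point d → a → f → e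
  have haa := sq hD ha
  have hdd := sq hD hd
  have hff := sq hD hf
  have hee := sq hD he
  have hbad : d * a * d = a * d * a := braid hD ha hd hnad
  have hbaf : f * a * f = a * f * a := braid hD ha hf hnaf
  have hbef : f * e * f = e * f * e := braid hD he hf hnef
  have inv2 : ∀ {u v : G}, u * u = 1 → v * v = 1 → (u * v)⁻¹ = v * u := by
    intro u v hu hv
    rw [mul_inv_rev, inv_eq_of_mul_eq_one_left hu, inv_eq_of_mul_eq_one_left hv]
  -- (d a) d (d a)⁻¹ = a
  have c1 : (d * a) * d * (d * a)⁻¹ = a := by
    rw [inv2 hdd haa]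
    calc d * a * d * (a * d) = d * (a * d * a) * d := by simp only [mul_assoc]
      _ = d * (d * a * d) * d := by rw [hbad]
      _ = (d * d) * a * (d * d) := by simp only [mul_assoc]
      _ = a := by rw [hdd, one_mul, mul_one]
  have c2 : (a * f) * a * (a * f)⁻¹ = f := by
    rw [inv2 haa hff]
    calc a * f * a * (f * a) = a * (f * a * f) * a := by simp only [mul_assoc]
      _ = a * (a * f * a) * a := by rw [hbaf]
      _ = (a * a) * f * (a * a) := by simp only [mul_assoc]
      _ = f := by rw [haa, one_mul, mul_one]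
  have c3 : (f * e) * f * (f * e)⁻¹ = e := by
    rw [inv2 hff hee]
    calc f * e * f * (e * f) = f * (e * f * e) * f := by simp only [mul_assoc]
      _ = f * (f * e * f) * f := by rw [hbef]
      _ = (f * f) * e * (f * f) := by simp only [mul_assoc]
      _ = e := by rw [hff, one_mul, mul_one]
  have t1 : Tw D a y y' := by
    have := htw'.conj_base hconj (c := d * a) (hcdy.mul_left hcya.symm) (hcdy'.mul_left hcy'a.symm)
    rwa [c1] at this
  have t2 : Tw D f y y' := by
    have := t1.conj_base hconj (c := a * f) (hcya.symm.mul_left hcyf.symm)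
      (hcy'a.symm.mul_left hcfy')
    rwa [c2] at this
  have t3 : Tw D e y y' := by
    have := t2.conj_base hconj (c := f * e) (hcyf.symm.mul_left hcey) (hcfy'.mul_left hcey')
    rwa [c3] at this
  -- x₁ ∈ D_y ∖ D_y'
  obtain ⟨x₁, hx₁, hx₁y, hcx₁y, hnx₁y'⟩ := F2 y hy y' hy' hnyy'
  -- x₁ does not commute with e (twins at e)
  obtain ⟨-, -, -, -, hcey1, hcey'1, -, hall3⟩ := id t3
  have hnx₁e : ¬ Commute x₁ e := by
    intro hc
    have hx₁e : x₁ ≠ e := by
      rintro rfl
      exact hnx₁y' hcey'
    exact hnx₁y' ((hall3 x₁ hx₁ hx₁e hc.symm).1 hx₁y hcx₁y)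
  -- but claimA at (d; y, y') says e commutes with x₁
  have := claimA hD htw' hd hx₁ hx₁y hcx₁y hnx₁y' he hed hey hcde.symm hcey
  exact hnx₁e this.symm

end Cfsg.Agent.S1615P
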