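import Mathlib
import Cfsg.Agent.Helper22.S1615Defs
import Cfsg.Agent.Helper22.S1615LAM0
import Cfsg.Agent.Helper16.F3Glue
import Cfsg.Agent.Helper17.S1615SEP
import Cfsg.Agent.Helper18.S1615COUNT
import Cfsg.Agent.Helper25.S1615CONG

set_option autoImplicit false
set_option linter.unusedVariables false

/-!
# S1615 piece MU1: two non-commuting members of `D` have exactly one common commuting member
-/

namespace Cfsg.Agent.S1615P

open Cfsg.Agent.Helper16.F3 (Prim)

namespace MU1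

variable {G : Type*} [Group G] {D : Set G}

theorem conj_inj (g : G) : Function.Injective (fun y : G => g * y * g⁻¹) := by
  intro u v huv
  exact mul_left_cancel (mul_right_cancel huv)

/-- conjugation moves `D_d` to `D_{g d g⁻¹}`. -/
theorem image_Dd (hconj : ∀ g : G, ∀ x ∈ D, g * x * g⁻¹ ∈ D) (g d : G) :
    (fun y : G => g * y * g⁻¹) '' {y : G | y ∈ D ∧ y ≠ d ∧ Commute d y} =
      {y : G | y ∈ D ∧ y ≠ g * d * g⁻¹ ∧ Commute (g * d * g⁻¹) y} := by
  ext z
  constructor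
  · rintro ⟨y, ⟨hy, hyd, hc⟩, rfl⟩
    exact ⟨hconj g y hy, fun h => hyd (conj_inj g h), (Commute.conj_iff g).mpr hc⟩
  · rintro ⟨hz, hzd, hc⟩
    refine ⟨g⁻¹ * z * g, ⟨?_, ?_, ?_⟩, by group⟩
    · have := hconj g⁻¹ z hz
      rwa [inv_inv] at this
    · intro h
      apply hzd
      rw [← h]; group
    · have e1 : z = g * (g⁻¹ * z * g) * g⁻¹ := by group
      rw [e1] at hc
      exact (Commute.conj_iff g).mp hc

/-- conjugation moves the common commuting members. -/
theorem image_M (hconj : ∀ g : G, ∀ x ∈ D, g * x * g⁻¹ ∈ D) (g p q : G) :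
    (fun y : G => g * y * g⁻¹) '' {e : G | e ∈ D ∧ Commute p e ∧ Commute q e} =
      {e : G | e ∈ D ∧ Commute (g * p * g⁻¹) e ∧ Commute (g * q * g⁻¹) e} := by
  ext z
  constructor
  · rintro ⟨y, ⟨hy, hc1, hc2⟩, rfl⟩
    exact ⟨hconj g y hy, (Commute.conj_iff g).mpr hc1, (Commute.conj_iff g).mpr hc2⟩
  · rintro ⟨hz, hc1, hc2⟩
    have e1 : z = g * (g⁻¹ * z * g) * g⁻¹ := by group
    refine ⟨g⁻¹ * z * g, ⟨?_, ?_, ?_⟩, by group⟩
    · have := hconj g⁻¹ z hz
      rwa [inv_inv] at this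
    · rw [e1] at hc1
      exact (Commute.conj_iff g).mp hc1
    · rw [e1] at hc2
      exact (Commute.conj_iff g).mp hc2

end MU1

open MU1

/-- MU1 -/
theorem mu_one {G : Type*} [Group G] [Finite G] {D : Set G} (h : Prim D) (h0 : L0 D)
    (hk : ∀ d ∈ D, ∃ a : ℕ, 1 ≤ a ∧ {y : G | y ∈ D ∧ y ≠ d ∧ Commute d y}.ncard = 3 ^ a)
    {d a : G} (hd : d ∈ D) (ha : a ∈ D) (hna : ¬ Commute d a) :
    ∃! e, e ∈ D ∧ Commute d e ∧ Commute a e := by
  classical
  have hD := h.tt
  have hconj := hD.2.1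
  -- notation
  set Dd : G → Set G := fun d => {y : G | y ∈ D ∧ y ≠ d ∧ Commute d y} with hDd
  set M : G → G → Set G := fun p q => {e : G | e ∈ D ∧ Commute p e ∧ Commute q e} with hM
  set A : Set G := {a : G | a ∈ D ∧ ¬ Commute d a} with hA
  obtain ⟨n, hn1, hkn⟩ := hk d hd
  set k : ℕ := 3 ^ n with hkdef
  set μ : ℕ := (M d a).ncard with hμ
  -- k is constant
  have hkc : ∀ e ∈ D, (Dd e).ncard = k := by
    intro e he
    obtain ⟨g, hg⟩ := Cfsg.Agent.Helper16.F3.exists_conj h hd he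
    have := image_Dd hconj g d
    rw [hg] at this
    show {y : G | y ∈ D ∧ y ≠ e ∧ Commute e y}.ncard = k
    rw [← this, Set.ncard_image_of_injective _ (conj_inj g)]
    exact hkn
  -- μ is constant on non-commuting pairs
  have hμc : ∀ p ∈ D, ∀ q ∈ D, ¬ Commute p q → (M p q).ncard = μ := by
    intro p hp q hq hpq
    obtain ⟨g, hg⟩ := Cfsg.Agent.Helper16.F3.exists_conj h hd hp
    have hq' : g * a * g⁻¹ ∈ D := hconj g a ha
    have hnq' : ¬ Commute p (g * a * g⁻¹) := by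
      rw [← hg]
      intro hc
      exact hna ((Commute.conj_iff g).mp hc)
    obtain ⟨c, hc, hcq⟩ := Cfsg.Agent.Helper16.F3.trans_noncomm h hp hq' hq hnq' hpq
    have h1 := image_M hconj g d a
    have h2 := image_M hconj c (g * d * g⁻¹) (g * a * g⁻¹)
    rw [hg, hcq] at h2
    have hcp : c * p * c⁻¹ = p := by rw [hc.eq, mul_inv_cancel_right]
    rw [hcp] at h2
    rw [hg] at h1
    show {e : G | e ∈ D ∧ Commute p e ∧ Commute q e}.ncard = μ
    rw [← h2, Set.ncard_image_of_injective _ (conj_inj c), ← h1,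
      Set.ncard_image_of_injective _ (conj_inj g)]
  -- the counting identity
  have hcount : k * (k - 1) = A.ncard * μ :=
    count_edges h0 hd k μ hkc (fun a' ha' hna' => hμc d hd a' ha' hna')
  have hk3 : 3 ≤ k := by
    calc 3 = 3 ^ 1 := by norm_num
      _ ≤ 3 ^ n := Nat.pow_le_pow_right (by norm_num) hn1
  -- two different members e, f of D_d
  have hDdfin : (Dd d).Finite := Set.toFinite _
  obtain ⟨e, he, f, hf, hef⟩ : ∃ e ∈ Dd d, ∃ f ∈ Dd d, e ≠ f := by
    have h1 : 1 < (Dd d).ncard := by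
      show 1 < {y : G | y ∈ D ∧ y ≠ d ∧ Commute d y}.ncard
      rw [hkn]; omega
    exact (Set.one_lt_ncard hDdfin).mp h1
  have hnef : ¬ Commute e f := fun hc => hef (h0 d hd e he.1 f hf.1 he.2.1 hf.2.1 he.2.2 hf.2.2 hc)
  -- no member of D_d commutes with both e and f
  have hMef : (M e f).ncard = μ := hμc e he.1 f hf.1 hnef
  -- A ≡ μ - 1 mod 3
  have hρd : Commute (e * f) d := (he.2.2.symm.mul_left hf.2.2.symm)
  have hAinv : ∀ x ∈ A, (e * f) * x * (e * f)⁻¹ ∈ A := by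
    rintro x ⟨hx, hnx⟩
    refine ⟨hconj _ x hx, ?_⟩
    intro hc
    apply hnx
    have e1 : d = (e * f) * d * (e * f)⁻¹ := by rw [hρd.eq, mul_inv_cancel_right]
    rw [e1] at hc
    exact (Commute.conj_iff _).mp hc
  have hcongA := ncard_modEq_fixed hD he.1 hf.1 hnef A (fun x hx => hx.1) hAinv
  have hfixA : {x : G | x ∈ A ∧ Commute x e ∧ Commute x f} = M e f \ {d} := by
    ext z
    constructor
    · rintro ⟨⟨hz, hnz⟩, hce, hcf⟩
      refine ⟨⟨hz, hce.symm, hcf.symm⟩, ?_⟩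
      rintro rfl
      exact hnz (Commute.refl _)
    · rintro ⟨⟨hz, hce, hcf⟩, hzd⟩
      have hzd' : z ≠ d := hzd
      refine ⟨⟨hz, ?_⟩, hce.symm, hcf.symm⟩
      intro hc
      -- z ∈ D_d commutes with e, so z = e, but e does not commute with f
      have := h0 d hd z hz e he.1 hzd' he.2.1 hc he.2.2 hce.symm
      rw [this] at hcf
      exact hnef hcf.symm
  have hdM : d ∈ M e f := ⟨hd, he.2.2.symm, hf.2.2.symm⟩
  have hMfin : (M e f).Finite := Set.toFinite _
  have hfixAcard : {x : G | x ∈ A ∧ Commute x e ∧ Commute x f}.ncard = μ - 1 := by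
    rw [hfixA, Set.ncard_sdiff_singleton_of_mem hdM, hMef]
  have hμ1 : 1 ≤ μ := by
    rw [← hMef]
    exact (Set.ncard_pos hMfin).mpr ⟨d, hdM⟩
  rw [hfixAcard] at hcongA
  -- M d a ⊆ D_d, strictly
  have hMsub : M d a ⊆ Dd d := by
    rintro z ⟨hz, hc1, hc2⟩
    refine ⟨hz, ?_, hc1⟩
    rintro rfl
    exact hna hc2.symm
  have hμk : μ < k := by
    obtain ⟨x, hx, hxd, hcx, hnx⟩ := exists_sep h hd ha hna
    have hxDd : x ∈ Dd d := ⟨hx, hxd, hcx.symm⟩
    have hxM : x ∉ M d a := fun hm => hnx hm.2.2.symm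
    have hss : M d a ⊂ Dd d := by
      refine ⟨hMsub, ?_⟩
      intro hcon
      exact hxM (hcon hxDd)
    have := Set.ncard_lt_ncard hss hDdfin
    calc μ = (M d a).ncard := rfl
      _ < (Dd d).ncard := this
      _ = k := hkn
  -- if μ ≥ 2 then 3 ∣ μ
  have hdiv : 2 ≤ μ → 3 ∣ μ := by
    intro h2
    have hMdafin : (M d a).Finite := Set.toFinite _
    obtain ⟨e', he', e'', he'', hne⟩ : ∃ e' ∈ M d a, ∃ e'' ∈ M d a, e' ≠ e'' :=
      (Set.one_lt_ncard hMdafin).mp (by show 1 < μ; omega)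
    have he'D := hMsub he'
    have he''D := hMsub he''
    have hnc : ¬ Commute e' e'' := fun hc =>
      hne (h0 d hd e' he'.1 e'' he''.1 he'D.2.1 he''D.2.1 he'D.2.2 he''D.2.2 hc)
    have hρ'd : Commute (e' * e'') d := (he'.2.1.symm.mul_left he''.2.1.symm)
    have hρ'a : Commute (e' * e'') a := (he'.2.2.symm.mul_left he''.2.2.symm)
    have hinv : ∀ x ∈ M d a, (e' * e'') * x * (e' * e'')⁻¹ ∈ M d a := by
      rintro x ⟨hx, hc1, hc2⟩
      refine ⟨hconj _ x hx, ?_, ?_⟩
      · have e1 : d = (e' * e'') * d * (e' * e'')⁻¹ := by rw [hρ'd.eq, mul_inv_cancel_right]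
        rw [e1]
        exact (Commute.conj_iff _).mpr hc1
      · have e1 : a = (e' * e'') * a * (e' * e'')⁻¹ := by rw [hρ'a.eq, mul_inv_cancel_right]
        rw [e1]
        exact (Commute.conj_iff _).mpr hc2
    have hcong := ncard_modEq_fixed hD he'.1 he''.1 hnc (M d a) (fun x hx => hx.1) hinv
    have hempty : {x : G | x ∈ M d a ∧ Commute x e' ∧ Commute x e''} = ∅ := by
      ext z
      simp only [Set.mem_ofPred_eq, Set.mem_empty_iff_false, iff_false]
      rintro ⟨hz, hce, hcf⟩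
      have hzD := hMsub hz
      have := h0 d hd z hzD.1 e' he'.1 hzD.2.1 he'D.2.1 hzD.2.2 he'D.2.2 hce
      rw [this] at hcf
      exact hnc hcf
    rw [hempty, Set.ncard_empty] at hcong
    exact (Nat.modEq_zero_iff_dvd).mp hcong
  -- arithmetic
  have hμle : μ ≤ 1 := by
    by_contra hcon
    have h2 : 2 ≤ μ := by omega
    have h3 := hdiv h2
    -- A ≡ μ - 1 ≡ 2 mod 3
    have hAmod : A.ncard % 3 = 2 := by
      have := hcongA
      unfold Nat.ModEq at this
      rw [this]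
      omega
    have hcop : Nat.Coprime (3 ^ n) A.ncard :=
      Nat.Coprime.pow_left n ((Nat.Prime.coprime_iff_not_dvd Nat.prime_three).mpr (by omega))
    have hdvd : 3 ^ n ∣ A.ncard * μ := by
      rw [← hcount]
      exact Dvd.intro _ rfl
    have hdvdμ : 3 ^ n ∣ μ := hcop.dvd_of_dvd_mul_left hdvd
    have := Nat.le_of_dvd (by omega) hdvdμ
    omega
  have hμeq : (M d a).ncard = 1 := by
    show μ = 1
    omega
  rw [Set.ncard_eq_one] at hμeq
  obtain ⟨z, hz⟩ := hμeq
  refine ⟨z, ?_, ?_⟩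
  · have : z ∈ M d a := by rw [hz]; exact Set.mem_singleton z
    exact this
  · intro y hy
    have : y ∈ M d a := hy
    rw [hz] at this
    exact this

end Cfsg.Agent.S1615P
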