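import Mathlib
import Cfsg.Prelude.Def_FischerSpaces
import Cfsg.Prelude.Def_CaseTheorems
import Cfsg.Agent.Helper22.S1615Defs
import Cfsg.Agent.Helper22.S1615LAM0
import Cfsg.Agent.Helper7.PLocal
import Cfsg.Agent.Helper16.F3Glue

set_option autoImplicit false
set_option linter.unusedVariables false

/-!
# S1615 pieces TWIN0 and TWALL: twins from a non-central odd core
-/

namespace Cfsg.Agent.S1615P

open Cfsg.Agent.Helper16.F3 (Prim)
open LAM0

namespace TWIN

variable {G : Type*} [Group G] {D : Set G}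

/-- Core step: `N` a subgroup of `G` without involutions, normalized by `e, f, g ∈ D`, containing `e f`;
`g` commutes with `e` (and `g ≠ e`): then `g` commutes with `f`. -/
theorem commute_of_core (hD : Cfsg.IsThreeTranspositionGroup D) (N : Subgroup G)
    (hodd : ∀ n ∈ N, n * n = 1 → n = 1) {e f g : G} (he : e ∈ D) (hf : f ∈ D) (hg : g ∈ D)
    (hNe : ∀ n ∈ N, e * n * e⁻¹ ∈ N) (hNg : ∀ n ∈ N, g * n * g⁻¹ ∈ N)
    (hef : e * f ∈ N) (hge : g ≠ e) (hcge : Commute g e) : Commute g f := by
  by_contra hngf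
  have hee := sq hD he
  have hff := sq hD hf
  have hgg := sq hD hg
  have hei : e⁻¹ = e := inv_eq_of_mul_eq_one_left hee
  have hgi : g⁻¹ = g := inv_eq_of_mul_eq_one_left hgg
  have hfi : f⁻¹ = f := inv_eq_of_mul_eq_one_left hff
  -- (f g)^3 = 1
  have hc3 : (f * g) ^ 3 = 1 := cube hD hf hg (fun h => hngf h.symm)
  -- g (e f) g⁻¹ = e (g f g) ∈ N
  have h1 : e * (g * f * g) ∈ N := by
    have := hNg _ hef
    rw [hgi] at this
    have e1 : g * (e * f) * g = e * (g * f * g) := by
      calc g * (e * f) * g = (g * e) * f * g := by simp only [mul_assoc]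
        _ = (e * g) * f * g := by rw [hcge.eq]
        _ = e * (g * f * g) := by simp only [mul_assoc]
    rwa [e1] at this
  -- (e f) (e g f g)⁻¹ = e (f g f g) e ∈ N
  have h2 : e * (f * g * (f * g)) * e ∈ N := by
    have := N.mul_mem hef (N.inv_mem h1)
    have e1 : e * f * (e * (g * f * g))⁻¹ = e * (f * g * (f * g)) * e := by
      rw [mul_inv_rev, mul_inv_rev, mul_inv_rev, hgi, hfi, hei]
      simp only [mul_assoc]
    rwa [e1] at this
  have h3 : f * g * (f * g) ∈ N := by
    have := hNe _ h2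
    rw [hei] at this
    have e1 : e * (e * (f * g * (f * g)) * e) * e = f * g * (f * g) := by
      calc e * (e * (f * g * (f * g)) * e) * e = (e * e) * (f * g * (f * g)) * (e * e) := by
            simp only [mul_assoc]
        _ = f * g * (f * g) := by rw [hee, one_mul, mul_one]
    rwa [e1] at this
  -- f g ∈ N
  have h4 : f * g ∈ N := by
    have e1 : f * g = (f * g * (f * g))⁻¹ := by
      apply eq_inv_of_mul_eq_one_left
      rw [← hc3]
      simp only [pow_succ, pow_zero, one_mul, mul_assoc]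
    rw [e1]
    exact N.inv_mem h3
  -- g e = (f g)⁻¹ (f e) ∈ N
  have h5 : g * e ∈ N := by
    have hfe : f * e ∈ N := by
      have := N.inv_mem hef
      rwa [mul_inv_rev, hei, hfi] at this
    have := N.mul_mem (N.inv_mem h4) hfe
    have e1 : (f * g)⁻¹ * (f * e) = g * e := by
      rw [mul_inv_rev, hgi, hfi]
      calc g * f * (f * e) = g * (f * f) * e := by simp only [mul_assoc]
        _ = g * e := by rw [hff, mul_one]
    rwa [e1] at this
  -- (g e)^2 = 1 so g e = 1
  have h6 : g * e = 1 := by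
    apply hodd _ h5
    calc g * e * (g * e) = g * (e * g) * e := by simp only [mul_assoc]
      _ = g * (g * e) * e := by rw [hcge.eq]
      _ = (g * g) * (e * e) := by simp only [mul_assoc]
      _ = 1 := by rw [hgg, hee, one_mul]
  apply hge
  have := eq_inv_of_mul_eq_one_left h6
  rwa [hei] at this

end TWIN

open TWIN

/-- TWIN0: if the odd core of `⟨D_x⟩` is not central, `D_x` contains twins. -/
theorem exists_tw {G : Type*} [Group G] [Finite G] {D : Set G}
    (hD : Cfsg.IsThreeTranspositionGroup D) {x : G} (hx : x ∈ D)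
    (h : ¬ Cfsg.oddCore ↥(Subgroup.closure {y : G | y ∈ D ∧ y ≠ x ∧ Commute x y}) ≤
      Subgroup.center ↥(Subgroup.closure {y : G | y ∈ D ∧ y ≠ x ∧ Commute x y})) :
    ∃ e f, Tw D x e f := by
  classical
  set S : Set G := {y : G | y ∈ D ∧ y ≠ x ∧ Commute x y} with hS
  set H : Subgroup G := Subgroup.closure S with hH
  set N0 : Subgroup ↥H := Cfsg.oddCore ↥H with hN0
  have hN0n : N0.Normal := Cfsg.pPrimeCore_normal 2 ↥H
  set N : Subgroup G := N0.map H.subtype with hN
  have hNH : N ≤ H := by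
    rintro _ ⟨n, -, rfl⟩
    exact n.2
  -- every member of H commutes with x
  have hHx : ∀ k ∈ H, Commute x k := by
    intro k hk
    have hle : H ≤ Subgroup.centralizer {x} := by
      apply (Subgroup.closure_le _).mpr
      intro y hy
      rw [SetLike.mem_coe, Subgroup.mem_centralizer_iff]
      intro z hz
      rw [Set.mem_singleton_iff] at hz
      rw [hz]
      exact hy.2.2.eq
    have := hle hk
    rw [Subgroup.mem_centralizer_iff] at this
    exact (this x rfl)
  -- N is normalized by H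
  have hNnorm : ∀ k ∈ H, ∀ n ∈ N, k * n * k⁻¹ ∈ N := by
    rintro k hk _ ⟨n, hn, rfl⟩
    refine ⟨⟨k, hk⟩ * n * ⟨k, hk⟩⁻¹, hN0n.conj_mem n hn ⟨k, hk⟩, ?_⟩
    simp
  -- N has no involutions
  have hodd : ∀ n ∈ N, n * n = 1 → n = 1 := by
    rintro _ ⟨n, hn, rfl⟩ hsq
    have hcop : (orderOf n).Coprime 2 :=
      Cfsg.Agent.Helper7.orderOf_coprime_of_mem_pPrimeCore 2 hn
    have hsq' : n ^ 2 = 1 := by
      rw [pow_two]
      apply Subtype.ext
      simpa using hsq
    have hdvd : orderOf n ∣ 2 := orderOf_dvd_of_pow_eq_one hsq'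
    have h1 : orderOf n = 1 := Nat.Coprime.eq_one_of_dvd hcop hdvd
    rw [orderOf_eq_one_iff] at h1
    rw [h1]
    simp
  -- a member of N0 not in the centre
  rw [SetLike.not_le_iff_exists] at h
  obtain ⟨n, hn, hncen⟩ := h
  -- some generator does not commute with n
  have hex : ∃ e ∈ S, ¬ Commute e (n : G) := by
    by_contra hcon
    push Not at hcon
    apply hncen
    rw [Subgroup.mem_center_iff]
    intro k
    have hle : H ≤ Subgroup.centralizer {(n : G)} := by
      apply (Subgroup.closure_le _).mpr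
      intro y hy
      rw [SetLike.mem_coe, Subgroup.mem_centralizer_iff]
      intro z hz
      rw [Set.mem_singleton_iff] at hz
      rw [hz]
      exact (hcon y hy).eq.symm
    have := hle k.2
    rw [Subgroup.mem_centralizer_iff] at this
    apply Subtype.ext
    simpa using (this (n : G) rfl).symm
  obtain ⟨e, heS, hne⟩ := hex
  have heD : e ∈ D := heS.1
  have heH : e ∈ H := Subgroup.subset_closure heS
  have hnN : (n : G) ∈ N := ⟨n, hn, rfl⟩
  have hnH : (n : G) ∈ H := n.2
  have hee := sq hD heD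
  have hei : e⁻¹ = e := inv_eq_of_mul_eq_one_left hee
  set f : G := (n : G)⁻¹ * e * (n : G) with hf
  have hfD : f ∈ D := by
    have := hD.2.1 (n : G)⁻¹ e heD
    rwa [inv_inv] at this
  have hfe : f ≠ e := by
    intro hfe
    apply hne
    have : (n : G)⁻¹ * e * (n : G) = e := hfe
    have h2 : e * (n : G) = (n : G) * e := by
      calc e * (n : G) = (n : G) * ((n : G)⁻¹ * e * (n : G)) := by group
        _ = (n : G) * e := by rw [this]
    exact h2
  have hcxn : Commute x (n : G) := hHx _ hnH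
  have hcxf : Commute x f := by
    rw [hf]
    exact (hcxn.inv_right.mul_right heS.2.2).mul_right hcxn
  have hfx : f ≠ x := by
    intro hfx
    apply heS.2.1
    have : (n : G)⁻¹ * e * (n : G) = x := hfx
    calc e = (n : G) * ((n : G)⁻¹ * e * (n : G)) * (n : G)⁻¹ := by group
      _ = (n : G) * x * (n : G)⁻¹ := by rw [this]
      _ = x := by rw [← hcxn.eq, mul_inv_cancel_right]
  have hfS : f ∈ S := ⟨hfD, hfx, hcxf⟩
  have hfH : f ∈ H := Subgroup.subset_closure hfS
  -- e f ∈ N
  have hefN : e * f ∈ N := by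
    have h1 : e * (n : G)⁻¹ * e⁻¹ ∈ N := hNnorm e heH _ (N.inv_mem hnN)
    have h2 := N.mul_mem h1 hnN
    have e1 : e * (n : G)⁻¹ * e⁻¹ * (n : G) = e * f := by
      rw [hf, hei]; group
    rwa [e1] at h2
  have hff := sq hD hfD
  have hfi : f⁻¹ = f := inv_eq_of_mul_eq_one_left hff
  have hfeN : f * e ∈ N := by
    have := N.inv_mem hefN
    rwa [mul_inv_rev, hei, hfi] at this
  -- e, f do not commute
  have hnef : ¬ Commute e f := by
    intro hc
    have h1 : e * f = 1 := by
      apply hodd _ hefN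
      calc e * f * (e * f) = e * (f * e) * f := by simp only [mul_assoc]
        _ = e * (e * f) * f := by rw [hc.eq]
        _ = (e * e) * (f * f) := by simp only [mul_assoc]
        _ = 1 := by rw [hee, hff, one_mul]
    apply hfe
    have := eq_inv_of_mul_eq_one_right h1
    rwa [hei] at this
  refine ⟨e, f, heD, hfD, heS.2.1, hfx, heS.2.2, hcxf, hnef, ?_⟩
  intro g hg hgx hcxg
  have hgS : g ∈ S := ⟨hg, hgx, hcxg⟩
  have hgH : g ∈ H := Subgroup.subset_closure hgS
  constructor
  · intro hge hcge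
    exact commute_of_core hD N hodd heD hfD hg (hNnorm e heH) (hNnorm g hgH) hefN hge hcge
  · intro hgf hcgf
    exact commute_of_core hD N hodd hfD heD hg (hNnorm f hfH) (hNnorm g hgH) hfeN hgf hcgf

/-- TWALL: every member of every `D_d` has a twin. -/
theorem tw_all {G : Type*} [Group G] [Finite G] {D : Set G} (h : Prim D)
    (h0 : ∃ x ∈ D, ∃ e f, Tw D x e f) :
    ∀ d ∈ D, ∀ e ∈ D, e ≠ d → Commute d e → ∃ f, Tw D d e f := by
  obtain ⟨x, hx, e0, f0, ht0⟩ := h0
  intro d hd e he hed hcde
  have hconj := h.tt.2.1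
  obtain ⟨g, hg⟩ := Cfsg.Agent.Helper16.F3.exists_conj h hx hd
  have t1 := ht0.conj hconj g
  rw [hg] at t1
  obtain ⟨he1, hf1, hed1, hfd1, hce1, hcf1, -, -⟩ := id t1
  obtain ⟨c, hc, hce⟩ := Cfsg.Agent.Helper16.F3.trans_comm h hd he1 he hed1 hed hce1 hcde
  have t2 := t1.conj hconj c
  have hcd : c * d * c⁻¹ = d := by rw [hc.eq, mul_inv_cancel_right]
  rw [hcd, hce] at t2
  exact ⟨_, t2⟩

end Cfsg.Agent.S1615P
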