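import Cfsg.Agent.Helper22.S1641Cert
import Cfsg.Agent.Helper22.S1641Data

/-!
# Checks of the certificates for the orbits of the stabiliser of two vectors of type three (part A)

Generated by a script.
-/

set_option autoImplicit false

namespace Cfsg.Agent.Helper22.S1641Chk

open Cfsg.Agent.Helper22.S1641Cert Cfsg.Agent.Helper22.S1641Data Cfsg.Agent.Helper22.HSKData
open Cfsg.Agent.Helper22.PermPack (slot allN)

theorem zI_ok : invB zT zI = true := by decide +kernel

theorem uI_ok : invB uT uI = true := by decide +kernel

theorem sort_a : sortedB na Va = true := by decide +kernel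

theorem sort_b : sortedB nb Vb = true := by decide +kernel

theorem sort_c : sortedB nc Vc = true := by decide +kernel

theorem sort_d : sortedB nd Vd = true := by decide +kernel

theorem chk_a_0 : allN 352 (fun i => entryB na Va Pa Ga Da ra zI uI (Nat.add (Nat.mul 0 352) i)) = true := by
  decide +kernel

theorem chk_b_0 : allN 550 (fun i => entryB nb Vb Pb Gb Db rb zI uI (Nat.add (Nat.mul 0 550) i)) = true := by
  decide +kernel

theorem chk_b_1 : allN 550 (fun i => entryB nb Vb Pb Gb Db rb zI uI (Nat.add (Nat.mul 1 550) i)) = true := by
  decide +kernel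

end Cfsg.Agent.Helper22.S1641Chk
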