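import Cfsg.Agent.Helper22.S1641Cert
import Cfsg.Agent.Helper22.S1641Data

/-!
# Checks of the certificates for the orbits of the stabiliser of two vectors of type three (part C2)

Generated by a script.
-/

set_option autoImplicit false

namespace Cfsg.Agent.Helper22.S1641Chk

open Cfsg.Agent.Helper22.S1641Cert Cfsg.Agent.Helper22.S1641Data Cfsg.Agent.Helper22.HSKData
open Cfsg.Agent.Helper22.PermPack (slot allN)

theorem chk_c_2 : allN 700 (fun i => entryB nc Vc Pc Gc Dc rc zI uI (Nat.add (Nat.mul 2 700) i)) = true := by
  decide +kernel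

theorem chk_c_3 : allN 700 (fun i => entryB nc Vc Pc Gc Dc rc zI uI (Nat.add (Nat.mul 3 700) i)) = true := by
  decide +kernel

end Cfsg.Agent.Helper22.S1641Chk
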