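import Cfsg.Agent.Helper22.S1641Std
import Cfsg.Agent.Helper22.S1641ChkA
import Cfsg.Agent.Helper22.S1641ChkC1
import Cfsg.Agent.Helper22.S1641ChkC2
import Cfsg.Agent.Helper22.S1641ChkC3
import Cfsg.Agent.Helper22.S1641ChkD1
import Cfsg.Agent.Helper22.S1641ChkD2
import Cfsg.Agent.Helper22.S1641ChkD3
import Cfsg.Agent.Helper22.S1641ChkD4

/-!
# The lengths of the orbits of the stabiliser of the standard pair of vectors of type three

The checked certificates give lower bounds for the lengths of four orbits; the counting argument gives the lengths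
and the decomposition of the set of the 11178 minimal vectors.
-/

set_option autoImplicit false

namespace Cfsg.Agent.Helper22.S1641Bounds

open Cfsg Cfsg.Agent.Helper27 Cfsg.Agent.Helper22.HS100 Cfsg.Agent.Helper22.LeechMod2
  Cfsg.Agent.Helper22.HSBridge Cfsg.Agent.Helper22.Co3Orbit
  Cfsg.Agent.Helper22.S1641Cert Cfsg.Agent.Helper22.S1641Data Cfsg.Agent.Helper22.S1641Std
  Cfsg.Agent.Helper22.S1641Chk

theorem bound_a : 352 ≤ (MulAction.orbit ↥G0 ya).ncard := by
  have h : ∀ i < na, entryB na Va Pa Ga Da ra zI uI i = true := fun i hi =>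
    forall_of_chunks (m := 352) (q := 1) (by norm_num)
      (by intro k hk; interval_cases k; exact chk_a_0) i (lt_of_lt_of_le hi (by decide))
  exact cert_card zI_ok uI_ok ya ya_coe h sort_a (finite_orbit ya_mem)

theorem bound_b : 1100 ≤ (MulAction.orbit ↥G0 yb).ncard := by
  have h : ∀ i < nb, entryB nb Vb Pb Gb Db rb zI uI i = true := fun i hi =>
    forall_of_chunks (m := 550) (q := 2) (by norm_num)
      (by intro k hk; interval_cases k; exacts [chk_b_0, chk_b_1]) i (lt_of_lt_of_le hi (by decide))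
  exact cert_card zI_ok uI_ok yb yb_coe h sort_b (finite_orbit yb_mem)

theorem bound_c : 4125 ≤ (MulAction.orbit ↥G0 yc).ncard := by
  have h : ∀ i < nc, entryB nc Vc Pc Gc Dc rc zI uI i = true := fun i hi =>
    forall_of_chunks (m := 700) (q := 6) (by norm_num)
      (by intro k hk; interval_cases k; exacts [chk_c_0, chk_c_1, chk_c_2, chk_c_3, chk_c_4, chk_c_5]) i
      (lt_of_lt_of_le hi (by decide))
  exact cert_card zI_ok uI_ok yc yc_coe h sort_c (finite_orbit yc_mem)

theorem bound_d : 5600 ≤ (MulAction.orbit ↥G0 yd).ncard := by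
  have h : ∀ i < nd, entryB nd Vd Pd Gd Dd rd zI uI i = true := fun i hi =>
    forall_of_chunks (m := 700) (q := 8) (by norm_num)
      (by intro k hk; interval_cases k
          exacts [chk_d_0, chk_d_1, chk_d_2, chk_d_3, chk_d_4, chk_d_5, chk_d_6, chk_d_7]) i
      (lt_of_lt_of_le hi (by decide))
  exact cert_card zI_ok uI_ok yd yd_coe h sort_d (finite_orbit yd_mem)

/-- the orbits of the stabiliser of the standard pair on the 11178 minimal vectors -/
theorem std_orbits :
    (MulAction.orbit ↥G0 ya).ncard = 352 ∧ (MulAction.orbit ↥G0 yb).ncard = 1100 ∧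
    (MulAction.orbit ↥G0 yc).ncard = 4125 ∧ (MulAction.orbit ↥G0 yd).ncard = 5600 ∧
    W D1 = {d01} ∪ MulAction.orbit ↥G0 ya ∪ MulAction.orbit ↥G0 yb ∪ MulAction.orbit ↥G0 yc ∪
      MulAction.orbit ↥G0 yd :=
  std_of_bounds bound_a bound_b bound_c bound_d

end Cfsg.Agent.Helper22.S1641Bounds
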