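import Cfsg.Agent.Helper22.HS352
import Cfsg.Agent.Helper22.Co2Vec
import Cfsg.Agent.Helper22.Co3Orbit

/-!
# Certificates for the orbits of the stabiliser of two vectors of type three on minimal vectors

The stabiliser of the standard pair contains two elements whose action on the hundred vectors is known.  The image
of a lattice vector under such an element is determined by its inner products with twenty-three of the hundred
vectors and with the base vector, so a Boolean check on packed vectors shows that one packed vector is the image of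
another.  A tree of such checks shows that a list of packed vectors lies in one orbit.
-/

set_option autoImplicit false
set_option maxRecDepth 8000

namespace Cfsg.Agent.Helper22.S1641Cert

open Cfsg Cfsg.Agent.Helper27 Cfsg.Agent.Helper22.Co0Mono
  Cfsg.Agent.Helper22.Norm6Trans Cfsg.Agent.Helper22.Summands
  Cfsg.Agent.Helper22.HS100 Cfsg.Agent.Helper22.HS100b Cfsg.Agent.Helper22.McL2025
  Cfsg.Agent.Helper22.HSBridge Cfsg.Agent.Helper22.HSK Cfsg.Agent.Helper22.HS352
  Cfsg.Agent.Helper22.Co2Vec Cfsg.Agent.Helper22.HSKData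
open Cfsg.Agent.Helper22.PermPack (slot allN allN_spec beq_iff blt_iff withNat withNat_eq)
open Cfsg.Agent.Helper22.GraphRefine (sumN sumN_succ)

/-! ### The inner products with twenty-three vectors and the base vector determine a vector -/

theorem dot_vecF_mid {i : ℕ} (h1 : 1 ≤ i) (h2 : i ≤ 22) (y : GolayPt → ℤ) :
    dotInt (vecF i) y = dotInt d0 y - (4 * y (pt (i + 1)) + 4 * y (pt 0)) := by
  rw [vecF_mid h1 h2, dot_sub_left, dot_fA']

theorem profile_inj (a b : GolayPt → ℤ) (h : ∀ t < 23, dotInt (vecF t) a = dotInt (vecF t) b)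
    (h0 : dotInt d0 a = dotInt d0 b) : a = b := by
  have e0 := h 0 (by norm_num)
  rw [dot_F_zero, dot_F_zero] at e0
  have hk : ∀ k, 1 ≤ k → k < 24 → a (pt k) - b (pt k) = b (pt 0) - a (pt 0) := by
    intro k hk1 hk2
    rcases Nat.lt_or_ge k 2 with h2 | h2
    · have : k = 1 := by omega
      subst this
      omega
    · have := h (k - 1) (by omega)
      rw [dot_vecF_mid (by omega) (by omega), dot_vecF_mid (by omega) (by omega), h0] at this
      have e : k - 1 + 1 = k := by omega
      rw [e] at this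
      omega
  have hs : ∀ f : ℕ → ℤ, sumZ 24 f = f 23 + (f 22 + (f 21 + (f 20 + (f 19 + (f 18 + (f 17 + (f 16 + (f 15 + (f 14 +
      (f 13 + (f 12 + (f 11 + (f 10 + (f 9 + (f 8 + (f 7 + (f 6 + (f 5 + (f 4 + (f 3 + (f 2 + (f 1 + (f 0 + 0)))))))))))))))))))))))
      := fun f => rfl
  have h0' := h0
  rw [dot_d0, dot_d0, sum_golayPt, sum_golayPt, hs, hs] at h0'
  have h1 := hk 1 (by norm_num) (by norm_num)
  have h2 := hk 2 (by norm_num) (by norm_num)
  have h3 := hk 3 (by norm_num) (by norm_num)
  have h4 := hk 4 (by norm_num) (by norm_num)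
  have h5 := hk 5 (by norm_num) (by norm_num)
  have h6 := hk 6 (by norm_num) (by norm_num)
  have h7 := hk 7 (by norm_num) (by norm_num)
  have h8 := hk 8 (by norm_num) (by norm_num)
  have h9 := hk 9 (by norm_num) (by norm_num)
  have h10 := hk 10 (by norm_num) (by norm_num)
  have h11 := hk 11 (by norm_num) (by norm_num)
  have h12 := hk 12 (by norm_num) (by norm_num)
  have h13 := hk 13 (by norm_num) (by norm_num)
  have h14 := hk 14 (by norm_num) (by norm_num)
  have h15 := hk 15 (by norm_num) (by norm_num)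
  have h16 := hk 16 (by norm_num) (by norm_num)
  have h17 := hk 17 (by norm_num) (by norm_num)
  have h18 := hk 18 (by norm_num) (by norm_num)
  have h19 := hk 19 (by norm_num) (by norm_num)
  have h20 := hk 20 (by norm_num) (by norm_num)
  have h21 := hk 21 (by norm_num) (by norm_num)
  have h22 := hk 22 (by norm_num) (by norm_num)
  have h23 := hk 23 (by norm_num) (by norm_num)
  have ha0 : a (pt 0) = b (pt 0) := by omega
  funext p
  rw [← pt_idx p]
  rcases Nat.eq_zero_or_pos (idx p) with hp | hp
  · rw [hp]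
    exact ha0
  · have := hk (idx p) hp (idx_lt p)
    omega

/-! ### Shifted coefficients -/

/-- the coordinates of the hundred vectors, increased by three -/
def vecA (i k : ℕ) : ℕ :=
  bif Nat.beq i 0 then (bif Nat.blt k 2 then 7 else 3)
  else bif Nat.ble i 22 then (bif Nat.beq k (Nat.add i 1) then 0 else 4)
  else (bif (oct (Nat.sub i 23)).testBit k then 5 else 3)

theorem bool_false_of_not {b : Bool} {p : Prop} (h : b = true ↔ p) (hp : ¬ p) : b = false := by
  cases b
  · rfl
  · exact absurd (h.mp rfl) hp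

theorem vecN_eq (i k : ℕ) : vecN i k = (vecA i k : ℤ) - 3 := by
  unfold vecN vecA
  by_cases h0 : i = 0
  · rw [if_pos h0, beq_iff.mpr h0, cond_true]
    by_cases hk : k < 2
    · rw [if_pos hk, blt_iff.mpr hk, cond_true]
      norm_num
    · rw [if_neg hk, bool_false_of_not blt_iff hk, cond_false]
      norm_num
  · rw [if_neg h0, bool_false_of_not beq_iff h0, cond_false]
    by_cases h22 : i ≤ 22
    · rw [if_pos h22, Nat.ble_eq_true_of_le h22, cond_true]
      by_cases hk : k = i + 1
      · rw [if_pos hk, beq_iff.mpr (show k = Nat.add i 1 from hk), cond_true]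
        norm_num
      · rw [if_neg hk, bool_false_of_not beq_iff (show ¬ k = Nat.add i 1 from hk), cond_false]
        norm_num
    · have hb : Nat.ble i 22 = false := by
        cases hb : Nat.ble i 22
        · rfl
        · exact absurd (Nat.le_of_ble_eq_true hb) h22
      rw [if_neg h22, hb, cond_false]
      show (if (oct (i - 23)).testBit k = true then (2 : ℤ) else 0) = _
      cases (oct (i - 23)).testBit k
      · simp
      · simp

/-- the sum of the entries increased by four -/
def sE (x : ℕ) : ℕ := sumN 24 fun k => slot 4 x k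

/-- the shifted inner product -/
def dotA (j x : ℕ) : ℕ := sumN 24 fun k => Nat.mul (vecA j k) (slot 4 x k)

/-- the sum of the shifted coefficients -/
def sA (j : ℕ) : ℕ := bif Nat.beq j 0 then 80 else bif Nat.ble j 22 then 92 else 88

theorem sA_okK : (allN 100 fun j => Nat.beq (sumN 24 fun k => vecA j k) (sA j)) = true := by decide +kernel

theorem sA_spec {j : ℕ} (hj : j < 100) : (sumN 24 fun k => vecA j k) = sA j := beq_iff.mp (allN_spec sA_okK j hj)

theorem sumZ_shift (a E : ℕ → ℕ) : ∀ n : ℕ, sumZ n (fun k => ((a k : ℤ) - 3) * ((E k : ℤ) - 4)) =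
    ((sumN n fun k => Nat.mul (a k) (E k) : ℕ) : ℤ) - 3 * ((sumN n E : ℕ) : ℤ) - 4 * ((sumN n a : ℕ) : ℤ) + 12 * n := by
  intro n
  induction n with
  | zero => simp [sumZ, sumN]
  | succ n ih =>
    rw [sumZ_succ, ih, sumN_succ, sumN_succ, sumN_succ]
    have : Nat.mul (a n) (E n) = a n * E n := rfl
    rw [this]
    push_cast
    ring

theorem dot_vecF_vz (j x : ℕ) : dotInt (vecF j) (vz x) =
    (dotA j x : ℤ) - 3 * (sE x : ℤ) - 4 * ((sumN 24 fun k => vecA j k : ℕ) : ℤ) + 288 := by
  unfold dotInt
  rw [sum_golayPt]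
  have h1 : (sumZ 24 fun k => vecF j (pt k) * vz x (pt k)) =
      sumZ 24 fun k => ((vecA j k : ℤ) - 3) * ((slot 4 x k : ℤ) - 4) := by
    apply sumZ_congr'
    intro k hk
    show vecN j (idx (pt k)) * ((slot 4 x (idx (pt k)) : ℤ) - 4) = _
    rw [idx_pt hk, vecN_eq]
  rw [h1, sumZ_shift]
  show ((dotA j x : ℕ) : ℤ) - 3 * ((sE x : ℕ) : ℤ) - 4 * ((sumN 24 (fun k => vecA j k) : ℕ) : ℤ) +
    12 * ((24 : ℕ) : ℤ) = _
  generalize dotA j x = A
  generalize sE x = B
  generalize sumN 24 (fun k => vecA j k) = C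
  push_cast
  ring

theorem dot_d0_vz (x : ℕ) : dotInt d0 (vz x) = 4 * (slot 4 x 0 : ℤ) + (sE x : ℤ) - 112 := by
  rw [dot_d0]
  have e1 := sum_vzE (slot 4 x) (fun z => z)
  have e2 := sumZ_lin (slot 4 x) 24
  have e3 : (∑ p, vz x p) = ∑ p, vzE (slot 4 x) p := rfl
  rw [e3, e1, e2]
  show 4 * ((slot 4 x (idx (pt 0)) : ℤ) - 4) + _ = _
  rw [idx_pt (by norm_num)]
  unfold sE
  push_cast
  ring

/-! ### One step -/

/-- the check that the second packed vector has the inner products of the image of the first -/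
def stepB (Tinv p c : ℕ) : Bool :=
  withNat (sE p) fun sp => withNat (sE c) fun sc =>
    Nat.beq (Nat.add sc (Nat.mul 4 (slot 4 c 0))) (Nat.add sp (Nat.mul 4 (slot 4 p 0))) &&
    allN 23 fun t => withNat (slot 7 Tinv t) fun j =>
      Nat.beq (Nat.add (Nat.add (dotA t c) (Nat.mul 3 sp)) (Nat.mul 4 (sA j)))
        (Nat.add (Nat.add (dotA j p) (Nat.mul 3 sc)) (Nat.mul 4 (sA t)))

/-- the check that the second table gives preimages under the first for the first twenty-three indices -/
def invB (T Tinv : ℕ) : Bool :=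
  allN 23 fun t => Nat.blt (slot 7 Tinv t) 100 && Nat.beq (slot 7 T (slot 7 Tinv t)) t

theorem step_spec (g : ↥G0) {T Tinv : ℕ} (hT : ∀ i : Fin 100, (rho g i).1 = slot 7 T i.1)
    (hinv : invB T Tinv = true) {p c : ℕ} (h : stepB Tinv p c = true) (y : ↥leechLattice)
    (hy : (y : GolayPt → ℤ) = vz p) : ((g.1 • y : ↥leechLattice) : GolayPt → ℤ) = vz c := by
  unfold stepB at h
  rw [withNat_eq, withNat_eq, Bool.and_eq_true, beq_iff] at h
  obtain ⟨hd, hall⟩ := h
  have hadd : ∀ a b : ℕ, Nat.add a b = a + b := fun _ _ => rfl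
  have hmul : ∀ a b : ℕ, Nat.mul a b = a * b := fun _ _ => rfl
  apply profile_inj
  · intro t ht
    have hi := allN_spec hinv t ht
    rw [Bool.and_eq_true, blt_iff, beq_iff] at hi
    obtain ⟨hj, hTj⟩ := hi
    have hc := allN_spec hall t ht
    rw [withNat_eq, beq_iff] at hc
    simp only [hadd, hmul] at hc
    have hrho : rho g ⟨slot 7 Tinv t, hj⟩ = ⟨t, by omega⟩ := by
      apply Fin.ext
      rw [hT]
      exact hTj
    have h1 := dot_F_smul g ⟨slot 7 Tinv t, hj⟩ y
    rw [hrho] at h1
    have h2 : dotInt (vecF t) ((g.1 • y : ↥leechLattice) : GolayPt → ℤ) = dotInt (vecF (slot 7 Tinv t)) (vz p) := by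
      rw [← hy]
      exact h1
    rw [h2, dot_vecF_vz, dot_vecF_vz, sA_spec hj, sA_spec (show t < 100 by omega)]
    omega
  · have h1 : dotInt d0 ((g.1 • y : ↥leechLattice) : GolayPt → ℤ) = dotInt d0 (vz p) := by
      have hg := ((mem_G0_iff g.1).mp g.2).1
      have := co0_dot g.1 D0 y
      rw [hg] at this
      rw [← hy]
      exact this
    simp only [hadd, hmul] at hd
    rw [h1, dot_d0_vz, dot_d0_vz]
    omega

/-! ### The two elements -/

/-- the first element -/
noncomputable def gz : ↥G0 := HSIso.equivK.symm zK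

/-- the second element -/
noncomputable def gu : ↥G0 := HSIso.equivK.symm uK

theorem rho_gz (i : Fin 100) : (rho gz i).1 = slot 7 zT i.1 := by
  have h : rho gz = zP := by
    rw [← equivK_apply]
    unfold gz
    rw [MulEquiv.apply_symm_apply]
    rfl
  rw [h]
  exact PermPack.rep_P z_good i

theorem rho_gu (i : Fin 100) : (rho gu i).1 = slot 7 uT i.1 := by
  have h : rho gu = uP := by
    rw [← equivK_apply]
    unfold gu
    rw [MulEquiv.apply_symm_apply]
    rfl
  rw [h]
  exact PermPack.rep_P u_good i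

/-! ### Certificates -/

/-- the check of one entry of a certificate -/
def entryB (n V P G D root zI uI i : ℕ) : Bool :=
  Nat.ble n i ||
  withNat (slot 96 V i) fun c =>
    Nat.beq c root ||
    withNat (slot 13 P i) fun pi => Nat.blt pi n && Nat.blt (slot 8 D pi) (slot 8 D i) &&
      withNat (slot 96 V pi) fun p => bif G.testBit i then stepB uI p c else stepB zI p c

theorem cert_mem {zI uI : ℕ} (hzI : invB zT zI = true) (huI : invB uT uI = true)
    {n V P G D root : ℕ} (y0 : ↥leechLattice) (hy0 : (y0 : GolayPt → ℤ) = vz root)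
    (hchk : ∀ i < n, entryB n V P G D root zI uI i = true) :
    ∀ i < n, ∃ y ∈ MulAction.orbit ↥G0 y0, (y : GolayPt → ℤ) = vz (slot 96 V i) := by
  have key : ∀ d : ℕ, ∀ i < n, slot 8 D i = d →
      ∃ y ∈ MulAction.orbit ↥G0 y0, (y : GolayPt → ℤ) = vz (slot 96 V i) := by
    intro d
    induction d using Nat.strong_induction_on with
    | _ d ih =>
      intro i hi hd
      have h := hchk i hi
      unfold entryB at h
      rw [Bool.or_eq_true] at h
      rcases h with h | h
      · exact absurd (Nat.le_of_ble_eq_true h) (by omega)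
      · rw [withNat_eq, Bool.or_eq_true] at h
        rcases h with h | h
        · rw [beq_iff] at h
          exact ⟨y0, MulAction.mem_orbit_self y0, by rw [hy0, h]⟩
        · rw [withNat_eq, Bool.and_eq_true, Bool.and_eq_true, blt_iff, blt_iff, withNat_eq] at h
          obtain ⟨⟨hpi, hdep⟩, hstep⟩ := h
          obtain ⟨yp, hyp, hypc⟩ := ih (slot 8 D (slot 13 P i)) (by omega) (slot 13 P i) hpi rfl
          obtain ⟨k, rfl⟩ := hyp
          cases hb : G.testBit i
          · rw [hb, cond_false] at hstep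
            refine ⟨gz • (k • y0), ⟨gz * k, mul_smul gz k y0⟩, ?_⟩
            exact step_spec gz rho_gz hzI hstep (k • y0) hypc
          · rw [hb, cond_true] at hstep
            refine ⟨gu • (k • y0), ⟨gu * k, mul_smul gu k y0⟩, ?_⟩
            exact step_spec gu rho_gu huI hstep (k • y0) hypc
  intro i hi
  exact key _ i hi rfl

/-! ### Distinct packed vectors -/

theorem testBit_slot4 (x i : ℕ) : x.testBit i = (slot 4 x (i / 4)).testBit (i % 4) := by
  show _ = ((x >>> (4 * (i / 4))) % 2 ^ 4).testBit (i % 4)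
  rw [Nat.testBit_mod_two_pow, Nat.testBit_shiftRight, Nat.div_add_mod]
  have : i % 4 < 4 := Nat.mod_lt _ (by norm_num)
  simp [this]

theorem slot4_ext {x x' : ℕ} (hx : x < 2 ^ 96) (hx' : x' < 2 ^ 96) (h : ∀ k < 24, slot 4 x k = slot 4 x' k) :
    x = x' := by
  apply Nat.eq_of_testBit_eq
  intro i
  by_cases hi : i < 96
  · rw [testBit_slot4 x, testBit_slot4 x', h _ (by omega)]
  · have h96 : (2 : ℕ) ^ 96 ≤ 2 ^ i := Nat.pow_le_pow_right (by norm_num) (by omega)
    rw [Nat.testBit_lt_two_pow (lt_of_lt_of_le hx h96), Nat.testBit_lt_two_pow (lt_of_lt_of_le hx' h96)]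

theorem slot96_lt (V i : ℕ) : slot 96 V i < 2 ^ 96 := Nat.mod_lt _ (by norm_num)

theorem vz_slot_inj {V i j : ℕ} (h : vz (slot 96 V i) = vz (slot 96 V j)) : slot 96 V i = slot 96 V j :=
  slot4_ext (slot96_lt V i) (slot96_lt V j) (vzE_inj h)

/-- the check that the packed vectors increase -/
def sortedB (n V : ℕ) : Bool := allN (n - 1) fun i => Nat.blt (slot 96 V i) (slot 96 V (Nat.add i 1))

theorem sorted_spec {n V : ℕ} (h : sortedB n V = true) : ∀ j < n, ∀ i < j, slot 96 V i < slot 96 V j := by
  intro j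
  induction j with
  | zero => intro _ i hi; omega
  | succ j ih =>
    intro hj i hi
    have h1 : slot 96 V j < slot 96 V (j + 1) := blt_iff.mp (allN_spec h j (by omega))
    rcases Nat.lt_succ_iff_lt_or_eq.mp hi with h' | h'
    · exact lt_trans (ih (by omega) i h') h1
    · rw [h']
      exact h1

theorem cert_card {zI uI : ℕ} (hzI : invB zT zI = true) (huI : invB uT uI = true)
    {n V P G D root : ℕ} (y0 : ↥leechLattice) (hy0 : (y0 : GolayPt → ℤ) = vz root)
    (hchk : ∀ i < n, entryB n V P G D root zI uI i = true) (hsort : sortedB n V = true)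
    (hfin : (MulAction.orbit ↥G0 y0).Finite) : n ≤ (MulAction.orbit ↥G0 y0).ncard := by
  have hm := cert_mem hzI huI y0 hy0 hchk
  choose f hf using fun i : Fin n => hm i.1 i.2
  have hinj : Function.Injective f := by
    intro i j hij
    have h1 : vz (slot 96 V i.1) = vz (slot 96 V j.1) := by
      rw [← (hf i).2, ← (hf j).2, hij]
    have h2 := vz_slot_inj h1
    apply Fin.ext
    rcases Nat.lt_trichotomy i.1 j.1 with h | h | h
    · exact absurd h2 (ne_of_lt (sorted_spec hsort j.1 j.2 i.1 h))
    · exact h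
    · exact absurd h2.symm (ne_of_lt (sorted_spec hsort i.1 i.2 j.1 h))
  have hsub : Set.range f ⊆ MulAction.orbit ↥G0 y0 := by
    rintro _ ⟨i, rfl⟩
    exact (hf i).1
  have hcard : (Set.range f).ncard = n := by
    rw [← Set.image_univ, Set.ncard_image_of_injective _ hinj, Set.ncard_univ, Nat.card_eq_fintype_card,
      Fintype.card_fin]
  rw [← hcard]
  exact Set.ncard_le_ncard hsub hfin

theorem forall_of_chunks {f : ℕ → Bool} {m q : ℕ} (hm : 0 < m)
    (h : ∀ k < q, allN m (fun i => f (Nat.add (Nat.mul k m) i)) = true) : ∀ i < q * m, f i = true := by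
  intro i hi
  have hk : i / m < q := by
    rw [Nat.div_lt_iff_lt_mul hm]
    exact hi
  have := allN_spec (h (i / m) hk) (i % m) (Nat.mod_lt _ hm)
  have e : Nat.add (Nat.mul (i / m) m) (i % m) = i := by
    show i / m * m + i % m = i
    rw [mul_comm]
    exact Nat.div_add_mod i m
  rw [e] at this
  exact this

end Cfsg.Agent.Helper22.S1641Cert
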