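import Cfsg.Agent.Helper22.S1641Bounds

/-!
# The orbits of the stabiliser of a vector of type three and a minimal vector on the 11178 minimal vectors

The general statement is reduced to the standard pair by an automorphism of the lattice.
-/

set_option autoImplicit false

namespace Cfsg.Agent.Helper22.S1641Glue

open Cfsg Cfsg.Agent.Helper27 Cfsg.Agent.Helper22.Co0Mono Cfsg.Agent.Helper22.Co0Center
  Cfsg.Agent.Helper22.Norm6Trans Cfsg.Agent.Helper22.Summands Cfsg.Agent.Helper22.LeechMod2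
  Cfsg.Agent.Helper22.HS100 Cfsg.Agent.Helper22.HSBridge Cfsg.Agent.Helper22.HS352
  Cfsg.Agent.Helper22.Co3Orbit Cfsg.Agent.Helper22.S1641Std Cfsg.Agent.Helper22.S1641Bounds

/-- the stabiliser of two vectors -/
abbrev P2 (u x : ↥leechLattice) : Subgroup ↥Co0 := MulAction.stabilizer ↥Co0 u ⊓ MulAction.stabilizer ↥Co0 x

theorem mem_P2 (u x : ↥leechLattice) (k : ↥Co0) : k ∈ P2 u x ↔ k • u = u ∧ k • x = x := by
  rw [Subgroup.mem_inf, MulAction.mem_stabilizer_iff, MulAction.mem_stabilizer_iff]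

theorem image_orbit (g : ↥Co0) (u x y : ↥leechLattice) :
    (fun z : ↥leechLattice => g • z) '' MulAction.orbit ↥(P2 u x) y =
      MulAction.orbit ↥(P2 (g • u) (g • x)) (g • y) := by
  ext w
  constructor
  · rintro ⟨_, ⟨k, rfl⟩, rfl⟩
    obtain ⟨e1, e2⟩ := (mem_P2 u x k.1).mp k.2
    have hk : g * k.1 * g⁻¹ ∈ P2 (g • u) (g • x) := by
      rw [mem_P2]
      constructor
      · rw [mul_smul, mul_smul, inv_smul_smul, e1]
      · rw [mul_smul, mul_smul, inv_smul_smul, e2]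
    refine ⟨⟨_, hk⟩, ?_⟩
    show (g * k.1 * g⁻¹) • (g • y) = g • (k.1 • y)
    rw [mul_smul, mul_smul, inv_smul_smul]
  · rintro ⟨k, rfl⟩
    obtain ⟨e1, e2⟩ := (mem_P2 _ _ k.1).mp k.2
    have hk : g⁻¹ * k.1 * g ∈ P2 u x := by
      rw [mem_P2]
      constructor
      · rw [mul_smul, mul_smul, e1, inv_smul_smul]
      · rw [mul_smul, mul_smul, e2, inv_smul_smul]
    refine ⟨(⟨_, hk⟩ : ↥(P2 u x)) • y, ⟨⟨_, hk⟩, rfl⟩, ?_⟩
    show g • ((g⁻¹ * k.1 * g) • y) = k.1 • (g • y)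
    rw [mul_smul, mul_smul, smul_inv_smul]

theorem orbit_congr {H H' : Subgroup ↥Co0} (h : H = H') (y : ↥leechLattice) :
    MulAction.orbit ↥H y = MulAction.orbit ↥H' y := by
  subst h
  rfl

theorem D0_eq : D0 = D1 + d01 := by
  show D0 = D0 - d01 + d01
  rw [sub_add_cancel]

theorem P2_std : P2 D1 d01 = G0 := by
  ext k
  rw [mem_P2, mem_G0_iff]
  constructor
  · rintro ⟨e1, e2⟩
    refine ⟨?_, e1⟩
    rw [D0_eq, co0_add, e1, e2]
  · rintro ⟨e0, e1⟩
    refine ⟨e1, ?_⟩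
    have : d01 = D0 - D1 := by
      rw [D0_eq, add_sub_cancel_left]
    rw [this, co0_sub, e0, e1]

theorem image_orbit_std {g : ↥Co0} {u x : ↥leechLattice} (hu : g • u = D1) (hx : g • x = d01) (y' : ↥leechLattice) :
    (fun z : ↥leechLattice => g • z) '' MulAction.orbit ↥(P2 u x) (g⁻¹ • y') = MulAction.orbit ↥G0 y' := by
  have h := image_orbit g u x (g⁻¹ • y')
  rw [smul_inv_smul] at h
  rw [h]
  have e : P2 (g • u) (g • x) = G0 := by
    rw [hu, hx, P2_std]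
  exact orbit_congr e y'

theorem ncard_orbit_std {g : ↥Co0} {u x : ↥leechLattice} (hu : g • u = D1) (hx : g • x = d01) (y' : ↥leechLattice) :
    (MulAction.orbit ↥(P2 u x) (g⁻¹ • y')).ncard = (MulAction.orbit ↥G0 y').ncard := by
  rw [← image_orbit_std hu hx y']
  exact (Set.ncard_image_of_injective _ (MulAction.injective g)).symm

theorem image_W (g : ↥Co0) (u : ↥leechLattice) : (fun v : ↥leechLattice => g • v) '' W u = W (g • u) := by
  ext w
  constructor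
  · rintro ⟨v, hv, rfl⟩
    exact smul_mem_W g hv
  · intro hw
    refine ⟨g⁻¹ • w, ?_, smul_inv_smul g w⟩
    have := smul_mem_W g⁻¹ hw
    rwa [inv_smul_smul] at this

theorem exists_to_std (u x : ↥leechLattice) (hu : sqNorm (u : GolayPt → ℤ) = 48) (hx : x ∈ W u) :
    ∃ g : ↥Co0, g • u = D1 ∧ g • x = d01 := by
  obtain ⟨g1, hg1⟩ := norm6_to_d0 u hu
  obtain ⟨g2, hg2⟩ := norm6_to_d0 D1 sqNorm_D1
  have e1 : g1 • u = D0 := Subtype.ext hg1
  have e2 : g2 • D1 = D0 := Subtype.ext hg2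
  have e3 : (g2⁻¹ * g1) • u = D1 := by
    rw [mul_smul, e1, inv_smul_eq_iff, e2]
  have hx' : (g2⁻¹ * g1) • x ∈ W D1 := by
    have := smul_mem_W (g2⁻¹ * g1) hx
    rwa [e3] at this
  obtain ⟨g3, h3, h3'⟩ := W_transitive D1 sqNorm_D1 hx' d01_mem.1
  refine ⟨g3 * (g2⁻¹ * g1), ?_, ?_⟩
  · rw [mul_smul, e3, h3]
  · rw [mul_smul, h3']

/-- the orbits of the stabiliser of a vector of type three and a minimal vector -/
theorem main (u x : ↥leechLattice) (hu : sqNorm (u : GolayPt → ℤ) = 48) (hx : x ∈ W u) :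
    ∃ y₁ ∈ W u, ∃ y₂ ∈ W u, ∃ y₃ ∈ W u, ∃ y₄ ∈ W u,
      (MulAction.orbit ↥(P2 u x) y₁).ncard = 352 ∧ (MulAction.orbit ↥(P2 u x) y₂).ncard = 1100 ∧
      (MulAction.orbit ↥(P2 u x) y₃).ncard = 4125 ∧ (MulAction.orbit ↥(P2 u x) y₄).ncard = 5600 ∧
      W u = {x} ∪ MulAction.orbit ↥(P2 u x) y₁ ∪ MulAction.orbit ↥(P2 u x) y₂ ∪ MulAction.orbit ↥(P2 u x) y₃ ∪
        MulAction.orbit ↥(P2 u x) y₄ := by
  obtain ⟨g, hgu, hgx⟩ := exists_to_std u x hu hx
  obtain ⟨ca, cb, cc, cd, hW⟩ := std_orbits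
  have hmem : ∀ y' ∈ W D1, g⁻¹ • y' ∈ W u := by
    intro y' hy'
    have := smul_mem_W g⁻¹ hy'
    rwa [← hgu, inv_smul_smul] at this
  refine ⟨g⁻¹ • ya, hmem _ ya_mem.1, g⁻¹ • yb, hmem _ yb_mem.1, g⁻¹ • yc, hmem _ yc_mem.1, g⁻¹ • yd,
    hmem _ yd_mem.1, ?_, ?_, ?_, ?_, ?_⟩
  · rw [ncard_orbit_std hgu hgx, ca]
  · rw [ncard_orbit_std hgu hgx, cb]
  · rw [ncard_orbit_std hgu hgx, cc]
  · rw [ncard_orbit_std hgu hgx, cd]
  · apply Set.image_injective.mpr (MulAction.injective g)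
    rw [image_W, hgu, Set.image_union, Set.image_union, Set.image_union, Set.image_union, Set.image_singleton,
      image_orbit_std hgu hgx, image_orbit_std hgu hgx, image_orbit_std hgu hgx, image_orbit_std hgu hgx, hgx]
    exact hW

end Cfsg.Agent.Helper22.S1641Glue
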