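import Cfsg.Agent.Helper22.S1641Cert
import Cfsg.Agent.Helper22.S1641Data

/-!
# The orbits of the stabiliser of the standard pair of vectors of type three: roots and counting

The four roots of the orbits are given as lattice vectors, their coordinates are computed, and the counting argument
is prepared: the orbits lie in the sets of the minimal vectors with given inner products with the two vectors, these
sets are disjoint, and the total number of the vectors is known.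
-/

set_option autoImplicit false
set_option maxRecDepth 8000

namespace Cfsg.Agent.Helper22.S1641Std

open Cfsg Cfsg.Agent.Helper27 Cfsg.Agent.Helper22.Co0Mono Cfsg.Agent.Helper22.Co0Center
  Cfsg.Agent.Helper22.Norm6Trans Cfsg.Agent.Helper22.Summands Cfsg.Agent.Helper22.LeechMod2
  Cfsg.Agent.Helper22.QuadForm
  Cfsg.Agent.Helper22.HS100 Cfsg.Agent.Helper22.HS100b Cfsg.Agent.Helper22.McL2025
  Cfsg.Agent.Helper22.HSBridge Cfsg.Agent.Helper22.HSK Cfsg.Agent.Helper22.HS352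
  Cfsg.Agent.Helper22.Co2Vec Cfsg.Agent.Helper22.HSKData Cfsg.Agent.Helper22.Co3Orbit
  Cfsg.Agent.Helper22.S1641Cert Cfsg.Agent.Helper22.S1641Data
open Cfsg.Agent.Helper22.PermPack (slot allN allN_spec beq_iff blt_iff withNat withNat_eq)

/-! ### The roots -/

/-- the root of the orbit of length 352 -/
def ya : ↥leechLattice := -x1

/-- the root of the orbit of length 1100 -/
def yb : ↥leechLattice := D0 - F 1 - F 0

/-- the root of the orbit of length 4125 -/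
def yc : ↥leechLattice := D0 + D1 - F 0 - F 1 - F 2 - F 23

/-- the root of the orbit of length 5600 -/
def yd : ↥leechLattice := F 4 - D0 - D1 + F 0 + x1

theorem ya_coe : (ya : GolayPt → ℤ) = vz ra := by
  show -(fB O0) = vz ra
  funext p
  revert p
  decide +kernel

theorem yb_coe : (yb : GolayPt → ℤ) = vz rb := by
  show d0 - vecF 1 - vecF 0 = vz rb
  funext p
  revert p
  decide +kernel

theorem yc_coe : (yc : GolayPt → ℤ) = vz rc := by
  show d0 + (d0 - pv (pt 0) (pt 1) 4 (-4)) - vecF 0 - vecF 1 - vecF 2 - vecF 23 = vz rc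
  funext p
  revert p
  decide +kernel

theorem yd_coe : (yd : GolayPt → ℤ) = vz rd := by
  show vecF 4 - d0 - (d0 - pv (pt 0) (pt 1) 4 (-4)) + vecF 0 + fB O0 = vz rd
  funext p
  revert p
  decide +kernel

/-! ### The level sets -/

/-- the minimal vectors with given inner products with the two standard vectors -/
def Lv (c : ℤ) : Set ↥leechLattice := {y | y ∈ W D1 ∧ dotInt (D0 : GolayPt → ℤ) (y : GolayPt → ℤ) = c}

theorem Lv_sub (c : ℤ) : Lv c ⊆ W D1 := fun _ h => h.1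

theorem finite_W : (W D1).Finite := Set.finite_of_ncard_ne_zero (by rw [ncard_W D1 sqNorm_D1]; norm_num)

theorem Lv_disjoint {c c' : ℤ} (h : c ≠ c') {A B : Set ↥leechLattice} (hA : A ⊆ Lv c) (hB : B ⊆ Lv c') :
    Disjoint A B := by
  rw [Set.disjoint_left]
  intro y hy hy'
  exact h ((hA hy).2.symm.trans (hB hy').2)

theorem orbit_sub_Lv {c : ℤ} {y0 : ↥leechLattice} (h0 : y0 ∈ Lv c) : MulAction.orbit ↥G0 y0 ⊆ Lv c := by
  rintro _ ⟨g, rfl⟩
  obtain ⟨e0, e1⟩ := (mem_G0_iff g.1).mp g.2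
  refine ⟨?_, ?_⟩
  · have := smul_mem_W g.1 h0.1
    rwa [e1] at this
  · show dotInt (D0 : GolayPt → ℤ) ((g.1 • y0 : ↥leechLattice) : GolayPt → ℤ) = c
    have := co0_dot g.1 D0 y0
    rw [e0] at this
    rw [this]
    exact h0.2

theorem d01_mem : d01 ∈ Lv 16 := by
  refine ⟨⟨k2, ?_⟩, dot_D0_d01⟩
  show dotInt (d0 - pv (pt 0) (pt 1) 4 (-4)) (pv (pt 0) (pt 1) 4 (-4)) = -16
  decide +kernel

theorem ya_mem : ya ∈ Lv (-24) := by
  refine ⟨⟨?_, ?_⟩, ?_⟩
  · rw [ya_coe]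
    decide +kernel
  · rw [ya_coe]
    show dotInt (d0 - pv (pt 0) (pt 1) 4 (-4)) (vz ra) = -16
    decide +kernel
  · rw [ya_coe]
    show dotInt d0 (vz ra) = -24
    decide +kernel

theorem yb_mem : yb ∈ Lv 0 := by
  refine ⟨⟨?_, ?_⟩, ?_⟩
  · rw [yb_coe]
    decide +kernel
  · rw [yb_coe]
    show dotInt (d0 - pv (pt 0) (pt 1) 4 (-4)) (vz rb) = -16
    decide +kernel
  · rw [yb_coe]
    show dotInt d0 (vz rb) = 0
    decide +kernel

theorem yc_mem : yc ∈ Lv (-16) := by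
  refine ⟨⟨?_, ?_⟩, ?_⟩
  · rw [yc_coe]
    decide +kernel
  · rw [yc_coe]
    show dotInt (d0 - pv (pt 0) (pt 1) 4 (-4)) (vz rc) = -16
    decide +kernel
  · rw [yc_coe]
    show dotInt d0 (vz rc) = -16
    decide +kernel

theorem yd_mem : yd ∈ Lv (-8) := by
  refine ⟨⟨?_, ?_⟩, ?_⟩
  · rw [yd_coe]
    decide +kernel
  · rw [yd_coe]
    show dotInt (d0 - pv (pt 0) (pt 1) 4 (-4)) (vz rd) = -16
    decide +kernel
  · rw [yd_coe]
    show dotInt d0 (vz rd) = -8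
    decide +kernel

theorem finite_orbit {c : ℤ} {y0 : ↥leechLattice} (h0 : y0 ∈ Lv c) : (MulAction.orbit ↥G0 y0).Finite :=
  finite_W.subset ((orbit_sub_Lv h0).trans (Lv_sub c))

/-! ### Counting -/

theorem counting {α : Type*} {W A0 A1 A2 A3 A4 : Set α} {n0 n1 n2 n3 n4 N : ℕ} (hW : W.Finite) (hN : W.ncard = N)
    (hsum : n0 + n1 + n2 + n3 + n4 = N)
    (s0 : A0 ⊆ W) (s1 : A1 ⊆ W) (s2 : A2 ⊆ W) (s3 : A3 ⊆ W) (s4 : A4 ⊆ W)
    (d01 : Disjoint A0 A1) (d02 : Disjoint A0 A2) (d03 : Disjoint A0 A3) (d04 : Disjoint A0 A4)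
    (d12 : Disjoint A1 A2) (d13 : Disjoint A1 A3) (d14 : Disjoint A1 A4)
    (d23 : Disjoint A2 A3) (d24 : Disjoint A2 A4) (d34 : Disjoint A3 A4)
    (b0 : n0 ≤ A0.ncard) (b1 : n1 ≤ A1.ncard) (b2 : n2 ≤ A2.ncard) (b3 : n3 ≤ A3.ncard) (b4 : n4 ≤ A4.ncard) :
    A1.ncard = n1 ∧ A2.ncard = n2 ∧ A3.ncard = n3 ∧ A4.ncard = n4 ∧ W = A0 ∪ A1 ∪ A2 ∪ A3 ∪ A4 := by
  have f0 := hW.subset s0
  have f1 := hW.subset s1
  have f2 := hW.subset s2
  have f3 := hW.subset s3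
  have f4 := hW.subset s4
  have e1 : (A0 ∪ A1).ncard = A0.ncard + A1.ncard := Set.ncard_union_eq d01 f0 f1
  have e2 : (A0 ∪ A1 ∪ A2).ncard = A0.ncard + A1.ncard + A2.ncard := by
    rw [Set.ncard_union_eq (Set.disjoint_union_left.mpr ⟨d02, d12⟩) (f0.union f1) f2, e1]
  have e3 : (A0 ∪ A1 ∪ A2 ∪ A3).ncard = A0.ncard + A1.ncard + A2.ncard + A3.ncard := by
    rw [Set.ncard_union_eq (Set.disjoint_union_left.mpr ⟨Set.disjoint_union_left.mpr ⟨d03, d13⟩, d23⟩)
      ((f0.union f1).union f2) f3, e2]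
  have e4 : (A0 ∪ A1 ∪ A2 ∪ A3 ∪ A4).ncard = A0.ncard + A1.ncard + A2.ncard + A3.ncard + A4.ncard := by
    rw [Set.ncard_union_eq (Set.disjoint_union_left.mpr
      ⟨Set.disjoint_union_left.mpr ⟨Set.disjoint_union_left.mpr ⟨d04, d14⟩, d24⟩, d34⟩)
      (((f0.union f1).union f2).union f3) f4, e3]
  have hsub : A0 ∪ A1 ∪ A2 ∪ A3 ∪ A4 ⊆ W :=
    Set.union_subset (Set.union_subset (Set.union_subset (Set.union_subset s0 s1) s2) s3) s4
  have hle : (A0 ∪ A1 ∪ A2 ∪ A3 ∪ A4).ncard ≤ N := by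
    rw [← hN]
    exact Set.ncard_le_ncard hsub hW
  refine ⟨by omega, by omega, by omega, by omega, ?_⟩
  exact (Set.eq_of_subset_of_ncard_le hsub (by rw [hN]; omega) hW).symm

theorem std_of_bounds (ha : 352 ≤ (MulAction.orbit ↥G0 ya).ncard) (hb : 1100 ≤ (MulAction.orbit ↥G0 yb).ncard)
    (hc : 4125 ≤ (MulAction.orbit ↥G0 yc).ncard) (hd : 5600 ≤ (MulAction.orbit ↥G0 yd).ncard) :
    (MulAction.orbit ↥G0 ya).ncard = 352 ∧ (MulAction.orbit ↥G0 yb).ncard = 1100 ∧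
    (MulAction.orbit ↥G0 yc).ncard = 4125 ∧ (MulAction.orbit ↥G0 yd).ncard = 5600 ∧
    W D1 = {d01} ∪ MulAction.orbit ↥G0 ya ∪ MulAction.orbit ↥G0 yb ∪ MulAction.orbit ↥G0 yc ∪
      MulAction.orbit ↥G0 yd := by
  have h0 : ({d01} : Set ↥leechLattice) ⊆ Lv 16 := by
    intro y hy
    rw [Set.mem_singleton_iff] at hy
    rw [hy]
    exact d01_mem
  have h1 := orbit_sub_Lv ya_mem
  have h2 := orbit_sub_Lv yb_mem
  have h3 := orbit_sub_Lv yc_mem
  have h4 := orbit_sub_Lv yd_mem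
  exact counting (n0 := 1) finite_W (ncard_W D1 sqNorm_D1) (by norm_num)
    (h0.trans (Lv_sub _)) (h1.trans (Lv_sub _)) (h2.trans (Lv_sub _)) (h3.trans (Lv_sub _)) (h4.trans (Lv_sub _))
    (Lv_disjoint (by norm_num) h0 h1) (Lv_disjoint (by norm_num) h0 h2) (Lv_disjoint (by norm_num) h0 h3)
    (Lv_disjoint (by norm_num) h0 h4) (Lv_disjoint (by norm_num) h1 h2) (Lv_disjoint (by norm_num) h1 h3)
    (Lv_disjoint (by norm_num) h1 h4) (Lv_disjoint (by norm_num) h2 h3) (Lv_disjoint (by norm_num) h2 h4)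
    (Lv_disjoint (by norm_num) h3 h4) (by rw [Set.ncard_singleton]) ha hb hc hd

end Cfsg.Agent.Helper22.S1641Std
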