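import Cfsg.Agent.Helper22.HSSrg
import Cfsg.Agent.Helper22.HSIso2
import Cfsg.Agent.S0378
import Cfsg.Prelude.Def_Spor_Mathieu

/-!
# Glue for the recognition of the Higman–Sims group as a group of rank three on a hundred points
-/

set_option autoImplicit false

namespace Cfsg.Agent.Helper22.S1666Glue

open Cfsg Cfsg.Agent.Helper22.PermPack Cfsg.Agent.Helper22.GraphRefine Cfsg.Agent.Helper22.HSGraph
  Cfsg.Agent.Helper22.HSSrg Cfsg.Agent.Helper22.HSK

/-! ### A subgroup of the order of a simple subgroup of index at most two -/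

theorem eq_of_card_eq_of_simple {A : Type*} [Group A] (U K H : Subgroup A) [Finite U] (hKU : K ≤ U) (hHU : H ≤ U)
    (hU : Nat.card U ≤ 2 * Nat.card K) (hK : IsSimpleGroup K) (hK2 : 2 < Nat.card K)
    (hcard : Nat.card H = Nat.card K) : H = K := by
  have : Finite H := Finite.of_injective (Subgroup.inclusion hHU) (Subgroup.inclusion_injective hHU)
  have h1 : Nat.card ↥(H.subgroupOf U) * H.relIndex U = Nat.card ↥U := (H.subgroupOf U).card_mul_index
  rw [Nat.card_congr (Subgroup.subgroupOfEquivOfLe hHU).toEquiv, hcard] at h1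
  have hpos : 0 < Nat.card ↥U := Nat.card_pos
  have h0 : H.relIndex U ≠ 0 := by
    intro h0
    rw [h0] at h1
    omega
  have h2 : H.relIndex U ≤ 2 := by
    by_contra hc
    rw [not_le] at hc
    have : Nat.card ↥K * 3 ≤ Nat.card ↥K * H.relIndex U := Nat.mul_le_mul_left _ hc
    omega
  have h3 : H.relIndex K ≤ 2 := (Subgroup.relIndex_le_of_le_right hKU h0).trans h2
  have h4 : H.relIndex K ≠ 0 := fun h => h0 (Subgroup.relIndex_eq_zero_of_le_right hKU h)
  have hn : (H.subgroupOf K).Normal := by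
    have hidx : (H.subgroupOf K).index = H.relIndex K := rfl
    rcases Nat.lt_or_ge (H.relIndex K) 2 with hlt | hge
    · have h1' : (H.subgroupOf K).index = 1 := by omega
      rw [Subgroup.index_eq_one] at h1'
      rw [h1']
      infer_instance
    · exact Subgroup.normal_of_index_eq_two (by omega)
  have hle : K ≤ H := by
    rcases hn.eq_bot_or_eq_top with hb | ht
    · exfalso
      have h5 : (H.subgroupOf K).index = Nat.card ↥K := by rw [hb, Subgroup.index_bot]
      have h6 : (H.subgroupOf K).index = H.relIndex K := rfl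
      omega
    · exact Subgroup.subgroupOf_eq_top.mp ht
  exact (Subgroup.eq_of_le_of_card_ge hle (le_of_eq hcard)).symm

/-! ### The group on a hundred points -/

theorem K_simple : IsSimpleGroup ↥K := by
  have := HSIso.G0_simple
  exact HSIso.equivK.symm.isSimpleGroup

theorem nonempty_K_equiv_HS : Nonempty (↥K ≃* ↥Spor.HS) := by
  obtain ⟨e⟩ := HSIso.nonempty_equiv
  exact ⟨HSIso.equivK.symm.trans e.symm⟩

theorem eq_K_of_card (H : Subgroup (Equiv.Perm (Fin 100))) (hH : H ≤ AutG 100 adjHS)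
    (hcard : Nat.card H = 44352000) : H = K := by
  apply eq_of_card_eq_of_simple (AutG 100 adjHS) K H K_le_AutG hH _ K_simple
  · rw [card_K]; norm_num
  · rw [hcard, card_K]
  · rw [card_K]
    exact HSGraph.card_AutG_le

/-! ### Transport along an isomorphism of graphs -/

theorem map_le_AutG {Ω : Type*} (Γ : SimpleGraph Ω) (φ : Γ ≃g hsGraph) (G : Subgroup (Equiv.Perm Ω))
    (hG : ∀ g : Equiv.Perm Ω, g ∈ G → ∀ x y : Ω, Γ.Adj (g x) (g y) ↔ Γ.Adj x y) :
    G.map (φ.toEquiv.permCongrHom : Equiv.Perm Ω →* Equiv.Perm (Fin 100)) ≤ AutG 100 adjHS := by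
  rintro _ ⟨g, hg, rfl⟩
  rw [mem_AutG]
  intro i j
  rw [Bool.eq_iff_iff, ← hsGraph_adj, ← hsGraph_adj]
  show hsGraph.Adj (φ (g (φ.symm i))) (φ (g (φ.symm j))) ↔ hsGraph.Adj i j
  rw [φ.map_rel_iff, hG g hg, φ.symm.map_rel_iff]

/-- a group of automorphisms of a strongly regular graph with the parameters `(100, 22, 0, 6)`, of order
`44352000`, is the Higman–Sims group -/
theorem isoHS_of_srg {Ω : Type*} [Fintype Ω] (Γ : SimpleGraph Ω) [DecidableRel Γ.Adj]
    (uniq : ∀ [DecidableRel hsGraph.Adj], hsGraph.IsSRGWith 100 22 0 6 → Nonempty (Γ ≃g hsGraph))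
    (G : Subgroup (Equiv.Perm Ω))
    (hG : ∀ g : Equiv.Perm Ω, g ∈ G → ∀ x y : Ω, Γ.Adj (g x) (g y) ↔ Γ.Adj x y)
    (hcard : Nat.card G = 44352000) : Spor.IsoHS G := by
  obtain ⟨φ⟩ := uniq hsGraph_srg
  have e1 : ↥G ≃* ↥(G.map (φ.toEquiv.permCongrHom : Equiv.Perm Ω →* Equiv.Perm (Fin 100))) :=
    φ.toEquiv.permCongrHom.subgroupMap G
  have h2 : G.map (φ.toEquiv.permCongrHom : Equiv.Perm Ω →* Equiv.Perm (Fin 100)) = K :=
    eq_K_of_card _ (map_le_AutG Γ φ G hG) (by rw [← Nat.card_congr e1.toEquiv, hcard])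
  obtain ⟨e3⟩ := nonempty_K_equiv_HS
  exact ⟨(e1.trans (MulEquiv.subgroupCongr h2)).trans e3⟩

/-! ### The order of the Mathieu group of degree 22 -/

theorem mem_M22 (σ : Equiv.Perm GolayPt) :
    σ ∈ Spor.M22 ↔ σ ∈ M24 ∧ σ none = none ∧ σ (some 0) = some 0 := by
  simp only [Spor.M22, Spor.M23, Subgroup.mem_inf, MulAction.mem_stabilizer_iff, Equiv.Perm.smul_def, and_assoc]

theorem mem_stab2 (σ : ↥M24) :
    σ ∈ MulAction.stabilizer ↥M24 (none : GolayPt) ⊓ MulAction.stabilizer ↥M24 (some 0 : GolayPt) ↔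
      σ.1 none = none ∧ σ.1 (some 0) = some 0 := by
  simp only [Subgroup.mem_inf, MulAction.mem_stabilizer_iff, Subgroup.smul_def, Equiv.Perm.smul_def]

theorem card_M22 : Nat.card ↥Spor.M22 = 443520 := by
  rw [← Cfsg.Agent.S0378.result (none : GolayPt) (some 0) (by decide)]
  apply Nat.card_congr
  exact
    { toFun := fun σ => ⟨⟨σ.1, ((mem_M22 σ.1).mp σ.2).1⟩, (mem_stab2 _).mpr ((mem_M22 σ.1).mp σ.2).2⟩
      invFun := fun σ => ⟨σ.1.1, (mem_M22 _).mpr ⟨σ.1.2, (mem_stab2 σ.1).mp σ.2⟩⟩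
      left_inv := fun _ => rfl
      right_inv := fun _ => rfl }

/-- the order of a transitive group from the order of the stabiliser of a point -/
theorem card_of_transitive {Ω : Type*} [Fintype Ω] (G : Subgroup (Equiv.Perm Ω)) [MulAction.IsPretransitive G Ω]
    (a : Ω) : Nat.card G = Nat.card ↥(MulAction.stabilizer G a) * Fintype.card Ω := by
  rw [← (MulAction.stabilizer G a).card_mul_index, MulAction.index_stabilizer_of_transitive,
    Nat.card_eq_fintype_card (α := Ω)]

end Cfsg.Agent.Helper22.S1666Glue
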