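import Mathlib
import Cfsg.Agent.Helper8.S1904Defs

/-!
# S1904 board, row BMAX

If `Z(N) ≰ Z(X)` there is a maximal `A`-invariant normal abelian subgroup which is not central.
-/

set_option autoImplicit false
set_option linter.unusedVariables false
set_option linter.unusedSectionVars false

namespace Cfsg.Agent.S1904P

variable {X : Type*} [Group X] [Finite X] {A : Subgroup (MulAut X)} {B : Subgroup X}

/-- every automorphism maps `C_X(N)` into itself -/
theorem BMAX_aux_cent (φ : MulAut X) {c : X} (hc : c ∈ Subgroup.centralizer (NN X : Set X)) :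
    φ c ∈ Subgroup.centralizer (NN X : Set X) := by
  rw [Subgroup.mem_centralizer_iff] at hc ⊢
  intro n hn
  have h1 : φ.symm n ∈ NN X := NN_aut φ.symm hn
  have h2 := hc (φ.symm n) h1
  have h3 := congrArg φ h2
  simpa using h3

/-- BMAX: if `Z(N) ≰ Z(X)` there is a maximal invariant normal abelian subgroup which is not central. -/
theorem BMAX (H : Hyp A)
    (hβ : ¬ ∀ n ∈ NN X, (∀ m ∈ NN X, n * m = m * n) → n ∈ Subgroup.center X) :
    ∃ B : Subgroup X, MaxAb A B := by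
  -- `B₀ = Z(N)`
  set B₀ : Subgroup X := NN X ⊓ Subgroup.centralizer (NN X : Set X) with hB₀
  have hB₀n : B₀.Normal := by
    rw [hB₀]; infer_instance
  have hB₀i : Inv A B₀ := by
    intro φ _ n hn
    exact ⟨NN_aut φ hn.1, BMAX_aux_cent φ hn.2⟩
  have hB₀c : ∀ a ∈ B₀, ∀ b ∈ B₀, a * b = b * a := by
    intro a ha b hb
    exact ((Subgroup.mem_centralizer_iff.1 hb.2) a ha.1)
  have hB₀nc : ¬ B₀ ≤ Subgroup.center X := by
    intro hle
    apply hβ
    intro n hn hcomm
    apply hle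
    have hcen : n ∈ Subgroup.centralizer (NN X : Set X) := by
      rw [Subgroup.mem_centralizer_iff]
      intro m hm
      exact (hcomm m hm).symm
    exact Subgroup.mem_inf.2 ⟨hn, hcen⟩
  -- a maximal element of the finite set of candidates
  let 𝒮 : Set (Subgroup X) :=
    {B' | B'.Normal ∧ Inv A B' ∧ (∀ a ∈ B', ∀ b ∈ B', a * b = b * a) ∧ B₀ ≤ B'}
  have hfin : 𝒮.Finite := Set.toFinite 𝒮
  have hne : 𝒮.Nonempty := ⟨B₀, hB₀n, hB₀i, hB₀c, le_refl _⟩
  obtain ⟨B, hBmax⟩ := hfin.exists_maximal hne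
  obtain ⟨⟨hBn, hBi, hBc, hB₀B⟩, hmax⟩ := hBmax
  refine ⟨B, hBn, hBi, hBc, ?_, fun h => hB₀nc (hB₀B.trans h)⟩
  intro B' hB'n hB'i hB'c hBB'
  have hmem : B' ∈ 𝒮 := ⟨hB'n, hB'i, hB'c, hB₀B.trans hBB'⟩
  exact le_antisymm (hmax hmem hBB') hBB'

end Cfsg.Agent.S1904P
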