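import Mathlib
import Cfsg.Agent.Helper8.S1904Defs

/-!
# S1904 board, row KEY: core (the instance of PN that is used is a hypothesis)

If `Z(N) ≤ Z(X)` (`N = NN X`) then squares and commutators are central and `X' ≤ W`.
-/

set_option autoImplicit false
set_option linter.unusedVariables false
set_option linter.unusedSectionVars false

namespace Cfsg.Agent.S1904P

variable {X : Type*} [Group X]

/-- `[n, x] ∈ W` for `n ∈ N` -/
theorem KEY_aux_c {n : X} (hn : n ∈ NN X) (x : X) : n * x * n⁻¹ * x⁻¹ ∈ WW X := by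
  obtain ⟨hn2, hnc⟩ := hn
  have hc : n * x * n⁻¹ * x⁻¹ ∈ Subgroup.center X := hnc x
  refine ⟨hc, ?_⟩
  set c := n * x * n⁻¹ * x⁻¹ with hcdef
  have e1 : n * x * n⁻¹ = c * x := by rw [hcdef]; group
  have hcn : n * c = c * n := (Subgroup.mem_center_iff.1 hc) n
  have e2 : (n * n) * x * (n * n)⁻¹ = c * c * x := by
    calc (n * n) * x * (n * n)⁻¹ = n * (n * x * n⁻¹) * n⁻¹ := by group
      _ = n * (c * x) * n⁻¹ := by rw [e1]
      _ = (n * c) * x * n⁻¹ := by group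
      _ = (c * n) * x * n⁻¹ := by rw [hcn]
      _ = c * (n * x * n⁻¹) := by group
      _ = c * (c * x) := by rw [e1]
      _ = c * c * x := by group
  have e3 : (n * n) * x * (n * n)⁻¹ = x := by
    have h := (Subgroup.mem_center_iff.1 hn2) x
    calc (n * n) * x * (n * n)⁻¹ = (x * (n * n)) * (n * n)⁻¹ := by rw [h]
      _ = x := by group
  have e4 : c * c * x = 1 * x := by rw [one_mul, ← e2, e3]
  exact mul_right_cancel e4

/-- central factors drop out of commutators (left) -/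
theorem KEY_aux_comm_left {z : X} (hz : z ∈ Subgroup.center X) (x y : X) :
    (z * x) * y * (z * x)⁻¹ * y⁻¹ = x * y * x⁻¹ * y⁻¹ := by
  have h := (Subgroup.mem_center_iff.1 hz) (x * y * x⁻¹)
  calc (z * x) * y * (z * x)⁻¹ * y⁻¹ = z * (x * y * x⁻¹) * z⁻¹ * y⁻¹ := by group
    _ = (x * y * x⁻¹) * z * z⁻¹ * y⁻¹ := by rw [h]
    _ = x * y * x⁻¹ * y⁻¹ := by group

/-- central factors drop out of commutators (right) -/
theorem KEY_aux_comm_right {z : X} (hz : z ∈ Subgroup.center X) (x y : X) :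
    x * (z * y) * x⁻¹ * (z * y)⁻¹ = x * y * x⁻¹ * y⁻¹ := by
  have h := (Subgroup.mem_center_iff.1 hz) (x * y * x⁻¹ * y⁻¹)
  have h2 := (Subgroup.mem_center_iff.1 hz) x
  calc x * (z * y) * x⁻¹ * (z * y)⁻¹ = (x * z) * y * x⁻¹ * y⁻¹ * z⁻¹ := by group
    _ = (z * x) * y * x⁻¹ * y⁻¹ * z⁻¹ := by rw [h2]
    _ = z * (x * y * x⁻¹ * y⁻¹) * z⁻¹ := by group
    _ = (x * y * x⁻¹ * y⁻¹) * z * z⁻¹ := by rw [h]
    _ = x * y * x⁻¹ * y⁻¹ := by group

/-- squares centralise `N` -/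
theorem KEY_aux_sq {n : X} (hn : n ∈ NN X) (x : X) : n * (x * x) = (x * x) * n := by
  have hc := KEY_aux_c hn x
  set c := n * x * n⁻¹ * x⁻¹ with hcdef
  have e1 : n * x = c * x * n := by rw [hcdef]; group
  have hcx : x * c = c * x := (Subgroup.mem_center_iff.1 hc.1) x
  calc n * (x * x) = (n * x) * x := by group
    _ = (c * x * n) * x := by rw [e1]
    _ = c * x * (n * x) := by group
    _ = c * x * (c * x * n) := by rw [e1]
    _ = c * (x * c) * x * n := by group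
    _ = c * (c * x) * x * n := by rw [hcx]
    _ = (c * c) * (x * x) * n := by group
    _ = (x * x) * n := by rw [hc.2, one_mul]

/-- commutators centralise `N` -/
theorem KEY_aux_cm {n : X} (hn : n ∈ NN X) (x y : X) :
    n * (x * y * x⁻¹ * y⁻¹) = (x * y * x⁻¹ * y⁻¹) * n := by
  have hcx := KEY_aux_c hn x
  have hcy := KEY_aux_c hn y
  have e1 : n * x * n⁻¹ = (n * x * n⁻¹ * x⁻¹) * x := by group
  have e2 : n * y * n⁻¹ = (n * y * n⁻¹ * y⁻¹) * y := by group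
  have e : n * (x * y * x⁻¹ * y⁻¹) * n⁻¹ = x * y * x⁻¹ * y⁻¹ := by
    calc n * (x * y * x⁻¹ * y⁻¹) * n⁻¹
        = (n * x * n⁻¹) * (n * y * n⁻¹) * (n * x * n⁻¹)⁻¹ * (n * y * n⁻¹)⁻¹ := by group
      _ = ((n * x * n⁻¹ * x⁻¹) * x) * ((n * y * n⁻¹ * y⁻¹) * y) * ((n * x * n⁻¹ * x⁻¹) * x)⁻¹
            * ((n * y * n⁻¹ * y⁻¹) * y)⁻¹ := by rw [← e1, ← e2]
      _ = x * ((n * y * n⁻¹ * y⁻¹) * y) * x⁻¹ * ((n * y * n⁻¹ * y⁻¹) * y)⁻¹ :=
          KEY_aux_comm_left hcx.1 x _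
      _ = x * y * x⁻¹ * y⁻¹ := KEY_aux_comm_right hcy.1 x y
  calc n * (x * y * x⁻¹ * y⁻¹) = (n * (x * y * x⁻¹ * y⁻¹) * n⁻¹) * n := by group
    _ = (x * y * x⁻¹ * y⁻¹) * n := by rw [e]

/-- the core of KEY: `hPN` is the instance `M = Z(X)`, `N = C_X(NN X)` of PN. -/
theorem KEY_aux_core
    (hPN : Subgroup.center X < Subgroup.centralizer (NN X : Set X) →
      ∃ n ∈ Subgroup.centralizer (NN X : Set X), n ∉ Subgroup.center X ∧ n * n ∈ Subgroup.center X ∧
        ∀ x : X, n * x * n⁻¹ * x⁻¹ ∈ Subgroup.center X)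
    (hα : ∀ n ∈ NN X, (∀ m ∈ NN X, n * m = m * n) → n ∈ Subgroup.center X) :
    (∀ x y : X, x * y * x⁻¹ * y⁻¹ ∈ WW X) ∧ ∀ x : X, x * x ∈ Subgroup.center X := by
  -- `C_X(N) = Z`
  have hCZ : Subgroup.centralizer (NN X : Set X) ≤ Subgroup.center X := by
    by_contra hnle
    have hlt : Subgroup.center X < Subgroup.centralizer (NN X : Set X) :=
      lt_of_le_of_ne (Subgroup.center_le_centralizer _) (fun h => hnle (le_of_eq h.symm))
    obtain ⟨c, hcC, hcZ, hc2, hcc⟩ := hPN hlt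
    have hcN : c ∈ NN X := ⟨hc2, hcc⟩
    apply hcZ
    apply hα c hcN
    intro m hm
    exact ((Subgroup.mem_centralizer_iff.1 hcC) m hm).symm
  have hsq : ∀ x : X, x * x ∈ Subgroup.center X := by
    intro x
    apply hCZ
    rw [Subgroup.mem_centralizer_iff]
    intro n hn
    exact KEY_aux_sq hn x
  have hcm : ∀ x y : X, x * y * x⁻¹ * y⁻¹ ∈ Subgroup.center X := by
    intro x y
    apply hCZ
    rw [Subgroup.mem_centralizer_iff]
    intro n hn
    exact KEY_aux_cm hn x y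
  refine ⟨fun x y => ?_, hsq⟩
  exact KEY_aux_c (n := x) ⟨hsq x, hcm x⟩ y

end Cfsg.Agent.S1904P
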