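import Mathlib
import Cfsg.Agent.Helper8.S1904Defs
import Cfsg.Agent.Helper6.S1904PN
import Cfsg.Agent.Helper22.S1904KEYcore

/-!
# S1904 board, row KEY

If `Z(N) ≤ Z(X)` then `X/Z` is elementary abelian and `X' ≤ W`.
-/

set_option autoImplicit false
set_option linter.unusedVariables false
set_option linter.unusedSectionVars false

namespace Cfsg.Agent.S1904P

variable {X : Type*} [Group X] [Finite X] {A : Subgroup (MulAut X)} {B : Subgroup X}

/-- KEY: if `Z(N) ≤ Z(X)` then `X/Z` is elementary abelian and `X' ≤ W`. -/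
theorem KEY (H : Hyp A)
    (hα : ∀ n ∈ NN X, (∀ m ∈ NN X, n * m = m * n) → n ∈ Subgroup.center X) :
    (∀ x y : X, x * y * x⁻¹ * y⁻¹ ∈ WW X) ∧ ∀ x : X, x * x ∈ Subgroup.center X :=
  KEY_aux_core (fun hlt => PN H.pX _ _ inferInstance inferInstance hlt) hα

end Cfsg.Agent.S1904P
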