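import Mathlib
import Cfsg.Agent.Helper2.S2094.DefsR
import Cfsg.Agent.Helper4.S2094MONOB
import Cfsg.Agent.Helper16.S2094TCONJB

set_option autoImplicit false
set_option linter.unusedSectionVars false
set_option linter.unusedVariables false

/-! S2094 chapter N, piece CHARB (helper22; driver helper2): the torus acts on the root elements
through the diagonal entries. -/

namespace Cfsg.Agent.S2094P

open Matrix Cfsg.Agent.S3352P Cfsg.Agent.S3351P Cfsg.Agent.S2096P Cfsg.Agent.S2086P Cfsg.Agent.RGD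

variable {n : ℕ} {F : Type*} [Field F] {M : Type*} [Group M] {X : J n → J n → F → M}
  {Ys : J n → F → M}

namespace CHARB

theorem ngEquivariant_one : NgEquivariant (n := n) ((1 : Equiv.Perm (J n)) : J n → J n) :=
  fun _ => rfl

theorem extI_one (a : I n) : extI (n := n) ((1 : Equiv.Perm (J n)) : J n → J n) a = a := by
  unfold extI
  rcases a with a | a <;> rfl

/-- left multiplication by a diagonal matrix -/
theorem diag_mul_apply {A B : Matrix (I n) (I n) F} (hA : ∀ i a, i ≠ a → A i a = 0) (i j : I n) :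
    (A * B) i j = A i i * B i j := by
  rw [Matrix.mul_apply]
  apply Finset.sum_eq_single i
  · intro k _ hk
    rw [hA i k (Ne.symm hk), zero_mul]
  · intro hi
    exact absurd (Finset.mem_univ i) hi

/-- right multiplication by a diagonal matrix -/
theorem mul_diag_apply {A B : Matrix (I n) (I n) F} (hA : ∀ i a, i ≠ a → A i a = 0) (i j : I n) :
    (B * A) i j = B i j * A j j := by
  rw [Matrix.mul_apply]
  apply Finset.sum_eq_single j
  · intro k _ hk
    rw [hA k j hk, mul_zero]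
  · intro hj
    exact absurd (Finset.mem_univ j) hj

/-- a diagonal entry of an invertible diagonal matrix is nonzero -/
theorem diag_ne_zero {A B : Matrix (I n) (I n) F} (hA : ∀ i a, i ≠ a → A i a = 0)
    (hAB : A * B = 1) (i : I n) : A i i ≠ 0 := by
  intro h0
  have := diag_mul_apply (B := B) hA i i
  rw [hAB, Matrix.one_apply_eq, h0, zero_mul] at this
  exact one_ne_zero this

theorem xmB_apply_ab {a b : J n} (hab : IsRoot a b) (t : F) :
    xmB a b t (Sum.inr a) (Sum.inr b) = t := by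
  obtain ⟨h1, h2⟩ := hab
  unfold xmB
  have h3 : ¬ (ng b = a) := fun h => h2 h.symm
  simp [h1, h3]

theorem ymB_apply_a0 (a : J n) (t : F) :
    ymB a t (Sum.inr a) o0 = 2 * t := by
  unfold ymB
  simp

end CHARB

open CHARB

section pi

theorem diag_of_mem_HhB [Finite F] (π : M →* Matrix (I n) (I n) F)
    (hπX : ∀ a b, IsRoot a b → ∀ t : F, π (X a b t) = xmB a b t)
    (hπY : ∀ a, ∀ t : F, π (Ys a t) = ymB a t) (hn : 3 ≤ n) (h2 : (2 : F) ≠ 0) (hB : BRel X Ys)
    {h : M} (hh : h ∈ HhB X Ys) : ∀ i a, i ≠ a → π h i a = 0 := by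
  intro i a hia
  apply mono_of_rootPB π hπX hπY hn h2 (g := h) (σ := 1) ngEquivariant_one
  · intro a b hab t
    exact HhB_conj_X hn hB hh hab t
  · intro a t
    exact HhB_conj_Ys hn hB hh a t
  · rw [extI_one]
    exact hia

theorem HhB_conj_X_eq [Finite F] (π : M →* Matrix (I n) (I n) F)
    (hπX : ∀ a b, IsRoot a b → ∀ t : F, π (X a b t) = xmB a b t)
    (hπY : ∀ a, ∀ t : F, π (Ys a t) = ymB a t) (hn : 3 ≤ n) (h2 : (2 : F) ≠ 0) (hB : BRel X Ys)
    {h : M} (hh : h ∈ HhB X Ys) {a b : J n} (hab : IsRoot a b) (u : F) :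
    h * X a b u * h⁻¹ =
      X a b (π h (Sum.inr a) (Sum.inr a) * (π h (Sum.inr b) (Sum.inr b))⁻¹ * u) := by
  obtain ⟨u', hu'⟩ := HhB_conj_X hn hB hh hab u
  have hd := diag_of_mem_HhB π hπX hπY hn h2 hB hh
  have hinv : π h * π h⁻¹ = 1 := by rw [← map_mul, mul_inv_cancel, map_one]
  have hb := diag_ne_zero hd hinv (Sum.inr b)
  have e1 : π h * xmB a b u = xmB a b u' * π h := by
    rw [← hπX a b hab u, ← hπX a b hab u', ← map_mul, ← map_mul, ← hu']
    simp
  have e2 := congrFun (congrFun e1 (Sum.inr a)) (Sum.inr b)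
  rw [diag_mul_apply hd, mul_diag_apply hd, xmB_apply_ab hab, xmB_apply_ab hab] at e2
  rw [hu']
  congr 1
  calc u' = u' * π h (Sum.inr b) (Sum.inr b) * (π h (Sum.inr b) (Sum.inr b))⁻¹ := by
        rw [mul_assoc, mul_inv_cancel₀ hb, mul_one]
    _ = π h (Sum.inr a) (Sum.inr a) * (π h (Sum.inr b) (Sum.inr b))⁻¹ * u := by
        rw [← e2]; ring

theorem HhB_conj_Ys_eq [Finite F] (π : M →* Matrix (I n) (I n) F)
    (hπX : ∀ a b, IsRoot a b → ∀ t : F, π (X a b t) = xmB a b t)
    (hπY : ∀ a, ∀ t : F, π (Ys a t) = ymB a t) (hn : 3 ≤ n) (h2 : (2 : F) ≠ 0) (hB : BRel X Ys)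
    {h : M} (hh : h ∈ HhB X Ys) (a : J n) (u : F) :
    h * Ys a u * h⁻¹ = Ys a (π h (Sum.inr a) (Sum.inr a) * (π h o0 o0)⁻¹ * u) := by
  obtain ⟨u', hu'⟩ := HhB_conj_Ys hn hB hh a u
  have hd := diag_of_mem_HhB π hπX hπY hn h2 hB hh
  have hinv : π h * π h⁻¹ = 1 := by rw [← map_mul, mul_inv_cancel, map_one]
  have h0 := diag_ne_zero hd hinv o0
  have e1 : π h * ymB a u = ymB a u' * π h := by
    rw [← hπY a u, ← hπY a u', ← map_mul, ← map_mul, ← hu']
    simp
  have e2 := congrFun (congrFun e1 (Sum.inr a)) o0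
  rw [diag_mul_apply hd, mul_diag_apply hd, ymB_apply_a0, ymB_apply_a0] at e2
  rw [hu']
  congr 1
  have e3 : (2 : F) * (π h (Sum.inr a) (Sum.inr a) * u) = 2 * (u' * π h o0 o0) := by
    rw [← mul_assoc, ← mul_assoc, mul_comm 2 (π h (Sum.inr a) (Sum.inr a)), mul_assoc _ 2 u, e2]
  have e4 := mul_left_cancel₀ h2 e3
  calc u' = u' * π h o0 o0 * (π h o0 o0)⁻¹ := by
        rw [mul_assoc, mul_inv_cancel₀ h0, mul_one]
    _ = π h (Sum.inr a) (Sum.inr a) * (π h o0 o0)⁻¹ * u := by
        rw [← e4]; ring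

end pi

end Cfsg.Agent.S2094P
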