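import Mathlib
import Cfsg.Agent.Helper4.S2522.Defs
import Cfsg.Agent.Helper25.S2522KRYLOV

/-! # S2522 piece REGJ (helper22): a regular unipotent matrix is conjugate to the Jordan block -/

set_option autoImplicit false

namespace Cfsg.Agent.S2522P

open Module

namespace REGJ
variable {K : Type*} [Field K]

/-- the sum defining a column of `X * J` -/
theorem sum_mul_J {n : ℕ} (J : Matrix (Fin n) (Fin n) K)
    (hJ : ∀ i j : Fin n, J i j = if i = j then 1 else if j.val = i.val + 1 then 1 else 0)
    (f : Fin n → K) (j : Fin n) :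
    ∑ k, f k * J k j = f j + (if h : j.val = 0 then 0 else f ⟨j.val - 1, by omega⟩) := by
  classical
  have h1 : ∀ k : Fin n, f k * J k j =
      (if k = j then f k else 0) + (if j.val = k.val + 1 then f k else 0) := by
    intro k
    rw [hJ k j]
    by_cases hkj : k = j
    · subst hkj
      rw [if_pos rfl, if_pos rfl, if_neg (by omega), mul_one, add_zero]
    · rw [if_neg hkj, if_neg hkj, zero_add]
      split_ifs <;> simp
  rw [Finset.sum_congr rfl (fun k _ => h1 k), Finset.sum_add_distrib, Finset.sum_ite_eq' Finset.univ j f,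
    if_pos (Finset.mem_univ _)]
  congr 1
  by_cases hj0 : j.val = 0
  · rw [dif_pos hj0]
    apply Finset.sum_eq_zero
    intro k _
    rw [if_neg (by omega)]
  · rw [dif_neg hj0]
    rw [Finset.sum_eq_single (⟨j.val - 1, by omega⟩ : Fin n)]
    · rw [if_pos (by simp only; omega)]
    · intro k _ hk
      rw [if_neg]
      intro h
      apply hk
      apply Fin.ext
      simp only
      omega
    · intro h
      exact absurd (Finset.mem_univ _) h

theorem conj_J {n : ℕ} (J : Matrix (Fin n) (Fin n) K)
    (hJ : ∀ i j : Fin n, J i j = if i = j then 1 else if j.val = i.val + 1 then 1 else 0)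
    (M : Matrix (Fin n) (Fin n) K) (hM : RegUnip (Matrix.toLin' M)) :
    ∃ x : GL (Fin n) K, M = (x : Matrix (Fin n) (Fin n) K) * J *
      ((x⁻¹ : GL (Fin n) K) : Matrix (Fin n) (Fin n) K) := by
  classical
  obtain ⟨hnil, hker⟩ := hM
  set N : Module.End K (Fin n → K) := Matrix.toLin' M - 1 with hN
  have hfr : Module.finrank K (Fin n → K) = n := Module.finrank_fin_fun K
  obtain ⟨hne, hpow⟩ := KERPOW.pow_pred_ne_zero N hnil hker
  rw [hfr] at hne hpow
  obtain ⟨v, hv⟩ : ∃ v, (N ^ (n - 1)) v ≠ 0 := by
    by_contra hcon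
    push Not at hcon
    exact hne (LinearMap.ext hcon)
  have hli := KRYLOV.linearIndependent_pow N n v (by rw [hpow]; rfl) hv
  -- the basis `b j = N^(n-1-j) v`
  have hbli : LinearIndependent K (fun j : Fin n => (N ^ (n - 1 - (j : ℕ))) v) := by
    have h1 : (fun j : Fin n => (N ^ (n - 1 - (j : ℕ))) v) =
        (fun i : Fin n => (N ^ (i : ℕ)) v) ∘ Fin.rev := by
      funext j
      simp only [Function.comp_apply, Fin.val_rev]
      congr 2
      omega
    rw [h1]
    exact hli.comp _ Fin.rev_injective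
  -- the matrix with columns `b j`
  set X : Matrix (Fin n) (Fin n) K := Matrix.of fun i j => (N ^ (n - 1 - (j : ℕ))) v i with hX
  have hcol : X.col = fun j : Fin n => (N ^ (n - 1 - (j : ℕ))) v := by
    funext j i
    rfl
  have hXu : IsUnit X := by
    rw [← Matrix.linearIndependent_cols_iff_isUnit, hcol]
    exact hbli
  -- `N` moves the basis down
  have hNb : ∀ j : Fin n, N ((N ^ (n - 1 - (j : ℕ))) v) =
      if h : j.val = 0 then 0 else (N ^ (n - 1 - (j.val - 1))) v := by
    intro j
    have hj := j.2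
    rw [← Module.End.mul_apply, ← pow_succ']
    by_cases hj0 : j.val = 0
    · rw [dif_pos hj0, hj0, show n - 1 - 0 + 1 = n by omega, hpow]
      rfl
    · rw [dif_neg hj0, show n - 1 - (j : ℕ) + 1 = n - 1 - ((j : ℕ) - 1) by omega]
  have hMX : M * X = X * J := by
    ext i j
    rw [Matrix.mul_apply, Matrix.mul_apply]
    have h2 : ∑ k, M i k * X k j = (Matrix.toLin' M ((N ^ (n - 1 - (j : ℕ))) v)) i := by
      rw [Matrix.toLin'_apply]
      rfl
    have h3 : Matrix.toLin' M = N + 1 := by rw [hN]; abel
    rw [h2, h3, LinearMap.add_apply, Module.End.one_apply, Pi.add_apply, hNb j,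
      sum_mul_J J hJ (fun k => X i k) j, add_comm]
    congr 1
    by_cases hj0 : j.val = 0
    · rw [dif_pos hj0, dif_pos hj0]
      rfl
    · rw [dif_neg hj0, dif_neg hj0]
      rfl
  obtain ⟨x, hx⟩ := hXu
  refine ⟨x, ?_⟩
  rw [Units.eq_mul_inv_iff_mul_eq, hx]
  exact hMX

end REGJ

end Cfsg.Agent.S2522P
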