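import Mathlib
import Cfsg.Prelude.Def_FusionSystem
import Cfsg.Prelude.Def_KGroupFacts
import Cfsg.Agent.Helper7.S2647.Defs

/-! # S2647 piece ISOM: `quadFormOdd 3` is isometric to `-Σ x_j²` over a finite field of odd order. -/

set_option autoImplicit false
set_option linter.unusedSectionVars false
set_option linter.unusedVariables false

namespace Cfsg.Agent.S2647P

open Matrix Cfsg.Agent.Helper28.IsoTransport Cfsg.Agent.Helper28.Spin

variable {F : Type*} [Field F]

namespace ISOM

theorem card_mod_two [Fintype F] (h2 : (2 : F) ≠ 0) : Fintype.card F % 2 = 1 := by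
  by_contra hne
  have hev : Fintype.card F % 2 = 0 := by omega
  have hch : ringChar F = 2 := FiniteField.even_card_iff_char_two.mpr hev
  apply h2
  have := ringChar.Nat.cast_ringChar (R := F)
  rw [hch] at this
  exact_mod_cast this

theorem exists_sq_add_sq [Fintype F] (h2 : (2 : F) ≠ 0) (e : F) : ∃ α β : F, α ^ 2 + β ^ 2 = e := by
  have hodd : Fintype.card F % 2 = 1 := card_mod_two h2
  have hf : (Polynomial.X ^ 2 : Polynomial F).degree = 2 := Polynomial.degree_X_pow 2
  have hg : (Polynomial.X ^ 2 - Polynomial.C e : Polynomial F).degree = 2 := by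
    have hd : (Polynomial.X ^ 2 : Polynomial F).degree = 2 := Polynomial.degree_X_pow 2
    rw [Polynomial.degree_sub_C (by rw [hd]; norm_num), hd]
  obtain ⟨a, b, hab⟩ := FiniteField.exists_root_sum_quadratic hf hg hodd
  simp only [Polynomial.eval_pow, Polynomial.eval_X, Polynomial.eval_sub, Polynomial.eval_C] at hab
  exact ⟨a, b, by linear_combination hab⟩

/-- the isometry, as a function -/
def tf (a b : F) (v : J → F) : J → F :=
  Sum.elim (fun _ => a * v p6 + b * v p0)
    (Sum.elim ![b * v p6 - a * v p0 - v p3, a * v p1 + b * v p2 - v p4, b * v p1 - a * v p2 - v p5]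
      ![b * v p6 - a * v p0 + v p3, a * v p1 + b * v p2 + v p4, b * v p1 - a * v p2 + v p5])

/-- the isometry, as a linear map -/
def tl (a b : F) : (J → F) →ₗ[F] (J → F) where
  toFun := tf a b
  map_add' := by
    intro v w
    funext j
    rcases j with u | k | k
    · simp only [tf, Sum.elim_inl, Pi.add_apply]
      ring
    · fin_cases k <;> simp [tf] <;> ring
    · fin_cases k <;> simp [tf] <;> ring
  map_smul' := by
    intro c v
    funext j
    rcases j with u | k | k
    · simp only [tf, Sum.elim_inl, Pi.smul_apply, smul_eq_mul, RingHom.id_apply]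
      ring
    · fin_cases k <;> simp [tf] <;> ring
    · fin_cases k <;> simp [tf] <;> ring

theorem sum_J (g : J → F) :
    ∑ j, g j = g p6 + (g p0 + g p1 + g p2) + (g p3 + g p4 + g p5) := by
  rw [Fintype.sum_sum_type, Fintype.sum_sum_type]
  simp only [Fin.sum_univ_three, Finset.univ_unique, Finset.sum_singleton]
  show g (Sum.inl ()) + _ = _
  ring

/-- the form is transported -/
theorem quad_tf (a b : F) (hab : a ^ 2 + b ^ 2 = -1) (v : J → F) :
    Cfsg.quadFormOdd 3 F (tf a b v) = Qd F v := by
  rw [Qd_apply, sum_J]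
  unfold Cfsg.quadFormOdd
  rw [Fin.sum_univ_three]
  simp only [tf, Sum.elim_inl, Sum.elim_inr]
  simp only [Matrix.cons_val_zero, Matrix.cons_val_one, Matrix.cons_val_two, Matrix.head_cons,
    Matrix.tail_cons]
  linear_combination (v p6 ^ 2 + v p0 ^ 2 + v p1 ^ 2 + v p2 ^ 2) * hab

theorem polar_Qd' (u x : J → F) :
    QuadraticMap.polar ⇑(Qd F) u x = -(2 * ∑ k, u k * x k) := by
  have hk : ∀ k, (u k + x k) * (u k + x k) = u k * u k + x k * x k + 2 * (u k * x k) := by
    intro k; ring
  simp only [QuadraticMap.polar, Qd_apply, Pi.add_apply, hk, Finset.sum_add_distrib,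
    ← Finset.mul_sum]
  ring

/-- the transporting map is injective -/
theorem tl_injective (h2 : (2 : F) ≠ 0) (a b : F) (hab : a ^ 2 + b ^ 2 = -1) :
    Function.Injective (tl a b) := by
  rw [← LinearMap.ker_eq_bot, LinearMap.ker_eq_bot']
  intro v hv
  have hv' : tf a b v = 0 := hv
  have hQ : ∀ w : J → F, Qd F (v + w) = Qd F w := by
    intro w
    rw [← quad_tf a b hab, ← quad_tf a b hab w]
    have : tf a b (v + w) = tf a b v + tf a b w := (tl a b).map_add v w
    rw [this, hv', zero_add]
  have hv0 : Qd F v = 0 := by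
    have := hQ 0
    rw [add_zero] at this
    rw [this]
    exact QuadraticMap.map_zero _
  have hpol : ∀ w : J → F, ∑ k, v k * w k = 0 := by
    intro w
    have h1 := polar_Qd' v w
    rw [QuadraticMap.polar, hQ w, hv0] at h1
    have h3 : (2 : F) * ∑ k, v k * w k = 0 := by linear_combination h1
    rcases mul_eq_zero.mp h3 with h | h
    · exact absurd h h2
    · exact h
  funext j
  have := hpol (Pi.single j 1)
  simpa [Pi.single_apply] using this

end ISOM

theorem exists_isom [Fintype F] (h2 : (2 : F) ≠ 0) :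
    ∃ T : GL J F, Cfsg.Agent.Helper28.FM.IsIsom (Cfsg.Agent.S2614.QfOdd 3 F) (Qd F) T := by
  obtain ⟨a, b, hab⟩ := ISOM.exists_sq_add_sq h2 (-1 : F)
  have hinj : Function.Injective (LinearMap.toMatrix' (ISOM.tl a b)).mulVec := by
    intro x y hxy
    simp only [LinearMap.toMatrix'_mulVec] at hxy
    exact ISOM.tl_injective h2 a b hab hxy
  have hunit : IsUnit (LinearMap.toMatrix' (ISOM.tl a b)) := Matrix.mulVec_injective_iff_isUnit.mp hinj
  refine ⟨hunit.unit, ?_⟩
  intro v
  rw [IsUnit.unit_spec, LinearMap.toMatrix'_mulVec]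
  have := ISOM.quad_tf a b hab v
  rw [← Cfsg.Agent.S2614.QfOdd_coe] at this
  exact this

end Cfsg.Agent.S2647P
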