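import Cfsg.Agent.S2855P.Defs

/-!
S2855 piece SPIEQUIV: strong `p`-irreducibility is invariant under isomorphism.
-/

set_option autoImplicit false

namespace Cfsg.Agent.S2855P

open Cfsg
open scoped commutatorElement

section General

variable {G : Type*} [Group G] [Finite G] {p : ℕ} [Fact p.Prime]

/-- piece SPIEQUIV: strong `p`-irreducibility is invariant under isomorphism. -/
theorem isStronglyPIrreducible_of_mulEquiv {A B : Type*} [Group A] [Group B] [Finite A]
    (e : A ≃* B) (h : IsStronglyPIrreducible p A) : IsStronglyPIrreducible p B := by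
  refine ⟨fun hc => h.1 (Cfsg.Agent.Helper14.isPClosed_of_mulEquiv e.symm hc), ?_⟩
  intro N hN hncl
  have hN' : (N.comap e.toMonoidHom).Normal := hN.comap _
  have hmap : (N.comap e.toMonoidHom).map e.toMonoidHom = N :=
    Subgroup.map_comap_eq_self_of_surjective e.surjective N
  have htop : (⊤ : Subgroup A).map e.toMonoidHom = ⊤ :=
    Subgroup.map_top_of_surjective _ e.surjective
  have hncl' : ¬ ⁅N.comap e.toMonoidHom, (⊤ : Subgroup A)⁆ ≤ pCore p A := by
    intro hle
    apply hncl
    have := Subgroup.map_mono (f := e.toMonoidHom) hle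
    rw [Subgroup.map_commutator, hmap, htop, Cfsg.Agent.Helper14.pCore_map_equiv] at this
    exact this
  have h1 := h.2 _ hN' hncl'
  unfold pResidual
  rw [Subgroup.closure_le]
  intro b hb
  have hb' : Nat.Coprime (orderOf b) p := hb
  have hmem : e.symm b ∈ pResidual p A := by
    apply Subgroup.subset_closure
    show Nat.Coprime (orderOf (e.symm b)) p
    rw [MulEquiv.orderOf_eq]
    exact hb'
  have := h1 hmem
  rw [Subgroup.mem_comap] at this
  simpa using this

end General

end Cfsg.Agent.S2855P
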