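import Cfsg.Agent.S2855P.Defs
import Cfsg.Agent.Helper22.S2855SPIEQUIV

/-!
S2855 piece SPIMAP: the image of a strongly `p`-irreducible subgroup modulo a normal `p`-subgroup is
strongly `p`-irreducible.
-/

set_option autoImplicit false

namespace Cfsg.Agent.S2855P

open Cfsg
open scoped commutatorElement

section General

variable {G : Type*} [Group G] [Finite G] {p : ℕ} [Fact p.Prime]

/-- piece SPIMAP: the image of a strongly `p`-irreducible subgroup modulo a normal `p`-subgroup is
strongly `p`-irreducible. -/
theorem isStronglyPIrreducible_map_mk (Q : Subgroup G) [Q.Normal] (hQ : IsPGroup p ↥Q)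
    (E : Subgroup G) (hE : IsStronglyPIrreducible p ↥E) :
    IsStronglyPIrreducible p ↥(E.map (QuotientGroup.mk' Q)) := by
  -- the surjection `E → image of E`
  let φ : ↥E →* ↥(E.map (QuotientGroup.mk' Q)) := (QuotientGroup.mk' Q).subgroupMap E
  have hφ : Function.Surjective φ := (QuotientGroup.mk' Q).subgroupMap_surjective E
  have hker : φ.ker = Q.subgroupOf E := by
    ext x
    rw [MonoidHom.mem_ker, Subgroup.mem_subgroupOf]
    constructor
    · intro hx
      have := congrArg Subtype.val hx
      have h1 : (QuotientGroup.mk' Q) (x : G) = 1 := this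
      exact (QuotientGroup.eq_one_iff _).mp h1
    · intro hx
      apply Subtype.ext
      show (QuotientGroup.mk' Q) (x : G) = 1
      exact (QuotientGroup.eq_one_iff _).mpr hx
  have hD : IsPGroup p ↥φ.ker := by
    rw [hker]
    exact hQ.comap_subtype
  have h1 : IsStronglyPIrreducible p (↥E ⧸ φ.ker) :=
    (Cfsg.Agent.Helper14.isStronglyPIrreducible_quotient_iff φ.ker hD).mp hE
  exact isStronglyPIrreducible_of_mulEquiv (QuotientGroup.quotientKerEquivOfSurjective φ hφ) h1

end General

end Cfsg.Agent.S2855P
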