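import Mathlib
import Cfsg.Agent.Helper7.S2862Defs
import Cfsg.Agent.Helper14.PCore
import Cfsg.Agent.Helper22.S2862CP7

/-! Board `s2862pieces`, row S3a (core): given `L0 ⊔ D ≠ H` (row S2b), `Y^n` commutes with `Y` and lies in `D`
for every `n ∈ L0`. -/

set_option autoImplicit false
set_option linter.unusedVariables false

namespace Cfsg.Agent.S2862P

open Cfsg
open Cfsg.Agent.Helper14 (cj)
open Subgroup
open scoped commutatorElement

variable {G : Type*} [Group G] [Finite G] {p : ℕ} [Fact p.Prime]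
variable {H Y D L L0 Vt Vb : Subgroup G}

theorem S3a_core (K : KHyp p H Y D L L0) (hS2b : L0 ⊔ D ≠ H) {n : G} (hn : n ∈ L0) :
    cjs n Y ≤ centralizer (Y : Set G) ∧ cjs n Y ≤ D := by
  have hH1H : L0 ⊔ D ≤ H := sup_le (K.hL0L.trans K.hLH) K.hDH
  have hY1 : Y ≤ pCoreOf p (L0 ⊔ D) := K.hmin (L0 ⊔ D) le_sup_right hH1H hS2b
  have hR1p : IsPGroup p ↥(pCoreOf p (L0 ⊔ D)) := Cfsg.Agent.Helper14.pCoreOf_isPGroup p (L0 ⊔ D)
  have hnorm : L0 ⊔ D ≤ normalizer ((pCoreOf p (L0 ⊔ D) : Subgroup G) : Set G) :=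
    Cfsg.Agent.Helper14.le_normalizer_pCoreOf p (L0 ⊔ D)
  have hTp : IsPGroup p ↥(pCoreOf p (L0 ⊔ D) ⊔ D) :=
    IsPGroup.to_sup_of_normal_left' hR1p K.hDp ((le_sup_right : D ≤ L0 ⊔ D).trans hnorm)
  have hT := K.hpn (pCoreOf p (L0 ⊔ D) ⊔ D) hTp le_sup_right
  have hR1NY : pCoreOf p (L0 ⊔ D) ≤ normalizer (Y : Set G) := le_sup_left.trans (hT.trans inf_le_right)
  have hnR1 : (pCoreOf p (L0 ⊔ D)).map (cj n) = pCoreOf p (L0 ⊔ D) :=
    CP7_aux_map_eq (hnorm ((le_sup_left : L0 ≤ L0 ⊔ D) hn))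
  have hYn1 : cjs n Y ≤ pCoreOf p (L0 ⊔ D) := by
    have := Subgroup.map_mono (f := cj n) hY1
    rw [hnR1] at this
    exact this
  have hA : cjs n Y ≤ normalizer (Y : Set G) := hYn1.trans hR1NY
  have hB : Y ≤ normalizer ((cjs n Y : Subgroup G) : Set G) := by
    have h1 : (pCoreOf p (L0 ⊔ D)).map (cj n) ≤ (normalizer (Y : Set G)).map (cj n) := Subgroup.map_mono hR1NY
    rw [hnR1, Cfsg.Agent.Helper14.map_cj_normalizer] at h1
    exact hY1.trans h1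
  have hC : cjs n Y ≤ centralizer (Y : Set G) := K.hasym n hB hA
  refine ⟨hC, ?_⟩
  have hS := K.hsyl (pCoreOf p (L0 ⊔ D) ⊔ D) hTp le_sup_right
  exact (le_inf (hYn1.trans le_sup_left) hC).trans hS

end Cfsg.Agent.S2862P
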