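import Mathlib
import Cfsg.Agent.Helper5.S2932Defs

/-!
# S2932 — row SCAL (helper22): the scalar of order 3 in the exceptional case `q = 4`.
-/

set_option autoImplicit false

namespace Cfsg.Agent.S2932P

open Matrix

namespace Dat

variable {F : Type} [Field F] [Fintype F] {Γ : Type*} [Group Γ] [Finite Γ] (D : Dat F Γ)
  {p : ℕ} [Fact p.Prime] [CharP F p]

theorem SCAL_aux_omega (hF : Fintype.card F = 4) : ∃ ω : F, ω ≠ 0 ∧ ω ≠ 1 ∧ ω ^ 3 = 1 := by
  classical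
  have h2 : ({0, 1} : Finset F).card < (Finset.univ : Finset F).card := by
    rw [Finset.card_univ, hF]
    exact lt_of_le_of_lt Finset.card_le_two (by norm_num)
  obtain ⟨ω, -, hω⟩ := Finset.exists_mem_notMem_of_card_lt_card h2
  have h0 : ω ≠ 0 := fun h => hω (by rw [h]; simp)
  have h1 : ω ≠ 1 := fun h => hω (by rw [h]; simp)
  refine ⟨ω, h0, h1, ?_⟩
  have := FiniteField.pow_card_sub_one_eq_one ω h0
  rwa [hF] at this

/-- Scalar multiplication by `ω` as an additive endomorphism of the plane. -/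
def SCAL_aux_sc (ω : F) : AddMonoid.End (Fin 2 → F) :=
  (⟨⟨fun v => ω • v, smul_zero ω⟩, smul_add ω⟩ : (Fin 2 → F) →+ (Fin 2 → F))

theorem SCAL_aux_sc_apply (ω : F) (v : Fin 2 → F) : SCAL_aux_sc ω v = ω • v := rfl

theorem SCAL_aux_sc_mul (a b : F) : SCAL_aux_sc a * SCAL_aux_sc b = SCAL_aux_sc (a * b) := by
  apply AddMonoidHom.ext
  intro v
  show a • (b • v) = (a * b) • v
  rw [smul_smul]

theorem SCAL_aux_sc_one : SCAL_aux_sc (1 : F) = 1 := by
  apply AddMonoidHom.ext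
  intro v
  show (1 : F) • v = v
  rw [one_smul]

/-- `c := ` multiplication by `ω` (`ω ≠ 0, 1`, `ω³ = 1`) on `Fin 2 → F`; it commutes with every `mulVec`. -/
theorem exists_scalar (hF : Fintype.card F = 4) :
    ∃ c : (AddMonoid.End (Fin 2 → F))ˣ, c ≠ 1 ∧ c ^ 3 = 1 ∧
      ∀ l ∈ D.Λ, c * D.A.toHomUnits l = D.A.toHomUnits l * c := by
  obtain ⟨ω, h0, h1, h3⟩ := SCAL_aux_omega (F := F) hF
  have hvi : SCAL_aux_sc ω * SCAL_aux_sc ω⁻¹ = 1 := by
    rw [SCAL_aux_sc_mul, mul_inv_cancel₀ h0, SCAL_aux_sc_one]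
  have hiv : SCAL_aux_sc ω⁻¹ * SCAL_aux_sc ω = 1 := by
    rw [SCAL_aux_sc_mul, inv_mul_cancel₀ h0, SCAL_aux_sc_one]
  refine ⟨⟨SCAL_aux_sc ω, SCAL_aux_sc ω⁻¹, hvi, hiv⟩, ?_, ?_, ?_⟩
  · intro h
    have h' : SCAL_aux_sc ω = 1 := congrArg Units.val h
    have h'' : SCAL_aux_sc ω ![1, 0] 0 = (1 : AddMonoid.End (Fin 2 → F)) ![1, 0] 0 := by rw [h']
    rw [SCAL_aux_sc_apply] at h''
    simp at h''
    exact h1 h''
  · apply Units.ext
    show SCAL_aux_sc ω ^ 3 = 1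
    rw [pow_succ, pow_succ, pow_one, SCAL_aux_sc_mul, SCAL_aux_sc_mul, ← pow_two, ← pow_succ, h3,
      SCAL_aux_sc_one]
  · intro l hl
    apply Units.ext
    apply AddMonoidHom.ext
    intro v
    have hA := D.hA ⟨l, hl⟩
    show SCAL_aux_sc ω (D.A l v) = D.A l (SCAL_aux_sc ω v)
    rw [SCAL_aux_sc_apply, SCAL_aux_sc_apply]
    have e1 := hA v
    have e2 := hA (ω • v)
    simp only at e1 e2
    rw [e1, e2, Matrix.mulVec_smul]

end Dat

end Cfsg.Agent.S2932P
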