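import Mathlib
import Cfsg.Agent.Helper2.S3086Defs
import Cfsg.Agent.Helper2.S3086Basic
import Cfsg.Agent.Helper2.S3086Defs2
import Cfsg.Agent.Helper16.S3086QUAD

/-! Board `s3086pieces`, row CASE1 (core): the count of Case I (`A` quadratic, `B = N_A(K) ≠ 1`), with the facts from
R4, MKTP + FREE and MKTP + CNT8 as explicit hypotheses. -/

set_option autoImplicit false
set_option linter.unusedVariables false
set_option linter.unusedSectionVars false

namespace Cfsg.Agent.S3086P

universe u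

variable {p : ℕ} [Fact p.Prime] {V : Type u} [AddCommGroup V] [Module (ZMod p) V] [Finite V]

theorem CASE1_aux_Nop_mul (c d : GLV p V) : Nop (c * d) = Nop c + Nop d + Nop c * Nop d := by
  unfold Nop
  rw [toE_mul]
  noncomm_ring

theorem CASE1_aux_card_ker_range (f : Module.End (ZMod p) V) :
    Nat.card ↥(LinearMap.ker f) * Nat.card ↥(LinearMap.range f) = Nat.card V := by
  rw [Submodule.card_eq_card_quotient_mul_card (LinearMap.ker f)]
  congr 1
  exact (Nat.card_congr f.quotKerEquivRange.toEquiv).symm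

theorem CASE1_aux_card_pow (W : Submodule (ZMod p) V) : ∃ i : ℕ, Nat.card ↥W = p ^ i := by
  refine ⟨Module.finrank (ZMod p) ↥W, ?_⟩
  have := Module.natCard_eq_pow_finrank (K := ZMod p) (V := ↥W)
  rw [Nat.card_zmod] at this
  exact this

theorem CASE1_aux_card_pow2 (hp : p = 2) (W : Submodule (ZMod p) V) : ∃ i : ℕ, Nat.card ↥W = 2 ^ i := by
  obtain ⟨i, hi⟩ := CASE1_aux_card_pow W
  exact ⟨i, hi.trans (by rw [hp])⟩

theorem CASE1_aux_card_filter [Fintype V] [DecidableEq V] (W : Submodule (ZMod p) V) [DecidablePred (· ∈ W)] :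
    Nat.card ↥W = (Finset.univ.filter (fun v : V => v ∈ W)).card := by
  haveI : Fintype ↥W := Fintype.ofFinite _
  rw [Nat.card_eq_fintype_card]
  exact Fintype.card_of_subtype _ (by simp)

/-- arithmetic: `k y = n²`, `8 y² ≤ n²`, all powers of two ⇒ `4 n ≤ k`. -/
theorem CASE1_aux_arith {k y n i l j : ℕ} (hk : k = 2 ^ i) (hy : y = 2 ^ l) (hn : n = 2 ^ j) (h1 : k * y = n * n)
    (h2 : 8 * y ^ 2 ≤ n * n) : 4 * n ≤ k := by
  subst hk hy hn
  have e1 : i + l = j + j := by
    have : (2 : ℕ) ^ (i + l) = 2 ^ (j + j) := by rw [pow_add, pow_add]; exact h1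
    exact Nat.pow_right_injective (le_refl 2) this
  have e2 : 3 + 2 * l ≤ j + j := by
    have : (2 : ℕ) ^ (3 + 2 * l) ≤ 2 ^ (j + j) := by
      have e : (2 : ℕ) ^ (3 + 2 * l) = 8 * (2 ^ l) ^ 2 := by
        rw [pow_add, ← pow_mul, mul_comm l 2]; norm_num
      rw [e, pow_add]; exact h2
    exact (Nat.pow_le_pow_iff_right (by norm_num)).mp this
  have e3 : j + 2 ≤ i := by omega
  calc 4 * 2 ^ j = 2 ^ (j + 2) := by rw [pow_add]; ring
    _ ≤ 2 ^ i := Nat.pow_le_pow_right (by norm_num) e3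

variable {K A : Subgroup (GLV p V)}

theorem CASE1_core (M : MC p V K A) (hp : p = 2) (heq : Astar A = A)
    (hB : A ⊓ Subgroup.normalizer (K : Set (GLV p V)) ≠ ⊥)
    (hR4 : Nat.card ↥A = 2 * Nat.card ↥(A ⊓ Subgroup.normalizer (K : Set (GLV p V))))
    (hfree : ∀ b ∈ A, cjg b K = K → b ≠ 1 → LinearMap.ker (Nop b) = LinearMap.range (Nop b))
    (hcnt : ∀ a ∈ A, cjg a K ≠ K → 8 * Nat.card ↥(LinearMap.range (Nop a)) ^ 2 ≤ Nat.card V) : False := by
  classical
  -- quadratic action and additivity of `c ↦ Nop c`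
  have hquad : ∀ c ∈ A, ∀ d ∈ A, Nop c * Nop d = 0 := by
    intro c hc d hd
    have hd' : d ∈ Astar A := by rw [heq]; exact hd
    exact (quad_star M.hyp c hc d hd').1
  have hadd : ∀ c ∈ A, ∀ d ∈ A, Nop (c * d) = Nop c + Nop d := by
    intro c hc d hd
    rw [CASE1_aux_Nop_mul, hquad c hc d hd, add_zero]
  -- an element moving `K`
  obtain ⟨a, haA, haK⟩ : ∃ a ∈ A, cjg a K ≠ K := by
    by_contra hcon
    push Not at hcon
    exact M.hnot hcon
  -- a nontrivial element of `B`
  obtain ⟨b0, hb0B, hb01⟩ : ∃ b ∈ A ⊓ Subgroup.normalizer (K : Set (GLV p V)), b ≠ 1 :=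
    (Subgroup.ne_bot_iff_exists_ne_one.mp hB).elim fun b hb => ⟨b.1, b.2, fun h => hb (Subtype.ext h)⟩
  have hBmem : ∀ b : GLV p V, b ∈ A ⊓ Subgroup.normalizer (K : Set (GLV p V)) → b ∈ A ∧ cjg b K = K := by
    intro b hb
    exact ⟨hb.1, cjg_eq_iff.mpr hb.2⟩
  -- free elements: `ker = range = fixS A`
  have hkr : ∀ b ∈ A, cjg b K = K → b ≠ 1 →
      LinearMap.ker (Nop b) = fixS A ∧ LinearMap.range (Nop b) = fixS A := by
    intro b hb hbK hb1
    have h1 : LinearMap.range (Nop b) ≤ fixS A := by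
      rintro w ⟨v, rfl⟩ c hc
      have h := congrArg (fun f : Module.End (ZMod p) V => f v) (hquad c hc b hb)
      simp only [Module.End.mul_apply, LinearMap.zero_apply] at h
      rw [Nop_apply] at h
      exact sub_eq_zero.mp h
    have h2 : fixS A ≤ LinearMap.ker (Nop b) := by
      intro v hv
      rw [mem_ker_Nop]
      exact hv b hb
    have h3 := hfree b hb hbK hb1
    have h4 : LinearMap.ker (Nop b) = fixS A := le_antisymm (h3 ▸ h1) h2
    exact ⟨h4, h3 ▸ h4⟩
  -- `|V| = n²`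
  obtain ⟨hb0A, hb0K⟩ := hBmem b0 hb0B
  obtain ⟨hk0, hr0⟩ := hkr b0 hb0A hb0K hb01
  have hV : Nat.card ↥(fixS A) * Nat.card ↥(fixS A) = Nat.card V := by
    have := CASE1_aux_card_ker_range (Nop b0)
    rw [hk0, hr0] at this
    exact this
  have hnpos : 0 < Nat.card ↥(fixS A) := Nat.card_pos
  -- best offender against `⊥`
  have hbest := M.hyp.hbest ⊥ bot_le
  have hqbot : qv (⊥ : Subgroup (GLV p V)) = Nat.card V := by
    unfold qv
    rw [Subgroup.card_bot, one_mul, fixS_bot]
    exact Nat.card_congr (Submodule.topEquiv (R := ZMod p) (M := V)).toEquiv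
  have hn2B : Nat.card ↥(fixS A) ≤ 2 * Nat.card ↥(A ⊓ Subgroup.normalizer (K : Set (GLV p V))) := by
    rw [hqbot] at hbest
    unfold qv at hbest
    rw [← hV, hR4] at hbest
    exact Nat.le_of_mul_le_mul_right hbest hnpos
  -- the kernels of `Nop (a * b')`
  have hcA : ∀ b' ∈ A ⊓ Subgroup.normalizer (K : Set (GLV p V)), a * b' ∈ A ∧ cjg (a * b') K ≠ K := by
    intro b' hb'
    obtain ⟨h1, h2⟩ := hBmem b' hb'
    refine ⟨A.mul_mem haA h1, ?_⟩
    rw [← cjg_mul, h2]
    exact haK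
  have hker_le : ∀ c ∈ A, fixS A ≤ LinearMap.ker (Nop c) := by
    intro c hc v hv
    rw [mem_ker_Nop]
    exact hv c hc
  have hk4 : ∀ b' ∈ A ⊓ Subgroup.normalizer (K : Set (GLV p V)),
      4 * Nat.card ↥(fixS A) ≤ Nat.card ↥(LinearMap.ker (Nop (a * b'))) := by
    intro b' hb'
    obtain ⟨hc1, hc2⟩ := hcA b' hb'
    obtain ⟨i, hi⟩ := CASE1_aux_card_pow2 hp (LinearMap.ker (Nop (a * b')))
    obtain ⟨l, hl⟩ := CASE1_aux_card_pow2 hp (LinearMap.range (Nop (a * b')))
    obtain ⟨j, hj⟩ := CASE1_aux_card_pow2 hp (fixS A)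
    have h1 := CASE1_aux_card_ker_range (Nop (a * b'))
    rw [← hV] at h1
    have h2 := hcnt (a * b') hc1 hc2
    rw [← hV] at h2
    exact CASE1_aux_arith hi hl hj h1 h2
  -- the count
  haveI : Fintype V := Fintype.ofFinite V
  haveI : Fintype ↥(A ⊓ Subgroup.normalizer (K : Set (GLV p V))) := Fintype.ofFinite _
  set n := Nat.card ↥(fixS A) with hn
  let T : ↥(A ⊓ Subgroup.normalizer (K : Set (GLV p V))) → Finset V := fun b' =>
    Finset.univ.filter (fun v : V => v ∈ LinearMap.ker (Nop (a * (b' : GLV p V))) ∧ v ∉ fixS A)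
  have hTcard : ∀ b', 3 * n ≤ (T b').card := by
    intro b'
    have h1 := hk4 b'.1 b'.2
    rw [CASE1_aux_card_filter (LinearMap.ker (Nop (a * (b' : GLV p V))))] at h1
    have h2 := Finset.card_filter_add_card_filter_not
      (s := Finset.univ.filter (fun v : V => v ∈ LinearMap.ker (Nop (a * (b' : GLV p V)))))
      (fun v : V => v ∈ fixS A)
    have e1 : (Finset.univ.filter (fun v : V => v ∈ LinearMap.ker (Nop (a * (b' : GLV p V))))).filter
        (fun v : V => v ∈ fixS A) = Finset.univ.filter (fun v : V => v ∈ fixS A) := by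
      ext v
      simp only [Finset.mem_filter, Finset.mem_univ, true_and]
      constructor
      · intro h; exact h.2
      · intro h; exact ⟨hker_le _ (hcA b'.1 b'.2).1 h, h⟩
    have e2 : (Finset.univ.filter (fun v : V => v ∈ LinearMap.ker (Nop (a * (b' : GLV p V))))).filter
        (fun v : V => ¬ v ∈ fixS A) = T b' := by
      ext v
      simp only [T, Finset.mem_filter, Finset.mem_univ, true_and]
    rw [e1, e2, ← CASE1_aux_card_filter (fixS A)] at h2
    omega
  have hdisj : ∀ x ∈ (Finset.univ : Finset ↥(A ⊓ Subgroup.normalizer (K : Set (GLV p V)))),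
      ∀ y ∈ (Finset.univ : Finset ↥(A ⊓ Subgroup.normalizer (K : Set (GLV p V)))), x ≠ y →
      Disjoint (T x) (T y) := by
    intro x _ y _ hxy
    rw [Finset.disjoint_left]
    intro v hvx hvy
    simp only [T, Finset.mem_filter, Finset.mem_univ, true_and] at hvx hvy
    apply hvx.2
    -- `d = y⁻¹ x ≠ 1` in `B`, `a x = (a y) d`
    have hdB : (y : GLV p V)⁻¹ * (x : GLV p V) ∈ A ⊓ Subgroup.normalizer (K : Set (GLV p V)) :=
      Subgroup.mul_mem _ (Subgroup.inv_mem _ y.2) x.2
    have hd1 : (y : GLV p V)⁻¹ * (x : GLV p V) ≠ 1 := by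
      intro h
      apply hxy
      apply Subtype.ext
      have := inv_mul_eq_one.mp h
      exact this.symm
    obtain ⟨hdA, hdK⟩ := hBmem _ hdB
    have e : a * (x : GLV p V) = (a * (y : GLV p V)) * ((y : GLV p V)⁻¹ * (x : GLV p V)) := by group
    have h1 := hadd (a * (y : GLV p V)) (hcA y.1 y.2).1 _ hdA
    rw [← e] at h1
    have h2 : Nop ((y : GLV p V)⁻¹ * (x : GLV p V)) v = 0 := by
      have hx0 : Nop (a * (x : GLV p V)) v = 0 := hvx.1
      have hy0 : Nop (a * (y : GLV p V)) v = 0 := hvy.1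
      rw [h1, LinearMap.add_apply, hy0, zero_add] at hx0
      exact hx0
    have h3 : v ∈ LinearMap.ker (Nop ((y : GLV p V)⁻¹ * (x : GLV p V))) := h2
    rw [(hkr _ hdA hdK hd1).1] at h3
    exact h3
  have hcardU := Finset.card_biUnion hdisj
  have hsub : (Finset.univ : Finset ↥(A ⊓ Subgroup.normalizer (K : Set (GLV p V)))).biUnion T ⊆
      Finset.univ.filter (fun v : V => ¬ v ∈ fixS A) := by
    intro v hv
    rw [Finset.mem_biUnion] at hv
    obtain ⟨b', _, hb'⟩ := hv
    simp only [T, Finset.mem_filter, Finset.mem_univ, true_and] at hb' ⊢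
    exact hb'.2
  have hle := Finset.card_le_card hsub
  have htot := Finset.card_filter_add_card_filter_not (s := (Finset.univ : Finset V))
    (fun v : V => v ∈ fixS A)
  rw [← CASE1_aux_card_filter (fixS A), Finset.card_univ, ← Nat.card_eq_fintype_card, ← hV] at htot
  have hsum : Fintype.card ↥(A ⊓ Subgroup.normalizer (K : Set (GLV p V))) * (3 * n) ≤
      ∑ b' : ↥(A ⊓ Subgroup.normalizer (K : Set (GLV p V))), (T b').card := by
    have := Finset.card_nsmul_le_sum (Finset.univ : Finset ↥(A ⊓ Subgroup.normalizer (K : Set (GLV p V))))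
      (fun b' => (T b').card) (3 * n) (fun b' _ => hTcard b')
    simpa [Finset.card_univ, smul_eq_mul] using this
  rw [Nat.card_eq_fintype_card] at hn2B
  have hfin : n * n ≤ n * (2 * Fintype.card ↥(A ⊓ Subgroup.normalizer (K : Set (GLV p V)))) :=
    Nat.mul_le_mul_left n hn2B
  rw [hcardU] at hle
  nlinarith

end Cfsg.Agent.S3086P
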