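import Mathlib
import Cfsg.Agent.Helper2.S3086Defs
import Cfsg.Agent.Helper2.S3086Basic
import Cfsg.Agent.Helper2.S3086Defs2
import Cfsg.Agent.Helper16.S3086QUAD
import Cfsg.Agent.Helper11.S3086R4
import Cfsg.Agent.Helper2.S3086MKTP
import Cfsg.Agent.Helper2.S3086FREEalt
import Cfsg.Agent.Helper2.S3086CNT8
import Cfsg.Agent.Helper22.S3086CASE1core

/-! Board `s3086pieces`, row CASE1 (wrapper of `CASE1_core`). -/

set_option autoImplicit false

namespace Cfsg.Agent.S3086P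

universe u

variable {p : ℕ} [Fact p.Prime] {V : Type u} [AddCommGroup V] [Module (ZMod p) V] [Finite V]
variable {K A : Subgroup (GLV p V)}

/-- CASE1 (L): `A` quadratic with `N_A(K) ≠ 1` is impossible (the count). -/
theorem CASE1 (M : MC p V K A) (hp : p = 2) (heq : Astar A = A)
    (hB : A ⊓ Subgroup.normalizer (K : Set (GLV p V)) ≠ ⊥) : False := by
  have hquad : ∀ c ∈ A, ∀ d ∈ A, Nop c * Nop d = 0 := by
    intro c hc d hd
    have hd' : d ∈ Astar A := by rw [heq]; exact hd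
    exact (quad_star M.hyp c hc d hd').1
  obtain ⟨a, haA, haK⟩ : ∃ a ∈ A, cjg a K ≠ K := by
    by_contra hcon
    push Not at hcon
    exact M.hnot hcon
  obtain ⟨b0, hb0B, hb01⟩ : ∃ b ∈ A ⊓ Subgroup.normalizer (K : Set (GLV p V)), b ≠ 1 :=
    (Subgroup.ne_bot_iff_exists_ne_one.mp hB).elim fun b hb => ⟨b.1, b.2, fun h => hb (Subtype.ext h)⟩
  refine CASE1_core M hp heq hB (R4 M hp) ?_ ?_
  · intro b hb hbK hb1
    exact FREE_alt M hp (MKTP M hp haA haK hb hbK hb1 (hquad a haA b hb)) haA hb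
  · intro a' ha' ha'K
    exact CNT8 M hp (MKTP M hp ha' ha'K hb0B.1 (cjg_eq_iff.mpr hb0B.2) hb01 (hquad a' ha' b0 hb0B.1)) ha' hb0B.1

end Cfsg.Agent.S3086P
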