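import Mathlib
import Cfsg.Agent.Helper8.S3154Defs

set_option autoImplicit false

/-! # S3154 piece NORM1 (helper22; driver helper8)

`mkL g` normalises `A1bar` iff `g ∈ P1` (first column `(λ,0,0)`). -/

namespace Cfsg.Agent.S3154P

open Matrix

variable {F : Type*} [Field F]

/-- an element of `SL₃` whose image lies in `A1bar` is a central multiple of some `u(a,0,c)` -/
theorem NORM1.aux_lift {y : SpecialLinearGroup (Fin 3) F} (hy : mkL y ∈ (A1bar : Subgroup _)) :
    ∃ (a c r : F), y.1 = r • uMat a 0 c := by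
  obtain ⟨x, hx, hxy⟩ := hy
  obtain ⟨a, c, rfl⟩ := hx
  have h1 : (U a 0 c)⁻¹ * y ∈ (mkL : SpecialLinearGroup (Fin 3) F →* _).ker := by
    rw [MonoidHom.mem_ker, map_mul, map_inv, hxy, inv_mul_cancel]
  rw [mkL_ker] at h1
  obtain ⟨r, -, hr⟩ := Matrix.SpecialLinearGroup.mem_center_iff.mp h1
  refine ⟨a, c, r, ?_⟩
  have h2 : y = U a 0 c * ((U a 0 c)⁻¹ * y) := by group
  have h3 : y.1 = (U a 0 c).1 * ((U a 0 c)⁻¹ * y).1 := by
    conv_lhs => rw [h2]
    rfl
  rw [h3, ← hr, U_val]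
  ext i j
  simp [Matrix.mul_apply, Matrix.scalar, Matrix.diagonal, Matrix.smul_apply, mul_comm]

/-- conjugation by an element of `P1` maps `A1` into itself -/
theorem NORM1.aux_conj {g x : SpecialLinearGroup (Fin 3) F} (hg : g ∈ (P1 : Subgroup _))
    (hx : x ∈ (A1 : Subgroup _)) : g * x * g⁻¹ ∈ (A1 : Subgroup _) := by
  obtain ⟨a, c, rfl⟩ := hx
  obtain ⟨g1, g2⟩ := mem_P1.mp hg
  have hdet : g.1.det = 1 := g.2
  rw [Matrix.det_fin_three, g1, g2] at hdet
  refine ⟨g.1 0 0 ^ 2 * (a * g.1 2 2 - c * g.1 2 1), g.1 0 0 ^ 2 * (-a * g.1 1 2 + c * g.1 1 1), ?_⟩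
  rw [mul_inv_eq_iff_eq_mul]
  ext i j
  change (g.1 * uMat a 0 c) i j =
    (uMat (g.1 0 0 ^ 2 * (a * g.1 2 2 - c * g.1 2 1)) 0
      (g.1 0 0 ^ 2 * (-a * g.1 1 2 + c * g.1 1 1)) * g.1) i j
  simp only [Matrix.mul_apply, Fin.sum_univ_three]
  fin_cases i <;> fin_cases j <;> simp [uMat, g1, g2]
  · linear_combination (-(a * g.1 0 0)) * hdet
  · linear_combination (-(c * g.1 0 0)) * hdet

/-- NORM1 -/
theorem NORM1 [Fintype F] (hF : Fintype.card F = 4) (g : Matrix.SpecialLinearGroup (Fin 3) F) :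
    mkL g ∈ Subgroup.normalizer
      ((A1bar : Subgroup (Matrix.ProjectiveSpecialLinearGroup (Fin 3) F)) : Set _) ↔ g ∈ P1 := by
  constructor
  · intro hN
    have hx : mkL (U (1 : F) 0 0) ∈ (A1bar : Subgroup _) :=
      Subgroup.mem_map_of_mem _ ⟨1, 0, rfl⟩
    have h1 := (Subgroup.mem_normalizer_iff.mp hN _).1 hx
    rw [← map_inv, ← map_mul, ← map_mul] at h1
    obtain ⟨a, c, r, hr⟩ := NORM1.aux_lift h1
    -- g * U100 = r • (u(a,0,c) * g)
    have h2 : g.1 * uMat 1 0 0 = r • (uMat a 0 c * g.1) := by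
      have h3 : (g * U 1 0 0 * g⁻¹).1 * g.1 = g.1 * uMat 1 0 0 := by
        have : (g * U 1 0 0 * g⁻¹) * g = g * U 1 0 0 := by group
        have h4 : ((g * U 1 0 0 * g⁻¹) * g).1 = (g * U 1 0 0).1 := congrArg Subtype.val this
        exact h4
      rw [← h3, hr, Matrix.smul_mul]
    have e10 := congrFun (congrFun h2 1) 0
    have e11 := congrFun (congrFun h2 1) 1
    have e20 := congrFun (congrFun h2 2) 0
    have e21 := congrFun (congrFun h2 2) 1
    simp only [Matrix.mul_apply, Matrix.smul_apply, Fin.sum_univ_three, smul_eq_mul]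
      at e10 e11 e20 e21
    simp [uMat] at e10 e11 e20 e21
    rw [mem_P1]
    by_cases hr1 : r = 1
    · subst hr1
      constructor
      · linear_combination e11
      · linear_combination e21
    · have hr1' : (1 - r) ≠ 0 := sub_ne_zero.mpr (Ne.symm hr1)
      constructor
      · have : (1 - r) * g.1 1 0 = 0 := by linear_combination e10
        exact (mul_eq_zero.mp this).resolve_left hr1'
      · have : (1 - r) * g.1 2 0 = 0 := by linear_combination e20
        exact (mul_eq_zero.mp this).resolve_left hr1'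
  · intro hg
    have hginv : g⁻¹ ∈ (P1 : Subgroup _) := Subgroup.inv_mem _ hg
    rw [Subgroup.mem_normalizer_iff]
    intro y
    constructor
    · rintro ⟨x, hx, rfl⟩
      rw [← map_inv, ← map_mul, ← map_mul]
      exact Subgroup.mem_map_of_mem _ (NORM1.aux_conj hg hx)
    · rintro ⟨x, hx, hxy⟩
      have h0 : y = (mkL g)⁻¹ * mkL x * mkL g := by rw [hxy]; group
      have h1 : y = mkL (g⁻¹ * x * g⁻¹⁻¹) := by
        rw [h0]
        simp only [map_mul, map_inv, inv_inv]
      rw [h1]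
      exact Subgroup.mem_map_of_mem _ (NORM1.aux_conj hginv hx)

end Cfsg.Agent.S3154P
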