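import Mathlib
import Cfsg.Agent.Helper8.S3154Defs

set_option autoImplicit false

/-! # S3154 piece NORM2 (helper22; driver helper8)

`mkL g` normalises `A2bar` iff `g ∈ P2` (last row `(0,0,μ)`). -/

namespace Cfsg.Agent.S3154P

open Matrix

variable {F : Type*} [Field F]

/-- an element of `SL₃` whose image lies in `A2bar` is a central multiple of some `u(0,b,c)` -/
theorem NORM2.aux_lift {y : SpecialLinearGroup (Fin 3) F} (hy : mkL y ∈ (A2bar : Subgroup _)) :
    ∃ (b c r : F), y.1 = r • uMat 0 b c := by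
  obtain ⟨x, hx, hxy⟩ := hy
  obtain ⟨b, c, rfl⟩ := hx
  have h1 : (U 0 b c)⁻¹ * y ∈ (mkL : SpecialLinearGroup (Fin 3) F →* _).ker := by
    rw [MonoidHom.mem_ker, map_mul, map_inv, hxy, inv_mul_cancel]
  rw [mkL_ker] at h1
  obtain ⟨r, -, hr⟩ := Matrix.SpecialLinearGroup.mem_center_iff.mp h1
  refine ⟨b, c, r, ?_⟩
  have h2 : y = U 0 b c * ((U 0 b c)⁻¹ * y) := by group
  have h3 : y.1 = (U 0 b c).1 * ((U 0 b c)⁻¹ * y).1 := by
    conv_lhs => rw [h2]
    rfl
  rw [h3, ← hr, U_val]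
  ext i j
  simp [Matrix.mul_apply, Matrix.scalar, Matrix.diagonal, Matrix.smul_apply, mul_comm]

/-- conjugation by an element of `P2` maps `A2` into itself -/
theorem NORM2.aux_conj {g x : SpecialLinearGroup (Fin 3) F} (hg : g ∈ (P2 : Subgroup _))
    (hx : x ∈ (A2 : Subgroup _)) : g * x * g⁻¹ ∈ (A2 : Subgroup _) := by
  obtain ⟨b, c, rfl⟩ := hx
  obtain ⟨g1, g2⟩ := mem_P2.mp hg
  have hdet : g.1.det = 1 := g.2
  rw [Matrix.det_fin_three, g1, g2] at hdet
  refine ⟨(g.1 0 0 * g.1 1 1 - g.1 0 1 * g.1 1 0) * (c * g.1 1 0 + b * g.1 1 1),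
    (g.1 0 0 * g.1 1 1 - g.1 0 1 * g.1 1 0) * (c * g.1 0 0 + b * g.1 0 1), ?_⟩
  rw [mul_inv_eq_iff_eq_mul]
  ext i j
  change (g.1 * uMat 0 b c) i j =
    (uMat 0 ((g.1 0 0 * g.1 1 1 - g.1 0 1 * g.1 1 0) * (c * g.1 1 0 + b * g.1 1 1))
      ((g.1 0 0 * g.1 1 1 - g.1 0 1 * g.1 1 0) * (c * g.1 0 0 + b * g.1 0 1)) * g.1) i j
  simp only [Matrix.mul_apply, Fin.sum_univ_three]
  fin_cases i <;> fin_cases j <;> simp [uMat, g1, g2]
  · linear_combination (-(c * g.1 0 0 + b * g.1 0 1)) * hdet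
  · linear_combination (-(c * g.1 1 0 + b * g.1 1 1)) * hdet

/-- NORM2 -/
theorem NORM2 [Fintype F] (hF : Fintype.card F = 4) (g : Matrix.SpecialLinearGroup (Fin 3) F) :
    mkL g ∈ Subgroup.normalizer
      ((A2bar : Subgroup (Matrix.ProjectiveSpecialLinearGroup (Fin 3) F)) : Set _) ↔ g ∈ P2 := by
  constructor
  · intro hN
    -- two test elements
    have key : ∀ b0 c0 : F, ∃ b c r : F, g.1 * uMat 0 b0 c0 = r • (uMat 0 b c * g.1) := by
      intro b0 c0
      have hx : mkL (U (0 : F) b0 c0) ∈ (A2bar : Subgroup _) :=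
        Subgroup.mem_map_of_mem _ ⟨b0, c0, rfl⟩
      have h1 := (Subgroup.mem_normalizer_iff.mp hN _).1 hx
      rw [← map_inv, ← map_mul, ← map_mul] at h1
      obtain ⟨b, c, r, hr⟩ := NORM2.aux_lift h1
      refine ⟨b, c, r, ?_⟩
      have h3 : (g * U 0 b0 c0 * g⁻¹).1 * g.1 = g.1 * uMat 0 b0 c0 := by
        have : (g * U 0 b0 c0 * g⁻¹) * g = g * U 0 b0 c0 := by group
        have h4 : ((g * U 0 b0 c0 * g⁻¹) * g).1 = (g * U 0 b0 c0).1 := congrArg Subtype.val this
        exact h4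
      rw [← h3, hr, Matrix.smul_mul]
    obtain ⟨b, c, r, h2⟩ := key 1 0
    obtain ⟨b', c', r', h2'⟩ := key 0 1
    have e20 := congrFun (congrFun h2 2) 0
    have e21 := congrFun (congrFun h2 2) 1
    have e22 := congrFun (congrFun h2 2) 2
    have e20' := congrFun (congrFun h2' 2) 0
    have e22' := congrFun (congrFun h2' 2) 2
    simp only [Matrix.mul_apply, Matrix.smul_apply, Fin.sum_univ_three, smul_eq_mul]
      at e20 e21 e22 e20' e22'
    simp [uMat] at e20 e21 e22 e20' e22'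
    rw [mem_P2]
    by_cases hr1 : r = 1
    · subst hr1
      have h21 : g.1 2 1 = 0 := by linear_combination e22
      refine ⟨?_, h21⟩
      by_cases hr1' : r' = 1
      · subst hr1'
        linear_combination e22'
      · have hne : (1 - r') ≠ 0 := sub_ne_zero.mpr (Ne.symm hr1')
        have : (1 - r') * g.1 2 0 = 0 := by linear_combination e20'
        exact (mul_eq_zero.mp this).resolve_left hne
    · have hne : (1 - r) ≠ 0 := sub_ne_zero.mpr (Ne.symm hr1)
      constructor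
      · have : (1 - r) * g.1 2 0 = 0 := by linear_combination e20
        exact (mul_eq_zero.mp this).resolve_left hne
      · have : (1 - r) * g.1 2 1 = 0 := by linear_combination e21
        exact (mul_eq_zero.mp this).resolve_left hne
  · intro hg
    have hginv : g⁻¹ ∈ (P2 : Subgroup _) := Subgroup.inv_mem _ hg
    rw [Subgroup.mem_normalizer_iff]
    intro y
    constructor
    · rintro ⟨x, hx, rfl⟩
      rw [← map_inv, ← map_mul, ← map_mul]
      exact Subgroup.mem_map_of_mem _ (NORM2.aux_conj hg hx)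
    · rintro ⟨x, hx, hxy⟩
      have h0 : y = (mkL g)⁻¹ * mkL x * mkL g := by rw [hxy]; group
      have h1 : y = mkL (g⁻¹ * x * g⁻¹⁻¹) := by
        rw [h0]
        simp only [map_mul, map_inv, inv_inv]
      rw [h1]
      exact Subgroup.mem_map_of_mem _ (NORM2.aux_conj hginv hx)

end Cfsg.Agent.S3154P
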