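import Mathlib

set_option autoImplicit false

/-! # S3206 piece ORBODD (helper22; driver helper19)

The `N_G(S)`-class of an element of an abelian Sylow 2-subgroup `S` has odd size.  Mathlib only. -/

namespace Cfsg.Agent.S3206P

/-- ORBODD: the `N_G(S)`-class of an element of an abelian Sylow 2-subgroup `S` has odd size. -/
theorem ORBODD {G : Type*} [Group G] [Finite G] (S : Sylow 2 G)
    (hab : ∀ x ∈ (S : Subgroup G), ∀ y ∈ (S : Subgroup G), x * y = y * x)
    (x : G) (hx : x ∈ (S : Subgroup G)) :
    Odd (Nat.card {y : G // ∃ g ∈ Subgroup.normalizer ((S : Subgroup G) : Set G), g * x * g⁻¹ = y}) := by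
  classical
  haveI : Fact (Nat.Prime 2) := ⟨Nat.prime_two⟩
  set A : Subgroup G := Subgroup.normalizer ((S : Subgroup G) : Set G) with hA
  -- `A` acts on `G` by conjugation
  letI act : MulAction A G := MulAction.compHom G ((MulAut.conj : G →* MulAut G).comp A.subtype)
  have hsmul : ∀ (a : A) (y : G), a • y = (a : G) * y * (a : G)⁻¹ := fun a y => rfl
  -- the set in the statement is the orbit of `x`
  have hset : {y : G | ∃ g ∈ A, g * x * g⁻¹ = y} = MulAction.orbit A x := by
    ext y
    constructor
    · rintro ⟨g, hg, rfl⟩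
      exact ⟨⟨g, hg⟩, rfl⟩
    · rintro ⟨a, rfl⟩
      exact ⟨(a : G), a.2, rfl⟩
  have hcard : Nat.card {y : G // ∃ g ∈ A, g * x * g⁻¹ = y} = (MulAction.stabilizer A x).index := by
    rw [MulAction.index_stabilizer, ← hset, ← Nat.card_coe_set_eq]
    rfl
  rw [hcard]
  -- the stabiliser contains `S` (inside `A`)
  have hSA : (S : Subgroup G) ≤ A := Subgroup.le_normalizer
  have hle : (S : Subgroup G).subgroupOf A ≤ MulAction.stabilizer A x := by
    intro a ha
    rw [Subgroup.mem_subgroupOf] at ha
    rw [MulAction.mem_stabilizer_iff, hsmul]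
    rw [hab (a : G) ha x hx]
    group
  have hdvd1 : (MulAction.stabilizer A x).index ∣ ((S : Subgroup G).subgroupOf A).index :=
    Subgroup.index_dvd_of_le hle
  have hdvd2 : ((S : Subgroup G).subgroupOf A).index ∣ (S : Subgroup G).index := by
    have : ((S : Subgroup G).subgroupOf A).index = (S : Subgroup G).relIndex A := rfl
    rw [this]
    exact Subgroup.relIndex_dvd_index_of_le hSA
  have hodd : ¬ 2 ∣ (S : Subgroup G).index := S.not_dvd_index
  rw [← Nat.not_even_iff_odd, even_iff_two_dvd]
  intro h2
  exact hodd (dvd_trans (dvd_trans h2 hdvd1) hdvd2)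

end Cfsg.Agent.S3206P
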