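import Mathlib
import Cfsg.Agent.Helper22.S3206ORBODD

set_option autoImplicit false

/-! # S3206 piece TRANS7 (helper22; driver helper19)

`S` elementary abelian of order 8 (a Sylow 2-subgroup), no non-identity element of `S` central in `N_G(S)`:
then `N_G(S)` is transitive on `S ∖ 1`.  Uses ORBODD. -/

namespace Cfsg.Agent.S3206P

/-- TRANS7: `S` elementary abelian of order 8, no non-identity element of `S` central in `N_G(S)`: then
`N_G(S)` is transitive on `S ∖ 1` (classes have odd size `≠ 1`; `7 = 3 + 3 + 1` is impossible). -/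
theorem TRANS7 {G : Type*} [Group G] [Finite G] (S : Sylow 2 G)
    (hcard : Nat.card ↥(S : Subgroup G) = 8) (hexp : ∀ x ∈ (S : Subgroup G), x ^ 2 = 1)
    (hfoc : ∀ z ∈ (S : Subgroup G), (∀ g ∈ Subgroup.normalizer ((S : Subgroup G) : Set G), g * z = z * g) → z = 1) :
    ∀ x ∈ (S : Subgroup G), ∀ y ∈ (S : Subgroup G), x ≠ 1 → y ≠ 1 →
      ∃ g ∈ Subgroup.normalizer ((S : Subgroup G) : Set G), g * x * g⁻¹ = y := by
  classical
  haveI : Fintype G := Fintype.ofFinite G
  set A : Subgroup G := Subgroup.normalizer ((S : Subgroup G) : Set G) with hA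
  -- `S` is abelian (exponent 2)
  have hab : ∀ x ∈ (S : Subgroup G), ∀ y ∈ (S : Subgroup G), x * y = y * x := by
    intro x hx y hy
    have h1 : x * x = 1 := by rw [← pow_two]; exact hexp x hx
    have h2 : y * y = 1 := by rw [← pow_two]; exact hexp y hy
    have h3 : (x * y) * (x * y) = 1 := by
      rw [← pow_two]; exact hexp _ ((S : Subgroup G).mul_mem hx hy)
    have hxi : x⁻¹ = x := inv_eq_of_mul_eq_one_right h1
    have hyi : y⁻¹ = y := inv_eq_of_mul_eq_one_right h2
    have hxyi : (x * y)⁻¹ = x * y := inv_eq_of_mul_eq_one_right h3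
    calc x * y = (x * y)⁻¹ := hxyi.symm
      _ = y⁻¹ * x⁻¹ := mul_inv_rev x y
      _ = y * x := by rw [hxi, hyi]
  -- the classes as finsets
  let O : G → Finset G := fun x => Finset.univ.filter (fun y => ∃ g ∈ A, g * x * g⁻¹ = y)
  have hO : ∀ x y : G, y ∈ O x ↔ ∃ g ∈ A, g * x * g⁻¹ = y := by
    intro x y; simp [O]
  -- the 7 non-identity elements
  let X : Finset G := Finset.univ.filter (fun y => y ∈ (S : Subgroup G) ∧ y ≠ 1)
  have hX : ∀ y : G, y ∈ X ↔ y ∈ (S : Subgroup G) ∧ y ≠ 1 := by
    intro y; simp [X]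
  have hXcard : X.card = 7 := by
    have h1 : (Finset.univ.filter (fun y : G => y ∈ (S : Subgroup G))).card = 8 := by
      rw [← hcard, Nat.card_eq_fintype_card, Fintype.card_subtype]
    have h2 : X = (Finset.univ.filter (fun y : G => y ∈ (S : Subgroup G))).erase 1 := by
      ext y
      simp only [hX, Finset.mem_erase, Finset.mem_filter, Finset.mem_univ, true_and]
      tauto
    rw [h2, Finset.card_erase_of_mem, h1]
    simp only [Finset.mem_filter, Finset.mem_univ, true_and]
    exact (S : Subgroup G).one_mem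
  -- basic class properties
  have hself : ∀ x : G, x ∈ O x := fun x => (hO x x).2 ⟨1, A.one_mem, by simp⟩
  have hsub : ∀ x ∈ X, O x ⊆ X := by
    intro x hx y hy
    obtain ⟨g, hg, rfl⟩ := (hO x y).1 hy
    rw [hX] at hx ⊢
    refine ⟨?_, ?_⟩
    · exact (Subgroup.mem_normalizer_iff.mp hg x).1 hx.1
    · intro h
      apply hx.2
      have : x = g⁻¹ * (g * x * g⁻¹) * g := by group
      rw [this, h]; group
  have hclass : ∀ x y : G, y ∈ O x → O y = O x := by
    intro x y hy
    obtain ⟨g, hg, rfl⟩ := (hO x y).1 hy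
    ext z
    rw [hO, hO]
    constructor
    · rintro ⟨h, hh, rfl⟩
      exact ⟨h * g, A.mul_mem hh hg, by group⟩
    · rintro ⟨h, hh, rfl⟩
      exact ⟨h * g⁻¹, A.mul_mem hh (A.inv_mem hg), by group⟩
  have hoddc : ∀ x ∈ X, Odd (O x).card := by
    intro x hx
    have h := ORBODD S hab x ((hX x).1 hx).1
    have hc : Nat.card {y : G // ∃ g ∈ A, g * x * g⁻¹ = y} = (O x).card := by
      rw [Nat.card_eq_fintype_card, Fintype.card_subtype]
    rw [← hc]; exact h
  have hne1 : ∀ x ∈ X, (O x).card ≠ 1 := by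
    intro x hx h1
    obtain ⟨w, hw⟩ := Finset.card_eq_one.mp h1
    have hxw : x = w := by
      have := hself x
      rw [hw, Finset.mem_singleton] at this
      exact this
    apply ((hX x).1 hx).2
    apply hfoc x ((hX x).1 hx).1
    intro g hg
    have hgx : g * x * g⁻¹ ∈ O x := (hO x _).2 ⟨g, hg, rfl⟩
    rw [hw, Finset.mem_singleton, ← hxw] at hgx
    calc g * x = (g * x * g⁻¹) * g := by group
      _ = x * g := by rw [hgx]
  have hge3 : ∀ x ∈ X, 3 ≤ (O x).card := by
    intro x hx
    obtain ⟨k, hk⟩ := hoddc x hx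
    have := hne1 x hx
    omega
  -- main argument
  intro x hx y hy hx1 hy1
  by_contra hcon
  have hxX : x ∈ X := (hX x).2 ⟨hx, hx1⟩
  have hyX : y ∈ X := (hX y).2 ⟨hy, hy1⟩
  have hyO : y ∉ O x := fun h => hcon ((hO x y).1 h)
  have hdisj : Disjoint (O x) (O y) := by
    rw [Finset.disjoint_left]
    intro z hzx hzy
    have h1 := hclass x z hzx
    have h2 := hclass y z hzy
    apply hyO
    rw [← h1, h2]
    exact hself y
  have hunion : (O x ∪ O y) ⊆ X := Finset.union_subset (hsub x hxX) (hsub y hyX)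
  have hcu : (O x ∪ O y).card = (O x).card + (O y).card := Finset.card_union_of_disjoint hdisj
  have hle : (O x ∪ O y).card ≤ 7 := hXcard ▸ Finset.card_le_card hunion
  have h3x := hge3 x hxX
  have h3y := hge3 y hyX
  obtain ⟨kx, hkx⟩ := hoddc x hxX
  obtain ⟨ky, hky⟩ := hoddc y hyX
  have hsum : (O x ∪ O y).card = 6 := by omega
  -- the remaining element
  have hrest : (X \ (O x ∪ O y)).card = 1 := by
    rw [Finset.card_sdiff_of_subset hunion, hXcard, hsum]
  obtain ⟨w, hw⟩ := Finset.card_eq_one.mp hrest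
  have hwmem : w ∈ X \ (O x ∪ O y) := by rw [hw]; exact Finset.mem_singleton_self w
  rw [Finset.mem_sdiff, Finset.mem_union, not_or] at hwmem
  obtain ⟨hwX, hwx, hwy⟩ := hwmem
  have hOw : O w ⊆ {w} := by
    intro z hz
    rw [← hw, Finset.mem_sdiff, Finset.mem_union, not_or]
    refine ⟨hsub w hwX hz, ?_, ?_⟩
    · intro hzx
      apply hwx
      have h1 := hclass x z hzx
      have h2 := hclass w z hz
      rw [← h1, h2]; exact hself w
    · intro hzy
      apply hwy
      have h1 := hclass y z hzy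
      have h2 := hclass w z hz
      rw [← h1, h2]; exact hself w
  have h1 : (O w).card ≤ 1 := by
    have := Finset.card_le_card hOw
    simpa using this
  have h3 := hge3 w hwX
  omega

end Cfsg.Agent.S3206P
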