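import Mathlib
import Cfsg.Agent.Helper15.S3412.Defs

/-! # S3412 piece QADJ (helper22): the bijection of `Q`-subgroups preserves adjacency -/

set_option autoImplicit false

namespace Cfsg.Agent.S3412P

namespace QADJ
theorem qadj_iff {H G : Type*} [Group H] [Group G]
    (f : {h : H // h ≠ 1} ≃ {g : G // g ≠ 1}) (e : QV H ≃ QV G)
    (he : ∀ (A : QV H) (a : H) (ha : a ≠ 1), a ∈ A.1 ↔ (f ⟨a, ha⟩ : G) ∈ (e A).1)
    (A B : QV H) : QAdj (e A) (e B) ↔ QAdj A B := by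
  constructor
  · rintro ⟨hne, b, hb, hbA, hbB⟩
    refine ⟨fun h => hne (by rw [h]), ?_⟩
    obtain ⟨⟨a, ha⟩, hfa⟩ := f.surjective ⟨b, hb⟩
    have hfa' : (f ⟨a, ha⟩ : G) = b := by rw [hfa]
    refine ⟨a, ha, ?_, ?_⟩
    · rw [he A a ha, hfa']
      exact hbA
    · rw [he B a ha, hfa']
      exact hbB
  · rintro ⟨hne, a, ha, haA, haB⟩
    refine ⟨fun h => hne (e.injective h), (f ⟨a, ha⟩ : G), (f ⟨a, ha⟩).2, ?_, ?_⟩
    · exact (he A a ha).mp haA
    · exact (he B a ha).mp haB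
end QADJ

end Cfsg.Agent.S3412P
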