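import Mathlib
import Cfsg.Prelude.Def_Classical
import Cfsg.Agent.Helper6.S3439.Defs

/-! S3439 piece A1 (driver helper6): in a semidirect product, an element over a fixed-point-free
`g` with `g ^ 5 = 1` has fifth power `1`. -/

set_option autoImplicit false

namespace Cfsg.Agent.S3439P

open N7

namespace A1

theorem exists_conj {N G : Type*} [Group N] [Finite N] [Group G] (φ : G →* MulAut N) (g : G)
    (hfix : ∀ x : N, φ g x = x → x = 1) (n : N) : ∃ x : N, x⁻¹ * φ g x = n := by
  have hinj : Function.Injective (fun x : N => x⁻¹ * φ g x) := by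
    intro x y hxy
    have hxy' : x⁻¹ * φ g x = y⁻¹ * φ g y := hxy
    have h1 : φ g (y * x⁻¹) = y * x⁻¹ := by
      rw [map_mul, map_inv]
      have h2 : φ g y * (φ g x)⁻¹ = y * x⁻¹ := by
        have h3 : φ g x = x * (y⁻¹ * φ g y) := by rw [← hxy', mul_inv_cancel_left]
        rw [h3]
        group
      exact h2
    have h4 := hfix _ h1
    have : y = x := by
      have := mul_inv_eq_one.1 h4
      exact this
    exact this.symm
  exact (Finite.injective_iff_surjective.1 hinj) n

end A1

/-- A1 -/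
theorem semi_pow_five {N G : Type*} [Group N] [Finite N] [Group G] (φ : G →* MulAut N) (g : G)
    (hg : g ^ 5 = 1) (hfix : ∀ x : N, φ g x = x → x = 1) (n : N) :
    ((⟨n, g⟩ : N ⋊[φ] G)) ^ 5 = 1 := by
  obtain ⟨x, hx⟩ := A1.exists_conj φ g hfix n
  have e : (⟨n, g⟩ : N ⋊[φ] G) =
      (SemidirectProduct.inl x)⁻¹ * SemidirectProduct.inr g * ((SemidirectProduct.inl x)⁻¹)⁻¹ := by
    apply SemidirectProduct.ext
    · simp [← hx]
    · simp
  rw [e, conj_pow, ← map_pow, hg, map_one, mul_one, mul_inv_cancel]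

end Cfsg.Agent.S3439P
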