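import Mathlib
import Cfsg.Prelude.Def_Classical
import Cfsg.Agent.Helper6.S3439.Defs

/-! S3439 piece SPECLEM (driver helper6): the spectrum from a cover by exponents and three
witnesses. -/

set_option autoImplicit false

namespace Cfsg.Agent.S3439P

open N7

/-- SPECLEM -/
theorem spec_of_cover {X : Type*} [Group X] (hup : ∀ x : X, x ^ 5 = 1 ∨ x ^ 9 = 1 ∨ x ^ 12 = 1)
    (h5 : ∃ x : X, orderOf x = 5) (h9 : ∃ x : X, orderOf x = 9) (h12 : ∃ x : X, orderOf x = 12) :
    Set.range (orderOf : X → ℕ) = {n | n ∣ 5 ∨ n ∣ 9 ∨ n ∣ 12} := by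
  ext n
  simp only [Set.mem_range, Set.mem_setOf_eq]
  constructor
  · rintro ⟨x, rfl⟩
    rcases hup x with h | h | h
    · exact Or.inl (orderOf_dvd_of_pow_eq_one h)
    · exact Or.inr (Or.inl (orderOf_dvd_of_pow_eq_one h))
    · exact Or.inr (Or.inr (orderOf_dvd_of_pow_eq_one h))
  · intro h
    have key : ∀ m : ℕ, 0 < m → (∃ x : X, orderOf x = m) → n ∣ m → ∃ y : X, orderOf y = n := by
      rintro m hm ⟨x, hx⟩ ⟨k, hk⟩
      have hk0 : k ≠ 0 := by
        rintro rfl
        omega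
      refine ⟨x ^ k, ?_⟩
      rw [orderOf_pow_of_dvd hk0 (by rw [hx, hk]; exact dvd_mul_left k n), hx, hk,
        Nat.mul_div_cancel _ (Nat.pos_of_ne_zero hk0)]
    rcases h with h | h | h
    · exact key 5 (by norm_num) h5 h
    · exact key 9 (by norm_num) h9 h
    · exact key 12 (by norm_num) h12 h

end Cfsg.Agent.S3439P
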