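import Mathlib
import Cfsg.Agent.Helper26.S3501DIAGDER
import Cfsg.Agent.Helper11.S3501TWOSINGLE

/-! # S3501 piece DIAGCASE (helper22; driver helper4)

Statement verbatim from `departures/helper4_s3501_stubs.lean.txt`.  Uses the landed pieces DIAGDER and
TWOSINGLE; carries small private copies (`DIAGCASE.aux_fint`, `DIAGCASE.aux_notp`) of the board pieces
FINT / NOTPGROUP so that it does not wait for them. -/

set_option autoImplicit false

namespace Cfsg.Agent.S3501P

open MulAction

/-- private copy of FINT: a factor of a finite power is finite. -/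
theorem DIAGCASE.aux_fint {N T : Type*} [Group N] [Finite N] [Group T] (m : ℕ) (hm : 0 < m)
    (e : N ≃* (Fin m → T)) : Finite T := by
  classical
  have hinj : Function.Injective (fun t : T => e.symm (Pi.mulSingle (⟨0, hm⟩ : Fin m) t)) := by
    intro t t' h
    have h1 : (Pi.mulSingle (⟨0, hm⟩ : Fin m) t : Fin m → T) = Pi.mulSingle (⟨0, hm⟩ : Fin m) t' :=
      e.symm.injective h
    exact Pi.mulSingle_injective (⟨0, hm⟩ : Fin m) h1
  exact Finite.of_injective _ hinj

/-- private copy of NOTPGROUP: a finite non-abelian simple group has, for every `p`, an element of prime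
order `≠ p`. -/
theorem DIAGCASE.aux_notp {T : Type*} [Group T] [Finite T] [IsSimpleGroup T] (hT : ¬ IsMulCommutative T)
    (p : ℕ) : ∃ u : T, (orderOf u).Prime ∧ orderOf u ≠ p := by
  classical
  have hcard1 : Nat.card T ≠ 1 := by
    intro h
    haveI : Subsingleton T := (Nat.card_eq_one_iff_unique.mp h).1
    exact hT ⟨⟨fun a b => Subsingleton.elim _ _⟩⟩
  have hcard0 : Nat.card T ≠ 0 := Nat.card_pos.ne'
  -- a prime divisor different from `p`
  have hq : ∃ q : ℕ, q.Prime ∧ q ∣ Nat.card T ∧ q ≠ p := by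
    by_contra hcon
    push_neg at hcon
    -- then `p` is the only prime divisor
    obtain ⟨q0, hq0, hq0d⟩ := Nat.exists_prime_and_dvd hcard1
    have hpq0 : q0 = p := hcon q0 hq0 hq0d
    have hp : p.Prime := hpq0 ▸ hq0
    haveI : Fact p.Prime := ⟨hp⟩
    have hpow : Nat.card T = p ^ (Nat.card T).primeFactorsList.length :=
      Nat.eq_prime_pow_of_unique_prime_dvd hcard0 (fun {q} hq hqd => hcon q hq hqd)
    have hpg : IsPGroup p T := IsPGroup.of_card hpow
    haveI : Nontrivial T := IsSimpleGroup.toNontrivial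
    have hcn : Nontrivial (Subgroup.center T) := hpg.center_nontrivial
    have hcne : Subgroup.center T ≠ ⊥ := by
      intro h
      rw [Subgroup.nontrivial_iff_ne_bot] at hcn
      exact hcn h
    have hct : Subgroup.center T = ⊤ :=
      ((inferInstance : (Subgroup.center T).Normal).eq_bot_or_eq_top).resolve_left hcne
    apply hT
    refine ⟨⟨fun a b => ?_⟩⟩
    have hb : b ∈ Subgroup.center T := by rw [hct]; exact Subgroup.mem_top b
    exact Subgroup.mem_center_iff.mp hb a
  obtain ⟨q, hqp, hqd, hqne⟩ := hq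
  haveI : Fact q.Prime := ⟨hqp⟩
  obtain ⟨u, hu⟩ := exists_prime_orderOf_dvd_card' q hqd
  exact ⟨u, hu ▸ hqp, hu ▸ hqne⟩

section
variable {G : Type*} [Group G] [Finite G] {Ω : Type*} [Fintype Ω] [MulAction G Ω] [FaithfulSMul G Ω]

/-- In a block structure all of whose non-empty blocks have `k ≥ 2` elements, every index has a partner. -/
theorem DIAGCASE.aux_partner {m : ℕ} (k : ℕ) (c : Fin m → Fin m) (hk : 2 ≤ k)
    (hblock : ∀ j : Fin m, Nat.card {i : Fin m // c i = j} = k ∨ Nat.card {i : Fin m // c i = j} = 0)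
    (i : Fin m) : ∃ j : Fin m, j ≠ i ∧ c i = c j := by
  classical
  have hne : Nat.card {i' : Fin m // c i' = c i} ≠ 0 := by
    haveI : Nonempty {i' : Fin m // c i' = c i} := ⟨⟨i, rfl⟩⟩
    exact Nat.card_pos.ne'
  have hcard : Nat.card {i' : Fin m // c i' = c i} = k := by
    rcases hblock (c i) with h | h
    · exact h
    · exact absurd h hne
  have h2 : 1 < Nat.card {i' : Fin m // c i' = c i} := by omega
  rw [Nat.card_eq_fintype_card] at h2
  obtain ⟨⟨j, hj⟩, hji⟩ := Fintype.exists_ne_of_one_lt_card h2 ⟨i, rfl⟩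
  refine ⟨j, ?_, hj.symm⟩
  intro h
  apply hji
  exact Subtype.ext h

/-- DIAGCASE: diagonal type (blocks of size `k ≥ 2`) contradicts "one class". -/
theorem DIAGCASE (N : Subgroup G) [N.Normal] [IsPretransitive N Ω] (a : Ω) {T : Type} [Group T]
    [IsSimpleGroup T] (hT : ¬ IsMulCommutative T) {m : ℕ} (hm : 0 < m) (e : N ≃* (Fin m → T))
    (k : ℕ) (c : Fin m → Fin m) (hk : 2 ≤ k)
    (hblock : ∀ j : Fin m, Nat.card {i : Fin m // c i = j} = k ∨ Nat.card {i : Fin m // c i = j} = 0)
    (hstab : ∀ n : N, (n : G) ∈ stabilizer G a ↔ ∀ i j : Fin m, c i = c j → e n i = e n j)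
    (hone : ∀ x y : G, (∀ ω : Ω, x • ω ≠ ω) → (∀ ω : Ω, y • ω ≠ ω) → IsConj x y) : False := by
  classical
  haveI : Finite T := DIAGCASE.aux_fint m hm e
  obtain ⟨j, hji, hcij⟩ := DIAGCASE.aux_partner k c hk hblock ⟨0, hm⟩
  set i : Fin m := ⟨0, hm⟩ with hi
  obtain ⟨t, htp, -⟩ := DIAGCASE.aux_notp (T := T) hT 0
  obtain ⟨t', ht'p, ht'ne⟩ := DIAGCASE.aux_notp (T := T) hT (orderOf t)
  have ht1 : t ≠ 1 := by
    intro h
    rw [h, orderOf_one] at htp
    exact Nat.not_prime_one htp
  have ht'1 : t' ≠ 1 := by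
    intro h
    rw [h, orderOf_one] at ht'p
    exact Nat.not_prime_one ht'p
  have hij : i ≠ j := fun h => hji h.symm
  -- first derangement: single i t
  have hd1 : ∀ ω : Ω, ((e.symm (Pi.mulSingle i t) : N) : G) • ω ≠ ω := by
    refine DIAGDER N a e c hstab ((Pi.mulSingle i t : Fin m → T)) i j hcij ?_
    intro g g' h
    rw [Pi.mulSingle_eq_same, Pi.mulSingle_eq_of_ne hji] at h
    apply ht1
    have h2 : g⁻¹ * t * g = 1 := by rw [h]; group
    have h3 : t = g * (g⁻¹ * t * g) * g⁻¹ := by group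
    rw [h3, h2]; group
  -- second derangement: single i t * single j t'
  have hd2 : ∀ ω : Ω, ((e.symm (Pi.mulSingle i t * Pi.mulSingle j t') : N) : G) • ω ≠ ω := by
    refine DIAGDER N a e c hstab ((Pi.mulSingle i t * Pi.mulSingle j t' : Fin m → T)) i j hcij ?_
    intro g g' h
    simp only [Pi.mul_apply, Pi.mulSingle_eq_same, Pi.mulSingle_eq_of_ne hji,
      Pi.mulSingle_eq_of_ne hij, mul_one, one_mul] at h
    apply ht'ne
    have h1 : orderOf (g⁻¹ * t * g) = orderOf t := by
      have : g⁻¹ * t * g = MulAut.conj g⁻¹ t := by simp [MulAut.conj_apply]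
      rw [this, MulEquiv.orderOf_eq]
    have h2 : orderOf (g'⁻¹ * t' * g') = orderOf t' := by
      have : g'⁻¹ * t' * g' = MulAut.conj g'⁻¹ t' := by simp [MulAut.conj_apply]
      rw [this, MulEquiv.orderOf_eq]
    rw [← h1, ← h2, h]
  exact TWOSINGLE N hT e i j hij t t' ht'1 (hone _ _ hd1 hd2)

end

end Cfsg.Agent.S3501P
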