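import Mathlib
import Cfsg.Prelude.Def_Classical
import Cfsg.Agent.Helper28.S3589Defs
import Cfsg.Agent.Helper22.S3589TRANSP
import Cfsg.Agent.Helper15.S5973PRODQ
import Cfsg.Agent.Helper15.S5973PRODTYPE
import Cfsg.Agent.Helper28.S2512Lib

/-! S3589 piece PROD (driver helper28): orthogonal sum of blocks. -/

set_option autoImplicit false

namespace Cfsg.Agent.S3589P

open Module
open Cfsg.Agent.S5973P
open scoped Classical

noncomputable section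

namespace PROD

theorem beq_true_iff (h₁ h₂ : Bool) : ((h₁ == h₂) = true) ↔ (h₁ = true ↔ h₂ = true) := by
  cases h₁ <;> cases h₂ <;> simp

end PROD

/-- PROD: orthogonal sum of blocks. -/
theorem HasBlock.prod {F : Type*} [Field F] [Fintype F] {d₁ d₂ : ℕ} {h₁ h₂ : Bool} {o₁ o₂ : ℕ}
    (H₁ : HasBlock F d₁ h₁ o₁) (H₂ : HasBlock F d₂ h₂ o₂) :
    HasBlock F (d₁ + d₂) (h₁ == h₂) (Nat.lcm o₁ o₂) := by
  obtain ⟨Q₁, y₁, hN₁, hH₁, hI₁, hO₁⟩ := H₁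
  obtain ⟨Q₂, y₂, hN₂, hH₂, hI₂, hO₂⟩ := H₂
  have f1 : finrank F (Fin (2 * d₁) → F) = 2 * d₁ := by simp
  have f2 : finrank F (Fin (2 * d₂) → F) = 2 * d₂ := by simp
  refine hasBlock_of_space (Q₁.prod Q₂) (y₁.prodMap y₂) (d₁ + d₂) (h₁ == h₂) (Nat.lcm o₁ o₂)
    (PRODQ.nd_prod Q₁ Q₂ hN₁ hN₂) ?_ ?_ ?_ ?_
  · rw [Module.finrank_prod, f1, f2]; ring
  · rw [isHyp_prod_iff Q₁ Q₂ hN₁ hN₂ (by rw [f1]; exact even_two_mul _)
      (by rw [f2]; exact even_two_mul _), PROD.beq_true_iff, hH₁, hH₂]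
  · rintro ⟨v₁, v₂⟩
    simp only [QuadraticMap.prod_apply, LinearMap.prodMap_apply]
    rw [hI₁, hI₂]
  · intro j
    rw [Cfsg.Agent.S2512P.prodMap_pow_eq_one_iff, hO₁, hO₂, Nat.lcm_dvd_iff]

end

end Cfsg.Agent.S3589P
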