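import Mathlib
import Cfsg.Prelude.Def_Classical
import Cfsg.Agent.Helper5.S3590Defs

/-! S3590 piece CYCLA (driver helper5): a matrix whose minimal polynomial has full degree has
one-dimensional eigenspaces. -/

set_option autoImplicit false

namespace Cfsg.Agent.S3590P

open Module Polynomial Matrix
open scoped Classical

noncomputable section

namespace CYCLA

variable {F : Type*} [Field F] {V : Type*} [AddCommGroup V] [Module F V]

/-- evaluation of a polynomial at the restriction of an endomorphism to an invariant subspace -/
theorem aeval_restrict_coe (f : Module.End F V) (R : Submodule F V) (hR : ∀ x ∈ R, f x ∈ R)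
    (p : F[X]) : ∀ (x : V) (hx : x ∈ R), ((aeval (f.restrict hR) p ⟨x, hx⟩ : R) : V) = aeval f p x := by
  induction p using Polynomial.induction_on' with
  | add p q hp hq =>
    intro x hx
    rw [map_add, map_add, LinearMap.add_apply, LinearMap.add_apply, Submodule.coe_add, hp x hx,
      hq x hx]
  | monomial n a =>
    intro x hx
    rw [aeval_monomial, aeval_monomial, Module.End.mul_apply, Module.End.mul_apply,
      Module.algebraMap_end_apply, Module.algebraMap_end_apply, Submodule.coe_smul,
      Module.End.pow_restrict n hR]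
    rfl

/-- if the minimal polynomial of `f` has degree `dim V`, the fixed space of `f` has dimension `≤ 1` -/
theorem finrank_ker_le_one [FiniteDimensional F V] (f : Module.End F V)
    (hdeg : (minpoly F f).natDegree = finrank F V) :
    finrank F (LinearMap.ker (f - 1)) ≤ 1 := by
  set g : Module.End F V := f - 1 with hg
  have hcomm : ∀ x, f (g x) = g (f x) := by
    intro x
    simp [hg, map_sub]
  have hR : ∀ x ∈ LinearMap.range g, f x ∈ LinearMap.range g := by
    rintro _ ⟨y, rfl⟩
    exact ⟨f y, (hcomm y).symm⟩
  set f' : Module.End F (LinearMap.range g) := f.restrict hR with hf'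
  set m' : F[X] := LinearMap.charpoly f' with hm'
  have hmon : m'.Monic := LinearMap.charpoly_monic f'
  have hdeg' : m'.natDegree = finrank F (LinearMap.range g) := LinearMap.charpoly_natDegree f'
  have hzero : aeval f (m' * (X - 1)) = 0 := by
    apply LinearMap.ext
    intro x
    rw [map_mul, Module.End.mul_apply]
    have e1 : (aeval f (X - 1 : F[X])) x = g x := by
      simp [hg]
    rw [e1, ← aeval_restrict_coe f (LinearMap.range g) hR m' (g x) ⟨x, rfl⟩, hm', hf',
      LinearMap.aeval_self_charpoly]
    rfl
  have hdvd : minpoly F f ∣ m' * (X - 1) := minpoly.dvd F f hzero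
  have hne : m' * (X - 1 : F[X]) ≠ 0 := mul_ne_zero hmon.ne_zero (X_sub_C_ne_zero 1)
  have hle := Polynomial.natDegree_le_of_dvd hdvd hne
  have hd2 : (m' * (X - 1 : F[X])).natDegree = m'.natDegree + 1 := by
    have h1 : (X - 1 : F[X]) = X - C 1 := by simp
    rw [h1, hmon.natDegree_mul (monic_X_sub_C 1), natDegree_X_sub_C]
  have hrn := LinearMap.finrank_range_add_finrank_ker g
  omega

end CYCLA

/-- CYCLA -/
theorem rank_sub_one_of_cyclic {F : Type*} [Field F] {ι : Type} [Fintype ι] [DecidableEq ι]
    (A : Matrix ι ι F) (hdeg : (minpoly F A).natDegree = Fintype.card ι)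
    (h1 : (X - 1 : F[X]) ∣ minpoly F A) : (A - 1).rank + 1 = Fintype.card ι := by
  set f : Module.End F (ι → F) := Matrix.toLin' A with hf
  have hmin : minpoly F f = minpoly F A := Matrix.minpoly_toLin' A
  have hfin : finrank F (ι → F) = Fintype.card ι := Module.finrank_fintype_fun_eq_card F
  have hk1 : finrank F (LinearMap.ker (f - 1)) ≤ 1 :=
    CYCLA.finrank_ker_le_one f (by rw [hmin, hdeg, hfin])
  have hroot : (minpoly F f).IsRoot 1 := by
    rw [hmin]
    have : (X - 1 : F[X]) = X - C 1 := by simp
    rw [this] at h1
    exact dvd_iff_isRoot.1 h1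
  have hev : f.HasEigenvalue 1 := Module.End.hasEigenvalue_of_isRoot hroot
  obtain ⟨v, hv⟩ := hev.exists_hasEigenvector
  have hvK : v ∈ LinearMap.ker (f - 1) := by
    rw [LinearMap.mem_ker, LinearMap.sub_apply, hv.apply_eq_smul, one_smul]
    simp
  have hk0 : 0 < finrank F (LinearMap.ker (f - 1)) := by
    rw [Module.finrank_pos_iff_exists_ne_zero]
    exact ⟨⟨v, hvK⟩, fun h => hv.2 (by simpa using congrArg Subtype.val h)⟩
  have hrn := LinearMap.finrank_range_add_finrank_ker (f - 1)
  have hrank : (A - 1).rank = finrank F (LinearMap.range (f - 1)) := by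
    have : f - 1 = Matrix.toLin' (A - 1) := by
      rw [hf, map_sub, Matrix.toLin'_one]
      rfl
    rw [this, Matrix.rank, Matrix.toLin'_apply']
  rw [hrank]
  omega

end

end Cfsg.Agent.S3590P
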