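import Mathlib
import Cfsg.Prelude.Def_Classical
import Cfsg.Agent.Helper5.S3590Defs
import Cfsg.Agent.Helper28.S3589ASM
import Cfsg.Agent.Helper28.LocBal23

/-! S3590 piece SPEC (driver helper5): the spectrum of `PSp_8(q)`, `q` even. -/

set_option autoImplicit false

namespace Cfsg.Agent.S3590P

open Module Polynomial Matrix
open Cfsg.Agent.S5973P Cfsg.Agent.S2264P Cfsg.Agent.S3589P
open scoped Classical

noncomputable section

open Cfsg.Agent.S3589P.ASM in
/-- SPEC -/
theorem spec_psp {F : Type*} [Field F] [Fintype F] [CharP F 2] :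
    Set.range (orderOf : Cfsg.PSp 4 F → ℕ) = spec (Fintype.card F) := by
  apply Set.eq_of_subset_of_subset
  · rintro n ⟨g, rfl⟩
    obtain ⟨A, rfl⟩ := QuotientGroup.mk_surjective g
    rw [orderOf_mk]
    obtain ⟨M, hM, hpow⟩ := sp_pow_eq_one A
    have : Finite (Matrix.symplecticGroup (Fin 4) F) := inferInstance
    exact ⟨orderOf_pos A, M, hM, orderOf_dvd_of_pow_eq_one hpow⟩
  · rintro n ⟨hn, M, hM, hnM⟩
    obtain ⟨a, b, han⟩ := Cfsg.Agent.Helper28.LB.exists_aniso_binary (K := F)
    obtain ⟨x, hx⟩ := exists_orderOf_of_hasBlock a b han M (hasBlock_of_mem_ords M hM)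
    obtain ⟨A, hA⟩ := exists_sp_orderOf a b han x
    have : Finite (Matrix.symplecticGroup (Fin 4) F) := inferInstance
    have hpos : 0 < orderOf A := orderOf_pos A
    obtain ⟨k, hk⟩ := hnM
    have hAM : orderOf A = n * k := by rw [hA, hx, hk]
    have hk0 : k ≠ 0 := by
      rintro rfl
      rw [mul_zero] at hAM; omega
    refine ⟨QuotientGroup.mk (A ^ k), ?_⟩
    rw [orderOf_mk]
    have h1 : orderOf (A ^ k) = orderOf A / k := by
      apply orderOf_pow_of_dvd hk0
      rw [hAM]; exact dvd_mul_left k _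
    rw [h1, hAM, Nat.mul_div_cancel _ (Nat.pos_of_ne_zero hk0)]

end

end Cfsg.Agent.S3590P
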