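import Mathlib
import Cfsg.Agent.Helper16.S3641Defs

set_option autoImplicit false

/-! # S3641 piece N2 (helper22; driver helper16)

A `Z18`-group with `d = 8` or `16` has exactly 153 Sylow 2-subgroups. -/

namespace Cfsg.Agent.S3641P

open MulAction

/-- the 2-part of `2 ^ k * m`, `m` odd -/
theorem N2.aux_fact (k m : ℕ) (hm : ¬ 2 ∣ m) : (2 ^ k * m).factorization 2 = k := by
  have hm0 : m ≠ 0 := fun h => hm (h ▸ dvd_zero 2)
  rw [Nat.factorization_mul (pow_ne_zero k two_ne_zero) hm0, Finsupp.add_apply,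
    Nat.factorization_eq_zero_of_not_dvd hm, add_zero, Nat.Prime.factorization_pow Nat.prime_two,
    Finsupp.single_eq_same]

/-- two subgroups with trivial intersection inside a third: product of the orders is at most the order -/
theorem N2.aux_prod {G : Type*} [Group G] [Finite G] (K C S : Subgroup G) (hK : K ≤ S) (hC : C ≤ S)
    (hKC : K ⊓ C = ⊥) : Nat.card K * Nat.card C ≤ Nat.card S := by
  classical
  rw [← Nat.card_prod]
  let f : ↥K × ↥C → ↥S := fun p => ⟨(p.1 : G) * (p.2 : G), S.mul_mem (hK p.1.2) (hC p.2.2)⟩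
  have hf : Function.Injective f := by
    rintro ⟨⟨k, hk⟩, ⟨c, hc⟩⟩ ⟨⟨k', hk'⟩, ⟨c', hc'⟩⟩ h
    have h1 : k * c = k' * c' := congrArg (fun x : ↥S => (x : G)) h
    have h2 : k'⁻¹ * k = c' * c⁻¹ := by
      have : k'⁻¹ * (k * c) * c⁻¹ = k'⁻¹ * (k' * c') * c⁻¹ := by rw [h1]
      calc k'⁻¹ * k = k'⁻¹ * (k * c) * c⁻¹ := by group
        _ = k'⁻¹ * (k' * c') * c⁻¹ := this
        _ = c' * c⁻¹ := by group
    have h3 : k'⁻¹ * k ∈ K ⊓ C := by
      refine ⟨K.mul_mem (K.inv_mem hk') hk, ?_⟩
      rw [h2]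
      exact C.mul_mem hc' (C.inv_mem hc)
    rw [hKC, Subgroup.mem_bot] at h3
    have hkk : k = k' := by
      have : k = k' * (k'⁻¹ * k) := by group
      rw [this, h3, mul_one]
    have hcc : c = c' := by
      have h4 : c' * c⁻¹ = 1 := by rw [← h2, h3]
      have : c' = (c' * c⁻¹) * c := by group
      rw [this, h4, one_mul]
    subst hkk; subst hcc; rfl
  exact Nat.card_le_card_of_injective f hf

/-- N2: a `Z18`-group with `d = 8` or `16` has 153 Sylow 2-subgroups. -/
theorem N2 {Ω : Type*} [Fintype Ω] [DecidableEq Ω] (H : Subgroup (Equiv.Perm Ω)) (d : ℕ)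
    (hZ : Z18 H d) (hd : d = 8 ∨ d = 16) : Nat.card (Sylow 2 H) = 153 := by
  classical
  haveI : Fact (Nat.Prime 2) := ⟨Nat.prime_two⟩
  haveI : Finite H := inferInstance
  have hsm : ∀ (h : H) (x : Ω), h • x = (h : Equiv.Perm Ω) x := fun h x => rfl
  obtain ⟨a, b, hab⟩ : ∃ a b : Ω, a ≠ b := by
    apply Fintype.exists_pair_of_one_lt_card
    rw [hZ.hΩ]; norm_num
  -- the two-point stabiliser
  set C : Subgroup H := stabilizer H a ⊓ stabilizer H b with hCdef
  have hCmem : ∀ h : H, h ∈ C ↔ (h : Equiv.Perm Ω) a = a ∧ (h : Equiv.Perm Ω) b = b := by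
    intro h
    rw [hCdef, Subgroup.mem_inf, mem_stabilizer_iff, mem_stabilizer_iff, hsm, hsm]
  have hCcard : Nat.card C = d := by
    rw [← hZ.h2 a b hab]
    refine Nat.card_congr
      { toFun := fun h => ⟨(h.1 : Equiv.Perm Ω), h.1.2, ((hCmem h.1).1 h.2).1, ((hCmem h.1).1 h.2).2⟩
        invFun := fun h => ⟨⟨h.1, h.2.1⟩, (hCmem _).2 ⟨h.2.2.1, h.2.2.2⟩⟩
        left_inv := fun h => rfl
        right_inv := fun h => rfl }
  have hd8 : 8 ≤ d := by rcases hd with h | h <;> omega
  have hCp : IsPGroup 2 C := by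
    rcases hd with h | h
    · exact IsPGroup.of_card (n := 3) (by rw [hCcard, h]; norm_num)
    · exact IsPGroup.of_card (n := 4) (by rw [hCcard, h]; norm_num)
  obtain ⟨S, hCS⟩ := hCp.exists_le_sylow
  -- the order of S
  have hScard : Nat.card (S : Subgroup H) = 2 * d := by
    have h1 := S.card_eq_multiplicity
    rw [hZ.hcard] at h1
    rcases hd with h | h
    · have : 18 * 17 * d = 2 ^ 4 * 153 := by rw [h]; norm_num
      rw [this, N2.aux_fact 4 153 (by norm_num)] at h1
      rw [h1, h]; norm_num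
    · have : 18 * 17 * d = 2 ^ 5 * 153 := by rw [h]; norm_num
      rw [this, N2.aux_fact 5 153 (by norm_num)] at h1
      rw [h1, h]; norm_num
  -- stabilisers in S of other points have order at most 2
  have hsmall : ∀ c : Ω, c ≠ a → c ≠ b →
      Nat.card ((S : Subgroup H) ⊓ stabilizer H c : Subgroup H) ≤ 2 := by
    intro c hca hcb
    have hKC : ((S : Subgroup H) ⊓ stabilizer H c) ⊓ C = ⊥ := by
      rw [eq_bot_iff]
      intro h hh
      rw [Subgroup.mem_inf, Subgroup.mem_inf, mem_stabilizer_iff, hsm, hCmem] at hh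
      rw [Subgroup.mem_bot]
      have := hZ.h3 (h : Equiv.Perm Ω) h.2 a b c hab (Ne.symm hca) (Ne.symm hcb) hh.2.1 hh.2.2 hh.1.2
      exact Subtype.ext this
    have h1 := N2.aux_prod _ C (S : Subgroup H) inf_le_left hCS hKC
    rw [hCcard, hScard] at h1
    by_contra hcon
    rw [not_le] at hcon
    have : 3 * d ≤ Nat.card ((S : Subgroup H) ⊓ stabilizer H c : Subgroup H) * d :=
      Nat.mul_le_mul_right d hcon
    omega
  -- the normaliser preserves {a, b}
  set N : Subgroup H := Subgroup.normalizer ((S : Subgroup H) : Set H) with hNdef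
  have hpres : ∀ g ∈ N, ∀ x : Ω, (x = a ∨ x = b) →
      ((g : Equiv.Perm Ω) x = a ∨ (g : Equiv.Perm Ω) x = b) := by
    intro g hg x hx
    by_contra hcon
    rw [not_or] at hcon
    have h2 := hsmall ((g : Equiv.Perm Ω) x) hcon.1 hcon.2
    -- conjugation embeds C
    let f : ↥C → ↥((S : Subgroup H) ⊓ stabilizer H ((g : Equiv.Perm Ω) x) : Subgroup H) := fun h =>
      ⟨g * (h : H) * g⁻¹, by
        refine ⟨(Subgroup.mem_normalizer_iff.mp hg (h : H)).1 (hCS h.2), ?_⟩
        apply mem_stabilizer_iff.mpr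
        rw [hsm]
        have hfix : ((h : H) : Equiv.Perm Ω) x = x := by
          rcases hx with rfl | rfl
          · exact ((hCmem h).1 h.2).1
          · exact ((hCmem h).1 h.2).2
        show ((g * (h : H) * g⁻¹ : H) : Equiv.Perm Ω) ((g : Equiv.Perm Ω) x) = (g : Equiv.Perm Ω) x
        simp [hfix]⟩
    have hf : Function.Injective f := by
      intro h h' hh
      have h1 : g * (h : H) * g⁻¹ = g * (h' : H) * g⁻¹ := congrArg Subtype.val hh
      have h3 : (h : H) = (h' : H) := by
        have : (h : H) = g⁻¹ * (g * (h : H) * g⁻¹) * g := by group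
        rw [this, h1]; group
      exact Subtype.ext h3
    have h4 := Nat.card_le_card_of_injective f hf
    rw [hCcard] at h4
    omega
  -- order of N
  have hNle : Nat.card N ≤ 2 * d := by
    -- orbit-stabiliser for N acting on Ω
    have h1 : Nat.card N = Nat.card (stabilizer ↥N a) * (stabilizer ↥N a).index :=
      (Subgroup.card_mul_index _).symm
    have h2 : (stabilizer ↥N a).index ≤ 2 := by
      rw [MulAction.index_stabilizer]
      have hsub : orbit ↥N a ⊆ ({a, b} : Set Ω) := by
        rintro _ ⟨n, rfl⟩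
        have := hpres (n : H) n.2 a (Or.inl rfl)
        exact this
      calc (orbit ↥N a).ncard ≤ ({a, b} : Set Ω).ncard := Set.ncard_le_ncard hsub (Set.toFinite _)
        _ ≤ 2 := by rw [Set.ncard_pair hab]
    have h3 : Nat.card (stabilizer ↥N a) ≤ d := by
      rw [← hCcard]
      let f : ↥(stabilizer ↥N a) → ↥C := fun n => ⟨((n : ↥N) : H), by
        rw [hCmem]
        have hna : (((n : ↥N) : H) : Equiv.Perm Ω) a = a := by
          have := n.2
          rw [mem_stabilizer_iff] at this
          exact this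
        refine ⟨hna, ?_⟩
        rcases hpres ((n : ↥N) : H) (n : ↥N).2 b (Or.inr rfl) with h | h
        · exfalso
          apply hab
          have : (((n : ↥N) : H) : Equiv.Perm Ω) a = (((n : ↥N) : H) : Equiv.Perm Ω) b := by
            rw [hna, h]
          exact (((n : ↥N) : H) : Equiv.Perm Ω).injective this
        · exact h⟩
      have hf : Function.Injective f := by
        intro n n' hh
        have : ((n : ↥N) : H) = ((n' : ↥N) : H) := congrArg (fun z : ↥C => (z : H)) hh
        exact Subtype.ext (Subtype.ext this)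
      exact Nat.card_le_card_of_injective f hf
    calc Nat.card N = Nat.card (stabilizer ↥N a) * (stabilizer ↥N a).index := h1
      _ ≤ d * 2 := Nat.mul_le_mul h3 h2
      _ = 2 * d := by ring
  have hNge : 2 * d ≤ Nat.card N := by
    rw [← hScard]
    exact Subgroup.card_le_of_le Subgroup.le_normalizer
  have hNcard : Nat.card N = 2 * d := le_antisymm hNle hNge
  -- count
  rw [S.card_eq_index_normalizer]
  have h1 : Nat.card N * N.index = Nat.card H := Subgroup.card_mul_index N
  rw [hNcard, hZ.hcard] at h1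
  have hd0 : 0 < d := by omega
  have : 2 * d * N.index = 2 * d * 153 := by rw [h1]; ring
  exact Nat.eq_of_mul_eq_mul_left (by omega : 0 < 2 * d) this

end Cfsg.Agent.S3641P
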