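import Mathlib
import Cfsg.Agent.Helper26.S3818Defs

/-!
# S3818 board, row FR2

`End V = ⊕_{t ∈ T} ρ(t) · 𝒞`, `𝒞` the commutant of `ρ(Q)`, `T` a transversal of `Z = Z(Q)` in `Q` (`[Q,Q] ≤ Z`, `Z` acts by
scalars, `ρ` faithful, `|Q/Z|` invertible in `F`).
-/

set_option autoImplicit false
set_option linter.unusedVariables false
set_option linter.unusedSectionVars false

namespace Cfsg.Agent.S3818P

open Module

section FR2

variable {G : Type*} [Group G] {F V : Type*} [Field F] [AddCommGroup V] [Module F V]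
  (ρ : Representation F G V) (Q Z : Subgroup G)

/-- `X u w = ρ [u, w]` -/
def FR2h22_aux_X (u w : G) : Module.End F V := ρ (u * w * u⁻¹ * w⁻¹)

theorem FR2h22_aux_rho_inv (a : G) : ρ a * ρ a⁻¹ = 1 := by
  rw [← map_mul, mul_inv_cancel, map_one]

theorem FR2h22_aux_rho_inv' (a : G) : ρ a⁻¹ * ρ a = 1 := by
  rw [← map_mul, inv_mul_cancel, map_one]

variable {Q Z}

/-- the standing hypotheses -/
structure FR2h22_aux_Hyp (ρ : Representation F G V) (Q Z : Subgroup G) (ζ : G → F) : Prop where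
  hZQ : Z ≤ Q
  cen : ∀ z ∈ Z, ∀ u ∈ Q, z * u = u * z
  hcomm : ∀ u ∈ Q, ∀ v ∈ Q, u * v * u⁻¹ * v⁻¹ ∈ Z
  hζ : ∀ z ∈ Z, ρ z = ζ z • 1
  ncen : ∀ w ∈ Q, w ∉ Z → ∃ u ∈ Q, u * w ≠ w * u

variable {ρ} {ζ : G → F} (H : FR2h22_aux_Hyp ρ Q Z ζ)

include H

/-- `ρ z` is central in `End V` -/
theorem FR2h22_aux_scalar {z : G} (hz : z ∈ Z) (A : Module.End F V) : ρ z * A = A * ρ z := by
  rw [H.hζ z hz, smul_mul_assoc, one_mul, mul_smul_comm, mul_one]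

theorem FR2h22_aux_X_scalar {u w : G} (hu : u ∈ Q) (hw : w ∈ Q) (A : Module.End F V) :
    FR2h22_aux_X ρ u w * A = A * FR2h22_aux_X ρ u w :=
  FR2h22_aux_scalar H (H.hcomm u hu w hw) A

/-- `ρ u ρ w = X u w ρ w ρ u` -/
theorem FR2h22_aux_swap (u w : G) : ρ u * ρ w = FR2h22_aux_X ρ u w * ρ w * ρ u := by
  unfold FR2h22_aux_X
  rw [← map_mul, ← map_mul, ← map_mul]
  congr 1; group

/-- `ρ u ρ w ρ u⁻¹ = X u w ρ w` -/
theorem FR2h22_aux_conj (u w : G) : ρ u * ρ w * ρ u⁻¹ = FR2h22_aux_X ρ u w * ρ w := by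
  unfold FR2h22_aux_X
  rw [← map_mul, ← map_mul, ← map_mul]
  congr 1; group

/-- multiplicativity in the first variable -/
theorem FR2h22_aux_X_mul_left {u u' w : G} (hu : u ∈ Q) (hu' : u' ∈ Q) (hw : w ∈ Q) :
    FR2h22_aux_X ρ (u * u') w = FR2h22_aux_X ρ u w * FR2h22_aux_X ρ u' w := by
  unfold FR2h22_aux_X
  rw [← map_mul]
  congr 1
  have hc := H.cen _ (H.hcomm u' hu' w hw) u hu
  -- [u u', w] = u [u', w] u⁻¹ [u, w]
  calc u * u' * w * (u * u')⁻¹ * w⁻¹ = (u * (u' * w * u'⁻¹ * w⁻¹)) * u⁻¹ * (u * w * u⁻¹ * w⁻¹) := by group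
    _ = ((u' * w * u'⁻¹ * w⁻¹) * u) * u⁻¹ * (u * w * u⁻¹ * w⁻¹) := by rw [hc]
    _ = (u' * w * u'⁻¹ * w⁻¹) * (u * w * u⁻¹ * w⁻¹) := by group
    _ = (u * w * u⁻¹ * w⁻¹) * (u' * w * u'⁻¹ * w⁻¹) :=
        (H.cen _ (H.hcomm u' hu' w hw) _ (Q.mul_mem (Q.mul_mem (Q.mul_mem hu hw) (Q.inv_mem hu)) (Q.inv_mem hw)))

/-- multiplicativity in the second variable -/
theorem FR2h22_aux_X_mul_right {u w w' : G} (hu : u ∈ Q) (hw : w ∈ Q) (hw' : w' ∈ Q) :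
    FR2h22_aux_X ρ u (w * w') = FR2h22_aux_X ρ u w * FR2h22_aux_X ρ u w' := by
  unfold FR2h22_aux_X
  rw [← map_mul]
  congr 1
  have hc := H.cen _ (H.hcomm u hu w' hw') w hw
  -- [u, w w'] = [u, w] w [u, w'] w⁻¹
  calc u * (w * w') * u⁻¹ * (w * w')⁻¹ = (u * w * u⁻¹ * w⁻¹) * (w * (u * w' * u⁻¹ * w'⁻¹)) * w⁻¹ := by group
    _ = (u * w * u⁻¹ * w⁻¹) * ((u * w' * u⁻¹ * w'⁻¹) * w) * w⁻¹ := by rw [hc]
    _ = (u * w * u⁻¹ * w⁻¹) * (u * w' * u⁻¹ * w'⁻¹) := by group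

theorem FR2h22_aux_X_left_Z {z w : G} (hz : z ∈ Z) (hw : w ∈ Q) : FR2h22_aux_X ρ z w = 1 := by
  unfold FR2h22_aux_X
  have : z * w * z⁻¹ * w⁻¹ = 1 := by
    rw [H.cen z hz w hw]; group
  rw [this, map_one]

theorem FR2h22_aux_X_right_Z {u z : G} (hu : u ∈ Q) (hz : z ∈ Z) : FR2h22_aux_X ρ u z = 1 := by
  unfold FR2h22_aux_X
  have : u * z * u⁻¹ * z⁻¹ = 1 := by
    rw [← H.cen z hz u hu]; group
  rw [this, map_one]

end FR2

/-! ### the transversal -/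

section transversal

variable {G : Type*} [Group G] {Q Z : Subgroup G} {T : Finset G}

/-- the representative in `T` of the coset `u Z` -/
noncomputable def FR2h22_aux_rep (hT : ∀ u ∈ Q, ∃! t, t ∈ T ∧ t⁻¹ * u ∈ Z) (u : G) : G :=
  open Classical in if hu : u ∈ Q then (hT u hu).choose else 1

variable (hT : ∀ u ∈ Q, ∃! t, t ∈ T ∧ t⁻¹ * u ∈ Z)

theorem FR2h22_aux_rep_spec {u : G} (hu : u ∈ Q) :
    FR2h22_aux_rep hT u ∈ T ∧ (FR2h22_aux_rep hT u)⁻¹ * u ∈ Z := by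
  unfold FR2h22_aux_rep
  rw [dif_pos hu]
  exact (hT u hu).choose_spec.1

theorem FR2h22_aux_rep_unique {u t : G} (hu : u ∈ Q) (ht : t ∈ T) (h : t⁻¹ * u ∈ Z) :
    FR2h22_aux_rep hT u = t := by
  obtain ⟨t₀, _, huniq⟩ := hT u hu
  rw [huniq t ⟨ht, h⟩, huniq _ (FR2h22_aux_rep_spec hT hu)]

variable (hZQ : Z ≤ Q) (hTQ : ∀ t ∈ T, t ∈ Q)

include hZQ hTQ in
theorem FR2h22_aux_rep_cancel {u₀ t : G} (hu₀ : u₀ ∈ Q) (ht : t ∈ T) :
    FR2h22_aux_rep hT (u₀⁻¹ * FR2h22_aux_rep hT (u₀ * t)) = t := by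
  have hut : u₀ * t ∈ Q := Q.mul_mem hu₀ (hTQ t ht)
  obtain ⟨h1, h2⟩ := FR2h22_aux_rep_spec hT hut
  have hrQ : FR2h22_aux_rep hT (u₀ * t) ∈ Q := hTQ _ h1
  apply FR2h22_aux_rep_unique hT (Q.mul_mem (Q.inv_mem hu₀) hrQ) ht
  have e : t⁻¹ * (u₀⁻¹ * FR2h22_aux_rep hT (u₀ * t)) = ((FR2h22_aux_rep hT (u₀ * t))⁻¹ * (u₀ * t))⁻¹ := by group
  rw [e]; exact Z.inv_mem h2

include hT hZQ hTQ in
/-- translation invariance of sums over the transversal -/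
theorem FR2h22_aux_sum_translate {M : Type*} [AddCommMonoid M] (f : G → M)
    (hf : ∀ u ∈ Q, ∀ z ∈ Z, f (u * z) = f u) {u₀ : G} (hu₀ : u₀ ∈ Q) :
    ∑ t ∈ T, f (u₀ * t) = ∑ t ∈ T, f t := by
  apply Finset.sum_nbij' (fun t => FR2h22_aux_rep hT (u₀ * t)) (fun t => FR2h22_aux_rep hT (u₀⁻¹ * t))
  · intro t ht
    exact (FR2h22_aux_rep_spec hT (Q.mul_mem hu₀ (hTQ t ht))).1
  · intro t ht
    exact (FR2h22_aux_rep_spec hT (Q.mul_mem (Q.inv_mem hu₀) (hTQ t ht))).1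
  · intro t ht
    exact FR2h22_aux_rep_cancel hT hZQ hTQ hu₀ ht
  · intro t ht
    have := FR2h22_aux_rep_cancel hT hZQ hTQ (Q.inv_mem hu₀) ht
    rwa [inv_inv] at this
  · intro t ht
    have hut : u₀ * t ∈ Q := Q.mul_mem hu₀ (hTQ t ht)
    obtain ⟨h1, h2⟩ := FR2h22_aux_rep_spec hT hut
    have := hf _ (hTQ _ h1) _ h2
    rw [mul_inv_cancel_left] at this
    exact this

end transversal

/-! ### the character sum and the two halves of the decomposition -/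

section main

variable {G : Type*} [Group G] {F V : Type*} [Field F] [AddCommGroup V] [Module F V]
  {ρ : Representation F G V} {Q Z : Subgroup G} {ζ : G → F}
  (H : FR2h22_aux_Hyp ρ Q Z ζ) (hfaith : Function.Injective ρ) {T : Finset G}
  (hTQ : ∀ t ∈ T, t ∈ Q) (hT : ∀ u ∈ Q, ∃! t, t ∈ T ∧ t⁻¹ * u ∈ Z)

include H hfaith hTQ hT in
/-- (FR1) the sum of a nontrivial character vanishes -/
theorem FR2h22_aux_FR1 {w : G} (hw : w ∈ Q) (hwZ : w ∉ Z) : ∑ t ∈ T, FR2h22_aux_X ρ t w = 0 := by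
  obtain ⟨u₀, hu₀, hne⟩ := H.ncen w hw hwZ
  have hcZ : u₀ * w * u₀⁻¹ * w⁻¹ ∈ Z := H.hcomm u₀ hu₀ w hw
  have hc1 : u₀ * w * u₀⁻¹ * w⁻¹ ≠ 1 := by
    intro h
    apply hne
    calc u₀ * w = (u₀ * w * u₀⁻¹ * w⁻¹) * (w * u₀) := by group
      _ = w * u₀ := by rw [h, one_mul]
  have hζ1 : ζ (u₀ * w * u₀⁻¹ * w⁻¹) ≠ 1 := by
    intro h
    apply hc1
    apply hfaith
    rw [H.hζ _ hcZ, h, one_smul, map_one]
  have hX : FR2h22_aux_X ρ u₀ w = ζ (u₀ * w * u₀⁻¹ * w⁻¹) • 1 := H.hζ _ hcZ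
  have hsum : FR2h22_aux_X ρ u₀ w * ∑ t ∈ T, FR2h22_aux_X ρ t w = ∑ t ∈ T, FR2h22_aux_X ρ t w := by
    rw [Finset.mul_sum]
    have htr := FR2h22_aux_sum_translate hT H.hZQ hTQ (fun u => FR2h22_aux_X ρ u w) (by
      intro u hu z hz
      show FR2h22_aux_X ρ (u * z) w = FR2h22_aux_X ρ u w
      rw [FR2h22_aux_X_mul_left H hu (H.hZQ hz) hw, FR2h22_aux_X_left_Z H hz hw, mul_one]) hu₀
    rw [← htr]
    apply Finset.sum_congr rfl
    intro t ht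
    exact (FR2h22_aux_X_mul_left H hu₀ (hTQ t ht) hw).symm
  rw [hX, smul_mul_assoc, one_mul] at hsum
  have h0 : (ζ (u₀ * w * u₀⁻¹ * w⁻¹) - 1) • ∑ t ∈ T, FR2h22_aux_X ρ t w = 0 := by
    rw [sub_smul, one_smul, hsum, sub_self]
  exact (smul_eq_zero.1 h0).resolve_left (sub_ne_zero.2 hζ1)

include H hTQ hT in
/-- the only element of `T ∩ Z` is the representative of `1` -/
theorem FR2h22_aux_TZ {s : G} (hs : s ∈ T) (hsZ : s ∈ Z) : s = FR2h22_aux_rep hT 1 := by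
  symm
  apply FR2h22_aux_rep_unique hT Q.one_mem hs
  rw [mul_one]; exact Z.inv_mem hsZ

include H hTQ hT in
theorem FR2h22_aux_rep_one : FR2h22_aux_rep hT 1 ∈ T ∧ FR2h22_aux_rep hT 1 ∈ Z := by
  obtain ⟨h1, h2⟩ := FR2h22_aux_rep_spec hT Q.one_mem
  refine ⟨h1, ?_⟩
  rw [mul_one] at h2
  simpa using Z.inv_mem h2

include H hTQ in
/-- `∑_t X t w = |T|` for `w ∈ Z` -/
theorem FR2h22_aux_sumX_Z {w : G} (hw : w ∈ Z) :
    ∑ t ∈ T, FR2h22_aux_X ρ t w = (T.card : F) • (1 : Module.End F V) := by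
  have : ∀ t ∈ T, FR2h22_aux_X ρ t w = 1 := fun t ht => FR2h22_aux_X_right_Z H (hTQ t ht) hw
  rw [Finset.sum_congr rfl this, Finset.sum_const, Nat.cast_smul_eq_nsmul]

/-- `π A = ∑_s ρ s A ρ s⁻¹` -/
def FR2h22_aux_pi (ρ : Representation F G V) (T : Finset G) (A : Module.End F V) : Module.End F V :=
  ∑ s ∈ T, ρ s * A * ρ s⁻¹

include H hTQ hT in
theorem FR2h22_aux_pi_mem (A : Module.End F V) : FR2h22_aux_pi ρ T A ∈ commutant ρ Q := by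
  intro u hu
  have hconj : ρ u * FR2h22_aux_pi ρ T A * ρ u⁻¹ = FR2h22_aux_pi ρ T A := by
    unfold FR2h22_aux_pi
    rw [Finset.mul_sum, Finset.sum_mul]
    have htr := FR2h22_aux_sum_translate hT H.hZQ hTQ (fun a => ρ a * A * ρ a⁻¹) (by
      intro a ha z hz
      show ρ (a * z) * A * ρ (a * z)⁻¹ = ρ a * A * ρ a⁻¹
      rw [mul_inv_rev, map_mul, map_mul]
      have h1 : ρ z * A = A * ρ z := FR2h22_aux_scalar H hz A
      calc ρ a * ρ z * A * (ρ z⁻¹ * ρ a⁻¹) = ρ a * (ρ z * A) * ρ z⁻¹ * ρ a⁻¹ := by simp only [mul_assoc]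
        _ = ρ a * (A * ρ z) * ρ z⁻¹ * ρ a⁻¹ := by rw [h1]
        _ = ρ a * A * (ρ z * ρ z⁻¹) * ρ a⁻¹ := by simp only [mul_assoc]
        _ = ρ a * A * ρ a⁻¹ := by rw [FR2h22_aux_rho_inv, mul_one]) hu
    rw [← htr]
    apply Finset.sum_congr rfl
    intro s hs
    rw [mul_inv_rev, map_mul, map_mul]
    simp only [mul_assoc]
  calc FR2h22_aux_pi ρ T A * ρ u = (ρ u * FR2h22_aux_pi ρ T A * ρ u⁻¹) * ρ u := by rw [hconj]
    _ = ρ u * FR2h22_aux_pi ρ T A * (ρ u⁻¹ * ρ u) := by simp only [mul_assoc]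
    _ = ρ u * FR2h22_aux_pi ρ T A := by rw [FR2h22_aux_rho_inv', mul_one]

include H hfaith hTQ hT in
/-- the averaging formula -/
theorem FR2h22_aux_average (A : Module.End F V) :
    ∑ t ∈ T, ρ t * FR2h22_aux_pi ρ T (ρ t⁻¹ * A) = (T.card : F) • A := by
  unfold FR2h22_aux_pi
  have h1 : ∀ t ∈ T, ρ t * ∑ s ∈ T, ρ s * (ρ t⁻¹ * A) * ρ s⁻¹ =
      ∑ s ∈ T, FR2h22_aux_X ρ t s * (ρ s * A * ρ s⁻¹) := by
    intro t ht
    rw [Finset.mul_sum]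
    apply Finset.sum_congr rfl
    intro s hs
    calc ρ t * (ρ s * (ρ t⁻¹ * A) * ρ s⁻¹) = (ρ t * ρ s * ρ t⁻¹) * A * ρ s⁻¹ := by simp only [mul_assoc]
      _ = (FR2h22_aux_X ρ t s * ρ s) * A * ρ s⁻¹ := by rw [FR2h22_aux_conj H t s]
      _ = FR2h22_aux_X ρ t s * (ρ s * A * ρ s⁻¹) := by simp only [mul_assoc]
  rw [Finset.sum_congr rfl h1, Finset.sum_comm]
  obtain ⟨hs₀T, hs₀Z⟩ := FR2h22_aux_rep_one H hTQ hT
  rw [Finset.sum_eq_single (FR2h22_aux_rep hT 1)]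
  · rw [← Finset.sum_mul, FR2h22_aux_sumX_Z H hTQ hs₀Z, smul_mul_assoc, one_mul]
    congr 1
    have h3 : ρ (FR2h22_aux_rep hT 1) * A = A * ρ (FR2h22_aux_rep hT 1) := FR2h22_aux_scalar H hs₀Z A
    rw [h3, mul_assoc, FR2h22_aux_rho_inv, mul_one]
  · intro s hs hne
    have : s ∉ Z := fun hsZ => hne (FR2h22_aux_TZ H hTQ hT hs hsZ)
    rw [← Finset.sum_mul, FR2h22_aux_FR1 H hfaith hTQ hT (hTQ s hs) this, zero_mul]
  · intro h; exact absurd hs₀T h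

/-! ### spanning -/

include H hfaith hTQ hT in
theorem FR2h22_aux_span (hcard : (T.card : F) ≠ 0) :
    (⨆ t : T, (commutant ρ Q).map (LinearMap.mulLeft F (ρ (t : G)))) = ⊤ := by
  rw [eq_top_iff]
  intro A _
  have hA : A = (T.card : F)⁻¹ • ∑ t ∈ T, ρ t * FR2h22_aux_pi ρ T (ρ t⁻¹ * A) := by
    rw [FR2h22_aux_average H hfaith hTQ hT A, smul_smul, inv_mul_cancel₀ hcard, one_smul]
  rw [hA]
  apply Submodule.smul_mem
  apply Submodule.sum_mem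
  intro t ht
  have hmem : ρ t * FR2h22_aux_pi ρ T (ρ t⁻¹ * A) ∈
      (commutant ρ Q).map (LinearMap.mulLeft F (ρ t)) :=
    Submodule.mem_map.2 ⟨_, FR2h22_aux_pi_mem H hTQ hT _, rfl⟩
  exact le_iSup (fun t : T => (commutant ρ Q).map (LinearMap.mulLeft F (ρ (t : G)))) ⟨t, ht⟩ hmem

/-! ### independence -/

/-- the projection-like operator -/
noncomputable def FR2h22_aux_P (ρ : Representation F G V) (T : Finset G) (t₁ : G) :
    Module.End F V →ₗ[F] Module.End F V :=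
  ∑ v ∈ T, (LinearMap.mulLeft F (FR2h22_aux_X ρ t₁ v)).comp
    ((LinearMap.mulLeft F (ρ v)).comp (LinearMap.mulRight F (ρ v⁻¹)))

theorem FR2h22_aux_P_apply (t₁ : G) (A : Module.End F V) :
    FR2h22_aux_P ρ T t₁ A = ∑ v ∈ T, FR2h22_aux_X ρ t₁ v * (ρ v * (A * ρ v⁻¹)) := by
  unfold FR2h22_aux_P
  rw [LinearMap.sum_apply]
  rfl

include H in
theorem FR2h22_aux_X_inv_swap {u v : G} (hu : u ∈ Q) (hv : v ∈ Q) :
    FR2h22_aux_X ρ u v = FR2h22_aux_X ρ v u⁻¹ := by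
  unfold FR2h22_aux_X
  congr 1
  have hc := H.cen _ (H.hcomm u hu v hv) u hu
  calc u * v * u⁻¹ * v⁻¹ = u⁻¹ * (u * (u * v * u⁻¹ * v⁻¹)) := by group
    _ = u⁻¹ * ((u * v * u⁻¹ * v⁻¹) * u) := by rw [hc]
    _ = v * u⁻¹ * v⁻¹ * u⁻¹⁻¹ := by group

include H hTQ in
theorem FR2h22_aux_P_on {t₁ t : G} (ht₁ : t₁ ∈ T) (ht : t ∈ T) {c : Module.End F V}
    (hc : c ∈ commutant ρ Q) :
    FR2h22_aux_P ρ T t₁ (ρ t * c) = (∑ v ∈ T, FR2h22_aux_X ρ v (t₁⁻¹ * t)) * (ρ t * c) := by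
  rw [FR2h22_aux_P_apply, Finset.sum_mul]
  apply Finset.sum_congr rfl
  intro v hv
  have hvQ := hTQ v hv
  have hcv : c * ρ v⁻¹ = ρ v⁻¹ * c := hc v⁻¹ (Q.inv_mem hvQ)
  rw [FR2h22_aux_X_mul_right H hvQ (Q.inv_mem (hTQ _ ht₁)) (hTQ _ ht),
    ← FR2h22_aux_X_inv_swap H (hTQ _ ht₁) hvQ]
  calc FR2h22_aux_X ρ t₁ v * (ρ v * (ρ t * c * ρ v⁻¹))
      = FR2h22_aux_X ρ t₁ v * (ρ v * (ρ t * (c * ρ v⁻¹))) := by simp only [mul_assoc]
    _ = FR2h22_aux_X ρ t₁ v * (ρ v * (ρ t * (ρ v⁻¹ * c))) := by rw [hcv]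
    _ = FR2h22_aux_X ρ t₁ v * ((ρ v * ρ t * ρ v⁻¹) * c) := by simp only [mul_assoc]
    _ = FR2h22_aux_X ρ t₁ v * ((FR2h22_aux_X ρ v t * ρ t) * c) := by rw [FR2h22_aux_conj H v t]
    _ = FR2h22_aux_X ρ t₁ v * FR2h22_aux_X ρ v t * (ρ t * c) := by simp only [mul_assoc]

include H hfaith hTQ hT in
theorem FR2h22_aux_indep (hcard : (T.card : F) ≠ 0) :
    iSupIndep (fun t : T => (commutant ρ Q).map (LinearMap.mulLeft F (ρ (t : G)))) := by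
  intro t₁
  rw [Submodule.disjoint_def]
  intro x hx1 hx2
  have hker : (⨆ (j : T) (_ : j ≠ t₁), (commutant ρ Q).map (LinearMap.mulLeft F (ρ (j : G)))) ≤
      LinearMap.ker (FR2h22_aux_P ρ T (t₁ : G)) := by
    apply iSup₂_le
    intro j hj y hy
    obtain ⟨c, hc, rfl⟩ := Submodule.mem_map.1 hy
    rw [LinearMap.mem_ker, LinearMap.mulLeft_apply, FR2h22_aux_P_on H hTQ t₁.2 j.2 hc]
    have hnZ : (t₁ : G)⁻¹ * (j : G) ∉ Z := by
      intro hZ'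
      apply hj
      obtain ⟨t₀, _, huniq⟩ := hT j (hTQ _ j.2)
      have e1 : (j : G) = t₀ := huniq _ ⟨j.2, by rw [inv_mul_cancel]; exact Z.one_mem⟩
      have e2 : (t₁ : G) = t₀ := huniq _ ⟨t₁.2, hZ'⟩
      exact Subtype.ext (e1.trans e2.symm)
    rw [FR2h22_aux_FR1 H hfaith hTQ hT (Q.mul_mem (Q.inv_mem (hTQ _ t₁.2)) (hTQ _ j.2)) hnZ, zero_mul]
  have h0 := hker hx2
  obtain ⟨c, hc, rfl⟩ := Submodule.mem_map.1 hx1
  rw [LinearMap.mem_ker, LinearMap.mulLeft_apply, FR2h22_aux_P_on H hTQ t₁.2 t₁.2 hc, inv_mul_cancel,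
    FR2h22_aux_sumX_Z H hTQ Z.one_mem, smul_mul_assoc, one_mul] at h0
  rw [LinearMap.mulLeft_apply]
  exact (smul_eq_zero.1 h0).resolve_left hcard

end main

/-! ### the cardinality of the transversal -/

section card

variable {G : Type*} [Group G] {Q Z : Subgroup G} {T : Finset G}

theorem FR2h22_aux_card (hZQ : Z ≤ Q) (hTQ : ∀ t ∈ T, t ∈ Q)
    (hT : ∀ u ∈ Q, ∃! t, t ∈ T ∧ t⁻¹ * u ∈ Z) : Nat.card Q = T.card * Nat.card Z := by
  let e : (↥T × ↥Z) → ↥Q := fun p => ⟨(p.1 : G) * (p.2 : G), Q.mul_mem (hTQ _ p.1.2) (hZQ p.2.2)⟩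
  have he : Function.Bijective e := by
    constructor
    · rintro ⟨⟨t, ht⟩, ⟨z, hz⟩⟩ ⟨⟨t', ht'⟩, ⟨z', hz'⟩⟩ h
      have h' : t * z = t' * z' := congrArg Subtype.val h
      obtain ⟨t₀, _, huniq⟩ := hT (t * z) (Q.mul_mem (hTQ _ ht) (hZQ hz))
      have e1 : t = t₀ := huniq _ ⟨ht, by rw [inv_mul_cancel_left]; exact hz⟩
      have e2 : t' = t₀ := huniq _ ⟨ht', by rw [h', inv_mul_cancel_left]; exact hz'⟩
      have ett : t = t' := e1.trans e2.symm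
      subst ett
      have ezz : z = z' := mul_left_cancel h'
      subst ezz
      rfl
    · rintro ⟨u, hu⟩
      obtain ⟨h1, h2⟩ := FR2h22_aux_rep_spec hT hu
      refine ⟨⟨⟨FR2h22_aux_rep hT u, h1⟩, ⟨(FR2h22_aux_rep hT u)⁻¹ * u, h2⟩⟩, ?_⟩
      apply Subtype.ext
      show FR2h22_aux_rep hT u * ((FR2h22_aux_rep hT u)⁻¹ * u) = u
      rw [mul_inv_cancel_left]
  rw [← Nat.card_congr (Equiv.ofBijective e he), Nat.card_prod, Nat.card_eq_finsetCard]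

end card

/-! ### the statement -/

/-- FR2 (decomposition of `End V` along a transversal `T` of `Z` in `Q`). -/
theorem FR2h22_decomp {G : Type*} [Group G] [Finite G] {F V : Type*} [Field F] [AddCommGroup V]
    [Module F V] [FiniteDimensional F V] (ρ : Representation F G V)
    (hfaith : Function.Injective ρ) (Q Z : Subgroup G)
    (hZ : Z = Q ⊓ Subgroup.centralizer (Q : Set G)) (hcomm : ∀ u ∈ Q, ∀ v ∈ Q, u * v * u⁻¹ * v⁻¹ ∈ Z)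
    (ζ : G → F) (hζ : ∀ z ∈ Z, ρ z = ζ z • 1) (D : ℕ) (hD : Nat.card Q = D * Nat.card Z)
    (hDF : (D : F) ≠ 0) (T : Finset G) (hTQ : ∀ t ∈ T, t ∈ Q)
    (hT : ∀ u ∈ Q, ∃! t, t ∈ T ∧ t⁻¹ * u ∈ Z) :
    iSupIndep (fun t : T => (commutant ρ Q).map (LinearMap.mulLeft F (ρ (t : G)))) ∧
      (⨆ t : T, (commutant ρ Q).map (LinearMap.mulLeft F (ρ (t : G)))) = ⊤ ∧
      T.card = D := by
  have hZQ : Z ≤ Q := by rw [hZ]; exact inf_le_left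
  have H : FR2h22_aux_Hyp ρ Q Z ζ :=
    { hZQ := hZQ
      cen := by
        intro z hz u hu
        rw [hZ] at hz
        exact (Subgroup.mem_centralizer_iff.1 hz.2 u hu).symm
      hcomm := hcomm
      hζ := hζ
      ncen := by
        intro w hw hwZ
        by_contra hcon
        push Not at hcon
        apply hwZ
        rw [hZ]
        exact Subgroup.mem_inf.2 ⟨hw, Subgroup.mem_centralizer_iff.2 (fun u hu => hcon u hu)⟩ }
  have hcard : T.card = D := by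
    have h1 := FR2h22_aux_card hZQ hTQ hT
    rw [hD] at h1
    exact (Nat.eq_of_mul_eq_mul_right Nat.card_pos h1).symm
  have hcF : (T.card : F) ≠ 0 := by rw [hcard]; exact hDF
  exact ⟨FR2h22_aux_indep H hfaith hTQ hT hcF, FR2h22_aux_span H hfaith hTQ hT hcF, hcard⟩

end Cfsg.Agent.S3818P
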