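import Mathlib

/-! Board `s3913pieces`, row QG1: a quaternion group of order `8` has two different subgroups of order `4`, they generate it. -/

set_option autoImplicit false

namespace Cfsg.Agent.S3913P

open QuaternionGroup

/-- QG1 (S/M): a quaternion group of order `8` has two different subgroups of order `4`, they generate it. -/
theorem QG1 {P : Type*} [Group P] (e : P ≃* QuaternionGroup 2) :
    ∃ T₁ T₂ : Subgroup P, Nat.card ↥T₁ = 4 ∧ Nat.card ↥T₂ = 4 ∧ T₁ ≠ T₂ ∧ T₁ ⊔ T₂ = ⊤ := by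
  haveI : Finite P := Finite.of_equiv _ e.symm.toEquiv
  set g₁ : P := e.symm (a 1) with hg₁
  set g₂ : P := e.symm (xa 0) with hg₂
  have ho₁ : orderOf g₁ = 4 := by
    rw [hg₁, MulEquiv.orderOf_eq, orderOf_a_one]
  have ho₂ : orderOf g₂ = 4 := by
    rw [hg₂, MulEquiv.orderOf_eq, orderOf_xa]
  have heg₁ : e g₁ = a 1 := by rw [hg₁]; simp
  have heg₂ : e g₂ = xa 0 := by rw [hg₂]; simp
  refine ⟨Subgroup.zpowers g₁, Subgroup.zpowers g₂, ?_, ?_, ?_, ?_⟩
  · rw [Nat.card_zpowers, ho₁]
  · rw [Nat.card_zpowers, ho₂]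
  · intro h
    have h1 : g₂ ∈ Subgroup.zpowers g₁ := by rw [h]; exact Subgroup.mem_zpowers g₂
    have h2 : g₂ ∈ Submonoid.powers g₁ := by
      rw [mem_powers_iff_mem_zpowers]; exact h1
    obtain ⟨k, hk⟩ := h2
    have hk' : g₁ ^ k = g₂ := hk
    have h3 : e (g₁ ^ k) = e g₂ := by rw [hk']
    rw [map_pow, heg₁, heg₂, a_one_pow] at h3
    exact absurd h3 (by simp)
  · rw [eq_top_iff]
    intro x _
    have key : ∀ z : QuaternionGroup 2, e.symm z ∈ Subgroup.zpowers g₁ ⊔ Subgroup.zpowers g₂ := by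
      intro z
      cases z with
      | a i =>
        have h1 : (a i : QuaternionGroup 2) = (a 1) ^ (i.val) := by
          rw [a_one_pow]; simp
        rw [h1, map_pow]
        exact Subgroup.mem_sup_left (Subgroup.pow_mem _ (Subgroup.mem_zpowers g₁) _)
      | xa i =>
        have h1 : (xa i : QuaternionGroup 2) = xa 0 * (a 1) ^ (i.val) := by
          rw [a_one_pow, xa_mul_a]; simp
        rw [h1, map_mul, map_pow]
        exact Subgroup.mul_mem _ (Subgroup.mem_sup_right (Subgroup.mem_zpowers g₂))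
          (Subgroup.mem_sup_left (Subgroup.pow_mem _ (Subgroup.mem_zpowers g₁) _))
    have := key (e x)
    simpa using this

end Cfsg.Agent.S3913P
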