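import Mathlib
import Cfsg.Agent.Helper27.S4150Defs
import Cfsg.Agent.Helper4.MinDegree
import Cfsg.Agent.Helper17.S4150CARD

/-! S4150 piece K60D (helper22). -/

set_option autoImplicit false

namespace Cfsg.Agent.S4150P

open Equiv Equiv.Perm MulAction

section
variable {α : Type*} [Fintype α] [DecidableEq α]

namespace K60D

/-- an even involution has support of size `2 * j` with `j` even, `j ≥ 1` -/
theorem even_invol_support {z : Perm α} (hz : orderOf z = 2) (hs : Equiv.Perm.sign z = 1) :
    ∃ j : ℕ, Even j ∧ 1 ≤ j ∧ z.support.card = 2 * j := by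
  obtain ⟨n, hn⟩ := Equiv.Perm.cycleType_prime_order (σ := z) (by rw [hz]; norm_num)
  rw [hz] at hn
  refine ⟨n + 1, ?_, by omega, ?_⟩
  · have h1 := Equiv.Perm.sign_of_cycleType z
    rw [hn, Multiset.sum_replicate, Multiset.card_replicate, hs, smul_eq_mul] at h1
    have h2 := (neg_one_pow_eq_one_iff_even (R := ℤˣ) (by decide)).mp h1.symm
    have h3 : (n + 1) * 2 + (n + 1) = 3 * (n + 1) := by ring
    rw [h3] at h2
    rcases Nat.even_mul.mp h2 with h | h
    · exact absurd h (by decide)
    · exact h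
  · rw [← Equiv.Perm.sum_cycleType, hn, Multiset.sum_replicate, smul_eq_mul]
    ring

end K60D

/-- K60D [M]: a 4-transitive proper `H ≤ A₁₃` of order `102960 = 13·12·11·10·6` has an involution
`z` with exactly 5 fixed points in a 4-point stabiliser of order 6 (CARD; Cauchy; `z` even so
`|supp z| ∈ {4, 8}`; 4 is excluded by `Helper4.MinDegree.exists_small_support` (k = 4) +
`alternatingGroup_le_of_small_support`). -/
theorem K60D.main (hα : Fintype.card α = 13) (H : Subgroup (Perm α))
    (hHA : H ≤ alternatingGroup α) (hA : ¬ alternatingGroup α ≤ H)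
    (h4 : IsMultiplyPretransitive H α 4) (hcard : Nat.card H = 102960) :
    ∃ (S4 : Finset α) (z : Perm α), S4.card = 4 ∧ Nat.card (ptStab H S4) = 6 ∧
      z ∈ ptStab H S4 ∧ orderOf z = 2 ∧ z.support.card = 8 := by
  classical
  obtain ⟨S4, -, hS4⟩ := Finset.exists_subset_card_eq (s := (Finset.univ : Finset α)) (n := 4)
    (by rw [Finset.card_univ, hα]; norm_num)
  have hc := CARD.main H h4 S4 hS4
  rw [hcard, hα] at hc
  have h6 : Nat.card (ptStab H S4) = 6 := by
    have hd : Nat.descFactorial 13 4 = 17160 := by decide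
    rw [hd] at hc
    omega
  haveI : Fact (Nat.Prime 2) := ⟨Nat.prime_two⟩
  obtain ⟨z, hzo⟩ := exists_prime_orderOf_dvd_card' (G := ptStab H S4) 2 (by rw [h6]; norm_num)
  have hzo' : orderOf (z : Perm α) = 2 := by
    rw [Subgroup.orderOf_coe]
    exact hzo
  have hzmem : (z : Perm α) ∈ ptStab H S4 := z.2
  have hzH : (z : Perm α) ∈ H := hzmem.1
  have hzfix : ∀ a ∈ S4, (z : Perm α) a = a := hzmem.2
  have hsign : Equiv.Perm.sign (z : Perm α) = 1 := Equiv.Perm.mem_alternatingGroup.mp (hHA hzH)
  obtain ⟨j, hjev, hj1, hjs⟩ := K60D.even_invol_support hzo' hsign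
  have hsub : (z : Perm α).support ⊆ S4ᶜ := by
    intro a ha
    rw [Finset.mem_compl]
    intro haS
    exact (Equiv.Perm.mem_support.mp ha) (hzfix a haS)
  have hle : (z : Perm α).support.card ≤ 9 := by
    have := Finset.card_le_card hsub
    rw [Finset.card_compl, hα, hS4] at this
    exact this
  have hj : j = 2 ∨ j = 4 := by
    obtain ⟨i, hi⟩ := hjev
    omega
  refine ⟨S4, (z : Perm α), hS4, h6, hzmem, hzo', ?_⟩
  rcases hj with hj | hj
  · exfalso
    have hs4 : (z : Perm α).support.card = 4 := by rw [hjs, hj]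
    have hz1 : (z : Perm α) ≠ 1 := by
      intro h
      rw [h, orderOf_one] at hzo'
      omega
    obtain ⟨u, huH, hu1, hu3⟩ := Cfsg.Agent.Helper4.MinDegree.exists_small_support H (k := 4)
      (by norm_num) (by rw [hα]; norm_num) h4 4 (z : Perm α) hzH hz1 hs4 (by norm_num)
    have h2 : IsMultiplyPretransitive H α 2 :=
      isMultiplyPretransitive_of_le (n := 4) (by norm_num)
        (by rw [Nat.card_eq_fintype_card, hα]; norm_num)
    exact hA (Cfsg.Agent.Helper4.MinDegree.alternatingGroup_le_of_small_support H h2 u huH hu1 hu3)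
  · rw [hjs, hj]

end

end Cfsg.Agent.S4150P
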