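import Mathlib
import Cfsg.Agent.Helper27.S4150Defs
import Cfsg.Agent.Helper4.JordanCycle
import Cfsg.Agent.Helper11.S4150WITTDVD
import Cfsg.Agent.Helper26.S4150COMM2P

/-! S4150 piece K60E (helper22). -/

set_option autoImplicit false

namespace Cfsg.Agent.S4150P

open Equiv Equiv.Perm MulAction

section
variable {α : Type*} [Fintype α] [DecidableEq α]

namespace K60E

/-- an element of order 5 whose support has at most 5 points is a 5-cycle -/
theorem isCycle_of_order_five {g : Perm α} (hg : orderOf g = 5) (hs : g.support.card ≤ 5) :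
    g.IsCycle ∧ g.support.card = 5 := by
  obtain ⟨n, hn⟩ := Equiv.Perm.cycleType_prime_order (σ := g) (by rw [hg]; norm_num)
  rw [hg] at hn
  have hsum : g.support.card = (n + 1) * 5 := by
    rw [← Equiv.Perm.sum_cycleType, hn, Multiset.sum_replicate, smul_eq_mul]
  have hn0 : n = 0 := by omega
  subst hn0
  refine ⟨?_, by omega⟩
  rw [← Equiv.Perm.card_cycleType_eq_one, hn]
  simp

end K60E

/-- K60E [M]: contradiction from `z`: WITTDVD (k = 4, p = 2) ⇒ `5 ∣ |N_H(⟨z⟩)|`; Cauchy ⇒ `g` of
order 5 normalising `⟨z⟩ = {1, z}`, hence commuting with `z`; COMM2P ⇒ disjoint supports ⇒ `g` is a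
5-cycle ⇒ `Cfsg.Agent.S0713.result` ⇒ `A₁₃ ≤ H`. -/
theorem K60E.main (hα : Fintype.card α = 13) (H : Subgroup (Perm α))
    (hA : ¬ alternatingGroup α ≤ H) (h4 : IsMultiplyPretransitive H α 4) (S4 : Finset α)
    (hS4 : S4.card = 4) (h6 : Nat.card (ptStab H S4) = 6) (z : Perm α) (hz : z ∈ ptStab H S4)
    (hzo : orderOf z = 2) (hzs : z.support.card = 8) : False := by
  classical
  have hsyl : ¬ 2 ^ 2 ∣ Nat.card (ptStab H S4) := by
    rw [h6]
    norm_num
  have hdvd := WITTDVD.main H (k := 4) (by norm_num) h4 S4 hS4 Nat.prime_two hz hzo hsyl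
  have hcompl : (z.supportᶜ).card = 5 := by
    rw [Finset.card_compl, hα, hzs]
  rw [hcompl] at hdvd
  -- Cauchy
  haveI : Fact (Nat.Prime 5) := ⟨by norm_num⟩
  obtain ⟨g, hgo⟩ := exists_prime_orderOf_dvd_card' (G := normIn H z) 5 hdvd
  have hgo' : orderOf (g : Perm α) = 5 := by
    rw [Subgroup.orderOf_coe]
    exact hgo
  have hgH : (g : Perm α) ∈ H := normIn_le H z g.2
  have hgN : (g : Perm α) ∈ Subgroup.normalizer ((Subgroup.zpowers z : Subgroup (Perm α)) : Set (Perm α)) :=
    (Subgroup.mem_inf.mp g.2).2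
  -- `g` commutes with `z`
  have hz2 : z ^ 2 = 1 := by
    rw [← hzo]
    exact pow_orderOf_eq_one z
  have hz1 : z ≠ 1 := by
    intro h
    rw [h, orderOf_one] at hzo
    omega
  have hconj : (g : Perm α) * z * (g : Perm α)⁻¹ ∈ Subgroup.zpowers z := by
    have := (Subgroup.mem_normalizer_iff.mp hgN z).mp (Subgroup.mem_zpowers z)
    exact this
  have hcomm : z * (g : Perm α) = (g : Perm α) * z := by
    obtain ⟨j, hj⟩ := Subgroup.mem_zpowers_iff.mp hconj
    -- z ^ j is 1 or z
    have hcases : z ^ j = 1 ∨ z ^ j = z := by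
      rcases Int.emod_two_eq_zero_or_one j with h0 | h1
      · left
        have : j = 2 * (j / 2) := by omega
        rw [this, zpow_mul, zpow_ofNat, hz2, one_zpow]
      · right
        have : j = 2 * (j / 2) + 1 := by omega
        rw [this, zpow_add, zpow_mul, zpow_ofNat, hz2, one_zpow, one_mul, zpow_one]
    rcases hcases with h1 | h1
    · exfalso
      rw [h1] at hj
      apply hz1
      have : (g : Perm α) * z * (g : Perm α)⁻¹ = 1 := hj.symm
      have h2 : (g : Perm α) * z = (g : Perm α) := by
        have := congrArg (fun w => w * (g : Perm α)) this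
        simpa [mul_assoc] using this
      exact mul_left_cancel (a := (g : Perm α)) (by rw [h2, mul_one])
    · rw [h1] at hj
      have : (g : Perm α) * z * (g : Perm α)⁻¹ = z := hj.symm
      have h2 := congrArg (fun w => w * (g : Perm α)) this
      simp only [inv_mul_cancel_right] at h2
      exact h2.symm
  have hdisj := COMM2P.main (p := 5) (by norm_num) (by norm_num) z (g : Perm α) hz2 hgo' hcomm
    (by rw [hzs]; norm_num)
  have hsub : (g : Perm α).support ⊆ z.supportᶜ := by
    intro a ha
    rw [Finset.mem_compl]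
    intro hza
    exact (Finset.disjoint_left.mp hdisj) hza ha
  have hle : (g : Perm α).support.card ≤ 5 := by
    rw [← hcompl]
    exact Finset.card_le_card hsub
  obtain ⟨hgc, hgs⟩ := K60E.isCycle_of_order_five hgo' hle
  have hprim : IsPreprimitive H α := by
    apply isPreprimitive_of_is_two_pretransitive
    exact isMultiplyPretransitive_of_le (n := 4) (by norm_num)
      (by rw [Nat.card_eq_fintype_card, hα]; norm_num)
  apply hA
  obtain ⟨t, htG, ht⟩ := Cfsg.Agent.Helper4.JordanCycle.exists_threeCycle_mem H hprim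
    (p := 5) (by norm_num) (by rw [hα]; norm_num) hgc hgs hgH
  exact Equiv.Perm.alternatingGroup_le_of_isPreprimitive_of_isThreeCycle_mem hprim ht htG

end

end Cfsg.Agent.S4150P
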