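import Mathlib
import Cfsg.Agent.Helper27.S4150Defs

/-! S4150 piece TRANS3 (helper22). -/

set_option autoImplicit false

namespace Cfsg.Agent.S4150P

open Equiv Equiv.Perm MulAction

section
variable {α : Type*} [Fintype α] [DecidableEq α]

/-- TRANS3 [S]: a primitive group containing a cycle of prime length with exactly two fixed
points is 3-transitive (`IsPreprimitive.isMultiplyPreprimitive`, copy of
`Helper4.JordanCycle.isMultiplyPretransitive_of_prime_cycle`). -/
theorem TRANS3.main (H : Subgroup (Perm α)) (hH : IsPreprimitive H α) {p : ℕ} (hp : p.Prime)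
    (hpn : p + 2 = Fintype.card α) {g : Perm α} (hgc : g.IsCycle) (hgp : g.support.card = p)
    (hg : g ∈ H) : IsMultiplyPretransitive H α 3 := by
  classical
  have h1 : IsMultiplyPreprimitive H α (1 + 2) := by
    apply hH.isMultiplyPreprimitive (s := (g.supportᶜ : Set α))
    · apply Nat.add_left_cancel (n := p)
      rw [← hgp, ← Set.ncard_coe_finset g.support]
      rw [Set.ncard_add_ncard_compl, Nat.card_eq_fintype_card, ← hpn, Set.ncard_coe_finset, hgp]
    · rw [Nat.card_eq_fintype_card, ← hpn]
      have := hp.two_le
      omega
    have := isPretransitive_of_isCycle_mem hgc hg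
    apply IsPreprimitive.of_prime_card
    convert! hp
    rw [Nat.card_eq_fintype_card, Fintype.card_subtype, ← hgp]
    apply congr_arg
    ext x
    simp [SubMulAction.mem_ofFixingSubgroup_iff]
  exact IsMultiplyPreprimitive.isMultiplyPretransitive ..

end

end Cfsg.Agent.S4150P
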