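import Mathlib
import Cfsg.Agent.Helper6.S4414Defs

/-!
# S4414 board, row SMALL

Over `ZMod 2`: if `C_E(T)` has dimension `2`, `C_E(T ⊔ Y)` has dimension `1` and `|Y| = q` is an odd prime, then some
`x ∈ Y` does not leave `C_E(T)` invariant.  (Otherwise the `q`-group `Y` acts on the `4` vectors of `C_E(T)` with exactly
`2` fixed points, and `4 ≡ 2 [MOD q]` forces `q = 2`.)
-/

set_option autoImplicit false
set_option linter.unusedSectionVars false
set_option linter.unusedVariables false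

namespace Cfsg.Agent.S4414P

open Module Cfsg.Agent.Helper5.FrobMod

variable {G : Type*} [Group G]

/-- the action of `Y` on `C_E(T)` when every element of `Y` leaves it invariant -/
@[reducible] def SMALL_aux_act {E : Type*} [AddCommGroup E] [Module (ZMod 2) E] (ρ : Representation (ZMod 2) G E)
    (T Y : Subgroup G) (h : ∀ x ∈ Y, ∀ v : E, v ∈ fixOf ρ T → ρ x v ∈ fixOf ρ T) :
    MulAction ↥Y ↥(fixOf ρ T) where
  smul y v := ⟨ρ (y : G) (v : E), h y y.2 v v.2⟩
  one_smul v := by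
    apply Subtype.ext
    show ρ ((1 : ↥Y) : G) (v : E) = v
    rw [Subgroup.coe_one, map_one]; rfl
  mul_smul a b v := by
    apply Subtype.ext
    show ρ ((a * b : ↥Y) : G) (v : E) = ρ (a : G) (ρ (b : G) (v : E))
    rw [Subgroup.coe_mul, map_mul]; rfl

/-- the stabiliser of a vector -/
def SMALL_aux_stab {E : Type*} [AddCommGroup E] [Module (ZMod 2) E] (ρ : Representation (ZMod 2) G E) (v : E) :
    Subgroup G where
  carrier := {g | ρ g v = v}
  one_mem' := by show ρ 1 v = v; rw [map_one]; rfl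
  mul_mem' := fun {a b} ha hb => by
    show ρ (a * b) v = v
    rw [map_mul, Module.End.mul_apply, hb, ha]
  inv_mem' := fun {a} ha => by
    show ρ a⁻¹ v = v
    have h1 : ρ a⁻¹ (ρ a v) = v := rho_inv_apply ρ a v
    rw [ha] at h1; exact h1

theorem SMALL_aux_sup {E : Type*} [AddCommGroup E] [Module (ZMod 2) E] (ρ : Representation (ZMod 2) G E)
    (T Y : Subgroup G) (v : E) (hT : v ∈ fixOf ρ T) (hY : v ∈ fixOf ρ Y) : v ∈ fixOf ρ (T ⊔ Y) := by
  intro g hg
  have hle : T ⊔ Y ≤ SMALL_aux_stab ρ v := sup_le (fun t ht => hT t ht) (fun y hy => hY y hy)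
  exact hle hg

theorem SMALL {E : Type*} [AddCommGroup E] [Module (ZMod 2) E] [Finite E] (ρ : Representation (ZMod 2) G E)
    (T Y : Subgroup G) {q : ℕ} (hq : q.Prime) (hq2 : q ≠ 2) (hY : Nat.card ↥Y = q)
    (hT2 : finrank (ZMod 2) (fixOf ρ T) = 2) (hH1 : finrank (ZMod 2) (fixOf ρ (T ⊔ Y)) = 1) :
    ∃ x ∈ Y, ∃ v : E, (∀ s ∈ T, ρ s v = v) ∧ ¬ ∀ s ∈ T, ρ s (ρ x v) = ρ x v := by
  by_contra hcon
  have h : ∀ x ∈ Y, ∀ v : E, v ∈ fixOf ρ T → ρ x v ∈ fixOf ρ T := by
    intro x hx v hv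
    by_contra hn
    exact hcon ⟨x, hx, v, hv, hn⟩
  haveI : Fact q.Prime := ⟨hq⟩
  letI act : MulAction ↥Y ↥(fixOf ρ T) := SMALL_aux_act ρ T Y h
  have hpg : IsPGroup q ↥Y := IsPGroup.of_card (n := 1) (by rw [hY, pow_one])
  have hmod := hpg.card_modEq_card_fixedPoints ↥(fixOf ρ T)
  have hc4 : Nat.card ↥(fixOf ρ T) = 4 := by
    rw [Module.natCard_eq_pow_finrank (K := ZMod 2), hT2, Nat.card_zmod]; norm_num
  have hc2 : Nat.card ↥(fixOf ρ (T ⊔ Y)) = 2 := by
    rw [Module.natCard_eq_pow_finrank (K := ZMod 2), hH1, Nat.card_zmod]; norm_num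
  -- the fixed points of `Y` on `C_E(T)` are `C_E(T ⊔ Y)`
  have e : ↥(MulAction.fixedPoints ↥Y ↥(fixOf ρ T)) ≃ ↥(fixOf ρ (T ⊔ Y)) :=
    { toFun := fun v => ⟨((v : ↥(fixOf ρ T)) : E), by
        apply SMALL_aux_sup ρ T Y _ (v : ↥(fixOf ρ T)).2
        intro y hy
        have := v.2 ⟨y, hy⟩
        exact congrArg Subtype.val this⟩
      invFun := fun v => ⟨⟨(v : E), fun t ht => v.2 t (Subgroup.mem_sup_left ht)⟩, by
        intro y
        apply Subtype.ext
        exact v.2 (y : G) (Subgroup.mem_sup_right y.2)⟩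
      left_inv := fun v => by
        apply Subtype.ext; apply Subtype.ext; rfl
      right_inv := fun v => by
        apply Subtype.ext; rfl }
  rw [hc4, Nat.card_congr e, hc2] at hmod
  -- `4 ≡ 2 [MOD q]` gives `q ∣ 2`
  have hdvd : q ∣ 2 := by
    have := (Nat.modEq_iff_dvd' (by norm_num : 2 ≤ 4)).1 hmod.symm
    simpa using this
  have := (Nat.prime_dvd_prime_iff_eq hq Nat.prime_two).1 hdvd
  exact hq2 this

end Cfsg.Agent.S4414P
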