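import Mathlib
import Cfsg.Agent.Helper6.S4414Defs

/-!
# S4414 board, row TRANSFER (core, with FIX2 as a hypothesis)

If the stabiliser of `i` in `H` is a `2`-group and `Wf i ≠ 0` then `H` has a nonzero fixed vector: take `w ∈ Wf i`
nonzero fixed by the stabiliser, and let `v` be the sum of the (distinct) vectors `σ h w`, `h ∈ H`.
-/

set_option autoImplicit false
set_option linter.unusedSectionVars false
set_option linter.unusedVariables false

namespace Cfsg.Agent.S4414P

open Module Cfsg.Agent.Helper5.FrobMod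

variable {K : Type*} [Field K] {W : Type*} [AddCommGroup W] [Module K W]
variable {G : Type*} [Group G] (σ : Representation K G W)
variable {I : Type*}

theorem TRANSFER_aux_core_h22 [Finite G] [MulAction G I] {Wf : I → Submodule K W} (hG : Graded σ Wf)
    (H : Subgroup G) {i : I} (hi : Wf i ≠ ⊥)
    (fix2 : ∀ (U : Submodule K W), U ≠ ⊥ → Inv σ (H ⊓ MulAction.stabilizer G i) U →
      ∃ w ∈ U, w ≠ 0 ∧ w ∈ fixOf σ (H ⊓ MulAction.stabilizer G i)) :
    fixOf σ H ≠ ⊥ := by
  classical
  -- `Wf i` is invariant under the stabiliser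
  have hinv : Inv σ (H ⊓ MulAction.stabilizer G i) (Wf i) := by
    intro b hb x hx
    have h1 : σ b x ∈ (Wf i).map (σ b) := Submodule.mem_map_of_mem hx
    have h2 := hG.map b i h1
    have h3 : b • i = i := hb.2
    rwa [h3] at h2
  obtain ⟨w, hwU, hw0, hwfix⟩ := fix2 (Wf i) hi hinv
  haveI : Fintype ↥H := Fintype.ofFinite _
  set X : Finset W := Finset.image (fun h : ↥H => σ (h : G) w) Finset.univ with hX
  have hmemX : ∀ x, x ∈ X ↔ ∃ h : ↥H, σ (h : G) w = x := by
    intro x
    rw [hX, Finset.mem_image]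
    constructor
    · rintro ⟨h, -, hh⟩; exact ⟨h, hh⟩
    · rintro ⟨h, hh⟩; exact ⟨h, Finset.mem_univ _, hh⟩
  -- the sum is `H`-fixed
  have hvfix : (∑ x ∈ X, x) ∈ fixOf σ H := by
    intro g hg
    rw [map_sum]
    have himg : X.image (fun x => σ g x) = X := by
      ext x
      rw [Finset.mem_image, hmemX]
      constructor
      · rintro ⟨y, hy, rfl⟩
        obtain ⟨h, rfl⟩ := (hmemX y).1 hy
        refine ⟨⟨g, hg⟩ * h, ?_⟩
        rw [Subgroup.coe_mul, map_mul]; rfl
      · rintro ⟨h, rfl⟩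
        refine ⟨σ ((⟨g, hg⟩⁻¹ * h : ↥H) : G) w, (hmemX _).2 ⟨_, rfl⟩, ?_⟩
        rw [Subgroup.coe_mul, map_mul, Subgroup.coe_inv]
        exact rho_apply_inv σ g _
    have hinj : Set.InjOn (fun x => σ g x) (X : Set W) := fun a _ b _ hab => rho_injective σ g hab
    calc ∑ x ∈ X, σ g x = ∑ x ∈ X.image (fun x => σ g x), x := (Finset.sum_image (f := fun x => x) hinj).symm
      _ = ∑ x ∈ X, x := by rw [himg]
  -- the sum is nonzero
  have hwX : w ∈ X := (hmemX w).2 ⟨1, by rw [Subgroup.coe_one, map_one]; rfl⟩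
  have hrest : (∑ x ∈ X.erase w, x) ∈ ⨆ (j : I) (_ : j ≠ i), Wf j := by
    apply Submodule.sum_mem
    intro x hx
    rw [Finset.mem_erase] at hx
    obtain ⟨h, rfl⟩ := (hmemX x).1 hx.2
    have hne : (h : G) • i ≠ i := by
      intro heq
      apply hx.1
      exact hwfix (h : G) ⟨h.2, heq⟩
    have h1 : σ (h : G) w ∈ (Wf i).map (σ (h : G)) := Submodule.mem_map_of_mem hwU
    have h2 := hG.map (h : G) i h1
    exact Submodule.mem_iSup_of_mem _ (Submodule.mem_iSup_of_mem hne h2)
  have hv0 : (∑ x ∈ X, x) ≠ 0 := by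
    intro h0
    rw [← Finset.add_sum_erase X (fun x => x) hwX] at h0
    have hweq : w = -(∑ x ∈ X.erase w, x) := eq_neg_of_add_eq_zero_left h0
    have hw2 : w ∈ ⨆ (j : I) (_ : j ≠ i), Wf j := by
      rw [hweq]; exact Submodule.neg_mem _ hrest
    exact hw0 ((Submodule.disjoint_def.1 (hG.ind i)) w hwU hw2)
  intro hbot
  apply hv0
  have := hvfix
  rw [hbot] at this
  exact (Submodule.mem_bot K).1 this

end Cfsg.Agent.S4414P
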