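import Mathlib
import Cfsg.Agent.S0005
import Cfsg.Agent.Helper9.S4415Defs

/-!
# S4415 board, row D1E

A solvable group `D` of order prime to `3` dividing `2⁹·3⁶·5·13`, `T ≤ D` of order `13`, `Q ≤ D` a four-group: some
`x ∈ Q ∖ 1` centralises a `D`-conjugate of `T`.
-/

set_option autoImplicit false
set_option linter.unusedVariables false
set_option linter.unusedSectionVars false

namespace Cfsg.Agent.S4415P

open Subgroup
open scoped Pointwise
open Cfsg.Agent.S4409P (Zc Fr Der IsV4 IsQ8 SpecialInt IsAb)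

/-- the `13`-part of a divisor of `2⁹·5·13` divisible by `13` is `13`. -/
theorem D1E_aux_fact13 (d : ℕ) (h13 : 13 ∣ d) (hd : d ∣ 2 ^ 9 * 5 * 13) : d.factorization 13 = 1 := by
  have hd0 : d ≠ 0 := by
    rintro rfl
    simp at hd
  have hp : Nat.Prime 13 := by norm_num
  apply le_antisymm
  · by_contra hlt
    push_neg at hlt
    have h2 : 13 ^ 2 ∣ d := (hp.pow_dvd_iff_le_factorization hd0).2 hlt
    have h3 : 13 ^ 2 ∣ 2 ^ 9 * 5 * 13 := h2.trans hd
    norm_num at h3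
  · exact (hp.pow_dvd_iff_le_factorization hd0).1 (by simpa using h13)

/-- a cyclic group of exponent `2` has at most two elements -/
theorem D1E_aux_cyc {C : Type*} [Group C] [Finite C] [IsCyclic C] (h : ∀ x : C, x * x = 1) : Nat.card C ≤ 2 := by
  obtain ⟨g, hg⟩ := IsCyclic.exists_generator (α := C)
  have h1 : orderOf g = Nat.card C := orderOf_eq_card_of_forall_mem_zpowers hg
  rw [← h1]
  apply Nat.le_of_dvd (by norm_num)
  apply orderOf_dvd_of_pow_eq_one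
  rw [pow_two]; exact h g

/-- the abstract version in a group `G` -/
theorem D1E_aux_abs {G : Type*} [Group G] [Finite G] [Group.IsSolvable G] (hcop : (Nat.card G).Coprime 3)
    (hdvd : Nat.card G ∣ 2 ^ 9 * 3 ^ 6 * 5 * 13) (T Q : Subgroup G) (hT : Nat.card ↥T = 13)
    (hQ4 : Nat.card ↥Q = 4) (hQ2 : ∀ x ∈ Q, x * x = 1) :
    ∃ g : G, ∃ x ∈ Q, x ≠ 1 ∧ ∀ t ∈ T, x * (g * t * g⁻¹) = (g * t * g⁻¹) * x := by
  haveI : Fact (Nat.Prime 13) := ⟨by norm_num⟩
  -- arithmetic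
  have hd1 : Nat.card G ∣ 2 ^ 9 * 5 * 13 := by
    have h1 : Nat.card G ∣ 3 ^ 6 * (2 ^ 9 * 5 * 13) := by
      have : (2 : ℕ) ^ 9 * 3 ^ 6 * 5 * 13 = 3 ^ 6 * (2 ^ 9 * 5 * 13) := by norm_num
      rwa [this] at hdvd
    exact (Nat.Coprime.pow_right 6 hcop).dvd_of_dvd_mul_left h1
  have h13G : 13 ∣ Nat.card G := hT ▸ Subgroup.card_subgroup_dvd_card T
  -- the Hall `{2,13}`-subgroup containing `Q`
  obtain ⟨m, n, hmn, hcopmn, hm, h4n, h13n⟩ : ∃ m n : ℕ, Nat.card G = m * n ∧ m.Coprime n ∧ m ∣ 2 ^ 9 * 13 ∧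
      (4 : ℕ).Coprime n ∧ (13 : ℕ).Coprime n := by
    by_cases h5 : 5 ∣ Nat.card G
    · obtain ⟨m, hm⟩ := h5
      have hm1 : m ∣ 2 ^ 9 * 13 := by
        have h1 : 5 * m ∣ 5 * (2 ^ 9 * 13) := by
          rw [← hm]
          have : (5 : ℕ) * (2 ^ 9 * 13) = 2 ^ 9 * 5 * 13 := by norm_num
          rw [this]; exact hd1
        exact (Nat.mul_dvd_mul_iff_left (by norm_num)).1 h1
      refine ⟨m, 5, by rw [hm, mul_comm], ?_, hm1, by norm_num, by norm_num⟩
      exact Nat.Coprime.coprime_dvd_left hm1 (by norm_num)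
    · refine ⟨Nat.card G, 1, by rw [mul_one], Nat.coprime_one_right _, ?_, by norm_num, by norm_num⟩
      have hc5 : (Nat.card G).Coprime 5 := ((Nat.Prime.coprime_iff_not_dvd (by norm_num)).2 h5).symm
      have h1 : Nat.card G ∣ 5 * (2 ^ 9 * 13) := by
        have : (5 : ℕ) * (2 ^ 9 * 13) = 2 ^ 9 * 5 * 13 := by norm_num
        rw [this]; exact hd1
      exact hc5.dvd_of_dvd_mul_left h1
  obtain ⟨H₁, hH₁, hQH⟩ := Cfsg.Agent.S0005.result m n hmn hcopmn Q (by rw [hQ4]; exact h4n)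
  have h13m : 13 ∣ m := by
    have : 13 ∣ m * n := hmn ▸ h13G
    exact h13n.dvd_of_dvd_mul_right this
  have hm' : m ∣ 2 ^ 9 * 5 * 13 := hm.trans (by norm_num)
  -- the Sylow `13`-subgroup of `H₁` is normal
  obtain ⟨P⟩ : Nonempty (Sylow 13 ↥H₁) := inferInstance
  have hPcard : Nat.card ↥(P : Subgroup ↥H₁) = 13 := by
    rw [Sylow.card_eq_multiplicity, hH₁, D1E_aux_fact13 m h13m hm', pow_one]
  have hidx : (P : Subgroup ↥H₁).index ∣ 2 ^ 9 := by
    have h1 : Nat.card ↥(P : Subgroup ↥H₁) * (P : Subgroup ↥H₁).index = Nat.card ↥H₁ :=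
      Subgroup.card_mul_index _
    rw [hPcard, hH₁] at h1
    have h2 : 13 * (P : Subgroup ↥H₁).index ∣ 13 * 2 ^ 9 := by
      rw [h1, mul_comm 13]; exact hm
    exact (Nat.mul_dvd_mul_iff_left (by norm_num)).1 h2
  have hn13 : Nat.card (Sylow 13 ↥H₁) = 1 := by
    have h1 : Nat.card (Sylow 13 ↥H₁) ∣ 2 ^ 9 := (Sylow.card_dvd_index P).trans hidx
    have h2 : Nat.card (Sylow 13 ↥H₁) ≡ 1 [MOD 13] := card_sylow_modEq_one 13 ↥H₁
    obtain ⟨j, hj, hjeq⟩ := (Nat.dvd_prime_pow Nat.prime_two).1 h1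
    rw [hjeq] at h2 ⊢
    interval_cases j <;> first | rfl | (exfalso; revert h2; decide)
  haveI : Subsingleton (Sylow 13 ↥H₁) := (Nat.card_eq_one_iff_unique.1 hn13).1
  haveI hPn : (P : Subgroup ↥H₁).Normal := Sylow.normal_of_subsingleton P
  -- `T` is conjugate to the image `T'` of `P`
  have hT'card : Nat.card ↥((P : Subgroup ↥H₁).map H₁.subtype) = 13 := by
    rw [Subgroup.card_map_of_injective H₁.subtype_injective, hPcard]
  have hfG : (Nat.card G).factorization 13 = 1 := D1E_aux_fact13 _ h13G hd1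
  obtain ⟨g, hg⟩ := MulAction.exists_smul_eq G
    (Sylow.ofCard (p := 13) T (by rw [hT, hfG, pow_one]))
    (Sylow.ofCard (p := 13) ((P : Subgroup ↥H₁).map H₁.subtype) (by rw [hT'card, hfG, pow_one]))
  have hgT : MulAut.conj g • T = (P : Subgroup ↥H₁).map H₁.subtype := by
    have := congrArg Sylow.toSubgroup hg
    simpa [Sylow.coe_subgroup_smul] using this
  -- the action of `Q` on `P`
  let φ : ↥Q →* MulAut ↥(P : Subgroup ↥H₁) := (MulAut.conjNormal).comp (Subgroup.inclusion hQH)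
  haveI hPprime : Fact (Nat.card ↥(P : Subgroup ↥H₁)).Prime := ⟨by rw [hPcard]; norm_num⟩
  haveI hPcyc : IsCyclic ↥(P : Subgroup ↥H₁) := isCyclic_of_prime_card (p := 13) hPcard
  haveI hAutcyc : IsCyclic (MulAut ↥(P : Subgroup ↥H₁)) :=
    isCyclic_of_surjective (IsCyclic.mulAutMulEquiv ↥(P : Subgroup ↥H₁)).symm
      (IsCyclic.mulAutMulEquiv ↥(P : Subgroup ↥H₁)).symm.surjective
  have hninj : ¬ Function.Injective φ := by
    intro hinj
    have hc4 : Nat.card ↥φ.range = 4 := by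
      rw [← hQ4]; exact (Nat.card_congr (MonoidHom.ofInjective hinj).toEquiv).symm
    haveI : Finite ↥φ.range := Nat.finite_of_card_ne_zero (by rw [hc4]; norm_num)
    have h2 : ∀ y : ↥φ.range, y * y = 1 := by
      rintro ⟨y, x, rfl⟩
      apply Subtype.ext
      show φ x * φ x = 1
      rw [← map_mul]
      have : x * x = 1 := Subtype.ext (hQ2 x x.2)
      rw [this, map_one]
    have := D1E_aux_cyc h2
    omega
  obtain ⟨x, hx1, hxne⟩ : ∃ x : ↥Q, φ x = 1 ∧ x ≠ 1 := by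
    by_contra hcon
    push_neg at hcon
    exact hninj ((injective_iff_map_eq_one φ).2 hcon)
  refine ⟨g, (x : G), x.2, fun h => hxne (Subtype.ext h), ?_⟩
  intro t ht
  have hmem : g * t * g⁻¹ ∈ (P : Subgroup ↥H₁).map H₁.subtype := by
    rw [← hgT]
    have := Subgroup.smul_mem_pointwise_smul t (MulAut.conj g) T ht
    simpa [MulAut.smul_def, MulAut.conj_apply] using this
  obtain ⟨p, hp, hpeq⟩ := hmem
  have h1 : φ x ⟨p, hp⟩ = ⟨p, hp⟩ := by rw [hx1]; rfl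
  have h2 := congrArg (fun z : ↥(P : Subgroup ↥H₁) => ((z : ↥H₁) : G)) h1
  simp only [φ, MonoidHom.comp_apply, MulAut.conjNormal_apply, Subgroup.coe_mul, Subgroup.coe_inv,
    Subgroup.coe_inclusion] at h2
  rw [← hpeq]
  have h3 : (x : G) * (H₁.subtype p) * (x : G)⁻¹ = H₁.subtype p := h2
  calc (x : G) * H₁.subtype p = ((x : G) * H₁.subtype p * (x : G)⁻¹) * (x : G) := by group
    _ = H₁.subtype p * (x : G) := by rw [h3]

variable {S : Type*} [Group S] [Finite S] {E : Type*} [AddCommGroup E] [Module (ZMod 3) E] [Finite E]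

theorem exists_cent_conj (D T Q : Subgroup S) (hsol : Group.IsSolvable ↥D) (hcop : (Nat.card ↥D).Coprime 3)
    (hdvd : Nat.card ↥D ∣ 2 ^ 9 * 3 ^ 6 * 5 * 13) (hTD : T ≤ D) (hT : Nat.card ↥T = 13) (hQD : Q ≤ D) (hQ : IsV4 Q) :
    ∃ g ∈ D, ∃ x ∈ Q, x ≠ 1 ∧ x ∈ centralizer ((T.map (MulAut.conj g).toMonoidHom : Subgroup S) : Set S) := by
  obtain ⟨g, x, hx, hx1, hcomm⟩ := D1E_aux_abs (G := ↥D) hcop hdvd (T.subgroupOf D) (Q.subgroupOf D)
    (by rw [Nat.card_congr (Subgroup.subgroupOfEquivOfLe hTD).toEquiv, hT])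
    (by rw [Nat.card_congr (Subgroup.subgroupOfEquivOfLe hQD).toEquiv, hQ.1])
    (fun x hx => Subtype.ext (hQ.2 x hx))
  refine ⟨g, g.2, x, hx, fun h => hx1 (Subtype.ext h), ?_⟩
  rw [Subgroup.mem_centralizer_iff]
  rintro y ⟨t, ht, rfl⟩
  have h1 := hcomm ⟨t, hTD ht⟩ ht
  have h2 := congrArg (Subtype.val) h1
  simp only [Subgroup.coe_mul, Subgroup.coe_inv] at h2
  show (g : S) * t * (g : S)⁻¹ * (x : S) = (x : S) * ((g : S) * t * (g : S)⁻¹)
  exact h2.symm

end Cfsg.Agent.S4415P
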