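import Mathlib
import Cfsg.Agent.Helper9.S4415Defs

/-!
# S4415 board, row DET2

An involution `c` with `|range (ρ c - 1)| = 3` has `det (ρ c) = -1`.
-/

set_option autoImplicit false
set_option linter.unusedVariables false

namespace Cfsg.Agent.S4415P

open Subgroup

variable {S : Type*} [Group S] [Finite S] {E : Type*} [AddCommGroup E] [Module (ZMod 3) E] [Finite E]

theorem det_refl (ρ : Representation (ZMod 3) S E) (c : S) (hcc : c * c = 1)
    (h3 : Nat.card ↥(LinearMap.range (Nb ρ c)) = 3) : LinearMap.det (ρ c) = -1 := by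
  have hff : ∀ v, ρ c (ρ c v) = v := by
    intro v
    rw [← Module.End.mul_apply, ← map_mul, hcc, map_one, Module.End.one_apply]
  have hW : LinearMap.range (Nb ρ c) ≤ (LinearMap.range (Nb ρ c)).comap (ρ c) := by
    rintro x ⟨v, rfl⟩
    refine ⟨ρ c v, ?_⟩
    rw [Nb_apply, Nb_apply, map_sub]
  rw [LinearMap.det_eq_det_mul_det (LinearMap.range (Nb ρ c)) (ρ c) hW]
  -- the quotient map is the identity
  have h1 : (LinearMap.range (Nb ρ c)).mapQ (LinearMap.range (Nb ρ c)) (ρ c) hW = LinearMap.id := by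
    apply Submodule.linearMap_qext
    ext v
    simp only [LinearMap.comp_apply, Submodule.mkQ_apply, Submodule.mapQ_apply, LinearMap.id_apply]
    rw [Submodule.Quotient.eq]
    exact ⟨v, Nb_apply ρ c v⟩
  -- the restriction is `-1`
  have h2 : LinearMap.restrict (p := LinearMap.range (Nb ρ c)) (q := LinearMap.range (Nb ρ c)) (ρ c) hW
      = (-1 : ZMod 3) • LinearMap.id := by
    ext ⟨x, hx⟩
    obtain ⟨v, rfl⟩ := hx
    simp only [LinearMap.restrict_coe_apply, LinearMap.smul_apply, LinearMap.id_apply, Submodule.coe_smul]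
    rw [Nb_apply, map_sub, hff]
    simp
  have hfr : Module.finrank (ZMod 3) ↥(LinearMap.range (Nb ρ c)) = 1 := by
    have := Module.natCard_eq_pow_finrank (K := ZMod 3) (V := ↥(LinearMap.range (Nb ρ c)))
    rw [h3, Nat.card_zmod] at this
    have h31 : (3 : ℕ) ^ 1 = 3 ^ Module.finrank (ZMod 3) ↥(LinearMap.range (Nb ρ c)) := by
      rw [pow_one]; exact this
    exact (Nat.pow_right_injective (by norm_num : 2 ≤ 3) h31).symm
  rw [h1, h2, LinearMap.det_smul, hfr, LinearMap.det_id, LinearMap.det_id]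
  simp

end Cfsg.Agent.S4415P
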