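import Mathlib
import Cfsg.Agent.Helper4.S5033Defs
import Cfsg.Agent.Helper5.S5033L0C
import Cfsg.Agent.Helper3.S5033L2
import Cfsg.Agent.Helper19.S5033NC
import Cfsg.Agent.Helper25.S5033R0
import Cfsg.Agent.Helper25.S5033R1
import Cfsg.Agent.Helper13.S5033CLAIM1
open Cfsg Cfsg.Agent.S5033P

set_option autoImplicit false

/-! S5033 board, piece L4: `G'` is perfect. -/

namespace Cfsg.Agent.S5033P

variable {G : Type*} [Group G] {S : Set (Subgroup G)}

theorem L4.aux_normal : (⁅commutator G, commutator G⁆ : Subgroup G).Normal := by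
  haveI : (commutator G).Normal := inferInstance
  exact Subgroup.commutator_normal _ _

theorem L4.aux_center_le (X : Subgroup G) :
    Subgroup.center G ≤ Subgroup.centralizer (X : Set G) := by
  intro z hz
  rw [Subgroup.mem_centralizer_iff]
  intro x _
  exact (Subgroup.mem_center_iff.1 hz x)

theorem L4 (H : Hyp S) : ⁅commutator G, commutator G⁆ = commutator G := by
  have hle : ⁅commutator G, commutator G⁆ ≤ commutator G := Subgroup.commutator_le_right _ _
  rcases STAR H (L4.aux_normal (G := G)) with hc | hc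
  · exfalso
    obtain ⟨A, hA, -, -, -⟩ := H.h2
    obtain ⟨B, hB, hAB⟩ := L0.exists_partner H hA
    by_cases hdeg : IsDegenerateRootSet S
    · -- degenerate: `X' = ⁅X',X'⁆ ≤ G'' ≤ Z(G)`
      have hc3 : 3 < ENat.card A := H.h3 hdeg A hA
      have hsp : IsSpecialRankOnePair A B := H.h4 A hA B ⟨hB, hAB⟩
      have hcA := H.hS.commutative A hA
      have hcB := H.hS.commutative B hB
      have hperf := R1.perfect hsp hcA hcB hc3
      apply R0.not_class_two hAB
      have hXL : ⁅A ⊔ B, A ⊔ B⁆ ≤ commutator G := by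
        rw [commutator_def]
        exact Subgroup.commutator_mono le_top le_top
      calc ⁅A ⊔ B, A ⊔ B⁆ = ⁅⁅A ⊔ B, A ⊔ B⁆, ⁅A ⊔ B, A ⊔ B⁆⁆ := hperf.symm
        _ ≤ ⁅commutator G, commutator G⁆ := Subgroup.commutator_mono hXL hXL
        _ ≤ Subgroup.center G := hc
        _ ≤ Subgroup.centralizer ((A ⊔ B : Subgroup G) : Set G) := L4.aux_center_le _
    · -- not degenerate: `G = G'' ≤ Z(G)`
      have htop : commutator G = ⊤ := L2.top_of_not_degenerate H hdeg
      rw [htop] at hc
      have hc' : (⊤ : Subgroup G) ≤ Subgroup.center G := by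
        have : ⁅(⊤ : Subgroup G), (⊤ : Subgroup G)⁆ = ⊤ := by rw [← commutator_def]; exact htop
        rwa [this] at hc
      obtain ⟨a, ha, ha1⟩ : ∃ a ∈ A, a ≠ 1 := by
        by_contra hno
        push_neg at hno
        exact H.hS.ne_bot A hA ((Subgroup.eq_bot_iff_forall _).2 hno)
      obtain ⟨b, hb, hb1⟩ : ∃ b ∈ B, b ≠ 1 := by
        by_contra hno
        push_neg at hno
        exact H.hS.ne_bot B hB ((Subgroup.eq_bot_iff_forall _).2 hno)
      apply NC.not_commute H.hS hA hB hAB ha ha1 hb hb1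
      have hz : a ∈ Subgroup.center G := hc' (Subgroup.mem_top a)
      exact (Subgroup.mem_center_iff.1 hz b).symm
  · exact le_antisymm hle hc

end Cfsg.Agent.S5033P
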