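import Mathlib
import Cfsg.Prelude.Def_RootSubgroups
import Cfsg.Agent.Helper25.RootInvA

set_option autoImplicit false

/-!
# S5046: basic calculus of odd partners, blocks and their normalisers
-/

namespace Cfsg.Agent.S5046P

open Cfsg.Agent.Helper25.RootInv

variable {G : Type*} [Group G] {D : Set G}

/-- The block of `a`: the members of `D` with the same odd partners as `a`. -/
def blk (D : Set G) (a : G) : Set G := {e | e ∈ D ∧ Cfsg.oddPartners D e = Cfsg.oddPartners D a}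

/-- The elements conjugating the block of `a` into itself. -/
def nrm (D : Set G) (a : G) : Set G := {g | ∀ e ∈ blk D a, g * e * g⁻¹ ∈ blk D a}

theorem BASIC_tri (hD : Cfsg.IsRootInvolutionSet D) {d e : G} (hd : d ∈ D) (he : e ∈ D) :
    e * d = d * e ∨ e ∈ Cfsg.oddPartners D d ∨ e ∈ Cfsg.fourPartners D d := by
  rcases hD.pair d hd e he with h | h | ⟨h, -⟩
  · exact Or.inl h.symm
  · by_cases hed : e = d
    · left; rw [hed]
    · exact Or.inr (Or.inl ⟨he, hed, h⟩)
  · exact Or.inr (Or.inr ⟨he, h⟩)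

theorem BASIC_sq_mem (hD : Cfsg.IsRootInvolutionSet D) {d e : G} (hd : d ∈ D) (he : e ∈ D)
    (h4 : orderOf (d * e) = 4) : (d * e) ^ 2 ∈ D := by
  rcases hD.pair d hd e he with h | h | ⟨-, h⟩
  · exfalso
    have h2 : (d * e) ^ 2 = 1 := by
      rw [pow_two]
      calc d * e * (d * e) = d * (e * d) * e := by simp [mul_assoc]
        _ = d * (d * e) * e := by rw [h]
        _ = (d * d) * (e * e) := by simp [mul_assoc]
        _ = 1 := by rw [sq_one hD hd, sq_one hD he, one_mul]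
    have := orderOf_dvd_of_pow_eq_one h2
    rw [h4] at this
    omega
  · exfalso
    rw [h4] at h
    exact absurd h (by decide)
  · exact h

theorem BASIC_odd_not_comm (hD : Cfsg.IsRootInvolutionSet D) {d e : G} (hd : d ∈ D)
    (he : e ∈ Cfsg.oddPartners D d) : e * d ≠ d * e := by
  obtain ⟨heD, hne, hodd⟩ := he
  intro h
  have h2 : (d * e) ^ (2 ^ 1) = 1 := by
    rw [pow_one, pow_two]
    calc d * e * (d * e) = d * (e * d) * e := by simp [mul_assoc]
      _ = d * (d * e) * e := by rw [h]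
      _ = (d * d) * (e * e) := by simp [mul_assoc]
      _ = 1 := by rw [sq_one hD hd, sq_one hD heD, one_mul]
  have h1 := eq_one_of_odd_of_pow hodd h2
  apply hne
  have : e = d⁻¹ := (inv_eq_of_mul_eq_one_right h1).symm
  rw [this, inv_eq hD hd]

theorem BASIC_four_not_comm (hD : Cfsg.IsRootInvolutionSet D) {d e : G} (hd : d ∈ D)
    (he : e ∈ Cfsg.fourPartners D d) : e * d ≠ d * e := by
  obtain ⟨heD, h4⟩ := he
  intro h
  have h2 : (d * e) ^ 2 = 1 := by
    rw [pow_two]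
    calc d * e * (d * e) = d * (e * d) * e := by simp [mul_assoc]
      _ = d * (d * e) * e := by rw [h]
      _ = (d * d) * (e * e) := by simp [mul_assoc]
      _ = 1 := by rw [sq_one hD hd, sq_one hD heD, one_mul]
  have := orderOf_dvd_of_pow_eq_one h2
  rw [h4] at this
  omega

theorem BASIC_four_not_odd {d e : G} (he : e ∈ Cfsg.fourPartners D d) : e ∉ Cfsg.oddPartners D d := by
  intro h
  have h4 := he.2
  have ho := h.2.2
  rw [h4] at ho
  exact absurd ho (by decide)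

theorem BASIC_mem_cv_iff (hD : Cfsg.IsRootInvolutionSet D) {d : G} (hd : d ∈ D) (y : G) :
    y ∈ Cfsg.commutingMembers D d ∪ Cfsg.fourPartners D d ↔ y ∈ D ∧ y ∉ Cfsg.oddPartners D d := by
  constructor
  · rintro (h | h)
    · exact ⟨h.1, fun ho => BASIC_odd_not_comm hD hd ho h.2⟩
    · exact ⟨h.1, BASIC_four_not_odd h⟩
  · rintro ⟨hy, hno⟩
    rcases BASIC_tri hD hd hy with h | h | h
    · exact Or.inl ⟨hy, h⟩
    · exact absurd h hno
    · exact Or.inr h

theorem BASIC_mem_odd_iff (hD : Cfsg.IsRootInvolutionSet D) {d : G} (hd : d ∈ D) (y : G) :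
    y ∈ Cfsg.oddPartners D d ↔ y ∈ D ∧ y ∉ Cfsg.commutingMembers D d ∪ Cfsg.fourPartners D d := by
  rw [BASIC_mem_cv_iff hD hd]
  constructor
  · intro h
    exact ⟨h.1, fun h' => h'.2 h⟩
  · rintro ⟨hy, h⟩
    by_contra hno
    exact h ⟨hy, hno⟩

theorem BASIC_compl_iff (hD : Cfsg.IsRootInvolutionSet D) {d e : G} (hd : d ∈ D) (he : e ∈ D) :
    Cfsg.commutingMembers D d ∪ Cfsg.fourPartners D d =
      Cfsg.commutingMembers D e ∪ Cfsg.fourPartners D e ↔
    Cfsg.oddPartners D d = Cfsg.oddPartners D e := by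
  constructor
  · intro h
    ext y
    rw [BASIC_mem_odd_iff hD hd, BASIC_mem_odd_iff hD he, h]
  · intro h
    ext y
    rw [BASIC_mem_cv_iff hD hd, BASIC_mem_cv_iff hD he, h]

theorem BASIC_odd_symm {d e : G} (hd : d ∈ D) (he : e ∈ Cfsg.oddPartners D d) :
    d ∈ Cfsg.oddPartners D e := by
  refine ⟨hd, he.2.1.symm, ?_⟩
  rw [orderOf_mul_comm']
  exact he.2.2

theorem BASIC_odd_conj (hD : Cfsg.IsRootInvolutionSet D) {d e : G} (g : G)
    (he : e ∈ Cfsg.oddPartners D d) : g * e * g⁻¹ ∈ Cfsg.oddPartners D (g * d * g⁻¹) := by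
  obtain ⟨heD, hne, hodd⟩ := he
  refine ⟨hD.conj_mem e heD g, ?_, ?_⟩
  · intro h
    apply hne
    have := congrArg (fun x => g⁻¹ * x * g) h
    simpa [mul_assoc] using this
  · have : g * d * g⁻¹ * (g * e * g⁻¹) = g * (d * e) * g⁻¹ := by group
    rw [this, orderOf_conj']
    exact hodd

theorem BASIC_odd_conj_eq (hD : Cfsg.IsRootInvolutionSet D) (d g : G) :
    Cfsg.oddPartners D (g * d * g⁻¹) = (fun e => g * e * g⁻¹) '' Cfsg.oddPartners D d := by
  ext y
  constructor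
  · intro hy
    have h1 := BASIC_odd_conj hD g⁻¹ hy
    have h2 : g⁻¹ * (g * d * g⁻¹) * g⁻¹⁻¹ = d := by group
    rw [h2] at h1
    exact ⟨_, h1, by group⟩
  · rintro ⟨e, he, rfl⟩
    exact BASIC_odd_conj hD g he

theorem BASIC_blk_conj (hD : Cfsg.IsRootInvolutionSet D) {a e : G} (g : G) (he : e ∈ blk D a) :
    g * e * g⁻¹ ∈ blk D (g * a * g⁻¹) := by
  refine ⟨hD.conj_mem e he.1 g, ?_⟩
  rw [BASIC_odd_conj_eq hD, BASIC_odd_conj_eq hD, he.2]

theorem BASIC_conj_of_adj (hD : Cfsg.IsRootInvolutionSet D) {a b : G} (h : Cfsg.OddAdj D a b) :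
    ∃ g : G, g * a * g⁻¹ = b := by
  obtain ⟨ha, hb, -, j, hj⟩ := h
  have haa := sq_one hD ha
  have hbb := sq_one hD hb
  have hai := inv_eq hD ha
  have hbi := inv_eq hD hb
  have hρ : (a * b) ^ (2 * j + 1) = 1 := by rw [← hj]; exact pow_orderOf_eq_one _
  refine ⟨(a * b) ^ j, ?_⟩
  have h1 : SemiconjBy a (a * b)⁻¹ (a * b) := by
    show a * (a * b)⁻¹ = a * b * a
    rw [mul_inv_rev, hai, hbi]
    simp [mul_assoc]
  have h2 : a * ((a * b)⁻¹) ^ j = (a * b) ^ j * a := (h1.pow_right j).eq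
  have h3 : ((a * b)⁻¹) ^ j = (a * b) ^ (j + 1) := by
    rw [inv_pow, inv_eq_iff_mul_eq_one, ← pow_add]
    have : j + (j + 1) = 2 * j + 1 := by omega
    rw [this]; exact hρ
  rw [mul_inv_eq_iff_eq_mul, ← h2, h3, pow_succ']
  have h4 : a * (a * b) = b := by rw [← mul_assoc, haa, one_mul]
  rw [← mul_assoc, h4]

theorem BASIC_class (hD : Cfsg.IsRootInvolutionSet D) (hc : Cfsg.IsConnectedSet (Cfsg.OddAdj D) D)
    {a b : G} (ha : a ∈ D) (hb : b ∈ D) : ∃ g : G, g * a * g⁻¹ = b := by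
  have h := hc a ha b hb
  clear hb
  induction h with
  | refl => exact ⟨1, by simp⟩
  | tail _ hcb ih =>
    obtain ⟨g1, hg1⟩ := ih
    obtain ⟨g2, hg2⟩ := BASIC_conj_of_adj hD hcb
    refine ⟨g2 * g1, ?_⟩
    rw [← hg2, ← hg1]
    group

theorem BASIC_card [Finite G] (hD : Cfsg.IsRootInvolutionSet D)
    (hc : Cfsg.IsConnectedSet (Cfsg.OddAdj D) D) {a b : G} (ha : a ∈ D) (hb : b ∈ D) :
    (Cfsg.oddPartners D a).ncard = (Cfsg.oddPartners D b).ncard := by
  obtain ⟨g, hg⟩ := BASIC_class hD hc ha hb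
  rw [← hg, BASIC_odd_conj_eq hD]
  symm
  apply Set.ncard_image_of_injective
  intro u v huv
  have := congrArg (fun x => g⁻¹ * x * g) huv
  simpa [mul_assoc] using this

theorem BASIC_odd_eq_of_subset [Finite G] (hD : Cfsg.IsRootInvolutionSet D)
    (hc : Cfsg.IsConnectedSet (Cfsg.OddAdj D) D) {a b : G} (ha : a ∈ D) (hb : b ∈ D)
    (h : Cfsg.oddPartners D a ⊆ Cfsg.oddPartners D b) :
    Cfsg.oddPartners D a = Cfsg.oddPartners D b :=
  Set.eq_of_subset_of_ncard_le h (le_of_eq (BASIC_card hD hc hb ha)) (Set.toFinite _)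

theorem BASIC_blk_self {a : G} (ha : a ∈ D) : a ∈ blk D a := ⟨ha, rfl⟩

theorem BASIC_blk_eq {a b : G} (hb : b ∈ blk D a) : blk D b = blk D a := by
  ext e
  simp only [blk, Set.mem_ofPred_eq, hb.2]

theorem BASIC_blk_symm {a b : G} (ha : a ∈ D) (hb : b ∈ blk D a) : a ∈ blk D b := by
  rw [BASIC_blk_eq hb]; exact BASIC_blk_self ha

theorem BASIC_not_odd_of_blk {a e : G} (he : e ∈ blk D a) : e ∉ Cfsg.oddPartners D a := by
  intro h
  rw [← he.2] at h
  exact h.2.1 rfl

/-- (K1) anything commuting with a member of the block normalises the block. -/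
theorem BASIC_comm_mem_nrm (hD : Cfsg.IsRootInvolutionSet D) {a e c : G} (he : e ∈ blk D a)
    (hce : c * e = e * c) : c ∈ nrm D a := by
  intro f hf
  have hf' : f ∈ blk D e := by rw [BASIC_blk_eq he]; exact hf
  have h1 := BASIC_blk_conj hD c hf'
  have h2 : c * e * c⁻¹ = e := by rw [hce, mul_assoc, mul_inv_cancel, mul_one]
  rw [h2, BASIC_blk_eq he] at h1
  exact h1

/-- (K2) no element normalising the block is an odd partner of a member of the block. -/
theorem BASIC_nrm_not_odd (hD : Cfsg.IsRootInvolutionSet D) {a b y : G} (hb : b ∈ blk D a)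
    (hy : y ∈ nrm D a) : y ∉ Cfsg.oddPartners D b := by
  intro hyA
  have hbD := hb.1
  have hyD := hyA.1
  have h1 : y * b * y⁻¹ ∈ blk D a := hy b hb
  have hyi := inv_eq hD hyD
  have h2 : y * b * y⁻¹ ∈ Cfsg.oddPartners D b := by
    refine ⟨h1.1, ?_, ?_⟩
    · intro h
      apply BASIC_odd_not_comm hD hbD hyA
      have := congrArg (fun x => x * y) h
      simpa [mul_assoc] using this
    · have h3 : b * (y * b * y⁻¹) = (b * y) ^ 2 := by
        rw [hyi, pow_two]; simp [mul_assoc]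
      rw [h3]
      have hodd := hyA.2.2
      have hcop : (orderOf (b * y)).Coprime 2 := Nat.coprime_two_right.mpr hodd
      rw [hcop.orderOf_pow]
      exact hodd
  rw [hb.2] at h2
  exact BASIC_not_odd_of_blk h1 h2

/-- (T) the normaliser of a block is transitive on it. -/
theorem BASIC_trans (hD : Cfsg.IsRootInvolutionSet D) (hc : Cfsg.IsConnectedSet (Cfsg.OddAdj D) D)
    {a b1 b2 : G} (h1 : b1 ∈ blk D a) (h2 : b2 ∈ blk D a) :
    ∃ g : G, g ∈ nrm D a ∧ g * b1 * g⁻¹ = b2 := by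
  obtain ⟨g, hg⟩ := BASIC_class hD hc h1.1 h2.1
  refine ⟨g, ?_, hg⟩
  intro e he
  have he' : e ∈ blk D b1 := by rw [BASIC_blk_eq h1]; exact he
  have := BASIC_blk_conj hD g he'
  rw [hg, BASIC_blk_eq h2] at this
  exact this

/-- (P) with Z2 as a hypothesis. -/
theorem BASIC_P [Finite G] (hD : Cfsg.IsRootInvolutionSet D)
    (hc : Cfsg.IsConnectedSet (Cfsg.OddAdj D) D)
    (hZ2 : ∀ {b b' y : G}, b ∈ D → b' ∈ D → b * b' = b' * b → b * b' ∈ D →
      y ∈ Cfsg.oddPartners D (b * b') → y ∈ Cfsg.oddPartners D b ∨ y ∈ Cfsg.oddPartners D b')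
    {a b x : G} (hb : b ∈ blk D a) (hx : x ∈ D) (hxn : x ∈ nrm D a) (hne : x * b ≠ b * x) :
    (b * x) ^ 2 ∈ blk D a := by
  have hbD := hb.1
  have hxi := inv_eq hD hx
  have h4 : x ∈ Cfsg.fourPartners D b := by
    rcases BASIC_tri hD hbD hx with h | h | h
    · exact absurd h hne
    · exact absurd h (BASIC_nrm_not_odd hD hb hxn)
    · exact h
  have hzD : (b * x) ^ 2 ∈ D := BASIC_sq_mem hD hbD hx h4.2
  have hb' : x * b * x⁻¹ ∈ blk D a := hxn b hb
  have hprod : b * (x * b * x⁻¹) = (b * x) ^ 2 := by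
    rw [hxi, pow_two]; simp [mul_assoc]
  have hzi := inv_eq hD hzD
  have hcomm : b * (x * b * x⁻¹) = x * b * x⁻¹ * b := by
    have h1 : x * b * x⁻¹ * b = ((b * x) ^ 2)⁻¹ := by
      rw [hxi, pow_two, mul_inv_rev, mul_inv_rev, hxi, inv_eq hD hbD]; simp [mul_assoc]
    rw [h1, hzi, hprod]
  have hsub : Cfsg.oddPartners D ((b * x) ^ 2) ⊆ Cfsg.oddPartners D a := by
    intro y hy
    rw [← hprod] at hy
    rcases hZ2 hbD hb'.1 hcomm (by rw [hprod]; exact hzD) hy with h | h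
    · rw [← hb.2]; exact h
    · rw [← hb'.2]; exact h
  refine ⟨hzD, ?_⟩
  rw [← hb.2]
  exact BASIC_odd_eq_of_subset hD hc hzD hbD (by rw [hb.2]; exact hsub)

end Cfsg.Agent.S5046P
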