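import Mathlib
import Cfsg.Prelude.Def_RootSubgroups
import Cfsg.Agent.Helper25.RootInvA
import Cfsg.Agent.Helper22.S5046BASIC
import Cfsg.Agent.Helper8.S5046Z2
import Cfsg.Agent.Helper27.S5046SWAPCOMM
import Cfsg.Agent.Helper24.S5046SWAP
import Cfsg.Agent.Helper24.S5046ANTI
import Cfsg.Agent.Helper17.S5046ABN
import Cfsg.Agent.Helper17.S5046AB

set_option autoImplicit false

/-!
# S5046: assembly of the hard direction `A_a = A_b ⇒ C_D(a) ⊆ C_D(b)`
-/

namespace Cfsg.Agent.S5046P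

open Cfsg.Agent.Helper25.RootInv

variable {G : Type*} [Group G] [Finite G] {D : Set G}

theorem FINAL_aux_Z2 (hD : Cfsg.IsRootInvolutionSet D) :
    ∀ {b b' y : G}, b ∈ D → b' ∈ D → b * b' = b' * b → b * b' ∈ D →
      y ∈ Cfsg.oddPartners D (b * b') → y ∈ Cfsg.oddPartners D b ∨ y ∈ Cfsg.oddPartners D b' :=
  fun h1 h2 h3 h4 h5 => Z2 hD h1 h2 h3 h4 h5

/-- (AB) the members of a block pairwise commute. -/
theorem FINAL_aux_ab (hD : Cfsg.IsRootInvolutionSet D) (hc : Cfsg.IsConnectedSet (Cfsg.OddAdj D) D)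
    (a : G) : ∀ e ∈ blk D a, ∀ f ∈ blk D a, e * f = f * e := by
  have hΔn : ∀ f ∈ blk D a, f ∈ nrm D a := fun f hf => BASIC_comm_mem_nrm hD hf rfl
  have hinv : ∀ e ∈ blk D a, e * e = 1 := fun e he => sq_one hD he.1
  have hconj : ∀ e ∈ blk D a, ∀ f ∈ blk D a, f * e * f⁻¹ ∈ blk D a :=
    fun e he f hf => hΔn f hf e he
  have hP : ∀ e ∈ blk D a, ∀ f ∈ blk D a, e * f ≠ f * e → (e * f) ^ 2 ∈ blk D a :=
    fun e he f hf hne =>
      BASIC_P hD hc (FINAL_aux_Z2 hD) he hf.1 (hΔn f hf) (fun h => hne h.symm)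
  have h4 : ∀ e ∈ blk D a, ∀ f ∈ blk D a, (e * f) ^ 4 = 1 := by
    intro e he f hf
    have h22 : (e * f) ^ 4 = (e * f) ^ 2 * (e * f) ^ 2 := by rw [← pow_add]
    by_cases hcm : e * f = f * e
    · have h2 : (e * f) ^ 2 = 1 := by
        rw [pow_two]
        calc e * f * (e * f) = e * (f * e) * f := by simp [mul_assoc]
          _ = e * (e * f) * f := by rw [hcm]
          _ = (e * e) * (f * f) := by simp [mul_assoc]
          _ = 1 := by rw [hinv e he, hinv f hf, one_mul]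
      rw [h22, h2, one_mul]
    · have hz := hP e he f hf hcm
      rw [h22]
      exact sq_one hD hz.1
  have hN := ABN (blk D a) hinv hconj h4
  have hT : ∀ e ∈ blk D a, ∀ f ∈ blk D a,
      ∃ g : G, (∀ s ∈ blk D a, g * s * g⁻¹ ∈ blk D a) ∧ g * e * g⁻¹ = f := by
    intro e he f hf
    obtain ⟨g, hg, hgef⟩ := BASIC_trans hD hc he hf
    exact ⟨g, hg, hgef⟩
  exact AB (blk D a) hN hinv hP hT

/-- The hard direction. -/
theorem FINAL_hard (hD : Cfsg.IsRootInvolutionSet D) (hc : Cfsg.IsConnectedSet (Cfsg.OddAdj D) D)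
    {a b : G} (ha : a ∈ D) (hb : b ∈ D)
    (hAB : Cfsg.oddPartners D a = Cfsg.oddPartners D b) :
    Cfsg.commutingMembers D a ⊆ Cfsg.commutingMembers D b := by
  rintro x ⟨hxD, hxa⟩
  refine ⟨hxD, ?_⟩
  by_contra hne
  have hbΔ : b ∈ blk D a := ⟨hb, hAB.symm⟩
  have haΔ : a ∈ blk D a := BASIC_blk_self ha
  have hxn : x ∈ nrm D a := BASIC_comm_mem_nrm hD haΔ hxa
  have hzΔ : (b * x) ^ 2 ∈ blk D a := BASIC_P hD hc (FINAL_aux_Z2 hD) hbΔ hxD hxn hne
  have hbb := sq_one hD hb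
  have hxx := sq_one hD hxD
  have hbi := inv_eq hD hb
  have hxi := inv_eq hD hxD
  -- x' and z
  obtain ⟨x', hx'def⟩ : ∃ x' : G, x' = b * x * b⁻¹ := ⟨_, rfl⟩
  have hx'D : x' ∈ D := by rw [hx'def]; exact hD.conj_mem x hxD b
  have hx'x' := sq_one hD hx'D
  have hx'x : x' * x = (b * x) ^ 2 := by rw [hx'def, hbi, pow_two]; simp [mul_assoc]
  have hxx' : x * x' = (b * x) ^ 2 := by
    have h1 : x * x' = ((b * x) ^ 2)⁻¹ := by
      rw [← hx'x, mul_inv_rev, hxi, inv_eq hD hx'D]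
    rw [h1, inv_eq hD hzΔ.1]
  have hcomm : x * x' = x' * x := by rw [hxx', hx'x]
  obtain ⟨z, hzdef⟩ : ∃ z : G, z = x * x' := ⟨_, rfl⟩
  have hzΔ' : z ∈ blk D a := by rw [hzdef, hxx']; exact hzΔ
  have hzD : z ∈ D := hzΔ'.1
  have hzz := sq_one hD hzD
  -- x is not in the block of a
  have hxΔ : x ∉ blk D a := fun h => hne (FINAL_aux_ab hD hc a x h b hbΔ)
  -- (C3)
  have hC3 : Cfsg.oddPartners D x ≠ Cfsg.oddPartners D x' := by
    intro heq
    have hx'blk : x' ∈ blk D x := ⟨hx'D, heq.symm⟩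
    have hbn : b ∈ nrm D x := by
      intro e he
      have h1 := BASIC_blk_conj hD b he
      rw [← hx'def, BASIC_blk_eq hx'blk] at h1
      exact h1
    have h2 : (x * b) ^ 2 ∈ blk D x :=
      BASIC_P hD hc (FINAL_aux_Z2 hD) (BASIC_blk_self hxD) hb hbn (fun h => hne h.symm)
    have h3 : (x * b) ^ 2 = z := by
      rw [hzdef, hx'def, hbi, pow_two]; simp [mul_assoc]
    rw [h3] at h2
    exact hxΔ ⟨hxD, by rw [← h2.2, hzΔ'.2]⟩
  -- (C4)
  obtain ⟨y, hyx, hyx'⟩ : ∃ y, y ∈ Cfsg.oddPartners D x ∧ y ∉ Cfsg.oddPartners D x' := by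
    by_contra hcon
    push Not at hcon
    exact hC3 (BASIC_odd_eq_of_subset hD hc hxD hx'D hcon)
  have hyD : y ∈ D := hyx.1
  have hyy := sq_one hD hyD
  have hx'z : x' * z = x := by rw [hzdef, hcomm, ← mul_assoc, hx'x', one_mul]
  have hzx' : z * x' = x := by rw [hzdef, mul_assoc, hx'x', mul_one]
  have hyz : y ∈ Cfsg.oddPartners D z := by
    have hy' : y ∈ Cfsg.oddPartners D (x' * z) := by rw [hx'z]; exact hyx
    rcases Z2 hD hx'D hzD (by rw [hx'z, hzx']) (by rw [hx'z]; exact hxD) hy' with h | h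
    · exact absurd h hyx'
    · exact h
  have hync : y * x' ≠ x' * y :=
    not_commute_of_odd hD hyD hx'D hxD hcomm.symm (by rw [← hcomm, ← hzdef]; exact hzD)
      hyx.2.2 hyx.2.1
  have h4 : orderOf (x' * y) = 4 := by
    rcases BASIC_tri hD hx'D hyD with h | h | h
    · exact absurd h hync
    · exact absurd h hyx'
    · exact h.2
  -- the swap
  have hcm := SWAPCOMM hD hxD hyD hx'D hcomm hyx.2.2 h4
  have hoddz : Odd (orderOf (x * x' * y)) := by rw [← hzdef]; exact hyz.2.2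
  obtain ⟨g, hg1, hg2⟩ := SWAP hxx hyy hx'x' hcomm hyx.2.2 hoddz hcm
  rw [← hzdef] at hg1 hg2
  -- e := g b g⁻¹
  obtain ⟨e, hedef⟩ : ∃ e : G, e = g * b * g⁻¹ := ⟨_, rfl⟩
  have hbz : b ∈ blk D z := ⟨hb, by rw [hbΔ.2, hzΔ'.2]⟩
  have heblk : e ∈ blk D x := by
    have := BASIC_blk_conj hD g hbz
    rw [hg2, ← hedef] at this
    exact this
  have heD : e ∈ D := heblk.1
  have hee := sq_one hD heD
  have hbx : b ∉ Cfsg.oddPartners D x := fun h =>
    BASIC_nrm_not_odd hD hbΔ hxn (BASIC_odd_symm hxD h)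
  have hbe : b ∉ Cfsg.oddPartners D e := by rw [heblk.2]; exact hbx
  have hbe4 : (b * e) ^ 4 = 1 := by
    have h22 : (b * e) ^ 4 = (b * e) ^ 2 * (b * e) ^ 2 := by rw [← pow_add]
    rcases hD.pair b hb e heD with h | h | ⟨h, -⟩
    · have h2 : (b * e) ^ 2 = 1 := by
        rw [pow_two]
        calc b * e * (b * e) = b * (e * b) * e := by simp [mul_assoc]
          _ = b * (b * e) * e := by rw [h]
          _ = (b * b) * (e * e) := by simp [mul_assoc]
          _ = 1 := by rw [hbb, hee, one_mul]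
      rw [h22, h2, one_mul]
    · by_cases hebeq : e = b
      · rw [hebeq, hbb, one_pow]
      · exact absurd (BASIC_odd_symm hb ⟨heD, hebeq, h⟩) hbe
    · rw [← h]; exact pow_orderOf_eq_one _
  -- relations
  have hzbx : z = (b * x) ^ 2 := by rw [hzdef, hxx']
  have hbzc : b * z = z * b := by
    rw [hzbx, pow_two]
    have : z * b = b * z := by
      rw [hzbx, pow_two]
      have h1 : b * x * (b * x) * b = b * (x * b * x * b) := by simp [mul_assoc]
      have h2 : x * b * x * b = (b * x * (b * x))⁻¹ := by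
        rw [mul_inv_rev, mul_inv_rev, hbi, hxi]; simp [mul_assoc]
      rw [h1, h2, ← pow_two, ← hzbx, inv_eq hD hzD]
    rw [← pow_two, ← hzbx, this]
  have hxz : x * z = z * x := by
    rw [hzdef, ← mul_assoc, hxx, one_mul, hcomm, mul_assoc, hxx, mul_one]
  have hbxb : b * x * b = x * z := by
    rw [hzdef, ← mul_assoc, hxx, one_mul, hx'def, hbi]
  have hex : e * x = x * e := by
    rw [hedef, ← hg2]
    have : g * b * g⁻¹ * (g * z * g⁻¹) = g * (b * z) * g⁻¹ := by group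
    rw [this, hbzc]; group
  have hez : e * z * e = z * x := by
    rw [hedef]
    have h1 : g * b * g⁻¹ * z * (g * b * g⁻¹) = g * (b * (g⁻¹ * z * g) * b) * g⁻¹ := by group
    have h2 : g⁻¹ * z * g = x := by rw [← hg1]; group
    rw [h1, h2, hbxb]
    have h3 : g * (x * z) * g⁻¹ = g * x * g⁻¹ * (g * z * g⁻¹) := by group
    rw [h3, hg1, hg2]
  have := ANTI hbb hee hbzc hex hbxb hez hxz hbe4
  exact hxΔ (by rw [this]; exact hzΔ')

end Cfsg.Agent.S5046P
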