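import Mathlib
import Cfsg.Prelude.Def_RootSubgroups
import Cfsg.Agent.Helper22.S5047Defs

set_option autoImplicit false

/-!
# S5047, piece U1: `U` is commutative of exponent 2 and `σ`-invariant
-/

namespace Cfsg.Agent.S5047P


variable {G : Type*} [Group G]

theorem U1_aux_comm {σ b : G}
    (hcomm : ∀ i j : ℕ, Commute (dd σ b i) (dd σ b j)) :
    ∀ u ∈ UU σ b, ∀ v ∈ UU σ b, u * v = v * u := by
  have h1 : UU σ b ≤ Subgroup.centralizer (Set.range (dd σ b)) := by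
    unfold UU
    rw [Subgroup.closure_le]
    rintro x ⟨i, rfl⟩
    rw [SetLike.mem_coe, Subgroup.mem_centralizer_iff]
    rintro y ⟨j, rfl⟩
    exact (hcomm j i).eq
  have h2 : UU σ b ≤ Subgroup.centralizer (UU σ b : Set G) := by
    conv_lhs => unfold UU
    rw [Subgroup.closure_le]
    rintro x ⟨i, rfl⟩
    rw [SetLike.mem_coe, Subgroup.mem_centralizer_iff]
    intro y hy
    have := h1 hy
    rw [Subgroup.mem_centralizer_iff] at this
    exact (this _ ⟨i, rfl⟩).symm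
  intro u hu v hv
  have := h2 hv
  rw [Subgroup.mem_centralizer_iff] at this
  exact (this u hu)

theorem U1_aux_sq {σ b : G} (hb : b * b = 1)
    (hc : ∀ u ∈ UU σ b, ∀ v ∈ UU σ b, u * v = v * u) :
    ∀ u ∈ UU σ b, u * u = 1 := by
  intro u hu
  have hu' := hu
  unfold UU at hu
  induction hu using Subgroup.closure_induction with
  | mem x hx =>
    obtain ⟨j, rfl⟩ := hx
    unfold dd
    have : σ ^ j * b * (σ ^ j)⁻¹ * (σ ^ j * b * (σ ^ j)⁻¹) = σ ^ j * (b * b) * (σ ^ j)⁻¹ := by group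
    rw [this, hb]; group
  | one => simp
  | mul x y hx hy ihx ihy =>
    have hxU : x ∈ UU σ b := hx
    have hyU : y ∈ UU σ b := hy
    have h := hc x hxU y hyU
    have : x * y * (x * y) = (x * x) * (y * y) := by
      rw [mul_assoc, ← mul_assoc y x y, ← h]; group
    rw [this, ihx hxU, ihy hyU, one_mul]
  | inv x hx ihx =>
    have hxU : x ∈ UU σ b := hx
    have := ihx hxU
    have h2 : x⁻¹ * x⁻¹ = (x * x)⁻¹ := by group
    rw [h2, this, inv_one]

theorem U1_aux_dd_succ (σ b : G) (j : ℕ) : σ * dd σ b j * σ⁻¹ = dd σ b (j + 1) := by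
  unfold dd
  rw [pow_succ']
  group

theorem U1_aux_fwd {σ b : G} : ∀ u ∈ UU σ b, σ * u * σ⁻¹ ∈ UU σ b := by
  intro u hu
  unfold UU at hu ⊢
  induction hu using Subgroup.closure_induction with
  | mem x hx =>
    obtain ⟨j, rfl⟩ := hx
    rw [U1_aux_dd_succ]
    exact Subgroup.subset_closure ⟨j + 1, rfl⟩
  | one => simp
  | mul x y _ _ hx hy =>
    have : σ * (x * y) * σ⁻¹ = (σ * x * σ⁻¹) * (σ * y * σ⁻¹) := by group
    rw [this]; exact mul_mem hx hy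
  | inv x _ hx =>
    have : σ * x⁻¹ * σ⁻¹ = (σ * x * σ⁻¹)⁻¹ := by group
    rw [this]; exact inv_mem hx

theorem U1_aux_bwd {σ b : G} {m : ℕ} (hm : 0 < m) (hσ : σ ^ m = 1) :
    ∀ u ∈ UU σ b, σ⁻¹ * u * σ ∈ UU σ b := by
  have hinv : σ⁻¹ = σ ^ (m - 1) := by
    rw [inv_eq_iff_mul_eq_one, ← pow_succ']
    have : m - 1 + 1 = m := by omega
    rw [this]; exact hσ
  intro u hu
  unfold UU at hu ⊢
  induction hu using Subgroup.closure_induction with
  | mem x hx =>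
    obtain ⟨j, rfl⟩ := hx
    apply Subgroup.subset_closure
    refine ⟨(m - 1) + j, ?_⟩
    unfold dd
    rw [pow_add, ← hinv]
    group
  | one => simp
  | mul x y _ _ hx hy =>
    have : σ⁻¹ * (x * y) * σ = (σ⁻¹ * x * σ) * (σ⁻¹ * y * σ) := by group
    rw [this]; exact mul_mem hx hy
  | inv x _ hx =>
    have : σ⁻¹ * x⁻¹ * σ = (σ⁻¹ * x * σ)⁻¹ := by group
    rw [this]; exact inv_mem hx

/-- U1: `U = ⟨σ^j b σ^{-j}⟩` is commutative of exponent 2 and invariant under conjugation by `σ`, `σ⁻¹`. -/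
theorem U1 {σ b : G} {m : ℕ} (hm : 0 < m) (hσ : σ ^ m = 1) (hb : b * b = 1)
    (hcomm : ∀ i j : ℕ, Commute (dd σ b i) (dd σ b j)) :
    (∀ u ∈ UU σ b, ∀ v ∈ UU σ b, u * v = v * u) ∧ (∀ u ∈ UU σ b, u * u = 1) ∧
    (∀ u ∈ UU σ b, σ * u * σ⁻¹ ∈ UU σ b) ∧ (∀ u ∈ UU σ b, σ⁻¹ * u * σ ∈ UU σ b) :=
  ⟨U1_aux_comm hcomm, U1_aux_sq hb (U1_aux_comm hcomm), U1_aux_fwd, U1_aux_bwd hm hσ⟩

end Cfsg.Agent.S5047P
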