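import Mathlib
import Cfsg.Prelude.Def_RootSubgroups
import Cfsg.Agent.Helper22.S5047Defs

set_option autoImplicit false

/-!
# S5047, piece U2: `U` is invariant under conjugation by `a`
-/

namespace Cfsg.Agent.S5047P

variable {G : Type*} [Group G]

/-- U2: `U` is invariant under conjugation by an involution `a` inverting `σ` and centralising `b`. -/
theorem U2 {σ a b : G} {m : ℕ} (hm : 0 < m) (hσ : σ ^ m = 1) (ha : a * a = 1) (hab : a * b = b * a)
    (haσ : a * σ * a = σ⁻¹) : ∀ u ∈ UU σ b, a * u * a ∈ UU σ b := by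
  have hai : a⁻¹ = a := inv_eq_of_mul_eq_one_left ha
  have hinv : σ⁻¹ = σ ^ (m - 1) := by
    rw [inv_eq_iff_mul_eq_one, ← pow_succ']
    have : m - 1 + 1 = m := by omega
    rw [this]; exact hσ
  have hconj : ∀ j : ℕ, a * σ ^ j * a = σ ^ ((m - 1) * j) := by
    intro j
    have h1 : a * σ ^ j * a⁻¹ = (a * σ * a⁻¹) ^ j := (conj_pow (a := a) (b := σ) (i := j)).symm
    rw [hai, haσ, hinv, ← pow_mul] at h1
    exact h1
  have haba : a * b * a = b := by rw [hab, mul_assoc, ha, mul_one]
  intro u hu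
  unfold UU at hu ⊢
  induction hu using Subgroup.closure_induction with
  | mem x hx =>
    obtain ⟨j, rfl⟩ := hx
    apply Subgroup.subset_closure
    refine ⟨(m - 1) * j, ?_⟩
    unfold dd
    have h2 : a * (σ ^ j * b * (σ ^ j)⁻¹) * a
        = (a * σ ^ j * a) * (a * b * a) * (a * σ ^ j * a)⁻¹ := by
      have h3 : (a * σ ^ j * a)⁻¹ = a * (σ ^ j)⁻¹ * a := by
        rw [mul_inv_rev, mul_inv_rev, hai, mul_assoc]
      rw [h3]
      simp only [mul_assoc]
      rw [← mul_assoc a a, ha, one_mul, ← mul_assoc a a, ha, one_mul]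
    rw [h2, hconj j, haba]
  | one => simpa [ha] using Subgroup.one_mem _
  | mul x y _ _ hx hy =>
    have : a * (x * y) * a = (a * x * a) * (a * y * a) := by
      simp only [mul_assoc]
      rw [← mul_assoc a a, ha, one_mul]
    rw [this]
    exact Subgroup.mul_mem _ hx hy
  | inv x _ hx =>
    have : a * x⁻¹ * a = (a * x * a)⁻¹ := by
      rw [mul_inv_rev, mul_inv_rev, hai, mul_assoc]
    rw [this]
    exact Subgroup.inv_mem _ hx

end Cfsg.Agent.S5047P
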