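import Mathlib
import Cfsg.Prelude.Def_RootSubgroups
import Cfsg.Agent.Helper25.RootInvA
import Cfsg.Agent.Helper22.S5046BASIC
import Cfsg.Agent.Helper22.S5046FINAL
import Cfsg.Agent.Helper22.S5047Defs
import Cfsg.Agent.Helper22.S5047U1
import Cfsg.Agent.Helper22.S5047U2
import Cfsg.Agent.Helper13.S5047NORM
import Cfsg.Agent.Helper27.S5047INJ
import Cfsg.Agent.Helper21.S5047ITER
import Cfsg.Agent.Helper23.S5047S3FIN

set_option autoImplicit false

/-!
# S5047: the single swap lemma and the assembly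
-/

namespace Cfsg.Agent.S5047P

open Cfsg.Agent.Helper25.RootInv Cfsg.Agent.S5046P

variable {G : Type*} [Group G] [Finite G] {D : Set G}

/-- (SS) on a thick line `{a, b, ab}` some `u ∈ D` has `(a u)² = b`. -/
theorem FINAL_SS (hD : Cfsg.IsRootInvolutionSet D) (hc : Cfsg.IsConnectedSet (Cfsg.OddAdj D) D)
    {a b : G} (ha : a ∈ D) (hb : b ∈ D) (hab : a * b = b * a) (habD : a * b ∈ D)
    (hne : Cfsg.oddPartners D a ≠ Cfsg.oddPartners D b) : ∃ u ∈ D, (a * u) ^ 2 = b := by
  have haa := sq_one hD ha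
  have hbb := sq_one hD hb
  have hai := inv_eq hD ha
  obtain ⟨y, hya, hyb⟩ : ∃ y, y ∈ Cfsg.oddPartners D a ∧ y ∉ Cfsg.oddPartners D b := by
    by_contra hcon
    push Not at hcon
    exact hne (BASIC_odd_eq_of_subset hD hc ha hb hcon)
  have hyD : y ∈ D := hya.1
  have hyy := sq_one hD hyD
  have hyi := inv_eq hD hyD
  -- y ∈ A_{ab}
  have hbab : b * (a * b) = a := by rw [hab, ← mul_assoc, hbb, one_mul]
  have habb : a * b * b = a := by rw [mul_assoc, hbb, mul_one]
  have hyab : y ∈ Cfsg.oddPartners D (a * b) := by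
    have hy' : y ∈ Cfsg.oddPartners D (b * (a * b)) := by rw [hbab]; exact hya
    rcases Z2 hD hb habD (by rw [hbab, habb]) (by rw [hbab]; exact ha) hy' with h | h
    · exact absurd h hyb
    · exact h
  have hync : y * b ≠ b * y :=
    not_commute_of_odd hD hyD hb ha hab.symm (by rw [← hab]; exact habD) hya.2.2 hya.2.1
  have h4 : orderOf (b * y) = 4 := by
    rcases BASIC_tri hD hb hyD with h | h | h
    · exact absurd h hync
    · exact absurd h hyb
    · exact h.2
  have hcm := SWAPCOMM hD ha hyD hb hab hya.2.2 h4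
  -- σ and m
  obtain ⟨σ, hσdef⟩ : ∃ σ : G, σ = a * y := ⟨_, rfl⟩
  rw [← hσdef] at hcm
  have hcomm : ∀ i j : ℕ, Commute (dd σ b i) (dd σ b j) := hcm
  have hoddm : Odd (orderOf σ) := by rw [hσdef]; exact hya.2.2
  have hσm : σ ^ orderOf σ = 1 := pow_orderOf_eq_one σ
  have hmpos : 0 < orderOf σ := hoddm.pos
  have haσ : a * σ * a = σ⁻¹ := by
    rw [hσdef, mul_inv_rev, hai, hyi]
    simp [mul_assoc, ← mul_assoc a a, haa]
  -- the product of all conjugates is 1
  have hρ : b * σ = a * b * y := by rw [hσdef, ← mul_assoc, hab]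
  have hP : ((List.range (orderOf σ)).map (dd σ b)).prod = 1 := by
    have h1 := SWAP_aux_rho_pow σ b (orderOf σ)
    rw [hσm, mul_one] at h1
    have h2 := SWAP_aux_P_sq σ b hbb hcm (orderOf σ)
    have h3 : (b * σ) ^ orderOf σ * (b * σ) ^ orderOf σ = 1 := by rw [h1]; exact h2
    have hoddρ : Odd (orderOf (b * σ)) := by rw [hρ]; exact hyab.2.2
    have h4 := SWAP_aux_odd hoddρ (orderOf σ) h3
    rw [h1] at h4
    exact h4
  obtain ⟨hU1, hU2, hU3, hU4⟩ := U1 hmpos hσm hbb hcomm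
  have hN := NORM hoddm hσm hbb hcomm hP
  have hinj := INJ hoddm hσm hU1 hU2 hU3 hU4 hN
  exact ITER hD ha hb hab haσ hU1 hU3 hU4 hinj

/-- S5047. -/
theorem FINAL_main (hD : Cfsg.IsRootInvolutionSet D) (hc : Cfsg.IsConnectedSet (Cfsg.OddAdj D) D)
    {a b : G} (ha : a ∈ D) (hb : b ∈ Cfsg.productPartners D a)
    (hbE : b ∉ Cfsg.sameCommutingClass D a) :
    ∃ x ∈ Cfsg.fourPartners D b, orderOf (a * x) = 3 := by
  obtain ⟨⟨hbD, hba, -⟩, hbaD⟩ := hb
  have haa := sq_one hD ha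
  have hai := inv_eq hD ha
  have hne : Cfsg.oddPartners D a ≠ Cfsg.oddPartners D b := by
    intro h
    apply hbE
    exact ⟨hbD, Set.Subset.antisymm (FINAL_hard hD hc ha hbD h) (FINAL_hard hD hc hbD ha h.symm)⟩
  obtain ⟨u, hu, hau⟩ := FINAL_SS hD hc ha hbD hba.symm (by rw [← hba]; exact hbaD) hne
  have huu := sq_one hD hu
  have hbne : b ≠ 1 := ne_one hD hbD
  have hbu : b * u = a * u * a := by
    rw [← hau, pow_two]
    simp [mul_assoc, huu]
  have hbuD : b * u ∈ D := by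
    rw [hbu]
    have := hD.conj_mem u hu a
    rwa [hai] at this
  have hbi := inv_eq hD hbD
  have hub : b * u = u * b := by
    have h1 : u * b = ((a * u) ^ 2)⁻¹ * u := by
      rw [← hau, pow_two, mul_inv_rev, mul_inv_rev, hai, inv_eq hD hu]
      simp [mul_assoc, huu]
    rw [h1, hau, hbi]
  have hne2 : Cfsg.oddPartners D b ≠ Cfsg.oddPartners D u := by
    intro h
    have h1 := FINAL_hard hD hc hbD hu h ⟨ha, hba.symm⟩
    apply hbne
    rw [← hau, pow_two]
    calc a * u * (a * u) = a * (u * a) * u := by simp [mul_assoc]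
      _ = a * (a * u) * u := by rw [← h1.2]
      _ = (a * a) * (u * u) := by simp [mul_assoc]
      _ = 1 := by rw [haa, huu, one_mul]
  obtain ⟨x0, hx0, hbx⟩ := FINAL_SS hD hc hbD hu hub hbuD hne2
  exact S3FIN hD ha hbD hu hx0 hba hbaD hau hbx

end Cfsg.Agent.S5047P
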