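import Mathlib
import Cfsg.Prelude.Def_Classical
import Cfsg.Prelude.Def_FusionComponents
import Cfsg.Agent.Helper26.S5320.Defs
import Cfsg.Agent.Helper22.S5320SYLQ

/-! # S5320 piece CENTQ: the centralizer in `SL₂(F)` of a Sylow `2`-subgroup is `{±1}`. -/

set_option autoImplicit false
set_option linter.unusedSectionVars false
set_option linter.unusedVariables false

namespace Cfsg.Agent.S5320P

open Matrix

variable {F : Type*} [Field F]

namespace CENTQ

/-- a `2 × 2` matrix commuting with a non-scalar matrix `C` is `x + y C` -/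
theorem exists_eq_of_commute (C U : Matrix (Fin 2) (Fin 2) F) (hUC : U * C = C * U)
    (hC : ¬ (C 0 1 = 0 ∧ C 1 0 = 0 ∧ C 0 0 = C 1 1)) :
    ∃ x y : F, U = x • (1 : Matrix (Fin 2) (Fin 2) F) + y • C := by
  have e00 := congrFun (congrFun hUC 0) 0
  have e01 := congrFun (congrFun hUC 0) 1
  have e10 := congrFun (congrFun hUC 1) 0
  have e11 := congrFun (congrFun hUC 1) 1
  simp only [Matrix.mul_apply, Fin.sum_univ_two] at e00 e01 e10 e11
  by_cases hb : C 0 1 = 0
  · by_cases hc : C 1 0 = 0
    · have had : C 0 0 - C 1 1 ≠ 0 := by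
        intro h0
        exact hC ⟨hb, hc, sub_eq_zero.mp h0⟩
      rw [hb] at e01
      rw [hc] at e10
      have hq : U 0 1 = 0 := by
        have : U 0 1 * (C 0 0 - C 1 1) = 0 := by linear_combination -e01
        rcases mul_eq_zero.mp this with h | h
        · exact h
        · exact absurd h had
      have hr : U 1 0 = 0 := by
        have : U 1 0 * (C 0 0 - C 1 1) = 0 := by linear_combination e10
        rcases mul_eq_zero.mp this with h | h
        · exact h
        · exact absurd h had
      refine ⟨U 0 0 - (U 0 0 - U 1 1) / (C 0 0 - C 1 1) * C 0 0,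
        (U 0 0 - U 1 1) / (C 0 0 - C 1 1), ?_⟩
      ext i j
      fin_cases i <;> fin_cases j
      · simp
      · simp [hq, hb]
      · simp [hr, hc]
      · simp
        field_simp
        ring
    · refine ⟨U 0 0 - U 1 0 / C 1 0 * C 0 0, U 1 0 / C 1 0, ?_⟩
      ext i j
      fin_cases i <;> fin_cases j
      · simp
      · simp
        field_simp
        linear_combination e00
      · simp
        field_simp
      · simp
        field_simp
        linear_combination e10
  · refine ⟨U 0 0 - U 0 1 / C 0 1 * C 0 0, U 0 1 / C 0 1, ?_⟩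
    ext i j
    fin_cases i <;> fin_cases j
    · simp
    · simp
      field_simp
    · simp
      field_simp
      linear_combination -e00
    · simp
      field_simp
      linear_combination -e01

/-- a matrix of determinant one commuting with two non-commuting matrices is `±1` -/
theorem eq_one_or_neg_one (u c d : L F) (huc : u * c = c * u) (hud : u * d = d * u)
    (hcd : c * d ≠ d * c) : u = 1 ∨ u = -1 := by
  have hUC : (u : Matrix (Fin 2) (Fin 2) F) * c = c * u := by
    have := congrArg (fun m : L F => (m : Matrix (Fin 2) (Fin 2) F)) huc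
    simpa using this
  have hUD : (u : Matrix (Fin 2) (Fin 2) F) * d = d * u := by
    have := congrArg (fun m : L F => (m : Matrix (Fin 2) (Fin 2) F)) hud
    simpa using this
  have hCD : (c : Matrix (Fin 2) (Fin 2) F) * d ≠ d * c := by
    intro h
    apply hcd
    apply Subtype.ext
    simpa using h
  have hC : ¬ ((c : Matrix (Fin 2) (Fin 2) F) 0 1 = 0 ∧ (c : Matrix (Fin 2) (Fin 2) F) 1 0 = 0 ∧
      (c : Matrix (Fin 2) (Fin 2) F) 0 0 = (c : Matrix (Fin 2) (Fin 2) F) 1 1) := by
    rintro ⟨h1, h2, h3⟩
    apply hCD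
    ext i j
    fin_cases i <;> fin_cases j <;> simp [Matrix.mul_apply, Fin.sum_univ_two, h1, h2, h3] <;> ring
  obtain ⟨x, y, hxy⟩ := exists_eq_of_commute (c : Matrix (Fin 2) (Fin 2) F) u hUC hC
  have hy : y = 0 := by
    by_contra hy
    apply hCD
    have h1 : y • ((c : Matrix (Fin 2) (Fin 2) F) * d) = y • ((d : Matrix (Fin 2) (Fin 2) F) * c) := by
      have := hUD
      rw [hxy, Matrix.add_mul, Matrix.mul_add, Matrix.smul_mul, Matrix.smul_mul, Matrix.mul_smul,
        Matrix.mul_smul, Matrix.one_mul, Matrix.mul_one] at this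
      exact add_left_cancel this
    have h2 := congrArg (fun m => y⁻¹ • m) h1
    simpa [smul_smul, inv_mul_cancel₀ hy] using h2
  rw [hy, zero_smul, add_zero] at hxy
  have hdet : x * x = 1 := by
    have := u.2
    rw [hxy, Matrix.det_smul, Matrix.det_one, Fintype.card_fin, mul_one] at this
    rw [← this]
    ring
  have hx : x = 1 ∨ x = -1 := by
    have : (x - 1) * (x + 1) = 0 := by linear_combination hdet
    rcases mul_eq_zero.mp this with h | h
    · left; linear_combination h
    · right; linear_combination h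
  rcases hx with rfl | rfl
  · left
    apply Subtype.ext
    rw [hxy]
    simp
  · right
    apply Subtype.ext
    rw [hxy]
    simp

end CENTQ

theorem CENTQ.eq [Fintype F] (hodd : Fintype.card F % 2 = 1) (Q : Sylow 2 (L F)) (u : L F)
    (h : ∀ c ∈ (Q : Subgroup (L F)), u * c = c * u) : u = 1 ∨ u = -1 := by
  have h2F : (2 : F) ≠ 0 := SYLQ.two_ne_zero_of_odd hodd
  obtain ⟨c, hcQ, hcc⟩ := SYLQ.exists_ord4 hodd Q
  have hne : (1 : L F) ≠ -1 := SYLQ.one_ne_neg_one h2F
  have hc1 : ¬ (c = 1 ∨ c = -1) := by
    rintro (rfl | rfl)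
    · rw [one_mul] at hcc
      exact hne hcc
    · rw [neg_mul_neg, one_mul] at hcc
      exact hne hcc
  have hex : ∃ d ∈ (Q : Subgroup (L F)), c * d ≠ d * c := by
    by_contra hcon
    push Not at hcon
    exact hc1 (SYLQ.center_eq hodd Q hcQ hcon)
  obtain ⟨d, hdQ, hcd⟩ := hex
  exact CENTQ.eq_one_or_neg_one u c d (h c hcQ) (h d hdQ) hcd

end Cfsg.Agent.S5320P
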