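import Mathlib
import Cfsg.Agent.Helper28.S5658.Defs
import Cfsg.Agent.Helper28.S5658.Lib
import Cfsg.Agent.Helper25.S5639SUBPRIME
import Cfsg.Agent.Helper1.S5639Final
import Cfsg.Agent.Helper19.S5658NOQUAD

set_option autoImplicit false

/-! # S5658 piece FROB0: the involution `σ` is not the identity on `F₀` (`[K : F₀]` an odd prime). -/

namespace Cfsg.Agent.S5658P

open Matrix
open Cfsg.Agent.S2644 Cfsg.Agent.Helper2.SUGen Cfsg.Agent.Helper28.SimMax Cfsg.Agent.S5639P

variable {K : Type*} [Field K] {q n : ℕ}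

local notation "h" => Cfsg.hermForm n K q
local notation "T" => Cfsg.unitaryTransvection n q

namespace FROB0

/-- the fixed field of `σ` -/
def fixedSub (D : Frob K q) : Subfield K where
  carrier := {x | D.σ x = x}
  mul_mem' := by
    intro a b ha hb
    simp only [Set.mem_setOf_eq] at ha hb ⊢
    rw [map_mul, ha, hb]
  one_mem' := by simp
  add_mem' := by
    intro a b ha hb
    simp only [Set.mem_setOf_eq] at ha hb ⊢
    rw [map_add, ha, hb]
  zero_mem' := by simp
  neg_mem' := by
    intro a ha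
    simp only [Set.mem_setOf_eq] at ha ⊢
    rw [map_neg, ha]
  inv_mem' := by
    intro a ha
    simp only [Set.mem_setOf_eq] at ha ⊢
    rw [map_inv₀, ha]

theorem mem_fixedSub (D : Frob K q) (x : K) : x ∈ fixedSub D ↔ D.σ x = x := Iff.rfl

end FROB0

theorem FROB0.exists_ne [Fintype K] (D : Frob K q) (F₀ : Subfield K) (r : ℕ) (hr : r.Prime)
    (hro : Odd r) (hcard : Fintype.card K = Nat.card F₀ ^ r) : ∃ θ ∈ F₀, D.σ θ ≠ θ := by
  by_contra hcon
  push Not at hcon
  have hle : F₀ ≤ FROB0.fixedSub D := fun x hx => hcon x hx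
  rcases Cfsg.Agent.S5639P.SUBPRIME.eq_or_top F₀ (FROB0.fixedSub D) hle r hr hcard with hE | hE
  · obtain ⟨x, hx⟩ := Cfsg.Agent.S5639P.FINAL.exists_not_mem F₀ r hr hcard
    have hfix : ∀ y : K, D.σ y = y → y ∈ F₀ := by
      intro y hy
      rw [← hE]
      exact hy
    have h1 : (1 : K) ∈ F₀ := F₀.one_mem
    have h2 : -(x + D.σ x) ∈ F₀ := by
      apply hfix
      rw [map_neg, map_add, D.invol]
      ring
    have h3 : x * D.σ x ∈ F₀ := by
      apply hfix
      rw [map_mul, D.invol]
      ring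
    have heq : (1 : K) * x ^ 2 + (-(x + D.σ x)) * x + x * D.σ x = 0 := by ring
    have := (NOQUAD.eq_zero F₀ r hr hro hcard hx h1 h2 h3 heq).1
    exact one_ne_zero this
  · apply D.ne_id
    ext y
    have : y ∈ FROB0.fixedSub D := by rw [hE]; trivial
    exact this

end Cfsg.Agent.S5658P
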