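import Mathlib
import Cfsg.Prelude.Def_GeometricClasses
import Cfsg.Agent.Helper2.S5886.Defs
import Cfsg.Agent.Helper2.S5664.Defs
import Cfsg.Agent.Helper22.S5664YPIcore
import Cfsg.Agent.Helper18.S5664YPOL

/-! S5664 piece YPI (helper22): `proj σ A + proj σ⁻¹ A ∈ yset`. -/

set_option autoImplicit false

namespace Cfsg.Agent.S5664P

open Cfsg.Agent.S5886P

variable {F K V : Type*} [Field F] [Field K] [Algebra F K]
  [AddCommGroup V] [Module F V] [Module K V] [IsScalarTower F K V]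

/-- YPI (M): with `b_i = Module.finBasis F K`, `b_i'` its trace-dual basis (as in the Def of `proj`): `proj σ A + proj σ⁻¹ A = ∑ i, (σ b_i' • A ∘ (b_i •) + b_i • A ∘ (σ b_i' •))` - termwise in yset by YPOL, sum by YADD. -/
theorem YPI [Finite F] [Finite K] [Finite V] (B : V →ₗ[K] V →ₗ[K] K) (hB : IsAltND B)
    (M : Subgroup (V ≃ₗ[F] V)) (hK : SpK F B ≤ M) (hM : M ≤ SpF F B) (v : V) (hv : v ≠ 0)
    (σ : K ≃ₐ[F] K) (A : V →ₗ[F] V) (hA : A ∈ yset M (Kline (F := F) (K := K) v)) :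
    proj σ A + proj σ⁻¹ A ∈ yset M (Kline (F := F) (K := K) v) := by
  exact YPI.core M _ σ A (fun e e' => YPOL B hB M hK hM v hv e e' A hA)

end Cfsg.Agent.S5664P
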