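import Cfsg.Agent.Helper28.S5700.Lib
import Cfsg.Agent.Helper2.FieldSubA
import Cfsg.Agent.Helper23.S5700NONPERP
import Cfsg.Agent.Helper6.S5700LOCA2

set_option autoImplicit false
set_option linter.unusedSectionVars false
set_option linter.unusedVariables false

/-! # S5700 piece LOCB: the `h`-perpendicular case, via an intermediate point. -/

namespace Cfsg.Agent.S5700P

open Matrix Module Cfsg.Agent.Helper28.Sg Cfsg.Agent.Helper28.Spin Cfsg.Agent.Helper12.OrthGen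

variable {F : Type*} [Field F] [Fintype F] {ι : Type} [Fintype ι] [DecidableEq ι]
  {Q : QuadraticForm F (ι → F)} {J : Matrix ι ι F} {t p : F}

namespace LOCB

/-- a non-trivial solution of one homogeneous linear equation in two unknowns -/
theorem exists_pair (α β : F) : ∃ c d : F, ¬ (c = 0 ∧ d = 0) ∧ c * α + d * β = 0 := by
  by_cases hα : α = 0
  · exact ⟨1, 0, fun h => one_ne_zero h.1, by rw [hα]; ring⟩
  · exact ⟨β, -α, fun h => hα (by simpa using h.2), by ring⟩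

end LOCB

/-- LOCB (M): if `InK J b u`: `RR_of_InK hM hb`.  Else `NONPERP` twice: `y₁` singular, `hperp y₁ b`, `B y₁ v ≠ 0`; `y₂` singular, `hperp y₂ b`,
`B y₂ u ≠ 0`.  If `¬ hperp y₁ u`: `LOCA2 (v, y₁)` then `LOCA2 (y₁, u)`.  If `¬ hperp y₂ v`: same with `y₂`.  Otherwise `y := y₁ + (c • y₂ + d • J y₂)`
with `(c, d) ≠ 0`, `c B y₁ y₂ + d B y₁ (J y₂) = 0`: singular, `hperp y b`, `B v y = B v y₁ ≠ 0`, and `¬ hperp y u` (else `hperp (c y₂ + d J y₂) u`,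
so `hperp y₂ u` by `InK.symm`/`hperp.of_InK_left`); `LOCA2 (v, y)` then `LOCA2 (y, u)`. -/
theorem LOCB.mem (U : UData Q J t p) (hQ : (QuadraticMap.polarBilin Q).Nondegenerate)
    (hn : 14 ≤ Fintype.card ι) (M : Subgroup ↥(Cfsg.isometryGroup F ⇑Q)) (hM : KPt J M)
    {b : ι → F} (hb : Q b = 0) (hb0 : b ≠ 0) {v u : ι → F} (hv : Q v = 0) (hvb : hperp Q J v b)
    (hvK : ¬ InK J b v) (hvR : v ∈ RR M b hb) (hu : Q u = 0) (hub : hperp Q J u b)
    (hvu : hperp Q J v u) : u ∈ RR M b hb := by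
  by_cases huK : InK J b u
  · exact RR_of_InK hM hb huK
  obtain ⟨y₁, hQy₁, hy₁b, hy₁v⟩ := NONPERP.exists_nonperp U hQ hn hb hvK
  obtain ⟨y₂, hQy₂, hy₂b, hy₂u⟩ := NONPERP.exists_nonperp U hQ hn hb huK
  have hvy₁ : ¬ hperp Q J v y₁ := fun h => hy₁v (by rw [B_comm]; exact h.1)
  have hy₂u' : ¬ hperp Q J y₂ u := fun h => hy₂u h.1
  by_cases h1 : hperp Q J y₁ u
  swap
  · have hy₁R : y₁ ∈ RR M b hb := LOCA2.mem U hQ hn M hM hb hv hvb hvR hQy₁ hy₁b hvy₁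
    exact LOCA2.mem U hQ hn M hM hb hQy₁ hy₁b hy₁R hu hub h1
  by_cases h2 : hperp Q J y₂ v
  swap
  · have hvy₂ : ¬ hperp Q J v y₂ := fun h => h2 (h.symm U)
    have hy₂R : y₂ ∈ RR M b hb := LOCA2.mem U hQ hn M hM hb hv hvb hvR hQy₂ hy₂b hvy₂
    exact LOCA2.mem U hQ hn M hM hb hQy₂ hy₂b hy₂R hu hub hy₂u'
  -- the intermediate point
  obtain ⟨c, d, hcd, hlin⟩ := LOCB.exists_pair (B Q y₁ y₂) (B Q y₁ (J *ᵥ y₂))
  obtain ⟨z, hz⟩ : ∃ z : ι → F, z = c • y₂ + d • J *ᵥ y₂ := ⟨_, rfl⟩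
  have hzK : InK J y₂ z := ⟨c, d, hz⟩
  have hy₂0 : y₂ ≠ 0 := by
    rintro rfl
    exact hy₂u (B_zero_left u)
  have hz0 : z ≠ 0 := by
    intro h0
    rw [hz] at h0
    exact hcd (U.comb_eq_zero hy₂0 h0)
  have hQz : Q z = 0 := hzK.Q_eq_zero U hQy₂
  have hy₁z : B Q y₁ z = 0 := by
    rw [hz, B_add_right, B_smul_right, B_smul_right]
    exact hlin
  have hQy : Q (y₁ + z) = 0 := by
    rw [Cfsg.Agent.Helper28.Sg.Q_add, hQy₁, hQz, hy₁z]
    ring
  have hzb : hperp Q J z b := hy₂b.of_InK_left U hzK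
  have hyb : hperp Q J (y₁ + z) b := hy₁b.add_left hzb
  have hzv : hperp Q J z v := h2.of_InK_left U hzK
  have hvy : ¬ hperp Q J v (y₁ + z) := by
    intro h
    have h1' := h.1
    rw [B_add_right, B_comm Q v z, hzv.1, add_zero, B_comm] at h1'
    exact hy₁v h1'
  have hyu : ¬ hperp Q J (y₁ + z) u := by
    intro h
    have hzu : hperp Q J z u := by
      have := h.sub_left h1
      rwa [add_sub_cancel_left] at this
    have hy₂z : InK J z y₂ := hzK.symm U hz0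
    exact hy₂u' (hzu.of_InK_left U hy₂z)
  have hyR : y₁ + z ∈ RR M b hb := LOCA2.mem U hQ hn M hM hb hv hvb hvR hQy hyb hvy
  exact LOCA2.mem U hQ hn M hM hb hQy hyb hyR hu hub hyu

end Cfsg.Agent.S5700P
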