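import Cfsg.Agent.Helper28.S5700.Lib
import Cfsg.Agent.Helper2.FieldSubA
import Cfsg.Agent.Helper22.S5700LOCB
import Cfsg.Agent.Helper5.S5700EXK

set_option autoImplicit false
set_option linter.unusedSectionVars false
set_option linter.unusedVariables false

/-! # S5700 piece LOCW: `Good b`. -/

namespace Cfsg.Agent.S5700P

open Matrix Module Cfsg.Agent.Helper28.Sg Cfsg.Agent.Helper28.Spin Cfsg.Agent.Helper12.OrthGen

variable {F : Type*} [Field F] [Fintype F] {ι : Type} [Fintype ι] [DecidableEq ι]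
  {Q : QuadraticForm F (ι → F)} {J : Matrix ι ι F} {t p : F}

/-- LOCW (S-M): every singular `u` with `hperp u b` is in `RR M b` (`LOCB.mem` if `hperp v u`, `LOCA2.mem` otherwise).  For `x` with `hperp x b`:
`EXK.K1 hQ hn J b` gives `w₁, w₂`; `exists_singular_add` gives `s = x + c₁ • w₁ + c₂ • w₂` singular, `hperp s b`; `x = s - c₁ • w₁ - c₂ • w₂`. -/
theorem LOCW.good (U : UData Q J t p) (hQ : (QuadraticMap.polarBilin Q).Nondegenerate)
    (hn : 14 ≤ Fintype.card ι) (M : Subgroup ↥(Cfsg.isometryGroup F ⇑Q)) (hM : KPt J M)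
    {b : ι → F} (hb : Q b = 0) (hb0 : b ≠ 0) {v : ι → F} (hv : Q v = 0) (hvb : hperp Q J v b)
    (hvK : ¬ InK J b v) (hvR : v ∈ RR M b hb) : Good J M b hb := by
  have hsing : ∀ u : ι → F, Q u = 0 → hperp Q J u b → u ∈ RR M b hb := by
    intro u hu hub
    by_cases hvu : hperp Q J v u
    · exact LOCB.mem U hQ hn M hM hb hb0 hv hvb hvK hvR hu hub hvu
    · exact LOCA2.mem U hQ hn M hM hb hv hvb hvR hu hub hvu
  intro x hxb
  obtain ⟨w₁, w₂, hQ1, hQ2, h12, hbw₁, hbw₂⟩ := EXK.K1 hQ hn J b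
  obtain ⟨c₁, c₂, hs⟩ := exists_singular_add hQ1 hQ2 h12 x
  have hw₁b : hperp Q J w₁ b := hbw₁.symm U
  have hw₂b : hperp Q J w₂ b := hbw₂.symm U
  have hsb : hperp Q J (x + c₁ • w₁ + c₂ • w₂) b :=
    (hxb.add_left (hw₁b.smul_left c₁)).add_left (hw₂b.smul_left c₂)
  have h1 := hsing _ hs hsb
  have h2 := hsing w₁ hQ1 hw₁b
  have h3 := hsing w₂ hQ2 hw₂b
  have : x = (x + c₁ • w₁ + c₂ • w₂) - c₁ • w₁ - c₂ • w₂ := by abel
  rw [this]
  exact (RR M b hb).sub_mem ((RR M b hb).sub_mem h1 ((RR M b hb).smul_mem c₁ h2))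
    ((RR M b hb).smul_mem c₂ h3)

end Cfsg.Agent.S5700P
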