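import Mathlib
import Cfsg.Prelude.Def_ClassicalGeometry
import Cfsg.Agent.Helper1.S5956Defs
import Cfsg.Agent.Helper23.S5961STRUCT
import Cfsg.Agent.Helper18.S5961ARITH
import Cfsg.Agent.Helper23.S5961ELT
import Cfsg.Agent.Helper16.S5955SPYSP

set_option autoImplicit false
open scoped MatrixGroups

/-! S5956 piece NEC4 (helper22). -/

universe u

namespace Cfsg.Agent.S5956P

open Polynomial Cfsg.Agent.Helper2.SympInvol Cfsg.Agent.Helper2.SympUnits Cfsg.Agent.S5961P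
  Cfsg.Agent.S5955P Cfsg.Agent.Helper2.InvolComb

namespace NEC4

/-- the arithmetic -/
theorem arith {c d j m a' k : ℕ} (hc : 0 < c) (hj : 2 * j < m) (hmd : m < d)
    (hcd : c ∣ 2 * (d - j)) (hk : k = 2 * d - c * (2 * d / c)) (ha'k : a' ≤ k) (ha'm : a' ≤ m)
    (hdvd : c ∣ m - a') : c ≤ m ∧ m % c ≤ (2 * d) % c := by
  have hk' : k = (2 * d) % c := by
    have := Nat.div_add_mod (2 * d) c
    omega
  have hkc : k < c := by rw [hk']; exact Nat.mod_lt _ hc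
  obtain ⟨t, ht⟩ := hdvd
  have hm : m = a' + c * t := by omega
  have hmod : m % c = a' := by
    rw [hm, Nat.add_mul_mod_self_left, Nat.mod_eq_of_lt (by omega)]
  refine ⟨?_, by rw [hmod, ← hk']; exact ha'k⟩
  by_contra hlt
  push Not at hlt
  have h1 : m % c = m := Nat.mod_eq_of_lt hlt
  obtain ⟨s, hs⟩ := hcd
  have h2 : 2 * d = 2 * j + c * s := by omega
  have h3 : (2 * d) % c = 2 * j := by
    rw [h2, Nat.add_mul_mod_self_left, Nat.mod_eq_of_lt (by omega)]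
  omega

end NEC4

/-- NEC4 (uses S5961 `exists_elt_sp`, `sp_dvd`, `cc_arith`) -/
theorem nec_odd {F : Type*} [Field F] [Fintype F] {p : ℕ} [Fact p.Prime] [CharP F p]
    (r : ℕ) [Fact r.Prime] (hr2 : r ≠ 2) (hrp : r ≠ p) (d m : ℕ) (hm : 2 ≤ m) (hmd : m < d)
    (j : ℕ) (hj : 2 * j < m) (hrj : r ∣ Fintype.card F ^ (2 * (d - j)) - 1)
    (hall : ∀ x : Matrix.symplecticGroup (Fin d) F,
      (x : Matrix (Fin d ⊕ Fin d) (Fin d ⊕ Fin d) F) ^ r = 1 →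
      (x : Matrix (Fin d ⊕ Fin d) (Fin d ⊕ Fin d) F) ≠ 1 →
      ∃ W : Submodule F (Fin d ⊕ Fin d → F), Module.finrank F ↥W = m ∧
        (∀ u ∈ W, u ≠ 0 → ∃ v ∈ W, Cfsg.sympForm d F u v ≠ 0) ∧
        W.map (Matrix.toLin' (x : Matrix (Fin d ⊕ Fin d) (Fin d ⊕ Fin d) F)) ≤ W) :
    cc F r ≤ m ∧ m % cc F r ≤ (2 * d) % cc F r := by
  obtain ⟨-, hc0, -, -, -, -, hcdvd, -⟩ := cc_arith (F := F) r hr2 hrp
  have hcd : cc F r ∣ 2 * (d - j) := hcdvd (d - j) hrj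
  have hcle : cc F r ≤ 2 * d := by
    have h1 : cc F r ≤ 2 * (d - j) := Nat.le_of_dvd (by omega) hcd
    omega
  have hb1 : 1 ≤ 2 * d / cc F r := (Nat.one_le_div_iff hc0).mpr hcle
  have hb2 : cc F r * (2 * d / cc F r) ≤ 2 * d := Nat.mul_div_le _ _
  obtain ⟨x, hxr, hx1, hker⟩ := exists_elt_sp r hr2 hrp d (2 * d / cc F r) hb1 hb2
  obtain ⟨W, hWfr, hWnd, hWx⟩ := hall x hxr hx1
  have hY := sp_isYSp d x r hxr
  have hdvd := sp_dvd r hr2 hrp (sB d F) hY.alt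
    (Matrix.toLin' (x : Matrix (Fin d ⊕ Fin d) (Fin d ⊕ Fin d) F)) hY.isom hY.pow W hWx hWnd
  rw [hWfr] at hdvd
  have ha'k : Module.finrank F ↥(W ⊓ LinearMap.ker (Matrix.toLin'
      (x : Matrix (Fin d ⊕ Fin d) (Fin d ⊕ Fin d) F) - 1)) ≤ 2 * d - cc F r * (2 * d / cc F r) := by
    rw [← hker]
    exact Submodule.finrank_mono inf_le_right
  have ha'm : Module.finrank F ↥(W ⊓ LinearMap.ker (Matrix.toLin'
      (x : Matrix (Fin d ⊕ Fin d) (Fin d ⊕ Fin d) F) - 1)) ≤ m := by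
    rw [← hWfr]
    exact Submodule.finrank_mono inf_le_left
  exact NEC4.arith hc0 hj hmd hcd rfl ha'k ha'm hdvd

end Cfsg.Agent.S5956P
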