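import Mathlib
import Cfsg.Prelude.Def_ClassicalGeometry
import Cfsg.Agent.Helper1.S5956Defs
import Cfsg.Agent.Helper10.S5961SUBCOMPL
import Cfsg.Agent.Helper23.S5961STRUCT
import Cfsg.Agent.Helper18.S5961ARITH
import Cfsg.Agent.Helper18.S5961NDSUB

set_option autoImplicit false
open scoped MatrixGroups

/-! S5956 piece SUFF4 (helper22). -/

universe u

namespace Cfsg.Agent.S5956P

open Polynomial Cfsg.Agent.Helper2.SympInvol Cfsg.Agent.Helper2.SympUnits Cfsg.Agent.S5961P
  Cfsg.Agent.S5955P Cfsg.Agent.Helper2.InvolComb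

namespace SUFF4

/-- the arithmetic: choice of `a'`, `b'` -/
theorem arith {n κ c m : ℕ} (hc : 0 < c) (hce : Even c) (hκn : κ ≤ n) (hdvd : c ∣ n - κ)
    (hme : Even m) (hm : m ≤ n) (hcond : m % c ≤ n % c) :
    ∃ a' b' : ℕ, Even a' ∧ a' ≤ κ ∧ κ + c * b' ≤ n ∧ a' + c * b' = m := by
  obtain ⟨b, hb⟩ := hdvd
  have hn : n = κ + c * b := by omega
  have hmod : n % c = κ % c := by
    rw [hn, Nat.add_mul_mod_self_left]
  have hκmod : κ % c ≤ κ := Nat.mod_le _ _
  have hdm := Nat.div_add_mod m c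
  by_cases hcase : m / c ≤ b
  · refine ⟨m % c, m / c, ?_, ?_, ?_, ?_⟩
    · -- parity
      obtain ⟨c', hc'⟩ := hce
      obtain ⟨m', hm'⟩ := hme
      have : m % c = m - c * (m / c) := by omega
      rw [this, hc', hm']
      refine ⟨m' - c' * ((m' + m') / (c' + c')), ?_⟩
      have h1 : (c' + c') * ((m' + m') / (c' + c')) ≤ m' + m' := Nat.mul_div_le _ _
      have h2 : (c' + c') * ((m' + m') / (c' + c')) =
          c' * ((m' + m') / (c' + c')) + c' * ((m' + m') / (c' + c')) := by ring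
      omega
    · omega
    · have : c * (m / c) ≤ c * b := Nat.mul_le_mul_left c hcase
      omega
    · omega
  · push Not at hcase
    have h1 : c * b < c * (m / c) := Nat.mul_lt_mul_of_pos_left hcase hc
    have h2 : c * (m / c) ≤ m := Nat.mul_div_le m c
    refine ⟨m - c * b, b, ?_, ?_, ?_, ?_⟩
    · obtain ⟨c', hc'⟩ := hce
      obtain ⟨m', hm'⟩ := hme
      rw [hc', hm']
      refine ⟨m' - c' * b, ?_⟩
      have : (c' + c') * b = c' * b + c' * b := by ring
      have h3 : (c' + c') * b ≤ m' + m' := by rw [← hc', ← hm']; omega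
      omega
    · omega
    · omega
    · omega

end SUFF4

/-- SUFF4 (uses S5961 `sub_compl_sp`, `sp_dvd`, `cc_arith`, `exists_nondeg_sub`) -/
theorem exists_nd_invariant_odd {F V : Type*} [Field F] [Fintype F] [AddCommGroup V]
    [Module F V] [FiniteDimensional F V] {p : ℕ} [Fact p.Prime] [CharP F p] (r : ℕ)
    [Fact r.Prime] (hr2 : r ≠ 2) (hrp : r ≠ p) (B : LinearMap.BilinForm F V)
    (y : Module.End F V) (h : IsYSp B y r) (m : ℕ) (hme : Even m)
    (hm : m ≤ Module.finrank F V)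
    (hcond : m % cc F r ≤ Module.finrank F V % cc F r) :
    ∃ W : Submodule F V, Module.finrank F ↥W = m ∧ Nondeg B W ∧ W.map y ≤ W := by
  obtain ⟨-, hc0, hce, -, -, -, -, -⟩ := cc_arith (F := F) r hr2 hrp
  have hdvd := sp_dvd r hr2 hrp B h.alt y h.isom h.pow ⊤ le_top h.nondeg
  rw [top_inf_eq, finrank_top] at hdvd
  have hκn : Module.finrank F ↥(LinearMap.ker (y - 1)) ≤ Module.finrank F V :=
    Submodule.finrank_le _
  obtain ⟨a', b', ha'e, ha', hb', hab⟩ := SUFF4.arith hc0 hce hκn hdvd hme hm hcond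
  obtain ⟨U, -, -, -, hUy, -, hUnd, -, hUfr, -⟩ :=
    sub_compl_sp r hr2 hrp B h.alt h.nondeg y h.isom h.pow a' b' ha'e ha' hb'
  exact ⟨U, by rw [hUfr, hab], hUnd, hUy⟩

end Cfsg.Agent.S5956P
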