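import Mathlib
import Cfsg.Prelude.Def_GeometricClasses
import Cfsg.Prelude.Def_ClassicalGeometry
import Cfsg.Agent.Helper27.S5975Defs
import Cfsg.Agent.Helper24.S5975TAU
import Cfsg.Agent.Helper21.S5975FRAME
import Cfsg.Agent.Helper25.S5975FEQUIV
import Cfsg.Agent.Helper25.S5975FFORM

set_option autoImplicit false
open scoped MatrixGroups

/-! S5975 piece MODELM (helper22), with shared tools in `Cfsg.Agent.S5975P.CoordModel`. -/

namespace Cfsg.Agent.S5975P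

namespace CoordModel

open Matrix

variable {F : Type*} [Field F] {d : ℕ}

/-- normalizer criterion: `y c = c' y` in both directions -/
theorem mem_normalizer_of_semi (K : Subalgebra F (Matrix (Fin d ⊕ Fin d) (Fin d ⊕ Fin d) F))
    (y : GL (Fin d ⊕ Fin d) F)
    (h1 : ∀ c ∈ K, ∃ c' ∈ K, (y : Matrix (Fin d ⊕ Fin d) (Fin d ⊕ Fin d) F) * c =
      c' * (y : Matrix (Fin d ⊕ Fin d) (Fin d ⊕ Fin d) F))
    (h2 : ∀ c ∈ K, ∃ c' ∈ K, (y : Matrix (Fin d ⊕ Fin d) (Fin d ⊕ Fin d) F) * c' =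
      c * (y : Matrix (Fin d ⊕ Fin d) (Fin d ⊕ Fin d) F)) :
    y ∈ Cfsg.Geo.subalgebraNormalizer K := by
  set Y : Matrix (Fin d ⊕ Fin d) (Fin d ⊕ Fin d) F :=
    (y : Matrix (Fin d ⊕ Fin d) (Fin d ⊕ Fin d) F) with hY
  set Yi : Matrix (Fin d ⊕ Fin d) (Fin d ⊕ Fin d) F :=
    ((y⁻¹ : GL (Fin d ⊕ Fin d) F) : Matrix (Fin d ⊕ Fin d) (Fin d ⊕ Fin d) F) with hYi
  have hYYi : Y * Yi = 1 := by
    rw [hY, hYi, ← Units.val_mul, mul_inv_cancel, Units.val_one]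
  have hYiY : Yi * Y = 1 := by
    rw [hY, hYi, ← Units.val_mul, inv_mul_cancel, Units.val_one]
  show ∀ k : Matrix (Fin d ⊕ Fin d) (Fin d ⊕ Fin d) F, k ∈ K ↔ Y * k * Yi ∈ K
  intro k
  constructor
  · intro hk
    obtain ⟨c', hc', h⟩ := h1 k hk
    rw [h, Matrix.mul_assoc, hYYi, Matrix.mul_one]
    exact hc'
  · intro hk
    obtain ⟨c', hc', h⟩ := h2 _ hk
    have e1 : Y * c' = Y * k := by
      rw [h, Matrix.mul_assoc, hYiY, Matrix.mul_one]
    have e2 : c' = k := by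
      have e3 := congrArg (fun M => Yi * M) e1
      simp only [← Matrix.mul_assoc, hYiY, Matrix.one_mul] at e3
      exact e3
    rw [← e2]
    exact hc'

/-- the matrix of a transformation given in coordinates -/
noncomputable def matOf {E : Type*} [AddCommGroup E] [Module F E]
    (Φ : E ≃ₗ[F] (Fin d ⊕ Fin d → F)) (T : E →ₗ[F] E) :
    Matrix (Fin d ⊕ Fin d) (Fin d ⊕ Fin d) F :=
  LinearMap.toMatrix' (Φ.toLinearMap ∘ₗ T ∘ₗ Φ.symm.toLinearMap)

theorem matOf_mulVec {E : Type*} [AddCommGroup E] [Module F E]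
    (Φ : E ≃ₗ[F] (Fin d ⊕ Fin d → F)) (T : E →ₗ[F] E) (p : E) :
    (matOf Φ T) *ᵥ (Φ p) = Φ (T p) := by
  unfold matOf
  rw [LinearMap.toMatrix'_mulVec]
  simp

theorem mat_ext {E : Type*} [AddCommGroup E] [Module F E]
    (Φ : E ≃ₗ[F] (Fin d ⊕ Fin d → F)) {A B : Matrix (Fin d ⊕ Fin d) (Fin d ⊕ Fin d) F}
    (h : ∀ p, A *ᵥ Φ p = B *ᵥ Φ p) : A = B := by
  apply Matrix.toLin'.injective
  apply LinearMap.ext
  intro x
  obtain ⟨p, rfl⟩ := Φ.surjective x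
  rw [Matrix.toLin'_apply, Matrix.toLin'_apply]
  exact h p

theorem matOf_mul {E : Type*} [AddCommGroup E] [Module F E]
    (Φ : E ≃ₗ[F] (Fin d ⊕ Fin d → F)) (T S : E →ₗ[F] E) :
    matOf Φ T * matOf Φ S = matOf Φ (T ∘ₗ S) := by
  apply mat_ext Φ
  intro p
  rw [← Matrix.mulVec_mulVec, matOf_mulVec, matOf_mulVec, matOf_mulVec]
  rfl

theorem matOf_id {E : Type*} [AddCommGroup E] [Module F E]
    (Φ : E ≃ₗ[F] (Fin d ⊕ Fin d → F)) : matOf Φ LinearMap.id = 1 := by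
  apply mat_ext Φ
  intro p
  rw [matOf_mulVec, Matrix.one_mulVec]
  rfl

/-- the `GL` element of a coordinate transformation with an inverse -/
noncomputable def glOf {E : Type*} [AddCommGroup E] [Module F E]
    (Φ : E ≃ₗ[F] (Fin d ⊕ Fin d → F)) (T T' : E →ₗ[F] E) (h1 : T ∘ₗ T' = LinearMap.id)
    (h2 : T' ∘ₗ T = LinearMap.id) : GL (Fin d ⊕ Fin d) F :=
  ⟨matOf Φ T, matOf Φ T', by rw [matOf_mul, h1, matOf_id], by rw [matOf_mul, h2, matOf_id]⟩

theorem glOf_val {E : Type*} [AddCommGroup E] [Module F E]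
    (Φ : E ≃ₗ[F] (Fin d ⊕ Fin d → F)) (T T' : E →ₗ[F] E) (h1 : T ∘ₗ T' = LinearMap.id)
    (h2 : T' ∘ₗ T = LinearMap.id) :
    ((glOf Φ T T' h1 h2 : GL (Fin d ⊕ Fin d) F) : Matrix (Fin d ⊕ Fin d) (Fin d ⊕ Fin d) F) =
      matOf Φ T := rfl

/-- membership in `spGL` through coordinates -/
theorem mem_spGL_of_coord {E : Type*} [AddCommGroup E] [Module F E]
    (Φ : E ≃ₗ[F] (Fin d ⊕ Fin d → F)) (y : GL (Fin d ⊕ Fin d) F)
    (h : ∀ p p' : E, Cfsg.sympForm d F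
      ((y : Matrix (Fin d ⊕ Fin d) (Fin d ⊕ Fin d) F) *ᵥ Φ p)
      ((y : Matrix (Fin d ⊕ Fin d) (Fin d ⊕ Fin d) F) *ᵥ Φ p') =
        Cfsg.sympForm d F (Φ p) (Φ p')) : y ∈ Cfsg.spGL d F := by
  intro x x'
  obtain ⟨p, rfl⟩ := Φ.surjective x
  obtain ⟨p', rfl⟩ := Φ.surjective x'
  exact h p p'

section frame

variable {K : Subalgebra F (Matrix (Fin d ⊕ Fin d) (Fin d ⊕ Fin d) F)} {τ : K →ₗ[F] F}
  {m : ℕ} {u v : Fin m → (Fin d ⊕ Fin d → F)}
  (Φ : ((Fin m → K) × (Fin m → K)) ≃ₗ[F] (Fin d ⊕ Fin d → F))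
  (hΦ : ∀ a b : Fin m → K, Φ (a, b) = ∑ s, ((a s).1.mulVec (u s) + (b s).1.mulVec (v s)))

include hΦ in
/-- `K` acts coordinatewise -/
theorem coord_mulVec (c : K) (a b : Fin m → K) :
    c.1 *ᵥ Φ (a, b) = Φ (fun s => c * a s, fun s => c * b s) := by
  rw [hΦ, hΦ, Matrix.mulVec_sum]
  apply Finset.sum_congr rfl
  intro s _
  rw [Matrix.mulVec_add, Matrix.mulVec_mulVec, Matrix.mulVec_mulVec]
  rfl

include hΦ in
/-- the form in coordinates -/
theorem form_coord (hfr : IsFrame d F K τ ⊤ m u v) (a b a' b' : Fin m → K) :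
    Cfsg.sympForm d F (Φ (a, b)) (Φ (a', b')) = ∑ s, (τ (a s * b' s) - τ (a' s * b s)) := by
  rw [hΦ, hΦ]
  exact frame_form d K τ ⊤ m u v hfr a b a' b'

end frame

theorem kInv_top (K : Subalgebra F (Matrix (Fin d ⊕ Fin d) (Fin d ⊕ Fin d) F)) :
    KInv d F K ⊤ := fun _ _ _ _ => Submodule.mem_top

end CoordModel

open Matrix in
/-- MODELM (uses TAU, FRAME, FEQUIV, FFORM) -/
theorem exists_neg_model {F : Type*} [Field F] (d k : ℕ) (hk : 0 < k)
    (K : Subalgebra F (Matrix (Fin d ⊕ Fin d) (Fin d ⊕ Fin d) F)) (hK : HypK d k F K) :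
    ∃ y : GL (Fin d ⊕ Fin d) F, y ∈ Cfsg.spGL d F ∧ y ∈ Cfsg.Geo.subalgebraNormalizer K ∧
      (y : Matrix (Fin d ⊕ Fin d) (Fin d ⊕ Fin d) F) *
        (y : Matrix (Fin d ⊕ Fin d) (Fin d ⊕ Fin d) F) =
          (-1 : F) • (1 : Matrix (Fin d ⊕ Fin d) (Fin d ⊕ Fin d) F) := by
  obtain ⟨τ, hτ⟩ := exists_functional d k hk K hK.field
  obtain ⟨m, u, v, hfr, -⟩ := exists_frame d k hk K hK τ hτ ⊤ (CoordModel.kInv_top K) (nDeg_top d F)
  obtain ⟨Φ, hΦ⟩ := exists_frame_equiv d k hk K hK τ hτ m u v hfr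
  have hcomm : ∀ a b : K, a * b = b * a := fun a b => Subtype.ext (hK.field.comm a.1 a.2 b.1 b.2)
  -- the transformation `(a, b) ↦ (-b, a)`
  let T : ((Fin m → K) × (Fin m → K)) →ₗ[F] ((Fin m → K) × (Fin m → K)) :=
    (-(LinearMap.snd F (Fin m → K) (Fin m → K))).prod (LinearMap.fst F (Fin m → K) (Fin m → K))
  have hT : ∀ p : (Fin m → K) × (Fin m → K), T p = (-p.2, p.1) := fun p => rfl
  have hTT : ∀ p : (Fin m → K) × (Fin m → K), T (T p) = -p := by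
    intro p
    rw [hT, hT]
    rfl
  have h1 : T ∘ₗ (-T) = LinearMap.id := by
    apply LinearMap.ext
    intro p
    simp only [LinearMap.comp_apply, LinearMap.neg_apply, map_neg, hTT, neg_neg, LinearMap.id_apply]
  have h2 : (-T) ∘ₗ T = LinearMap.id := by
    apply LinearMap.ext
    intro p
    simp only [LinearMap.comp_apply, LinearMap.neg_apply, hTT, neg_neg, LinearMap.id_apply]
  refine ⟨CoordModel.glOf Φ T (-T) h1 h2, ?_, ?_, ?_⟩
  · apply CoordModel.mem_spGL_of_coord Φ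
    rintro ⟨a, b⟩ ⟨a', b'⟩
    rw [CoordModel.glOf_val, CoordModel.matOf_mulVec, CoordModel.matOf_mulVec, hT, hT,
      CoordModel.form_coord Φ hΦ hfr, CoordModel.form_coord Φ hΦ hfr]
    apply Finset.sum_congr rfl
    intro s _
    have key : ∀ x y : K, τ (-x * y) = -τ (y * x) := fun x y =>
      ((congrArg τ (neg_mul x y)).trans (map_neg τ (x * y))).trans
        (congrArg (fun z => -τ z) (hcomm x y))
    have k1 : τ ((-b) s * a' s) = -τ (a' s * b s) := key (b s) (a' s)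
    have k2 : τ ((-b') s * a s) = -τ (a s * b' s) := key (b' s) (a s)
    show τ ((-b) s * a' s) - τ ((-b') s * a s) = τ (a s * b' s) - τ (a' s * b s)
    rw [k1, k2]
    ring
  · have hc : ∀ c ∈ K, (CoordModel.matOf Φ T) * c = c * (CoordModel.matOf Φ T) := by
      intro c hc
      apply CoordModel.mat_ext Φ
      rintro ⟨a, b⟩
      rw [← Matrix.mulVec_mulVec, ← Matrix.mulVec_mulVec, CoordModel.matOf_mulVec, hT,
        CoordModel.coord_mulVec Φ hΦ ⟨c, hc⟩ a b, CoordModel.coord_mulVec Φ hΦ ⟨c, hc⟩ (-b) a,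
        CoordModel.matOf_mulVec, hT]
      congr 2
      funext s
      exact (mul_neg (⟨c, hc⟩ : K) (b s)).symm
    apply CoordModel.mem_normalizer_of_semi K
    · intro c hcK
      exact ⟨c, hcK, hc c hcK⟩
    · intro c hcK
      exact ⟨c, hcK, hc c hcK⟩
  · rw [CoordModel.glOf_val, CoordModel.matOf_mul]
    apply CoordModel.mat_ext Φ
    intro p
    rw [CoordModel.matOf_mulVec, LinearMap.comp_apply, hTT, map_neg, Matrix.smul_mulVec,
      Matrix.one_mulVec, neg_one_smul]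

end Cfsg.Agent.S5975P
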