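import Mathlib
import Cfsg.Prelude.Def_GeometricClasses
import Cfsg.Prelude.Def_ClassicalGeometry
import Cfsg.Agent.Helper27.S5975Defs
import Cfsg.Agent.Helper21.FS1
import Cfsg.Agent.Helper21.FS4
import Cfsg.Agent.Helper29.S5976CARDSP
import Cfsg.Agent.Helper8.S5975RESTRICT
import Cfsg.Agent.Helper22.S5975MODELM

set_option autoImplicit false
open scoped MatrixGroups

/-! S5975 piece EMBED (helper22). -/

namespace Cfsg.Agent.S5975P

open Matrix in
/-- EMBED (uses FEQUIV, FFORM, RESTRICT, S5976P.card_spGL) -/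
theorem card_dvd_of_frame {F : Type*} [Field F] [Fintype F] (d k : ℕ) (hd : 1 ≤ d) (hk : 0 < k)
    (K : Subalgebra F (Matrix (Fin d ⊕ Fin d) (Fin d ⊕ Fin d) F)) (hK : HypK d k F K)
    (τ : K →ₗ[F] F) (hτ : τ ≠ 0) (m : ℕ) (u v : Fin m → (Fin d ⊕ Fin d → F))
    (hfr : IsFrame d F K τ ⊤ m u v) :
    (Fintype.card F ^ k) ^ (m ^ 2) *
        ∏ t ∈ Finset.range m, ((Fintype.card F ^ k) ^ (2 * (t + 1)) - 1) ∣
      Nat.card ↥(Cfsg.spGL d F ⊓ Cfsg.Geo.subalgebraNormalizer K) := by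
  classical
  haveI : Nonempty (Fin d ⊕ Fin d) := ⟨Sum.inl ⟨0, hd⟩⟩
  letI := Cfsg.Agent.Helper21.FS.fieldOf hK.field
  obtain ⟨Φ, hΦ⟩ := exists_frame_equiv d k hk K hK τ hτ m u v hfr
  have hcomm : ∀ a b : K, a * b = b * a := fun a b => Subtype.ext (hK.field.comm a.1 a.2 b.1 b.2)
  let e : (Fin m ⊕ Fin m → K) ≃ₗ[F] ((Fin m → K) × (Fin m → K)) :=
    (LinearEquiv.sumArrowLequivProdArrow (Fin m) (Fin m) F K).trans
      (LinearEquiv.prodComm F (Fin m → K) (Fin m → K))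
  let Φ' : (Fin m ⊕ Fin m → K) ≃ₗ[F] (Fin d ⊕ Fin d → F) := e.trans Φ
  have hΦ' : ∀ c : Fin m ⊕ Fin m → K,
      Φ' c = Φ (fun s => c (Sum.inr s), fun s => c (Sum.inl s)) := fun c => rfl
  obtain ⟨ρ, hρinj, hρ⟩ := exists_restrict_hom (F := F) (L := K) Φ'
  -- the form
  have hform : ∀ c c' : Fin m ⊕ Fin m → K,
      Cfsg.sympForm d F (Φ' c) (Φ' c') = τ (Cfsg.sympForm m K c c') := by
    intro c c'
    rw [hΦ', hΦ', CoordModel.form_coord Φ hΦ hfr, sympForm_apply, map_sum]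
    apply Finset.sum_congr rfl
    intro s _
    rw [map_sub, hcomm (c' (Sum.inr s)) (c (Sum.inl s))]
  -- the action of `K`
  have hact : ∀ (a : K) (c : Fin m ⊕ Fin m → K), a.1 *ᵥ Φ' c = Φ' (a • c) := by
    intro a c
    rw [hΦ', hΦ', CoordModel.coord_mulVec Φ hΦ a]
    rfl
  have hmem : ∀ A : GL (Fin m ⊕ Fin m) K, A ∈ Cfsg.spGL m K →
      ρ A ∈ Cfsg.spGL d F ⊓ Cfsg.Geo.subalgebraNormalizer K := by
    intro A hA
    refine ⟨?_, ?_⟩
    · apply CoordModel.mem_spGL_of_coord Φ'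
      intro c c'
      rw [hρ, hρ, hform, hform]
      exact congrArg τ (hA c c')
    · have hc : ∀ a ∈ K, (ρ A : Matrix (Fin d ⊕ Fin d) (Fin d ⊕ Fin d) F) * a =
          a * (ρ A : Matrix (Fin d ⊕ Fin d) (Fin d ⊕ Fin d) F) := by
        intro a ha
        apply CoordModel.mat_ext Φ'
        intro c
        rw [← Matrix.mulVec_mulVec, ← Matrix.mulVec_mulVec, hρ, hact ⟨a, ha⟩ c, hρ,
          hact ⟨a, ha⟩, Matrix.mulVec_smul]
      apply CoordModel.mem_normalizer_of_semi K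
      · intro c hcK
        exact ⟨c, hcK, hc c hcK⟩
      · intro c hcK
        exact ⟨c, hcK, hc c hcK⟩
  let g : ↥(Cfsg.spGL m K) →* ↥(Cfsg.spGL d F ⊓ Cfsg.Geo.subalgebraNormalizer K) :=
    (ρ.comp (Cfsg.spGL m K).subtype).codRestrict _ (fun A => hmem A.1 A.2)
  have hginj : Function.Injective g := by
    intro A B h
    have h' : ρ A.1 = ρ B.1 := congrArg Subtype.val h
    exact Subtype.ext (hρinj h')
  have hdvd := Subgroup.card_dvd_of_injective g hginj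
  letI : Fintype K := Fintype.ofFinite K
  have hcardK : Fintype.card K = Fintype.card F ^ k := by
    rw [← Nat.card_eq_fintype_card]
    exact Cfsg.Agent.Helper21.FS.natCard_eq hK.field
  rw [Cfsg.Agent.S5976P.card_spGL, hcardK] at hdvd
  exact hdvd

end Cfsg.Agent.S5975P
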