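import Mathlib
import Cfsg.Prelude.Def_GeometricClasses
import Cfsg.Prelude.Def_ClassicalGeometry
import Cfsg.Agent.Helper27.S5975Defs
import Cfsg.Agent.Helper20.S5975SIGMA2
import Cfsg.Agent.Helper22.S5975MODELM

set_option autoImplicit false
open scoped MatrixGroups

/-! S5975 piece MODELP (helper22). -/

namespace Cfsg.Agent.S5975P

open Matrix in
/-- MODELP (uses SIGMA2, FRAME, FEQUIV, FFORM) -/
theorem exists_inv_model {F : Type*} [Field F] (h2 : (2 : F) ≠ 0)
    (K : Subalgebra F (Matrix (Fin 2 ⊕ Fin 2) (Fin 2 ⊕ Fin 2) F)) (hK : HypK 2 2 F K) :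
    ∃ y : GL (Fin 2 ⊕ Fin 2) F, y ∈ Cfsg.spGL 2 F ∧ y ∈ Cfsg.Geo.subalgebraNormalizer K ∧
      (y : Matrix (Fin 2 ⊕ Fin 2) (Fin 2 ⊕ Fin 2) F) *
        (y : Matrix (Fin 2 ⊕ Fin 2) (Fin 2 ⊕ Fin 2) F) = 1 ∧
      Module.finrank F (LinearMap.ker (Matrix.toLin'
        ((y : Matrix (Fin 2 ⊕ Fin 2) (Fin 2 ⊕ Fin 2) F) - 1))) = 2 := by
  obtain ⟨σ, τ, hσmul, hσσ, hσfix, hσalg, hτ, hτσ⟩ := exists_conj_functional h2 2 K hK.field
  obtain ⟨m, u, v, hfr, hdim⟩ :=
    exists_frame 2 2 (by norm_num) K hK τ hτ ⊤ (CoordModel.kInv_top K) (nDeg_top 2 F)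
  obtain ⟨Φ, hΦ⟩ := exists_frame_equiv 2 2 (by norm_num) K hK τ hτ m u v hfr
  have hm : m = 1 := by
    rw [finrank_top, Module.finrank_fintype_fun_eq_card] at hdim
    simp only [Fintype.card_sum, Fintype.card_fin] at hdim
    omega
  -- the transformation `(a, b) ↦ (σ ∘ a, σ ∘ b)`
  let T : ((Fin m → K) × (Fin m → K)) →ₗ[F] ((Fin m → K) × (Fin m → K)) :=
    LinearMap.prodMap (σ.compLeft (Fin m)) (σ.compLeft (Fin m))
  have hT : ∀ p : (Fin m → K) × (Fin m → K), T p = (fun s => σ (p.1 s), fun s => σ (p.2 s)) :=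
    fun p => rfl
  have hTT : ∀ p : (Fin m → K) × (Fin m → K), T (T p) = p := by
    intro p
    rw [hT, hT]
    apply Prod.ext
    · funext s
      exact hσσ _
    · funext s
      exact hσσ _
  have h1 : T ∘ₗ T = LinearMap.id := by
    apply LinearMap.ext
    intro p
    rw [LinearMap.comp_apply, hTT, LinearMap.id_apply]
  -- `y c = σ(c) y`
  have hsemi : ∀ c : K, (CoordModel.matOf Φ T) * c.1 = (σ c).1 * (CoordModel.matOf Φ T) := by
    intro c
    apply CoordModel.mat_ext Φ
    rintro ⟨a, b⟩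
    rw [← Matrix.mulVec_mulVec, ← Matrix.mulVec_mulVec, CoordModel.matOf_mulVec, hT,
      CoordModel.coord_mulVec Φ hΦ c a b, CoordModel.coord_mulVec Φ hΦ (σ c) _ _,
      CoordModel.matOf_mulVec, hT]
    congr 2
    · funext s
      exact hσmul c (a s)
    · funext s
      exact hσmul c (b s)
  refine ⟨CoordModel.glOf Φ T T h1 h1, ?_, ?_, ?_, ?_⟩
  · apply CoordModel.mem_spGL_of_coord Φ
    rintro ⟨a, b⟩ ⟨a', b'⟩
    rw [CoordModel.glOf_val, CoordModel.matOf_mulVec, CoordModel.matOf_mulVec, hT, hT,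
      CoordModel.form_coord Φ hΦ hfr, CoordModel.form_coord Φ hΦ hfr]
    apply Finset.sum_congr rfl
    intro s _
    show τ (σ (a s) * σ (b' s)) - τ (σ (a' s) * σ (b s)) = τ (a s * b' s) - τ (a' s * b s)
    rw [← hσmul, ← hσmul, hτσ, hτσ]
  · apply CoordModel.mem_normalizer_of_semi K
    · intro c hcK
      exact ⟨(σ ⟨c, hcK⟩).1, (σ ⟨c, hcK⟩).2, hsemi ⟨c, hcK⟩⟩
    · intro c hcK
      refine ⟨(σ ⟨c, hcK⟩).1, (σ ⟨c, hcK⟩).2, ?_⟩
      have := hsemi (σ ⟨c, hcK⟩)
      rw [hσσ] at this
      exact this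
  · rw [CoordModel.glOf_val, CoordModel.matOf_mul, h1, CoordModel.matOf_id]
  · rw [CoordModel.glOf_val]
    -- the inclusion of the `F`-points
    let ι : ((Fin m → F) × (Fin m → F)) →ₗ[F] ((Fin m → K) × (Fin m → K)) :=
      LinearMap.prodMap ((Algebra.linearMap F K).compLeft (Fin m))
        ((Algebra.linearMap F K).compLeft (Fin m))
    have hι : ∀ p : (Fin m → F) × (Fin m → F),
        ι p = (fun s => algebraMap F K (p.1 s), fun s => algebraMap F K (p.2 s)) := fun p => rfl
    have hιinj : Function.Injective ι := by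
      intro p p' h
      rw [hι, hι] at h
      have h1' := congrArg Prod.fst h
      have h2' := congrArg Prod.snd h
      apply Prod.ext
      · funext s
        exact (algebraMap F K).injective (congrFun h1' s)
      · funext s
        exact (algebraMap F K).injective (congrFun h2' s)
    have hker : LinearMap.ker (Matrix.toLin' (CoordModel.matOf Φ T - 1)) =
        Submodule.map Φ.toLinearMap (LinearMap.range ι) := by
      ext x
      obtain ⟨p, rfl⟩ := Φ.surjective x
      rw [LinearMap.mem_ker, Matrix.toLin'_apply, Matrix.sub_mulVec, Matrix.one_mulVec,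
        CoordModel.matOf_mulVec, sub_eq_zero]
      constructor
      · intro h
        have hp : T p = p := Φ.injective h
        rw [hT] at hp
        have hp1 : ∀ s, σ (p.1 s) = p.1 s := fun s => congrFun (congrArg Prod.fst hp) s
        have hp2 : ∀ s, σ (p.2 s) = p.2 s := fun s => congrFun (congrArg Prod.snd hp) s
        choose α hα using fun s => hσfix (p.1 s) (hp1 s)
        choose β hβ using fun s => hσfix (p.2 s) (hp2 s)
        refine ⟨p, ⟨(α, β), ?_⟩, rfl⟩
        rw [hι]
        apply Prod.ext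
        · funext s
          exact (hα s).symm
        · funext s
          exact (hβ s).symm
      · rintro ⟨p', ⟨q, rfl⟩, hq⟩
        have : p = ι q := Φ.injective hq.symm
        rw [this, hT, hι]
        congr 1
        apply Prod.ext
        · funext s
          exact hσalg _
        · funext s
          exact hσalg _
    rw [hker]
    have e1 : Module.finrank F ↥(Submodule.map Φ.toLinearMap (LinearMap.range ι)) =
        Module.finrank F ↥(LinearMap.range ι) := LinearEquiv.finrank_map_eq Φ _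
    rw [e1, LinearMap.finrank_range_of_inj hιinj, Module.finrank_prod,
      Module.finrank_fintype_fun_eq_card, Fintype.card_fin, hm]

end Cfsg.Agent.S5975P
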