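import Mathlib
import Cfsg.Prelude.Def_GeometricClasses
import Cfsg.Prelude.Def_Classical
import Cfsg.Prelude.Def_LieClassical
import Cfsg.Agent.Helper11.AltRank

/-! # S5981 piece EVENRANK: for an isometry of odd order, `x - 1` has even rank -/

set_option autoImplicit false
open scoped MatrixGroups Matrix

namespace Cfsg.Agent.S5981P

namespace EVENRANK

variable {F : Type*} [Field F] {n : ℕ}

/-- `x + 1` is invertible when `x` has odd order -/
theorem det_add_one_ne_zero (h2 : (2 : F) ≠ 0) (x : Matrix (Fin n) (Fin n) F) (r : ℕ) (hr : Odd r)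
    (hxr : x ^ r = 1) : (x + 1).det ≠ 0 := by
  intro hdet
  obtain ⟨v, hv0, hv⟩ := Matrix.exists_mulVec_eq_zero_iff.mpr hdet
  have hxv : x *ᵥ v = -v := by
    rw [Matrix.add_mulVec, Matrix.one_mulVec] at hv
    exact eq_neg_of_add_eq_zero_left hv
  have hpow : ∀ k : ℕ, (x ^ k) *ᵥ v = (-1 : F) ^ k • v := by
    intro k
    induction k with
    | zero => simp
    | succ k ih =>
      rw [pow_succ, ← Matrix.mulVec_mulVec, hxv, Matrix.mulVec_neg, ih, pow_succ, mul_neg_one,
        neg_smul]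
  have h1 := hpow r
  rw [hxr, Matrix.one_mulVec, hr.neg_one_pow, neg_one_smul] at h1
  apply hv0
  have h3 : (2 : F) • v = 0 := by
    rw [two_smul]
    nth_rewrite 1 [h1]
    exact neg_add_cancel v
  exact (smul_eq_zero.mp h3).resolve_left h2

end EVENRANK

/-- EVENRANK: for an isometry of odd order, `x - 1` has even rank
(`Cfsg.Agent.Helper11.AltRank.even_rank_of_alt`) -/
theorem even_rank_of_isometry {F : Type*} [Field F] (h2 : (2 : F) ≠ 0) {n : ℕ}
    (G x : Matrix (Fin n) (Fin n) F) (hGs : Gᵀ = G) (hG : G.det ≠ 0) (hx : xᵀ * G * x = G)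
    (r : ℕ) (hr : Odd r) (hxr : x ^ r = 1) : Even (x - 1).rank := by
  classical
  obtain ⟨k, hk⟩ : ∃ k, r = k + 1 := by
    obtain ⟨m, hm⟩ := hr
    exact ⟨2 * m, by omega⟩
  set xi : Matrix (Fin n) (Fin n) F := x ^ k with hxi
  have hxxi : x * xi = 1 := by rw [hxi, ← pow_succ', ← hk, hxr]
  have hxix : xi * x = 1 := by rw [hxi, ← pow_succ, ← hk, hxr]
  have hxiG : xᵀ * G = G * xi := by
    calc xᵀ * G = xᵀ * G * (x * xi) := by rw [hxxi, mul_one]
      _ = (xᵀ * G * x) * xi := by rw [mul_assoc, mul_assoc, mul_assoc]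
      _ = G * xi := by rw [hx]
  -- the skew matrix
  set S : Matrix (Fin n) (Fin n) F := G * x - xᵀ * G with hS
  have hSt : Sᵀ = -S := by
    rw [hS, Matrix.transpose_sub, Matrix.transpose_mul, Matrix.transpose_mul,
      Matrix.transpose_transpose, hGs, neg_sub]
  have halt : ∀ v : Fin n → F, v ⬝ᵥ (S *ᵥ v) = 0 := by
    intro v
    have h1 : v ⬝ᵥ (S *ᵥ v) = (Sᵀ *ᵥ v) ⬝ᵥ v := by
      rw [Matrix.mulVec_transpose, Matrix.dotProduct_mulVec]
    rw [hSt, Matrix.neg_mulVec, neg_dotProduct, dotProduct_comm (S *ᵥ v) v] at h1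
    have h3 : (2 : F) * (v ⬝ᵥ (S *ᵥ v)) = 0 := by linear_combination h1
    exact (mul_eq_zero.mp h3).resolve_left h2
  have hev := Cfsg.Agent.Helper11.AltRank.even_rank_of_alt S halt
  -- the rank of `S`
  have hfac : S = (G * xi) * ((x - 1) * (x + 1)) := by
    have h4 : xi * ((x - 1) * (x + 1)) = x - xi := by
      have : (x - 1) * (x + 1) = x * x - 1 := by
        rw [sub_mul, mul_add, mul_one, one_mul]
        abel
      rw [this, mul_sub, ← mul_assoc, hxix, one_mul, mul_one]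
    rw [mul_assoc, h4, hS, hxiG, mul_sub]
  have hdetxi : IsUnit xi.det := by
    have : xi.det * x.det = 1 := by rw [← Matrix.det_mul, hxix, Matrix.det_one]
    exact IsUnit.of_mul_eq_one _ this
  have hdetGxi : IsUnit (G * xi).det := by
    rw [Matrix.det_mul]
    exact (isUnit_iff_ne_zero.mpr hG).mul hdetxi
  have hdetx1 : IsUnit (x + 1).det :=
    isUnit_iff_ne_zero.mpr (EVENRANK.det_add_one_ne_zero h2 x r hr hxr)
  rw [hfac, Matrix.rank_mul_eq_right_of_isUnit_det _ _ hdetGxi,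
    Matrix.rank_mul_eq_left_of_isUnit_det _ _ hdetx1] at hev
  exact hev

end Cfsg.Agent.S5981P
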