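import Mathlib
import Cfsg.Prelude.Def_GeometricClasses
import Cfsg.Prelude.Def_Classical
import Cfsg.Prelude.Def_LieClassical

/-! # S5981 piece GRAM: the Gram matrix of the polar form -/

set_option autoImplicit false
open scoped MatrixGroups Matrix

namespace Cfsg.Agent.S5981P

/-- GRAM: the Gram matrix of the polar form -/
theorem exists_gram {F : Type*} [Field F] {n : ℕ} (Q : (Fin n → F) → F)
    (hQ : Cfsg.Geo.IsNondegenerateQuadraticForm Q) :
    ∃ G : Matrix (Fin n) (Fin n) F, Gᵀ = G ∧ G.det ≠ 0 ∧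
      (∀ u v, QuadraticMap.polar Q u v = u ⬝ᵥ G *ᵥ v) ∧
      ∀ (x : Matrix (Fin n) (Fin n) F) (c : F), (∀ v, Q (x *ᵥ v) = c * Q v) →
        xᵀ * G * x = c • G := by
  classical
  obtain ⟨-, hbil, hnd⟩ := hQ
  let B : LinearMap.BilinForm F (Fin n → F) :=
    LinearMap.mk₂ F (QuadraticMap.polar Q) hbil.add_left
      (fun c x v => by rw [hbil.smul_left, smul_eq_mul]) hbil.add_right
      (fun c v x => by rw [hbil.smul_right, smul_eq_mul])
  have hB : ∀ u v, B u v = QuadraticMap.polar Q u v := fun u v => rfl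
  have hpol : ∀ u v, QuadraticMap.polar Q u v =
      u ⬝ᵥ (LinearMap.BilinForm.toMatrix' B) *ᵥ v := by
    intro u v
    rw [← Matrix.toBilin'_apply', Matrix.toBilin'_toMatrix', hB]
  refine ⟨LinearMap.BilinForm.toMatrix' B, ?_, ?_, hpol, ?_⟩
  · ext i j
    rw [Matrix.transpose_apply, LinearMap.BilinForm.toMatrix'_apply,
      LinearMap.BilinForm.toMatrix'_apply, hB, hB, QuadraticMap.polar_comm]
  · intro hdet
    obtain ⟨v, hv0, hv⟩ := Matrix.exists_mulVec_eq_zero_iff.mpr hdet
    obtain ⟨⟨u, hu⟩, -⟩ := hnd v hv0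
    apply hu
    rw [hpol, hv, dotProduct_zero]
  · intro x c hx
    have hcomp : B.comp (Matrix.toLin' x) (Matrix.toLin' x) = c • B := by
      refine LinearMap.ext₂ (fun u v => ?_)
      rw [LinearMap.BilinForm.comp_apply, Matrix.toLin'_apply, Matrix.toLin'_apply,
        LinearMap.smul_apply, LinearMap.smul_apply, smul_eq_mul, hB, hB]
      unfold QuadraticMap.polar
      rw [← Matrix.mulVec_add, hx, hx, hx]
      ring
    have h1 := LinearMap.BilinForm.toMatrix'_comp B (Matrix.toLin' x) (Matrix.toLin' x)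
    rw [hcomp, LinearMap.toMatrix'_toLin', map_smul] at h1
    exact h1.symm

end Cfsg.Agent.S5981P
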