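import Mathlib
import Cfsg.Prelude.Def_GeometricClasses
import Cfsg.Prelude.Def_Classical
import Cfsg.Prelude.Def_LieClassical
import Cfsg.Agent.Helper22.S5981GRAM

/-! # S5981 piece IDX: the index of the similitudes of determinant one -/

set_option autoImplicit false
open scoped MatrixGroups Matrix

namespace Cfsg.Agent.S5981P

namespace IDX

/-- the special linear subgroup of `GL` has the order of `SL` -/
theorem card_specialLinear {F : Type*} [Field F] (n : ℕ) :
    Nat.card ↥(Cfsg.Geo.specialLinear (Fin n) F) =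
      Nat.card (Matrix.SpecialLinearGroup (Fin n) F) := by
  classical
  set L := Cfsg.Geo.specialLinear (Fin n) F with hL
  let ι : Matrix.SpecialLinearGroup (Fin n) F →* GL (Fin n) F := Matrix.SpecialLinearGroup.toGL
  have hιinj : Function.Injective ι := Matrix.SpecialLinearGroup.toGL_injective
  have hmemL : ∀ g : GL (Fin n) F, g ∈ L ↔ Matrix.GeneralLinearGroup.det g = 1 :=
    fun g => MonoidHom.mem_ker
  have hrange : ι.range = L := by
    apply le_antisymm
    · rintro _ ⟨A, rfl⟩
      rw [hmemL]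
      exact Matrix.SpecialLinearGroup.coeToGL_det A
    · intro g hg
      rw [hmemL] at hg
      have hdet : Matrix.det (g : Matrix (Fin n) (Fin n) F) = 1 := by
        rw [← Matrix.GeneralLinearGroup.val_det_apply, hg, Units.val_one]
      exact ⟨⟨(g : Matrix (Fin n) (Fin n) F), hdet⟩, Units.ext rfl⟩
  rw [← hrange]
  exact (Nat.card_congr (MonoidHom.ofInjective hιinj).toEquiv).symm

end IDX

/-- IDX: `r ∣ |SL : SL ∩ Sim Q|`, `r` odd => `v_r |O(Q)| < v_r |SL_n(F)|` -/
theorem val_lt_of_dvd_relIndex {F : Type*} [Field F] [Fintype F] {n : ℕ} (Q : (Fin n → F) → F)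
    (hQ : Cfsg.Geo.IsNondegenerateQuadraticForm Q) (r : ℕ) [Fact r.Prime] (hr2 : r ≠ 2)
    (hΩ : r ∣ (Cfsg.Geo.quadSimilarityGroup Q).relIndex (Cfsg.Geo.specialLinear (Fin n) F)) :
    padicValNat r (Nat.card (Cfsg.isometryGroup F Q)) <
      padicValNat r (Nat.card (Matrix.SpecialLinearGroup (Fin n) F)) := by
  classical
  have hr : r.Prime := Fact.out
  set S := Cfsg.Geo.quadSimilarityGroup Q with hS
  set L := Cfsg.Geo.specialLinear (Fin n) F with hL
  set O := Cfsg.isometryGroup F Q with hO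
  have hmemL : ∀ g : GL (Fin n) F, g ∈ L ↔ Matrix.GeneralLinearGroup.det g = 1 :=
    fun g => MonoidHom.mem_ker
  have hmemO : ∀ g : GL (Fin n) F, g ∈ O ↔
      ∀ v, Q ((g : Matrix (Fin n) (Fin n) F) *ᵥ v) = Q v := by
    intro g
    constructor
    · intro hg v
      exact hg v v
    · intro hg u _
      exact hg u
  -- `O ≤ S`
  have hOS : O ≤ S := by
    intro g hg
    refine ⟨1, fun v => ?_⟩
    rw [Units.val_one, one_mul]
    exact (hmemO g).mp hg v
  -- Lagrange for `S ⊓ L ≤ L`
  have hlag : S.relIndex L * Nat.card ↥(S ⊓ L : Subgroup (GL (Fin n) F)) = Nat.card ↥L := by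
    rw [← Subgroup.inf_relIndex_right]
    have h1 := ((S ⊓ L).subgroupOf L).index_mul_card
    rwa [Nat.card_congr (Subgroup.subgroupOfEquivOfLe (inf_le_right : S ⊓ L ≤ L)).toEquiv] at h1
  have hpos1 : S.relIndex L ≠ 0 := by
    intro h
    rw [h, zero_mul] at hlag
    exact Nat.card_pos.ne' hlag.symm
  have hpos2 : Nat.card ↥(S ⊓ L : Subgroup (GL (Fin n) F)) ≠ 0 := Nat.card_pos.ne'
  have h1 : padicValNat r (Nat.card ↥L) =
      padicValNat r (S.relIndex L) + padicValNat r (Nat.card ↥(S ⊓ L : Subgroup (GL (Fin n) F))) := by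
    rw [← hlag, padicValNat.mul hpos1 hpos2]
  have h3 : 1 ≤ padicValNat r (S.relIndex L) := one_le_padicValNat_of_dvd hpos1 hΩ
  -- `O ⊓ L ≤ S ⊓ L`
  have hdvd : Nat.card ↥(O ⊓ L : Subgroup (GL (Fin n) F)) ∣
      Nat.card ↥(S ⊓ L : Subgroup (GL (Fin n) F)) :=
    Subgroup.card_dvd_of_le (inf_le_inf_right L hOS)
  have hpos4 : Nat.card ↥(O ⊓ L : Subgroup (GL (Fin n) F)) ≠ 0 := Nat.card_pos.ne'
  have h2 : padicValNat r (Nat.card ↥(O ⊓ L : Subgroup (GL (Fin n) F))) ≤
      padicValNat r (Nat.card ↥(S ⊓ L : Subgroup (GL (Fin n) F))) :=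
    (padicValNat_dvd_iff_le hpos2).mp ((pow_padicValNat_dvd).trans hdvd)
  -- the determinant on `O`
  obtain ⟨G, -, hGdet, -, hGx⟩ := exists_gram Q hQ
  have hdetO : ∀ g ∈ O, Matrix.GeneralLinearGroup.det g = 1 ∨
      Matrix.GeneralLinearGroup.det g = -1 := by
    intro g hg
    have h4 := hGx (g : Matrix (Fin n) (Fin n) F) 1
      (fun v => by rw [one_mul]; exact (hmemO g).mp hg v)
    rw [one_smul] at h4
    have h5 := congrArg Matrix.det h4
    rw [Matrix.det_mul, Matrix.det_mul, Matrix.det_transpose] at h5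
    have h6 : Matrix.det (g : Matrix (Fin n) (Fin n) F) * Matrix.det (g : Matrix (Fin n) (Fin n) F)
        = 1 := by
      have : (Matrix.det (g : Matrix (Fin n) (Fin n) F) *
          Matrix.det (g : Matrix (Fin n) (Fin n) F)) * G.det = 1 * G.det := by
        rw [one_mul]
        linear_combination h5
      exact mul_right_cancel₀ hGdet this
    rcases mul_self_eq_one_iff.mp h6 with h7 | h7
    · left
      apply Units.ext
      rw [Matrix.GeneralLinearGroup.val_det_apply, h7, Units.val_one]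
    · right
      apply Units.ext
      rw [Matrix.GeneralLinearGroup.val_det_apply, h7, Units.val_neg, Units.val_one]
  let φ : ↥O →* Fˣ := (Matrix.GeneralLinearGroup.det : GL (Fin n) F →* Fˣ).comp O.subtype
  have hker : φ.ker = (O ⊓ L).subgroupOf O := by
    ext g
    rw [MonoidHom.mem_ker, Subgroup.mem_subgroupOf, Subgroup.mem_inf]
    show Matrix.GeneralLinearGroup.det (g : GL (Fin n) F) = 1 ↔ _
    rw [hmemL]
    exact ⟨fun h => ⟨g.2, h⟩, fun h => h.2⟩
  have hcardker : Nat.card ↥φ.ker = Nat.card ↥(O ⊓ L : Subgroup (GL (Fin n) F)) := by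
    rw [hker]
    exact Nat.card_congr (Subgroup.subgroupOfEquivOfLe (inf_le_left : O ⊓ L ≤ O)).toEquiv
  have hrange : (φ.range : Set Fˣ) ⊆ {1, -1} := by
    rintro _ ⟨g, rfl⟩
    rcases hdetO (g : GL (Fin n) F) g.2 with h | h
    · left; exact h
    · right; exact h
  have hrcard : Nat.card ↥φ.range ≤ 2 := by
    have h8 : Nat.card ↥φ.range = (φ.range : Set Fˣ).ncard := rfl
    rw [h8]
    calc (φ.range : Set Fˣ).ncard ≤ ({1, -1} : Set Fˣ).ncard :=
          Set.ncard_le_ncard hrange (Set.toFinite _)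
      _ ≤ ({-1} : Set Fˣ).ncard + 1 := Set.ncard_insert_le _ _
      _ = 2 := by rw [Set.ncard_singleton]
  have hrpos : 0 < Nat.card ↥φ.range := Nat.card_pos
  have hrval : padicValNat r (Nat.card ↥φ.range) = 0 := by
    apply padicValNat.eq_zero_of_not_dvd
    intro hdiv
    have := Nat.le_of_dvd hrpos hdiv
    have := hr.two_le
    omega
  have hOcard : Nat.card ↥O = Nat.card ↥φ.ker * Nat.card ↥φ.range := by
    rw [← Subgroup.index_ker, Subgroup.card_mul_index]
  have h9 : padicValNat r (Nat.card ↥O) =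
      padicValNat r (Nat.card ↥(O ⊓ L : Subgroup (GL (Fin n) F))) := by
    rw [hOcard, padicValNat.mul (by rw [hcardker]; exact hpos4) hrpos.ne', hrval, add_zero,
      hcardker]
  rw [IDX.card_specialLinear n] at h1
  omega

end Cfsg.Agent.S5981P
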