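import Mathlib
import Cfsg.Prelude.Def_GeometricClasses
import Cfsg.Prelude.Def_Classical
import Cfsg.Prelude.Def_LieClassical

/-! # S5981 piece INVFIX -/

set_option autoImplicit false
open scoped MatrixGroups Matrix

namespace Cfsg.Agent.S5981P

/-- INVFIX: an involution of an odd number of points has a fixed point -/
theorem exists_fixed_of_involution {n : ℕ} (hn : Odd n) (π : Equiv.Perm (Fin n))
    (hπ : ∀ j, π (π j) = j) : ∃ j, π j = j := by
  classical
  by_contra hcon
  push Not at hcon
  have hsq : π ^ 2 = 1 := by
    ext j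
    rw [pow_two, Equiv.Perm.mul_apply, hπ, Equiv.Perm.one_apply]
  have h2 := Equiv.Perm.two_dvd_card_support hsq
  have hsupp : π.support = Finset.univ := by
    ext j
    simp only [Equiv.Perm.mem_support, Finset.mem_univ, iff_true]
    exact hcon j
  rw [hsupp, Finset.card_univ, Fintype.card_fin] at h2
  exact (Nat.not_even_iff_odd.mpr hn) (even_iff_two_dvd.mpr h2)

end Cfsg.Agent.S5981P
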