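import Mathlib
import Cfsg.Prelude.Def_GeometricClasses
import Cfsg.Prelude.Def_Classical
import Cfsg.Prelude.Def_LieClassical

/-! # S5981 piece SEMIREG -/

set_option autoImplicit false
open scoped MatrixGroups Matrix

namespace Cfsg.Agent.S5981P

/-- SEMIREG: an isometry of prime order `r` without non-zero fixed vectors: `r` divides the number of
non-zero singular vectors -/
theorem dvd_card_singular_of_fpf {F : Type*} [Field F] [Fintype F] {n : ℕ} (Q : (Fin n → F) → F)
    (y : Matrix (Fin n) (Fin n) F) (hy : ∀ v, Q (y *ᵥ v) = Q v) (r : ℕ) [Fact r.Prime]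
    (hyr : y ^ r = 1) (hfix : ∀ v, y *ᵥ v = v → v = 0) :
    r ∣ Nat.card {v : Fin n → F // v ≠ 0 ∧ Q v = 0} := by
  classical
  have hr : r.Prime := Fact.out
  obtain ⟨k, hk⟩ : ∃ k, r = k + 1 := ⟨r - 1, by have := hr.pos; omega⟩
  -- `y` is injective
  have hinj : ∀ v, y *ᵥ v = 0 → v = 0 := by
    intro v hv
    have : (y ^ r) *ᵥ v = 0 := by
      rw [hk, pow_succ, ← Matrix.mulVec_mulVec, hv, Matrix.mulVec_zero]
    rwa [hyr, Matrix.one_mulVec] at this
  let X := {v : Fin n → F // v ≠ 0 ∧ Q v = 0}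
  let f : Function.End X := fun v => ⟨y *ᵥ v.1, fun h => v.2.1 (hinj _ h), by rw [hy]; exact v.2.2⟩
  have hpow : ∀ (j : ℕ) (v : X), ((f ^ j) v).1 = (y ^ j) *ᵥ v.1 := by
    intro j
    induction j with
    | zero =>
      intro v
      rw [pow_zero, pow_zero, Matrix.one_mulVec]
      rfl
    | succ j ih =>
      intro v
      rw [pow_succ', pow_succ', ← Matrix.mulVec_mulVec, ← ih]
      rfl
  have hf : f ^ r ^ 1 = 1 := by
    rw [pow_one]
    funext v
    apply Subtype.ext
    rw [hpow, hyr, Matrix.one_mulVec]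
    rfl
  have h := Equiv.Perm.card_fixedPoints_modEq (f := f) (p := r) (n := 1) hf
  have hempty : IsEmpty (Function.fixedPoints f) := by
    constructor
    rintro ⟨v, hv⟩
    have h1 : y *ᵥ v.1 = v.1 := congrArg Subtype.val hv
    exact v.2.1 (hfix _ h1)
  rw [Fintype.card_eq_zero_iff.mpr hempty] at h
  rw [Nat.card_eq_fintype_card]
  exact (Nat.modEq_zero_iff_dvd).mp h

end Cfsg.Agent.S5981P
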