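import Mathlib
import Cfsg.Prelude.Def_GeometricClasses
import Cfsg.Prelude.Def_Classical
import Cfsg.Prelude.Def_LieClassical
import Cfsg.Agent.Helper2.QuadPlus
import Cfsg.Agent.Helper2.QuadMinus

/-! # S5981 pieces SINGPLUS, SINGMINUS: the numbers of non-zero singular vectors -/

set_option autoImplicit false
open scoped MatrixGroups Matrix

namespace Cfsg.Agent.S5981P

open Cfsg.Agent.Helper2.Quad

namespace SING

/-- removing the zero vector from the zero set of a function vanishing at zero -/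
theorem card_nonzero {V : Type*} [Finite V] [Zero V] {F : Type*} [Zero F] (Q : V → F)
    (h0 : Q 0 = 0) :
    Nat.card {w : V // w ≠ 0 ∧ Q w = 0} + 1 = Nat.card {v : V // Q v = 0} := by
  classical
  have e : {v : V // Q v = 0} ≃ Option {w : V // w ≠ 0 ∧ Q w = 0} :=
    { toFun := fun v => if h : v.1 = 0 then none else some ⟨v.1, h, v.2⟩
      invFun := fun o => match o with
        | none => ⟨0, h0⟩
        | some w => ⟨w.1, w.2.2⟩
      left_inv := by
        intro v
        by_cases h : v.1 = 0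
        · simp only [h, dite_true]
          exact Subtype.ext h.symm
        · simp only [h, dite_false]
      right_inv := by
        intro o
        cases o with
        | none => simp
        | some w => simp [w.2.1] }
  rw [Nat.card_congr e]
  have : Finite {w : V // w ≠ 0 ∧ Q w = 0} := Subtype.finite
  rw [Finite.card_option]

end SING

/-- SINGPLUS: the number of non-zero singular vectors of the standard form of plus type -/
theorem card_singular_plus {F : Type*} [Field F] [Fintype F] {q : ℕ} (hq : Fintype.card F = q)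
    (m : ℕ) (hm : 1 ≤ m) :
    Nat.card {w : Fin m ⊕ Fin m → F // w ≠ 0 ∧ Cfsg.quadFormPlus m F w = 0} =
      (q ^ m - 1) * (q ^ (m - 1) + 1) := by
  classical
  have hq2 : 2 ≤ q := by rw [← hq]; exact Fintype.one_lt_card
  have h1 := SING.card_nonzero (fun w : Fin m ⊕ Fin m → F => Cfsg.quadFormPlus m F w)
    (by rw [quadFormPlus_eq]; exact map_zero _)
  have h2 : Nat.card {v : Fin m ⊕ Fin m → F // Cfsg.quadFormPlus m F v = 0} =
      NV (plusModel F m).Q 0 := by
    unfold NV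
    rw [quadFormPlus_eq]
  have h3 : NV (plusModel F m).Q 0 = Sk m (plusModel F m).N₀ 0 := by
    rw [(plusModel F m).NV_eq]
  have h4 := Sk_zero_plus (plusModel F m).N₀ (plusModel F m).N₀_zero
    (by rw [(plusModel F m).sum_N₀]; simp) m
  rw [hq] at h4
  rw [h2, h3] at h1
  obtain ⟨k, rfl⟩ : ∃ k, m = k + 1 := ⟨m - 1, by omega⟩
  rw [Nat.add_sub_cancel]
  set S := Sk (k + 1) (plusModel F (k + 1)).N₀ 0 with hS
  set N := Nat.card {w : Fin (k + 1) ⊕ Fin (k + 1) → F // w ≠ 0 ∧ Cfsg.quadFormPlus (k + 1) F w = 0}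
    with hN
  -- arithmetic
  have hqk : 1 ≤ q ^ k := Nat.one_le_pow _ _ (by omega)
  have h5 : S * q + q ^ (k + 1) = q ^ (2 * (k + 1)) + q ^ (k + 1 + 1) := h4
  have h6 : S = q ^ (2 * k + 1) + q ^ (k + 1) - q ^ k := by
    have hpos : 0 < q := by omega
    have : (S + q ^ k) * q = (q ^ (2 * k + 1) + q ^ (k + 1)) * q := by
      have e1 : q ^ (2 * (k + 1)) = q ^ (2 * k + 1) * q := by rw [← pow_succ]; ring_nf
      have e2 : q ^ (k + 1 + 1) = q ^ (k + 1) * q := pow_succ _ _
      have e3 : q ^ (k + 1) = q ^ k * q := pow_succ _ _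
      rw [add_mul, add_mul, ← e1, ← e2, ← e3]
      exact h5
    have := Nat.eq_of_mul_eq_mul_right hpos this
    omega
  have h7 : q ^ k ≤ q ^ (k + 1) := Nat.pow_le_pow_right (by omega) (by omega)
  have h8 : (q ^ (k + 1) - 1) * (q ^ k + 1) + 1 + q ^ k = q ^ (2 * k + 1) + q ^ (k + 1) := by
    have e1 : q ^ (2 * k + 1) = q ^ (k + 1) * q ^ k := by rw [← pow_add]; ring_nf
    obtain ⟨a, ha⟩ : ∃ a, q ^ (k + 1) = a + 1 := ⟨q ^ (k + 1) - 1, by omega⟩
    rw [e1, ha, Nat.add_sub_cancel]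
    ring
  omega

/-- SINGMINUS: the number of non-zero singular vectors of the standard form of minus type -/
theorem card_singular_minus {F : Type*} [Field F] [Fintype F] {q : ℕ} (hq : Fintype.card F = q)
    (m : ℕ) (hm : 1 ≤ m) (a b : F)
    (hab : ∀ z₁ z₂ : F, z₁ ^ 2 + a * z₁ * z₂ + b * z₂ ^ 2 = 0 → z₁ = 0 ∧ z₂ = 0) :
    Nat.card {w : (Fin (m - 1) ⊕ Fin (m - 1)) ⊕ Fin 2 → F //
        w ≠ 0 ∧ Cfsg.quadFormMinus (m - 1) F a b w = 0} =
      (q ^ m + 1) * (q ^ (m - 1) - 1) := by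
  classical
  have hab' : Aniso a b := hab
  have hq2 : 2 ≤ q := by rw [← hq]; exact Fintype.one_lt_card
  obtain ⟨k, rfl⟩ : ∃ k, m = k + 1 := ⟨m - 1, by omega⟩
  rw [Nat.add_sub_cancel]
  have h1 := SING.card_nonzero
    (fun w : (Fin k ⊕ Fin k) ⊕ Fin 2 → F => Cfsg.quadFormMinus k F a b w)
    (by rw [quadFormMinus_eq k a b hab']; exact map_zero _)
  have h2 : Nat.card {v : (Fin k ⊕ Fin k) ⊕ Fin 2 → F // Cfsg.quadFormMinus k F a b v = 0} =
      NV (minusModel k a b hab').Q 0 := by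
    unfold NV
    rw [quadFormMinus_eq k a b hab']
  have h3 : NV (minusModel k a b hab').Q 0 = Sk k (minusModel k a b hab').N₀ 0 := by
    rw [(minusModel k a b hab').NV_eq]
  have h4 := Sk_zero_minus (minusModel k a b hab').N₀ (minusModel k a b hab').N₀_zero
    (by rw [(minusModel k a b hab').sum_N₀]; simp) k
  rw [hq] at h4
  rw [h2, h3] at h1
  set S := Sk k (minusModel k a b hab').N₀ 0 with hS
  set N := Nat.card {w : (Fin k ⊕ Fin k) ⊕ Fin 2 → F // w ≠ 0 ∧ Cfsg.quadFormMinus k F a b w = 0}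
    with hN
  have hqk : 1 ≤ q ^ k := Nat.one_le_pow _ _ (by omega)
  have h8 : (q ^ (k + 1) + 1) * (q ^ k - 1) + 1 + q ^ (k + 1) = q ^ (2 * k + 1) + q ^ k := by
    have e1 : q ^ (2 * k + 1) = q ^ (k + 1) * q ^ k := by rw [← pow_add]; ring_nf
    obtain ⟨c, hc⟩ : ∃ c, q ^ k = c + 1 := ⟨q ^ k - 1, by omega⟩
    rw [e1, hc, Nat.add_sub_cancel]
    ring
  omega

end Cfsg.Agent.S5981P
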