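import Mathlib
import Cfsg.Prelude.Def_GeometricClasses
import Cfsg.Prelude.Def_Classical
import Cfsg.Prelude.Def_LieClassical

/-! # S5981 piece TRANSV: a transvection preserves no non-degenerate symmetric form up to scalars -/

set_option autoImplicit false
open scoped MatrixGroups Matrix

namespace Cfsg.Agent.S5981P

namespace TRANSV

variable {F : Type*} [Field F] {n : ℕ}

theorem transvection_pow (a b : Fin n) (hab : a ≠ b) (k : ℕ) :
    (Matrix.transvection a b (1 : F)) ^ k = Matrix.transvection a b (k : F) := by
  induction k with
  | zero => rw [pow_zero, Nat.cast_zero, Matrix.transvection_zero]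
  | succ k ih =>
    rw [pow_succ, ih, Matrix.transvection_mul_transvection_same a b hab, Nat.cast_succ]

theorem transpose_transvection (a b : Fin n) (c : F) :
    (Matrix.transvection a b c)ᵀ = Matrix.transvection b a c := by
  unfold Matrix.transvection
  rw [Matrix.transpose_add, Matrix.transpose_one, Matrix.transpose_single]

/-- the entries of the transformed Gram matrix -/
theorem entry (a b : Fin n) (G : Matrix (Fin n) (Fin n) F) (k l : Fin n) :
    ((Matrix.transvection a b (1 : F))ᵀ * G * Matrix.transvection a b (1 : F)) k l =
      (G k l + (if k = b then G a l else 0)) +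
        (if l = b then (G k a + (if k = b then G a a else 0)) else 0) := by
  rw [transpose_transvection]
  have hM : ∀ k l, (Matrix.transvection b a (1 : F) * G) k l =
      G k l + (if k = b then G a l else 0) := by
    intro k l
    by_cases hk : k = b
    · subst hk
      rw [Matrix.transvection_mul_apply_same, if_pos rfl, one_mul]
    · rw [Matrix.transvection_mul_apply_of_ne b a k l hk, if_neg hk, add_zero]
  by_cases hl : l = b
  · subst hl
    rw [Matrix.mul_transvection_apply_same, if_pos rfl, one_mul, hM, hM]
  · rw [Matrix.mul_transvection_apply_of_ne a b k l hl, if_neg hl, add_zero, hM]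

theorem no_form (h2 : (2 : F) ≠ 0) (a b : Fin n) (hab : a ≠ b)
    (G : Matrix (Fin n) (Fin n) F) (c : F) (hGs : Gᵀ = G) (hG : G.det ≠ 0)
    (hx : (Matrix.transvection a b (1 : F))ᵀ * G * Matrix.transvection a b (1 : F) = c • G) :
    False := by
  have hent : ∀ k l, (G k l + (if k = b then G a l else 0)) +
        (if l = b then (G k a + (if k = b then G a a else 0)) else 0) = c * G k l := by
    intro k l
    rw [← entry a b G k l, hx, Matrix.smul_apply, smul_eq_mul]
  have hsym : ∀ k l, G k l = G l k := by
    intro k l
    conv_lhs => rw [← hGs]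
    rfl
  by_cases hc : c = 1
  · subst hc
    -- the row `a` vanishes
    apply hG
    apply Matrix.det_eq_zero_of_row_eq_zero a
    have h1 : ∀ l, l ≠ b → G a l = 0 := by
      intro l hl
      have := hent b l
      rw [if_pos rfl, if_neg hl, add_zero, one_mul] at this
      exact add_eq_left.mp this
    intro l
    by_cases hl : l = b
    · subst hl
      have := hent l l
      rw [if_pos rfl, if_pos rfl, if_pos rfl, one_mul, h1 a hab, add_zero, hsym l a] at this
      have h3 : (2 : F) * G a l = 0 := by
        have : G l l + G a l + G a l = G l l := this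
        linear_combination this
      exact (mul_eq_zero.mp h3).resolve_left h2
    · exact h1 l hl
  · -- the column `a` vanishes
    apply hG
    apply Matrix.det_eq_zero_of_column_eq_zero a
    have h1 : ∀ k, k ≠ b → G k a = 0 := by
      intro k hk
      have := hent k a
      rw [if_neg hk, if_neg hab, add_zero, add_zero] at this
      have h3 : (1 - c) * G k a = 0 := by linear_combination this
      exact (mul_eq_zero.mp h3).resolve_left (sub_ne_zero.mpr (Ne.symm hc))
    intro k
    by_cases hk : k = b
    · subst hk
      have := hent k a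
      rw [if_pos rfl, if_neg hab, add_zero, h1 a hab, add_zero] at this
      have h3 : (1 - c) * G k a = 0 := by linear_combination this
      exact (mul_eq_zero.mp h3).resolve_left (sub_ne_zero.mpr (Ne.symm hc))
    · exact h1 k hk

end TRANSV

/-- TRANSV: a transvection is a similitude of no non-degenerate symmetric form (odd characteristic) -/
theorem transvection_noform {F : Type*} [Field F] {p : ℕ} [Fact p.Prime] [CharP F p] (hp2 : p ≠ 2)
    (n : ℕ) (hn : 2 ≤ n) :
    ∃ x : GL (Fin n) F, x ∈ Cfsg.Geo.specialLinear (Fin n) F ∧
      ((x ^ p : GL (Fin n) F) : Matrix (Fin n) (Fin n) F) = 1 ∧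
      (∀ z : F, (x : Matrix (Fin n) (Fin n) F) ≠ z • (1 : Matrix (Fin n) (Fin n) F)) ∧
      ∀ (G : Matrix (Fin n) (Fin n) F) (c : F), Gᵀ = G → G.det ≠ 0 →
        (x : Matrix (Fin n) (Fin n) F)ᵀ * G * (x : Matrix (Fin n) (Fin n) F) = c • G → False := by
  classical
  have hp : p.Prime := Fact.out
  let a : Fin n := ⟨0, by omega⟩
  let b : Fin n := ⟨1, by omega⟩
  have hab : a ≠ b := by
    intro h
    have := congrArg Fin.val h
    simp [a, b] at this
  have h2 : (2 : F) ≠ 0 := by
    intro h0
    have h0' : ((2 : ℕ) : F) = 0 := by exact_mod_cast h0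
    have := (CharP.cast_eq_zero_iff F p 2).mp h0'
    exact hp2 ((Nat.prime_dvd_prime_iff_eq hp Nat.prime_two).mp this)
  have hdet : (Matrix.transvection a b (1 : F)).det = 1 := Matrix.det_transvection_of_ne a b hab 1
  obtain ⟨x, hx⟩ : ∃ x : GL (Fin n) F,
      (x : Matrix (Fin n) (Fin n) F) = Matrix.transvection a b (1 : F) :=
    ⟨Matrix.GeneralLinearGroup.mkOfDetNeZero (Matrix.transvection a b (1 : F))
      (by rw [hdet]; exact one_ne_zero), rfl⟩
  refine ⟨x, ?_, ?_, ?_, ?_⟩
  · show x ∈ (Matrix.GeneralLinearGroup.det : GL (Fin n) F →* Fˣ).ker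
    rw [MonoidHom.mem_ker]
    apply Units.ext
    rw [Matrix.GeneralLinearGroup.val_det_apply, hx, hdet, Units.val_one]
  · rw [Units.val_pow_eq_pow_val, hx, TRANSV.transvection_pow a b hab, CharP.cast_eq_zero,
      Matrix.transvection_zero]
  · intro z hz
    rw [hx] at hz
    have := congrFun (congrFun hz a) b
    rw [Matrix.smul_apply, Matrix.one_apply_ne hab, smul_zero] at this
    unfold Matrix.transvection at this
    rw [Matrix.add_apply, Matrix.one_apply_ne hab, zero_add, Matrix.single_apply_same] at this
    exact one_ne_zero this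
  · intro G c hGs hG hxG
    rw [hx] at hxG
    exact TRANSV.no_form h2 a b hab G c hGs hG hxG

end Cfsg.Agent.S5981P
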