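import Mathlib
import Cfsg.Prelude.Def_GeometricClasses
import Cfsg.Prelude.Def_Classical
import Cfsg.Prelude.Def_LieClassical
import Cfsg.Agent.Helper27.S5989Defs
import Cfsg.Agent.Helper28.Spin6
import Cfsg.Agent.Helper18.S5989EXCODD
import Cfsg.Agent.Helper18.S5989ISODISC

/-! S5989 piece INVOLODD (helper22) -/

set_option autoImplicit false
open scoped MatrixGroups
universe u

namespace Cfsg.Agent.S5989P

open Cfsg.Agent.Helper2.SympInvol Cfsg.Agent.Helper2.SympUnits Cfsg.Agent.S5961P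
  Cfsg.Agent.S5992P Cfsg.Agent.Helper28.Spin

namespace INVOLODD

variable {F V : Type*} [Field F] [AddCommGroup V] [Module F V]

/-- the eigenspaces of an involutory isometry of a nondegenerate quadratic space (`2 ≠ 0`) -/
theorem eigen_split [FiniteDimensional F V] (h2 : (2 : F) ≠ 0) (Q : QuadraticForm F V)
    (hnd : Nondeg (PB Q) ⊤) (x : Module.End F V) (hxQ : ∀ v, Q (x v) = Q v) (hx2 : x * x = 1) :
    Nondeg (PB Q) (LinearMap.ker (x - 1)) ∧ Nondeg (PB Q) (LinearMap.ker (x + 1)) ∧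
    Module.finrank F (LinearMap.ker (x - 1)) + Module.finrank F (LinearMap.ker (x + 1)) =
      Module.finrank F V := by
  have hxx : ∀ v, x (x v) = v := fun v => by
    rw [← Module.End.mul_apply, hx2, Module.End.one_apply]
  have hp_mem : ∀ v, v ∈ LinearMap.ker (x - 1) ↔ x v = v := by
    intro v
    rw [LinearMap.mem_ker, LinearMap.sub_apply, Module.End.one_apply, sub_eq_zero]
  have hm_mem : ∀ v, v ∈ LinearMap.ker (x + 1) ↔ x v = -v := by
    intro v
    rw [LinearMap.mem_ker, LinearMap.add_apply, Module.End.one_apply, add_eq_zero_iff_eq_neg]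
  have hsplit : ∀ v : V, ∃ a ∈ LinearMap.ker (x - 1), ∃ b ∈ LinearMap.ker (x + 1), v = a + b := by
    intro v
    refine ⟨(2 : F)⁻¹ • (v + x v), ?_, (2 : F)⁻¹ • (v - x v), ?_, ?_⟩
    · rw [hp_mem, map_smul, map_add, hxx, add_comm]
    · rw [hm_mem, map_smul, map_sub, hxx, ← smul_neg, neg_sub]
    · rw [← smul_add, add_add_sub_cancel, ← two_smul F v, smul_smul, inv_mul_cancel₀ h2, one_smul]
  have horth : Orth (PB Q) (LinearMap.ker (x - 1)) (LinearMap.ker (x + 1)) := by
    intro a ha b hb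
    have hxa := (hp_mem a).mp ha
    have hxb := (hm_mem b).mp hb
    have h1 : PB Q a b = -PB Q a b := by
      conv_lhs => rw [← PB_isom Q hxQ a b, hxa, hxb, map_neg]
    have h4 : (2 : F) * PB Q a b = 0 := by linear_combination h1
    rcases mul_eq_zero.mp h4 with h | h
    · exact absurd h h2
    · exact h
  have horth' : Orth (PB Q) (LinearMap.ker (x + 1)) (LinearMap.ker (x - 1)) :=
    fun b hb a ha => by rw [PB_comm]; exact horth a ha b hb
  have hMpnd : Nondeg (PB Q) (LinearMap.ker (x - 1)) := by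
    intro a ha ha0
    obtain ⟨v, -, hav⟩ := hnd a trivial ha0
    obtain ⟨a', ha', b', hb', rfl⟩ := hsplit v
    refine ⟨a', ha', ?_⟩
    rwa [map_add, horth a ha b' hb', add_zero] at hav
  have hMmnd : Nondeg (PB Q) (LinearMap.ker (x + 1)) := by
    intro b hb hb0
    obtain ⟨v, -, hbv⟩ := hnd b trivial hb0
    obtain ⟨a', ha', b', hb', rfl⟩ := hsplit v
    refine ⟨b', hb', ?_⟩
    rwa [map_add, horth' b hb a' ha', zero_add] at hbv
  have hsup : LinearMap.ker (x - 1) ⊔ LinearMap.ker (x + 1) = ⊤ := by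
    rw [eq_top_iff]
    intro v _
    obtain ⟨a, ha, b, hb, rfl⟩ := hsplit v
    exact Submodule.add_mem_sup ha hb
  have hdisj : Disjoint (LinearMap.ker (x - 1)) (LinearMap.ker (x + 1)) := by
    rw [Submodule.disjoint_def]
    intro v hvp hvm
    have h1 := (hp_mem v).mp hvp
    have h3' := (hm_mem v).mp hvm
    have h4 : (2 : F) • v = 0 := by
      rw [two_smul]
      nth_rewrite 1 [← h1]
      rw [h3', neg_add_cancel]
    rcases smul_eq_zero.mp h4 with h | h
    · exact absurd h h2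
    · exact h
  refine ⟨hMpnd, hMmnd, ?_⟩
  have h5 := Submodule.finrank_sup_add_finrank_inf_eq (LinearMap.ker (x - 1)) (LinearMap.ker (x + 1))
  rw [hdisj.eq_bot, finrank_bot, add_zero, hsup, finrank_top] at h5
  exact h5.symm

end INVOLODD

/-- INVOLODD -/
theorem exists_odd_of_invol {F V : Type*} [Field F] [Fintype F] [AddCommGroup V] [Module F V]
    [FiniteDimensional F V] (h2 : (2 : F) ≠ 0) (Q : QuadraticForm F V) (hnd : Nondeg (PB Q) ⊤)
    (x : Module.End F V) (hxQ : ∀ v, Q (x v) = Q v) (hx2 : x * x = 1) (m : ℕ) (hm : Odd m)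
    (hmn : 2 * m < Module.finrank F V) (W₀ : Submodule F V)
    (hW₀ : Module.finrank F W₀ = m ∧ Nondeg (PB Q) W₀) :
    ∃ W : Submodule F V, OmSet Q m W₀ W ∧ W.map x ≤ W := by
  classical
  obtain ⟨hpnd, hmnd, hsum⟩ := INVOLODD.eigen_split h2 Q hnd x hxQ hx2
  by_cases hp : m + 1 ≤ Module.finrank F (LinearMap.ker (x - 1))
  · obtain ⟨W, hWM, hWfr, hWnd, hWd⟩ :=
      exists_sub_disc h2 Q (LinearMap.ker (x - 1)) hpnd m hm hp (DiscSq Q W₀)
    refine ⟨W, ⟨hWfr, hWnd, ?_⟩, ?_⟩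
    · rw [isoW_iff_disc h2 Q W W₀ hWnd hW₀.2 (by rw [hWfr, hW₀.1])]
      exact hWd
    · rintro _ ⟨a, ha, rfl⟩
      have h1 := hWM ha
      rw [LinearMap.mem_ker, LinearMap.sub_apply, Module.End.one_apply, sub_eq_zero] at h1
      rw [h1]
      exact ha
  · have hm' : m + 1 ≤ Module.finrank F (LinearMap.ker (x + 1)) := by omega
    obtain ⟨W, hWM, hWfr, hWnd, hWd⟩ :=
      exists_sub_disc h2 Q (LinearMap.ker (x + 1)) hmnd m hm hm' (DiscSq Q W₀)
    refine ⟨W, ⟨hWfr, hWnd, ?_⟩, ?_⟩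
    · rw [isoW_iff_disc h2 Q W W₀ hWnd hW₀.2 (by rw [hWfr, hW₀.1])]
      exact hWd
    · rintro _ ⟨a, ha, rfl⟩
      have h1 := hWM ha
      rw [LinearMap.mem_ker, LinearMap.add_apply, Module.End.one_apply,
        add_eq_zero_iff_eq_neg] at h1
      rw [h1]
      exact W.neg_mem ha

end Cfsg.Agent.S5989P
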