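import Cfsg.Agent.Helper27.M24Cent
import Cfsg.Agent.Helper22.SextetStruct

/-!
# Computations for the standard sextet: the elements of `M24` fixing every tetrad (by pruned enumeration), and
64 explicit elements inducing an element of the four-group on every tetrad.
-/

set_option autoImplicit false

namespace Cfsg.Agent.Helper22.SextKer

open Cfsg Cfsg.Agent.Helper27 Cfsg.Agent.Helper22.SextetCode Cfsg.Agent.Helper22.GolayComb
  Cfsg.Agent.Helper22.SextetRef Cfsg.Agent.Helper22.SextetStruct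
open scoped Pointwise

/-- index of the tetrad of the standard sextet containing a point -/
def tetIdx : List ℕ := [0, 0, 0, 0, 1, 5, 4, 1, 2, 4, 1, 4, 1, 3, 5, 2, 2, 5, 3, 2, 3, 3, 4, 5]

/-- pruning: the newest base point stays in its tetrad -/
def okTet (vs : List ℕ) : Bool :=
  tetIdx.getD (baseL.getD (vs.length - 1) 0) 0 == tetIdx.getD (vs.getD (vs.length - 1) 0) 0

/-- final test: every tetrad mask is fixed -/
def fixAll (T : List ℕ) : Bool := sextL.all (fun m => applyTbl T m == m)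

/-- the tables of the elements fixing every tetrad of the standard sextet -/
def kerL : List (List ℕ) := (enumL chainL [] idT okTet).filter fixAll

set_option maxRecDepth 100000 in
theorem kerL_length : kerL.length = 192 := by decide +kernel

theorem applyTbl_fix {g : Equiv.Perm GolayPt} {T : List ℕ} (h : Represents g T) {n : ℕ} (hn : n < 2 ^ 24)
    (hs : g • maskSet n = maskSet n) : applyTbl T n = n := by
  apply Nat.eq_of_testBit_eq
  intro i
  by_cases hi : i < 24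
  · rw [testBit_applyTbl T n i (by rw [h.1]; exact hi)]
    have h1 := h.2 (pt i)
    rw [idx_pt hi] at h1
    rw [← h1]
    have h2 : g (pt i) ∈ maskSet n ↔ pt i ∈ maskSet n := by
      conv_lhs => rw [← hs]
      rw [mem_smul_perm_iff]
      simp
    rw [mem_maskSet, mem_maskSet, idx_pt hi] at h2
    exact Bool.eq_iff_iff.mpr h2
  · have hi' : 24 ≤ i := by omega
    have hp : (2 : ℕ) ^ 24 ≤ 2 ^ i := Nat.pow_le_pow_right (by norm_num) hi'
    rw [Nat.testBit_lt_two_pow (lt_of_lt_of_le (by have := applyTbl_lt T n; rwa [h.1] at this) hp),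
      Nat.testBit_lt_two_pow (lt_of_lt_of_le hn hp)]

theorem tet_bit : ∀ b < 24, (sextL.getD (tetIdx.getD b 0) 0).testBit b = true := by decide +kernel

theorem tet_same : ∀ b < 24, ∀ c < 24, (sextL.getD (tetIdx.getD b 0) 0).testBit c = true →
    tetIdx.getD c 0 = tetIdx.getD b 0 := by decide +kernel

theorem tet_mem : ∀ b < 24, sextL.getD (tetIdx.getD b 0) 0 ∈ sextL := by decide +kernel

theorem sextL_lt : ∀ m ∈ sextL, m < 2 ^ 24 := by decide +kernel

/-- an element fixing every tetrad keeps every point in its tetrad -/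
theorem tet_pres {g : Equiv.Perm GolayPt} (hfix : ∀ t ∈ S0, g • t = t) {b : ℕ} (hb : b < 24) :
    tetIdx.getD ((tblOf g).getD b 0) 0 = tetIdx.getD b 0 := by
  rw [tblOf_getD g hb]
  set m := sextL.getD (tetIdx.getD b 0) 0 with hm
  have hmS : maskSet m ∈ S0 := (mem_S0 _).mpr ⟨m, tet_mem b hb, rfl⟩
  have h1 : pt b ∈ maskSet m := by rw [mem_maskSet, idx_pt hb]; exact tet_bit b hb
  have h2 : g (pt b) ∈ maskSet m := by
    have : g • pt b ∈ g • maskSet m := Finset.smul_mem_smul_finset h1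
    rwa [hfix _ hmS] at this
  rw [mem_maskSet] at h2
  exact tet_same b hb _ (idx_lt _) h2

/-- every element of `M24` fixing every tetrad of the standard sextet is found by the enumeration -/
theorem mem_kerL {g : Equiv.Perm GolayPt} (hg : g ∈ M24) (hfix : ∀ t ∈ S0, g • t = t) : tblOf g ∈ kerL := by
  rw [kerL, List.mem_filter]
  constructor
  · apply m24_enum_sound _ hg
    intro n hn1 hn7
    rw [okTet, baseImgs_length _ hn7, baseImgs_getD _ hn7 (by omega), beq_iff_eq]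
    exact (tet_pres hfix (baseL_getD_lt _)).symm
  · rw [fixAll, List.all_eq_true]
    intro m hm
    rw [beq_iff_eq]
    exact applyTbl_fix (represents_tblOf g) (sextL_lt m hm) (hfix _ ((mem_S0 _).mpr ⟨m, hm, rfl⟩))

/-- at most 192 elements of `M24` fix every tetrad of the standard sextet -/
theorem card_fix_le : Nat.card {g : Equiv.Perm GolayPt // g ∈ M24 ∧ ∀ t ∈ S0, g • t = t} ≤ 192 := by
  let f : {g : Equiv.Perm GolayPt // g ∈ M24 ∧ ∀ t ∈ S0, g • t = t} → ↥(kerL.toFinset) :=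
    fun g => ⟨tblOf g.1, List.mem_toFinset.mpr (mem_kerL g.2.1 g.2.2)⟩
  have hf : Function.Injective f := by
    intro a b hab
    have h : tblOf a.1 = tblOf b.1 := congrArg Subtype.val hab
    apply Subtype.ext
    have ha := represents_tblOf a.1
    rw [h] at ha
    exact represents_unique ha (represents_tblOf b.1)
  have h1 := Nat.card_le_card_of_injective f hf
  rw [Nat.card_eq_fintype_card (α := ↥(kerL.toFinset)), Fintype.card_coe] at h1
  have h2 := List.toFinset_card_le kerL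
  rw [kerL_length] at h2
  omega

/-- the tetrads of the standard sextet as lists of point indices -/
def tets : List (List ℕ) := [[0, 1, 2, 3], [4, 7, 10, 12], [8, 15, 16, 19], [13, 18, 20, 21], [6, 9, 11, 22],
  [5, 14, 17, 23]]

/-- the four-group test on a table -/
def v4Chk (T : List ℕ) : Bool :=
  tets.all fun L => L.all fun i => L.all fun j => (i == j) ||
    ((T.getD i 0 == i && T.getD j 0 == j) || (T.getD i 0 == j && T.getD j 0 == i) ||
      (L.contains (T.getD i 0) && L.contains (T.getD j 0) && T.getD i 0 != i && T.getD i 0 != j &&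
        T.getD j 0 != i && T.getD j 0 != j))

theorem tets_spec : ∀ m ∈ sextL, ∃ L ∈ tets, (∀ i ∈ L, i < 24) ∧ ∀ i < 24, (m.testBit i = true ↔ i ∈ L) := by
  decide +kernel

theorem sextL_popc : ∀ m ∈ sextL, popc 24 m = 4 := by decide +kernel

theorem v4Chk_sound {g : Equiv.Perm GolayPt} {T : List ℕ} (hR : Represents g T) (hT : v4Chk T = true) :
    V4On S0 g := by
  intro t ht p hp h2
  obtain ⟨m, hm, rfl⟩ := (mem_S0 t).mp ht
  obtain ⟨L, hL, hL24, hLm⟩ := tets_spec m hm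
  obtain ⟨x, y, hxy, rfl⟩ := Finset.card_eq_two.mp h2
  have hx : x ∈ maskSet m := hp (Finset.mem_insert_self _ _)
  have hy : y ∈ maskSet m := hp (Finset.mem_insert_of_mem (Finset.mem_singleton_self _))
  rw [mem_maskSet] at hx hy
  have hxL : idx x ∈ L := (hLm _ (idx_lt x)).mp hx
  have hyL : idx y ∈ L := (hLm _ (idx_lt y)).mp hy
  have hne : idx x ≠ idx y := fun h => hxy (idx_injective h)
  rw [v4Chk, List.all_eq_true] at hT
  have h1 := hT L hL
  rw [List.all_eq_true] at h1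
  have h2' := h1 _ hxL
  rw [List.all_eq_true] at h2'
  have h3 := h2' _ hyL
  have hgx : g x = pt (T.getD (idx x) 0) := by rw [← hR.2 x, pt_idx]
  have hgy : g y = pt (T.getD (idx y) 0) := by rw [← hR.2 y, pt_idx]
  have hsm : g • ({x, y} : Finset GolayPt) = {g x, g y} := by
    rw [Finset.smul_finset_insert, Finset.smul_finset_singleton]
    rfl
  rw [hsm]
  simp only [Bool.or_eq_true, Bool.and_eq_true, beq_iff_eq, bne_iff_ne, ne_eq, List.contains_iff_mem] at h3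
  rcases h3 with h3 | ((h3 | h3) | h3)
  · exact absurd h3 hne
  · left
    rw [hgx, hgy, h3.1, h3.2, pt_idx, pt_idx]
  · left
    rw [hgx, hgy, h3.1, h3.2, pt_idx, pt_idx, Finset.pair_comm]
  · right
    obtain ⟨⟨⟨⟨⟨a1, a2⟩, a3⟩, a4⟩, a5⟩, a6⟩ := h3
    have ha24 := hL24 _ a1
    have hb24 := hL24 _ a2
    have hgxm : g x ∈ maskSet m := by
      rw [hgx, mem_maskSet, idx_pt ha24]; exact (hLm _ ha24).mpr a1
    have hgym : g y ∈ maskSet m := by
      rw [hgy, mem_maskSet, idx_pt hb24]; exact (hLm _ hb24).mpr a2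
    have e1 : g x ≠ x := fun h => a3 (by rw [hgx] at h; rw [← idx_pt ha24, h])
    have e2 : g x ≠ y := fun h => a4 (by rw [hgx] at h; rw [← idx_pt ha24, h])
    have e3 : g y ≠ x := fun h => a5 (by rw [hgy] at h; rw [← idx_pt hb24, h])
    have e4 : g y ≠ y := fun h => a6 (by rw [hgy] at h; rw [← idx_pt hb24, h])
    apply Finset.eq_of_subset_of_card_le
    · intro z hz
      rw [Finset.mem_sdiff]
      rcases Finset.mem_insert.mp hz with rfl | hz
      · refine ⟨hgxm, ?_⟩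
        simp only [Finset.mem_insert, Finset.mem_singleton, not_or]
        exact ⟨e1, e2⟩
      · rw [Finset.mem_singleton] at hz
        rw [hz]
        refine ⟨hgym, ?_⟩
        simp only [Finset.mem_insert, Finset.mem_singleton, not_or]
        exact ⟨e3, e4⟩
    · rw [Finset.card_sdiff_of_subset hp, card_maskSet, sextL_popc m hm, Finset.card_pair hxy,
        Finset.card_pair (fun h => hxy (g.injective h))]

/-- 64 tables of elements inducing an element of the four-group on every tetrad of the standard sextet -/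
def v4L : List (List ℕ) := [
  [0,1,2,3,4,5,6,7,8,9,10,11,12,13,14,15,16,17,18,19,20,21,22,23],
  [0,1,2,3,4,14,9,7,19,6,10,22,12,21,5,16,15,23,20,8,18,13,11,17],
  [0,1,2,3,4,17,22,7,16,11,10,9,12,20,23,19,8,5,21,15,13,18,6,14],
  [0,1,2,3,4,23,11,7,15,22,10,6,12,18,17,8,19,14,13,16,21,20,9,5],
  [0,1,2,3,7,17,6,4,19,9,12,11,10,18,23,16,15,5,13,8,21,20,22,14],
  [0,1,2,3,7,5,22,4,15,11,12,9,10,21,14,8,19,17,20,16,18,13,6,23],
  [0,1,2,3,7,23,9,4,8,6,12,22,10,20,17,15,16,14,21,19,13,18,11,5],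
  [0,1,2,3,7,14,11,4,16,22,12,6,10,13,5,19,8,23,18,15,20,21,9,17],
  [0,1,2,3,10,14,22,12,8,11,4,9,7,18,5,15,16,23,13,19,21,20,6,17],
  [0,1,2,3,10,5,11,12,19,22,4,6,7,20,14,16,15,17,21,8,13,18,9,23],
  [0,1,2,3,10,17,9,12,15,6,4,22,7,13,23,8,19,5,18,16,20,21,11,14],
  [0,1,2,3,10,23,6,12,16,9,4,11,7,21,17,19,8,14,20,15,18,13,22,5],
  [0,1,2,3,12,23,22,10,19,11,7,9,4,13,17,16,15,14,18,8,20,21,6,5],
  [0,1,2,3,12,5,9,10,16,6,7,22,4,18,14,19,8,17,13,15,21,20,11,23],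
  [0,1,2,3,12,14,6,10,15,9,7,11,4,20,5,8,19,23,21,16,13,18,22,17],
  [0,1,2,3,12,17,11,10,8,22,7,6,4,21,23,15,16,5,20,19,18,13,9,14],
  [1,0,3,2,4,17,11,7,19,22,10,6,12,13,23,16,15,5,18,8,20,21,9,14],
  [1,0,3,2,4,14,6,7,16,9,10,11,12,18,5,19,8,23,13,15,21,20,22,17],
  [1,0,3,2,4,5,9,7,15,6,10,22,12,20,14,8,19,17,21,16,13,18,11,23],
  [1,0,3,2,4,23,22,7,8,11,10,9,12,21,17,15,16,14,20,19,18,13,6,5],
  [1,0,3,2,10,5,22,12,16,11,4,9,7,13,14,19,8,17,18,15,20,21,6,23],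
  [1,0,3,2,10,17,6,12,8,9,4,11,7,20,23,15,16,5,21,19,13,18,22,14],
  [1,0,3,2,10,23,9,12,19,6,4,22,7,18,17,16,15,14,13,8,21,20,11,5],
  [1,0,3,2,10,14,11,12,15,22,4,6,7,21,5,8,19,23,20,16,18,13,9,17],
  [1,0,3,2,7,23,6,4,15,9,12,11,10,13,17,8,19,14,18,16,20,21,22,5],
  [1,0,3,2,7,5,11,4,8,22,12,6,10,18,14,15,16,17,13,19,21,20,9,23],
  [1,0,3,2,7,14,22,4,19,11,12,9,10,20,5,16,15,23,21,8,13,18,6,17],
  [1,0,3,2,7,17,9,4,16,6,12,22,10,21,23,19,8,5,20,15,18,13,11,14],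
  [1,0,3,2,12,5,6,10,19,9,7,11,4,21,14,16,15,17,20,8,18,13,22,23],
  [1,0,3,2,12,14,9,10,8,6,7,22,4,13,5,15,16,23,18,19,20,21,11,17],
  [1,0,3,2,12,23,11,10,16,22,7,6,4,20,17,19,8,14,21,15,13,18,9,5],
  [1,0,3,2,12,17,22,10,15,11,7,9,4,18,23,8,19,5,13,16,21,20,6,14],
  [2,3,0,1,12,23,9,10,15,6,7,22,4,21,17,8,19,14,20,16,18,13,11,5],
  [2,3,0,1,12,5,22,10,8,11,7,9,4,20,14,15,16,17,21,19,13,18,6,23],
  [2,3,0,1,12,14,11,10,19,22,7,6,4,18,5,16,15,23,13,8,21,20,9,17],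
  [2,3,0,1,12,17,6,10,16,9,7,11,4,13,23,19,8,5,18,15,20,21,22,14],
  [2,3,0,1,10,17,22,12,19,11,4,9,7,21,23,16,15,5,20,8,18,13,6,14],
  [2,3,0,1,10,14,9,12,16,6,4,22,7,20,5,19,8,23,21,15,13,18,11,17],
  [2,3,0,1,10,5,6,12,15,9,4,11,7,18,14,8,19,17,13,16,21,20,22,23],
  [2,3,0,1,10,23,11,12,8,22,4,6,7,13,17,15,16,14,18,19,20,21,9,5],
  [2,3,0,1,7,5,9,4,19,6,12,22,10,13,14,16,15,17,18,8,20,21,11,23],
  [2,3,0,1,7,14,6,4,8,9,12,11,10,21,5,15,16,23,20,19,18,13,22,17],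
  [2,3,0,1,7,23,22,4,16,11,12,9,10,18,17,19,8,14,13,15,21,20,6,5],
  [2,3,0,1,7,17,11,4,15,22,12,6,10,20,23,8,19,5,21,16,13,18,9,14],
  [2,3,0,1,4,14,22,7,15,11,10,9,12,13,5,8,19,23,18,16,20,21,6,17],
  [2,3,0,1,4,23,6,7,19,9,10,11,12,20,17,16,15,14,21,8,13,18,22,5],
  [2,3,0,1,4,5,11,7,16,22,10,6,12,21,14,19,8,17,20,15,18,13,9,23],
  [2,3,0,1,4,17,9,7,8,6,10,22,12,18,23,15,16,5,13,19,21,20,11,14],
  [3,2,1,0,10,17,11,12,16,22,4,6,7,18,23,19,8,5,13,15,21,20,9,14],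
  [3,2,1,0,10,14,6,12,19,9,4,11,7,13,5,16,15,23,18,8,20,21,22,17],
  [3,2,1,0,10,23,22,12,15,11,4,9,7,20,17,8,19,14,21,16,13,18,6,5],
  [3,2,1,0,10,5,9,12,8,6,4,22,7,21,14,15,16,17,20,19,18,13,11,23],
  [3,2,1,0,4,23,9,7,16,6,10,22,12,13,17,19,8,14,18,15,20,21,11,5],
  [3,2,1,0,4,5,22,7,19,11,10,9,12,18,14,16,15,17,13,8,21,20,6,23],
  [3,2,1,0,4,14,11,7,8,22,10,6,12,20,5,15,16,23,21,19,13,18,9,17],
  [3,2,1,0,4,17,6,7,15,9,10,11,12,21,23,8,19,5,20,16,18,13,22,14],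
  [3,2,1,0,7,5,6,4,16,9,12,11,10,20,14,19,8,17,21,15,13,18,22,23],
  [3,2,1,0,7,17,22,4,8,11,12,9,10,13,23,15,16,5,18,19,20,21,6,14],
  [3,2,1,0,7,23,11,4,19,22,12,6,10,21,17,16,15,14,20,8,18,13,9,5],
  [3,2,1,0,7,14,9,4,15,6,12,22,10,18,5,8,19,23,13,16,21,20,11,17],
  [3,2,1,0,12,14,22,10,16,11,7,9,4,21,5,19,8,23,20,15,18,13,6,17],
  [3,2,1,0,12,5,11,10,15,22,7,6,4,13,14,8,19,17,18,16,20,21,9,23],
  [3,2,1,0,12,17,9,10,19,6,7,22,4,20,23,16,15,5,21,8,13,18,11,14],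
  [3,2,1,0,12,23,6,10,8,9,7,11,4,18,17,15,16,14,13,19,21,20,22,5]]

theorem v4L_length : v4L.length = 64 := by decide +kernel

theorem v4L_nodup : v4L.Nodup := by decide +kernel

theorem v4L_chk : v4L.all (fun T => validTbl T && tblInCode T && v4Chk T) = true := by decide +kernel

theorem v4L_spec : ∀ T ∈ v4L, ∃ g : Equiv.Perm GolayPt, g ∈ M24 ∧ Represents g T ∧ V4On S0 g := by
  intro T hT
  have h := List.all_eq_true.mp v4L_chk T hT
  rw [Bool.and_eq_true, Bool.and_eq_true] at h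
  obtain ⟨⟨hv, hc⟩, h4⟩ := h
  exact ⟨tblPerm T hv, tblPerm_mem_M24 T hv hc, tblPerm_represents T hv, v4Chk_sound (tblPerm_represents T hv) h4⟩

end Cfsg.Agent.Helper22.SextKer
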