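import Cfsg.Agent.Helper22.SextetRef
import Cfsg.Agent.Helper22.OctadStd

/-!
Certificates for orbits on octads (generated).
-/

set_option autoImplicit false

namespace Cfsg.Agent.Helper22.SextOctCert

open Cfsg Cfsg.Agent.Helper27 Cfsg.Agent.Helper22.SextetRef Cfsg.Agent.Helper22.OctadStd
open scoped Pointwise

/-- sum of the squares of the intersections of a mask with the tetrads of the standard sextet -/
def invM (n : ℕ) : ℕ := (sextL.map (fun a => popc 24 (n &&& a) ^ 2)).sum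

/-- descent generators for the class of value `32` (15 octads) -/
def ogens32 : List (List ℕ) := [
  [7, 4, 10, 12, 13, 0, 17, 20, 16, 23, 18, 14, 21, 6, 2, 8, 15, 1, 9, 19, 11, 22, 5, 3],
  [2, 1, 3, 0, 19, 12, 17, 15, 18, 23, 16, 14, 8, 6, 7, 21, 20, 4, 9, 13, 11, 22, 5, 10]]

theorem odesc32 : descOKH (certSext) ogens32 (clsP invM 32) 5279 = true := by decide +kernel

theorem ocnt32 : countBelow (fun k => clsP invM 32 (cw k)) 4096 = 15 := by decide +kernel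

/-- descent generators for the class of value `16` (360 octads) -/
def ogens16 : List (List ℕ) := [
  [21, 20, 18, 13, 15, 9, 17, 16, 0, 14, 19, 5, 8, 7, 22, 3, 1, 6, 4, 2, 10, 12, 23, 11],
  [8, 16, 19, 15, 20, 2, 11, 13, 12, 6, 21, 9, 18, 5, 0, 10, 4, 3, 17, 7, 14, 23, 22, 1],
  [7, 12, 10, 4, 3, 8, 5, 2, 9, 14, 1, 17, 0, 13, 19, 11, 22, 15, 20, 6, 18, 21, 23, 16],
  [10, 4, 7, 12, 6, 18, 5, 9, 3, 14, 11, 17, 22, 16, 13, 0, 1, 21, 19, 2, 15, 8, 23, 20],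
  [0, 3, 1, 2, 4, 5, 15, 12, 13, 16, 7, 8, 10, 11, 14, 18, 20, 17, 6, 21, 9, 22, 19, 23],
  [16, 8, 15, 19, 10, 3, 9, 7, 17, 11, 12, 6, 4, 18, 2, 5, 23, 0, 13, 14, 21, 20, 22, 1],
  [1, 2, 0, 3, 22, 20, 7, 6, 15, 12, 9, 4, 11, 5, 18, 16, 8, 13, 17, 19, 14, 23, 10, 21],
  [0, 3, 2, 1, 10, 8, 6, 4, 14, 11, 12, 9, 7, 18, 15, 5, 23, 16, 20, 17, 21, 13, 22, 19],
  [8, 16, 19, 15, 22, 4, 0, 9, 17, 1, 11, 2, 6, 18, 10, 23, 14, 12, 20, 5, 13, 21, 3, 7],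
  [7, 4, 12, 10, 17, 8, 6, 14, 3, 11, 5, 9, 23, 13, 16, 2, 0, 19, 20, 1, 18, 21, 22, 15],
  [22, 11, 9, 6, 3, 10, 15, 2, 5, 16, 0, 8, 1, 21, 12, 14, 23, 4, 18, 17, 13, 20, 19, 7],
  [5, 14, 23, 17, 1, 6, 12, 2, 18, 4, 3, 7, 0, 8, 9, 21, 20, 22, 19, 13, 15, 16, 10, 11]]

theorem odesc16 : descOKH (certSext) ogens16 (clsP invM 16) 18147 = true := by decide +kernel

theorem ocnt16 : countBelow (fun k => clsP invM 16 (cw k)) 4096 = 360 := by decide +kernel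

/-- descent generators for the class of value `14` (384 octads) -/
def ogens14 : List (List ℕ) := [
  [15, 8, 16, 19, 12, 18, 5, 7, 1, 14, 10, 17, 4, 9, 21, 3, 0, 20, 6, 2, 11, 22, 23, 13],
  [15, 19, 8, 16, 21, 3, 5, 18, 4, 14, 13, 17, 20, 11, 2, 7, 10, 1, 9, 12, 6, 22, 23, 0],
  [4, 7, 12, 10, 15, 13, 3, 8, 9, 0, 16, 2, 19, 14, 20, 11, 6, 18, 17, 22, 23, 5, 1, 21],
  [3, 1, 0, 2, 12, 6, 17, 4, 13, 14, 10, 5, 7, 15, 11, 20, 21, 9, 19, 18, 16, 8, 23, 22],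
  [4, 7, 10, 12, 0, 5, 20, 3, 11, 18, 1, 13, 2, 8, 14, 9, 6, 23, 16, 22, 15, 19, 21, 17],
  [0, 1, 2, 3, 16, 6, 5, 8, 7, 17, 19, 14, 15, 13, 11, 12, 4, 9, 18, 10, 20, 21, 23, 22],
  [4, 12, 7, 10, 3, 16, 5, 0, 22, 17, 2, 23, 1, 13, 8, 9, 11, 15, 18, 6, 21, 20, 14, 19],
  [14, 17, 23, 5, 4, 1, 8, 10, 11, 15, 12, 16, 7, 18, 0, 6, 9, 2, 20, 22, 13, 21, 19, 3],
  [6, 22, 11, 9, 0, 4, 13, 3, 23, 20, 1, 18, 2, 15, 12, 14, 5, 10, 16, 17, 19, 8, 21, 7],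
  [22, 11, 6, 9, 1, 14, 10, 3, 13, 7, 2, 12, 0, 8, 5, 18, 21, 17, 19, 20, 16, 15, 4, 23],
  [23, 5, 17, 14, 10, 8, 20, 12, 2, 18, 7, 13, 4, 6, 16, 3, 1, 19, 9, 0, 22, 11, 21, 15]]

theorem odesc14 : descOKH (certSext) ogens14 (clsP invM 14) 10558 = true := by decide +kernel

theorem ocnt14 : countBelow (fun k => clsP invM 14 (cw k)) 4096 = 384 := by decide +kernel

theorem ovals_ok : allBelow (fun k => !(popc 24 (cw k) == 8) || [32, 16, 14].contains (invM (cw k))) 4096 = true := by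
  decide +kernel


end Cfsg.Agent.Helper22.SextOctCert
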