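import Cfsg.Agent.Helper22.SextetStd
import Cfsg.Agent.Helper22.KSets

/-!
# The standard sextet as a reference object: membership certificate of its stabiliser, transitivity of `M24`
on sextets, and the mask form of the sum-of-squares invariant against it.
-/

set_option autoImplicit false

namespace Cfsg.Agent.Helper22.SextetRef

open Cfsg Cfsg.Agent.Helper27 Cfsg.Agent.Helper22.OctList Cfsg.Agent.Helper22.SextetCode
  Cfsg.Agent.Helper22.StabOrbits Cfsg.Agent.Helper22.GolayComb Cfsg.Agent.Helper22.KSets
open scoped Pointwise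

/-- the tetrads of the standard sextet, as masks -/
def sextL : List ℕ := [15, 5264, 622848, 3416064, 4196928, 8536096]

/-- the standard sextet -/
noncomputable def S0 : Finset (Finset GolayPt) := dec 15

theorem mem15 : 15 ∈ canonL := by decide +kernel

theorem S0_mem : S0 ∈ sextets := dec_mem (canonL_spec mem15).2.1

theorem sextetMasks15 : sextetMasks 15 = sextL := by decide +kernel

theorem S0_eq : S0 = (sextL.map maskSet).toFinset ∧ (sextL.map maskSet).Nodup := by
  have := sextetOf_eq_masks (canonL_spec mem15).2.1 (List.all_eq_true.mp canonL_sextOK 15 mem15)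
  rw [sextetMasks15] at this
  exact this

theorem mem_S0 (t : Finset GolayPt) : t ∈ S0 ↔ ∃ m ∈ sextL, maskSet m = t := by
  rw [S0_eq.1, List.mem_toFinset, List.mem_map]

/-- sums over the standard sextet -/
theorem sum_S0 (f : Finset GolayPt → ℕ) : S0.sum f = (sextL.map (fun m => f (maskSet m))).sum := by
  rw [S0_eq.1, List.sum_toFinset _ S0_eq.2, List.map_map]
  rfl

/-- membership test for the stabiliser of the standard sextet -/
def certSext (T : List ℕ) : Bool := tblInCode T && sextL.all (fun m => sextL.contains (applyTbl T m))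

theorem certSoundSext : CertSound (stabIn S0) certSext := by
  intro T hv h
  rw [certSext, Bool.and_eq_true, List.all_eq_true] at h
  obtain ⟨h1, h2⟩ := h
  rw [mem_stabIn]
  refine ⟨tblPerm_mem_M24 T hv h1, ?_⟩
  have key : (tblPerm T hv)⁻¹ • S0 = S0 := by
    apply Finset.eq_of_subset_of_card_le
    · intro t ht
      obtain ⟨u, hu, rfl⟩ := Finset.mem_smul_finset.mp ht
      obtain ⟨m, hm, rfl⟩ := (mem_S0 u).mp hu
      rw [← maskSet_applyTbl hv, mem_S0]
      have := h2 m hm
      rw [List.contains_iff_mem] at this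
      exact ⟨_, this, rfl⟩
    · rw [Finset.card_smul_finset]
  conv_lhs => rw [← key]
  rw [smul_inv_smul]

/-- `M24` is transitive on sextets -/
theorem exists_smul_eq_S0 {S : Finset (Finset GolayPt)} (hS : S ∈ sextets) : ∃ g ∈ M24, g • S = S0 := by
  have hne : S.Nonempty := by rw [← Finset.card_pos, hS.1]; norm_num
  obtain ⟨t, ht⟩ := hne
  have ht4 := hS.2.1 t ht
  have h15 : (maskSet 15).card = 4 := by rw [card_maskSet]; decide +kernel
  obtain ⟨g, hg, -, hgt⟩ := exists_M24_venn ∅ t (maskSet 15) (ht4.trans h15.symm) (by simp) (by simp [ht4])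
  refine ⟨g, hg, ?_⟩
  have h1 : g • S ∈ sextets := smul_sextet_mem hg hS
  have h2 : maskSet 15 ∈ g • S := by rw [← hgt]; exact Finset.smul_mem_smul_finset ht
  exact eq_sextetOf h15 h1 h2

/-- the mask form of the invariant against the standard sextet -/
def invM (n : ℕ) : ℕ :=
  ((sextetMasks n).map (fun m => (sextL.map (fun a => popc 24 (m &&& a) ^ 2)).sum)).sum

theorem hφ (m : ℕ) : (S0.sum fun a => (maskSet m ∩ a).card ^ 2) = (sextL.map (fun a => popc 24 (m &&& a) ^ 2)).sum := by
  rw [sum_S0]
  simp only [Flag.card_inter_maskSet]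

theorem hq : ∀ n ∈ canonL, invS S0 (dec n) = invM n := fun n hn =>
  sum_dec hn (fun u => S0.sum fun a => (u ∩ a).card ^ 2)
    (fun m => (sextL.map (fun a => popc 24 (m &&& a) ^ 2)).sum) hφ

end Cfsg.Agent.Helper22.SextetRef
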