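import Cfsg.Agent.Helper22.SextetCode
import Cfsg.Agent.Helper22.StabOrbits

/-!
# Orbits on sextets of the stabiliser of a standard reference object, from certificates
-/

set_option autoImplicit false

namespace Cfsg.Agent.Helper22.SextetStd

open Cfsg Cfsg.Agent.Helper27 Cfsg.Agent.Helper22.OctList Cfsg.Agent.Helper22.SextetCode
  Cfsg.Agent.Helper22.StabOrbits
open scoped Pointwise

variable {β : Type*} [MulAction (Equiv.Perm GolayPt) β] (inv : β → Finset (Finset GolayPt) → ℕ)
  (hinv : ∀ (g : Equiv.Perm GolayPt) (A : β) (X : Finset (Finset GolayPt)), inv (g • A) (g • X) = inv A X)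
  (A0 : β) (invM : ℕ → ℕ) (hq : ∀ n ∈ canonL, inv A0 (dec n) = invM n) {tbl : List ℕ}
  (htbl : canonL.map invM = tbl)

theorem sextets_invariant : ∀ g ∈ M24, ∀ X ∈ sextets, g • X ∈ sextets :=
  fun _ hg _ hX => smul_sextet_mem hg hX

include hinv hq htbl in
/-- transitivity of the stabiliser of the standard object on a class of sextets -/
theorem std_orbit {cert : List ℕ → Bool} (hc : CertSound (stabIn A0) cert) {v : ℕ} {gens : List (List ℕ)}
    {dmin : ℕ} (h : sextDescOK cert gens (clsOf tbl v) dmin = true) {X Y : Finset (Finset GolayPt)}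
    (hX : X ∈ sextets) (hY : Y ∈ sextets) (hXv : inv A0 X = v) (hYv : inv A0 Y = v) :
    ∃ k ∈ stabIn A0, k • X = Y := by
  refine sext_orbit hc (stabIn_le A0) (q := fun n => invM n == v) (fun X => inv A0 X = v) ?_ ?_ ?_ h hX hY hXv hYv
  · intro g hg X _ hQ
    rw [inv_smul_of_stab inv hinv ((mem_stabIn A0 g).mp hg).2, hQ]
  · intro n hn
    rw [hq n hn, beq_iff_eq]
  · intro n hn hqn
    rw [beq_iff_eq] at hqn
    exact mem_clsOf htbl hn hqn

include hq htbl in
/-- class sizes for the standard object -/
theorem std_count (v : ℕ) : {X | X ∈ sextets ∧ inv A0 X = v}.ncard = tbl.count v := by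
  rw [← countP_eq_count htbl v, ← ncard_sextets (fun X => inv A0 X = v) (fun n => invM n == v)
    (fun n hn => by rw [hq n hn, beq_iff_eq])]

include hq htbl in
/-- the values taken by the invariant -/
theorem std_vals {vals : List ℕ} (hvals : tbl.all (fun v => vals.contains v) = true)
    {X : Finset (Finset GolayPt)} (hX : X ∈ sextets) : inv A0 X ∈ vals := by
  obtain ⟨n, hn, rfl⟩ := exists_code hX
  rw [hq n hn]
  have h1 : invM n ∈ tbl := by rw [← htbl]; exact List.mem_map_of_mem hn
  have := List.all_eq_true.mp hvals _ h1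
  simpa using this

end Cfsg.Agent.Helper22.SextetStd
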