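import Cfsg.Agent.Helper22.SextetCode

/-!
Certificates for orbits on sextets (generated).
-/

set_option autoImplicit false

namespace Cfsg.Agent.Helper22.SextetTriadCert

open Cfsg Cfsg.Agent.Helper27 Cfsg.Agent.Helper22.Flag Cfsg.Agent.Helper22.OctList Cfsg.Agent.Helper22.SextetCode
open scoped Pointwise

/-- number of tetrads of the sextet of a code meeting the points `0, 1, 2` -/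
def invM (n : ℕ) : ℕ := ((sextetMasks n).map (fun m => if popc 24 (m &&& 7) == 0 then 0 else 1)).sum


/-- the table of values of `invM` on the codes -/
def invL : List ℕ := [
  1, 1, 2, 2, 1, 2, 2, 2, 2, 3, 1, 2, 2, 2, 2, 3, 2, 2, 3, 3, 1, 2, 2, 2, 2, 2, 2, 2, 3, 3, 2, 2, 3, 3, 3, 1, 2, 2, 2, 2,
  3, 2, 2, 3, 3, 2, 2, 3, 2, 3, 2, 2, 3, 3, 3, 3, 1, 2, 2, 2, 2, 3, 2, 2, 3, 2, 2, 2, 2, 3, 3, 2, 2, 3, 3, 3, 3, 2, 2, 3,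
  3, 3, 3, 2, 1, 2, 2, 2, 2, 2, 2, 2, 3, 3, 2, 2, 3, 3, 3, 2, 2, 2, 2, 3, 3, 2, 2, 3, 3, 2, 3, 3, 2, 2, 3, 3, 3, 3, 3, 3,
  1, 2, 2, 2, 2, 3, 2, 2, 3, 3, 2, 2, 2, 3, 3, 2, 2, 3, 3, 2, 3, 2, 2, 3, 3, 3, 3, 3, 2, 2, 2, 3, 3, 2, 3, 3, 2, 2, 3, 3,
  3, 3, 3, 3, 3, 1, 2, 2, 2, 2, 2, 2, 2, 3, 3, 2, 2, 3, 3, 2, 2, 2, 2, 2, 3, 3, 2, 2, 3, 3, 3, 3, 3, 2, 2, 3, 3, 3, 3, 3,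
  3, 2, 2, 2, 2, 3, 3, 2, 3, 3, 2, 2, 3, 3, 3, 3, 3, 2, 3, 3, 1, 2, 2, 2, 2, 3, 2, 2, 3, 3, 2, 2, 3, 3, 2, 2, 2, 3, 3, 3,
  3, 2, 2, 3, 3, 3, 3, 2, 2, 2, 3, 3, 3, 3, 2, 2, 2, 2, 3, 3, 3, 3, 3, 3, 3, 2, 2, 3, 3, 3, 3, 3, 3, 3, 2, 2, 2, 3, 3, 2,
  2, 3, 3, 3, 3, 3, 1, 2, 2, 2, 2, 3, 2, 2, 2, 3, 2, 2, 3, 2, 3, 2, 2, 3, 3, 3, 3, 2, 2, 3, 2, 3, 2, 3, 2, 2, 3, 3, 3, 3,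
  3, 3, 2, 2, 3, 3, 3, 3, 3, 3, 3, 2, 2, 3, 3, 3, 3, 3, 3, 3, 2, 2, 2, 3, 3, 3, 3, 3, 3, 2, 3, 3, 2, 2, 3, 3, 3, 3, 3, 3,
  3, 2, 2, 3, 1, 2, 2, 2, 2, 3, 2, 2, 3, 3, 2, 2, 3, 3, 2, 2, 2, 3, 3, 3, 3, 2, 2, 2, 3, 3, 3, 3, 2, 2, 3, 3, 3, 3, 3, 3,
  2, 2, 3, 3, 3, 3, 3, 3, 2, 2, 2, 3, 2, 3, 3, 3, 3, 3, 3, 2, 2, 3, 3, 2, 2, 3, 3, 3, 3, 3, 2, 2, 3, 3, 2, 2, 3, 3, 3, 3,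
  3, 2, 2, 2, 3, 3, 3, 3, 2, 3, 3, 3, 3, 3, 3, 1, 2, 2, 2, 2, 3, 2, 2, 3, 3, 2, 2, 3, 3, 3, 2, 2, 3, 3, 2, 3, 2, 2, 2, 3,
  3, 3, 3, 2, 2, 3, 3, 3, 3, 3, 3, 2, 2, 3, 3, 3, 2, 3, 3, 3, 2, 2, 3, 3, 2, 3, 2, 3, 3, 3, 2, 2, 3, 3, 3, 3, 3, 3, 2, 3,
  3, 2, 2, 3, 2, 3, 3, 3, 3, 3, 3, 3, 3, 2, 2, 3, 3, 3, 3, 3, 3, 2, 3, 3, 2, 3, 2, 2, 2, 3, 3, 3, 3, 2, 3, 3, 3, 3, 3, 3,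
  1, 2, 2, 2, 2, 3, 2, 2, 2, 3, 2, 2, 3, 3, 3, 2, 2, 3, 3, 3, 3, 2, 2, 3, 3, 3, 3, 2, 2, 2, 3, 3, 3, 3, 2, 2, 2, 2, 3, 3,
  3, 2, 3, 3, 3, 2, 2, 3, 2, 3, 3, 3, 3, 3, 3, 2, 2, 3, 3, 3, 3, 3, 3, 3, 3, 3, 2, 2, 3, 3, 3, 3, 2, 2, 2, 3, 3, 3, 2, 2,
  2, 3, 2, 3, 3, 3, 3, 3, 3, 3, 3, 2, 2, 3, 2, 3, 3, 3, 3, 3, 3, 2, 3, 3, 3, 2, 2, 3, 3, 3, 2, 3, 3, 3, 2, 3, 3, 3, 3, 3,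
  1, 2, 2, 2, 2, 3, 2, 2, 3, 2, 2, 2, 3, 3, 3, 2, 2, 3, 3, 3, 3, 2, 2, 3, 3, 3, 3, 3, 2, 2, 3, 2, 2, 3, 3, 3, 2, 2, 3, 3,
  3, 2, 3, 3, 3, 2, 2, 3, 3, 3, 3, 3, 2, 3, 3, 2, 2, 3, 3, 3, 3, 3, 2, 3, 3, 2, 2, 2, 2, 3, 3, 3, 3, 3, 3, 3, 3, 3, 2, 2,
  3, 3, 3, 3, 2, 3, 3, 3, 3, 3, 3, 2, 2, 3, 3, 3, 3, 2, 3, 3, 3, 3, 3, 3, 2, 2, 2, 3, 3, 3, 2, 3, 3, 3, 2, 3, 3, 3, 3, 3,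
  2, 2, 3, 3, 3, 2, 3, 3, 3, 2, 3, 3, 3, 3, 3, 2, 1, 2, 2, 2, 2, 3, 2, 2, 3, 2, 2, 2, 3, 3, 3, 2, 2, 3, 3, 3, 2, 2, 2, 2,
  3, 3, 3, 3, 2, 2, 3, 2, 2, 3, 3, 3, 2, 2, 3, 3, 3, 3, 3, 3, 3, 2, 2, 3, 3, 3, 3, 3, 3, 3, 2, 2, 2, 3, 3, 3, 3, 3, 3, 3,
  3, 3, 2, 2, 3, 3, 3, 3, 3, 3, 3, 2, 2, 3, 2, 2, 3, 3, 3, 3, 3, 3, 3, 2, 2, 3, 2, 2, 2, 2, 3, 3, 3, 3, 2, 3, 3, 3, 3, 3,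
  3, 2, 2, 2, 3, 3, 3, 3, 2, 3, 3, 3, 3, 3, 3, 2, 2, 2, 3, 3, 3, 3, 3, 3, 3, 3, 3, 2, 3, 3, 3, 3, 2, 2, 3, 2, 2, 3, 3, 3,
  2, 3, 3, 3, 3, 3, 3, 3, 3, 1, 2, 2, 2, 2, 3, 2, 2, 3, 3, 2, 2, 3, 2, 3, 2, 2, 3, 3, 2, 3, 2, 2, 3, 2, 3, 2, 3, 2, 2, 3,
  3, 3, 3, 3, 3, 2, 2, 3, 3, 3, 3, 3, 3, 2, 2, 2, 3, 3, 2, 3, 2, 3, 3, 3, 2, 2, 3, 3, 3, 3, 3, 3, 3, 3, 3, 2, 2, 2, 3, 3,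
  3, 3, 3, 3, 3, 3, 3, 2, 2, 3, 2, 3, 2, 3, 2, 3, 3, 3, 3, 3, 2, 2, 3, 3, 3, 3, 3, 3, 2, 2, 3, 3, 3, 3, 2, 2, 3, 3, 2, 3,
  2, 3, 3, 3, 2, 3, 3, 3, 3, 2, 2, 3, 3, 3, 3, 3, 3, 3, 3, 3, 2, 3, 3, 3, 3, 2, 2, 2, 3, 3, 3, 3, 3, 3, 3, 3, 3, 2, 3, 3,
  3, 3, 2, 2, 3, 3, 3, 3, 3, 3, 3, 3, 3, 2, 3, 3, 3, 3, 2, 3, 1, 2, 2, 2, 2, 3, 2, 2, 3, 3, 2, 2, 3, 3, 3, 2, 2, 3, 3, 3,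
  2, 2, 2, 3, 3, 2, 3, 3, 2, 2, 3, 3, 3, 3, 3, 3, 2, 2, 3, 3, 2, 3, 3, 2, 3, 2, 2, 3, 2, 3, 3, 3, 3, 3, 3, 2, 2, 3, 3, 3,
  3, 3, 3, 2, 3, 3, 2, 2, 2, 3, 3, 3, 3, 3, 3, 3, 3, 3, 2, 2, 3, 3, 3, 3, 3, 3, 2, 3, 3, 2, 3, 2, 2, 3, 2, 3, 3, 3, 3, 3,
  3, 2, 3, 3, 3, 2, 2, 3, 3, 3, 3, 3, 3, 2, 3, 3, 2, 3, 2, 3, 2, 2, 3, 2, 3, 3, 3, 3, 3, 3, 2, 3, 3, 3, 2, 3, 2, 2, 2, 3,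
  3, 3, 3, 3, 3, 3, 3, 3, 2, 3, 3, 3, 3, 2, 2, 3, 3, 3, 2, 2, 3, 3, 3, 3, 3, 3, 3, 3, 3, 3, 3, 2, 2, 2, 3, 3, 3, 3, 3, 3,
  3, 3, 3, 2, 3, 3, 3, 3, 2, 3, 1, 2, 2, 2, 2, 3, 2, 2, 3, 3, 2, 2, 2, 3, 3, 2, 2, 3, 3, 3, 3, 2, 2, 3, 3, 2, 3, 3, 2, 2,
  2, 3, 3, 2, 3, 3, 2, 2, 3, 3, 2, 3, 3, 2, 3, 2, 2, 2, 3, 3, 2, 3, 3, 2, 3, 2, 2, 3, 3, 3, 3, 3, 3, 3, 3, 3, 2, 2, 3, 2,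
  3, 3, 3, 3, 3, 3, 3, 3, 2, 2, 3, 3, 3, 3, 2, 3, 3, 3, 3, 3, 3, 2, 2, 3, 3, 3, 3, 2, 3, 3, 3, 3, 3, 3, 2, 2, 2, 3, 2, 3,
  3, 3, 3, 3, 3, 3, 3, 2, 3, 3, 2, 2, 3, 3, 3, 3, 3, 3, 3, 3, 3, 2, 3, 3, 3, 3, 2, 2, 3, 3, 3, 3, 2, 3, 3, 3, 3, 3, 3, 2,
  2, 3, 3, 2, 2, 3, 3, 3, 3, 3, 3, 3, 3, 3, 2, 3, 3, 3, 3, 2, 3, 2, 2, 3, 3, 3, 3, 3, 3, 3, 3, 3, 2, 3, 3, 3, 3, 2, 3, 2,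
  2, 2, 3, 3, 2, 3, 3, 2, 3, 2, 3, 3, 3, 3, 3, 3, 3, 3, 3, 3, 1, 2, 2, 2, 2, 3, 2, 2, 2, 3, 2, 2, 3, 3, 3, 2, 2, 3, 3, 3,
  2, 2, 2, 3, 3, 3, 3, 3, 2, 2, 3, 3, 3, 3, 3, 3, 2, 2, 3, 3, 3, 3, 3, 3, 2, 2, 2, 3, 3, 3, 3, 3, 2, 3, 3, 2, 2, 3, 3, 3,
  3, 3, 2, 3, 3, 2, 2, 2, 3, 2, 3, 3, 3, 3, 3, 3, 3, 3, 2, 2, 2, 3, 2, 3, 3, 3, 3, 3, 3, 3, 3, 2, 2, 3, 3, 3, 3, 3, 3, 2,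
  2, 3, 3, 3, 3, 2, 2, 3, 2, 3, 3, 3, 3, 3, 3, 3, 3, 2, 3, 3, 2, 2, 2, 3, 2, 3, 3, 3, 3, 3, 3, 3, 3, 2, 3, 3, 2, 2, 3, 3,
  3, 3, 3, 2, 3, 3, 2, 2, 3, 3, 3, 3, 3, 2, 2, 3, 3, 3, 2, 2, 3, 3, 3, 3, 3, 3, 3, 3, 3, 3, 3, 2, 2, 3, 3, 3, 3, 3, 3, 2,
  2, 3, 3, 3, 3, 2, 3, 3, 3, 3, 2, 2, 3, 3, 3, 2, 2, 3, 3, 3, 3, 3, 3, 3, 3, 3, 3, 3, 2, 3, 2, 2, 3, 2, 3, 3, 3, 3, 3, 3,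
  3, 3, 2, 3, 3, 2, 3, 3, 3, 3, 3]

theorem invL_ok : canonL.map invM = invL := by decide +kernel

/-- descent generators for the class of value `1` (21 sextets) -/
def gens1 : List (List ℕ) := [
  [2, 1, 0, 3, 5, 7, 15, 23, 13, 16, 17, 19, 14, 22, 12, 18, 21, 4, 11, 20, 6, 9, 8, 10],
  [2, 1, 0, 23, 11, 21, 3, 8, 9, 17, 12, 5, 18, 13, 6, 20, 10, 7, 4, 15, 22, 16, 14, 19],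
  [2, 1, 0, 20, 6, 16, 15, 14, 13, 10, 4, 9, 8, 19, 5, 3, 21, 11, 17, 18, 12, 22, 23, 7],
  [2, 0, 1, 4, 16, 21, 19, 22, 3, 9, 13, 5, 23, 6, 15, 7, 10, 11, 14, 12, 8, 20, 18, 17]]

theorem desc1 : sextDescOK (certF 7 []) gens1 (clsOf invL 1) 15 = true := by decide +kernel

theorem cnt1 : invL.count 1 = 21 := by decide +kernel

/-- descent generators for the class of value `2` (630 sextets) -/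
def gens2 : List (List ℕ) := [
  [0, 1, 2, 10, 14, 3, 16, 13, 9, 17, 11, 18, 19, 8, 12, 15, 20, 7, 5, 23, 21, 22, 6, 4],
  [0, 1, 2, 5, 6, 4, 16, 12, 17, 20, 15, 7, 13, 22, 18, 23, 3, 19, 8, 14, 10, 21, 11, 9],
  [0, 1, 2, 3, 7, 14, 8, 12, 13, 15, 10, 16, 4, 6, 17, 20, 21, 5, 22, 18, 9, 11, 19, 23],
  [0, 1, 2, 5, 4, 8, 15, 9, 11, 6, 18, 13, 19, 3, 21, 16, 7, 22, 14, 20, 17, 23, 12, 10],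
  [0, 1, 2, 5, 7, 10, 6, 11, 23, 12, 20, 13, 16, 18, 21, 17, 14, 8, 4, 3, 19, 9, 15, 22],
  [0, 2, 1, 8, 7, 5, 3, 9, 12, 16, 13, 19, 17, 14, 10, 23, 18, 21, 20, 11, 4, 6, 15, 22],
  [0, 1, 2, 3, 6, 8, 23, 9, 21, 14, 22, 17, 11, 12, 19, 18, 13, 16, 4, 20, 7, 10, 5, 15],
  [1, 2, 0, 4, 12, 21, 20, 7, 22, 14, 10, 6, 3, 18, 17, 13, 23, 15, 9, 16, 19, 5, 8, 11],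
  [2, 1, 0, 10, 3, 5, 20, 12, 18, 23, 4, 15, 7, 11, 21, 16, 6, 8, 14, 17, 13, 19, 9, 22],
  [0, 1, 2, 3, 5, 21, 16, 17, 7, 8, 23, 15, 14, 9, 20, 12, 4, 13, 22, 10, 11, 6, 19, 18],
  [2, 1, 0, 6, 22, 4, 7, 9, 15, 23, 11, 19, 3, 10, 14, 12, 5, 20, 16, 13, 18, 17, 21, 8],
  [2, 0, 1, 4, 3, 16, 14, 10, 5, 8, 7, 6, 12, 21, 23, 9, 18, 22, 15, 19, 17, 11, 20, 13],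
  [2, 0, 1, 3, 8, 11, 20, 15, 14, 18, 19, 21, 16, 7, 6, 5, 17, 22, 12, 23, 4, 10, 13, 9]]

theorem desc2 : sextDescOK (certF 7 []) gens2 (clsOf invL 2) 27 = true := by decide +kernel

theorem cnt2 : invL.count 2 = 630 := by decide +kernel

/-- descent generators for the class of value `3` (1120 sextets) -/
def gens3 : List (List ℕ) := [
  [0, 1, 2, 18, 21, 16, 11, 3, 4, 12, 13, 8, 20, 7, 17, 5, 19, 10, 14, 9, 15, 22, 23, 6],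
  [0, 2, 1, 10, 16, 15, 12, 17, 14, 3, 18, 4, 6, 5, 9, 13, 11, 23, 8, 19, 21, 22, 7, 20],
  [0, 1, 2, 16, 20, 10, 14, 7, 8, 9, 5, 12, 11, 13, 6, 19, 3, 17, 23, 15, 4, 22, 21, 18],
  [0, 1, 2, 10, 3, 9, 19, 12, 8, 11, 7, 14, 4, 18, 15, 5, 21, 23, 6, 22, 16, 17, 13, 20],
  [0, 1, 2, 16, 5, 8, 13, 11, 6, 22, 20, 23, 7, 9, 15, 17, 18, 3, 21, 10, 12, 14, 4, 19],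
  [0, 2, 1, 9, 4, 10, 14, 5, 6, 12, 18, 21, 19, 13, 20, 11, 22, 15, 7, 3, 8, 17, 16, 23],
  [0, 2, 1, 8, 7, 5, 3, 9, 12, 16, 13, 19, 17, 14, 10, 23, 18, 21, 20, 11, 4, 6, 15, 22],
  [0, 2, 1, 8, 18, 10, 4, 11, 9, 6, 23, 14, 12, 3, 5, 7, 13, 22, 16, 17, 19, 15, 20, 21],
  [0, 2, 1, 7, 3, 8, 6, 12, 22, 19, 10, 23, 4, 20, 9, 14, 18, 17, 16, 15, 11, 5, 21, 13],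
  [0, 2, 1, 15, 13, 3, 11, 5, 10, 21, 12, 17, 6, 22, 19, 9, 23, 8, 18, 20, 14, 7, 4, 16],
  [0, 2, 1, 4, 17, 5, 8, 15, 7, 14, 11, 6, 21, 22, 9, 10, 12, 18, 23, 3, 13, 16, 20, 19],
  [2, 1, 0, 16, 11, 15, 9, 7, 6, 21, 5, 14, 20, 23, 3, 10, 18, 19, 4, 17, 22, 13, 12, 8],
  [0, 1, 2, 5, 7, 10, 6, 11, 23, 12, 20, 13, 16, 18, 21, 17, 14, 8, 4, 3, 19, 9, 15, 22],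
  [1, 2, 0, 12, 8, 20, 13, 23, 7, 6, 11, 15, 18, 21, 17, 3, 10, 19, 14, 4, 9, 16, 5, 22],
  [0, 2, 1, 3, 6, 15, 14, 9, 4, 5, 11, 23, 22, 18, 8, 7, 10, 19, 13, 12, 20, 21, 17, 16],
  [2, 1, 0, 13, 17, 19, 21, 9, 15, 20, 8, 18, 7, 23, 11, 6, 5, 10, 22, 12, 4, 16, 3, 14],
  [2, 1, 0, 7, 8, 18, 21, 9, 10, 23, 17, 19, 13, 20, 22, 3, 4, 15, 11, 12, 5, 16, 6, 14],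
  [2, 0, 1, 11, 23, 10, 4, 18, 22, 15, 8, 17, 12, 7, 13, 3, 6, 14, 20, 9, 16, 5, 21, 19],
  [1, 2, 0, 8, 23, 15, 14, 12, 17, 20, 11, 6, 18, 22, 3, 7, 13, 19, 10, 9, 5, 21, 4, 16],
  [0, 1, 2, 3, 8, 4, 22, 15, 5, 6, 19, 11, 16, 13, 10, 23, 17, 12, 20, 14, 21, 18, 9, 7],
  [2, 0, 1, 15, 16, 4, 7, 19, 20, 22, 8, 18, 3, 12, 11, 10, 9, 17, 13, 23, 5, 6, 14, 21]]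

theorem desc3 : sextDescOK (certF 7 []) gens3 (clsOf invL 3) 57 = true := by decide +kernel

theorem cnt3 : invL.count 3 = 1120 := by decide +kernel



end Cfsg.Agent.Helper22.SextetTriadCert
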