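import Cfsg.Agent.Helper22.Steiner

/-!
Generic block counts and Leech triangles of Steiner systems `S(t, k, v)`, from a chain of numbers `c` with
`c t = 1` and `(k - i) * c i = (v - i) * c (i + 1)`.
-/

set_option autoImplicit false

namespace Cfsg.Agent.Helper22.Design

open Cfsg

variable {α : Type*} [Fintype α] [DecidableEq α]

/-- block counts along a chain -/
theorem cnt_eq_of_chain {t k : ℕ} {B : Set (Finset α)} (hB : IsSteinerSystem t k B) (c : ℕ → ℕ) (hct : c t = 1)
    (hstep : ∀ i < t, 0 < k - i ∧ (k - i) * c i = (Fintype.card α - i) * c (i + 1)) :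
    ∀ j ≤ t, ∀ s : Finset α, s.card = t - j → cnt (toFin B) s = c (t - j) := by
  intro j
  induction j with
  | zero =>
    intro _ s hs
    rw [Nat.sub_zero] at hs ⊢
    rw [cnt_eq_one hB s hs, hct]
  | succ j ih =>
    intro hj s hs
    have hlt : t - (j + 1) < t := by omega
    obtain ⟨hpos, heq⟩ := hstep (t - (j + 1)) hlt
    have e : t - (j + 1) + 1 = t - j := by omega
    have h1 := cnt_of_succ (toFin B) k (card_of_mem_toFin hB) (t - (j + 1)) (c (t - j))
      (fun s' hs' => ih (by omega) s' (by rw [hs', e])) s hs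
    rw [e] at heq
    rw [← heq] at h1
    exact Nat.eq_of_mul_eq_mul_left hpos h1

theorem cnt_eq_of_chain' {t k : ℕ} {B : Set (Finset α)} (hB : IsSteinerSystem t k B) (c : ℕ → ℕ) (hct : c t = 1)
    (hstep : ∀ i < t, 0 < k - i ∧ (k - i) * c i = (Fintype.card α - i) * c (i + 1))
    (s : Finset α) (hs : s.card ≤ t) : cnt (toFin B) s = c s.card := by
  have := cnt_eq_of_chain hB c hct hstep (t - s.card) (by omega) s (by omega)
  rw [this]
  congr 1
  omega

/-- the number of blocks is `c 0` -/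
theorem card_blocks_of_chain {t k : ℕ} {B : Set (Finset α)} (hB : IsSteinerSystem t k B) (c : ℕ → ℕ) (hct : c t = 1)
    (hstep : ∀ i < t, 0 < k - i ∧ (k - i) * c i = (Fintype.card α - i) * c (i + 1)) : B.ncard = c 0 := by
  rw [ncard_eq_card, ← cnt_empty, cnt_eq_of_chain' hB c hct hstep ∅ (by simp)]
  rfl

/-- the diagonal of the Leech triangle: `c i` up to `t`, then `1` -/
def diag (t : ℕ) (c : ℕ → ℕ) : ℕ → ℕ := fun i => if i ≤ t then c i else 1

theorem cnt_sub_of_chain {t k : ℕ} {B : Set (Finset α)} (hB : IsSteinerSystem t k B) (c : ℕ → ℕ) (hct : c t = 1)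
    (hstep : ∀ i < t, 0 < k - i ∧ (k - i) * c i = (Fintype.card α - i) * c (i + 1))
    {b : Finset α} (hb : b ∈ B) (T : Finset α) (hT : T ⊆ b) : cnt (toFin B) T = diag t c T.card := by
  unfold diag
  split_ifs with h
  · exact cnt_eq_of_chain' hB c hct hstep T h
  · exact cnt_sub_block hB hb hT (by omega)

/-- the bottom row of the Leech triangle -/
theorem meet_of_chain {t k : ℕ} {B : Set (Finset α)} (hB : IsSteinerSystem t k B) (c : ℕ → ℕ) (hct : c t = 1)
    (hstep : ∀ i < t, 0 < k - i ∧ (k - i) * c i = (Fintype.card α - i) * c (i + 1))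
    {b : Finset α} (hb : b ∈ B) (S : Finset α) (hS : S ⊆ b) :
    meet (toFin B) b S = tri (diag t c) (k - S.card) k S.card := by
  have hk : b.card = k := hB.1 b hb
  have hSk : S.card ≤ k := hk ▸ Finset.card_le_card hS
  have := meet_eq_tri (toFin B) b (diag t c) (fun T hT => cnt_sub_of_chain hB c hct hstep hb T hT) (k - S.card) b S
    (Finset.Subset.refl b) hS (by omega)
  rw [hk] at this
  exact this

/-- two blocks: the intersection pattern has a positive entry in the bottom row -/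
theorem tri_pos_of_blocks {t k : ℕ} {B : Set (Finset α)} (hB : IsSteinerSystem t k B) (c : ℕ → ℕ) (hct : c t = 1)
    (hstep : ∀ i < t, 0 < k - i ∧ (k - i) * c i = (Fintype.card α - i) * c (i + 1))
    {b b' : Finset α} (hb : b ∈ B) (hb' : b' ∈ B) :
    0 < tri (diag t c) (k - (b ∩ b').card) k (b ∩ b').card := by
  rw [← meet_of_chain hB c hct hstep hb (b ∩ b') Finset.inter_subset_left]
  unfold meet
  rw [Finset.card_pos]
  exact ⟨b', by simp [mem_toFin, hb', Finset.inter_comm]⟩

/-! ### Chains for the classical parameters -/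

/-- `S(5, 8, 24)` -/
def ch5824 : ℕ → ℕ := fun i => [759, 253, 77, 21, 5, 1].getD i 0
/-- `S(4, 7, 23)` -/
def ch4723 : ℕ → ℕ := fun i => [253, 77, 21, 5, 1].getD i 0
/-- `S(3, 6, 22)` -/
def ch3622 : ℕ → ℕ := fun i => [77, 21, 5, 1].getD i 0
/-- `S(5, 6, 12)` -/
def ch5612 : ℕ → ℕ := fun i => [132, 66, 30, 12, 4, 1].getD i 0
/-- `S(4, 5, 11)` -/
def ch4511 : ℕ → ℕ := fun i => [66, 30, 12, 4, 1].getD i 0

theorem step5824 : ∀ i < 5, 0 < 8 - i ∧ (8 - i) * ch5824 i = (24 - i) * ch5824 (i + 1) := by decide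
theorem step4723 : ∀ i < 4, 0 < 7 - i ∧ (7 - i) * ch4723 i = (23 - i) * ch4723 (i + 1) := by decide
theorem step3622 : ∀ i < 3, 0 < 6 - i ∧ (6 - i) * ch3622 i = (22 - i) * ch3622 (i + 1) := by decide
theorem step5612 : ∀ i < 5, 0 < 6 - i ∧ (6 - i) * ch5612 i = (12 - i) * ch5612 (i + 1) := by decide
theorem step4511 : ∀ i < 4, 0 < 5 - i ∧ (5 - i) * ch4511 i = (11 - i) * ch4511 (i + 1) := by decide

end Cfsg.Agent.Helper22.Design
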