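import Cfsg.Prelude.Def_SporadicCombinatorics
import Mathlib

set_option autoImplicit false
open Cfsg

namespace Cfsg.Agent.Helper22.Tern

/-- Parameter space of the length-12 ternary code. -/
abbrev E := ZMod 3 × ZMod 3 × ZMod 3 × ZMod 3 × ZMod 3 × ZMod 3

def mkW (m : Fin 4 → Fin 3 → ZMod 3) : ArrayPt → ZMod 3 := fun p => m p.1 p.2

def B0 : ArrayPt → ZMod 3 := mkW ![![1,0,0],![0,0,1],![0,0,1],![1,1,2]]
def B1 : ArrayPt → ZMod 3 := mkW ![![0,1,0],![0,0,1],![0,2,2],![2,0,2]]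
def B2 : ArrayPt → ZMod 3 := mkW ![![0,0,1],![0,0,1],![0,1,0],![2,1,1]]
def B3 : ArrayPt → ZMod 3 := mkW ![![0,0,0],![1,0,2],![0,2,1],![2,1,0]]
def B4 : ArrayPt → ZMod 3 := mkW ![![0,0,0],![0,1,2],![0,1,2],![0,1,2]]
def B5 : ArrayPt → ZMod 3 := mkW ![![0,0,0],![0,0,0],![1,1,1],![2,2,2]]

/-- The encoder: linear combination of the six basis words. -/
def enc (c : E) : ArrayPt → ZMod 3 := fun p =>
  c.1 * B0 p + c.2.1 * B1 p + c.2.2.1 * B2 p + c.2.2.2.1 * B3 p + c.2.2.2.2.1 * B4 p + c.2.2.2.2.2 * B5 p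

/-- The decoder: read off the six information positions. -/
def dec (x : ArrayPt → ZMod 3) : E :=
  (x (0, 0), x (0, 1), x (0, 2), x (1, 0), x (1, 1), x (2, 0))

theorem mem_tetracode_iff (t : Fin 4 → ZMod 3) :
    t ∈ tetracode ↔ ∃ a b : ZMod 3, t = ![b, a, a + b, a + 2 * b] := by
  unfold tetracode
  rw [Submodule.mem_span_pair]
  constructor
  · rintro ⟨a, b, rfl⟩
    refine ⟨a, b, ?_⟩
    ext i
    fin_cases i <;> simp <;> ring
  · rintro ⟨a, b, rfl⟩
    refine ⟨a, b, ?_⟩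
    ext i
    fin_cases i <;> simp <;> ring

/-- Concrete, decidable form of the defining conditions. -/
def IsTG (x : ArrayPt → ZMod 3) : Prop :=
  ∃ s : ZMod 3, (∀ i : Fin 4, x (i, 0) + x (i, 1) + x (i, 2) = -s) ∧
    ∀ a b : ZMod 3, x (0, b) + x (1, a) + x (2, a + b) + x (3, a + 2 * b) = s

instance instDecIsTG (x : ArrayPt → ZMod 3) : Decidable (IsTG x) := by
  unfold IsTG; infer_instance

theorem sum_zmod3 (f : ZMod 3 → ZMod 3) : ∑ r : ZMod 3, f r = f 0 + f 1 + f 2 := by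
  have h : (Finset.univ : Finset (ZMod 3)) = {0, 1, 2} := by decide
  rw [h, Finset.sum_insert (by decide), Finset.sum_insert (by decide), Finset.sum_singleton,
    add_assoc]

theorem isTG_iff (x : ArrayPt → ZMod 3) : IsTernaryGolayWord x ↔ IsTG x := by
  unfold IsTernaryGolayWord IsTG
  constructor
  · rintro ⟨s, h1, h2⟩
    refine ⟨s, fun i => ?_, fun a b => ?_⟩
    · rw [← h1 i, sum_zmod3]
    · have := h2 ![b, a, a + b, a + 2 * b] ((mem_tetracode_iff _).2 ⟨a, b, rfl⟩)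
      rw [Fin.sum_univ_four] at this
      simpa using this
  · rintro ⟨s, h1, h2⟩
    refine ⟨s, fun i => ?_, fun t ht => ?_⟩
    · rw [sum_zmod3, h1 i]
    · obtain ⟨a, b, rfl⟩ := (mem_tetracode_iff t).1 ht
      rw [Fin.sum_univ_four]
      simpa using h2 a b

theorem mem_code_iff_isTG (x : ArrayPt → ZMod 3) : x ∈ ternaryGolayCode ↔ IsTG x :=
  isTG_iff x

theorem B0_mem : B0 ∈ ternaryGolayCode := (mem_code_iff_isTG _).2 (by decide +kernel)
theorem B1_mem : B1 ∈ ternaryGolayCode := (mem_code_iff_isTG _).2 (by decide +kernel)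
theorem B2_mem : B2 ∈ ternaryGolayCode := (mem_code_iff_isTG _).2 (by decide +kernel)
theorem B3_mem : B3 ∈ ternaryGolayCode := (mem_code_iff_isTG _).2 (by decide +kernel)
theorem B4_mem : B4 ∈ ternaryGolayCode := (mem_code_iff_isTG _).2 (by decide +kernel)
theorem B5_mem : B5 ∈ ternaryGolayCode := (mem_code_iff_isTG _).2 (by decide +kernel)

theorem enc_eq (c : E) : enc c =
    c.1 • B0 + c.2.1 • B1 + c.2.2.1 • B2 + c.2.2.2.1 • B3 + c.2.2.2.2.1 • B4 + c.2.2.2.2.2 • B5 := by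
  funext p
  simp [enc]

theorem enc_mem (c : E) : enc c ∈ ternaryGolayCode := by
  rw [enc_eq]
  exact Submodule.add_mem _ (Submodule.add_mem _ (Submodule.add_mem _ (Submodule.add_mem _
    (Submodule.add_mem _ (Submodule.smul_mem _ _ B0_mem) (Submodule.smul_mem _ _ B1_mem))
    (Submodule.smul_mem _ _ B2_mem)) (Submodule.smul_mem _ _ B3_mem))
    (Submodule.smul_mem _ _ B4_mem)) (Submodule.smul_mem _ _ B5_mem)

theorem dec_enc (c : E) : dec (enc c) = c := by
  revert c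
  decide +kernel

theorem enc_injective : Function.Injective enc :=
  Function.LeftInverse.injective dec_enc

theorem core_zero : ∀ u1 u2 u3 u4 u5 u6 : ZMod 3,
    IsTG (mkW ![![0,0,0],![0,0,u1],![0,u2,u3],![u4,u5,u6]]) →
      u1 = 0 ∧ u2 = 0 ∧ u3 = 0 ∧ u4 = 0 ∧ u5 = 0 ∧ u6 = 0 := by
  decide +kernel

theorem eq_mkW (x : ArrayPt → ZMod 3) :
    x = mkW ![![x (0,0), x (0,1), x (0,2)], ![x (1,0), x (1,1), x (1,2)],
      ![x (2,0), x (2,1), x (2,2)], ![x (3,0), x (3,1), x (3,2)]] := by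
  funext p
  obtain ⟨i, r⟩ := p
  fin_cases i <;> fin_cases r <;> rfl

theorem eq_zero_of_dec_eq_zero (x : ArrayPt → ZMod 3) (hx : x ∈ ternaryGolayCode)
    (h : dec x = 0) : x = 0 := by
  rw [mem_code_iff_isTG] at hx
  simp only [dec, Prod.mk_eq_zero] at h
  obtain ⟨h00, h01, h02, h10, h11, h20⟩ := h
  rw [eq_mkW x, h00, h01, h02, h10, h11, h20] at hx
  obtain ⟨k1, k2, k3, k4, k5, k6⟩ := core_zero _ _ _ _ _ _ hx
  rw [eq_mkW x, h00, h01, h02, h10, h11, h20, k1, k2, k3, k4, k5, k6]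
  funext p
  obtain ⟨i, r⟩ := p
  fin_cases i <;> fin_cases r <;> rfl

theorem dec_sub (x y : ArrayPt → ZMod 3) : dec (x - y) = dec x - dec y := rfl

theorem enc_dec (x : ArrayPt → ZMod 3) (hx : x ∈ ternaryGolayCode) : enc (dec x) = x := by
  have h1 : x - enc (dec x) ∈ ternaryGolayCode := Submodule.sub_mem _ hx (enc_mem _)
  have h2 : dec (x - enc (dec x)) = 0 := by rw [dec_sub, dec_enc, sub_self]
  have h3 := eq_zero_of_dec_eq_zero _ h1 h2
  exact (sub_eq_zero.1 h3).symm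

theorem mem_code_iff (x : ArrayPt → ZMod 3) : x ∈ ternaryGolayCode ↔ ∃ c : E, enc c = x :=
  ⟨fun hx => ⟨dec x, enc_dec x hx⟩, fun ⟨c, hc⟩ => hc ▸ enc_mem c⟩

/-- The code is in bijection with the parameter space. -/
def codeEquiv : E ≃ ternaryGolayCode where
  toFun c := ⟨enc c, enc_mem c⟩
  invFun x := dec x.1
  left_inv c := dec_enc c
  right_inv x := Subtype.ext (enc_dec x.1 x.2)

theorem card_code : Nat.card ternaryGolayCode = 729 := by
  rw [← Nat.card_congr codeEquiv]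
  simp [E, Nat.card_eq_fintype_card, ZMod.card]

end Cfsg.Agent.Helper22.Tern
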