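import Cfsg.Agent.Helper22.PermPack3
import Cfsg.Agent.Helper22.PermPack4

/-!
# Stabiliser chains with transversal elements given by words

For permutations of many points the tables of all the transversal elements of a stabiliser chain are too large.  Here a
level of a chain gives, for each point of the orbit of the base point, a short word in a list of tables (the letters)
that fix the earlier base points.  The check of a chain shows that the products along the paths are pairwise distinct
elements of any group containing the letters: this bounds the order of the group from below, and if the order is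
known the paths give all the elements.
-/

set_option autoImplicit false

namespace Cfsg.Agent.Helper22.PermPack

/-- a level of a chain with words -/
structure TLv where
  /-- the base point -/
  b : ℕ
  /-- the length of the orbit -/
  m : ℕ
  /-- the points of the orbit, `w` bits each; the first one is the base point -/
  orb : ℕ
  /-- for each point of the orbit its place in the orbit, `w` bits each -/
  pos : ℕ
  /-- for each place a word: at most `d` letters of `wl` bits, a letter `a` is stored as `a + 1` -/
  wds : ℕ
  /-- the tables of the letters -/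
  Y : List ℕ
  /-- the tables of the inverses of the letters -/
  Yi : List ℕ

variable (n w wl d : ℕ)

/-- a point of the orbit -/
def tpt (L : TLv) (k : ℕ) : ℕ := slot w L.orb k

/-- the word of a place -/
def tword (L : TLv) (k : ℕ) : ℕ := slot (wl * d) L.wds k

/-- the tables of the letters of a word -/
def wordTabs (Y : List ℕ) : ℕ → ℕ → List ℕ
  | 0, _ => []
  | f + 1, e =>
    match Nat.beq e 0 with
    | true => []
    | false => Y.getD (Nat.sub (Nat.mod e (Nat.pow 2 wl)) 1) 0 :: wordTabs Y f (Nat.shiftRight e wl)

/-- a word with letters in the list, ending within the given length -/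
def wordOK (lenY : ℕ) : ℕ → ℕ → Bool
  | 0, e => Nat.beq e 0
  | f + 1, e =>
    Nat.beq e 0 || (Nat.blt 0 (Nat.mod e (Nat.pow 2 wl)) &&
      Nat.blt (Nat.sub (Nat.mod e (Nat.pow 2 wl)) 1) lenY && wordOK lenY f (Nat.shiftRight e wl))

/-- the tables along a path, with the letters chosen by `sel` -/
def pathTabsG (sel : TLv → List ℕ) : List TLv → List ℕ → List ℕ
  | [], _ => []
  | _ :: _, [] => []
  | L :: ls, k :: p => wordTabs wl (sel L) d (tword wl d L k) ++ pathTabsG sel ls p

/-- the tables along a path -/
def pathTabsT (ls : List TLv) (p : List ℕ) : List ℕ := pathTabsG wl d (fun L => L.Y) ls p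

/-- the tables of the inverse of the product along a path -/
def pathTabsTi (ls : List TLv) (p : List ℕ) : List ℕ := (pathTabsG wl d (fun L => L.Yi) ls p).reverse

/-- the product along a path, as a function -/
def pathF (ls : List TLv) (p : List ℕ) (i : ℕ) : ℕ := compLook w (pathTabsT wl d ls p) i

/-- a path with one place of each level -/
def pathValidT : List TLv → List ℕ → Bool
  | [], [] => true
  | [], _ :: _ => false
  | _ :: _, [] => false
  | L :: ls, k :: p => Nat.blt k L.m && pathValidT ls p

/-- the check of a level; `B` lists the earlier base points -/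
def tlevelOK (B : List ℕ) (L : TLv) : Bool :=
  Nat.blt 0 L.m && Nat.beq (tpt w L 0) L.b && Nat.blt L.b n && Nat.beq (tword wl d L 0) 0 &&
    (L.Y.all fun y => B.all fun b' => Nat.beq (slot w y b') b') &&
    (allN L.m fun k => withNat (tpt w L k) fun β => withNat (tword wl d L k) fun e =>
      Nat.blt β n && Nat.beq (slot w L.pos β) k && wordOK wl L.Y.length d e &&
        withList (wordTabs wl L.Y d e) fun ts => Nat.beq (compLook w ts L.b) β)

/-- the check of a chain -/
def tchainOK : List ℕ → List TLv → Bool
  | _, [] => true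
  | B, L :: ls => tlevelOK n w wl d B L && tchainOK (L.b :: B) ls

variable {n w wl d}

/-! ### Generalities -/

theorem compLook_append (ts ts' : List ℕ) (i : ℕ) :
    compLook w (ts ++ ts') i = compLook w ts (compLook w ts' i) := by
  induction ts with
  | nil => rfl
  | cons t ts ih =>
    show slot w t (compLook w (ts ++ ts') i) = slot w t (compLook w ts (compLook w ts' i))
    rw [ih]

theorem compLook_fix {ts : List ℕ} {b : ℕ} (h : ∀ t ∈ ts, slot w t b = b) : compLook w ts b = b := by
  induction ts with
  | nil => rfl
  | cons t ts ih =>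
    show slot w t (compLook w ts b) = b
    rw [ih (fun t' ht' => h t' (List.mem_cons_of_mem _ ht')), h t List.mem_cons_self]

theorem wordTabs_sub (Y : List ℕ) : ∀ (f e : ℕ), wordOK wl Y.length f e = true →
    ∀ t ∈ wordTabs wl Y f e, t ∈ Y := by
  intro f
  induction f with
  | zero =>
    intro e _ t ht
    simp [wordTabs] at ht
  | succ f ih =>
    intro e h t ht
    unfold wordTabs at ht
    unfold wordOK at h
    cases he : Nat.beq e 0 with
    | true =>
      rw [he] at ht
      simp at ht
    | false =>
      rw [he] at ht h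
      simp only [Bool.false_or, Bool.and_eq_true, blt_iff] at h
      rcases List.mem_cons.mp ht with rfl | ht
      · rw [List.getD_eq_getElem _ _ h.1.2]
        exact List.getElem_mem h.1.2
      · exact ih _ h.2 t ht

/-- the tables of a word and the tables of the inverses of its letters -/
theorem wordTabs_pair (Y Yi : List ℕ) : ∀ (f e : ℕ),
    wordOK wl Y.length f e = true →
      List.Forall₂ (fun t t' => ∃ a, a < Y.length ∧ t = Y.getD a 0 ∧ t' = Yi.getD a 0)
        (wordTabs wl Y f e) (wordTabs wl Yi f e) := by
  intro f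
  induction f with
  | zero =>
    intro e _
    exact List.Forall₂.nil
  | succ f ih =>
    intro e h
    unfold wordTabs
    unfold wordOK at h
    cases he : Nat.beq e 0 with
    | true => exact List.Forall₂.nil
    | false =>
      rw [he] at h
      simp only [Bool.false_or, Bool.and_eq_true, blt_iff] at h
      exact List.Forall₂.cons ⟨_, h.1.2, rfl, rfl⟩ (ih _ h.2)

/-- the product of good tables is a permutation of the group containing them -/
theorem tabs_rep (G : Subgroup (Pm n)) : ∀ ts : List ℕ, (∀ t ∈ ts, Good n w t ∧ P n w t ∈ G) →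
    ∃ g ∈ G, Rep (compLook w ts) g := by
  intro ts
  induction ts with
  | nil =>
    intro _
    exact ⟨1, Subgroup.one_mem _, rep_one⟩
  | cons t ts ih =>
    intro h
    obtain ⟨g, hg, hrep⟩ := ih (fun t' ht' => h t' (List.mem_cons_of_mem _ ht'))
    obtain ⟨h1, h2⟩ := h t List.mem_cons_self
    exact ⟨P n w t * g, Subgroup.mul_mem _ h2 hg, rep_congr (rep_mul (rep_P h1) hrep) (fun _ _ => rfl)⟩

theorem compLook_lt : ∀ ts : List ℕ, (∀ t ∈ ts, Good n w t) → ∀ i < n, compLook w ts i < n := by
  intro ts
  induction ts with
  | nil =>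
    intro _ i hi
    exact hi
  | cons t ts ih =>
    intro h i hi
    exact (h t List.mem_cons_self).1 _ (ih (fun t' ht' => h t' (List.mem_cons_of_mem _ ht')) i hi)

/-- the product of the inverses in the opposite order inverts the product -/
theorem compLook_inv : ∀ ts ts' : List ℕ,
    List.Forall₂ (fun t t' => Good n w t' ∧ ∀ i < n, slot w t (slot w t' i) = i) ts ts' →
      ∀ i < n, compLook w ts'.reverse i < n ∧ compLook w ts (compLook w ts'.reverse i) = i := by
  intro ts ts' h
  induction h with
  | nil =>
    intro i hi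
    exact ⟨hi, rfl⟩
  | @cons t t' ts ts' h1 _ ih =>
    intro i hi
    rw [List.reverse_cons, compLook_append]
    have hlt : slot w t' i < n := h1.1.1 i hi
    obtain ⟨ih1, ih2⟩ := ih (slot w t' i) hlt
    refine ⟨ih1, ?_⟩
    show slot w t (compLook w ts (compLook w ts'.reverse (compLook w [t'] i))) = i
    show slot w t (compLook w ts (compLook w ts'.reverse (slot w t' i))) = i
    rw [ih2]
    exact h1.2 i hi

/-! ### Paths -/

theorem pathF_cons (L : TLv) (ls : List TLv) (k : ℕ) (p : List ℕ) (i : ℕ) :
    pathF w wl d (L :: ls) (k :: p) i =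
      compLook w (wordTabs wl L.Y d (tword wl d L k)) (pathF w wl d ls p i) := by
  unfold pathF pathTabsT
  show compLook w (wordTabs wl L.Y d (tword wl d L k) ++ pathTabsG wl d (fun L => L.Y) ls p) i = _
  rw [compLook_append]

/-- the hypothesis on the letters of a chain -/
def LettersIn (G : Subgroup (Pm n)) (ls : List TLv) : Prop :=
  ∀ L ∈ ls, ∀ y ∈ L.Y, Good n w y ∧ P n w y ∈ G

/-- the products along the paths fix the earlier base points -/
theorem pathF_fix : ∀ (ls : List TLv) (B : List ℕ), tchainOK n w wl d B ls = true →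
    ∀ p, pathValidT ls p = true → ∀ b ∈ B, pathF w wl d ls p b = b := by
  intro ls
  induction ls with
  | nil =>
    intro B _ p _ b _
    rfl
  | cons L ls ih =>
    intro B h p hp b hb
    match p, hp with
    | [], hp => simp [pathValidT] at hp
    | k :: p, hp =>
      simp only [pathValidT, Bool.and_eq_true, blt_iff] at hp
      simp only [tchainOK, Bool.and_eq_true] at h
      obtain ⟨hL, hrest⟩ := h
      rw [pathF_cons, ih (L.b :: B) hrest p hp.2 b (List.mem_cons_of_mem _ hb)]
      simp only [tlevelOK, Bool.and_eq_true] at hL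
      obtain ⟨⟨_, hfix⟩, hpts⟩ := hL
      have hk := allN_spec hpts k hp.1
      simp only [withNat_eq, withList_eq, Bool.and_eq_true] at hk
      apply compLook_fix
      intro t ht
      have hty := wordTabs_sub L.Y d _ hk.1.2 t ht
      exact beq_iff.mp (List.all_eq_true.mp (List.all_eq_true.mp hfix t hty) b hb)

/-- the facts about a level -/
theorem tlevel_spec {B : List ℕ} {L : TLv} (h : tlevelOK n w wl d B L = true) :
    0 < L.m ∧ tpt w L 0 = L.b ∧ L.b < n ∧ tword wl d L 0 = 0 ∧
      ∀ k < L.m, tpt w L k < n ∧ slot w L.pos (tpt w L k) = k ∧ wordOK wl L.Y.length d (tword wl d L k) = true ∧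
        compLook w (wordTabs wl L.Y d (tword wl d L k)) L.b = tpt w L k := by
  simp only [tlevelOK, Bool.and_eq_true, blt_iff, beq_iff] at h
  obtain ⟨⟨⟨⟨⟨h1, h2⟩, h3⟩, h4⟩, _⟩, h6⟩ := h
  refine ⟨h1, h2, h3, h4, ?_⟩
  intro k hk
  have := allN_spec h6 k hk
  simp only [withNat_eq, withList_eq, Bool.and_eq_true, blt_iff, beq_iff] at this
  exact ⟨this.1.1.1, this.1.1.2, this.1.2, this.2⟩

/-- the soundness of the check of a chain: the products along the paths are pairwise distinct elements -/
theorem tchain_sound (G : Subgroup (Pm n)) : ∀ (ls : List TLv) (B : List ℕ), LettersIn (w := w) G ls →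
    tchainOK n w wl d B ls = true →
      ∃ S : Finset (Pm n), S.card = (ls.map fun L => L.m).prod ∧
        ∀ g ∈ S, g ∈ G ∧ ∃ p, pathValidT ls p = true ∧ Rep (pathF w wl d ls p) g := by
  intro ls
  induction ls with
  | nil =>
    intro B _ _
    refine ⟨{1}, by simp, ?_⟩
    intro g hg
    rw [Finset.mem_singleton] at hg
    subst hg
    exact ⟨Subgroup.one_mem _, [], rfl, fun _ => rfl⟩
  | cons L ls ih =>
    intro B hlet h
    classical
    have h' := h
    simp only [tchainOK, Bool.and_eq_true] at h'
    obtain ⟨hL, hrest⟩ := h'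
    obtain ⟨hm, hp0, hbn, hw0, hpts⟩ := tlevel_spec hL
    have hlet' : LettersIn (w := w) G ls := fun L' hL' => hlet L' (List.mem_cons_of_mem _ hL')
    obtain ⟨S', hS'card, hS'⟩ := ih (L.b :: B) hlet' hrest
    -- the transversal elements
    have htr : ∀ k < L.m, ∃ t ∈ G, Rep (compLook w (wordTabs wl L.Y d (tword wl d L k))) t := by
      intro k hk
      apply tabs_rep G
      intro t ht
      exact hlet L List.mem_cons_self t (wordTabs_sub L.Y d _ (hpts k hk).2.2.1 t ht)
    let Tk : ℕ → Pm n := fun k =>
      if hk : ∃ t ∈ G, Rep (compLook w (wordTabs wl L.Y d (tword wl d L k))) t then Classical.choose hk else 1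
    have hTk : ∀ k < L.m, Tk k ∈ G ∧ Rep (compLook w (wordTabs wl L.Y d (tword wl d L k))) (Tk k) := by
      intro k hk
      have hex := htr k hk
      have : Tk k = Classical.choose hex := dif_pos hex
      rw [this]
      exact Classical.choose_spec hex
    -- the elements of `S'` fix the base point
    have hS'fix : ∀ g ∈ S', (g ⟨L.b, hbn⟩).1 = L.b := by
      intro g hg
      obtain ⟨_, p, hp, hrep⟩ := hS' g hg
      rw [hrep]
      exact pathF_fix ls (L.b :: B) hrest p hp L.b List.mem_cons_self
    let f : Fin L.m × Pm n → Pm n := fun x => Tk x.1.1 * x.2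
    have hinj : Set.InjOn f ↑(Finset.univ ×ˢ S' : Finset (Fin L.m × Pm n)) := by
      rintro ⟨k, g⟩ hx ⟨k', g'⟩ hx' hff
      rw [Finset.mem_coe, Finset.mem_product] at hx hx'
      have e1 : ((Tk k.1 * g) ⟨L.b, hbn⟩).1 = tpt w L k.1 := by
        show (Tk k.1 (g ⟨L.b, hbn⟩)).1 = _
        rw [(hTk k.1 k.2).2, hS'fix g hx.2]
        exact (hpts k.1 k.2).2.2.2
      have e2 : ((Tk k'.1 * g') ⟨L.b, hbn⟩).1 = tpt w L k'.1 := by
        show (Tk k'.1 (g' ⟨L.b, hbn⟩)).1 = _
        rw [(hTk k'.1 k'.2).2, hS'fix g' hx'.2]
        exact (hpts k'.1 k'.2).2.2.2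
      have hff' : Tk k.1 * g = Tk k'.1 * g' := hff
      rw [hff'] at e1
      have hkk : k.1 = k'.1 := by
        rw [← (hpts k.1 k.2).2.1, ← (hpts k'.1 k'.2).2.1, ← e1, ← e2]
      have hkk' : k = k' := Fin.ext hkk
      subst hkk'
      have : g = g' := mul_left_cancel hff'
      rw [this]
    refine ⟨(Finset.univ ×ˢ S').image f, ?_, ?_⟩
    · rw [Finset.card_image_of_injOn hinj, Finset.card_product, Finset.card_univ, Fintype.card_fin, hS'card,
        List.map_cons, List.prod_cons]
    · intro g hg
      rw [Finset.mem_image] at hg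
      obtain ⟨⟨k, g'⟩, hx, rfl⟩ := hg
      rw [Finset.mem_product] at hx
      obtain ⟨hg'G, p, hp, hrep⟩ := hS' g' hx.2
      refine ⟨Subgroup.mul_mem _ (hTk k.1 k.2).1 hg'G, k.1 :: p, ?_, ?_⟩
      · simp only [pathValidT, Bool.and_eq_true, blt_iff]
        exact ⟨k.2, hp⟩
      · apply rep_congr (rep_mul (hTk k.1 k.2).2 hrep)
        intro i _
        exact pathF_cons L ls k.1 p i

/-- the order of a group containing the letters is at least the product of the lengths of the orbits -/
theorem tchain_card_le (G : Subgroup (Pm n)) (ls : List TLv) (B : List ℕ) (hlet : LettersIn (w := w) G ls)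
    (h : tchainOK n w wl d B ls = true) : (ls.map fun L => L.m).prod ≤ Nat.card G := by
  obtain ⟨S, hcard, hS⟩ := tchain_sound G ls B hlet h
  rw [← hcard]
  have hsub : (S : Set (Pm n)) ⊆ (G : Set (Pm n)) := fun g hg => (hS g hg).1
  calc S.card = Nat.card (S : Set (Pm n)) := by
        rw [Nat.card_coe_set_eq, Set.ncard_coe_finset]
    _ ≤ Nat.card (G : Set (Pm n)) := Nat.card_mono (Set.toFinite _) hsub
    _ = Nat.card G := rfl

/-- if the order of the group is the product of the lengths of the orbits, the paths give all the elements -/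
theorem tchain_complete (G : Subgroup (Pm n)) (ls : List TLv) (B : List ℕ) (hlet : LettersIn (w := w) G ls)
    (h : tchainOK n w wl d B ls = true) (hG : Nat.card G ≤ (ls.map fun L => L.m).prod) :
    ∀ g ∈ G, ∃ p, pathValidT ls p = true ∧ Rep (pathF w wl d ls p) g := by
  obtain ⟨S, hcard, hS⟩ := tchain_sound G ls B hlet h
  have hsub : (S : Set (Pm n)) ⊆ (G : Set (Pm n)) := fun g hg => (hS g hg).1
  have hfin : (G : Set (Pm n)).Finite := Set.toFinite _
  have heq : (S : Set (Pm n)) = (G : Set (Pm n)) := by
    apply Set.eq_of_subset_of_ncard_le hsub _ hfin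
    rw [Set.ncard_coe_finset, hcard]
    calc (G : Set (Pm n)).ncard = Nat.card (G : Set (Pm n)) := (Nat.card_coe_set_eq _).symm
      _ = Nat.card G := rfl
      _ ≤ _ := hG
  intro g hg
  have : g ∈ (S : Set (Pm n)) := by rw [heq]; exact hg
  exact (hS g this).2

/-- a product along a path that fixes the base points is the identity -/
theorem pathF_eq_id : ∀ (ls : List TLv) (B : List ℕ), tchainOK n w wl d B ls = true →
    ∀ p, pathValidT ls p = true → (∀ L ∈ ls, pathF w wl d ls p L.b = L.b) → ∀ i, pathF w wl d ls p i = i := by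
  intro ls
  induction ls with
  | nil =>
    intro B _ p _ _ i
    rfl
  | cons L ls ih =>
    intro B h p hp hfix i
    match p, hp with
    | [], hp => simp [pathValidT] at hp
    | k :: p, hp =>
      simp only [pathValidT, Bool.and_eq_true, blt_iff] at hp
      have h' := h
      simp only [tchainOK, Bool.and_eq_true] at h'
      obtain ⟨hL, hrest⟩ := h'
      obtain ⟨hm, hp0, hbn, hw0, hpts⟩ := tlevel_spec hL
      have h1 := hfix L List.mem_cons_self
      rw [pathF_cons, pathF_fix ls (L.b :: B) hrest p hp.2 L.b List.mem_cons_self, (hpts k hp.1).2.2.2] at h1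
      have hk0 : k = 0 := by
        rw [← (hpts k hp.1).2.1, h1, ← hp0, (hpts 0 hm).2.1]
      subst hk0
      have hred : ∀ j, pathF w wl d (L :: ls) (0 :: p) j = pathF w wl d ls p j := by
        intro j
        rw [pathF_cons, hw0]
        cases d <;> rfl
      rw [hred]
      apply ih (L.b :: B) hrest p hp.2
      intro L' hL'
      rw [← hred]
      exact hfix L' (List.mem_cons_of_mem _ hL')

/-- in a group of the order given by the chain, only the identity fixes the base points -/
theorem eq_one_of_fix_tbase (G : Subgroup (Pm n)) (ls : List TLv) (B : List ℕ) (hlet : LettersIn (w := w) G ls)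
    (h : tchainOK n w wl d B ls = true) (hG : Nat.card G ≤ (ls.map fun L => L.m).prod)
    (g : Pm n) (hg : g ∈ G) (hfix : ∀ L ∈ ls, ∀ hb : L.b < n, g ⟨L.b, hb⟩ = ⟨L.b, hb⟩) : g = 1 := by
  obtain ⟨p, hp, hrep⟩ := tchain_complete G ls B hlet h hG g hg
  have hb : ∀ L ∈ ls, L.b < n := by
    intro L hL
    clear hrep hp hfix hg hG hlet
    induction ls generalizing B with
    | nil => simp at hL
    | cons L' ls ih =>
      simp only [tchainOK, Bool.and_eq_true] at h
      rcases List.mem_cons.mp hL with rfl | hL
      · exact (tlevel_spec h.1).2.2.1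
      · exact ih (L'.b :: B) h.2 hL
  have hid := pathF_eq_id ls B h p hp (by
    intro L hL
    have := hrep ⟨L.b, hb L hL⟩
    rw [hfix L hL (hb L hL)] at this
    exact this.symm)
  apply rep_unique hrep
  exact rep_congr rep_one (fun i _ => hid i)

/-! ### Inverses -/

/-- the hypothesis on the inverses of the letters -/
def InvLetters (ls : List TLv) : Prop :=
  ∀ L ∈ ls, L.Yi.length = L.Y.length ∧ ∀ a < L.Y.length, Good n w (L.Yi.getD a 0) ∧
    ∀ i < n, slot w (L.Y.getD a 0) (slot w (L.Yi.getD a 0) i) = i

theorem pathTabs_pair : ∀ (ls : List TLv) (B : List ℕ), InvLetters (n := n) (w := w) ls →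
    tchainOK n w wl d B ls = true → ∀ p, pathValidT ls p = true →
      List.Forall₂ (fun t t' => Good n w t' ∧ ∀ i < n, slot w t (slot w t' i) = i)
        (pathTabsG wl d (fun L => L.Y) ls p) (pathTabsG wl d (fun L => L.Yi) ls p) := by
  intro ls
  induction ls with
  | nil =>
    intro B _ _ p _
    exact List.Forall₂.nil
  | cons L ls ih =>
    intro B hinv h p hp
    match p, hp with
    | [], hp => simp [pathValidT] at hp
    | k :: p, hp =>
      simp only [pathValidT, Bool.and_eq_true, blt_iff] at hp
      simp only [tchainOK, Bool.and_eq_true] at h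
      obtain ⟨hL, hrest⟩ := h
      obtain ⟨_, _, _, _, hpts⟩ := tlevel_spec hL
      obtain ⟨hlen, hinvL⟩ := hinv L List.mem_cons_self
      show List.Forall₂ _ (wordTabs wl L.Y d (tword wl d L k) ++ pathTabsG wl d (fun L => L.Y) ls p)
        (wordTabs wl L.Yi d (tword wl d L k) ++ pathTabsG wl d (fun L => L.Yi) ls p)
      apply List.rel_append
      · have := wordTabs_pair (wl := wl) L.Y L.Yi d _ (hpts k hp.1).2.2.1
        apply this.imp
        rintro t t' ⟨a, ha, rfl, rfl⟩
        exact hinvL a ha
      · exact ih (L.b :: B) (fun L' hL' => hinv L' (List.mem_cons_of_mem _ hL')) hrest p hp.2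

/-- the conjugate of a permutation by the product along a path -/
theorem tconj_rep (G : Subgroup (Pm n)) (ls : List TLv) (B : List ℕ) (hlet : LettersIn (w := w) G ls)
    (hinv : InvLetters (n := n) (w := w) ls) (h : tchainOK n w wl d B ls = true) (p : List ℕ)
    (hp : pathValidT ls p = true) (zf : ℕ → ℕ) (z : Pm n) (hz : Rep zf z) :
    ∃ g ∈ G, Rep (pathF w wl d ls p) g ∧
      Rep (fun i => compLook w (pathTabsT wl d ls p) (zf (compLook w (pathTabsTi wl d ls p) i))) (g * z * g⁻¹) := by
  have hsub : ∀ t ∈ pathTabsT wl d ls p, Good n w t ∧ P n w t ∈ G := by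
    clear hinv hz
    induction ls generalizing B p with
    | nil =>
      intro t ht
      simp [pathTabsT, pathTabsG] at ht
    | cons L ls ih =>
      match p, hp with
      | [], hp => simp [pathValidT] at hp
      | k :: p, hp =>
        simp only [pathValidT, Bool.and_eq_true, blt_iff] at hp
        simp only [tchainOK, Bool.and_eq_true] at h
        obtain ⟨hL, hrest⟩ := h
        obtain ⟨_, _, _, _, hpts⟩ := tlevel_spec hL
        intro t ht
        have ht' : t ∈ wordTabs wl L.Y d (tword wl d L k) ++ pathTabsG wl d (fun L => L.Y) ls p := ht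
        rcases List.mem_append.mp ht' with h1 | h1
        · exact hlet L List.mem_cons_self t (wordTabs_sub L.Y d _ (hpts k hp.1).2.2.1 t h1)
        · exact ih (L.b :: B) (fun L' hL' => hlet L' (List.mem_cons_of_mem _ hL')) hrest p hp.2 t h1
  obtain ⟨g, hg, hrep⟩ := tabs_rep G (pathTabsT wl d ls p) hsub
  have hpair := pathTabs_pair ls B hinv h p hp
  have hinvrep : Rep (compLook w (pathTabsTi wl d ls p)) g⁻¹ :=
    rep_inv_of hrep (compLook_inv _ _ hpair)
  exact ⟨g, hg, hrep, rep_congr (rep_mul (rep_mul hrep hz) hinvrep) (fun _ _ => rfl)⟩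

end Cfsg.Agent.Helper22.PermPack
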