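import Cfsg.Agent.Helper22.KSets
import Cfsg.Agent.Helper22.OctSplit
import Cfsg.Agent.Helper22.Steiner

/-!
# Pairs of disjoint triads under `M24`

A pair of disjoint triads `(T, U)` either lies in an octad or does not; `M24` is transitive on
each kind, and for a given `T` there are `210` and `1120` triads `U` of the two kinds.
-/

set_option autoImplicit false

namespace Cfsg.Agent.Helper22.Triad

open Cfsg Cfsg.Agent.Helper27 Cfsg.Agent.Helper22.Flag Cfsg.Agent.Helper22.KSets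
  Cfsg.Agent.Helper22.Design
open scoped Pointwise

theorem hfix5 : ∀ f ∈ [0, 1, 2, 3, 4], f < 24 := by decide

/-- elements fixing the points `0, …, 4` and moving `7`, `10`, `12` to `7` -/
def z3L : List (List ℕ) := [
  [0, 1, 2, 3, 4, 5, 6, 7, 8, 9, 10, 11, 12, 13, 14, 15, 16, 17, 18, 19, 20, 21, 22, 23],
  [0, 1, 2, 3, 4, 17, 18, 12, 9, 21, 7, 20, 10, 16, 5, 6, 22, 14, 15, 11, 19, 8, 13, 23],
  [0, 1, 2, 3, 4, 23, 19, 10, 18, 16, 12, 15, 7, 6, 5, 21, 20, 17, 22, 13, 9, 11, 8, 14]]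

theorem z3_moveOK : moveOK (certF 0 [0, 1, 2, 3, 4]) z3L 5248 7 = true := by decide +kernel

/-- the pointwise stabiliser of the points `0, …, 4` moves the remaining points of the standard octad to `7` -/
theorem exists_z3 {y : GolayPt} (hy : y ∈ maskSet 5248) :
    ∃ k ∈ M24, (∀ f ∈ [0, 1, 2, 3, 4], k (pt f) = pt f) ∧ k y = pt 7 := by
  obtain ⟨k, hk, hky⟩ := move_sound (certSoundF 0 hfix5) z3_moveOK hy
  obtain ⟨hkM, _, hkf⟩ := (mem_flagH hfix5 k).mp hk
  exact ⟨k, hkM, hkf, hky⟩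

theorem oct5_split : ∀ i < 24, oct5.testBit i = true →
    i = 0 ∨ i = 1 ∨ i = 2 ∨ i = 3 ∨ i = 4 ∨ (5248).testBit i = true := by decide

theorem card_std5 : ({pt 0, pt 1, pt 2, pt 3, pt 4} : Finset GolayPt).card = 5 := by decide

/-- a pair of disjoint triads can be moved so that the first triad and two points of the second become
the points `0, …, 4`; the octad through these five points becomes the standard octad -/
theorem exists_std5 {t1 t2 t3 u1 u2 : GolayPt} (hnd : [t1, t2, t3, u1, u2].Nodup) :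
    ∃ g ∈ M24, g t1 = pt 0 ∧ g t2 = pt 1 ∧ g t3 = pt 2 ∧ g u1 = pt 3 ∧ g u2 = pt 4 ∧
      ∀ o ∈ octads, t1 ∈ o → t2 ∈ o → t3 ∈ o → u1 ∈ o → u2 ∈ o → g • o = maskSet oct5 := by
  obtain ⟨g, hg, hmap⟩ := exists_M24_map_list [t1, t2, t3, u1, u2] [pt 0, pt 1, pt 2, pt 3, pt 4] hnd
    (by decide) rfl (by simp)
  simp only [List.map_cons, List.map_nil, List.cons.injEq, and_true] at hmap
  obtain ⟨h1, h2, h3, h4, h5⟩ := hmap
  refine ⟨g, hg, h1, h2, h3, h4, h5, ?_⟩
  intro o ho m1 m2 m3 m4 m5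
  apply octad_eq_of_inter ((octads_smul_iff hg o).mpr ho) maskSet_oct5_mem
  rw [← card_std5]
  apply Finset.card_le_card
  intro q hq
  simp only [Finset.mem_insert, Finset.mem_singleton] at hq
  rw [Finset.mem_inter]
  rcases hq with rfl | rfl | rfl | rfl | rfl
  · exact ⟨by rw [← h1, mem_smul_iff]; exact m1, by rw [pt_mem_maskSet (by norm_num)]; decide⟩
  · exact ⟨by rw [← h2, mem_smul_iff]; exact m2, by rw [pt_mem_maskSet (by norm_num)]; decide⟩
  · exact ⟨by rw [← h3, mem_smul_iff]; exact m3, by rw [pt_mem_maskSet (by norm_num)]; decide⟩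
  · exact ⟨by rw [← h4, mem_smul_iff]; exact m4, by rw [pt_mem_maskSet (by norm_num)]; decide⟩
  · exact ⟨by rw [← h5, mem_smul_iff]; exact m5, by rw [pt_mem_maskSet (by norm_num)]; decide⟩

theorem smul_triple (g : Equiv.Perm GolayPt) (a b c : GolayPt) :
    g • ({a, b, c} : Finset GolayPt) = {g a, g b, g c} := by
  rw [smul_eq_image, Finset.image_insert, Finset.image_insert, Finset.image_singleton]

/-- the two standard positions of a pair of disjoint triads -/
theorem exists_std {T U : Finset GolayPt} (hT : T.card = 3) (hU : U.card = 3) (hd : Disjoint T U) :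
    ((∃ o ∈ octads, T ∪ U ⊆ o) → ∃ g ∈ M24, g • T = {pt 0, pt 1, pt 2} ∧ g • U = {pt 3, pt 4, pt 7}) ∧
    (¬ (∃ o ∈ octads, T ∪ U ⊆ o) → ∃ g ∈ M24, g • T = {pt 0, pt 1, pt 2} ∧ g • U = {pt 3, pt 4, pt 5}) := by
  obtain ⟨t1, t2, t3, h12, h13, h23, rfl⟩ := Finset.card_eq_three.mp hT
  obtain ⟨u1, u2, u3, k12, k13, k23, rfl⟩ := Finset.card_eq_three.mp hU
  rw [Finset.disjoint_left] at hd
  have hne : ∀ t ∈ ({t1, t2, t3} : Finset GolayPt), ∀ u ∈ ({u1, u2, u3} : Finset GolayPt), t ≠ u := by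
    intro t ht u hu htu
    exact hd ht (htu ▸ hu)
  simp only [Finset.mem_insert, Finset.mem_singleton, forall_eq_or_imp, forall_eq] at hne
  obtain ⟨⟨a1, a2, a3⟩, ⟨b1, b2, b3⟩, c1, c2, c3⟩ := hne
  have hnd : [t1, t2, t3, u1, u2].Nodup := by
    simp only [List.nodup_cons, List.mem_cons, List.not_mem_nil, or_false, not_or, List.nodup_nil, and_true,
      not_false_eq_true]
    exact ⟨⟨h12, h13, a1, a2⟩, ⟨h23, b1, b2⟩, ⟨c1, c2⟩, k12⟩
  obtain ⟨g, hg, g1, g2, g3, g4, g5, hoct⟩ := exists_std5 hnd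
  obtain ⟨o5, ho5, hsub⟩ := exists_octad_superset {t1, t2, t3, u1, u2} (Finset.card_le_five)
  have m1 : t1 ∈ o5 := hsub (by simp)
  have m2 : t2 ∈ o5 := hsub (by simp)
  have m3 : t3 ∈ o5 := hsub (by simp)
  have m4 : u1 ∈ o5 := hsub (by simp)
  have m5 : u2 ∈ o5 := hsub (by simp)
  have hgo := hoct o5 ho5 m1 m2 m3 m4 m5
  have hu3 : ∀ i, i = 0 ∨ i = 1 ∨ i = 2 ∨ i = 3 ∨ i = 4 → g u3 ≠ pt i := by
    rintro i (rfl | rfl | rfl | rfl | rfl)
    · rw [← g1]; exact fun h => a3 (g.injective h).symm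
    · rw [← g2]; exact fun h => b3 (g.injective h).symm
    · rw [← g3]; exact fun h => c3 (g.injective h).symm
    · rw [← g4]; exact fun h => k13 (g.injective h).symm
    · rw [← g5]; exact fun h => k23 (g.injective h).symm
  constructor
  · rintro ⟨o, ho, hTU⟩
    have hoo : o = o5 := by
      apply octad_eq_of_inter ho ho5
      have : ({t1, t2, t3, u1, u2} : Finset GolayPt) ⊆ o ∩ o5 := by
        intro q hq
        rw [Finset.mem_inter]
        refine ⟨hTU ?_, hsub hq⟩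
        simp only [Finset.mem_insert, Finset.mem_singleton] at hq
        simp only [Finset.mem_union, Finset.mem_insert, Finset.mem_singleton]
        tauto
      refine le_trans ?_ (Finset.card_le_card this)
      have h5 := List.toFinset_card_of_nodup hnd
      simp only [List.toFinset_cons, List.toFinset_nil, insert_empty_eq, List.length_cons, List.length_nil] at h5
      exact h5.ge
    have m6 : u3 ∈ o5 := hoo ▸ hTU (by simp)
    have hgu3 : g u3 ∈ maskSet 5248 := by
      have h1 : g u3 ∈ maskSet oct5 := by rw [← hgo, mem_smul_iff]; exact m6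
      rw [mem_maskSet] at h1 ⊢
      rcases oct5_split _ (idx_lt _) h1 with h | h | h | h | h | h
      · exact absurd (by rw [← h, pt_idx]) (hu3 0 (by simp))
      · exact absurd (by rw [← h, pt_idx]) (hu3 1 (by simp))
      · exact absurd (by rw [← h, pt_idx]) (hu3 2 (by simp))
      · exact absurd (by rw [← h, pt_idx]) (hu3 3 (by simp))
      · exact absurd (by rw [← h, pt_idx]) (hu3 4 (by simp))
      · exact h
    obtain ⟨k, hk, hkf, hky⟩ := exists_z3 hgu3
    refine ⟨k * g, M24.mul_mem hk hg, ?_, ?_⟩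
    · rw [smul_triple]
      simp only [Equiv.Perm.mul_apply, g1, g2, g3]
      rw [hkf 0 (by simp), hkf 1 (by simp), hkf 2 (by simp)]
    · rw [smul_triple]
      simp only [Equiv.Perm.mul_apply, g4, g5, hky]
      rw [hkf 3 (by simp), hkf 4 (by simp)]
  · intro hno
    have m6 : u3 ∉ o5 := by
      intro m6
      apply hno
      refine ⟨o5, ho5, ?_⟩
      intro q hq
      simp only [Finset.mem_union, Finset.mem_insert, Finset.mem_singleton] at hq
      rcases hq with (rfl | rfl | rfl) | (rfl | rfl | rfl) <;> assumption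
    have hgu3 : g u3 ∉ maskSet oct5 := by rw [← hgo, mem_smul_iff]; exact m6
    obtain ⟨k, hk, hkf, hky⟩ := OctSplit.exists_fix_move hgu3
    have hmem : ∀ i, i = 0 ∨ i = 1 ∨ i = 2 ∨ i = 3 ∨ i = 4 → pt i ∈ maskSet oct5 := by
      rintro i (rfl | rfl | rfl | rfl | rfl) <;> (rw [pt_mem_maskSet (by norm_num)]; decide)
    refine ⟨k * g, M24.mul_mem hk hg, ?_, ?_⟩
    · rw [smul_triple]
      simp only [Equiv.Perm.mul_apply, g1, g2, g3]
      rw [hkf _ (hmem 0 (by simp)), hkf _ (hmem 1 (by simp)), hkf _ (hmem 2 (by simp))]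
    · rw [smul_triple]
      simp only [Equiv.Perm.mul_apply, g4, g5, hky]
      rw [hkf _ (hmem 3 (by simp)), hkf _ (hmem 4 (by simp))]

/-- `M24` is transitive on pairs of disjoint triads of each of the two kinds -/
theorem triad_orbit {T U U' : Finset GolayPt} (hT : T.card = 3) (hU : U.card = 3) (hU' : U'.card = 3)
    (hd : Disjoint T U) (hd' : Disjoint T U')
    (h : (∃ o ∈ octads, T ∪ U ⊆ o) ↔ (∃ o ∈ octads, T ∪ U' ⊆ o)) :
    ∃ g : Equiv.Perm GolayPt, g ∈ M24 ∧ g • T = T ∧ g • U = U' := by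
  by_cases hin : ∃ o ∈ octads, T ∪ U ⊆ o
  · obtain ⟨g, hg, hgT, hgU⟩ := (exists_std hT hU hd).1 hin
    obtain ⟨g', hg', hgT', hgU'⟩ := (exists_std hT hU' hd').1 (h.mp hin)
    refine ⟨g'⁻¹ * g, M24.mul_mem (M24.inv_mem hg') hg, ?_, ?_⟩
    · rw [mul_smul, hgT, ← hgT', inv_smul_smul]
    · rw [mul_smul, hgU, ← hgU', inv_smul_smul]
  · obtain ⟨g, hg, hgT, hgU⟩ := (exists_std hT hU hd).2 hin
    obtain ⟨g', hg', hgT', hgU'⟩ := (exists_std hT hU' hd').2 (fun h' => hin (h.mpr h'))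
    refine ⟨g'⁻¹ * g, M24.mul_mem (M24.inv_mem hg') hg, ?_, ?_⟩
    · rw [mul_smul, hgT, ← hgT', inv_smul_smul]
    · rw [mul_smul, hgU, ← hgU', inv_smul_smul]

/-! ### Counting -/

theorem card24 : Fintype.card GolayPt = 24 := by decide

theorem ncard_in_octad {T : Finset GolayPt} (hT : T.card = 3) :
    {U : Finset GolayPt | U.card = 3 ∧ Disjoint T U ∧ ∃ o ∈ octads, T ∪ U ⊆ o}.ncard = 210 := by
  classical
  have hF : ((toFin octads).filter (fun o => T ⊆ o)).card = 21 := lam3_5824 card24 octads_steiner T hT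
  have hset : {U : Finset GolayPt | U.card = 3 ∧ Disjoint T U ∧ ∃ o ∈ octads, T ∪ U ⊆ o} =
      ↑(((toFin octads).filter (fun o => T ⊆ o)).biUnion (fun o => Finset.powersetCard 3 (o \ T))) := by
    ext U
    simp only [Set.mem_ofPred_eq, Finset.coe_biUnion, Finset.mem_coe, Finset.mem_filter, mem_toFin,
      Set.mem_iUnion, Finset.mem_powersetCard, Finset.subset_sdiff, exists_prop]
    constructor
    · rintro ⟨hU, hd, o, ho, hTU⟩
      exact ⟨o, ⟨ho, Finset.union_subset_left hTU⟩, ⟨Finset.union_subset_right hTU, hd.symm⟩, hU⟩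
    · rintro ⟨o, ⟨ho, hTo⟩, ⟨hUo, hd⟩, hU⟩
      exact ⟨hU, hd.symm, o, ho, Finset.union_subset hTo hUo⟩
  rw [hset, Set.ncard_coe_finset, Finset.card_biUnion]
  · rw [Finset.sum_const_nat (m := 10), hF]
    intro o ho
    rw [Finset.mem_filter, mem_toFin] at ho
    rw [Finset.card_powersetCard, Finset.card_sdiff_of_subset ho.2, ho.1.2, hT]
    rfl
  · intro o ho o' ho' hne
    rw [Function.onFun, Finset.disjoint_left]
    intro U hU hU'
    rw [Finset.mem_powersetCard, Finset.subset_sdiff] at hU hU'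
    rw [Finset.mem_coe, Finset.mem_filter, mem_toFin] at ho ho'
    apply hne
    apply octad_eq_of_inter ho.1 ho'.1
    have hsub : T ∪ U ⊆ o ∩ o' := by
      intro q hq
      rw [Finset.mem_inter]
      rcases Finset.mem_union.mp hq with h | h
      · exact ⟨ho.2 h, ho'.2 h⟩
      · exact ⟨hU.1.1 h, hU'.1.1 h⟩
    refine le_trans ?_ (Finset.card_le_card hsub)
    rw [Finset.card_union_of_disjoint hU.1.2.symm, hT, hU.2]
    norm_num

theorem ncard_disjoint {T : Finset GolayPt} (hT : T.card = 3) :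
    {U : Finset GolayPt | U.card = 3 ∧ Disjoint T U}.ncard = 1330 := by
  have h := ncard_inter_card T 3 0 (by norm_num)
  rw [hT, card24] at h
  rw [show (1330 : ℕ) = (3 : ℕ).choose 0 * (24 - 3).choose (3 - 0) from by decide, ← h]
  congr 1
  ext U
  simp only [Set.mem_ofPred_eq, Finset.card_eq_zero, Finset.disjoint_iff_inter_eq_empty]

theorem ncard_not_in_octad {T : Finset GolayPt} (hT : T.card = 3) :
    {U : Finset GolayPt | U.card = 3 ∧ Disjoint T U ∧ ¬ ∃ o ∈ octads, T ∪ U ⊆ o}.ncard = 1120 := by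
  have h1 := ncard_in_octad hT
  have h2 := ncard_disjoint hT
  have hunion : {U : Finset GolayPt | U.card = 3 ∧ Disjoint T U} =
      {U : Finset GolayPt | U.card = 3 ∧ Disjoint T U ∧ ∃ o ∈ octads, T ∪ U ⊆ o} ∪
      {U : Finset GolayPt | U.card = 3 ∧ Disjoint T U ∧ ¬ ∃ o ∈ octads, T ∪ U ⊆ o} := by
    ext U
    simp only [Set.mem_ofPred_eq, Set.mem_union]
    by_cases hP : ∃ o ∈ octads, T ∪ U ⊆ o
    · constructor
      · rintro ⟨a, b⟩; exact Or.inl ⟨a, b, hP⟩
      · rintro (⟨a, b, _⟩ | ⟨a, b, _⟩) <;> exact ⟨a, b⟩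
    · constructor
      · rintro ⟨a, b⟩; exact Or.inr ⟨a, b, hP⟩
      · rintro (⟨a, b, _⟩ | ⟨a, b, _⟩) <;> exact ⟨a, b⟩
  rw [hunion, Set.ncard_union_eq ?_ (Set.toFinite _) (Set.toFinite _), h1] at h2
  · omega
  · rw [Set.disjoint_left]
    rintro U ⟨_, _, h⟩ ⟨_, _, h'⟩
    exact h' h

end Cfsg.Agent.Helper22.Triad
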