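import Cfsg.Agent.Helper22.StabOrbits
import Cfsg.Agent.Helper22.GolayTrio
import Cfsg.Agent.Helper22.OrbitOct
import Cfsg.Agent.Helper22.Flag

/-!
# The standard trio as a reference object: membership certificate of its stabiliser and transitivity of `M24`
on trios.
-/

set_option autoImplicit false

namespace Cfsg.Agent.Helper22.TrioRef

open Cfsg Cfsg.Agent.Helper27 Cfsg.Agent.Helper22.StabOrbits Cfsg.Agent.Helper22.GolayComb
  Cfsg.Agent.Helper22.Flag
open scoped Pointwise

/-- the octads of the standard trio, as masks -/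
def trioM : List ℕ := [5279, 1009728, 15762208]

theorem trioM_ok : trioM.all isOct = true := by decide +kernel

theorem oct_a : maskSet 5279 ∈ octads := maskSet_mem_octads (by decide +kernel)
theorem oct_b : maskSet 1009728 ∈ octads := maskSet_mem_octads (by decide +kernel)

theorem disj_ab : Disjoint (maskSet 5279) (maskSet 1009728) := by
  rw [Finset.disjoint_iff_inter_eq_empty, ← maskSet_and, ← Finset.card_eq_zero, card_maskSet]
  decide +kernel

theorem compl_ab : (maskSet 5279 ∪ maskSet 1009728)ᶜ = maskSet 15762208 := by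
  rw [← maskSet_or, Finset.compl_eq_univ_sdiff, ← maskSet_compl]
  rfl

/-- the standard trio -/
def T0 : Finset (Finset GolayPt) := trioOf (maskSet 5279) (maskSet 1009728)

theorem T0_mem : T0 ∈ trios := trioOf_mem oct_a oct_b disj_ab

theorem T0_eq : T0 = {maskSet 5279, maskSet 1009728, maskSet 15762208} := by
  rw [T0, trioOf, compl_ab]

theorem mem_T0 (t : Finset GolayPt) : t ∈ T0 ↔ ∃ m ∈ trioM, maskSet m = t := by
  rw [T0_eq]
  simp only [Finset.mem_insert, Finset.mem_singleton, trioM, List.mem_cons, List.not_mem_nil, or_false,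
    exists_eq_or_imp, exists_eq_left]
  constructor <;> (rintro (h | h | h) <;> simp [h])

/-- sums over the standard trio -/
theorem sum_T0 (f : Finset GolayPt → ℕ) :
    T0.sum f = f (maskSet 5279) + (f (maskSet 1009728) + f (maskSet 15762208)) := by
  have h3 : T0.card = 3 := T0_mem.1
  rw [T0_eq] at h3 ⊢
  have hab : maskSet 5279 ∉ ({maskSet 1009728, maskSet 15762208} : Finset (Finset GolayPt)) := by
    intro h
    rw [Finset.insert_eq_of_mem h] at h3
    have := Finset.card_le_two (a := maskSet 1009728) (b := maskSet 15762208)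
    omega
  have hbc : maskSet 1009728 ∉ ({maskSet 15762208} : Finset (Finset GolayPt)) := by
    intro h
    rw [Finset.card_insert_of_notMem hab, Finset.insert_eq_of_mem h, Finset.card_singleton] at h3
    omega
  rw [Finset.sum_insert hab, Finset.sum_insert hbc, Finset.sum_singleton]

/-- membership test for the stabiliser of the standard trio -/
def certTrio (T : List ℕ) : Bool := tblInCode T && trioM.all (fun m => trioM.contains (applyTbl T m))

theorem certSoundTrio : CertSound (stabIn T0) certTrio := by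
  intro T hv h
  rw [certTrio, Bool.and_eq_true, List.all_eq_true] at h
  obtain ⟨h1, h2⟩ := h
  rw [mem_stabIn]
  refine ⟨tblPerm_mem_M24 T hv h1, ?_⟩
  have key : (tblPerm T hv)⁻¹ • T0 = T0 := by
    apply Finset.eq_of_subset_of_card_le
    · intro t ht
      obtain ⟨u, hu, rfl⟩ := Finset.mem_smul_finset.mp ht
      obtain ⟨m, hm, rfl⟩ := (mem_T0 u).mp hu
      rw [← maskSet_applyTbl hv, mem_T0]
      have := h2 m hm
      rw [List.contains_iff_mem] at this
      exact ⟨_, this, rfl⟩
    · rw [Finset.card_smul_finset]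
  conv_lhs => rw [← key]
  rw [smul_inv_smul]

theorem smul_compl (g : Equiv.Perm GolayPt) (s : Finset GolayPt) : g • sᶜ = (g • s)ᶜ := by
  apply Finset.coe_injective
  rw [Finset.coe_smul_finset, Finset.coe_compl, Finset.coe_compl, Finset.coe_smul_finset, Set.smul_set_compl]

theorem smul_trioOf (g : Equiv.Perm GolayPt) (a b : Finset GolayPt) : g • trioOf a b = trioOf (g • a) (g • b) := by
  rw [trioOf, trioOf, Finset.smul_finset_insert, Finset.smul_finset_insert, Finset.smul_finset_singleton,
    smul_compl, Finset.smul_finset_union]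

theorem smul_trio_mem {g : Equiv.Perm GolayPt} (hg : g ∈ M24) {T : Finset (Finset GolayPt)} (hT : T ∈ trios) :
    g • T ∈ trios := by
  refine ⟨by rw [Finset.card_smul_finset]; exact hT.1, ?_, ?_⟩
  · intro o ho
    obtain ⟨o', ho', rfl⟩ := Finset.mem_smul_finset.mp ho
    exact (octads_smul_iff hg o').mpr (hT.2.1 o' ho')
  · intro o ho u hu hou
    obtain ⟨o', ho', rfl⟩ := Finset.mem_smul_finset.mp ho
    obtain ⟨u', hu', rfl⟩ := Finset.mem_smul_finset.mp hu
    rw [Finset.disjoint_iff_inter_eq_empty, ← Finset.smul_finset_inter,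
      Finset.disjoint_iff_inter_eq_empty.mp (hT.2.2 o' ho' u' hu' (fun h => hou (by rw [h]))),
      Finset.smul_finset_empty]

theorem trios_smul_iff {g : Equiv.Perm GolayPt} (hg : g ∈ M24) (T : Finset (Finset GolayPt)) :
    g • T ∈ trios ↔ T ∈ trios := by
  constructor
  · intro h
    have := smul_trio_mem (M24.inv_mem hg) h
    rwa [inv_smul_smul] at this
  · exact smul_trio_mem hg

theorem trios_invariant : ∀ g ∈ M24, ∀ X ∈ trios, g • X ∈ trios := fun _ hg _ hX => smul_trio_mem hg hX

/-- two members of a trio -/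
theorem exists_two_mem {T : Finset (Finset GolayPt)} (hT : T ∈ trios) :
    ∃ a b : Finset GolayPt, a ∈ T ∧ b ∈ T ∧ a ∈ octads ∧ b ∈ octads ∧ Disjoint a b := by
  obtain ⟨a, b, c, hab, -, -, rfl⟩ := Finset.card_eq_three.mp hT.1
  refine ⟨a, b, by simp, by simp, hT.2.1 a (by simp), hT.2.1 b (by simp), hT.2.2 a (by simp) b (by simp) hab⟩

/-- `M24` is transitive on trios -/
theorem exists_smul_eq_T0 {T : Finset (Finset GolayPt)} (hT : T ∈ trios) : ∃ g ∈ M24, g • T = T0 := by
  obtain ⟨a, b, haT, hbT, ha, hb, hd⟩ := exists_two_mem hT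
  obtain ⟨g1, hg1, hg1a⟩ := M24_octad_transitive a (maskSet 5279) ha oct_a
  have hb' : g1 • b ∈ octads := (octads_smul_iff hg1 b).mpr hb
  have hd' : (maskSet 5279 ∩ g1 • b).card = (maskSet 5279 ∩ maskSet 1009728).card := by
    rw [← hg1a, ← Finset.smul_finset_inter, Finset.disjoint_iff_inter_eq_empty.mp hd,
      Finset.smul_finset_empty, hg1a, Finset.disjoint_iff_inter_eq_empty.mp disj_ab]
  obtain ⟨k, hk, hka, hkb⟩ := OrbitOct.octad_stab_orbit oct_a hb' oct_b hd'
  refine ⟨k * g1, M24.mul_mem hk hg1, ?_⟩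
  rw [eq_trioOf ha hb hd hT haT hbT, smul_trioOf, mul_smul, mul_smul, hg1a, hka, hkb]
  rfl

end Cfsg.Agent.Helper22.TrioRef
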