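import Cfsg.Agent.Helper22.TrioList
import Cfsg.Agent.Helper22.TrioRef

/-!
# Trios coded by pairs of octad masks

A trio is coded by `x * 2^24 + y`: `x` the mask of its octad through the point `0`, `y` the mask of its octad
through the lowest point outside `x`.  Code-level action of tables, soundness of descent certificates for
orbits of subgroups of `M24` on trios, and counting of trios by computable invariants.
-/

set_option autoImplicit false

namespace Cfsg.Agent.Helper22.TrioCode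

open Cfsg Cfsg.Agent.Helper27 Cfsg.Agent.Helper22.Flag Cfsg.Agent.Helper22.GolayComb
  Cfsg.Agent.Helper22.TrioList Cfsg.Agent.Helper22.TrioRef Cfsg.Agent.Helper22.SextetCode
open scoped Pointwise

/-! ### Codes -/

def code (x y : ℕ) : ℕ := x * 16777216 + y

theorem fst_code {x y : ℕ} (hy : y < 2 ^ 24) : fst (code x y) = x := by
  unfold fst code
  omega

theorem snd_code {x y : ℕ} (hy : y < 2 ^ 24) : snd (code x y) = y := by
  unfold snd code
  omega

theorem code_fst_snd (c : ℕ) : code (fst c) (snd c) = c := by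
  unfold fst snd code
  omega

/-- the mask of the complement of the union -/
def third (x y : ℕ) : ℕ := onesMask ^^^ (x ||| y)

theorem maskSet_third (x y : ℕ) : maskSet (third x y) = (maskSet x ∪ maskSet y)ᶜ := by
  rw [third, maskSet_compl, maskSet_or, Finset.compl_eq_univ_sdiff]

theorem third_lt {x y : ℕ} (hx : x < 2 ^ 24) (hy : y < 2 ^ 24) : third x y < 2 ^ 24 := by
  unfold third
  exact Nat.xor_lt_two_pow (by decide) (Nat.or_lt_two_pow hx hy)

/-- canonical pairs of masks -/
structure IsCanon (x y : ℕ) : Prop where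
  lt1 : x < 2 ^ 24
  lt2 : y < 2 ^ 24
  oct1 : maskSet x ∈ octads
  oct2 : maskSet y ∈ octads
  disj : Disjoint (maskSet x) (maskSet y)
  bit0 : x.testBit 0 = true
  bit1 : y.testBit (lowBit (onesMask ^^^ x)) = true

/-- the trio of a code -/
def dec (c : ℕ) : Finset (Finset GolayPt) := trioOf (maskSet (fst c)) (maskSet (snd c))

theorem isCanon_of_mem {c : ℕ} (hc : c ∈ trioL) : IsCanon (fst c) (snd c) := by
  have := List.all_eq_true.mp trioL_ok c hc
  simp only [Bool.and_eq_true, beq_iff_eq] at this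
  obtain ⟨⟨⟨⟨h1, h2⟩, h3⟩, h4⟩, h5⟩ := this
  have l1 : fst c < 2 ^ 24 := by
    simp only [isOct, Bool.and_eq_true, Nat.blt_eq] at h1; exact h1.1.1
  have l2 : snd c < 2 ^ 24 := by
    simp only [isOct, Bool.and_eq_true, Nat.blt_eq] at h2; exact h2.1.1
  refine ⟨l1, l2, maskSet_mem_octads h1, maskSet_mem_octads h2, ?_, h4, h5⟩
  rw [Finset.disjoint_iff_inter_eq_empty, ← maskSet_and, h3, ← Finset.card_eq_zero, card_maskSet]
  rfl

theorem IsCanon.trio_mem {x y : ℕ} (h : IsCanon x y) : trioOf (maskSet x) (maskSet y) ∈ trios :=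
  trioOf_mem h.oct1 h.oct2 h.disj

theorem trio_eq_of_mem {T : Finset (Finset GolayPt)} (hT : T ∈ trios) {a b : Finset GolayPt} (ha : a ∈ T)
    (hb : b ∈ T) {p : GolayPt} (hpa : p ∈ a) (hpb : p ∈ b) : a = b := by
  by_contra h
  exact Finset.disjoint_left.mp (hT.2.2 a ha b hb h) hpa hpb

theorem lt_of_testBit {y i : ℕ} (hy : y < 2 ^ 24) (h : y.testBit i = true) : i < 24 := by
  by_contra hi
  have : y < 2 ^ i := lt_of_lt_of_le hy (Nat.pow_le_pow_right (by norm_num) (by omega))
  rw [Nat.testBit_eq_false_of_lt this] at h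
  exact absurd h (by simp)

theorem mem_trioOf_left (a b : Finset GolayPt) : a ∈ trioOf a b := by simp [trioOf]
theorem mem_trioOf_right (a b : Finset GolayPt) : b ∈ trioOf a b := by simp [trioOf]
theorem mem_trioOf_third (a b : Finset GolayPt) : (a ∪ b)ᶜ ∈ trioOf a b := by simp [trioOf]

theorem canon_inj {x y x' y' : ℕ} (h : IsCanon x y) (h' : IsCanon x' y')
    (he : trioOf (maskSet x) (maskSet y) = trioOf (maskSet x') (maskSet y')) : x = x' ∧ y = y' := by
  have hT := h'.trio_mem
  have hx : maskSet x = maskSet x' :=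
    trio_eq_of_mem hT (he ▸ mem_trioOf_left _ _) (mem_trioOf_left _ _) (pt0_mem_of_testBit h.bit0)
      (pt0_mem_of_testBit h'.bit0)
  have hxx : x = x' := maskSet_injOn h.lt1 h'.lt1 hx
  refine ⟨hxx, ?_⟩
  subst hxx
  have hlb : lowBit (onesMask ^^^ x) < 24 := lt_of_testBit h.lt2 h.bit1
  have hy : maskSet y = maskSet y' :=
    trio_eq_of_mem hT (he ▸ mem_trioOf_right _ _) (mem_trioOf_right _ _)
      ((pt_mem_maskSet hlb y).mpr h.bit1) ((pt_mem_maskSet hlb y').mpr h'.bit1)
  exact maskSet_injOn h.lt2 h'.lt2 hy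

theorem trioL_nodup : trioL.Nodup := by
  have h := List.isChain_iff_pairwise.mp trioL_sorted
  exact h.imp (fun hab => ne_of_lt hab)

theorem dec_mem {c : ℕ} (hc : c ∈ trioL) : dec c ∈ trios := (isCanon_of_mem hc).trio_mem

theorem dec_injOn : Set.InjOn dec (trioL.toFinset : Set ℕ) := by
  intro c hc c' hc' h
  rw [Finset.mem_coe, List.mem_toFinset] at hc hc'
  obtain ⟨h1, h2⟩ := canon_inj (isCanon_of_mem hc) (isCanon_of_mem hc') h
  rw [← code_fst_snd c, ← code_fst_snd c', h1, h2]

theorem image_dec : trioL.toFinset.image dec = triosFin := by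
  apply Finset.eq_of_subset_of_card_le
  · intro X hX
    rw [Finset.mem_image] at hX
    obtain ⟨n, hn, rfl⟩ := hX
    rw [List.mem_toFinset] at hn
    rw [mem_triosFin]
    exact dec_mem hn
  · rw [Finset.card_image_of_injOn dec_injOn, List.toFinset_card_of_nodup trioL_nodup, trioL_length]
    have := trios_ncard
    rw [show trios = ((triosFin : Finset (Finset (Finset GolayPt))) : Set (Finset (Finset GolayPt))) from by
      ext S; simp [mem_triosFin], Set.ncard_coe_finset] at this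
    rw [this]

/-- every trio is coded -/
theorem exists_code {X : Finset (Finset GolayPt)} (hX : X ∈ trios) : ∃ c ∈ trioL, dec c = X := by
  have : X ∈ trioL.toFinset.image dec := by rw [image_dec, mem_triosFin]; exact hX
  rw [Finset.mem_image] at this
  obtain ⟨n, hn, rfl⟩ := this
  exact ⟨n, List.mem_toFinset.mp hn, rfl⟩

/-- the list of codes is complete -/
theorem mem_trioL {x y : ℕ} (h : IsCanon x y) : code x y ∈ trioL := by
  obtain ⟨c, hc, he⟩ := exists_code h.trio_mem
  obtain ⟨h1, h2⟩ := canon_inj (isCanon_of_mem hc) h he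
  rw [← h1, ← h2, code_fst_snd]
  exact hc

/-- counting trios by a computable property -/
theorem ncard_trios (Q : Finset (Finset GolayPt) → Prop) (q : ℕ → Bool)
    (h : ∀ c ∈ trioL, (Q (dec c) ↔ q c = true)) :
    {X : Finset (Finset GolayPt) | X ∈ trios ∧ Q X}.ncard = trioL.countP q := by
  classical
  have hset : {X : Finset (Finset GolayPt) | X ∈ trios ∧ Q X} =
      ↑((trioL.toFinset.filter (fun n => q n = true)).image dec) := by
    ext X
    simp only [Set.mem_ofPred_eq, Finset.coe_image, Finset.coe_filter, List.mem_toFinset, Set.mem_image]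
    constructor
    · rintro ⟨hX, hQ⟩
      obtain ⟨n, hn, rfl⟩ := exists_code hX
      exact ⟨n, ⟨hn, (h n hn).mp hQ⟩, rfl⟩
    · rintro ⟨n, ⟨hn, hq⟩, rfl⟩
      exact ⟨dec_mem hn, (h n hn).mpr hq⟩
  rw [hset, Set.ncard_coe_finset, Finset.card_image_of_injOn (dec_injOn.mono (by
    intro n hn
    rw [Finset.mem_coe, Finset.mem_filter] at hn
    exact hn.1)), ← List.toFinset_filter, List.toFinset_card_of_nodup (trioL_nodup.filter _),
    List.countP_eq_length_filter]

/-! ### Sums over a trio -/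

theorem sum_trioOf {a b : Finset GolayPt} (ha : a ∈ octads) (hb : b ∈ octads) (hd : Disjoint a b)
    (f : Finset GolayPt → ℕ) : (trioOf a b).sum f = f a + (f b + f (a ∪ b)ᶜ) := by
  have h3 : (trioOf a b).card = 3 := (trioOf_mem ha hb hd).1
  rw [trioOf] at h3 ⊢
  have hab : a ∉ ({b, (a ∪ b)ᶜ} : Finset (Finset GolayPt)) := by
    intro h
    rw [Finset.insert_eq_of_mem h] at h3
    have := Finset.card_le_two (a := b) (b := (a ∪ b)ᶜ)
    omega
  have hbc : b ∉ ({(a ∪ b)ᶜ} : Finset (Finset GolayPt)) := by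
    intro h
    rw [Finset.card_insert_of_notMem hab, Finset.insert_eq_of_mem h, Finset.card_singleton] at h3
    omega
  rw [Finset.sum_insert hab, Finset.sum_insert hbc, Finset.sum_singleton]

/-- sums over a coded trio are computed on its three masks -/
theorem sum_dec {c : ℕ} (hc : c ∈ trioL) (φ : Finset GolayPt → ℕ) (φ' : ℕ → ℕ)
    (hφ : ∀ m, φ (maskSet m) = φ' m) :
    (dec c).sum φ = φ' (fst c) + (φ' (snd c) + φ' (third (fst c) (snd c))) := by
  have h := isCanon_of_mem hc
  rw [dec, sum_trioOf h.oct1 h.oct2 h.disj, ← maskSet_third, hφ, hφ, hφ]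

/-! ### The action on codes -/

/-- the canonical code of the trio with the three given masks -/
def canonPair (m1 m2 m3 : ℕ) : ℕ :=
  if m1.testBit 0 then
    (if m2.testBit (lowBit (onesMask ^^^ m1)) then code m1 m2 else code m1 m3)
  else if m2.testBit 0 then
    (if m1.testBit (lowBit (onesMask ^^^ m2)) then code m2 m1 else code m2 m3)
  else
    (if m1.testBit (lowBit (onesMask ^^^ m3)) then code m3 m1 else code m3 m2)

/-- the code of the image of a coded trio under (the inverse of) a table -/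
def step (T : List ℕ) (c : ℕ) : ℕ :=
  canonPair (applyTbl T (fst c)) (applyTbl T (snd c)) (third (applyTbl T (fst c)) (applyTbl T (snd c)))

/-- run-time part of canonicity -/
def okCode (c : ℕ) : Bool := (fst c).testBit 0 && (snd c).testBit (lowBit (onesMask ^^^ fst c))

theorem canonPair_cases (m1 m2 m3 : ℕ) : ∃ x y, canonPair m1 m2 m3 = code x y ∧
    ((x = m1 ∧ y = m2) ∨ (x = m1 ∧ y = m3) ∨ (x = m2 ∧ y = m1) ∨ (x = m2 ∧ y = m3) ∨
      (x = m3 ∧ y = m1) ∨ (x = m3 ∧ y = m2)) := by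
  unfold canonPair
  split_ifs
  · exact ⟨m1, m2, rfl, by tauto⟩
  · exact ⟨m1, m3, rfl, by tauto⟩
  · exact ⟨m2, m1, rfl, by tauto⟩
  · exact ⟨m2, m3, rfl, by tauto⟩
  · exact ⟨m3, m1, rfl, by tauto⟩
  · exact ⟨m3, m2, rfl, by tauto⟩

/-- any two of the three masks of a trio give the trio -/
theorem trioOf_pair {m1 m2 : ℕ} (h1 : maskSet m1 ∈ octads) (h2 : maskSet m2 ∈ octads)
    (hd : Disjoint (maskSet m1) (maskSet m2)) {x y : ℕ}
    (hxy : (x = m1 ∧ y = m2) ∨ (x = m1 ∧ y = third m1 m2) ∨ (x = m2 ∧ y = m1) ∨ (x = m2 ∧ y = third m1 m2) ∨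
      (x = third m1 m2 ∧ y = m1) ∨ (x = third m1 m2 ∧ y = m2)) :
    maskSet x ∈ octads ∧ maskSet y ∈ octads ∧ Disjoint (maskSet x) (maskSet y) ∧
      trioOf (maskSet x) (maskSet y) = trioOf (maskSet m1) (maskSet m2) := by
  have hT := trioOf_mem h1 h2 hd
  have h3 : maskSet (third m1 m2) ∈ octads := by
    rw [maskSet_third]; exact hT.2.1 _ (mem_trioOf_third _ _)
  have m3 : maskSet (third m1 m2) ∈ trioOf (maskSet m1) (maskSet m2) := by
    rw [maskSet_third]; exact mem_trioOf_third _ _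
  have d13 : Disjoint (maskSet m1) (maskSet (third m1 m2)) := by
    rw [maskSet_third, Finset.disjoint_left]
    intro p hp hp'
    exact (Finset.mem_compl.mp hp') (Finset.mem_union_left _ hp)
  have d23 : Disjoint (maskSet m2) (maskSet (third m1 m2)) := by
    rw [maskSet_third, Finset.disjoint_left]
    intro p hp hp'
    exact (Finset.mem_compl.mp hp') (Finset.mem_union_right _ hp)
  rcases hxy with ⟨rfl, rfl⟩ | ⟨rfl, rfl⟩ | ⟨rfl, rfl⟩ | ⟨rfl, rfl⟩ | ⟨rfl, rfl⟩ | ⟨rfl, rfl⟩
  · exact ⟨h1, h2, hd, rfl⟩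
  · exact ⟨h1, h3, d13, (eq_trioOf h1 h3 d13 hT (mem_trioOf_left _ _) m3).symm⟩
  · exact ⟨h2, h1, hd.symm, (eq_trioOf h2 h1 hd.symm hT (mem_trioOf_right _ _) (mem_trioOf_left _ _)).symm⟩
  · exact ⟨h2, h3, d23, (eq_trioOf h2 h3 d23 hT (mem_trioOf_right _ _) m3).symm⟩
  · exact ⟨h3, h1, d13.symm, (eq_trioOf h3 h1 d13.symm hT m3 (mem_trioOf_left _ _)).symm⟩
  · exact ⟨h3, h2, d23.symm, (eq_trioOf h3 h2 d23.symm hT m3 (mem_trioOf_right _ _)).symm⟩

theorem step_spec {T : List ℕ} (hv : validTbl T = true) (hT : tblPerm T hv ∈ M24) {c : ℕ} (hc : c ∈ trioL)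
    (hok : okCode (step T c) = true) :
    IsCanon (fst (step T c)) (snd (step T c)) ∧ dec (step T c) = (tblPerm T hv)⁻¹ • dec c := by
  have hcan := isCanon_of_mem hc
  have hg := M24.inv_mem hT
  have e1 : maskSet (applyTbl T (fst c)) = (tblPerm T hv)⁻¹ • maskSet (fst c) := maskSet_applyTbl hv _
  have e2 : maskSet (applyTbl T (snd c)) = (tblPerm T hv)⁻¹ • maskSet (snd c) := maskSet_applyTbl hv _
  have h1 : maskSet (applyTbl T (fst c)) ∈ octads := by rw [e1, octads_smul_iff hg]; exact hcan.oct1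
  have h2 : maskSet (applyTbl T (snd c)) ∈ octads := by rw [e2, octads_smul_iff hg]; exact hcan.oct2
  have hd : Disjoint (maskSet (applyTbl T (fst c))) (maskSet (applyTbl T (snd c))) := by
    rw [e1, e2, Finset.disjoint_iff_inter_eq_empty, ← Finset.smul_finset_inter,
      Finset.disjoint_iff_inter_eq_empty.mp hcan.disj, Finset.smul_finset_empty]
  have hlen : T.length = 24 := validTbl_length hv
  have l1 : applyTbl T (fst c) < 2 ^ 24 := by have := applyTbl_lt T (fst c); rwa [hlen] at this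
  have l2 : applyTbl T (snd c) < 2 ^ 24 := by have := applyTbl_lt T (snd c); rwa [hlen] at this
  have l3 := third_lt l1 l2
  obtain ⟨x, y, hxy, hcases⟩ := canonPair_cases (applyTbl T (fst c)) (applyTbl T (snd c))
    (third (applyTbl T (fst c)) (applyTbl T (snd c)))
  have hstep : step T c = code x y := hxy
  have hxlt : x < 2 ^ 24 := by
    rcases hcases with ⟨rfl, _⟩ | ⟨rfl, _⟩ | ⟨rfl, _⟩ | ⟨rfl, _⟩ | ⟨rfl, _⟩ | ⟨rfl, _⟩ <;> assumption
  have hylt : y < 2 ^ 24 := by
    rcases hcases with ⟨_, rfl⟩ | ⟨_, rfl⟩ | ⟨_, rfl⟩ | ⟨_, rfl⟩ | ⟨_, rfl⟩ | ⟨_, rfl⟩ <;> assumption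
  obtain ⟨ox, oy, dxy, etrio⟩ := trioOf_pair h1 h2 hd hcases
  rw [hstep] at hok ⊢
  rw [okCode, fst_code hylt, snd_code hylt, Bool.and_eq_true] at hok
  rw [fst_code hylt, snd_code hylt]
  refine ⟨⟨hxlt, hylt, ox, oy, dxy, hok.1, hok.2⟩, ?_⟩
  rw [dec, fst_code hylt, snd_code hylt, etrio, e1, e2, dec, smul_trioOf]

/-! ### Descent -/

/-- a descent certificate for an orbit on trios: `cls` lists the codes of the class -/
def trioDescOK (cert : List ℕ → Bool) (gens : List (List ℕ)) (cls : List ℕ) (dmin : ℕ) : Bool :=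
  gens.all (fun T => validTbl T && cert T) &&
  cls.all (fun c => (c == dmin) || gens.any (fun T => Nat.blt (step T c) c && okCode (step T c)))

theorem trioDesc_sound {H : Subgroup (Equiv.Perm GolayPt)} {cert : List ℕ → Bool} (hc : CertSound H cert)
    (hH : H ≤ M24) {gens : List (List ℕ)} {q : ℕ → Bool} {cls : List ℕ} {dmin : ℕ}
    (Q : Finset (Finset GolayPt) → Prop)
    (hQ : ∀ g ∈ H, ∀ X ∈ trios, Q X → Q (g • X)) (hq : ∀ n ∈ trioL, (Q (dec n) ↔ q n = true))
    (hcls : ∀ n ∈ trioL, q n = true → n ∈ cls)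
    (h : trioDescOK cert gens cls dmin = true) :
    ∀ n : ℕ, n ∈ trioL → q n = true → ∃ g ∈ H, g • dec n = dec dmin := by
  simp only [trioDescOK, Bool.and_eq_true] at h
  obtain ⟨hgens, hall⟩ := h
  rw [List.all_eq_true] at hgens hall
  intro n
  induction n using Nat.strong_induction_on with
  | _ n ih =>
    intro hn hqn
    have := hall n (hcls n hn hqn)
    simp only [Bool.or_eq_true, beq_iff_eq, List.any_eq_true, Bool.and_eq_true,
      Nat.blt_eq] at this
    rcases this with h1 | h1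
    · exact ⟨1, H.one_mem, by rw [h1, one_smul]⟩
    · obtain ⟨T, hT, hlt, hok⟩ := h1
      have hT' := hgens T hT
      rw [Bool.and_eq_true] at hT'
      obtain ⟨hv, hcert⟩ := hT'
      have hTH := hc T hv hcert
      obtain ⟨hcan, hdec⟩ := step_spec hv (hH hTH) hn hok
      have hn' : step T n ∈ trioL := by
        have := mem_trioL hcan
        rwa [code_fst_snd] at this
      have hq' : q (step T n) = true := by
        rw [← hq _ hn', hdec]
        exact hQ _ (H.inv_mem hTH) _ (dec_mem hn) ((hq n hn).mpr hqn)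
      obtain ⟨g, hg, hgs⟩ := ih _ hlt hn' hq'
      refine ⟨g * (tblPerm T hv)⁻¹, H.mul_mem hg (H.inv_mem hTH), ?_⟩
      rw [mul_smul, ← hdec, hgs]

/-- transitivity on a class of trios from a descent certificate -/
theorem trio_orbit {H : Subgroup (Equiv.Perm GolayPt)} {cert : List ℕ → Bool} (hc : CertSound H cert)
    (hH : H ≤ M24) {gens : List (List ℕ)} {q : ℕ → Bool} {cls : List ℕ} {dmin : ℕ}
    (Q : Finset (Finset GolayPt) → Prop)
    (hQ : ∀ g ∈ H, ∀ X ∈ trios, Q X → Q (g • X)) (hq : ∀ n ∈ trioL, (Q (dec n) ↔ q n = true))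
    (hcls : ∀ n ∈ trioL, q n = true → n ∈ cls)
    (h : trioDescOK cert gens cls dmin = true) {X Y : Finset (Finset GolayPt)} (hX : X ∈ trios)
    (hY : Y ∈ trios) (hQX : Q X) (hQY : Q Y) : ∃ g ∈ H, g • X = Y := by
  obtain ⟨n, hn, rfl⟩ := exists_code hX
  obtain ⟨n', hn', rfl⟩ := exists_code hY
  obtain ⟨g, hg, hgs⟩ := trioDesc_sound hc hH Q hQ hq hcls h n hn ((hq n hn).mp hQX)
  obtain ⟨g', hg', hgs'⟩ := trioDesc_sound hc hH Q hQ hq hcls h n' hn' ((hq n' hn').mp hQY)
  refine ⟨g'⁻¹ * g, H.mul_mem (H.inv_mem hg') hg, ?_⟩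
  rw [mul_smul, hgs, ← hgs', inv_smul_smul]

/-! ### Tables of values -/

/-- the codes with a given value in a table of values -/
def clsOf (tbl : List ℕ) (j : ℕ) : List ℕ := ((trioL.zip tbl).filter (fun p => p.2 == j)).map (fun p => p.1)

theorem mem_clsOf {f : ℕ → ℕ} {tbl : List ℕ} (htbl : trioL.map f = tbl) {n j : ℕ} (hn : n ∈ trioL)
    (h : f n = j) : n ∈ clsOf tbl j := by
  rw [clsOf, List.mem_map]
  refine ⟨(n, f n), ?_, rfl⟩
  rw [List.mem_filter]
  refine ⟨?_, by simp [h]⟩
  rw [← htbl]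
  exact mem_zip_map f trioL hn

theorem countP_eq_count {f : ℕ → ℕ} {tbl : List ℕ} (htbl : trioL.map f = tbl) (j : ℕ) :
    trioL.countP (fun n => f n == j) = tbl.count j := by
  rw [← htbl, List.count, List.countP_map]
  rfl

end Cfsg.Agent.Helper22.TrioCode
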