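import Cfsg.Agent.Helper22.TrioRef
import Cfsg.Agent.Helper22.OctadStd

/-!
Certificates for orbits on octads (generated).
-/

set_option autoImplicit false

namespace Cfsg.Agent.Helper22.TrioOctCert

open Cfsg Cfsg.Agent.Helper27 Cfsg.Agent.Helper22.TrioRef Cfsg.Agent.Helper22.OctadStd
open scoped Pointwise

/-- sum of the squares of the intersections of a mask with the octads of the standard trio -/
def invM (n : ℕ) : ℕ := popc 24 (n &&& 5279) ^ 2 + (popc 24 (n &&& 1009728) ^ 2 + popc 24 (n &&& 15762208) ^ 2)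

/-- descent generators for the class of value `64` (3 octads) -/
def ogens64 : List (List ℕ) := [
  [11, 19, 17, 14, 6, 15, 12, 16, 9, 23, 18, 1, 13, 2, 3, 8, 10, 0, 4, 7, 20, 5, 21, 22],
  [22, 8, 5, 20, 15, 14, 2, 9, 13, 6, 21, 12, 23, 4, 7, 18, 10, 0, 1, 3, 16, 19, 11, 17]]

theorem odesc64 : descOKH (certTrio) ogens64 (clsP invM 64) 5279 = true := by decide +kernel

theorem ocnt64 : countBelow (fun k => clsP invM 64 (cw k)) 4096 = 3 := by decide +kernel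

/-- descent generators for the class of value `32` (84 octads) -/
def ogens32 : List (List ℕ) := [
  [22, 8, 5, 20, 15, 14, 2, 9, 13, 6, 21, 12, 23, 4, 7, 18, 10, 0, 1, 3, 16, 19, 11, 17],
  [16, 13, 19, 17, 14, 20, 2, 6, 8, 5, 18, 1, 11, 3, 4, 22, 0, 12, 7, 10, 9, 15, 21, 23],
  [2, 3, 4, 1, 12, 21, 6, 10, 9, 15, 0, 18, 7, 11, 14, 20, 17, 19, 13, 16, 5, 8, 23, 22],
  [4, 0, 7, 12, 3, 15, 11, 2, 5, 21, 1, 16, 10, 14, 17, 20, 6, 13, 18, 19, 9, 8, 23, 22],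
  [17, 14, 16, 6, 18, 5, 0, 13, 23, 9, 19, 3, 11, 10, 12, 21, 4, 1, 7, 2, 22, 15, 8, 20],
  [2, 1, 0, 7, 12, 22, 11, 4, 8, 20, 10, 16, 3, 6, 18, 9, 13, 14, 19, 17, 23, 21, 5, 15]]

theorem odesc32 : descOKH (certTrio) ogens32 (clsP invM 32) 90318 = true := by decide +kernel

theorem ocnt32 : countBelow (fun k => clsP invM 32 (cw k)) 4096 = 84 := by decide +kernel

/-- descent generators for the class of value `24` (672 octads) -/
def ogens24 : List (List ℕ) := [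
  [14, 6, 17, 13, 18, 5, 12, 19, 9, 15, 11, 3, 16, 1, 10, 20, 7, 2, 0, 4, 21, 22, 23, 8],
  [17, 11, 13, 14, 18, 21, 4, 19, 15, 8, 16, 0, 6, 12, 3, 5, 7, 2, 10, 1, 20, 22, 23, 9],
  [14, 6, 13, 18, 17, 20, 2, 11, 8, 9, 16, 0, 19, 12, 10, 21, 3, 1, 7, 4, 5, 22, 23, 15],
  [3, 2, 4, 7, 12, 5, 13, 10, 15, 9, 0, 18, 1, 11, 16, 8, 17, 19, 6, 14, 21, 20, 22, 23],
  [19, 6, 13, 14, 11, 9, 4, 16, 8, 5, 17, 1, 18, 12, 10, 15, 0, 3, 2, 7, 20, 21, 23, 22],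
  [2, 4, 0, 10, 1, 9, 6, 12, 8, 5, 3, 11, 7, 16, 14, 15, 13, 17, 19, 18, 20, 21, 23, 22],
  [10, 4, 2, 0, 1, 6, 15, 3, 14, 13, 7, 8, 12, 20, 5, 17, 22, 23, 21, 9, 16, 19, 18, 11],
  [4, 2, 7, 0, 1, 8, 14, 12, 9, 21, 10, 13, 3, 17, 11, 15, 6, 19, 18, 16, 23, 20, 5, 22],
  [16, 11, 17, 19, 14, 9, 1, 18, 8, 15, 13, 10, 6, 7, 2, 21, 3, 0, 12, 4, 22, 5, 20, 23],
  [2, 10, 7, 0, 12, 5, 18, 3, 8, 21, 4, 11, 1, 13, 17, 23, 14, 19, 6, 16, 22, 20, 9, 15],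
  [3, 1, 7, 0, 10, 9, 17, 4, 5, 20, 2, 6, 12, 14, 16, 22, 19, 18, 11, 13, 8, 21, 15, 23],
  [23, 9, 5, 8, 15, 14, 10, 20, 11, 18, 22, 0, 21, 2, 7, 19, 4, 3, 1, 12, 16, 6, 17, 13],
  [20, 15, 9, 8, 5, 17, 1, 22, 6, 14, 23, 7, 21, 12, 4, 13, 2, 0, 10, 3, 11, 18, 16, 19]]

theorem odesc24 : descOKH (certTrio) ogens24 (clsP invM 24) 10558 = true := by decide +kernel

theorem ocnt24 : countBelow (fun k => clsP invM 24 (cw k)) 4096 = 672 := by decide +kernel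

theorem ovals_ok : allBelow (fun k => !(popc 24 (cw k) == 8) || [64, 32, 24].contains (invM (cw k))) 4096 = true := by
  decide +kernel


end Cfsg.Agent.Helper22.TrioOctCert
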