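import Mathlib
import Cfsg.Agent.Helper5.VL.Defs
import Cfsg.Agent.Helper1.VLHOMCOUNT
import Cfsg.Agent.Helper27.S3777KER
import Cfsg.Agent.Helper2.VLZCARD

/-! Board `s3777pieces`, row CASEB (`caseB_bound`): core, with the `k = 1` instance of FLAG as a hypothesis. -/

set_option autoImplicit false
set_option linter.style.haveILetI false
set_option linter.unusedSectionVars false
set_option linter.unusedVariables false

namespace Cfsg.Agent.Helper5.VL

open Subgroup
open scoped commutatorElement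

universe u
variable {p : ℕ} [Fact p.Prime] {G : Type u} [Group G] [Finite G]

theorem caseB_aux_core (hp2 : p = 2) {b m : ℕ} {K : Subgroup G} (hK : Phi p G ≤ K)
    (hZ : ∀ φ : Fn p G, φ ≠ 1 → K ≤ φ.ker → Nat.card (Zs φ) * 4 = Nat.card G)
    (hflag : ∃ V : Subgroup G, K ≤ V ∧ V.index = p ^ 1 ∧
      der V * p ^ (b - m + 1) ≤ p ^ T (b - 1 + 1))
    (hb1 : 1 ≤ b) :
    Nat.card (commutator G) ≤ p ^ T b := by
  obtain ⟨V, hKV, hVidx, hVder⟩ := hflag
  rw [pow_one] at hVidx
  have hp : p.Prime := Fact.out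
  -- a nontrivial functional vanishing on `V`
  have hcount := homcount V (hK.trans hKV)
  rw [hVidx] at hcount
  have hex : ∃ φ : Fn p G, φ ≠ 1 ∧ V ≤ φ.ker := by
    by_contra hno
    push_neg at hno
    have hsub : Subsingleton {φ : Fn p G // V ≤ φ.ker} := by
      constructor
      rintro ⟨φ, hφ⟩ ⟨ψ, hψ⟩
      have h1 : φ = 1 := by by_contra h; exact hno φ h hφ
      have h2 : ψ = 1 := by by_contra h; exact hno ψ h hψ
      apply Subtype.ext
      show φ = ψ
      rw [h1, h2]
    have hle : Nat.card {φ : Fn p G // V ≤ φ.ker} ≤ 1 := Finite.card_le_one_iff_subsingleton.mpr hsub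
    rw [hcount] at hle
    exact absurd hp.one_lt (not_lt.mpr hle)
  obtain ⟨φ, hφ, hVφ⟩ := hex
  -- `V = ker φ`
  have hker : φ.ker.index = p := index_ker hφ
  have hVeq : V = φ.ker := by
    apply le_antisymm hVφ
    have h1 := Subgroup.relIndex_mul_index hVφ
    rw [hker, hVidx] at h1
    have h2 : V.relIndex φ.ker = 1 := by
      have hp0 : 0 < p := hp.pos
      exact Nat.eq_of_mul_eq_mul_right hp0 (by rw [h1, one_mul])
    exact Subgroup.relIndex_eq_one.mp h2
  -- counting
  have hzc := Zs_card hφ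
  have hz4 := hZ φ hφ (hKV.trans hVφ)
  have hcm := Subgroup.card_mul_index φ.ker
  rw [hker] at hcm
  rw [← hVeq] at hzc
  subst hp2
  have hZpos : 0 < Nat.card (Zs φ) := Nat.card_pos
  have hVcard : Nat.card ↥φ.ker = 2 * Nat.card (Zs φ) := by omega
  rw [← hVeq] at hVcard
  rw [hVcard] at hzc
  have hG' : Nat.card (commutator G) = 2 * der V := by
    have : Nat.card (commutator G) * Nat.card (Zs φ) = (2 * der V) * Nat.card (Zs φ) := by
      rw [hzc]; ring
    exact Nat.eq_of_mul_eq_mul_right hZpos this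
  have hb11 : b - 1 + 1 = b := Nat.sub_add_cancel hb1
  rw [hb11] at hVder
  have h3 : Nat.card (commutator G) * 2 ^ (b - m) = der V * 2 ^ (b - m + 1) := by
    rw [hG', pow_succ]; ring
  have h4 : Nat.card (commutator G) ≤ Nat.card (commutator G) * 2 ^ (b - m) :=
    Nat.le_mul_of_pos_right _ (by positivity)
  calc Nat.card (commutator G) ≤ Nat.card (commutator G) * 2 ^ (b - m) := h4
    _ = der V * 2 ^ (b - m + 1) := h3
    _ ≤ 2 ^ T b := hVder

end Cfsg.Agent.Helper5.VL
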