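import Mathlib
import Cfsg.Agent.Helper5.VL.Defs
import Cfsg.Agent.Helper22.VLCASEBcore
import Cfsg.Agent.Helper1.VLFLAG

/-! Board `s3777pieces`, row CASEB (`caseB_bound`). -/

set_option autoImplicit false
set_option linter.style.haveILetI false
set_option linter.unusedSectionVars false
set_option linter.unusedVariables false

namespace Cfsg.Agent.Helper5.VL

open Subgroup
open scoped commutatorElement

universe u
variable {p : ℕ} [Fact p.Prime] {G : Type u} [Group G] [Finite G]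

/-- CASEB (E) -/
theorem caseB_bound (hG : IsPGroup p G) {φ0 : Fn p G} (hφ0 : φ0 ≠ 1) {b : ℕ}
    (hb : ∀ x : G, φ0 x ≠ 1 → (centralizer ({x} : Set G)).index ≤ p ^ b) (hp2 : p = 2)
    {K : Subgroup G} (hK : Phi p G ≤ K) (hK0 : ¬ K ≤ φ0.ker) {m : ℕ} (hm : K.index = p ^ m)
    (hm1 : 1 ≤ m) (hmb : m ≤ b) (hgood : der K ≤ p ^ T (b - m))
    (hZ : ∀ φ : Fn p G, φ ≠ 1 → K ≤ φ.ker → Nat.card (Zs φ) * 4 = Nat.card G)
    (hU : ∀ x : G, φ0 x ≠ 1 → x ∉ K →
        (K ⊔ centralizer ({x} : Set G)).index * 2 = (K ⊔ zpowers x).index) :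
    Nat.card (commutator G) ≤ p ^ T b :=
  caseB_aux_core hp2 hK hZ (caseB_flag hφ0 hb hp2 hK hm hmb hgood hU 1 le_rfl hm1) (hm1.trans hmb)

end Cfsg.Agent.Helper5.VL
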